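import Mathlib

/-!
# Local criterion of flatness, nilpotent case (helper8)

`flat_of_isNilpotent`: `I` nilpotent ideal of `A`, `M` an `A`-module such that `(A/I) ⊗ M` is flat
over `A/I` and `I ⊗ M → A ⊗ M` is injective (i.e. `Tor₁(A/I, M) = 0`); then `M` is flat over `A`.

The proof avoids Tor: a 3×3 diagram chase (`injective_of_three_by_three`) used twice for
"balancing", plus Mathlib's `LinearMap.lTensor_injective_of_exact_of_flat`.
-/

set_option autoImplicit false
universe u v

open TensorProduct

namespace Groth.Agent.Lib.Helper8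

section Chase

variable {R : Type*} [CommRing R]
  {X11 X12 X13 X21 X22 X23 X31 X32 : Type*}
  [AddCommGroup X11] [AddCommGroup X12] [AddCommGroup X13] [AddCommGroup X21]
  [AddCommGroup X22] [AddCommGroup X23] [AddCommGroup X31] [AddCommGroup X32]
  [Module R X11] [Module R X12] [Module R X13] [Module R X21]
  [Module R X22] [Module R X23] [Module R X31] [Module R X32]

/-- A 3×3 diagram chase: rows `X11 → X12 → X13`, `X21 → X22 → X23`, `X31 → X32`, columns
`X1j → X2j → X3j`. -/
theorem injective_of_three_by_three
    (a11 : X11 →ₗ[R] X12) (a12 : X12 →ₗ[R] X13)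
    (a21 : X21 →ₗ[R] X22) (a22 : X22 →ₗ[R] X23)
    (a31 : X31 →ₗ[R] X32)
    (b11 : X11 →ₗ[R] X21) (b21 : X21 →ₗ[R] X31)
    (b12 : X12 →ₗ[R] X22) (b22 : X22 →ₗ[R] X32)
    (b13 : X13 →ₗ[R] X23)
    (c1 : a21 ∘ₗ b11 = b12 ∘ₗ a11)
    (c2 : a22 ∘ₗ b12 = b13 ∘ₗ a12)
    (c3 : a31 ∘ₗ b21 = b22 ∘ₗ a21)
    (hb21 : Function.Surjective b21)
    (hcol1 : ∀ x, b21 (b11 x) = 0)
    (hcol2 : Function.Exact b12 b22)
    (hrow1 : Function.Exact a11 a12)
    (hrow2 : ∀ x, a22 (a21 x) = 0)
    (ha21 : Function.Injective a21)
    (hb13 : Function.Injective b13) :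
    Function.Injective a31 := by
  rw [injective_iff_map_eq_zero]
  intro x hx
  obtain ⟨y, rfl⟩ := hb21 x
  have hp : b22 (a21 y) = 0 := by
    have h := congrArg (fun φ => φ y) c3
    simp only [LinearMap.comp_apply] at h
    rw [← h, hx]
  obtain ⟨q, hq⟩ := (hcol2 (a21 y)).mp hp
  have hq13 : b13 (a12 q) = 0 := by
    have h := congrArg (fun φ => φ q) c2
    simp only [LinearMap.comp_apply] at h
    rw [← h, hq, hrow2]
  have hq0 : a12 q = 0 := hb13 (by rw [hq13, map_zero])
  obtain ⟨q', hq'⟩ := (hrow1 q).mp hq0
  have h1 : a21 (b11 q') = a21 y := by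
    have h := congrArg (fun φ => φ q') c1
    simp only [LinearMap.comp_apply] at h
    rw [h, hq', hq]
  have h2 : b11 q' = y := ha21 h1
  rw [← h2, hcol1]

end Chase

section BaseChange

variable {A : Type*} [CommRing A] {B : Type*} [CommRing B] [Algebra A B]
  {N : Type*} [AddCommGroup N] [Module A N] [Module B N] [IsScalarTower A B N]
  {K F : Type*} [AddCommGroup K] [AddCommGroup F] [Module A K] [Module A F]

theorem lTensor_cancelBaseChange (f : K →ₗ[A] F) (z : N ⊗[B] (B ⊗[A] K)) :
    f.lTensor N (AlgebraTensorModule.cancelBaseChange A B B N K z) =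
      AlgebraTensorModule.cancelBaseChange A B B N F ((f.baseChange B).lTensor N z) := by
  induction z using TensorProduct.induction_on with
  | zero => simp
  | add x y hx hy => simp only [map_add, hx, hy]
  | tmul n w =>
    induction w using TensorProduct.induction_on with
    | zero => simp
    | add x y hx hy => simp only [tmul_add, map_add, hx, hy]
    | tmul b k => simp

/-- `N ⊗[B] (B ⊗[A] f)` is injective iff `N ⊗[A] f` is. -/
theorem lTensor_baseChange_injective_iff (f : K →ₗ[A] F) :
    Function.Injective ((f.baseChange B).lTensor N) ↔ Function.Injective (f.lTensor N) := by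
  constructor
  · intro h
    rw [injective_iff_map_eq_zero]
    intro y hy
    have h1 := lTensor_cancelBaseChange (N := N) (B := B) f
      ((AlgebraTensorModule.cancelBaseChange A B B N K).symm y)
    rw [LinearEquiv.apply_symm_apply, hy] at h1
    have h2 : (f.baseChange B).lTensor N
        ((AlgebraTensorModule.cancelBaseChange A B B N K).symm y) = 0 := by
      apply (AlgebraTensorModule.cancelBaseChange A B B N F).injective
      rw [← h1, map_zero]
    have h3 := (injective_iff_map_eq_zero _).mp h _ h2
    have h4 := congrArg (AlgebraTensorModule.cancelBaseChange A B B N K) h3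
    rwa [LinearEquiv.apply_symm_apply, map_zero] at h4
  · intro h
    rw [injective_iff_map_eq_zero]
    intro z hz
    have h1 := lTensor_cancelBaseChange (N := N) (B := B) f z
    rw [hz, map_zero] at h1
    have h2 := (injective_iff_map_eq_zero _).mp h _ h1
    exact (AlgebraTensorModule.cancelBaseChange A B B N K).injective (by rw [h2, map_zero])

end BaseChange

section Criterion

variable {A : Type u} [CommRing A] (I : Ideal A)
  {M K F : Type u} [AddCommGroup M] [AddCommGroup K] [AddCommGroup F]
  [Module A M] [Module A K] [Module A F]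
  (ι : K →ₗ[A] F) (π : F →ₗ[A] M)

/-- Balancing, first direction: `Tor₁(A/I, M) = 0` computed in the first variable implies it is zero
computed through a presentation `K → F → M` with `F` flat. -/
theorem lTensor_quotient_injective (hι : Function.Injective ι) (hex : Function.Exact ι π)
    (hπ : Function.Surjective π) (H2 : Function.Injective (I.subtype.rTensor M)) :
    Function.Injective (ι.lTensor (A ⧸ I)) :=
  injective_of_three_by_three (R := A)
    (ι.lTensor I) (π.lTensor I) (ι.lTensor A) (π.lTensor A) (ι.lTensor (A ⧸ I))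
    (I.subtype.rTensor K) (I.mkQ.rTensor K) (I.subtype.rTensor F) (I.mkQ.rTensor F)
    (I.subtype.rTensor M)
    (by rw [LinearMap.lTensor_comp_rTensor, LinearMap.rTensor_comp_lTensor])
    (by rw [LinearMap.lTensor_comp_rTensor, LinearMap.rTensor_comp_lTensor])
    (by rw [LinearMap.lTensor_comp_rTensor, LinearMap.rTensor_comp_lTensor])
    (LinearMap.rTensor_surjective K (Submodule.mkQ_surjective I))
    (fun x => (rTensor_exact K (LinearMap.exact_subtype_mkQ I)
      (Submodule.mkQ_surjective I)).apply_apply_eq_zero x)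
    (rTensor_exact F (LinearMap.exact_subtype_mkQ I) (Submodule.mkQ_surjective I))
    (lTensor_exact I hex hπ)
    (fun x => (lTensor_exact A hex hπ).apply_apply_eq_zero x)
    (Module.Flat.lTensor_preserves_injective_linearMap ι hι)
    H2

/-- `Tor₁(N, M) = 0` (through the presentation) for every `A/I`-module `N`. -/
theorem lTensor_injective_of_module_quotient (hex : Function.Exact ι π)
    (hπ : Function.Surjective π)
    (H1 : Module.Flat (A ⧸ I) ((A ⧸ I) ⊗[A] M))
    (H0 : Function.Injective (ι.lTensor (A ⧸ I)))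
    (N : Type u) [AddCommGroup N] [Module A N] [Module (A ⧸ I) N] [IsScalarTower A (A ⧸ I) N] :
    Function.Injective (ι.lTensor N) := by
  rw [← lTensor_baseChange_injective_iff (B := A ⧸ I)]
  exact LinearMap.lTensor_injective_of_exact_of_flat (π.baseChange (A ⧸ I))
    (LinearMap.baseChange_surjective (A ⧸ I) hπ) (ι.baseChange (A ⧸ I)) H0
    (lTensor_exact (A ⧸ I) hex hπ) N

/-- Balancing, second direction (key lemma): if `P/i(N')` is killed by `I` then `N' ⊗ M → P ⊗ M` is
injective. -/
theorem rTensor_injective_of_smul_le_range [Module.Flat A F]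
    (hex : Function.Exact ι π) (hπ : Function.Surjective π)
    (H1 : Module.Flat (A ⧸ I) ((A ⧸ I) ⊗[A] M))
    (H0 : Function.Injective (ι.lTensor (A ⧸ I)))
    {N' P : Type u} [AddCommGroup N'] [AddCommGroup P] [Module A N'] [Module A P]
    (i : N' →ₗ[A] P) (hi : Function.Injective i)
    (hIP : I • (⊤ : Submodule A P) ≤ LinearMap.range i) :
    Function.Injective (i.rTensor M) := by
  have hM : Module.IsTorsionBySet A (P ⧸ LinearMap.range i) (I : Set A) := by
    rintro x ⟨a, ha⟩
    obtain ⟨p, rfl⟩ := Submodule.mkQ_surjective _ x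
    show a • (LinearMap.range i).mkQ p = 0
    rw [← map_smul, Submodule.mkQ_apply, Submodule.Quotient.mk_eq_zero]
    exact hIP (Submodule.smul_mem_smul ha Submodule.mem_top)
  let _ : Module (A ⧸ I) (P ⧸ LinearMap.range i) := hM.module
  have : IsScalarTower A (A ⧸ I) (P ⧸ LinearMap.range i) :=
    Module.IsTorsionBySet.isScalarTower hM
  have T0 := lTensor_injective_of_module_quotient I ι π hex hπ H1 H0 (P ⧸ LinearMap.range i)
  exact injective_of_three_by_three (R := A)
    (i.rTensor K) ((LinearMap.range i).mkQ.rTensor K) (i.rTensor F)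
    ((LinearMap.range i).mkQ.rTensor F) (i.rTensor M)
    (ι.lTensor N') (π.lTensor N') (ι.lTensor P) (π.lTensor P)
    (ι.lTensor (P ⧸ LinearMap.range i))
    (by rw [LinearMap.lTensor_comp_rTensor, LinearMap.rTensor_comp_lTensor])
    (by rw [LinearMap.lTensor_comp_rTensor, LinearMap.rTensor_comp_lTensor])
    (by rw [LinearMap.lTensor_comp_rTensor, LinearMap.rTensor_comp_lTensor])
    (LinearMap.lTensor_surjective N' hπ)
    (fun x => (lTensor_exact N' hex hπ).apply_apply_eq_zero x)
    (lTensor_exact P hex hπ)
    (rTensor_exact K (LinearMap.exact_map_mkQ_range i) (Submodule.mkQ_surjective _))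
    (fun x => (rTensor_exact F (LinearMap.exact_map_mkQ_range i)
      (Submodule.mkQ_surjective _)).apply_apply_eq_zero x)
    (Module.Flat.rTensor_preserves_injective_linearMap i hi)
    T0

end Criterion

section Main

variable {A : Type u} [CommRing A] (I : Ideal A) (M : Type u) [AddCommGroup M] [Module A M]

/-- `𝔟 ⊗ M → A ⊗ M` is injective. -/
def RInj (𝔟 : Ideal A) : Prop := Function.Injective (𝔟.subtype.rTensor M)

theorem rInj_top : RInj M (⊤ : Ideal A) := by
  have h : ((⊤ : Ideal A).subtype.rTensor M) =
      ((LinearEquiv.rTensor M (Submodule.topEquiv : (⊤ : Ideal A) ≃ₗ[A] A)) : _ →ₗ[A] _) := by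
    rw [LinearEquiv.coe_rTensor]
    rfl
  unfold RInj
  rw [h]
  exact (LinearEquiv.rTensor M (Submodule.topEquiv : (⊤ : Ideal A) ≃ₗ[A] A)).injective

variable {M}

/-- The local criterion of flatness for a nilpotent ideal. -/
theorem flat_of_isNilpotent (hI : IsNilpotent I)
    (H1 : Module.Flat (A ⧸ I) ((A ⧸ I) ⊗[A] M))
    (H2 : Function.Injective (I.subtype.rTensor M)) : Module.Flat A M := by
  -- free presentation of `M`
  have hπ : Function.Surjective (Finsupp.linearCombination A (id : M → M)) :=
    Finsupp.linearCombination_surjective _ Function.surjective_id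
  have hex : Function.Exact (LinearMap.ker (Finsupp.linearCombination A (id : M → M))).subtype
      (Finsupp.linearCombination A (id : M → M)) := LinearMap.exact_subtype_ker_map _
  have hι : Function.Injective
      (LinearMap.ker (Finsupp.linearCombination A (id : M → M))).subtype :=
    Submodule.subtype_injective _
  have H0 := lTensor_quotient_injective (M := M)
    (K := LinearMap.ker (Finsupp.linearCombination A (id : M → M))) (F := M →₀ A) I
    (LinearMap.ker (Finsupp.linearCombination A (id : M → M))).subtype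
    (Finsupp.linearCombination A (id : M → M)) hι hex hπ H2
  have step : ∀ 𝔞' 𝔟 : Ideal A, 𝔞' ≤ 𝔟 → I * 𝔟 ≤ 𝔞' → RInj M 𝔟 → RInj M 𝔞' := by
    intro 𝔞' 𝔟 hle hI𝔟 h𝔟
    have hj : Function.Injective ((Submodule.inclusion hle).rTensor M) := by
      apply rTensor_injective_of_smul_le_range (M := M)
        (K := LinearMap.ker (Finsupp.linearCombination A (id : M → M))) (F := M →₀ A) I
        (LinearMap.ker (Finsupp.linearCombination A (id : M → M))).subtype
        (Finsupp.linearCombination A (id : M → M)) hex hπ H1 H0 (Submodule.inclusion hle)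
        (Submodule.inclusion_injective hle)
      rw [Submodule.smul_le]
      intro a ha b _
      refine ⟨⟨a * b.1, hI𝔟 (Ideal.mul_mem_mul ha b.2)⟩, ?_⟩
      apply Subtype.ext
      rfl
    have hcomp : 𝔞'.subtype.rTensor M =
        (𝔟.subtype.rTensor M) ∘ₗ ((Submodule.inclusion hle).rTensor M) := by
      rw [← LinearMap.rTensor_comp, Submodule.subtype_comp_inclusion]
    unfold RInj
    rw [hcomp]
    exact h𝔟.comp hj
  rw [Module.Flat.iff_rTensor_injective']
  intro 𝔞
  obtain ⟨n, hn⟩ := hI
  have key : ∀ k : ℕ, RInj M (𝔞 ⊔ I ^ k) := by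
    intro k
    induction k with
    | zero =>
      have h0 : 𝔞 ⊔ I ^ 0 = ⊤ := by rw [pow_zero, Ideal.one_eq_top, sup_top_eq]
      rw [h0]; exact rInj_top M
    | succ k ih =>
      refine step _ _ (sup_le_sup_left (Ideal.pow_le_pow_right (Nat.le_succ k)) 𝔞) ?_ ih
      rw [Ideal.mul_sup]
      refine sup_le_sup Ideal.mul_le_right ?_
      rw [pow_succ']
  have hfin := key n
  rw [hn, Ideal.zero_eq_bot, sup_bot_eq] at hfin
  exact hfin

end Main

end Groth.Agent.Lib.Helper8
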