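import Groth.Agent.Lib.Helper8.LocalCriterion

/-!
# Local criterion of flatness: "flat modulo all powers + separated ⇒ flat" (helper8)

* `flat_of_exact_of_flat_of_flat`: an extension of flat modules is flat.
* `rTensor_injective_of_flat_baseChange`: if `S ⊗ M` is `S`-flat (`R → S` surjective) then `- ⊗_R M`
  preserves injections between `S`-modules.
* `flat_of_forall_flat_quotient_pow`: `R` Noetherian, `M/JⁿM` flat over `R/Jⁿ` for all `n > 0`, and
  `𝔞 ⊗ M` `J`-adically separated for all ideals `𝔞` ⇒ `M` flat (Artin–Rees).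
* `flat_of_flat_quotients_of_separated`: `N/IⁿN` flat over `A` for all `n` (`I` an ideal of an
  `A`-algebra `B`) and `N ⊗ 𝔞` `I`-adically separated for f.g. `𝔞` ⇒ `N` flat over `A`.
* `flat_quotient_pow_of_flat_gr`: flat graded pieces ⇒ flat truncations.
-/

set_option autoImplicit false
universe u v

open TensorProduct

namespace Groth.Agent.Lib.Helper8

section Ext

/-- An extension of flat modules is flat. -/
theorem flat_of_exact_of_flat_of_flat {R : Type u} [CommRing R] {M' M M'' : Type u}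
    [AddCommGroup M'] [AddCommGroup M] [AddCommGroup M''] [Module R M'] [Module R M] [Module R M'']
    (g : M' →ₗ[R] M) (f : M →ₗ[R] M'') (hg : Function.Injective g) (hf : Function.Surjective f)
    (H : Function.Exact g f) [Module.Flat R M'] [Module.Flat R M''] : Module.Flat R M := by
  rw [Module.Flat.iff_rTensor_preserves_injective_linearMap]
  intro P' P _ _ _ _ i hi
  rw [injective_iff_map_eq_zero]
  intro x hx
  have h1 : (f.lTensor P') x = 0 := by
    apply Module.Flat.rTensor_preserves_injective_linearMap (M := M'') i hi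
    rw [map_zero]
    have hc : (i.rTensor M'') ∘ₗ (f.lTensor P') = (f.lTensor P) ∘ₗ (i.rTensor M) := by
      rw [LinearMap.rTensor_comp_lTensor, LinearMap.lTensor_comp_rTensor]
    have h := congrArg (fun φ => φ x) hc
    simp only [LinearMap.comp_apply] at h
    rw [h, hx, map_zero]
  obtain ⟨x', rfl⟩ := (lTensor_exact P' H hf x).mp h1
  have h2 : (g.lTensor P) ((i.rTensor M') x') = 0 := by
    have hc : (g.lTensor P) ∘ₗ (i.rTensor M') = (i.rTensor M) ∘ₗ (g.lTensor P') := by
      rw [LinearMap.rTensor_comp_lTensor, LinearMap.lTensor_comp_rTensor]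
    have h := congrArg (fun φ => φ x') hc
    simp only [LinearMap.comp_apply] at h
    rw [h, hx]
  have h3 : Function.Injective (g.lTensor P) :=
    LinearMap.lTensor_injective_of_exact_of_flat f hf g hg H P
  have h4 : (i.rTensor M') x' = 0 := h3 (by rw [h2, map_zero])
  have h5 : x' = 0 :=
    (injective_iff_map_eq_zero _).mp
      (Module.Flat.rTensor_preserves_injective_linearMap (M := M') i hi) x' h4
  rw [h5, map_zero]

end Ext

section BaseChange

variable {R : Type*} [CommRing R] {S : Type*} [CommRing S] [Algebra R S]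
  (M : Type*) [AddCommGroup M] [Module R M]
  {P' P : Type*} [AddCommGroup P'] [AddCommGroup P] [Module R P'] [Module R P]
  [Module S P'] [Module S P] [IsScalarTower R S P'] [IsScalarTower R S P]

theorem cancelBaseChange_rTensor (g : P' →ₗ[S] P) (z : P' ⊗[S] (S ⊗[R] M)) :
    AlgebraTensorModule.cancelBaseChange R S S P M (g.rTensor (S ⊗[R] M) z) =
      (g.restrictScalars R).rTensor M (AlgebraTensorModule.cancelBaseChange R S S P' M z) := by
  induction z using TensorProduct.induction_on with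
  | zero => simp
  | add x y hx hy => simp only [map_add, hx, hy]
  | tmul p w =>
    induction w using TensorProduct.induction_on with
    | zero => simp
    | add x y hx hy => simp only [tmul_add, map_add, hx, hy]
    | tmul s m => simp

/-- If `S ⊗[R] M` is flat over `S` and `R → S` is surjective, then `- ⊗[R] M` preserves injections
between `S`-modules. -/
theorem rTensor_injective_of_flat_baseChange (hS : Function.Surjective (algebraMap R S))
    [Module.Flat S (S ⊗[R] M)] (g : P' →ₗ[R] P) (hg : Function.Injective g) :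
    Function.Injective (g.rTensor M) := by
  have h1 : Function.Injective ((g.extendScalarsOfSurjective hS).rTensor (S ⊗[R] M)) :=
    Module.Flat.rTensor_preserves_injective_linearMap (M := S ⊗[R] M)
      (g.extendScalarsOfSurjective hS) hg
  rw [injective_iff_map_eq_zero]
  intro y hy
  have h2 := cancelBaseChange_rTensor (R := R) (S := S) M (g.extendScalarsOfSurjective hS)
    ((AlgebraTensorModule.cancelBaseChange R S S P' M).symm y)
  rw [LinearEquiv.apply_symm_apply] at h2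
  have h3 : ((g.extendScalarsOfSurjective hS).restrictScalars R) = g := rfl
  rw [h3, hy] at h2
  have h4 : (g.extendScalarsOfSurjective hS).rTensor (S ⊗[R] M)
      ((AlgebraTensorModule.cancelBaseChange R S S P' M).symm y) = 0 :=
    (AlgebraTensorModule.cancelBaseChange R S S P M).injective (by rw [h2, map_zero])
  have h5 := (injective_iff_map_eq_zero _).mp h1 _ h4
  have h6 := congrArg (AlgebraTensorModule.cancelBaseChange R S S P' M) h5
  rwa [LinearEquiv.apply_symm_apply, map_zero] at h6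

end BaseChange

section Main

variable {R : Type u} [CommRing R] (J : Ideal R) (M : Type u) [AddCommGroup M] [Module R M]

/-- If `𝔠 ≤ J' * 𝔞` then the image of `𝔠 ⊗ M` in `𝔞 ⊗ M` lies in `J' • ⊤`. -/
theorem range_rTensor_inclusion_le {𝔠 𝔞 J' : Ideal R} (h𝔠 : 𝔠 ≤ 𝔞) (h : 𝔠 ≤ J' * 𝔞) :
    LinearMap.range ((Submodule.inclusion h𝔠).rTensor M) ≤
      J' • (⊤ : Submodule R (𝔞 ⊗[R] M)) := by
  rintro _ ⟨y, rfl⟩
  induction y using TensorProduct.induction_on with
  | zero => rw [map_zero]; exact zero_mem _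
  | add a b ha hb => rw [map_add]; exact add_mem ha hb
  | tmul c m =>
    rw [LinearMap.rTensor_tmul]
    have hc : (c : R) ∈ J' * 𝔞 := h c.2
    have key : ∃ hr : (c : R) ∈ 𝔞, (⟨(c : R), hr⟩ : 𝔞) ⊗ₜ[R] m ∈
        J' • (⊤ : Submodule R (𝔞 ⊗[R] M)) := by
      refine Submodule.mul_induction_on
        (C := fun r => ∃ hr : r ∈ 𝔞, (⟨r, hr⟩ : 𝔞) ⊗ₜ[R] m ∈
          J' • (⊤ : Submodule R (𝔞 ⊗[R] M))) hc ?_ ?_
      · intro j hj a ha
        refine ⟨𝔞.mul_mem_left j ha, ?_⟩
        have hEq : (⟨j * a, 𝔞.mul_mem_left j ha⟩ : 𝔞) ⊗ₜ[R] m =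
            j • ((⟨a, ha⟩ : 𝔞) ⊗ₜ[R] m) := by
          rw [TensorProduct.smul_tmul']
          rfl
        rw [hEq]
        exact Submodule.smul_mem_smul hj Submodule.mem_top
      · rintro r s ⟨hr, hr'⟩ ⟨hs, hs'⟩
        refine ⟨𝔞.add_mem hr hs, ?_⟩
        have hEq : (⟨r + s, 𝔞.add_mem hr hs⟩ : 𝔞) ⊗ₜ[R] m =
            (⟨r, hr⟩ : 𝔞) ⊗ₜ[R] m + (⟨s, hs⟩ : 𝔞) ⊗ₜ[R] m := by
          rw [← TensorProduct.add_tmul]
          rfl
        rw [hEq]
        exact add_mem hr' hs'
    obtain ⟨_, hmem⟩ := key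
    exact hmem

/-- Elements of `ker (𝔞 ⊗ M → R ⊗ M)` come from `(Jⁿ ∩ 𝔞) ⊗ M` when `M/JⁿM` is flat over `R/Jⁿ`. -/
theorem mem_range_rTensor_inclusion_of_flat (n : ℕ)
    [Module.Flat (R ⧸ J ^ n) ((R ⧸ J ^ n) ⊗[R] M)] (𝔞 : Ideal R) (x : 𝔞 ⊗[R] M)
    (hx : (𝔞.subtype.rTensor M) x = 0) :
    x ∈ LinearMap.range ((Submodule.inclusion (inf_le_right : J ^ n ⊓ 𝔞 ≤ 𝔞)).rTensor M) := by
  have hsurj : Function.Surjective (algebraMap R (R ⧸ J ^ n)) := Ideal.Quotient.mk_surjective
  -- the quotient `𝔞 / (Jⁿ ∩ 𝔞)` as an `R/Jⁿ`-module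
  have hT : Module.IsTorsionBySet R
      (↥𝔞 ⧸ LinearMap.range (Submodule.inclusion (inf_le_right : J ^ n ⊓ 𝔞 ≤ 𝔞)))
      ((J ^ n : Ideal R) : Set R) := by
    rintro y ⟨r, hr⟩
    obtain ⟨a, rfl⟩ := Submodule.mkQ_surjective _ y
    show r • (LinearMap.range (Submodule.inclusion (inf_le_right : J ^ n ⊓ 𝔞 ≤ 𝔞))).mkQ a = 0
    rw [← map_smul, Submodule.mkQ_apply, Submodule.Quotient.mk_eq_zero]
    exact ⟨⟨r * a.1, ⟨Ideal.mul_mem_right _ _ hr, 𝔞.mul_mem_left r a.2⟩⟩, Subtype.ext rfl⟩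
  let _ : Module (R ⧸ J ^ n)
      (↥𝔞 ⧸ LinearMap.range (Submodule.inclusion (inf_le_right : J ^ n ⊓ 𝔞 ≤ 𝔞))) := hT.module
  have : IsScalarTower R (R ⧸ J ^ n)
      (↥𝔞 ⧸ LinearMap.range (Submodule.inclusion (inf_le_right : J ^ n ⊓ 𝔞 ≤ 𝔞))) :=
    Module.IsTorsionBySet.isScalarTower hT
  -- the injection `𝔞 / (Jⁿ ∩ 𝔞) → R / Jⁿ`
  have hle : LinearMap.range (Submodule.inclusion (inf_le_right : J ^ n ⊓ 𝔞 ≤ 𝔞)) ≤
      LinearMap.ker ((J ^ n).mkQ ∘ₗ 𝔞.subtype) := by
    rintro _ ⟨c, rfl⟩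
    rw [LinearMap.mem_ker, LinearMap.comp_apply, Submodule.mkQ_apply,
      Submodule.Quotient.mk_eq_zero]
    exact c.2.1
  have hginj : Function.Injective
      ((LinearMap.range (Submodule.inclusion (inf_le_right : J ^ n ⊓ 𝔞 ≤ 𝔞))).liftQ
        ((J ^ n).mkQ ∘ₗ 𝔞.subtype) hle) := by
    rw [← LinearMap.ker_eq_bot, Submodule.ker_liftQ_eq_bot']
    apply le_antisymm hle
    intro a ha
    rw [LinearMap.mem_ker, LinearMap.comp_apply, Submodule.mkQ_apply,
      Submodule.Quotient.mk_eq_zero] at ha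
    exact ⟨⟨a.1, ⟨ha, a.2⟩⟩, Subtype.ext rfl⟩
  have hinj := rTensor_injective_of_flat_baseChange (R := R) (S := R ⧸ J ^ n) M hsurj _ hginj
  have hcomm : ((LinearMap.range (Submodule.inclusion (inf_le_right : J ^ n ⊓ 𝔞 ≤ 𝔞))).liftQ
        ((J ^ n).mkQ ∘ₗ 𝔞.subtype) hle).rTensor M ∘ₗ
      ((LinearMap.range (Submodule.inclusion (inf_le_right : J ^ n ⊓ 𝔞 ≤ 𝔞))).mkQ).rTensor M =
      ((J ^ n).mkQ).rTensor M ∘ₗ 𝔞.subtype.rTensor M := by
    rw [← LinearMap.rTensor_comp, ← LinearMap.rTensor_comp, Submodule.liftQ_mkQ]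
  have h0 : ((LinearMap.range (Submodule.inclusion (inf_le_right : J ^ n ⊓ 𝔞 ≤ 𝔞))).mkQ).rTensor M x
      = 0 := by
    apply hinj
    have h := congrArg (fun φ => φ x) hcomm
    simp only [LinearMap.comp_apply] at h
    rw [h, hx, map_zero, map_zero]
  exact (rTensor_exact M (LinearMap.exact_map_mkQ_range _) (Submodule.mkQ_surjective _) x).mp h0

/-- Local criterion, "(3) ⇒ (1)": over a Noetherian ring, a module which is flat modulo every power
of `J` and such that all `𝔞 ⊗ M` are `J`-adically separated is flat. -/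
theorem flat_of_forall_flat_quotient_pow [IsNoetherianRing R]
    (hflat : ∀ n : ℕ, 0 < n → Module.Flat (R ⧸ J ^ n) ((R ⧸ J ^ n) ⊗[R] M))
    (hsep : ∀ 𝔞 : Ideal R, ⨅ n : ℕ, J ^ n • (⊤ : Submodule R (𝔞 ⊗[R] M)) = ⊥) :
    Module.Flat R M := by
  rw [Module.Flat.iff_rTensor_injective']
  intro 𝔞
  rw [injective_iff_map_eq_zero]
  intro x hx
  obtain ⟨k, hk⟩ := Ideal.exists_pow_inf_eq_pow_smul J (𝔞 : Submodule R R)
  have key : ∀ m : ℕ, x ∈ J ^ m • (⊤ : Submodule R (𝔞 ⊗[R] M)) := by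
    intro m
    have := hflat (m + k + 1) (Nat.succ_pos _)
    have h1 := mem_range_rTensor_inclusion_of_flat J M (m + k + 1) 𝔞 x hx
    have h2 : J ^ (m + k + 1) ⊓ 𝔞 ≤ J ^ m * 𝔞 := by
      have h3 := hk (m + k + 1) (by omega)
      have h4 : ∀ l : ℕ, J ^ l • (⊤ : Submodule R R) = J ^ l := fun l => by
        rw [smul_eq_mul, Ideal.mul_top]
      rw [h4, h4] at h3
      rw [h3]
      have h5 : m + k + 1 - k = m + 1 := by omega
      rw [h5]
      calc J ^ (m + 1) • (J ^ k ⊓ 𝔞) ≤ J ^ (m + 1) • 𝔞 :=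
            Submodule.smul_mono le_rfl inf_le_right
        _ ≤ J ^ m * 𝔞 := by
            rw [smul_eq_mul]
            exact Ideal.mul_mono_left (Ideal.pow_le_pow_right (Nat.le_succ m))
    exact range_rTensor_inclusion_le M inf_le_right h2 h1
  have hmem : x ∈ ⨅ n : ℕ, J ^ n • (⊤ : Submodule R (𝔞 ⊗[R] M)) := (Submodule.mem_iInf _).mpr key
  rw [hsep 𝔞] at hmem
  exact hmem

end Main

section Sep

variable {A B : Type u} [CommRing A] [CommRing B] [Algebra A B]
  (N : Type u) [AddCommGroup N] [Module B N] [Module A N] [IsScalarTower A B N] (I : Ideal B)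

/-- the image of `(IⁿN) ⊗ 𝔞` in `N ⊗ 𝔞` lies in `Iⁿ • ⊤`. -/
theorem range_rTensor_subtype_le (n : ℕ) (𝔞 : Ideal A)
    (y : ↥(I ^ n • (⊤ : Submodule B N)) ⊗[A] 𝔞) :
    (((I ^ n • (⊤ : Submodule B N)).subtype.restrictScalars A).rTensor 𝔞) y ∈
      I ^ n • (⊤ : Submodule B (N ⊗[A] 𝔞)) := by
  induction y using TensorProduct.induction_on with
  | zero => rw [map_zero]; exact zero_mem _
  | add a b ha hb => rw [map_add]; exact add_mem ha hb
  | tmul m a =>
    rw [LinearMap.rTensor_tmul]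
    obtain ⟨m, hm⟩ := m
    show m ⊗ₜ[A] a ∈ I ^ n • (⊤ : Submodule B (N ⊗[A] 𝔞))
    refine Submodule.smul_induction_on hm ?_ ?_
    · intro b hb n' _
      rw [← TensorProduct.smul_tmul']
      exact Submodule.smul_mem_smul hb Submodule.mem_top
    · intro m1 m2 h1 h2
      rw [TensorProduct.add_tmul]
      exact add_mem h1 h2

/-- If all `N/IⁿN` are flat over `A` and all `N ⊗ 𝔞` (`𝔞` f.g.) are `I`-adically separated then `N`
is flat over `A`. -/
theorem flat_of_flat_quotients_of_separated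
    (h1 : ∀ n : ℕ, Module.Flat A (N ⧸ (I ^ n • (⊤ : Submodule B N))))
    (h2 : ∀ 𝔞 : Ideal A, 𝔞.FG → ⨅ n : ℕ, I ^ n • (⊤ : Submodule B (N ⊗[A] 𝔞)) = ⊥) :
    Module.Flat A N := by
  rw [Module.Flat.iff_lTensor_injective]
  intro 𝔞 h𝔞
  rw [injective_iff_map_eq_zero]
  intro x hx
  have key : ∀ n : ℕ, x ∈ I ^ n • (⊤ : Submodule B (N ⊗[A] 𝔞)) := by
    intro n
    have hexact : Function.Exact ((I ^ n • (⊤ : Submodule B N)).subtype.restrictScalars A)
        ((I ^ n • (⊤ : Submodule B N)).mkQ.restrictScalars A) :=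
      LinearMap.exact_subtype_mkQ (I ^ n • (⊤ : Submodule B N))
    have hq : Function.Surjective ((I ^ n • (⊤ : Submodule B N)).mkQ.restrictScalars A) :=
      Submodule.mkQ_surjective _
    have h0 : (((I ^ n • (⊤ : Submodule B N)).mkQ.restrictScalars A).rTensor 𝔞) x = 0 := by
      have := h1 n
      apply Module.Flat.lTensor_preserves_injective_linearMap
        (M := N ⧸ (I ^ n • (⊤ : Submodule B N))) 𝔞.subtype (Submodule.subtype_injective _)
      have hc : (𝔞.subtype.lTensor (N ⧸ (I ^ n • (⊤ : Submodule B N)))) ∘ₗ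
          (((I ^ n • (⊤ : Submodule B N)).mkQ.restrictScalars A).rTensor 𝔞) =
          (((I ^ n • (⊤ : Submodule B N)).mkQ.restrictScalars A).rTensor A) ∘ₗ
            (𝔞.subtype.lTensor N) := by
        rw [LinearMap.lTensor_comp_rTensor, LinearMap.rTensor_comp_lTensor]
      have h := congrArg (fun φ => φ x) hc
      simp only [LinearMap.comp_apply] at h
      rw [h, hx, map_zero, map_zero]
    obtain ⟨y, hy⟩ := (rTensor_exact 𝔞 hexact hq x).mp h0
    rw [← hy]
    exact range_rTensor_subtype_le N I n 𝔞 y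
  have hmem : x ∈ ⨅ n : ℕ, I ^ n • (⊤ : Submodule B (N ⊗[A] 𝔞)) := (Submodule.mem_iInf _).mpr key
  rw [h2 𝔞 h𝔞] at hmem
  exact hmem

end Sep

end Groth.Agent.Lib.Helper8

namespace Groth.Agent.Lib.Helper8

open TensorProduct

section Gr

variable {A B : Type u} [CommRing A] [CommRing B] [Algebra A B]
  (N : Type u) [AddCommGroup N] [Module B N] [Module A N] [IsScalarTower A B N] (I : Ideal B)

/-- flat graded pieces `IⁿN / I·IⁿN` give flat truncations `N / IⁿN`. -/
theorem flat_quotient_pow_of_flat_gr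
    (hgr : ∀ n : ℕ, Module.Flat A
      (↥(I ^ n • (⊤ : Submodule B N)) ⧸ (I • (⊤ : Submodule B ↥(I ^ n • (⊤ : Submodule B N)))))) :
    ∀ n : ℕ, Module.Flat A (N ⧸ (I ^ n • (⊤ : Submodule B N))) := by
  intro n
  induction n with
  | zero =>
    have : Subsingleton (N ⧸ (I ^ 0 • (⊤ : Submodule B N))) := by
      rw [Submodule.Quotient.subsingleton_iff, pow_zero, Ideal.one_eq_top,
        Submodule.top_smul]
    infer_instance
  | succ n ih =>
    have hle1 : I ^ (n + 1) • (⊤ : Submodule B N) ≤ I ^ n • ⊤ :=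
      Submodule.smul_mono (Ideal.pow_le_pow_right (Nat.le_succ n)) le_rfl
    have hmap : Submodule.map (I ^ n • (⊤ : Submodule B N)).subtype (I • ⊤) =
        I ^ (n + 1) • ⊤ := by
      rw [Submodule.map_smul'', Submodule.map_subtype_top, pow_succ', mul_smul]
    have hle2 : I • (⊤ : Submodule B ↥(I ^ n • (⊤ : Submodule B N))) ≤
        Submodule.comap (I ^ n • (⊤ : Submodule B N)).subtype (I ^ (n + 1) • ⊤) := by
      rw [← Submodule.map_le_iff_le_comap, hmap]
    have hle3 : I ^ (n + 1) • (⊤ : Submodule B N) ≤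
        Submodule.comap (LinearMap.id : N →ₗ[B] N) (I ^ n • ⊤) := by
      rw [Submodule.comap_id]; exact hle1
    have hα : Function.Injective
        (Submodule.mapQ _ _ (I ^ n • (⊤ : Submodule B N)).subtype hle2) := by
      rw [injective_iff_map_eq_zero]
      intro y hy
      obtain ⟨y, rfl⟩ := Submodule.mkQ_surjective _ y
      have h1 : (I ^ (n + 1) • (⊤ : Submodule B N)).mkQ (y : N) = 0 := hy
      rw [Submodule.mkQ_apply, Submodule.Quotient.mk_eq_zero, ← hmap] at h1
      obtain ⟨z, hz, hzy⟩ := h1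
      have h2 : z = y := Subtype.ext hzy
      rw [Submodule.mkQ_apply, Submodule.Quotient.mk_eq_zero, ← h2]
      exact hz
    have hβ : Function.Surjective
        (Submodule.mapQ (I ^ (n + 1) • (⊤ : Submodule B N)) (I ^ n • ⊤) LinearMap.id hle3) := by
      intro y
      obtain ⟨y, rfl⟩ := Submodule.mkQ_surjective _ y
      exact ⟨Submodule.Quotient.mk y, rfl⟩
    have hex : Function.Exact
        (Submodule.mapQ _ _ (I ^ n • (⊤ : Submodule B N)).subtype hle2)
        (Submodule.mapQ (I ^ (n + 1) • (⊤ : Submodule B N)) (I ^ n • ⊤) LinearMap.id hle3) := by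
      intro y
      obtain ⟨y, rfl⟩ := Submodule.mkQ_surjective _ y
      constructor
      · intro h
        have hy : y ∈ I ^ n • (⊤ : Submodule B N) := (Submodule.Quotient.mk_eq_zero _).mp h
        exact ⟨Submodule.Quotient.mk ⟨y, hy⟩, rfl⟩
      · rintro ⟨z, hz⟩
        obtain ⟨z, rfl⟩ := Submodule.mkQ_surjective _ z
        rw [← hz]
        exact (Submodule.Quotient.mk_eq_zero _).mpr z.2
    have := hgr n
    exact flat_of_exact_of_flat_of_flat
      ((Submodule.mapQ _ _ (I ^ n • (⊤ : Submodule B N)).subtype hle2).restrictScalars A)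
      ((Submodule.mapQ (I ^ (n + 1) • (⊤ : Submodule B N)) (I ^ n • ⊤)
        LinearMap.id hle3).restrictScalars A) hα hβ hex

end Gr

end Groth.Agent.Lib.Helper8
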