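/-
Helper8 library: the local criterion of flatness (Noetherian, ideal-separated case).

* `rInj_sup_pow`: if `M/IM` is `A/I`-flat and `I ⊗ M → M` is injective then `𝔟 ⊗ M → M` is injective
  for every ideal `𝔟` containing a power of `I`;
* `flat_quotient_of_rInj`: if `𝔟 ⊗ M → M` is injective for all `𝔟 ⊇ J` then `M/JM` is `A/J`-flat;
* `flat_of_local_criterion`: `A` Noetherian, all `𝔞 ⊗ M` `I`-adically separated, `M/IM` flat over
  `A/I` and `I ⊗ M → M` injective imply `M` flat;
* `finite_tensor`: `M ⊗[A] P` is `B`-finite for `M` `B`-finite and `P` `A`-finite;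
* `flat_of_local_criterion_of_finite`: the same for `M` finite over a Noetherian `A`-algebra `B` with
  `IB` in the Jacobson radical of `B`.
-/
import Groth.Agent.Lib.Helper8.LocalCriterion
import Groth.Agent.Lib.Helper8.LocalCriterion2

set_option autoImplicit false

universe u

open TensorProduct

namespace Groth.Agent.Lib.Helper8

section Crit

variable {A : Type u} [CommRing A] (I : Ideal A) {M : Type u} [AddCommGroup M] [Module A M]

/-- If `M/IM` is `A/I`-flat and `I ⊗ M → M` is injective then `𝔟 ⊗ M → M` is injective for every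
ideal `𝔟` of the form `𝔞 + I^k`. -/
theorem rInj_sup_pow (H1 : Module.Flat (A ⧸ I) ((A ⧸ I) ⊗[A] M))
    (H2 : Function.Injective (I.subtype.rTensor M)) (𝔞 : Ideal A) (k : ℕ) :
    RInj M (𝔞 ⊔ I ^ k) := by
  have hπ : Function.Surjective (Finsupp.linearCombination A (id : M → M)) :=
    Finsupp.linearCombination_surjective _ Function.surjective_id
  have hex : Function.Exact (LinearMap.ker (Finsupp.linearCombination A (id : M → M))).subtype
      (Finsupp.linearCombination A (id : M → M)) := LinearMap.exact_subtype_ker_map _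
  have hι : Function.Injective
      (LinearMap.ker (Finsupp.linearCombination A (id : M → M))).subtype :=
    Submodule.subtype_injective _
  have H0 := lTensor_quotient_injective (M := M)
    (K := LinearMap.ker (Finsupp.linearCombination A (id : M → M))) (F := M →₀ A) I
    (LinearMap.ker (Finsupp.linearCombination A (id : M → M))).subtype
    (Finsupp.linearCombination A (id : M → M)) hι hex hπ H2
  have step : ∀ 𝔞' 𝔟 : Ideal A, 𝔞' ≤ 𝔟 → I * 𝔟 ≤ 𝔞' → RInj M 𝔟 → RInj M 𝔞' := by
    intro 𝔞' 𝔟 hle hI𝔟 h𝔟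
    have hj : Function.Injective ((Submodule.inclusion hle).rTensor M) := by
      apply rTensor_injective_of_smul_le_range (M := M)
        (K := LinearMap.ker (Finsupp.linearCombination A (id : M → M))) (F := M →₀ A) I
        (LinearMap.ker (Finsupp.linearCombination A (id : M → M))).subtype
        (Finsupp.linearCombination A (id : M → M)) hex hπ H1 H0 (Submodule.inclusion hle)
        (Submodule.inclusion_injective hle)
      rw [Submodule.smul_le]
      intro a ha b _
      refine ⟨⟨a * b.1, hI𝔟 (Ideal.mul_mem_mul ha b.2)⟩, ?_⟩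
      apply Subtype.ext
      rfl
    have hcomp : 𝔞'.subtype.rTensor M =
        (𝔟.subtype.rTensor M) ∘ₗ ((Submodule.inclusion hle).rTensor M) := by
      rw [← LinearMap.rTensor_comp, Submodule.subtype_comp_inclusion]
    unfold RInj
    rw [hcomp]
    exact h𝔟.comp hj
  induction k with
  | zero =>
    have h0 : 𝔞 ⊔ I ^ 0 = ⊤ := by rw [pow_zero, Ideal.one_eq_top, sup_top_eq]
    rw [h0]; exact rInj_top M
  | succ k ih =>
    refine step _ _ (sup_le_sup_left (Ideal.pow_le_pow_right (Nat.le_succ k)) 𝔞) ?_ ih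
    rw [Ideal.mul_sup]
    refine sup_le_sup Ideal.mul_le_right ?_
    rw [pow_succ']

/-- If `𝔟 ⊗ M → M` is injective for all ideals `𝔟 ⊇ J` then `M/JM` is flat over `A/J`. -/
theorem flat_quotient_of_rInj (J : Ideal A) (h : ∀ 𝔟 : Ideal A, J ≤ 𝔟 → RInj M 𝔟) :
    Module.Flat (A ⧸ J) ((A ⧸ J) ⊗[A] M) := by
  rw [Module.Flat.iff_rTensor_injective']
  intro 𝔟'
  have key : Function.Injective ((𝔟'.subtype.restrictScalars A).rTensor M) := by
    set 𝔟 : Ideal A := 𝔟'.comap (Ideal.Quotient.mk J) with h𝔟
    have hJ𝔟 : J ≤ 𝔟 := by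
      intro x hx
      show Ideal.Quotient.mk J x ∈ 𝔟'
      rw [Ideal.Quotient.eq_zero_iff_mem.mpr hx]
      exact zero_mem _
    let q₀ : ↥𝔟 →ₗ[A] ↥𝔟' :=
      { toFun := fun x => ⟨Ideal.Quotient.mk J x.1, x.2⟩
        map_add' := fun x y => Subtype.ext (map_add (Ideal.Quotient.mk J) x.1 y.1)
        map_smul' := fun a x => Subtype.ext (by
          show Ideal.Quotient.mk J (a * x.1) = a • Ideal.Quotient.mk J x.1
          rw [Algebra.smul_def, Ideal.Quotient.algebraMap_eq, map_mul]) }
    have hq₀ : Function.Surjective q₀ := by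
      rintro ⟨y, hy⟩
      obtain ⟨x, rfl⟩ := Ideal.Quotient.mk_surjective y
      exact ⟨⟨x, hy⟩, rfl⟩
    have hc1 : (𝔟'.subtype.restrictScalars A) ∘ₗ q₀ = J.mkQ ∘ₗ 𝔟.subtype :=
      LinearMap.ext fun x => rfl
    have hc2 : q₀ ∘ₗ (Submodule.inclusion hJ𝔟) = 0 := by
      apply LinearMap.ext
      intro x
      apply Subtype.ext
      exact Ideal.Quotient.eq_zero_iff_mem.mpr x.2
    rw [injective_iff_map_eq_zero]
    intro z hz
    obtain ⟨y, rfl⟩ := LinearMap.rTensor_surjective M hq₀ z
    have h1 : (J.mkQ.rTensor M) ((𝔟.subtype.rTensor M) y) = 0 := by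
      rw [← LinearMap.comp_apply, ← LinearMap.rTensor_comp, ← hc1, LinearMap.rTensor_comp,
        LinearMap.comp_apply]
      exact hz
    obtain ⟨x, hx⟩ := (rTensor_exact M (LinearMap.exact_subtype_mkQ J)
      (Submodule.mkQ_surjective J) _).mp h1
    have h2 : (𝔟.subtype.rTensor M) (((Submodule.inclusion hJ𝔟).rTensor M) x) =
        (𝔟.subtype.rTensor M) y := by
      rw [← LinearMap.comp_apply, ← LinearMap.rTensor_comp, Submodule.subtype_comp_inclusion]
      exact hx
    have h3 := h 𝔟 hJ𝔟 h2
    rw [← h3, ← LinearMap.comp_apply, ← LinearMap.rTensor_comp, hc2, LinearMap.rTensor_zero,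
      LinearMap.zero_apply]
  rw [injective_iff_map_eq_zero]
  intro z hz
  have h2 := cancelBaseChange_rTensor (R := A) (S := A ⧸ J) M 𝔟'.subtype z
  rw [hz, map_zero] at h2
  have h3 := (injective_iff_map_eq_zero _).mp key _ h2.symm
  exact (AlgebraTensorModule.cancelBaseChange A (A ⧸ J) (A ⧸ J) 𝔟' M).injective
    (by rw [h3, map_zero])

/-- "(3) ⇒ (5)" of the local criterion: flatness of all truncations. -/
theorem flat_quotient_pow_of_flat_quotient (H1 : Module.Flat (A ⧸ I) ((A ⧸ I) ⊗[A] M))
    (H2 : Function.Injective (I.subtype.rTensor M)) (n : ℕ) :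
    Module.Flat (A ⧸ I ^ n) ((A ⧸ I ^ n) ⊗[A] M) := by
  apply flat_quotient_of_rInj
  intro 𝔟 h𝔟
  have := rInj_sup_pow I H1 H2 𝔟 n
  rwa [sup_eq_left.mpr h𝔟] at this

/-- The local criterion of flatness over a Noetherian ring, for an `I`-adically ideal-separated
module. -/
theorem flat_of_local_criterion [IsNoetherianRing A]
    (hsep : ∀ 𝔞 : Ideal A, ⨅ n : ℕ, I ^ n • (⊤ : Submodule A (𝔞 ⊗[A] M)) = ⊥)
    (H1 : Module.Flat (A ⧸ I) ((A ⧸ I) ⊗[A] M))
    (H2 : Function.Injective (I.subtype.rTensor M)) : Module.Flat A M :=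
  flat_of_forall_flat_quotient_pow I M
    (fun n _ => flat_quotient_pow_of_flat_quotient I H1 H2 n) hsep

end Crit

section Fin

variable {A B : Type u} [CommRing A] [CommRing B] [Algebra A B]

/-- `M ⊗[A] P` is a finite `B`-module when `M` is `B`-finite and `P` is `A`-finite. -/
theorem finite_tensor (M : Type u) [AddCommGroup M] [Module A M] [Module B M] [IsScalarTower A B M]
    [Module.Finite B M] (P : Type u) [AddCommGroup P] [Module A P] [Module.Finite A P] :
    Module.Finite B (M ⊗[A] P) := by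
  obtain ⟨n, g, hg⟩ := Module.Finite.exists_fin' A P
  let F : (Fin n → M) →ₗ[B] M ⊗[A] P :=
    (AlgebraTensorModule.map (LinearMap.id : M →ₗ[B] M) g) ∘ₗ
      (TensorProduct.piScalarRight A B M (Fin n)).symm.toLinearMap
  apply Module.Finite.of_surjective F
  have hF : Function.Surjective
      (AlgebraTensorModule.map (LinearMap.id : M →ₗ[B] M) g) := by
    intro x
    induction x using TensorProduct.induction_on with
    | zero => exact ⟨0, map_zero _⟩
    | tmul m p =>
      obtain ⟨y, rfl⟩ := hg p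
      exact ⟨m ⊗ₜ y, by simp⟩
    | add x y hx hy =>
      obtain ⟨a, rfl⟩ := hx
      obtain ⟨b, rfl⟩ := hy
      exact ⟨a + b, map_add _ _ _⟩
  exact hF.comp (TensorProduct.piScalarRight A B M (Fin n)).symm.surjective

/-- The local criterion of flatness for a finite module over a Noetherian `A`-algebra `B` such that
`IB` lies in the Jacobson radical of `B`. -/
theorem flat_of_local_criterion_of_finite [IsNoetherianRing A] [IsNoetherianRing B] (I : Ideal A)
    (hI : I.map (algebraMap A B) ≤ Ideal.jacobson ⊥)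
    (M : Type u) [AddCommGroup M] [Module A M] [Module B M] [IsScalarTower A B M]
    [Module.Finite B M]
    (H1 : Module.Flat (A ⧸ I) ((A ⧸ I) ⊗[A] M))
    (H2 : Function.Injective (I.subtype.rTensor M)) : Module.Flat A M := by
  refine flat_of_local_criterion I ?_ H1 H2
  intro 𝔞
  rw [eq_bot_iff]
  intro x hx
  rw [Submodule.mem_iInf] at hx
  rw [Submodule.mem_bot]
  have : Module.Finite B (M ⊗[A] 𝔞) := finite_tensor M 𝔞
  have hkrull := Ideal.iInf_pow_smul_eq_bot_of_le_jacobson (M := M ⊗[A] 𝔞)
    (I.map (algebraMap A B)) hI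
  have hmem : (TensorProduct.comm A 𝔞 M) x ∈
      ⨅ i : ℕ, (I.map (algebraMap A B)) ^ i • (⊤ : Submodule B (M ⊗[A] 𝔞)) := by
    rw [Submodule.mem_iInf]
    intro n
    refine Submodule.smul_induction_on (hx n) ?_ ?_
    · intro j hj t _
      rw [map_smul, ← algebraMap_smul B j ((TensorProduct.comm A 𝔞 M) t)]
      refine Submodule.smul_mem_smul ?_ Submodule.mem_top
      rw [← Ideal.map_pow]
      exact Ideal.mem_map_of_mem _ hj
    · intro t1 t2 h1 h2
      rw [map_add]
      exact add_mem h1 h2
  rw [hkrull, Submodule.mem_bot] at hmem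
  exact (TensorProduct.comm A 𝔞 M).injective (by rw [hmem, map_zero])

end Fin

end Groth.Agent.Lib.Helper8
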