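import Mathlib

/-!
# Factor lifting implies henselian

If coprime factorisations of reductions of monic polynomials lift, the local ring is henselian.
-/

open Polynomial IsLocalRing

namespace Groth.Agent.Lib.Helper8

variable {R : Type*} [CommRing R] [IsLocalRing R]

/-- A polynomial whose reduction is zero evaluates into `m • ⊤`. -/
lemma aeval_mem_smul_top_of_map_eq_zero {B : Type*} [CommRing B] [Algebra R B] (p : R[X])
    (hp : p.map (residue R) = 0) (b : B) :
    aeval b p ∈ (maximalIdeal R) • (⊤ : Submodule R B) := by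
  rw [aeval_eq_sum_range]
  refine Submodule.sum_mem _ fun i _ => ?_
  refine Submodule.smul_mem_smul ?_ Submodule.mem_top
  have := congrArg (fun q => q.coeff i) hp
  simpa [coeff_map, residue_eq_zero_iff] using this

theorem henselian_of_factor_lift
    (h : ∀ f : R[X], f.Monic → ∀ g₀ h₀ : (ResidueField R)[X], IsCoprime g₀ h₀ →
      f.map (residue R) = g₀ * h₀ → ∃ g h : R[X], f = g * h ∧ g.map (residue R) = g₀ ∧
        h.map (residue R) = h₀) : HenselianLocalRing R := by
  refine ⟨fun f hf a₀ h₁ h₂ => ?_⟩
  set ā₀ : ResidueField R := residue R a₀ with hā₀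
  have hroot : (f.map (residue R)).IsRoot ā₀ := by
    rw [IsRoot.def, eval_map, hā₀, eval₂_at_apply]
    simpa [residue_eq_zero_iff] using h₁
  set h₀ := f.map (residue R) /ₘ (X - C ā₀) with hh₀def
  have hfac : f.map (residue R) = (X - C ā₀) * h₀ := (mul_divByMonic_eq_iff_isRoot.mpr hroot).symm
  have hh₀ : h₀.eval ā₀ ≠ 0 := by
    have e1 : (f.map (residue R)).derivative.eval ā₀ = h₀.eval ā₀ := by
      rw [hfac]; simp [derivative_mul]
    rw [← e1, derivative_map, eval_map, hā₀, eval₂_at_apply]
    simpa [residue_eq_zero_iff] using h₂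
  have hcop : IsCoprime (X - C ā₀) h₀ := by
    rw [(irreducible_X_sub_C ā₀).coprime_iff_not_dvd, dvd_iff_isRoot]; exact hh₀
  obtain ⟨g, hh, hfgh, hg, hhh⟩ := h f hf _ _ hcop hfac
  have hfin : Module.Finite R (AdjoinRoot f) := hf.finite_adjoinRoot
  set x : AdjoinRoot f := AdjoinRoot.root f with hx
  have hxf : aeval x f = 0 := by rw [AdjoinRoot.aeval_eq, AdjoinRoot.mk_self]
  have hgh0 : aeval x g * aeval x hh = 0 := by rw [← map_mul, ← hfgh, hxf]
  obtain ⟨u₀, v₀, huv⟩ := hcop
  obtain ⟨u, rfl⟩ := map_surjective (residue R) residue_surjective u₀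
  obtain ⟨v, rfl⟩ := map_surjective (residue R) residue_surjective v₀
  have hker : (u * g + v * hh - 1).map (residue R) = 0 := by
    simp [Polynomial.map_sub, Polynomial.map_add, Polynomial.map_mul, hg, hhh, huv]
  have hmem := aeval_mem_smul_top_of_map_eq_zero _ hker x
  -- comaximality of `g(x)` and `h(x)` in `B`
  have hJ : Ideal.span {aeval x g, aeval x hh} = ⊤ := by
    set J := Ideal.span {aeval x g, aeval x hh} with hJdef
    have hle : (⊤ : Submodule R (AdjoinRoot f)) ≤ J.restrictScalars R ⊔ maximalIdeal R • ⊤ := by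
      intro b _
      have h1 : b = b * aeval x (u * g + v * hh) - b * aeval x (u * g + v * hh - 1) := by
        simp only [map_sub, map_one]; ring
      rw [h1]
      refine Submodule.sub_mem _ (Submodule.mem_sup_left ?_) (Submodule.mem_sup_right ?_)
      · rw [Submodule.restrictScalars_mem]
        apply Ideal.mul_mem_left
        rw [map_add, map_mul, map_mul]
        exact J.add_mem (J.mul_mem_left _ (Ideal.subset_span (by simp)))
          (J.mul_mem_left _ (Ideal.subset_span (by simp)))
      · rw [Ideal.smul_top_eq_map, Submodule.restrictScalars_mem] at hmem ⊢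
        exact Ideal.mul_mem_left _ _ hmem
    have := Submodule.le_of_le_smul_of_le_jacobson_bot (Module.finite_def.mp hfin)
      (IsLocalRing.maximalIdeal_le_jacobson ⊥) hle
    rw [Ideal.eq_top_iff_one]
    exact this trivial
  obtain ⟨u', v', huv'⟩ := Ideal.mem_span_pair.mp (hJ ▸ Submodule.mem_top : (1 : AdjoinRoot f) ∈ _)
  -- the quotient `C = B / (g(x))`
  set I : Ideal (AdjoinRoot f) := Ideal.span {aeval x g} with hI
  -- `x - a₀ ∈ I + mB`
  have hxa : x - algebraMap R _ a₀ ∈ I.restrictScalars R ⊔ maximalIdeal R • ⊤ := by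
    have hk : (g - (X - C a₀)).map (residue R) = 0 := by
      simp [Polynomial.map_sub, hg, hā₀]
    have hm := aeval_mem_smul_top_of_map_eq_zero _ hk x
    have h1 : x - algebraMap R _ a₀ = aeval x g - aeval x (g - (X - C a₀)) := by
      simp
    rw [h1]
    exact Submodule.sub_mem _ (Submodule.mem_sup_left (Ideal.subset_span rfl))
      (Submodule.mem_sup_right hm)
  -- surjectivity of `R → B / I`
  have hsurj : ∀ b : AdjoinRoot f, ∃ r : R, b - algebraMap R _ r ∈ I := by
    have hle : (⊤ : Submodule R (AdjoinRoot f)) ≤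
        (I.restrictScalars R ⊔ (Algebra.ofId R (AdjoinRoot f)).range.toSubmodule) ⊔
          maximalIdeal R • ⊤ := by
      intro b _
      obtain ⟨p, rfl⟩ := AdjoinRoot.mk_surjective b
      rw [← AdjoinRoot.aeval_eq, ← hx]
      have h1 : p = (X - C a₀) * (p /ₘ (X - C a₀)) + C (p.eval a₀) := by
        conv_lhs => rw [← modByMonic_add_div p (X - C a₀), modByMonic_X_sub_C_eq_C_eval]
        ring
      rw [h1, map_add, map_mul, aeval_C]
      have h2 : aeval x (X - C a₀) = x - algebraMap R _ a₀ := by simp
      rw [h2]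
      rw [sup_assoc, sup_comm _ (maximalIdeal R • ⊤), ← sup_assoc]
      refine Submodule.add_mem _ (Submodule.mem_sup_left ?_) (Submodule.mem_sup_right ⟨_, rfl⟩)
      obtain ⟨y, hy, z, hz, hyz⟩ := Submodule.mem_sup.mp hxa
      rw [← hyz, add_mul]
      refine Submodule.add_mem _ (Submodule.mem_sup_left ?_) (Submodule.mem_sup_right ?_)
      · rw [Submodule.restrictScalars_mem] at hy ⊢
        exact Ideal.mul_mem_right _ _ hy
      · rw [Ideal.smul_top_eq_map, Submodule.restrictScalars_mem] at hz ⊢
        exact Ideal.mul_mem_right _ _ hz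
    have := Submodule.le_of_le_smul_of_le_jacobson_bot (Module.finite_def.mp hfin)
      (IsLocalRing.maximalIdeal_le_jacobson ⊥) hle
    intro b
    obtain ⟨y, hy, z, ⟨r, rfl⟩, hyz⟩ := Submodule.mem_sup.mp (this (Submodule.mem_top (x := b)))
    refine ⟨r, ?_⟩
    rw [← hyz]
    simpa using hy
  -- injectivity of `R → B / I`
  have hinj : ∀ r : R, algebraMap R (AdjoinRoot f) r ∈ I → r = 0 := by
    intro r hr
    obtain ⟨b, hb⟩ := Ideal.mem_span_singleton'.mp hr
    -- `e = v' * h(x)` satisfies `r • e = 0`
    have hre : algebraMap R _ r * (v' * aeval x hh) = 0 := by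
      rw [← hb]
      calc b * aeval x g * (v' * aeval x hh) = b * v' * (aeval x g * aeval x hh) := by ring
        _ = 0 := by rw [hgh0, mul_zero]
    obtain ⟨p, hp⟩ := AdjoinRoot.mk_surjective (v' * aeval x hh)
    set p' := p %ₘ f with hp'
    have hp'e : AdjoinRoot.mk f p' = v' * aeval x hh := by
      rw [← hp, AdjoinRoot.mk_eq_mk, hp']
      exact ⟨-(p /ₘ f), by rw [modByMonic_eq_sub_mul_div p f]; ring⟩
    -- `ψ : B → k` sending `x ↦ ā₀`
    have hψ0 : eval₂ (residue R) ā₀ f = 0 := by rwa [IsRoot.def, eval_map] at hroot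
    set ψ := AdjoinRoot.lift (residue R) ā₀ hψ0 with hψ
    have hψe : ψ (v' * aeval x hh) = 1 := by
      have h1 : ψ (u' * aeval x g + v' * aeval x hh) = 1 := by rw [huv', map_one]
      have h2 : ψ (aeval x g) = 0 := by
        rw [AdjoinRoot.aeval_eq, hψ, AdjoinRoot.lift_mk, ← eval_map, hg]; simp
      rwa [map_add, map_mul, h2, mul_zero, zero_add] at h1
    have hψp : eval₂ (residue R) ā₀ p' = 1 := by
      rw [← hψe, ← hp'e, hψ, AdjoinRoot.lift_mk]
    -- `C r * p' = 0`
    have hrp : C r * p' = 0 := by
      have hdvd : f ∣ C r * p' := by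
        rw [← AdjoinRoot.mk_eq_zero, map_mul, hp'e, AdjoinRoot.mk_C]
        exact hre
      by_contra hne
      have hlt : (C r * p').degree < f.degree :=
        lt_of_le_of_lt (degree_mul_le _ _) (by
          have : (C r).degree ≤ 0 := degree_C_le
          calc (C r).degree + p'.degree ≤ 0 + p'.degree := by gcongr
            _ = p'.degree := zero_add _
            _ < f.degree := degree_modByMonic_lt p hf)
      exact hf.not_dvd_of_degree_lt hne hlt hdvd
    -- some coefficient of `p'` is a unit
    have : ∃ i, IsUnit (p'.coeff i) := by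
      by_contra hcon
      push Not at hcon
      have : p'.map (residue R) = 0 := by
        ext i
        rw [coeff_map, coeff_zero, residue_eq_zero_iff]
        exact hcon i
      rw [← eval_map, this, eval_zero] at hψp
      exact zero_ne_one hψp
    obtain ⟨i, hi⟩ := this
    have := congrArg (fun q => q.coeff i) hrp
    simp only [coeff_C_mul, coeff_zero] at this
    exact (hi.mul_left_eq_zero).mp this
  obtain ⟨a, ha⟩ := hsurj x
  have haeval : ∀ q : R[X], aeval x q - algebraMap R _ (q.eval a) ∈ I := by
    intro q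
    have h1 : aeval x q - algebraMap R _ (q.eval a) =
        aeval x q - aeval (algebraMap R (AdjoinRoot f) a) q := by
      rw [aeval_algebraMap_apply, coe_aeval_eq_eval]
    rw [h1]
    obtain ⟨c, hc⟩ := sub_dvd_eval_sub x (algebraMap R (AdjoinRoot f) a) (q.map (algebraMap R _))
    rw [eval_map_algebraMap, eval_map_algebraMap] at hc
    rw [hc]
    exact I.mul_mem_right _ ha
  refine ⟨a, ?_, ?_⟩
  · apply hinj
    have := haeval f
    rw [hxf, zero_sub, neg_mem_iff] at this
    exact this
  · have hga : g.eval a = 0 := by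
      apply hinj
      have := haeval g
      have hgI : aeval x g ∈ I := Ideal.subset_span rfl
      have := I.sub_mem hgI this
      simpa using this
    have : (g.map (residue R)).eval (residue R a) = 0 := by
      rw [eval_map, eval₂_at_apply]
      simp [hga]
    rw [hg] at this
    simp only [eval_sub, eval_X, eval_C] at this
    rw [← residue_eq_zero_iff, map_sub, this]

end Groth.Agent.Lib.Helper8
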