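import Mathlib
import Groth.Agent.Lib.Helper5.HenselLift

/-!
# Finite algebras over henselian local rings are finite products of local rings
-/

set_option autoImplicit false

open IsLocalRing TensorProduct

namespace Groth.Agent.Lib.Helper8

universe u

/-- An étale neighbourhood `(R', P)` of the closed point of a henselian local ring with trivial
residue field extension has a section `R' → R` pulling the maximal ideal back to `P`. -/
theorem exists_algHom_of_etale_of_residueField_bijective (R : Type u) [CommRing R]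
    [HenselianLocalRing R] (R' : Type u) [CommRing R'] [Algebra R R'] [Algebra.Etale R R']
    (P : Ideal R') [P.IsPrime] [P.LiesOver (maximalIdeal R)]
    (hbij : Function.Bijective (Ideal.ResidueField.mapₐ (maximalIdeal R) P (Algebra.ofId R R')
      (P.over_def (maximalIdeal R)))) :
    ∃ σ : R' →ₐ[R] R, ∀ c : R', σ c ∈ maximalIdeal R ↔ c ∈ P := by
  let τ : (maximalIdeal R).ResidueField ≃ₐ[R] P.ResidueField := AlgEquiv.ofBijective _ hbij
  let l : (maximalIdeal R).ResidueField →ₐ[R] ResidueField R :=
    Ideal.ResidueField.liftₐ (maximalIdeal R) (IsScalarTower.toAlgHom R R (ResidueField R))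
      (by
        intro x hx
        rw [RingHom.mem_ker]
        exact (residue_eq_zero_iff x).mpr hx)
      (by
        intro x hx
        have hx' : x ∉ maximalIdeal R := hx
        rw [mem_maximalIdeal, mem_nonunits_iff, not_not] at hx'
        exact hx'.map (algebraMap R (ResidueField R)))
  let χ : R' →ₐ[R] ResidueField R :=
    l.comp (τ.symm.toAlgHom.comp (IsScalarTower.toAlgHom R R' P.ResidueField))
  have hχ0 : ∀ c : R', χ c = 0 ↔ c ∈ P := by
    intro c
    have h1 : χ c = l (τ.symm (algebraMap R' P.ResidueField c)) := rfl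
    rw [h1, map_eq_zero_iff l l.toRingHom.injective, map_eq_zero_iff τ.symm τ.symm.injective,
      Ideal.algebraMap_residueField_eq_zero]
  obtain ⟨φ, hφ⟩ := Groth.Agent.Lib.Helper5.exists_algHom_localization_of_etale (A := R) (C := R')
    (B := R) P χ (fun c hc h0 => hc ((hχ0 c).mp h0))
  refine ⟨φ.comp (IsScalarTower.toAlgHom R R' (Localization.AtPrime P)), fun c => ?_⟩
  rw [← hχ0, ← hφ c, residue_eq_zero_iff]
  rfl

set_option maxHeartbeats 1600000 in
/-- A finite algebra over a henselian local ring is a finite product of local rings. -/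
theorem exists_pi_local_of_finite_of_henselian (R : Type u) [CommRing R] [HenselianLocalRing R]
    (S : Type u) [CommRing S] [Algebra R S] [Module.Finite R S] :
    ∃ (ι : Type u) (_ : Fintype ι) (A : ι → Type u) (_ : ∀ i, CommRing (A i)),
      (∀ i, IsLocalRing (A i)) ∧ Nonempty (S ≃+* (∀ i, A i)) := by
  classical
  obtain ⟨R', _, _, _, P, _, _, n, e, he, P', hP'prime, hP'lies, hbij, heP', H⟩ :=
    Algebra.exists_etale_completeOrthogonalIdempotents_forall_liesOver_eq (R := R) (S := S)
      (maximalIdeal R)
  obtain ⟨σ, hσ⟩ := exists_algHom_of_etale_of_residueField_bijective R R' P hbij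
  let Φ : R' ⊗[R] S →ₐ[R] S :=
    Algebra.TensorProduct.lift ((Algebra.ofId R S).comp σ) (AlgHom.id R S)
      (fun _ _ => Commute.all _ _)
  have hΦsurj : Function.Surjective Φ := fun s => ⟨1 ⊗ₜ s, by simp [Φ]⟩
  have hΦalg : ∀ r' : R', Φ (algebraMap R' (R' ⊗[R] S) r') = algebraMap R S (σ r') := by
    intro r'
    simp [Φ, Algebra.TensorProduct.algebraMap_apply]
  let ē : Fin (n + 1) → S := fun i => Φ (e i)
  have hē : CompleteOrthogonalIdempotents ē := he.map Φ.toRingHom
  -- primes of `R' ⊗ S` coming from maximal ideals of `S` lie over `P`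
  have hlies : ∀ M : Ideal S, M.IsMaximal → (M.comap Φ.toRingHom).LiesOver P := by
    intro M hM
    constructor
    ext r'
    rw [Ideal.under, Ideal.mem_comap, Ideal.mem_comap]
    have hMR : M.comap (algebraMap R S) = maximalIdeal R :=
      eq_maximalIdeal (Ideal.isMaximal_comap_of_isIntegral_of_isMaximal M)
    show r' ∈ P ↔ Φ (algebraMap R' (R' ⊗[R] S) r') ∈ M
    rw [hΦalg, ← Ideal.mem_comap, hMR, hσ]
  -- the last idempotent dies, the others give local or trivial rings
  have hlast : ∀ M : Ideal S, M.IsMaximal → ē (Fin.last n) ∈ M := by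
    intro M hM
    have := hlies M hM
    exact (H (M.comap Φ.toRingHom) (Ideal.comap_isPrime _ _) this).1
  have hQ : ∀ i : Fin (n + 1), Nontrivial (S ⧸ Ideal.span {1 - ē i}) →
      IsLocalRing (S ⧸ Ideal.span {1 - ē i}) := by
    intro i hnt
    have hi : i ≠ Fin.last n := by
      rintro rfl
      have hne : Ideal.span {1 - ē (Fin.last n)} ≠ ⊤ := by
        intro htop
        exact not_subsingleton _ (Ideal.Quotient.subsingleton_iff.mpr htop)
      obtain ⟨M, hM, hle⟩ := Ideal.exists_le_maximal _ hne
      have h1 : 1 - ē (Fin.last n) ∈ M := hle (Ideal.subset_span rfl)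
      have h2 := hlast M hM
      exact hM.ne_top ((Ideal.eq_top_iff_one M).mpr (by simpa using M.add_mem h1 h2))
    obtain ⟨j, rfl⟩ := Fin.exists_castSucc_eq.mpr hi
    apply IsLocalRing.of_unique_max_ideal
    obtain ⟨N₀, hN₀⟩ := Ideal.exists_maximal (S ⧸ Ideal.span {1 - ē j.castSucc})
    refine ⟨N₀, hN₀, fun N hN => ?_⟩
    have key : ∀ N : Ideal (S ⧸ Ideal.span {1 - ē j.castSucc}), N.IsMaximal →
        (N.comap (Ideal.Quotient.mk _)).comap Φ.toRingHom = P' j := by
      intro N hN
      have hM : (N.comap (Ideal.Quotient.mk (Ideal.span {1 - ē j.castSucc}))).IsMaximal :=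
        Ideal.comap_isMaximal_of_surjective _ Ideal.Quotient.mk_surjective
      have := hlies _ hM
      refine (H _ (Ideal.comap_isPrime _ _) this).2 j ?_
      intro hmem
      have h1 : ē j.castSucc ∈ N.comap (Ideal.Quotient.mk (Ideal.span {1 - ē j.castSucc})) := hmem
      have h2 : 1 - ē j.castSucc ∈
          N.comap (Ideal.Quotient.mk (Ideal.span {1 - ē j.castSucc})) := by
        have h0 : (Ideal.Quotient.mk (Ideal.span {1 - ē j.castSucc})) (1 - ē j.castSucc) = 0 :=
          Ideal.Quotient.eq_zero_iff_mem.mpr (Ideal.subset_span (Set.mem_singleton _))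
        rw [Ideal.mem_comap, h0]
        exact N.zero_mem
      exact hM.ne_top ((Ideal.eq_top_iff_one _).mpr (by simpa using Ideal.add_mem _ h2 h1))
    have h12 := (key N hN).trans (key N₀ hN₀).symm
    have h3 := Ideal.comap_injective_of_surjective Φ.toRingHom hΦsurj h12
    exact Ideal.comap_injective_of_surjective _ Ideal.Quotient.mk_surjective h3
  -- assemble
  let J := {i : Fin (n + 1) // Nontrivial (S ⧸ Ideal.span {1 - ē i})}
  refine ⟨ULift.{u} J, inferInstance, fun i => S ⧸ Ideal.span {1 - ē i.down.1}, inferInstance,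
    fun i => hQ _ i.down.2, ⟨RingEquiv.ofBijective
      (RingHom.pi fun i : ULift.{u} J => Ideal.Quotient.mk (Ideal.span {1 - ē i.down.1})) ?_⟩⟩
  have hbij := hē.bijective_pi
  constructor
  · rw [injective_iff_map_eq_zero]
    intro s hs
    apply (injective_iff_map_eq_zero _).mp hbij.1
    ext i
    by_cases hi : Nontrivial (S ⧸ Ideal.span {1 - ē i})
    · exact congrFun hs ⟨⟨i, hi⟩⟩
    · rw [not_nontrivial_iff_subsingleton] at hi
      exact Subsingleton.elim _ _
  · intro t
    obtain ⟨s, hs⟩ := hbij.2 (fun i =>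
      if hi : Nontrivial (S ⧸ Ideal.span {1 - ē i}) then t ⟨⟨i, hi⟩⟩ else 0)
    refine ⟨s, ?_⟩
    ext ⟨⟨i, hi⟩⟩
    have := congrFun hs i
    simp only [dif_pos hi] at this
    exact this

end Groth.Agent.Lib.Helper8
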