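import Mathlib
import Groth.Agent.Lib.Helper8.HenselFinite

/-!
# Splitting finite-type algebras over henselian local rings
-/

open IsLocalRing

universe u

namespace Groth.Agent.Lib.Helper8

/-- In a finite algebra over a henselian local ring, any set of maximal ideals is cut out by an
idempotent. -/
theorem exists_idempotent_notMem_iff (R : Type u) [CommRing R] [HenselianLocalRing R]
    (A : Type u) [CommRing A] [Algebra R A] [Module.Finite R A] (Z : Set (Ideal A)) :
    ∃ e : A, IsIdempotentElem e ∧ ∀ M : Ideal A, M.IsMaximal → (e ∉ M ↔ M ∈ Z) := by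
  classical
  obtain ⟨ι, _, B, _, hloc, ⟨φ⟩⟩ := exists_pi_local_of_finite_of_henselian R A
  let Mi : ι → Ideal A := fun i =>
    ((maximalIdeal (B i)).comap (Pi.evalRingHom B i)).comap (φ : A →+* (∀ i, B i))
  let I : Set ι := {i | Mi i ∈ Z}
  let e' : ∀ i, B i := fun i => if i ∈ I then 1 else 0
  have he' : IsIdempotentElem e' := by
    ext i
    by_cases h : i ∈ I <;> simp [e', h]
  refine ⟨φ.symm e', by rw [IsIdempotentElem, ← map_mul, he'.eq], ?_⟩
  intro M hM
  have hMp : (M.comap (φ.symm : (∀ i, B i) →+* A)).IsPrime := Ideal.comap_isPrime _ _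
  obtain ⟨⟨i, p⟩, hp⟩ := (PrimeSpectrum.sigmaToPi_bijective B).2 ⟨M.comap (φ.symm : (∀ i, B i) →+* A), hMp⟩
  have hp' : M.comap (φ.symm : (∀ i, B i) →+* A) = p.asIdeal.comap (Pi.evalRingHom B i) := by
    have := congrArg PrimeSpectrum.asIdeal hp
    simpa [PrimeSpectrum.sigmaToPi_apply] using this.symm
  have hM1 : M = (p.asIdeal.comap (Pi.evalRingHom B i)).comap (φ : A →+* (∀ i, B i)) := by
    rw [← hp', Ideal.comap_comap]
    ext a
    simp
  have hMi : M = Mi i := by
    have hle : M ≤ Mi i := by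
      rw [hM1]
      exact Ideal.comap_mono (Ideal.comap_mono (le_maximalIdeal p.2.ne_top))
    have hne : Mi i ≠ ⊤ := by
      intro h
      have h1 : (1 : A) ∈ Mi i := h ▸ Submodule.mem_top
      have : (1 : B i) ∈ maximalIdeal (B i) := by simp [Mi] at h1
      exact (maximalIdeal.isMaximal (B i)).ne_top ((Ideal.eq_top_iff_one _).mpr this)
    exact hM.eq_of_le hne hle
  have hmem : φ.symm e' ∈ M ↔ e' i ∈ p.asIdeal := by
    rw [hM1, Ideal.mem_comap, Ideal.mem_comap]
    simp
  rw [hmem, hMi]
  by_cases h : i ∈ I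
  · simp only [e', h, if_true]
    exact iff_of_true (fun h1 => p.2.ne_top ((Ideal.eq_top_iff_one _).mpr h1)) h
  · simp only [e', h, if_false]
    exact iff_of_false (fun h1 => h1 (Ideal.zero_mem _)) h

/-- The primes in a fibre at which a finite type algebra is quasi-finite form a finite set. -/

theorem finite_setOf_quasiFiniteAt (R S : Type*) [CommRing R] [CommRing S] [Algebra R S]
    [Algebra.FiniteType R S] (p : PrimeSpectrum R) :
    {q : PrimeSpectrum S | q.comap (algebraMap R S) = p ∧
      Algebra.QuasiFiniteAt R q.asIdeal}.Finite := by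
  let F := PrimeSpectrum.comap (algebraMap R S) ⁻¹' {p}
  have : IsNoetherianRing (p.asIdeal.Fiber S) :=
    Algebra.FiniteType.isNoetherianRing p.asIdeal.ResidueField _
  have hN : TopologicalSpace.NoetherianSpace F :=
    (TopologicalSpace.noetherianSpace_iff_of_homeomorph
      (PrimeSpectrum.preimageHomeomorphFiber R S p)).mpr inferInstance
  let D : Set F := {x | IsOpen ({x} : Set F)}
  have hD : D.Finite := by
    have hc : IsCompact D := TopologicalSpace.NoetherianSpace.isCompact D
    obtain ⟨t, ht⟩ := hc.elim_finite_subcover (fun x : D => ({x.1} : Set F)) (fun x => x.2)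
      (fun x hx => Set.mem_iUnion.mpr ⟨⟨x, hx⟩, rfl⟩)
    refine Set.Finite.subset (t.finite_toSet.image (fun x : D => x.1)) ?_
    intro x hx
    obtain ⟨y, hy, hxy⟩ := Set.mem_iUnion₂.mp (ht hx)
    exact ⟨y, hy, hxy.symm⟩
  refine Set.Finite.subset (hD.image (fun x : F => x.1)) ?_
  rintro q ⟨hq1, hq2⟩
  subst hq1
  exact ⟨⟨q, rfl⟩, (Algebra.quasiFiniteAt_iff_isOpen_singleton_fiber q).mp hq2, rfl⟩

/-- Over a henselian local ring, the part of a finite type algebra which is quasi-finite over the
closed point splits off as a finite algebra. -/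
theorem exists_idempotent_finite_of_finiteType (R : Type u) [CommRing R] [HenselianLocalRing R]
    (S : Type u) [CommRing S] [Algebra R S] [Algebra.FiniteType R S] :
    ∃ e : S, IsIdempotentElem e ∧ Module.Finite R (S ⧸ Ideal.span ({1 - e} : Set S)) ∧
      ∀ (q : Ideal S) [q.IsPrime], q.LiesOver (maximalIdeal R) → Algebra.QuasiFiniteAt R q →
        e ∉ q := by
  classical
  set Q : Set (PrimeSpectrum S) := {q | q.comap (algebraMap R S) = closedPoint R ∧
      Algebra.QuasiFiniteAt R q.asIdeal} with hQdef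
  have hQfin : Q.Finite := finite_setOf_quasiFiniteAt R S (closedPoint R)
  have h1 : ∀ q : PrimeSpectrum S, ∃ r : S, q ∈ Q →
      (r ∉ q.asIdeal ∧ IsIntegral R r ∧ ∀ x, ∃ m, IsIntegral R (r ^ m * x)) := by
    intro q
    by_cases hq : q ∈ Q
    · have : Algebra.QuasiFiniteAt R q.asIdeal := hq.2
      obtain ⟨r, h1, h2, h3⟩ := Algebra.zariskisMainProperty_iff.mp
        (Algebra.ZariskisMainProperty.of_finiteType (R := R) q.asIdeal)
      exact ⟨r, fun _ => ⟨h1, h2, h3⟩⟩
    · exact ⟨0, fun h => absurd h hq⟩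
  choose r hr using h1
  have h2 : ∀ (q : PrimeSpectrum S) (x : S), ∃ m : ℕ, q ∈ Q → IsIntegral R (r q ^ m * x) := by
    intro q x
    by_cases hq : q ∈ Q
    · obtain ⟨m, hm⟩ := (hr q hq).2.2 x
      exact ⟨m, fun _ => hm⟩
    · exact ⟨0, fun h => absurd h hq⟩
  choose m hm using h2
  obtain ⟨s, hs⟩ := Algebra.FiniteType.out (R := R) (A := S)
  set t : Set S := ⋃ q ∈ Q, insert (r q) ((fun x => r q ^ m q x * x) '' (s : Set S)) with ht
  have htfin : t.Finite := by
    refine Set.Finite.biUnion hQfin fun q _ => ?_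
    exact (s.finite_toSet.image _).insert _
  have htint : ∀ x ∈ t, IsIntegral R x := by
    intro x hx
    obtain ⟨q, hq, hx⟩ := Set.mem_iUnion₂.mp hx
    rcases hx with rfl | ⟨y, _, rfl⟩
    · exact (hr q hq).2.1
    · exact hm q y hq
  set S'' : Subalgebra R S := Algebra.adjoin R t with hS''
  have hfg : S''.toSubmodule.FG := fg_adjoin_of_finite htfin htint
  have hfin : Module.Finite R S'' := ⟨(Submodule.fg_top _).mpr hfg⟩
  have hrS : ∀ q ∈ Q, r q ∈ S'' := fun q hq =>
    Algebra.subset_adjoin (Set.mem_iUnion₂.mpr ⟨q, hq, Set.mem_insert _ _⟩)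
  -- key property
  have hkey : ∀ q ∈ Q, ∀ x : S, ∃ k : ℕ, r q ^ k * x ∈ S'' := by
    intro q hq x
    have hx : x ∈ Algebra.adjoin R (s : Set S) := by rw [hs]; trivial
    induction hx using Algebra.adjoin_induction with
    | mem x hx =>
      exact ⟨m q x, Algebra.subset_adjoin (Set.mem_iUnion₂.mpr ⟨q, hq,
        Set.mem_insert_of_mem _ ⟨x, hx, rfl⟩⟩)⟩
    | algebraMap a => exact ⟨0, by simp⟩
    | add x y _ _ hx hy =>
      obtain ⟨k, hk⟩ := hx
      obtain ⟨l, hl⟩ := hy
      refine ⟨k + l, ?_⟩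
      have : r q ^ (k + l) * (x + y) = r q ^ l * (r q ^ k * x) + r q ^ k * (r q ^ l * y) := by
        ring
      rw [this]
      exact S''.add_mem (S''.mul_mem (S''.pow_mem (hrS q hq) _) hk)
        (S''.mul_mem (S''.pow_mem (hrS q hq) _) hl)
    | mul x y _ _ hx hy =>
      obtain ⟨k, hk⟩ := hx
      obtain ⟨l, hl⟩ := hy
      refine ⟨k + l, ?_⟩
      have : r q ^ (k + l) * (x * y) = (r q ^ k * x) * (r q ^ l * y) := by ring
      rw [this]
      exact S''.mul_mem hk hl
  set Z : Set (Ideal S'') := {M | ∃ q ∈ Q, ∃ y : S'', y.1 = r q ∧ y ∉ M} with hZ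
  obtain ⟨e'', he'', hM⟩ := exists_idempotent_notMem_iff R S'' Z
  refine ⟨e''.1, ?_, ?_, ?_⟩
  · have := congrArg Subtype.val he''.eq
    simpa [IsIdempotentElem] using this
  · -- finiteness
    let f : S'' →ₐ[R] S ⧸ Ideal.span ({1 - e''.1} : Set S) :=
      (Ideal.Quotient.mkₐ R _).comp S''.val
    refine Module.Finite.of_surjective f.toLinearMap ?_
    intro z
    obtain ⟨x, rfl⟩ := Ideal.Quotient.mk_surjective z
    suffices h : e''.1 * x ∈ S'' by
      refine ⟨⟨_, h⟩, ?_⟩
      change Ideal.Quotient.mk _ (e''.1 * x) = Ideal.Quotient.mk _ x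
      rw [Ideal.Quotient.eq, Ideal.mem_span_singleton]
      exact ⟨-x, by ring⟩
    let J : Ideal S'' :=
      { carrier := {y | y.1 * x ∈ S''}
        add_mem' := by
          intro a b ha hb
          simp only [Set.mem_ofPred_eq, Subalgebra.coe_add, add_mul] at ha hb ⊢
          exact S''.add_mem ha hb
        zero_mem' := by simp
        smul_mem' := by
          intro c a ha
          simp only [Set.mem_ofPred_eq, smul_eq_mul, Subalgebra.coe_mul, mul_assoc] at ha ⊢
          exact S''.mul_mem c.2 ha }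
    have hJtop : J ⊔ Ideal.span {1 - e''} = ⊤ := by
      by_contra hne
      obtain ⟨M, hMmax, hle⟩ := Ideal.exists_le_maximal _ hne
      by_cases heM : e'' ∈ M
      · have h1 : 1 - e'' ∈ M := hle (Ideal.mem_sup_right (Ideal.mem_span_singleton_self _))
        have : (1 : S'') ∈ M := by
          have := M.add_mem h1 heM
          simpa using this
        exact hMmax.ne_top ((Ideal.eq_top_iff_one _).mpr this)
      · obtain ⟨q, hq, y, hy, hyM⟩ := (hM M hMmax).mp heM
        obtain ⟨k, hk⟩ := hkey q hq x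
        have : y ^ k ∈ J := by
          change (y ^ k).1 * x ∈ S''
          simpa [hy] using hk
        exact hyM (hMmax.isPrime.mem_of_pow_mem k (hle (Ideal.mem_sup_left this)))
    obtain ⟨j, hj, c, hc, hjc⟩ := Submodule.mem_sup.mp
      ((Ideal.eq_top_iff_one _).mp hJtop)
    obtain ⟨d, rfl⟩ := Ideal.mem_span_singleton'.mp hc
    have : e'' = e'' * j := by
      have h3 : e'' * (1 - e'') = 0 := by rw [mul_sub, mul_one, he''.eq, sub_self]
      calc e'' = e'' * (j + d * (1 - e'')) := by rw [hjc, mul_one]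
        _ = e'' * j + d * (e'' * (1 - e'')) := by ring
        _ = e'' * j := by rw [h3, mul_zero, add_zero]
    have h4 : e'' ∈ J := by rw [this]; exact J.mul_mem_left _ hj
    exact h4
  · intro q _ hlies hqf
    have hqQ : (⟨q, inferInstance⟩ : PrimeSpectrum S) ∈ Q := by
      refine ⟨?_, hqf⟩
      ext1
      exact (hlies.over).symm
    set q' : PrimeSpectrum S := ⟨q, inferInstance⟩
    set M : Ideal S'' := q.comap (algebraMap S'' S) with hMdef
    have : Algebra.IsIntegral R S'' := Algebra.IsIntegral.of_finite R S''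
    have hMmax : M.IsMaximal := by
      have : (M.comap (algebraMap R S'')).IsMaximal := by
        rw [hMdef, Ideal.comap_comap, ← IsScalarTower.algebraMap_eq, ← Ideal.under_def,
          ← hlies.over]
        exact maximalIdeal.isMaximal R
      exact Ideal.isMaximal_of_isIntegral_of_isMaximal_comap M this
    have hMZ : M ∈ Z := ⟨q', hqQ, ⟨r q', hrS q' hqQ⟩, rfl, fun h => (hr q' hqQ).1 h⟩
    have := (hM M hMmax).mpr hMZ
    exact fun h => this h

/-- Quasi-finiteness at a prime of `S/(e)`, `e` idempotent, gives quasi-finiteness at its preimage in `S`. -/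
theorem quasiFiniteAt_comap_of_idempotent {R S : Type*} [CommRing R] [CommRing S] [Algebra R S]
    (e : S) (he : IsIdempotentElem e) (q' : Ideal (S ⧸ Ideal.span ({e} : Set S))) [q'.IsPrime]
    [Algebra.QuasiFiniteAt R q'] :
    haveI : (q'.comap (Ideal.Quotient.mk (Ideal.span ({e} : Set S)))).IsPrime :=
      Ideal.comap_isPrime _ _
    Algebra.QuasiFiniteAt R (q'.comap (Ideal.Quotient.mk (Ideal.span ({e} : Set S)))) := by
  have hp : (q'.comap (Ideal.Quotient.mk (Ideal.span ({e} : Set S)))).IsPrime :=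
    Ideal.comap_isPrime _ _
  set q := q'.comap (Ideal.Quotient.mk (Ideal.span ({e} : Set S))) with hq
  have heq : e ∈ q := by
    rw [hq, Ideal.mem_comap, Ideal.Quotient.eq_zero_iff_mem.mpr (Ideal.mem_span_singleton_self e)]
    exact q'.zero_mem
  have h1e : 1 - e ∉ q := by
    intro h
    have : (1 : S) ∈ q := by simpa using q.add_mem h heq
    exact hp.ne_top ((Ideal.eq_top_iff_one _).mpr this)
  have he0 : algebraMap S (Localization.AtPrime q) e = 0 := by
    have hu : IsUnit (algebraMap S (Localization.AtPrime q) (1 - e)) :=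
      IsLocalization.map_units (M := q.primeCompl) _ ⟨1 - e, h1e⟩
    have : algebraMap S (Localization.AtPrime q) (1 - e) * algebraMap S (Localization.AtPrime q) e
        = 0 := by
      rw [← map_mul, sub_mul, one_mul, he.eq, sub_self, map_zero]
    exact (hu.mul_right_eq_zero).mp this
  let g : S ⧸ Ideal.span ({e} : Set S) →ₐ[R] Localization.AtPrime q :=
    Ideal.Quotient.liftₐ (Ideal.span ({e} : Set S))
      (IsScalarTower.toAlgHom R S (Localization.AtPrime q)) (by
        intro a ha
        obtain ⟨c, rfl⟩ := Ideal.mem_span_singleton'.mp ha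
        simp [he0])
  have hg : ∀ a : S, g (Ideal.Quotient.mk (Ideal.span ({e} : Set S)) a) =
      algebraMap S (Localization.AtPrime q) a :=
    fun a => rfl
  have hgu : ∀ y : q'.primeCompl, IsUnit (g y) := by
    rintro ⟨y, hy⟩
    obtain ⟨a, rfl⟩ := Ideal.Quotient.mk_surjective y
    rw [hg]
    exact IsLocalization.map_units (M := q.primeCompl) _ ⟨a, hy⟩
  let f : Localization.AtPrime q' →ₐ[R] Localization.AtPrime q :=
    IsLocalization.liftAlgHom (M := q'.primeCompl) (f := g) hgu
  have hf : ∀ y, f (algebraMap _ _ y) = g y := fun y => by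
    simp [f]
  refine Algebra.QuasiFinite.of_forall_exists_mul_mem_range f fun x => ?_
  obtain ⟨a, ⟨s, hs⟩, rfl⟩ := IsLocalization.exists_mk'_eq q.primeCompl x
  refine ⟨algebraMap _ _ (Ideal.Quotient.mk (Ideal.span ({e} : Set S)) s), ?_,
    algebraMap _ _ (Ideal.Quotient.mk (Ideal.span ({e} : Set S)) a), ?_⟩
  · rw [hf, hg]
    exact IsLocalization.map_units (M := q.primeCompl) _ ⟨s, hs⟩
  · rw [hf, hg]
    change f _ = _
    rw [hf, hg]
    exact (IsLocalization.mk'_spec _ a ⟨s, hs⟩).symm

end Groth.Agent.Lib.Helper8
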