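import Mathlib
import Groth.Agent.Lib.Helper8.HenselSplit
import Groth.Agent.Lib.Helper8.HenselFactor

/-!
# Lifting factorisations of arbitrary polynomials over a henselian local ring
-/

open IsLocalRing Polynomial

universe u

namespace Groth.Agent.Lib.Helper8

lemma map_maximalIdeal_le_jacobson (R A : Type*) [CommRing R] [IsLocalRing R] [CommRing A]
    [Algebra R A] [Algebra.IsIntegral R A] :
    (maximalIdeal R).map (algebraMap R A) ≤ Ideal.jacobson ⊥ := by
  rw [Ideal.jacobson]
  refine le_sInf fun M ⟨_, hM⟩ => ?_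
  rw [Ideal.map_le_iff_le_comap]
  have : (M.comap (algebraMap R A)).IsMaximal :=
    Ideal.isMaximal_comap_of_isIntegral_of_isMaximal M
  exact (IsLocalRing.eq_maximalIdeal this).ge

theorem exists_idempotent_sub_mem (R : Type u) [CommRing R] [HenselianLocalRing R]
    (A : Type u) [CommRing A] [Algebra R A] [Module.Finite R A] (a : A)
    (ha : a * a - a ∈ (maximalIdeal R).map (algebraMap R A)) :
    ∃ e : A, IsIdempotentElem e ∧ e - a ∈ (maximalIdeal R).map (algebraMap R A) := by
  obtain ⟨e, he, hM⟩ := exists_idempotent_notMem_iff R A {M | a ∉ M}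
  refine ⟨e, he, ?_⟩
  have : Algebra.IsIntegral R A := Algebra.IsIntegral.of_finite R A
  have hjac : e - a ∈ Ideal.jacobson (⊥ : Ideal A) := by
    rw [Ideal.jacobson, Ideal.mem_sInf]
    rintro M ⟨_, hMmax⟩
    have hmM : (maximalIdeal R).map (algebraMap R A) ≤ M := by
      rw [Ideal.map_le_iff_le_comap]
      have : (M.comap (algebraMap R A)).IsMaximal :=
        Ideal.isMaximal_comap_of_isIntegral_of_isMaximal M
      exact (IsLocalRing.eq_maximalIdeal this).ge
    have h1 : a * (a - 1) ∈ M := by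
      have := hmM ha
      have h : a * (a - 1) = a * a - a := by ring
      rwa [h]
    have h2 : e * (e - 1) ∈ M := by
      rw [mul_sub, he.eq, mul_one, sub_self]; exact M.zero_mem
    by_cases haM : a ∈ M
    · have : e ∈ M := by
        by_contra h
        exact ((hM M hMmax).mp h) haM
      exact M.sub_mem this haM
    · have heM : e ∉ M := (hM M hMmax).mpr haM
      have h3 : a - 1 ∈ M := (hMmax.isPrime.mem_or_mem h1).resolve_left haM
      have h4 : e - 1 ∈ M := (hMmax.isPrime.mem_or_mem h2).resolve_left heM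
      have : e - a = (e - 1) - (a - 1) := by ring
      rw [this]; exact M.sub_mem h4 h3
  have hu : IsUnit (1 - (e - a) ^ 2) := by
    have := Ideal.mem_jacobson_bot.mp hjac (-(e - a))
    have h : (e - a) * -(e - a) + 1 = 1 - (e - a) ^ 2 := by ring
    rwa [h] at this
  have hprod : (e - a) * (1 - (e - a) ^ 2) ∈ (maximalIdeal R).map (algebraMap R A) := by
    have : (e - a) * (1 - (e - a) ^ 2) = (1 + a - 3 * e) * (a * a - a) := by
      linear_combination (3 * a - e - 1) * he.eq
    rw [this]; exact Ideal.mul_mem_left _ _ ha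
  obtain ⟨u, hu⟩ := hu
  have : e - a = (e - a) * (1 - (e - a) ^ 2) * ↑u⁻¹ := by
    rw [← hu, mul_assoc, Units.mul_inv, mul_one]
  rw [this]; exact Ideal.mul_mem_right _ _ hprod

theorem finite_adjoinRoot_quotient (R : Type u) [CommRing R] [IsLocalRing R] (f : R[X])
    (hf : f.map (residue R) ≠ 0) :
    Module.Finite R (AdjoinRoot f ⧸ (maximalIdeal R).map (algebraMap R (AdjoinRoot f))) := by
  set I : Ideal (AdjoinRoot f) := (maximalIdeal R).map (algebraMap R (AdjoinRoot f)) with hI
  set x' : AdjoinRoot f ⧸ I := Ideal.Quotient.mk I (AdjoinRoot.root f) with hx'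
  set lc := (f.map (residue R)).leadingCoeff with hlcdef
  have hlc : lc ≠ 0 := leadingCoeff_ne_zero.mpr hf
  obtain ⟨c, hc⟩ := residue_surjective lc⁻¹
  have hmonic : (C lc⁻¹ * f.map (residue R)).Monic :=
    monic_C_mul_of_mul_leadingCoeff_eq_one (inv_mul_cancel₀ hlc)
  have hlifts : C lc⁻¹ * f.map (residue R) ∈ lifts (residue R) :=
    ⟨C c * f, by simp [hc]⟩
  obtain ⟨F, hFmap, -, hFmonic⟩ := lifts_and_natDegree_eq_and_monic hlifts hmonic
  have hk : (F - C c * f).map (residue R) = 0 := by simp [hFmap, hc]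
  have hFx : aeval (AdjoinRoot.root f) F ∈ I := by
    have := aeval_mem_smul_top_of_map_eq_zero _ hk (AdjoinRoot.root f)
    rw [Ideal.smul_top_eq_map, Submodule.restrictScalars_mem] at this
    have h2 : aeval (AdjoinRoot.root f) (F - C c * f) = aeval (AdjoinRoot.root f) F := by
      rw [map_sub, map_mul, AdjoinRoot.aeval_eq f, AdjoinRoot.mk_self, mul_zero, sub_zero]
    rwa [h2] at this
  have hint : IsIntegral R x' := by
    refine ⟨F, hFmonic, ?_⟩
    rw [← aeval_def, hx']
    have : aeval (Ideal.Quotient.mkₐ R I (AdjoinRoot.root f)) F =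
        Ideal.Quotient.mkₐ R I (aeval (AdjoinRoot.root f) F) :=
      aeval_algHom_apply _ _ _
    change aeval (Ideal.Quotient.mkₐ R I (AdjoinRoot.root f)) F = 0
    rw [this]
    exact Ideal.Quotient.eq_zero_iff_mem.mpr hFx
  have hadj : Algebra.adjoin R {x'} = ⊤ := by
    have h1 := AdjoinRoot.adjoinRoot_eq_top (f := f)
    have h2 : (Algebra.adjoin R {AdjoinRoot.root f}).map (Ideal.Quotient.mkₐ R I) = ⊤ := by
      rw [h1, Algebra.map_top, AlgHom.range_eq_top]
      exact Ideal.Quotient.mkₐ_surjective R I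
    rw [AlgHom.map_adjoin, Set.image_singleton] at h2
    exact h2
  exact ⟨by rw [← Algebra.top_toSubmodule, ← hadj]; exact hint.fg_adjoin_singleton⟩

theorem quasiFiniteAt_adjoinRoot (R : Type u) [CommRing R] [IsLocalRing R] (f : R[X])
    (hf : f.map (residue R) ≠ 0) (q : Ideal (AdjoinRoot f)) [q.IsPrime]
    (hq : q.LiesOver (maximalIdeal R)) : Algebra.QuasiFiniteAt R q := by
  have hfin := finite_adjoinRoot_quotient R f hf
  have hw : Algebra.WeaklyQuasiFiniteAt R q := by
    unfold Algebra.WeaklyQuasiFiniteAt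
    have : Module.Finite R (AdjoinRoot f ⧸ (q.under R).map (algebraMap R (AdjoinRoot f))) := by
      rwa [← hq.over]
    infer_instance
  exact Algebra.QuasiFiniteAt.of_weaklyQuasiFiniteAt q

theorem exists_idempotent_finite_sub_mem (R : Type u) [CommRing R] [HenselianLocalRing R]
    (T : Type u) [CommRing T] [Algebra R T] [Algebra.FiniteType R T]
    (hT : ∀ (q : Ideal T) [q.IsPrime], q.LiesOver (maximalIdeal R) → Algebra.QuasiFiniteAt R q)
    (a : T) (ha : a * a - a ∈ (maximalIdeal R).map (algebraMap R T)) :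
    ∃ E : T, IsIdempotentElem E ∧ Module.Finite R (T ⧸ Ideal.span ({1 - E} : Set T)) ∧
      E - a ∈ (maximalIdeal R).map (algebraMap R T) := by
  obtain ⟨e₁, he₁, hfin₁, hq⟩ := exists_idempotent_finite_of_finiteType R T
  set I : Ideal T := (maximalIdeal R).map (algebraMap R T) with hI
  have he₁' : IsIdempotentElem (1 - e₁) := he₁.one_sub
  have h0 : e₁ * (1 - e₁) = 0 := by rw [mul_sub, mul_one, he₁.eq, sub_self]
  -- Step 1
  have h1 : 1 - e₁ ∈ I := by
    have hrad : 1 - e₁ ∈ I.radical := by
      rw [Ideal.radical_eq_sInf, Ideal.mem_sInf]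
      rintro q ⟨hIq, hqp⟩
      have hlies : q.LiesOver (maximalIdeal R) := by
        constructor
        have h1 : maximalIdeal R ≤ q.under R := by
          intro c hc
          rw [Ideal.under_def, Ideal.mem_comap]
          exact hIq (Ideal.mem_map_of_mem _ hc)
        have h2 : q.under R ≠ ⊤ := by
          intro h
          have : (1 : R) ∈ q.under R := h ▸ Submodule.mem_top
          rw [Ideal.under_def, Ideal.mem_comap, map_one] at this
          exact hqp.ne_top ((Ideal.eq_top_iff_one _).mpr this)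
        exact (maximalIdeal.isMaximal R).eq_of_le h2 h1
      have := hq q hlies (hT q hlies)
      have h3 : e₁ * (1 - e₁) ∈ q := by rw [h0]; exact q.zero_mem
      exact (hqp.mem_or_mem h3).resolve_left this
    obtain ⟨n, hn⟩ := hrad
    rcases n with _ | n
    · rw [pow_zero] at hn
      rw [(Ideal.eq_top_iff_one _).mpr hn]; trivial
    · rwa [he₁'.pow_succ_eq] at hn
  -- Step 2
  set J : Ideal T := Ideal.span ({1 - e₁} : Set T) with hJ
  have hJI : J ≤ I := by
    rw [hJ, Ideal.span_le]
    intro y hy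
    rw [Set.mem_singleton_iff.mp hy]; exact h1
  have hmap : (maximalIdeal R).map (algebraMap R (T ⧸ J)) = I.map (Ideal.Quotient.mk J) := by
    rw [hI, Ideal.map_map]
    rfl
  have ha₁ : (Ideal.Quotient.mk J a) * (Ideal.Quotient.mk J a) - Ideal.Quotient.mk J a ∈
      (maximalIdeal R).map (algebraMap R (T ⧸ J)) := by
    rw [hmap, ← map_mul, ← map_sub]
    exact Ideal.mem_map_of_mem _ ha
  obtain ⟨E₁, hE₁, hE₁a⟩ := exists_idempotent_sub_mem R (T ⧸ J) _ ha₁
  obtain ⟨E', rfl⟩ := Ideal.Quotient.mk_surjective E₁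
  -- Step 3
  have hE'J : E' * E' - E' ∈ J := by
    rw [← Ideal.Quotient.eq, map_mul]; exact hE₁.eq
  obtain ⟨c, hc⟩ := Ideal.mem_span_singleton'.mp hE'J
  have hE'I : E' - a ∈ I := by
    rw [hmap, ← map_sub] at hE₁a
    have := (Ideal.mem_map_iff_of_surjective _ Ideal.Quotient.mk_surjective).mp hE₁a
    obtain ⟨y, hy, hy'⟩ := this
    have : y - (E' - a) ∈ J := by rw [← Ideal.Quotient.eq]; exact hy'
    have h2 : E' - a = y - (y - (E' - a)) := by ring
    rw [h2]
    exact I.sub_mem hy (hJI this)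
  refine ⟨E' * e₁, ?_, ?_, ?_⟩
  · have : E' * e₁ * (E' * e₁) = (E' * E') * (e₁ * e₁) := by ring
    rw [IsIdempotentElem, this, he₁.eq]
    have h3 : E' * E' = E' + c * (1 - e₁) := by rw [hc]; ring
    rw [h3, add_mul, mul_assoc, mul_comm (1 - e₁) e₁, h0, mul_zero, add_zero]
  · have hle : J ≤ Ideal.span ({1 - E' * e₁} : Set T) := by
      rw [hJ, Ideal.span_le]
      intro y hy
      rw [Set.mem_singleton_iff.mp hy, SetLike.mem_coe, Ideal.mem_span_singleton]
      refine ⟨1 - e₁, ?_⟩
      have : (1 - E' * e₁) * (1 - e₁) = (1 - e₁) - E' * (e₁ * (1 - e₁)) := by ring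
      rw [this, h0, mul_zero, sub_zero]
    exact Module.Finite.of_surjective (Ideal.Quotient.factorₐ R hle).toLinearMap
      (Ideal.Quotient.factor_surjective hle)
  · have : E' * e₁ - a = (E' - a) - E' * (1 - e₁) := by ring
    rw [this]
    exact I.sub_mem hE'I (I.mul_mem_left _ h1)

/-- `mk f p ∈ m T` when `p` reduces to zero. -/
lemma mk_mem_map_of_map_eq_zero {R : Type*} [CommRing R] [IsLocalRing R] (f p : R[X])
    (hp : p.map (residue R) = 0) :
    AdjoinRoot.mk f p ∈ (maximalIdeal R).map (algebraMap R (AdjoinRoot f)) := by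
  have := aeval_mem_smul_top_of_map_eq_zero p hp (AdjoinRoot.root f)
  rwa [Ideal.smul_top_eq_map, Submodule.restrictScalars_mem, AdjoinRoot.aeval_eq] at this

theorem factor_lift_of_henselian (R : Type u) [CommRing R] [HenselianLocalRing R]
    (f : R[X]) (g₀ h₀ : (ResidueField R)[X]) (hg : g₀.Monic)
    (hc : IsCoprime g₀ h₀) (hf : f.map (residue R) = g₀ * h₀) :
    ∃ g h : R[X], f = g * h ∧ g.Monic ∧ g.map (residue R) = g₀ ∧ h.map (residue R) = h₀ := by
  by_cases hh0 : h₀ = 0
  · subst hh0
    have hu : IsUnit g₀ := by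
      obtain ⟨u, v, huv⟩ := hc
      rw [mul_zero, add_zero] at huv
      exact IsUnit.of_mul_eq_one _ (by rwa [mul_comm] at huv)
    have : g₀ = 1 := hg.eq_one_of_isUnit hu
    subst this
    exact ⟨1, f, by rw [one_mul], monic_one, Polynomial.map_one _, by rw [hf, mul_zero]⟩
  have hf0 : f.map (residue R) ≠ 0 := by rw [hf]; exact mul_ne_zero hg.ne_zero hh0
  obtain ⟨u₀, v₀, huv⟩ := hc
  obtain ⟨u, rfl⟩ := map_surjective (residue R) residue_surjective u₀
  obtain ⟨v, rfl⟩ := map_surjective (residue R) residue_surjective v₀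
  obtain ⟨g', hg'⟩ := map_surjective (residue R) residue_surjective g₀
  obtain ⟨h', hh'⟩ := map_surjective (residue R) residue_surjective h₀
  set T := AdjoinRoot f with hT
  set I : Ideal T := (maximalIdeal R).map (algebraMap R T) with hI
  -- the reduction map
  have hψ0 : eval₂ ((AdjoinRoot.of (f.map (residue R))).comp (residue R))
      (AdjoinRoot.root (f.map (residue R))) f = 0 := by
    rw [← eval₂_map, AdjoinRoot.eval₂_root]
  set ψ : T →+* AdjoinRoot (f.map (residue R)) := AdjoinRoot.lift _ _ hψ0 with hψ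
  have hψmk : ∀ P : R[X], ψ (AdjoinRoot.mk f P) = AdjoinRoot.mk _ (P.map (residue R)) := by
    intro P
    rw [hψ, AdjoinRoot.lift_mk, ← eval₂_map, ← AdjoinRoot.aeval_eq, aeval_def,
      AdjoinRoot.algebraMap_eq]
  have hψI : ∀ t ∈ I, ψ t = 0 := by
    have : I ≤ RingHom.ker ψ := by
      rw [hI, Ideal.map_le_iff_le_comap]
      intro c hc
      rw [Ideal.mem_comap, RingHom.mem_ker, AdjoinRoot.algebraMap_eq, hψ, AdjoinRoot.lift_of,
        RingHom.comp_apply, (residue_eq_zero_iff c).mpr hc, map_zero]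
    exact fun t ht => this ht
  -- the approximate idempotent
  set a : T := AdjoinRoot.mk f (v * h') with ha
  have haI : a * a - a ∈ I := by
    have hk : ((v * h') * (v * h') - v * h' + u * v * f).map (residue R) = 0 := by
      simp only [Polynomial.map_add, Polynomial.map_sub, Polynomial.map_mul, hh', hf]
      linear_combination (map (residue R) v * h₀) * huv
    have := mk_mem_map_of_map_eq_zero f _ hk
    rw [map_add, map_sub, map_mul, map_mul (AdjoinRoot.mk f) (u * v) f, AdjoinRoot.mk_self,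
      mul_zero, add_zero] at this
    exact this
  obtain ⟨E, hE, hfinE, hEa⟩ := exists_idempotent_finite_sub_mem R T
    (fun q _ hq => quasiFiniteAt_adjoinRoot R f hf0 q hq) a haI
  -- the finite quotient
  set K : Ideal T := Ideal.span ({1 - E} : Set T) with hK
  set xM : T ⧸ K := Ideal.Quotient.mk K (AdjoinRoot.root f) with hxM
  have haevalM : ∀ p : R[X], aeval xM p = Ideal.Quotient.mk K (AdjoinRoot.mk f p) := by
    intro p
    rw [← AdjoinRoot.aeval_eq]
    exact aeval_algHom_apply (Ideal.Quotient.mkₐ R K) (AdjoinRoot.root f) p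
  -- `m M` as an ideal
  obtain ⟨IM, hIM⟩ : ∃ IM : Ideal (T ⧸ K), IM = (maximalIdeal R).map (algebraMap R (T ⧸ K)) :=
    ⟨_, rfl⟩
  have hmapM : IM = I.map (Ideal.Quotient.mk K) := by
    rw [hIM, hI, Ideal.map_map]; rfl
  have hkerM : ∀ p : R[X], p.map (residue R) = 0 → aeval xM p ∈ IM := by
    intro p hp
    rw [haevalM, hmapM]
    exact Ideal.mem_map_of_mem _ (mk_mem_map_of_map_eq_zero f p hp)
  -- `g'(x) ∈ m M`
  have hg'M : aeval xM g' ∈ IM := by
    have h1 : (1 : T ⧸ K) - Ideal.Quotient.mk K a ∈ IM := by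
      have h2 : (1 : T ⧸ K) = Ideal.Quotient.mk K E := by
        rw [← map_one (Ideal.Quotient.mk K), Ideal.Quotient.eq]
        exact Ideal.mem_span_singleton_self _
      rw [h2, ← map_sub, hmapM]
      exact Ideal.mem_map_of_mem _ hEa
    have h3 : aeval xM g' * Ideal.Quotient.mk K a ∈ IM := by
      have hk : (v * (g' * h' - f)).map (residue R) = 0 := by
        simp [Polynomial.map_sub, Polynomial.map_mul, hg', hh', hf]
      have := hkerM _ hk
      rw [haevalM] at this ⊢
      rw [ha, ← map_mul, ← map_mul]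
      have h4 : AdjoinRoot.mk f (v * (g' * h' - f)) = AdjoinRoot.mk f (g' * (v * h')) := by
        rw [mul_sub, map_sub, map_mul (AdjoinRoot.mk f) v f, AdjoinRoot.mk_self, mul_zero,
          sub_zero]
        congr 1; ring
      rwa [h4] at this
    have h5 : aeval xM g' = aeval xM g' * Ideal.Quotient.mk K a +
        aeval xM g' * (1 - Ideal.Quotient.mk K a) := by ring
    rw [h5]
    exact IM.add_mem h3 (IM.mul_mem_left _ h1)
  set d := g₀.natDegree with hd
  set N : Submodule R (T ⧸ K) := Submodule.map (aeval xM).toLinearMap (degreeLT R d) with hN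
  have hNtop : N = ⊤ := by
    rw [eq_top_iff]
    refine Submodule.le_of_le_smul_of_le_jacobson_bot (Module.finite_def.mp hfinE)
      (IsLocalRing.maximalIdeal_le_jacobson ⊥) ?_
    intro z _
    obtain ⟨t, rfl⟩ := Ideal.Quotient.mk_surjective z
    obtain ⟨p, rfl⟩ := AdjoinRoot.mk_surjective t
    rw [← haevalM, Ideal.smul_top_eq_map, ← hIM]
    set s₀ := p.map (residue R) /ₘ g₀
    set r₀ := p.map (residue R) %ₘ g₀
    obtain ⟨s, hs⟩ := map_surjective (residue R) residue_surjective s₀
    obtain ⟨r, hr, hrdeg⟩ := exists_degree_eq_of_mem_lifts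
      (mem_lifts_of_surjective (f := residue R) residue_surjective r₀)
    have hk : (p - g' * s - r).map (residue R) = 0 := by
      simp only [Polynomial.map_sub, Polynomial.map_mul, hg', hs, hr]
      have := modByMonic_add_div (p.map (residue R)) g₀
      rw [← this]; ring
    have h1 := hkerM _ hk
    have h2 : aeval xM p = aeval xM (p - g' * s - r) + aeval xM g' * aeval xM s + aeval xM r := by
      simp only [map_sub, map_mul]; ring
    rw [h2]
    refine Submodule.add_mem _ (Submodule.add_mem _ (Submodule.mem_sup_right ?_)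
      (Submodule.mem_sup_right ?_)) (Submodule.mem_sup_left ?_)
    · exact h1
    · exact IM.mul_mem_right _ hg'M
    · refine ⟨r, ?_, rfl⟩
      rw [SetLike.mem_coe, mem_degreeLT, hrdeg]
      calc r₀.degree < g₀.degree := degree_modByMonic_lt _ hg
        _ = d := degree_eq_natDegree hg.ne_zero
  have hxd : xM ^ d ∈ N := hNtop ▸ Submodule.mem_top
  obtain ⟨r, hrdeg, hr⟩ := hxd
  rw [SetLike.mem_coe, mem_degreeLT] at hrdeg
  set g : R[X] := X ^ d - r with hgdef
  have hgmonic : g.Monic := monic_X_pow_sub hrdeg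
  have hgdeg : g.natDegree = d := by
    apply natDegree_eq_of_degree_eq_some
    rw [hgdef, degree_sub_eq_left_of_degree_lt (by rwa [degree_X_pow]), degree_X_pow]
  have hgM : aeval xM g = 0 := by
    rw [hgdef, map_sub, map_pow, aeval_X]
    change xM ^ d - aeval xM r = 0
    rw [← hr]; simp
  -- back in `T`
  have hgE : AdjoinRoot.mk f g * E = 0 := by
    rw [haevalM, Ideal.Quotient.eq_zero_iff_mem, hK, Ideal.mem_span_singleton'] at hgM
    obtain ⟨c, hc⟩ := hgM
    rw [← hc, mul_assoc, sub_mul, one_mul, hE.eq, sub_self, mul_zero]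
  obtain ⟨P, hP⟩ := AdjoinRoot.mk_surjective E
  have hdvd : f ∣ g * P := by
    rw [← AdjoinRoot.mk_eq_zero, map_mul, hP]; exact hgE
  obtain ⟨w, hw⟩ := hdvd
  have hw' : g.map (residue R) * P.map (residue R) = g₀ * h₀ * w.map (residue R) := by
    rw [← Polynomial.map_mul, hw, Polynomial.map_mul, hf]
  have hPbar : f.map (residue R) ∣ P.map (residue R) - v.map (residue R) * h₀ := by
    rw [← AdjoinRoot.mk_eq_mk, ← hψmk, hP, ← hh', ← Polynomial.map_mul, ← hψmk]
    have := hψI _ hEa
    rwa [map_sub, sub_eq_zero] at this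
  obtain ⟨t₀, ht₀⟩ := hPbar
  set c₀ := v.map (residue R) + g₀ * t₀ with hc₀
  have hPc : P.map (residue R) = h₀ * c₀ := by
    have : P.map (residue R) = v.map (residue R) * h₀ + f.map (residue R) * t₀ := by
      rw [← ht₀]; ring
    rw [this, hf, hc₀]; ring
  have hgc : g.map (residue R) * c₀ = g₀ * w.map (residue R) := by
    have : h₀ * (g.map (residue R) * c₀) = h₀ * (g₀ * w.map (residue R)) := by
      rw [← mul_assoc, mul_comm h₀, mul_assoc, ← hPc, hw']; ring
    exact mul_left_cancel₀ hh0 this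
  have hcop : IsCoprime g₀ c₀ :=
    ⟨u.map (residue R) - t₀ * h₀, h₀, by rw [hc₀]; linear_combination huv⟩
  have hgbar : g.map (residue R) = g₀ := by
    have hdvd : g₀ ∣ g.map (residue R) :=
      hcop.dvd_of_dvd_mul_right ⟨w.map (residue R), hgc⟩
    exact eq_of_monic_of_dvd_of_natDegree_le hg (hgmonic.map _) hdvd
      (by rw [hgmonic.natDegree_map, hgdeg])
  have hwbar : w.map (residue R) = c₀ := by
    rw [hgbar] at hgc
    exact (mul_left_cancel₀ hg.ne_zero hgc).symm
  -- `g ∣ f`
  have hgf : g ∣ f := by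
    rw [← AdjoinRoot.mk_eq_zero]
    have hfinG : Module.Finite R (AdjoinRoot g) := hgmonic.finite_adjoinRoot
    have : Algebra.IsIntegral R (AdjoinRoot g) := Algebra.IsIntegral.of_finite R _
    obtain ⟨a₀, b₀, hab⟩ := hcop
    obtain ⟨a', ha'⟩ := map_surjective (residue R) residue_surjective a₀
    obtain ⟨b', hb'⟩ := map_surjective (residue R) residue_surjective b₀
    have hk : (b' * w + a' * g - 1).map (residue R) = 0 := by
      simp only [Polynomial.map_sub, Polynomial.map_add, Polynomial.map_mul, Polynomial.map_one,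
        ha', hb', hwbar, hgbar]
      rw [← hab]; ring
    have h1 := mk_mem_map_of_map_eq_zero g _ hk
    rw [map_sub, map_add, map_mul (AdjoinRoot.mk g) a' g, AdjoinRoot.mk_self, mul_zero, add_zero,
      map_one] at h1
    have h2 := Ideal.mem_jacobson_bot.mp (map_maximalIdeal_le_jacobson R (AdjoinRoot g) h1) 1
    rw [mul_one, sub_add_cancel] at h2
    have h3 : AdjoinRoot.mk g f * AdjoinRoot.mk g (b' * w) = 0 := by
      rw [← map_mul]
      have : f * (b' * w) = g * (b' * P) := by rw [mul_left_comm, ← hw]; ring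
      rw [this, map_mul, AdjoinRoot.mk_self, zero_mul]
    exact (h2.mul_left_eq_zero).mp h3
  obtain ⟨h, hfh⟩ := hgf
  refine ⟨g, h, hfh, hgmonic, hgbar, ?_⟩
  have : g₀ * h.map (residue R) = g₀ * h₀ := by
    rw [← hf, hfh, Polynomial.map_mul, hgbar]
  exact mul_left_cancel₀ hg.ne_zero this

end Groth.Agent.Lib.Helper8
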