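import Mathlib
import Groth.Agent.Lib.Helper5.HenselLift
import Groth.Agent.S2782

/-!
# Maps from étale algebras to henselian local rings
-/

open IsLocalRing TensorProduct

universe u

namespace Groth.Agent.Lib.Helper8

/-- Maps from an étale algebra to a henselian local algebra correspond bijectively to maps to its
residue field. -/
theorem algHom_residue_bijective (R C B : Type u) [CommRing R] [CommRing C] [Algebra R C]
    [Algebra.Etale R C] [CommRing B] [HenselianLocalRing B] [Algebra R B] :
    Function.Bijective (fun f : C →ₐ[R] B => (IsScalarTower.toAlgHom R B (ResidueField B)).comp f) := by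
  constructor
  · intro f f' h
    apply Groth.Agent.S2782.algHom_eq_of_residue_eq_of_unramified R C B
    intro x
    exact DFunLike.congr_fun h x
  · intro χ
    have hq : (RingHom.ker χ.toRingHom).IsPrime := RingHom.ker_isPrime _
    obtain ⟨φ, hφ⟩ := Groth.Agent.Lib.Helper5.exists_algHom_localization_of_etale (A := R) (C := C)
      (B := B) (RingHom.ker χ.toRingHom) χ (fun c hc h0 => hc h0)
    refine ⟨φ.comp (IsScalarTower.toAlgHom R C (Localization.AtPrime (RingHom.ker χ.toRingHom))), ?_⟩
    ext c
    exact hφ c

/-- A map from an étale algebra over a separably closed field to a field has image in the base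
field. -/
theorem algHom_mem_bot_of_etale_sepClosed (K A L : Type*) [Field K] [IsSepClosed K] [CommRing A]
    [Algebra K A] [Algebra.EssFiniteType K A] [Algebra.FormallyEtale K A] [Field L] [Algebra K L]
    (ψ : A →ₐ[K] L) (a : A) : ψ a ∈ (⊥ : Subalgebra K L) := by
  classical
  let e := Algebra.FormallyEtale.equivPiOfIsSepClosed K A
  have : Algebra.FormallyUnramified K A := inferInstance
  have := Algebra.FormallyUnramified.finite_of_free K A
  have : IsArtinianRing A := isArtinian_of_tower K inferInstance
  have : Fintype (PrimeSpectrum A) := Fintype.ofFinite _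
  let ψ' : (PrimeSpectrum A → K) →ₐ[K] L := ψ.comp e.symm.toAlgHom
  have h1 : ψ a = ψ' (e a) := by simp [ψ']
  rw [h1]
  have h2 : e a = ∑ i, (e a i) • (Pi.single i (1 : K) : PrimeSpectrum A → K) := by
    ext j
    simp [Finset.sum_apply, Pi.single_apply]
  rw [h2, map_sum]
  refine Subalgebra.sum_mem _ fun i _ => ?_
  rw [map_smul]
  refine Subalgebra.smul_mem _ ?_ _
  have hid : IsIdempotentElem (ψ' (Pi.single i (1 : K))) := by
    rw [IsIdempotentElem, ← map_mul, ← Pi.single_mul, mul_one]
  rcases IsIdempotentElem.iff_eq_zero_or_one.mp hid with h | h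
  · rw [h]; exact Subalgebra.zero_mem _
  · rw [h]; exact Subalgebra.one_mem _

/-- Solutions of an étale square system correspond under a local map of strictly henselian local
rings. -/
theorem etale_solutions_bijOn (R : Type u) [CommRing R]
    [HenselianLocalRing R] [IsSepClosed (ResidueField R)] (S : Type u) [CommRing S]
    [HenselianLocalRing S] (φ : R →+* S) [IsLocalHom φ] (n : ℕ)
    (P : Fin n → MvPolynomial (Fin n) R)
    [Algebra.Etale R (MvPolynomial (Fin n) R ⧸ Ideal.span (Set.range P))] :
    Set.BijOn (fun r : Fin n → R => φ ∘ r)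
      {r : Fin n → R | ∀ i, MvPolynomial.eval r (P i) = 0}
      {s : Fin n → S | ∀ i, MvPolynomial.eval s (MvPolynomial.map φ (P i)) = 0} := by
  letI : Algebra R S := φ.toAlgebra
  have hloc : IsLocalHom (algebraMap R S) := ‹IsLocalHom φ›
  set J : Ideal (MvPolynomial (Fin n) R) := Ideal.span (Set.range P) with hJ
  -- evaluation at a solution, as an algebra map from the quotient
  have key : ∀ (B : Type u) [CommRing B] [Algebra R B] (b : Fin n → B)
      (hb : ∀ i, MvPolynomial.aeval b (P i) = 0),
      ∃ f : (MvPolynomial (Fin n) R ⧸ J) →ₐ[R] B, ∀ p, f (Ideal.Quotient.mk J p) =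
        MvPolynomial.aeval b p := by
    intro B _ _ b hb
    refine ⟨Ideal.Quotient.liftₐ J (MvPolynomial.aeval b) ?_, fun p => rfl⟩
    intro a ha
    have : J ≤ RingHom.ker (MvPolynomial.aeval b : MvPolynomial (Fin n) R →ₐ[R] B) := by
      rw [hJ, Ideal.span_le]
      rintro _ ⟨i, rfl⟩
      exact hb i
    exact this ha
  have haevalS : ∀ (s : Fin n → S) (p : MvPolynomial (Fin n) R),
      MvPolynomial.aeval s p = MvPolynomial.eval s (MvPolynomial.map φ p) := by
    intro s p
    rw [MvPolynomial.eval_map]; rfl
  have haevalR : ∀ (r : Fin n → R) (p : MvPolynomial (Fin n) R),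
      MvPolynomial.aeval r p = MvPolynomial.eval r p := by
    intro r p
    rfl
  have hφeval : ∀ (r : Fin n → R) (p : MvPolynomial (Fin n) R),
      φ (MvPolynomial.eval r p) = MvPolynomial.aeval (φ ∘ r) p := by
    intro r p
    rw [haevalS, MvPolynomial.eval_map, MvPolynomial.eval₂_comp]
  have hresinj : Function.Injective (ResidueField.map φ) := (ResidueField.map φ).injective
  refine ⟨?_, ?_, ?_⟩
  · intro r hr i
    rw [Set.mem_ofPred_eq] at hr
    change MvPolynomial.eval (φ ∘ r) (MvPolynomial.map φ (P i)) = 0
    rw [← haevalS, ← hφeval, hr i, map_zero]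
  · intro r hr r' hr' hrr'
    rw [Set.mem_ofPred_eq] at hr hr'
    obtain ⟨f, hf⟩ := key R r (fun i => by rw [haevalR]; exact hr i)
    obtain ⟨f', hf'⟩ := key R r' (fun i => by rw [haevalR]; exact hr' i)
    have hff' : f = f' := by
      apply Groth.Agent.S2782.algHom_eq_of_residue_eq_of_unramified R _ R
      intro x
      obtain ⟨p, rfl⟩ := Ideal.Quotient.mk_surjective x
      rw [hf, hf', haevalR, haevalR]
      apply hresinj
      rw [ResidueField.map_residue, ResidueField.map_residue, hφeval, hφeval]
      exact congrArg (fun t => residue S (MvPolynomial.aeval t p)) hrr'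
    funext j
    have h1 := hf (MvPolynomial.X j)
    have h2 := hf' (MvPolynomial.X j)
    rw [MvPolynomial.aeval_X] at h1 h2
    rw [← h1, ← h2, hff']
  · intro s hs
    rw [Set.mem_ofPred_eq] at hs
    obtain ⟨fs, hfs⟩ := key S s (fun i => by rw [haevalS]; exact hs i)
    set χs : (MvPolynomial (Fin n) R ⧸ J) →ₐ[R] ResidueField S :=
      (IsScalarTower.toAlgHom R S (ResidueField S)).comp fs with hχs
    let ψ : ResidueField R ⊗[R] (MvPolynomial (Fin n) R ⧸ J) →ₐ[ResidueField R] ResidueField S :=
      Algebra.TensorProduct.lift (Algebra.ofId _ _) χs (fun _ _ => Commute.all _ _)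
    let ι : ResidueField R →ₐ[R] ResidueField S := IsScalarTower.toAlgHom R _ _
    have hιinj : Function.Injective ι := (algebraMap (ResidueField R) (ResidueField S)).injective
    have hrange : ∀ c, χs c ∈ ι.range := by
      intro c
      have h1 : χs c = ψ ((1 : ResidueField R) ⊗ₜ[R] c) := by simp [ψ]
      have h2 := algHom_mem_bot_of_etale_sepClosed (ResidueField R) _ (ResidueField S) ψ ((1 : ResidueField R) ⊗ₜ[R] c)
      rw [← h1] at h2
      obtain ⟨y, hy⟩ := Algebra.mem_bot.mp h2
      exact ⟨y, hy⟩
    let χ : (MvPolynomial (Fin n) R ⧸ J) →ₐ[R] ResidueField R :=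
      (AlgEquiv.ofInjective ι hιinj).symm.toAlgHom.comp (χs.codRestrict ι.range hrange)
    have hχ : ∀ c, ι (χ c) = χs c := by
      intro c
      have := (AlgEquiv.ofInjective ι hιinj).apply_symm_apply (χs.codRestrict ι.range hrange c)
      exact congrArg Subtype.val this
    obtain ⟨f, hf⟩ := (algHom_residue_bijective R (MvPolynomial (Fin n) R ⧸ J) R).2 χ
    have hf' : ∀ c, residue R (f c) = χ c := fun c => DFunLike.congr_fun hf c
    set r : Fin n → R := fun j => f (Ideal.Quotient.mk J (MvPolynomial.X j)) with hr
    have hfr : ∀ p, f (Ideal.Quotient.mk J p) = MvPolynomial.eval r p := by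
      intro p
      have : (f.comp (Ideal.Quotient.mkₐ R J)) = MvPolynomial.aeval r := by
        apply MvPolynomial.algHom_ext
        intro j
        simp [hr]
      exact DFunLike.congr_fun this p
    have hrsol : ∀ i, MvPolynomial.eval r (P i) = 0 := by
      intro i
      rw [← hfr, Ideal.Quotient.eq_zero_iff_mem.mpr (Ideal.subset_span (Set.mem_range_self i)), map_zero]
    refine ⟨r, hrsol, ?_⟩
    have heq : (Algebra.ofId R S).comp f = fs := by
      apply Groth.Agent.S2782.algHom_eq_of_residue_eq_of_unramified R _ S
      intro x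
      have h1 : residue S (fs x) = χs x := rfl
      rw [h1, ← hχ, ← hf']
      rfl
    funext j
    have h1 := DFunLike.congr_fun heq (Ideal.Quotient.mk J (MvPolynomial.X j))
    rw [hfs, MvPolynomial.aeval_X] at h1
    rw [← h1]
    rfl

end Groth.Agent.Lib.Helper8
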