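import Mathlib

/-!
# A local ring whose monogenic finite free algebras split into local rings is henselian
-/

set_option autoImplicit false

open Polynomial IsLocalRing

namespace Groth.Agent.Lib.Helper8

universe u

set_option maxHeartbeats 1600000 in
theorem henselian_of_adjoinRoot_pi_local (R : Type u) [CommRing R] [IsLocalRing R]
    (h : ∀ F : R[X], F.Monic →
      ∃ (ι : Type u) (_ : Fintype ι) (A : ι → Type u) (_ : ∀ i, CommRing (A i)),
        (∀ i, IsLocalRing (A i)) ∧ Nonempty (AdjoinRoot F ≃+* (∀ i, A i))) :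
    HenselianLocalRing R := by
  refine ⟨fun F hF a₀ h₁ h₂ => ?_⟩
  obtain ⟨ι, _, A, _, hloc, ⟨e⟩⟩ := h F hF
  classical
  have hψ0 : eval₂ (residue R) (residue R a₀) F = 0 := by
    rw [eval₂_at_apply]
    exact (residue_eq_zero_iff _).mpr h₁
  let ψ : AdjoinRoot F →+* ResidueField R := AdjoinRoot.lift (residue R) (residue R a₀) hψ0
  have hψmk : ∀ p : R[X], ψ (AdjoinRoot.mk F p) = residue R (p.eval a₀) := by
    intro p
    rw [AdjoinRoot.lift_mk, eval₂_at_apply]
  have hψof : ∀ r, ψ (AdjoinRoot.of F r) = residue R r := fun r => AdjoinRoot.lift_of _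
  have hψsurj : Function.Surjective ψ := by
    intro t
    obtain ⟨r, rfl⟩ := residue_surjective t
    exact ⟨AdjoinRoot.of F r, hψof r⟩
  -- the idempotents of the decomposition
  let δ : ι → AdjoinRoot F := fun i => e.symm (Pi.single i 1)
  have hsum : ∑ i, δ i = 1 := by
    simp only [δ, ← map_sum]
    have h1 : (∑ x, Pi.single x (1 : A x)) = (1 : ∀ i, A i) :=
      Finset.univ_sum_single (1 : ∀ i, A i)
    rw [h1]
    exact map_one _
  have hidem : ∀ i, δ i * δ i = δ i := by
    intro i
    simp only [δ, ← map_mul]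
    congr 1
    rw [← Pi.single_mul, mul_one]
  obtain ⟨i₀, hi₀⟩ : ∃ i₀, ψ (δ i₀) ≠ 0 := by
    by_contra hne
    push Not at hne
    have : ψ 1 = 0 := by
      rw [← hsum, map_sum]
      exact Finset.sum_eq_zero (fun i _ => hne i)
    rw [map_one] at this
    exact one_ne_zero this
  have hi₀1 : ψ (δ i₀) = 1 := by
    have := congrArg ψ (hidem i₀)
    rw [map_mul] at this
    exact mul_left_cancel₀ hi₀ (by rw [this, mul_one])
  have := hloc i₀
  let π : AdjoinRoot F →+* A i₀ := (Pi.evalRingHom A i₀).comp e.toRingHom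
  have hπsurj : Function.Surjective π := by
    intro t
    refine ⟨e.symm (Pi.single i₀ t), ?_⟩
    simp [π]
  have hπδ : ∀ b : AdjoinRoot F, π b = 0 → b * δ i₀ = 0 := by
    intro b hb
    apply e.injective
    rw [map_mul, map_zero]
    simp only [δ, RingEquiv.apply_symm_apply]
    ext j
    by_cases hj : j = i₀
    · subst hj
      have : e b j = 0 := hb
      simp [this]
    · simp [Pi.single_eq_of_ne hj]
  have hK1 : RingHom.ker π ≤ RingHom.ker ψ := by
    intro b hb
    rw [RingHom.mem_ker] at hb ⊢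
    have := congrArg ψ (hπδ b hb)
    rwa [map_mul, hi₀1, mul_one, map_zero] at this
  let ψ₀ : A i₀ →+* ResidueField R := π.liftOfSurjective hπsurj ⟨ψ, hK1⟩
  have hψ₀ : ∀ b, ψ₀ (π b) = ψ b := fun b =>
    RingHom.liftOfRightInverse_comp_apply _ _ _ ⟨ψ, hK1⟩ b
  have hψ₀surj : Function.Surjective ψ₀ := by
    intro t
    obtain ⟨b, rfl⟩ := hψsurj t
    exact ⟨π b, hψ₀ b⟩
  have hker : RingHom.ker ψ₀ = maximalIdeal (A i₀) := ker_eq_maximalIdeal ψ₀ hψ₀surj
  have hunit : ∀ t : A i₀, ψ₀ t ≠ 0 → IsUnit t := by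
    intro t ht
    by_contra hnu
    have : t ∈ maximalIdeal (A i₀) := (mem_maximalIdeal t).mpr hnu
    rw [← hker, RingHom.mem_ker] at this
    exact ht this
  -- the `R`-algebra structure on the local factor
  let c : R →+* A i₀ := π.comp (AdjoinRoot.of F)
  let y : A i₀ := π (AdjoinRoot.root F)
  have hπmk : ∀ p : R[X], π (AdjoinRoot.mk F p) = p.eval₂ c y := by
    intro p
    rw [← AdjoinRoot.aeval_eq, aeval_def, hom_eval₂]
    rfl
  have hFy : F.eval₂ c y = 0 := by rw [← hπmk, AdjoinRoot.mk_self, map_zero]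
  -- division by `X - a₀`
  set G : R[X] := F /ₘ (X - C a₀) with hG
  have hdiv : C (F.eval a₀) + (X - C a₀) * G = F := by
    rw [← modByMonic_X_sub_C_eq_C_eval]; exact modByMonic_add_div F _
  have hGa : G.eval a₀ = F.derivative.eval a₀ := by
    have := congrArg (fun p => (derivative p).eval a₀) hdiv
    simp only [derivative_add, derivative_C, zero_add, derivative_mul, derivative_sub,
      derivative_X, sub_zero, one_mul, eval_add, eval_mul, eval_sub, eval_X, eval_C, sub_self,
      zero_mul, add_zero] at this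
    exact this
  have hGunit : IsUnit (G.eval₂ c y) := by
    apply hunit
    rw [← hπmk, hψ₀, hψmk, hGa]
    exact (residue_ne_zero_iff_isUnit _).mpr h₂
  have hyrel : (y - c a₀) * G.eval₂ c y = - c (F.eval a₀) := by
    have := congrArg (fun p => p.eval₂ c y) hdiv
    simp only [eval₂_add, eval₂_mul, eval₂_sub, eval₂_X, eval₂_C] at this
    rw [hFy] at this
    linear_combination this
  -- algebra structure
  let algA : Algebra R (A i₀) := c.toAlgebra
  have hcalg : ∀ r, algebraMap R (A i₀) r = c r := fun r => rfl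
  let πₗ : AdjoinRoot F →ₐ[R] A i₀ :=
    { π with commutes' := fun r => by rw [AdjoinRoot.algebraMap_eq]; rfl }
  have : Module.Finite R (AdjoinRoot F) := (AdjoinRoot.powerBasis' hF).finite
  have : Module.Finite R (A i₀) := Module.Finite.of_surjective πₗ.toLinearMap hπsurj
  -- `y - a₀` lies in `m A`
  have hyI : y - c a₀ ∈ Ideal.map (algebraMap R (A i₀)) (maximalIdeal R) := by
    obtain ⟨u, hu⟩ := hGunit
    have : y - c a₀ = - c (F.eval a₀) * (↑u⁻¹ : A i₀) := by
      rw [← hyrel, ← hu, mul_assoc, Units.mul_inv, mul_one]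
    rw [this]
    apply Ideal.mul_mem_right
    apply Ideal.neg_mem_iff _ |>.mpr
    exact Ideal.mem_map_of_mem _ h₁
  -- surjectivity of `c` by Nakayama
  have hcsurj : Function.Surjective c := by
    have htop : (⊤ : Submodule R (A i₀)) ≤ LinearMap.range (Algebra.linearMap R (A i₀)) := by
      apply Submodule.le_of_le_smul_of_le_jacobson_bot (I := maximalIdeal R)
        (Module.Finite.fg_top) (IsLocalRing.maximalIdeal_le_jacobson _)
      rintro t -
      obtain ⟨b, rfl⟩ := hπsurj t
      obtain ⟨p, rfl⟩ := AdjoinRoot.mk_surjective b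
      rw [hπmk]
      have hdvd : y - c a₀ ∣ p.eval₂ c y - c (p.eval a₀) := by
        have := sub_dvd_eval_sub y (c a₀) (p.map c)
        rwa [eval_map, eval_map, eval₂_at_apply] at this
      have hmem : p.eval₂ c y - c (p.eval a₀) ∈
          Ideal.map (algebraMap R (A i₀)) (maximalIdeal R) := by
        obtain ⟨w, hw⟩ := hdvd
        rw [hw]
        exact Ideal.mul_mem_right _ _ hyI
      rw [Ideal.smul_top_eq_map]
      have : p.eval₂ c y = c (p.eval a₀) + (p.eval₂ c y - c (p.eval a₀)) := by ring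
      rw [this]
      exact Submodule.add_mem_sup ⟨p.eval a₀, rfl⟩ hmem
    intro t
    obtain ⟨r, hr⟩ := htop (Submodule.mem_top (x := t))
    exact ⟨r, hr⟩
  -- injectivity of `c` by freeness of `AdjoinRoot F`
  have hcinj : Function.Injective c := by
    rw [injective_iff_map_eq_zero]
    intro r hr
    have h0 : r • δ i₀ = 0 := by
      rw [Algebra.smul_def, AdjoinRoot.algebraMap_eq]
      exact hπδ _ hr
    let b := (AdjoinRoot.powerBasis' hF).basis
    have hcoord : ∀ j, r * b.repr (δ i₀) j = 0 := by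
      intro j
      have := congrArg (fun t => b.repr t j) h0
      simpa using this
    obtain ⟨j, hj⟩ : ∃ j, IsUnit (b.repr (δ i₀) j) := by
      by_contra hne
      push Not at hne
      have hψδ : ψ (δ i₀) = 0 := by
        rw [← b.sum_repr (δ i₀), map_sum]
        apply Finset.sum_eq_zero
        intro j _
        rw [Algebra.smul_def, map_mul, AdjoinRoot.algebraMap_eq, hψof]
        have : b.repr (δ i₀) j ∈ maximalIdeal R := (mem_maximalIdeal _).mpr (hne j)
        rw [(residue_eq_zero_iff _).mpr this, zero_mul]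
      rw [hi₀1] at hψδ
      exact one_ne_zero hψδ
    exact (hj.mul_left_eq_zero).mp (hcoord j)
  obtain ⟨a, ha⟩ := hcsurj y
  refine ⟨a, ?_, ?_⟩
  · apply hcinj
    rw [map_zero, ← hFy, ← ha, eval₂_at_apply]
  · rw [← residue_eq_zero_iff, map_sub, sub_eq_zero]
    have h1 : ψ₀ (c a) = residue R a := by
      show ψ₀ (π (AdjoinRoot.of F a)) = _
      rw [hψ₀, hψof]
    have h2 : ψ₀ y = residue R a₀ := by
      show ψ₀ (π (AdjoinRoot.root F)) = _
      rw [hψ₀]
      exact AdjoinRoot.lift_root _
    rw [← h1, ha, h2]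

end Groth.Agent.Lib.Helper8
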