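import Mathlib
import Groth.Agent.Lib.Helper8.HenselHom
import Groth.Agent.Lib.Helper8.HenselFactor2
import Groth.Agent.S0505

/-!
# Maps from étale algebras into finite algebras over a henselian local ring
-/

open IsLocalRing TensorProduct

universe u

namespace Groth.Agent.Lib.Helper8

/-- Two algebra maps from an unramified algebra which agree modulo the Jacobson radical of the
target are equal. -/
theorem algHom_eq_of_sub_mem_jacobson {A C A₂ : Type*} [CommRing A] [CommRing C]
    [Algebra A C] [Algebra.EssFiniteType A C] [Algebra.FormallyUnramified A C]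
    [CommRing A₂] [Algebra A A₂] (φ φ' : C →ₐ[A] A₂)
    (h : ∀ x : C, φ x - φ' x ∈ Ideal.jacobson (⊥ : Ideal A₂)) : φ = φ' := by
  obtain ⟨t, ht₁, ht₂⟩ := (Algebra.FormallyUnramified.iff_exists_tensorProduct (R := A) (S := C)).1
    inferInstance
  let Φ : C ⊗[A] C →ₐ[A] A₂ := Algebra.TensorProduct.lift φ φ' (fun _ _ => Commute.all _ _)
  have hΦ : ∀ c c' : C, Φ (c ⊗ₜ c') = φ c * φ' c' := fun c c' => by
    simp [Φ]
  have hres : ∀ x : C ⊗[A] C,
      Φ x - φ (Algebra.TensorProduct.lmul' A x) ∈ Ideal.jacobson (⊥ : Ideal A₂) := by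
    intro x
    induction x using TensorProduct.induction_on with
    | zero => simp
    | tmul c c' =>
      rw [hΦ, Algebra.TensorProduct.lmul'_apply_tmul, map_mul]
      have : φ c * φ' c' - φ c * φ c' = -(φ c * (φ c' - φ' c')) := by ring
      rw [this]
      exact neg_mem (Ideal.mul_mem_left _ _ (h c'))
    | add x y hx hy =>
      have : Φ (x + y) - φ (Algebra.TensorProduct.lmul' A (x + y)) =
          (Φ x - φ (Algebra.TensorProduct.lmul' A x)) +
            (Φ y - φ (Algebra.TensorProduct.lmul' A y)) := by
        simp only [map_add]; ring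
      rw [this]
      exact add_mem hx hy
  have hunit : IsUnit (Φ t) := by
    have h1 := hres t
    rw [ht₂, map_one] at h1
    have := Ideal.mem_jacobson_bot.mp h1 1
    rwa [mul_one, sub_add_cancel] at this
  apply AlgHom.ext
  intro s
  have h2 := congrArg Φ (ht₁ s)
  rw [map_mul, map_sub, hΦ, hΦ, map_one, map_one, one_mul, mul_one, map_zero] at h2
  have h3 := hunit.mul_left_eq_zero.mp h2
  exact (sub_eq_zero.mp h3).symm

/-- Maps from an étale algebra into a finite algebra over a henselian local ring lift uniquely from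
the closed fibre. -/
theorem algHom_quotient_bijective (R : Type u) [CommRing R] [HenselianLocalRing R]
    (B : Type u) [CommRing B] [Algebra R B] [Module.Finite R B]
    (C : Type u) [CommRing C] [Algebra R C] [Algebra.Etale R C] :
    Function.Bijective (fun f : C →ₐ[R] B =>
      (Ideal.Quotient.mkₐ R ((maximalIdeal R).map (algebraMap R B))).comp f) := by
  classical
  have hint : Algebra.IsIntegral R B := Algebra.IsIntegral.of_finite R B
  set I : Ideal B := (maximalIdeal R).map (algebraMap R B) with hI
  have hIjac : I ≤ Ideal.jacobson ⊥ := map_maximalIdeal_le_jacobson R B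
  constructor
  · intro f f' h
    apply algHom_eq_of_sub_mem_jacobson
    intro x
    apply hIjac
    rw [← Ideal.Quotient.eq]
    exact DFunLike.congr_fun h x
  · intro g
    obtain ⟨ι, hι, Bj, hBj, hloc, ⟨φ⟩⟩ := exists_pi_local_of_finite_of_henselian R B
    let algB : ∀ j, Algebra R (Bj j) := fun j =>
      ((Pi.evalRingHom Bj j).comp ((φ : B →+* ∀ j, Bj j).comp (algebraMap R B))).toAlgebra
    let φ' : B ≃ₐ[R] ∀ j, Bj j := { φ with commutes' := fun r => rfl }
    let π : ∀ j, B →ₐ[R] Bj j := fun j => (Pi.evalAlgHom R Bj j).comp φ'.toAlgHom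
    have hπ : ∀ j, Function.Surjective (π j) := by
      intro j a
      refine ⟨φ'.symm (Pi.single j a), ?_⟩
      simp [π]
    have hfinj : ∀ j, Module.Finite R (Bj j) :=
      fun j => Module.Finite.of_surjective (π j).toLinearMap (hπ j)
    have hhens : ∀ j, HenselianLocalRing (Bj j) := fun j =>
      have := hloc j
      Groth.Agent.S0505.result R (Bj j)
    have hintj : ∀ j, Algebra.IsIntegral R (Bj j) := fun j => Algebra.IsIntegral.of_finite R _
    -- `π j` sends `I` into the maximal ideal
    have hK1 : ∀ j, ∀ b ∈ I, π j b ∈ maximalIdeal (Bj j) := by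
      intro j b hb
      have h1 : I ≤ (maximalIdeal (Bj j)).comap (π j).toRingHom := by
        rw [hI, Ideal.map_le_iff_le_comap, Ideal.comap_comap]
        intro c hc
        rw [Ideal.mem_comap]
        have h2 : (π j).toRingHom.comp (algebraMap R B) c = algebraMap R (Bj j) c :=
          (π j).commutes c
        rw [h2]
        have h3 := map_maximalIdeal_le_jacobson R (Bj j) (Ideal.mem_map_of_mem _ hc)
        rwa [IsLocalRing.jacobson_eq_maximalIdeal _ bot_ne_top] at h3
      exact h1 hb
    -- the residue characters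
    have hχ : ∀ j, ∃ χ : C →ₐ[R] ResidueField (Bj j), ∀ (c : C) (b : B),
        Ideal.Quotient.mk I b = g c → χ c = residue (Bj j) (π j b) := by
      intro j
      let ρ : B ⧸ I →ₐ[R] ResidueField (Bj j) :=
        Ideal.Quotient.liftₐ I ((IsScalarTower.toAlgHom R (Bj j) (ResidueField (Bj j))).comp (π j))
          (by
            intro b hb
            exact (residue_eq_zero_iff _).mpr (hK1 j b hb))
      refine ⟨ρ.comp g, fun c b hb => ?_⟩
      rw [AlgHom.comp_apply, ← hb]
      rfl
    choose χ hχ using hχ
    have hf : ∀ j, ∃ f : C →ₐ[R] Bj j, ∀ c, residue (Bj j) (f c) = χ j c := by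
      intro j
      have := hhens j
      obtain ⟨f, hf⟩ := (algHom_residue_bijective R C (Bj j)).2 (χ j)
      exact ⟨f, fun c => DFunLike.congr_fun hf c⟩
    choose fj hfj using hf
    let f : C →ₐ[R] B := φ'.symm.toAlgHom.comp (AlgHom.pi fj)
    have hπf : ∀ j c, π j (f c) = fj j c := by
      intro j c
      simp [π, f]
    refine ⟨f, ?_⟩
    apply algHom_eq_of_sub_mem_jacobson
    intro c
    obtain ⟨b, hb⟩ := Ideal.Quotient.mk_surjective (g c)
    have h1 : f c - b ∈ Ideal.jacobson (⊥ : Ideal B) := by
      rw [Ideal.mem_jacobson_bot]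
      intro z
      have : IsUnit (φ' ((f c - b) * z + 1)) := by
        rw [Pi.isUnit_iff]
        intro j
        have := hloc j
        have h2 : φ' ((f c - b) * z + 1) j = (π j (f c) - π j b) * π j z + 1 := by
          simp [π]
        rw [h2]
        have h3 : π j (f c) - π j b ∈ maximalIdeal (Bj j) := by
          rw [← residue_eq_zero_iff, map_sub, hπf, hfj, hχ j c b hb, sub_self]
        have h4 : (π j (f c) - π j b) * π j z ∈ maximalIdeal (Bj j) :=
          Ideal.mul_mem_right _ _ h3
        have := (IsLocalRing.jacobson_eq_maximalIdeal (⊥ : Ideal (Bj j)) bot_ne_top) ▸ h4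
        have := Ideal.mem_jacobson_bot.mp this 1
        rwa [mul_one] at this
      exact (isUnit_map_iff φ' _).mp this
    have h2 : Ideal.map (Ideal.Quotient.mk I) (Ideal.jacobson I) = Ideal.jacobson ⊥ := by
      rw [Ideal.map_jacobson_of_surjective Ideal.Quotient.mk_surjective (by simp),
        Ideal.map_quotient_self]
    have h3 : Ideal.jacobson I = Ideal.jacobson ⊥ := by
      apply le_antisymm
      · rw [Ideal.jacobson, Ideal.jacobson]
        refine le_sInf fun M ⟨_, hM⟩ => sInf_le ⟨?_, hM⟩
        exact hIjac.trans (by rw [Ideal.jacobson]; exact sInf_le ⟨bot_le, hM⟩)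
      · exact Ideal.jacobson_mono bot_le
    rw [AlgHom.comp_apply, ← hb]
    change Ideal.Quotient.mk I (f c) - Ideal.Quotient.mk I b ∈ _
    rw [← map_sub, ← h2, h3]
    exact Ideal.mem_map_of_mem _ h1

/-- Base change to the residue field is bijective on maps from an étale algebra to a finite algebra
over a henselian local ring. -/
theorem finite_etale_hom_bijective (R : Type u) [CommRing R]
    [HenselianLocalRing R] (S₁ S₂ : Type u) [CommRing S₁] [CommRing S₂] [Algebra R S₁]
    [Algebra R S₂] [Algebra.Etale R S₁] [Module.Finite R S₂] :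
    Function.Bijective (fun φ : S₁ →ₐ[R] S₂ =>
      Algebra.TensorProduct.map (AlgHom.id (ResidueField R) (ResidueField R)) φ) := by
  set I : Ideal S₂ := (maximalIdeal R).map (algebraMap R S₂) with hI
  let θ : (S₂ ⧸ I) ≃ₐ[R] ResidueField R ⊗[R] S₂ :=
    (Algebra.TensorProduct.quotIdealMapEquivQuotTensor S₂ (maximalIdeal R)).restrictScalars R
  have hθ : ∀ b : S₂, θ (Ideal.Quotient.mk I b) = (1 : ResidueField R) ⊗ₜ[R] b := fun b => rfl
  have hbij := algHom_quotient_bijective R S₂ S₁
  constructor
  · intro φ φ' h
    apply hbij.1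
    ext x
    apply θ.injective
    change θ (Ideal.Quotient.mk I (φ x)) = θ (Ideal.Quotient.mk I (φ' x))
    rw [hθ, hθ]
    have := DFunLike.congr_fun h ((1 : ResidueField R) ⊗ₜ[R] x)
    simpa using this
  · intro ψ
    let g : S₁ →ₐ[R] S₂ ⧸ I :=
      θ.symm.toAlgHom.comp
        ((ψ.restrictScalars R).comp Algebra.TensorProduct.includeRight)
    obtain ⟨f, hf⟩ := hbij.2 g
    refine ⟨f, ?_⟩
    apply Algebra.TensorProduct.ext
    · ext
    · ext x
      have h1 : Ideal.Quotient.mk I (f x) = g x := DFunLike.congr_fun hf x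
      have h2 : θ (g x) = ψ ((1 : ResidueField R) ⊗ₜ[R] x) := by
        simp [g]
      simp only [AlgHom.coe_comp, AlgHom.coe_restrictScalars', Function.comp_apply,
        Algebra.TensorProduct.includeRight_apply, Algebra.TensorProduct.map_tmul, AlgHom.coe_id,
        id_eq]
      rw [← h2, ← h1, hθ]

end Groth.Agent.Lib.Helper8
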