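import Mathlib
import Groth.Agent.Lib.Helper8.LocalCriterion3

/-!
# Flatness from isomorphisms modulo all powers; descent of the Noetherian property
-/

set_option autoImplicit false
universe u

open TensorProduct

namespace Groth.Agent.Lib.Helper8

section Sep

variable {A B : Type u} [CommRing A] [CommRing B] [Algebra A B]

/-- Separatedness of `𝔞 ⊗ M` for a finite module `M` over a Noetherian algebra `B` with `IB` in the
Jacobson radical. -/
theorem iInf_pow_smul_tensor_eq_bot [IsNoetherianRing A] [IsNoetherianRing B] (I : Ideal A)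
    (hI : I.map (algebraMap A B) ≤ Ideal.jacobson ⊥)
    (M : Type u) [AddCommGroup M] [Module A M] [Module B M] [IsScalarTower A B M]
    [Module.Finite B M] (𝔞 : Ideal A) :
    ⨅ n : ℕ, I ^ n • (⊤ : Submodule A (𝔞 ⊗[A] M)) = ⊥ := by
  rw [eq_bot_iff]
  intro x hx
  rw [Submodule.mem_iInf] at hx
  rw [Submodule.mem_bot]
  have : Module.Finite B (M ⊗[A] 𝔞) := finite_tensor M 𝔞
  have hkrull := Ideal.iInf_pow_smul_eq_bot_of_le_jacobson (M := M ⊗[A] 𝔞)
    (I.map (algebraMap A B)) hI
  have hmem : (TensorProduct.comm A 𝔞 M) x ∈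
      ⨅ i : ℕ, (I.map (algebraMap A B)) ^ i • (⊤ : Submodule B (M ⊗[A] 𝔞)) := by
    rw [Submodule.mem_iInf]
    intro n
    refine Submodule.smul_induction_on (hx n) ?_ ?_
    · intro j hj t _
      rw [map_smul, ← algebraMap_smul B j ((TensorProduct.comm A 𝔞 M) t)]
      refine Submodule.smul_mem_smul ?_ Submodule.mem_top
      rw [← Ideal.map_pow]
      exact Ideal.mem_map_of_mem _ hj
    · intro t1 t2 h1 h2
      rw [map_add]
      exact add_mem h1 h2
  rw [hkrull, Submodule.mem_bot] at hmem
  exact (TensorProduct.comm A 𝔞 M).injective (by rw [hmem, map_zero])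

end Sep

section Iso

variable {A T : Type u} [CommRing A] [CommRing T] [Algebra A T]

lemma tmul_eq_zero_of_mem_map (I : Ideal A) (n : ℕ) (q : A ⧸ I ^ n) (y : T)
    (hy : y ∈ (I ^ n).map (algebraMap A T)) : q ⊗ₜ[A] y = 0 := by
  induction hy using Submodule.span_induction with
  | mem y hy =>
    obtain ⟨a, ha, rfl⟩ := hy
    rw [Algebra.algebraMap_eq_smul_one, ← TensorProduct.smul_tmul]
    obtain ⟨q, rfl⟩ := Ideal.Quotient.mk_surjective q
    have : a • (Ideal.Quotient.mk (I ^ n)) q = 0 := by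
      rw [Algebra.smul_def, Ideal.Quotient.algebraMap_eq, ← map_mul, Ideal.Quotient.eq_zero_iff_mem]
      exact Ideal.mul_mem_right _ _ ha
    rw [this, TensorProduct.zero_tmul]
  | zero => exact TensorProduct.tmul_zero _ _
  | add y z _ _ hy hz => rw [TensorProduct.tmul_add, hy, hz, add_zero]
  | smul t y _ hy =>
    -- `q ⊗ (t * y)` : use the `T`-module structure on the right factor
    have h1 : q ⊗ₜ[A] (t • y) =
        (LinearMap.lTensor (A ⧸ I ^ n) (LinearMap.mulLeft A t)) (q ⊗ₜ[A] y) := by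
      simp
    rw [h1, hy, map_zero]

/-- If `A/Iⁿ → T/IⁿT` is bijective for all `n` (elementwise form), `A`, `T` Noetherian and `IT` lies
in the Jacobson radical, then `T` is flat over `A`. -/
theorem flat_of_pow_quotient_iso [IsNoetherianRing A] [IsNoetherianRing T] (I : Ideal A)
    (hI : I.map (algebraMap A T) ≤ Ideal.jacobson ⊥)
    (hinj : ∀ n : ℕ, ∀ a : A, algebraMap A T a ∈ (I ^ n).map (algebraMap A T) → a ∈ I ^ n)
    (hsurj : ∀ n : ℕ, ∀ t : T, ∃ a : A, t - algebraMap A T a ∈ (I ^ n).map (algebraMap A T)) :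
    Module.Flat A T := by
  refine flat_of_forall_flat_quotient_pow I T (fun n _ => ?_)
    (fun 𝔞 => iInf_pow_smul_tensor_eq_bot I hI T 𝔞)
  -- the map `A/Iⁿ → (A/Iⁿ) ⊗ T`
  let ψ : (A ⧸ I ^ n) →ₗ[A ⧸ I ^ n] (A ⧸ I ^ n) ⊗[A] T :=
    (Algebra.TensorProduct.includeLeft :
      (A ⧸ I ^ n) →ₐ[A ⧸ I ^ n] (A ⧸ I ^ n) ⊗[A] T).toLinearMap
  have hψ : ∀ q, ψ q = q ⊗ₜ[A] (1 : T) := fun q => rfl
  have hbij : Function.Bijective ψ := by
    constructor
    · -- injective, via the map to `T / IⁿT`
      let C := T ⧸ (I ^ n).map (algebraMap A T)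
      have hker : ∀ a ∈ I ^ n, (Algebra.ofId A C) a = 0 := fun a ha => by
        change algebraMap A C a = 0
        rw [IsScalarTower.algebraMap_apply A T C]
        exact Ideal.Quotient.eq_zero_iff_mem.mpr (Ideal.mem_map_of_mem _ ha)
      let f : (A ⧸ I ^ n) →ₐ[A] C := Ideal.Quotient.liftₐ (I ^ n) (Algebra.ofId A C) hker
      let g : T →ₐ[A] C := Ideal.Quotient.mkₐ A _
      let Φ : (A ⧸ I ^ n) ⊗[A] T →ₐ[A] C :=
        Algebra.TensorProduct.lift f g (fun _ _ => Commute.all _ _)
      rw [injective_iff_map_eq_zero]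
      intro q hq
      obtain ⟨a, rfl⟩ := Ideal.Quotient.mk_surjective q
      have h1 : Φ (ψ (Ideal.Quotient.mk (I ^ n) a)) = 0 := by rw [hq, map_zero]
      rw [hψ] at h1
      have h2 : Φ ((Ideal.Quotient.mk (I ^ n) a) ⊗ₜ[A] (1 : T)) =
          Ideal.Quotient.mk _ (algebraMap A T a) := by
        simp only [Φ, f, g, Algebra.TensorProduct.lift_tmul, map_one, mul_one]
        rfl
      rw [h2, Ideal.Quotient.eq_zero_iff_mem] at h1
      exact Ideal.Quotient.eq_zero_iff_mem.mpr (hinj n a h1)
    · intro z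
      induction z using TensorProduct.induction_on with
      | zero => exact ⟨0, map_zero _⟩
      | tmul q t =>
        obtain ⟨a, ha⟩ := hsurj n t
        refine ⟨a • q, ?_⟩
        rw [hψ, TensorProduct.smul_tmul, ← Algebra.algebraMap_eq_smul_one]
        have h3 := tmul_eq_zero_of_mem_map I n q _ ha
        rw [TensorProduct.tmul_sub, sub_eq_zero] at h3
        exact h3.symm
      | add x y hx hy =>
        obtain ⟨a, rfl⟩ := hx
        obtain ⟨b, rfl⟩ := hy
        exact ⟨a + b, map_add _ _ _⟩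
  exact Module.Flat.of_linearEquiv (LinearEquiv.ofBijective ψ hbij).symm

end Iso

/-- Descent of the Noetherian property along a faithfully flat ring map. -/
theorem isNoetherianRing_of_faithfullyFlat (S T : Type*) [CommRing S] [CommRing T] [Algebra S T]
    [Module.FaithfullyFlat S T] [IsNoetherianRing T] : IsNoetherianRing S := by
  rw [isNoetherianRing_iff, isNoetherian_iff'] at *
  let φ : Ideal S ↪o Ideal T :=
    OrderEmbedding.ofMapLEIff (Ideal.map (algebraMap S T)) (fun J J' => by
      constructor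
      · intro h
        have := Ideal.comap_mono (f := algebraMap S T) h
        rwa [Ideal.comap_map_eq_self_of_faithfullyFlat,
          Ideal.comap_map_eq_self_of_faithfullyFlat] at this
      · exact fun h => Ideal.map_mono h)
  exact φ.wellFoundedGT

end Groth.Agent.Lib.Helper8
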