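import Mathlib
import Groth.Agent.Lib.Helper8.FlatCompl

/-!
# Flatness by approximation through a flat intermediate algebra
-/

set_option autoImplicit false
universe u

open TensorProduct

namespace Groth.Agent.Lib.Helper8

section Approx

variable {A S T : Type u} [CommRing A] [CommRing S] [CommRing T] [Algebra A S]
  [Algebra S T] [Algebra A T] [IsScalarTower A S T]

lemma exists_one_tmul (J : Ideal A) (z : (A ⧸ J) ⊗[A] S) : ∃ s : S, z = (1 : A ⧸ J) ⊗ₜ[A] s := by
  induction z using TensorProduct.induction_on with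
  | zero => exact ⟨0, (TensorProduct.tmul_zero _ _).symm⟩
  | tmul q s =>
    obtain ⟨a, rfl⟩ := Ideal.Quotient.mk_surjective q
    refine ⟨a • s, ?_⟩
    rw [← TensorProduct.smul_tmul, Algebra.smul_def, mul_one]
    rfl
  | add x y hx hy =>
    obtain ⟨s, rfl⟩ := hx
    obtain ⟨s', rfl⟩ := hy
    exact ⟨s + s', (TensorProduct.tmul_add _ _ _).symm⟩

/-- If `S → T` induces an isomorphism modulo `Iⁿ` (elementwise form), then the base change of
`S → T` to `A/Iⁿ` is bijective. -/
lemma baseChange_bijective_of_approx (I : Ideal A) (n : ℕ)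
    (h2 : ∀ t : T, ∃ s : S, t - algebraMap S T s ∈ (I ^ n).map (algebraMap A T))
    (h3 : ∀ s : S, algebraMap S T s ∈ (I ^ n).map (algebraMap A T) →
      s ∈ (I ^ n).map (algebraMap A S)) :
    Function.Bijective
      (LinearMap.baseChange (A ⧸ I ^ n) (IsScalarTower.toAlgHom A S T).toLinearMap) := by
  constructor
  · rw [injective_iff_map_eq_zero]
    intro z hz
    obtain ⟨s, rfl⟩ := exists_one_tmul (I ^ n) z
    rw [LinearMap.baseChange_tmul] at hz
    let C := T ⧸ (I ^ n).map (algebraMap A T)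
    have hker : ∀ a ∈ I ^ n, (Algebra.ofId A C) a = 0 := fun a ha => by
      change algebraMap A C a = 0
      rw [IsScalarTower.algebraMap_apply A T C]
      exact Ideal.Quotient.eq_zero_iff_mem.mpr (Ideal.mem_map_of_mem _ ha)
    let f : (A ⧸ I ^ n) →ₐ[A] C := Ideal.Quotient.liftₐ (I ^ n) (Algebra.ofId A C) hker
    let g : T →ₐ[A] C := Ideal.Quotient.mkₐ A _
    let Φ : (A ⧸ I ^ n) ⊗[A] T →ₐ[A] C :=
      Algebra.TensorProduct.lift f g (fun _ _ => Commute.all _ _)
    have h1 := congrArg Φ hz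
    have h4 : Φ ((1 : A ⧸ I ^ n) ⊗ₜ[A] (algebraMap S T s)) =
        Ideal.Quotient.mk _ (algebraMap S T s) := by
      simp only [Φ, f, g, Algebra.TensorProduct.lift_tmul, map_one, one_mul]
      rfl
    rw [map_zero] at h1
    have h5 : algebraMap S T s ∈ (I ^ n).map (algebraMap A T) := by
      rw [← Ideal.Quotient.eq_zero_iff_mem, ← h4]
      exact h1
    exact tmul_eq_zero_of_mem_map I n 1 s (h3 s h5)
  · intro z
    induction z using TensorProduct.induction_on with
    | zero => exact ⟨0, map_zero _⟩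
    | tmul q t =>
      obtain ⟨s, hs⟩ := h2 t
      refine ⟨q ⊗ₜ s, ?_⟩
      rw [LinearMap.baseChange_tmul]
      have h6 := tmul_eq_zero_of_mem_map I n q _ hs
      rw [TensorProduct.tmul_sub, sub_eq_zero] at h6
      exact h6.symm
    | add x y hx hy =>
      obtain ⟨a, rfl⟩ := hx
      obtain ⟨b, rfl⟩ := hy
      exact ⟨a + b, map_add _ _ _⟩

/-- Flatness by approximation through a flat intermediate ring. -/
theorem flat_of_approx' [IsNoetherianRing A] [IsNoetherianRing T] [Module.Flat A S]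
    (I : Ideal A) (h1 : I.map (algebraMap A T) ≤ Ideal.jacobson ⊥)
    (h2 : ∀ (n : ℕ) (t : T), ∃ s : S, t - algebraMap S T s ∈ (I ^ n).map (algebraMap A T))
    (h3 : ∀ (n : ℕ) (s : S), algebraMap S T s ∈ (I ^ n).map (algebraMap A T) →
      s ∈ (I ^ n).map (algebraMap A S)) :
    Module.Flat A T := by
  refine flat_of_forall_flat_quotient_pow I T (fun n _ => ?_)
    (fun 𝔞 => iInf_pow_smul_tensor_eq_bot I h1 T 𝔞)
  have hb := baseChange_bijective_of_approx (S := S) (T := T) I n (h2 n) (h3 n)
  have : Module.Flat (A ⧸ I ^ n) ((A ⧸ I ^ n) ⊗[A] S) := inferInstance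
  exact Module.Flat.of_linearEquiv (LinearEquiv.ofBijective _ hb).symm

end Approx

end Groth.Agent.Lib.Helper8
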