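import Mathlib
import Groth.Agent.S0542
import Groth.Agent.Lib.Helper8.Hzl.Regular

/-!
# Dimension and regularity of the completion of a Noetherian local ring
-/

set_option autoImplicit false
universe u
open IsLocalRing

namespace Groth.Agent.Lib.Helper8

section

variable (A : Type u) [CommRing A] [IsLocalRing A] [IsNoetherianRing A]

instance isNoetherianRing_adicCompletion :
    IsNoetherianRing (AdicCompletion (maximalIdeal A) A) :=
  have : IsNoetherianRing (A ⧸ maximalIdeal A) :=
    inferInstanceAs (IsNoetherianRing (ResidueField A))
  Groth.Agent.S0542.result A (maximalIdeal A) (IsNoetherian.noetherian _)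

/-- Flat local homomorphisms of Noetherian local rings with `𝔪_R S = 𝔪_S` preserve the
dimension. -/
theorem ringKrullDim_eq_of_flat {R S : Type u} [CommRing R] [IsLocalRing R]
    [IsNoetherianRing R] [CommRing S] [IsLocalRing S] [IsNoetherianRing S] [Algebra R S]
    [IsLocalHom (algebraMap R S)] [Module.Flat R S]
    (hm : (maximalIdeal R).map (algebraMap R S) = maximalIdeal S) :
    ringKrullDim S = ringKrullDim R := by
  have hlo : (maximalIdeal S).LiesOver (maximalIdeal R) :=
    ⟨(IsLocalRing.maximalIdeal_comap (algebraMap R S)).symm⟩
  have h1 := Ideal.height_eq_height_add_of_liesOver_of_hasGoingDown (maximalIdeal R)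
    (maximalIdeal S)
  have h2 : ((maximalIdeal S).map
      (Ideal.Quotient.mk ((maximalIdeal R).map (algebraMap R S)))).height = 0 := by
    rw [hm, Ideal.map_quotient_self]
    have : Nontrivial (S ⧸ maximalIdeal S) := Ideal.Quotient.nontrivial_iff.mpr
      (Ideal.IsPrime.ne_top inferInstance)
    exact Ideal.height_bot
  rw [h2, add_zero] at h1
  rw [← IsLocalRing.maximalIdeal_height_eq_ringKrullDim,
    ← IsLocalRing.maximalIdeal_height_eq_ringKrullDim, h1]

theorem ringKrullDim_adicCompletion :
    ringKrullDim (AdicCompletion (maximalIdeal A) A) = ringKrullDim A := by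
  have : Module.Flat A (AdicCompletion (maximalIdeal A) A) := inferInstance
  exact ringKrullDim_eq_of_flat AdicCompletion.maximalIdeal_eq_map.symm

theorem isRegularLocalRing_adicCompletion_iff :
    IsRegularLocalRing A ↔ IsRegularLocalRing (AdicCompletion (maximalIdeal A) A) := by
  rw [isRegularLocalRing_iff, isRegularLocalRing_iff, ringKrullDim_adicCompletion,
    AdicCompletion.spanFinrank_maximalIdeal_eq]

end

end Groth.Agent.Lib.Helper8
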