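import Mathlib

/-!
# Pointwise descent of smoothness along a base change which is flat at the point
-/

set_option autoImplicit false
universe u
open TensorProduct IsLocalRing

namespace Groth.Agent.Lib.Helper8.SmoothAtFlat

section BaseChangeLoc

variable {A B : Type u} [CommRing A] [CommRing B] [Algebra A B]
  (q : Ideal A) [q.IsPrime] (P : Ideal B) [P.IsPrime] [P.LiesOver q]
  {M N : Type u} [AddCommGroup M] [AddCommGroup N] [Module A M] [Module A N] [Module B N]
  [IsScalarTower A B N] (f : M →ₗ[A] N)

/-- The key identification `B_P ⊗_B N ≃ B_P ⊗_{A_q} (A_q ⊗_A M)` for a base change `N = B ⊗_A M`. -/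
noncomputable def locTensorEquiv (hf : IsBaseChange B f) :
    letI := Localization.AtPrime.algebraOfLiesOver q P
    (Localization.AtPrime P) ⊗[B] N ≃ₗ[Localization.AtPrime P]
      (Localization.AtPrime P) ⊗[Localization.AtPrime q] ((Localization.AtPrime q) ⊗[A] M) :=
  letI := Localization.AtPrime.algebraOfLiesOver q P
  (AlgebraTensorModule.congr (LinearEquiv.refl (Localization.AtPrime P) (Localization.AtPrime P))
      hf.equiv.symm) ≪≫ₗ
    (AlgebraTensorModule.cancelBaseChange A B (Localization.AtPrime P) (Localization.AtPrime P) M) ≪≫ₗ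
    (AlgebraTensorModule.cancelBaseChange A (Localization.AtPrime q) (Localization.AtPrime P)
      (Localization.AtPrime P) M).symm

/-- Supports descend along a base change which is flat at the point. -/
theorem notMem_support_of_isBaseChange (hf : IsBaseChange B f)
    (hfl : letI := Localization.AtPrime.algebraOfLiesOver q P
      Module.Flat (Localization.AtPrime q) (Localization.AtPrime P))
    (h : (⟨P, inferInstance⟩ : PrimeSpectrum B) ∉ Module.support B N) :
    (⟨q, inferInstance⟩ : PrimeSpectrum A) ∉ Module.support A M := by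
  letI := Localization.AtPrime.algebraOfLiesOver q P
  haveI := hfl
  haveI : Module.FaithfullyFlat (Localization.AtPrime q) (Localization.AtPrime P) :=
    Module.FaithfullyFlat.of_flat_of_isLocalHom
  rw [Module.notMem_support_iff] at h ⊢
  have h1 : Subsingleton ((Localization.AtPrime P) ⊗[B] N) :=
    (LocalizedModule.equivTensorProduct P.primeCompl N).subsingleton_congr.mp h
  have h2 : Subsingleton ((Localization.AtPrime P) ⊗[Localization.AtPrime q]
      ((Localization.AtPrime q) ⊗[A] M)) :=
    (locTensorEquiv q P f hf).subsingleton_congr.mp h1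
  have h3 : Subsingleton ((Localization.AtPrime q) ⊗[A] M) :=
    Module.FaithfullyFlat.lTensor_reflects_triviality (Localization.AtPrime q)
      (Localization.AtPrime P) _
  exact (LocalizedModule.equivTensorProduct q.primeCompl M).subsingleton_congr.mpr h3

/-- Free loci descend along a base change which is flat at the point. -/
theorem mem_freeLocus_of_isBaseChange [Module.FinitePresentation A M] (hf : IsBaseChange B f)
    (hfl : letI := Localization.AtPrime.algebraOfLiesOver q P
      Module.Flat (Localization.AtPrime q) (Localization.AtPrime P))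
    (h : (⟨P, inferInstance⟩ : PrimeSpectrum B) ∈ Module.freeLocus B N) :
    (⟨q, inferInstance⟩ : PrimeSpectrum A) ∈ Module.freeLocus A M := by
  letI := Localization.AtPrime.algebraOfLiesOver q P
  haveI := hfl
  haveI : Module.FaithfullyFlat (Localization.AtPrime q) (Localization.AtPrime P) :=
    Module.FaithfullyFlat.of_flat_of_isLocalHom
  rw [Module.mem_freeLocus_iff_tensor _ (Localization.AtPrime P)] at h
  rw [Module.mem_freeLocus_iff_tensor _ (Localization.AtPrime q)]
  haveI : Module.Free (Localization.AtPrime P) ((Localization.AtPrime P) ⊗[B] N) := h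
  haveI h2 : Module.Flat (Localization.AtPrime P) ((Localization.AtPrime P) ⊗[Localization.AtPrime q]
      ((Localization.AtPrime q) ⊗[A] M)) :=
    Module.Flat.of_linearEquiv (locTensorEquiv q P f hf).symm
  haveI h3 : Module.Flat (Localization.AtPrime q) ((Localization.AtPrime q) ⊗[A] M) :=
    Module.Flat.of_flat_tensorProduct _ _ (Localization.AtPrime P)
  exact Module.free_of_flat_of_isLocalRing

end BaseChangeLoc

/-- `Ω[B/S]` is the base change of `Ω[A/R]` along `A → B` for a pushout square. -/
theorem isBaseChange_kaehler (R S A B : Type u) [CommRing R] [CommRing S] [CommRing A] [CommRing B]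
    [Algebra R S] [Algebra R A] [Algebra R B] [Algebra S B] [Algebra A B]
    [IsScalarTower R S B] [IsScalarTower R A B] [Algebra.IsPushout R S A B] :
    IsBaseChange B (KaehlerDifferential.map R S A B) := by
  refine IsBaseChange.of_equiv (KaehlerDifferential.tensorKaehlerEquiv R S A B) ?_
  intro x
  have : (KaehlerDifferential.tensorKaehlerEquiv R S A B).toLinearMap.restrictScalars A ∘ₗ
      (TensorProduct.mk A B Ω[A⁄R] 1) = KaehlerDifferential.map R S A B := by
    apply Derivation.liftKaehlerDifferential_unique
    ext a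
    simp
  exact congrArg (fun g => g x) this

attribute [local instance] Algebra.TensorProduct.rightAlgebra

/-- Flat base change for `H1Cotangent`, in `IsBaseChange` form over the tensor product. -/
theorem isBaseChange_h1Cotangent (R T A : Type u) [CommRing R] [CommRing T] [CommRing A]
    [Algebra R T] [Algebra R A] [Module.Flat R T] :
    IsBaseChange (T ⊗[R] A) (Algebra.H1Cotangent.map R T A (T ⊗[R] A)) := by
  set j := Algebra.H1Cotangent.map R T A (T ⊗[R] A) with hj
  let L : (T ⊗[R] A) ⊗[A] Algebra.H1Cotangent R A →ₗ[T ⊗[R] A] Algebra.H1Cotangent T (T ⊗[R] A) :=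
    LinearMap.liftBaseChange (T ⊗[R] A) j
  let e' : T ⊗[R] Algebra.H1Cotangent R A ≃ₗ[T] (T ⊗[R] A) ⊗[A] Algebra.H1Cotangent R A :=
    (Algebra.IsPushout.cancelBaseChange R T A (T ⊗[R] A) (Algebra.H1Cotangent R A)).symm
  let ψ := Algebra.tensorH1CotangentOfFlat R A T
  have hcomp : (L.restrictScalars T) ∘ₗ e'.toLinearMap = ψ.toLinearMap := by
    apply TensorProduct.AlgebraTensorModule.ext
    intro t m
    simp only [LinearMap.coe_comp, LinearEquiv.coe_coe, Function.comp_apply,
      LinearMap.coe_restrictScalars, e', L, ψ]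
    rw [Algebra.IsPushout.cancelBaseChange_symm_tmul, LinearMap.liftBaseChange_tmul,
      Algebra.tensorH1CotangentOfFlat_tmul, algebraMap_smul]
  have hbij : Function.Bijective L := by
    have h1 : (L : _ → _) = ψ ∘ e'.symm := by
      funext x
      have := congrArg (fun g => g (e'.symm x)) hcomp
      simpa using this
    rw [h1]
    exact ψ.bijective.comp e'.symm.bijective
  exact IsBaseChange.of_equiv (LinearEquiv.ofBijective L hbij) (fun x => by simp [L])

/-- Pointwise descent of smoothness along a flat base change (tensor product form). -/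
theorem isSmoothAt_of_tensor_flat (R T A : Type u) [CommRing R] [CommRing T] [CommRing A]
    [Algebra R T] [Algebra R A] [Module.Flat R T] [Algebra.FinitePresentation R A]
    (q : Ideal A) [q.IsPrime] (P : Ideal (T ⊗[R] A)) [P.IsPrime] [P.LiesOver q]
    [Algebra.IsSmoothAt T P] : Algebra.IsSmoothAt R q := by
  letI := Localization.AtPrime.algebraOfLiesOver q P
  -- flatness of `B_P` over `A_q`
  have hpo : Algebra.IsPushout R A T (T ⊗[R] A) := Algebra.IsPushout.symm inferInstance
  haveI hAB : Module.Flat A (T ⊗[R] A) :=
    Module.Flat.of_linearEquiv (Algebra.IsPushout.equiv R A T (T ⊗[R] A)).symm.toLinearEquiv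
  haveI hABP : Module.Flat A (Localization.AtPrime P) :=
    Module.Flat.trans A (T ⊗[R] A) (Localization.AtPrime P)
  have hfl : Module.Flat (Localization.AtPrime q) (Localization.AtPrime P) :=
    (Module.flat_iff_of_isLocalization (Localization.AtPrime q) q.primeCompl _).mpr hABP
  have hP : (⟨P, inferInstance⟩ : PrimeSpectrum (T ⊗[R] A)) ∈ Algebra.smoothLocus T (T ⊗[R] A) :=
    (inferInstance : Algebra.IsSmoothAt T P)
  rw [Algebra.smoothLocus_eq_compl_support_inter] at hP
  change (⟨q, inferInstance⟩ : PrimeSpectrum A) ∈ Algebra.smoothLocus R A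
  rw [Algebra.smoothLocus_eq_compl_support_inter]
  refine ⟨?_, ?_⟩
  · exact notMem_support_of_isBaseChange q P _ (isBaseChange_h1Cotangent R T A) hfl hP.1
  · exact mem_freeLocus_of_isBaseChange q P _ (isBaseChange_kaehler R T A (T ⊗[R] A)) hfl hP.2

/-- Smoothness at a prime transfers along an algebra isomorphism. -/
theorem isSmoothAt_comap_algEquiv {T B₁ B₂ : Type u} [CommRing T] [CommRing B₁] [CommRing B₂]
    [Algebra T B₁] [Algebra T B₂] (e : B₁ ≃ₐ[T] B₂) (P₂ : Ideal B₂) [P₂.IsPrime]
    (P₁ : Ideal B₁) [P₁.IsPrime] (hP : P₁ = P₂.comap (e : B₁ →+* B₂))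
    [Algebra.IsSmoothAt T P₂] : Algebra.IsSmoothAt T P₁ := by
  let L₂ := Localization.AtPrime P₂
  letI alg1 : Algebra B₁ L₂ := ((algebraMap B₂ L₂).comp (e : B₁ →+* B₂)).toAlgebra
  haveI : IsScalarTower T B₁ L₂ := IsScalarTower.of_algebraMap_eq (fun t => by
    show algebraMap T L₂ t = algebraMap B₂ L₂ (e (algebraMap T B₁ t))
    rw [e.commutes, ← IsScalarTower.algebraMap_apply])
  have hM : P₁.primeCompl.map (e : B₁ ≃+* B₂) = P₂.primeCompl := by
    ext x
    constructor
    · rintro ⟨y, hy, rfl⟩
      intro hx
      apply hy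
      rw [hP]
      exact hx
    · intro hx
      refine ⟨e.symm x, ?_, by simp⟩
      intro h
      apply hx
      rw [hP] at h
      simpa using h
  haveI : IsLocalization P₁.primeCompl L₂ :=
    IsLocalization.of_ringEquiv_left (e : B₁ ≃+* B₂) hM (fun x => rfl)
  let ε : Localization.AtPrime P₁ ≃ₐ[B₁] L₂ := IsLocalization.algEquiv P₁.primeCompl _ _
  exact Algebra.FormallySmooth.of_equiv (ε.restrictScalars T).symm


/-- Pointwise descent of smoothness along a flat base change (general pushout form). -/
theorem isSmoothAt_of_isPushout_flat {R T A B : Type u} [CommRing R] [CommRing T] [CommRing A]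
    [CommRing B] [Algebra R T] [Algebra R A] [Algebra R B] [Algebra T B] [Algebra A B]
    [IsScalarTower R T B] [IsScalarTower R A B] [Algebra.IsPushout R T A B]
    [Module.Flat R T] [Algebra.FinitePresentation R A]
    (q : Ideal A) [q.IsPrime] (P : Ideal B) [P.IsPrime] [P.LiesOver q]
    [Algebra.IsSmoothAt T P] : Algebra.IsSmoothAt R q := by
  let e : T ⊗[R] A ≃ₐ[T] B := Algebra.IsPushout.equiv R T A B
  let P₀ : Ideal (T ⊗[R] A) := P.comap (e : T ⊗[R] A →+* B)
  haveI : P₀.IsPrime := Ideal.comap_isPrime _ _
  haveI : Algebra.IsSmoothAt T P₀ := isSmoothAt_comap_algEquiv e P P₀ rfl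
  haveI : P₀.LiesOver q := by
    constructor
    rw [(inferInstance : P.LiesOver q).over]
    ext a
    simp only [Ideal.mem_comap, Ideal.under, P₀]
    have : (e : T ⊗[R] A →+* B) (algebraMap A (T ⊗[R] A) a) = algebraMap A B a := by
      show e ((1 : T) ⊗ₜ[R] a) = algebraMap A B a
      rw [Algebra.IsPushout.equiv_tmul, map_one, one_mul]
    rw [this]
  exact isSmoothAt_of_tensor_flat R T A q P₀


/-- Pointwise descent of smoothness along a base change which is flat at the point. -/
theorem isSmoothAt_of_isPushout {R S A B : Type u} [CommRing R] [CommRing S] [CommRing A]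
    [CommRing B] [Algebra R S] [Algebra R A] [Algebra R B] [Algebra S B] [Algebra A B]
    [IsScalarTower R S B] [IsScalarTower R A B] [Algebra.IsPushout R S A B]
    [Algebra.FinitePresentation R A]
    (p : Ideal A) [p.IsPrime] (P : Ideal B) [P.IsPrime] [P.LiesOver p]
    (p' : Ideal S) [p'.IsPrime] [P.LiesOver p']
    [Module.Flat R (Localization.AtPrime p')]
    [Algebra.IsSmoothAt S P] : Algebra.IsSmoothAt R p := by
  let Sp := Localization.AtPrime p'
  let M := Algebra.algebraMapSubmonoid B p'.primeCompl
  let Bp := Localization M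
  have hpo1 : Algebra.IsPushout S Sp B Bp :=
    .symm <| Algebra.isPushout_of_isLocalization p'.primeCompl _ _ _
  haveI : IsScalarTower R Sp Bp := .to₁₃₄ R S Sp Bp
  haveI hpo2 : Algebra.IsPushout R Sp A Bp :=
    (Algebra.IsPushout.comp_iff R S A (S' := B) (T := Sp) (T' := Bp)).mpr hpo1
  have hdisj : Disjoint (M : Set B) (P : Set B) := by
    rw [Set.disjoint_left]
    rintro _ ⟨x, hx, rfl⟩ hn
    apply hx
    rw [(inferInstance : P.LiesOver p').over]
    exact hn
  let P' : Ideal Bp := P.map (algebraMap B Bp)
  haveI hP' : P'.IsPrime := IsLocalization.isPrime_of_isPrime_disjoint M Bp P inferInstance hdisj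
  have hcomap : P'.comap (algebraMap B Bp) = P :=
    IsLocalization.comap_map_of_isPrime_disjoint M Bp inferInstance hdisj
  haveI : P'.LiesOver p := by
    constructor
    rw [(inferInstance : P.LiesOver p).over]
    conv_lhs => rw [← hcomap]
    simp only [Ideal.under, Ideal.comap_comap, ← IsScalarTower.algebraMap_eq]
  have hloc : IsLocalization.AtPrime (Localization.AtPrime P') (P'.comap (algebraMap B Bp)) :=
    IsLocalization.isLocalization_isLocalization_atPrime_isLocalization M _ P'
  have hloc2 : IsLocalization P.primeCompl (Localization.AtPrime P') := by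
    have h1 : (P'.comap (algebraMap B Bp)).primeCompl = P.primeCompl := by
      ext x
      show x ∉ P'.comap (algebraMap B Bp) ↔ x ∉ P
      rw [hcomap]
    have := hloc
    unfold IsLocalization.AtPrime at this
    rwa [h1] at this
  let e : Localization.AtPrime P ≃ₐ[B] Localization.AtPrime P' :=
    IsLocalization.algEquiv P.primeCompl _ _
  haveI : Algebra.FormallySmooth S (Localization.AtPrime P') :=
    Algebra.FormallySmooth.of_equiv (e.restrictScalars S)
  haveI : IsScalarTower S Sp (Localization.AtPrime P') := .to₁₂₄ S Sp Bp _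
  haveI : Algebra.IsSmoothAt Sp P' :=
    Algebra.FormallySmooth.localization_base (Rₘ := Sp) (Sₘ := Localization.AtPrime P')
      p'.primeCompl
  exact isSmoothAt_of_isPushout_flat (R := R) (T := Sp) (A := A) (B := Bp) p P'


/-- Variant of `isSmoothAt_of_isPushout` where smoothness upstairs is given on a basic open. -/
theorem isSmoothAt_of_isPushout_of_away {R S A B : Type u} [CommRing R] [CommRing S] [CommRing A]
    [CommRing B] [Algebra R S] [Algebra R A] [Algebra R B] [Algebra S B] [Algebra A B]
    [IsScalarTower R S B] [IsScalarTower R A B] [Algebra.IsPushout R S A B]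
    [Algebra.FinitePresentation R A]
    (p : Ideal A) [p.IsPrime] (P : Ideal B) [P.IsPrime] [P.LiesOver p]
    (p' : Ideal S) [p'.IsPrime] [P.LiesOver p']
    [Module.Flat R (Localization.AtPrime p')]
    (h : B) (hP : h ∉ P) [Algebra.Smooth S (Localization.Away h)] : Algebra.IsSmoothAt R p := by
  haveI hfpB : Algebra.FinitePresentation S B := by
    have : Algebra.IsPushout R A S B := Algebra.IsPushout.symm inferInstance
    exact .equiv (Algebra.IsPushout.equiv R S A B)
  have hsub := (Algebra.basicOpen_subset_smoothLocus_iff_smooth (R := S) (A := B) (f := h)).mpr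
    inferInstance
  haveI : Algebra.IsSmoothAt S P := hsub (show (⟨P, inferInstance⟩ : PrimeSpectrum B) ∈
    (PrimeSpectrum.basicOpen h : Set (PrimeSpectrum B)) from hP)
  exact isSmoothAt_of_isPushout (R := R) (S := S) p P p'

end Groth.Agent.Lib.Helper8.SmoothAtFlat
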