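import Mathlib
import Groth.Agent.Lib.Helper8.SmoothAtFlat

/-!
# Fibre criterion for smoothness at a prime, and base change of smoothness at a prime
-/

set_option autoImplicit false
universe u
open TensorProduct IsLocalRing

namespace Groth.Agent.Lib.Helper8.SmoothFiber

local notation "𝓀[" R "]" => ResidueField R

/-- Smooth at a prime implies flat at that prime. -/
theorem flat_of_isSmoothAt (S B : Type u) [CommRing S] [CommRing B] [Algebra S B]
    [Algebra.FinitePresentation S B] (P : Ideal B) [P.IsPrime] [Algebra.IsSmoothAt S P] :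
    Module.Flat S (Localization.AtPrime P) := by
  obtain ⟨g, hg, hget⟩ := Algebra.IsSmoothAt.exists_notMem_smooth S P
  let Bg := Localization.Away g
  have hdisj : Disjoint (Submonoid.powers g : Set B) (P : Set B) := by
    rw [Set.disjoint_left]
    rintro _ ⟨n, rfl⟩ hn
    exact hg (Ideal.IsPrime.mem_of_pow_mem inferInstance n hn)
  let P' : Ideal Bg := P.map (algebraMap B Bg)
  haveI hP' : P'.IsPrime := IsLocalization.isPrime_of_isPrime_disjoint (Submonoid.powers g) Bg P
    inferInstance hdisj
  have hcomap : P'.comap (algebraMap B Bg) = P :=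
    IsLocalization.comap_map_of_isPrime_disjoint (Submonoid.powers g) Bg inferInstance hdisj
  have hloc : IsLocalization.AtPrime (Localization.AtPrime P') (P'.comap (algebraMap B Bg)) :=
    IsLocalization.isLocalization_isLocalization_atPrime_isLocalization (.powers g) _ P'
  have hloc2 : IsLocalization P.primeCompl (Localization.AtPrime P') := by
    have h1 : (P'.comap (algebraMap B Bg)).primeCompl = P.primeCompl := by
      ext x
      show x ∉ P'.comap (algebraMap B Bg) ↔ x ∉ P
      rw [hcomap]
    have := hloc
    unfold IsLocalization.AtPrime at this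
    rwa [h1] at this
  let e : Localization.AtPrime P ≃ₐ[B] Localization.AtPrime P' :=
    IsLocalization.algEquiv P.primeCompl _ _
  haveI : Module.Flat S Bg := inferInstance
  haveI : Module.Flat S (Localization.AtPrime P') := Module.Flat.trans S Bg _
  exact Module.Flat.of_linearEquiv (e.restrictScalars S).toLinearEquiv

/-- Smoothness at a prime is stable under base change. -/
theorem isSmoothAt_baseChange {R T A B : Type u} [CommRing R] [CommRing T] [CommRing A]
    [CommRing B] [Algebra R T] [Algebra R A] [Algebra R B] [Algebra T B] [Algebra A B]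
    [IsScalarTower R T B] [IsScalarTower R A B] [Algebra.IsPushout R T A B]
    (q : Ideal A) [q.IsPrime] (P : Ideal B) [P.IsPrime] [P.LiesOver q]
    [Algebra.IsSmoothAt R q] : Algebra.IsSmoothAt T P := by
  let Aq := Localization.AtPrime q
  let M := Algebra.algebraMapSubmonoid B q.primeCompl
  let Bq := Localization M
  let BP := Localization.AtPrime P
  have hpo0 : Algebra.IsPushout R A T B := Algebra.IsPushout.symm inferInstance
  have hpo1 : Algebra.IsPushout A Aq B Bq :=
    .symm <| Algebra.isPushout_of_isLocalization q.primeCompl _ _ _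
  haveI : IsScalarTower R Aq Bq := .to₁₃₄ R A Aq Bq
  haveI : IsScalarTower R T Bq := .to₁₂₄ R T B Bq
  have hpo2 : Algebra.IsPushout R Aq T Bq :=
    (Algebra.IsPushout.comp_iff R A T (S' := B) (T := Aq) (T' := Bq)).mpr hpo1
  have hpo3 : Algebra.IsPushout R T Aq Bq := hpo2.symm
  haveI : Algebra.FormallySmooth T Bq :=
    Algebra.FormallySmooth.of_equiv (Algebra.IsPushout.equiv R T Aq Bq)
  -- `B_P` is a localization of `Bq`
  let f : Bq →ₐ[B] BP := IsLocalization.liftAlgHom (M := M)
        (f := Algebra.ofId _ _) (by
      rintro ⟨_, x, hx, rfl⟩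
      simpa using! IsLocalization.map_units (M := P.primeCompl) BP ⟨algebraMap _ _ x,
        by simp_all [P.over_def q]⟩)
  letI algBqBP : Algebra Bq BP := f.toRingHom.toAlgebra
  haveI : IsScalarTower B Bq BP := IsScalarTower.of_algebraMap_eq (fun x => (f.commutes x).symm)
  haveI : IsScalarTower T Bq BP := .to₁₃₄ _ B _ _
  haveI : IsLocalization (Algebra.algebraMapSubmonoid Bq P.primeCompl) BP :=
    .isLocalization_of_submonoid_le _ _ M _
    (by rintro _ ⟨x, hx, rfl⟩; simp_all [P.over_def q])
  haveI : Algebra.FormallySmooth Bq BP :=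
    Algebra.FormallySmooth.of_isLocalization (Algebra.algebraMapSubmonoid Bq P.primeCompl)
  exact Algebra.FormallySmooth.comp T Bq BP

set_option backward.isDefEq.respectTransparency false in
/-- Fibre criterion for smoothness at a prime: flat at the prime and the fibre smooth at the
corresponding prime imply smooth at the prime. -/
theorem isSmoothAt_of_fiber (R A : Type u) [CommRing R] [CommRing A] [Algebra R A]
    [Algebra.FinitePresentation R A] (p : Ideal R) [p.IsPrime]
    (q' : Ideal (p.Fiber A)) [q'.IsPrime]
    [Module.Flat R (Localization.AtPrime (q'.comap Algebra.TensorProduct.includeRight))]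
    [Algebra.IsSmoothAt p.ResidueField q'] :
    Algebra.IsSmoothAt R (q'.comap Algebra.TensorProduct.includeRight) := by
  set q : Ideal A := q'.comap Algebra.TensorProduct.includeRight with hq
  haveI hqp : q.LiesOver p := by
    constructor
    have h1 : q'.under R = p := ((inferInstance : q'.LiesOver p).over).symm
    rw [← h1]
    ext x
    simp only [Ideal.under, Ideal.mem_comap, hq]
    rw [AlgHom.commutes]
  let Rp := Localization.AtPrime p
  let Sp := Localization (Algebra.algebraMapSubmonoid A p.primeCompl)
  let Sq := Localization.AtPrime q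
  let := Localization.AtPrime.algebraOfLiesOver p q
  let f : Sp →ₐ[A] Sq := IsLocalization.liftAlgHom (M := Algebra.algebraMapSubmonoid A p.primeCompl)
        (f := Algebra.ofId _ _) (by
      rintro ⟨_, x, hx, rfl⟩
      simpa using! IsLocalization.map_units (M := q.primeCompl) Sq ⟨algebraMap _ _ x,
        by simp_all [q.over_def p]⟩)
  algebraize [f.toRingHom]
  have : IsScalarTower R Sp Sq := .to₁₃₄ _ A _ _
  have : IsScalarTower Rp Sp Sq := .of_algebraMap_eq' <| by
    apply IsLocalization.ringHom_ext p.primeCompl
    simp only [RingHom.comp_assoc, ← IsScalarTower.algebraMap_eq]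
  have : IsLocalization (Algebra.algebraMapSubmonoid Sp q.primeCompl) Sq :=
    .isLocalization_of_submonoid_le _ _ (Algebra.algebraMapSubmonoid A p.primeCompl) _
    (by rintro _ ⟨x, hx, rfl⟩; simp_all [q.over_def p])
  have : Algebra.FinitePresentation Rp Sp := by
    have : Algebra.IsPushout R Rp A Sp :=
      .symm <| Algebra.isPushout_of_isLocalization p.primeCompl _ _ _
    exact .equiv (Algebra.IsPushout.equiv R Rp A Sp)
  have hfl : Module.Flat Rp Sq := (Module.flat_iff_of_isLocalization Rp p.primeCompl Sq).mpr
    (inferInstance : Module.Flat R (Localization.AtPrime q))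
  -- the fibre
  have e1 : Localization.AtPrime q' ≃ₐ[Rp] Sq ⧸ p.map (algebraMap R Sq) :=
    Ideal.Fiber.localizationAlgEquivQuotient p q'
  have hI : p.map (algebraMap R Sq) = (maximalIdeal Rp).map (algebraMap Rp Sq) := by
    rw [← Localization.AtPrime.map_eq_maximalIdeal, Ideal.map_map, ← IsScalarTower.algebraMap_eq]
  let e2 : 𝓀[Rp] ⊗[Rp] Sq ≃ₐ[Rp] Sq ⧸ (maximalIdeal Rp).map (algebraMap Rp Sq) :=
    (Algebra.TensorProduct.comm _ _ _).trans
      ((Algebra.TensorProduct.quotIdealMapEquivTensorQuot Sq (maximalIdeal Rp)).symm.restrictScalars _)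
  let e3 : Localization.AtPrime q' ≃ₐ[Rp] 𝓀[Rp] ⊗[Rp] Sq :=
    e1.trans ((Ideal.quotientEquivAlgOfEq Rp hI).trans e2.symm)
  let e4 : Localization.AtPrime q' ≃ₐ[𝓀[Rp]] 𝓀[Rp] ⊗[Rp] Sq :=
    AlgEquiv.extendScalarsOfSurjective (IsLocalRing.residue_surjective) e3
  have : Algebra.FormallySmooth 𝓀[Rp] (𝓀[Rp] ⊗[Rp] Sq) :=
    Algebra.FormallySmooth.of_equiv (R := 𝓀[Rp]) (A := Localization.AtPrime q') e4
  have := Algebra.FormallySmooth.of_formallySmooth_residueField_tensor
    (R := Rp) (S := Sq) (P := Sp) (Algebra.algebraMapSubmonoid _ q.primeCompl)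
  exact .comp R Rp Sq


/-- Transport of smoothness at a prime along an equality of ideals. -/
theorem isSmoothAt_congr {R A : Type u} [CommRing R] [CommRing A] [Algebra R A]
    (q₁ q₂ : Ideal A) [q₁.IsPrime] [q₂.IsPrime] (h : q₁ = q₂) [Algebra.IsSmoothAt R q₁] :
    Algebra.IsSmoothAt R q₂ := by
  subst h
  infer_instance

attribute [local instance] Algebra.TensorProduct.rightAlgebra

/-- General fibre criterion: `A` finitely presented over `R`, flat at `q`; if the base change of `A`
to a field `K'` with `ker (R → K') = q ∩ R` is smooth at a prime over `q`, then `A` is smooth over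
`R` at `q`. -/
theorem isSmoothAt_of_fiber_gen {R A K' B' : Type u} [CommRing R] [CommRing A] [CommRing K']
    [CommRing B'] [Algebra R A] [Algebra R K'] [Algebra R B'] [Algebra K' B'] [Algebra A B']
    [IsScalarTower R K' B'] [IsScalarTower R A B'] [Algebra.IsPushout R K' A B']
    [Algebra.FinitePresentation R A] (q : Ideal A) [q.IsPrime]
    [Module.Flat R (Localization.AtPrime q)] (hK' : IsField K')
    (hker : RingHom.ker (algebraMap R K') = q.under R)
    (P' : Ideal B') [P'.IsPrime] [P'.LiesOver q] [Algebra.IsSmoothAt K' P'] :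
    Algebra.IsSmoothAt R q := by
  let p : Ideal R := q.under R
  haveI : q.LiesOver p := ⟨rfl⟩
  let K := p.ResidueField
  let φ : K →ₐ[R] K' := Ideal.ResidueField.liftₐ p (Algebra.ofId R K') (by
      intro x hx
      have : x ∈ RingHom.ker (algebraMap R K') := by rw [hker]; exact hx
      exact this) (by
      intro x hx
      simp only [Submonoid.mem_comap, IsUnit.mem_submonoid_iff]
      refine isUnit_iff_exists_inv.mpr (hK'.mul_inv_cancel ?_)
      intro h0
      apply hx
      show x ∈ q.under R
      rw [← hker]
      exact h0)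
  letI algKK' : Algebra K K' := φ.toRingHom.toAlgebra
  haveI : IsScalarTower R K K' := IsScalarTower.of_algebraMap_eq (fun r => (φ.commutes r).symm)
  letI algKB' : Algebra K B' := ((algebraMap K' B').comp φ.toRingHom).toAlgebra
  haveI : IsScalarTower K K' B' := IsScalarTower.of_algebraMap_eq (fun _ => rfl)
  haveI : IsScalarTower R K B' := .to₁₂₄ R K K' B'
  let A' := K ⊗[R] A
  let ψ : A' →ₐ[K] B' := Algebra.TensorProduct.lift (Algebra.ofId K B')
    (IsScalarTower.toAlgHom R A B') (fun _ _ => .all _ _)
  letI algA'B' : Algebra A' B' := ψ.toRingHom.toAlgebra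
  haveI : IsScalarTower K A' B' := IsScalarTower.of_algebraMap_eq (fun k => (ψ.commutes k).symm)
  haveI : IsScalarTower A A' B' := IsScalarTower.of_algebraMap_eq (fun a => by
    show algebraMap A B' a = ψ ((1 : K) ⊗ₜ[R] a)
    rw [Algebra.TensorProduct.lift_tmul, map_one, one_mul]
    rfl)
  haveI : IsScalarTower R A' B' := .to₁₃₄ R K A' B'
  have hpo : Algebra.IsPushout K K' A' B' :=
    (Algebra.IsPushout.comp_iff R K A (S' := A') (T := K') (T' := B')).mp inferInstance
  let q' : Ideal A' := P'.comap (algebraMap A' B')
  haveI : q'.IsPrime := Ideal.comap_isPrime _ _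
  haveI : P'.LiesOver q' := ⟨rfl⟩
  haveI : Algebra.FinitePresentation K A' := inferInstance
  haveI : Algebra.IsSmoothAt K q' :=
    Groth.Agent.Lib.Helper8.SmoothAtFlat.isSmoothAt_of_isPushout_flat (R := K) (T := K')
      (A := A') (B := B') q' P'
  have hq : q'.comap Algebra.TensorProduct.includeRight = q := by
    ext a
    rw [Ideal.mem_of_liesOver P' q a]
    simp only [Ideal.mem_comap, q']
    rw [show (Algebra.TensorProduct.includeRight (R := R) (A := K) (B := A)) a =
      algebraMap A A' a from rfl, ← IsScalarTower.algebraMap_apply]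
  haveI : Module.Flat R (Localization.AtPrime (q'.comap Algebra.TensorProduct.includeRight)) := by
    have : ∀ (q₁ : Ideal A) [q₁.IsPrime], q₁ = q → Module.Flat R (Localization.AtPrime q₁) := by
      intro q₁ _ h; subst h; infer_instance
    exact this _ hq
  haveI := isSmoothAt_of_fiber R A p q'
  exact isSmoothAt_congr _ q hq


/-- Pointwise descent of smoothness along an arbitrary base change, when the source is flat at
the point. -/
theorem isSmoothAt_of_isPushout_of_flat_left {R T A B : Type u} [CommRing R] [CommRing T]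
    [CommRing A] [CommRing B] [Algebra R T] [Algebra R A] [Algebra R B] [Algebra T B] [Algebra A B]
    [IsScalarTower R T B] [IsScalarTower R A B] [Algebra.IsPushout R T A B]
    [Algebra.FinitePresentation R A] (q : Ideal A) [q.IsPrime] (P : Ideal B) [P.IsPrime]
    [P.LiesOver q] [Module.Flat R (Localization.AtPrime q)]
    [Algebra.IsSmoothAt T P] : Algebra.IsSmoothAt R q := by
  let p' : Ideal T := P.under T
  haveI : P.LiesOver p' := ⟨rfl⟩
  let K' := p'.ResidueField
  let B'' := p'.Fiber B
  -- the prime of the fibre corresponding to `P`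
  let e := PrimeSpectrum.preimageEquivFiber T B ⟨p', inferInstance⟩
  let P₀ : PrimeSpectrum.comap (algebraMap T B) ⁻¹' {(⟨p', inferInstance⟩ : PrimeSpectrum T)} :=
    ⟨⟨P, inferInstance⟩, rfl⟩
  let P'' : Ideal B'' := (e P₀).asIdeal
  have hP'' : P''.comap (Algebra.TensorProduct.includeRight (R := T) (A := K') (B := B)) = P := by
    have := congrArg (fun x => x.1.asIdeal) (e.symm_apply_apply P₀)
    exact this
  haveI : P''.LiesOver P := ⟨hP''.symm⟩
  haveI : Algebra.IsSmoothAt K' P'' := isSmoothAt_baseChange (R := T) (T := K') (A := B)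
    (B := B'') P P''
  haveI : IsScalarTower R K' B'' := inferInstance
  haveI : IsScalarTower R B B'' := IsScalarTower.of_algebraMap_eq (fun r => by
    rw [IsScalarTower.algebraMap_apply R T B'', IsScalarTower.algebraMap_apply R T B,
      ← IsScalarTower.algebraMap_apply T B B''])
  letI algAB'' : Algebra A B'' := ((algebraMap B B'').comp (algebraMap A B)).toAlgebra
  haveI : IsScalarTower A B B'' := .of_algebraMap_eq (fun _ => rfl)
  haveI : IsScalarTower R A B'' := .of_algebraMap_eq (fun r => by
    rw [IsScalarTower.algebraMap_apply R B B'', IsScalarTower.algebraMap_apply R A B]; rfl)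
  haveI hpo : Algebra.IsPushout R K' A B'' :=
    (Algebra.IsPushout.comp_iff R T A (S' := B) (T := K') (T' := B'')).mpr inferInstance
  haveI : P''.LiesOver q := Ideal.LiesOver.trans P'' P q
  have hker : RingHom.ker (algebraMap R K') = q.under R := by
    rw [IsScalarTower.algebraMap_eq R T K', ← RingHom.comap_ker, Ideal.ker_algebraMap_residueField,
      (inferInstance : P.LiesOver q).over]
    simp only [Ideal.under, Ideal.comap_comap, p', ← IsScalarTower.algebraMap_eq]
  exact isSmoothAt_of_fiber_gen (R := R) (A := A) (K' := K') (B' := B'') q (Field.toIsField K') hker P''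

end Groth.Agent.Lib.Helper8.SmoothFiber
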