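import Mathlib
import Groth.Agent.Lib.Helper8.SmoothFiber

/-!
# Smooth locus and base change (flat source or flat base)
-/

set_option autoImplicit false
universe u
open AlgebraicGeometry CategoryTheory Limits TensorProduct

namespace Groth.Agent.Lib.Helper8.SmoothLocusBC

/-- Affine chart of a pullback square around a point: ring-level pushout with the relevant primes. -/
theorem exists_affine_chart {X S X' S' : Scheme.{u}} (f : X ⟶ S) (g : S' ⟶ S) (f' : X' ⟶ S')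
    (g' : X' ⟶ X) (h : IsPullback g' f' f g) (x' : X') :
    ∃ (W : S.Opens) (hW : IsAffineOpen W) (V : X.Opens) (hV : IsAffineOpen V)
      (W' : S'.Opens) (hW' : IsAffineOpen W') (V' : X'.Opens) (hV' : IsAffineOpen V')
      (hVW : V ≤ f ⁻¹ᵁ W) (hW'W : W' ≤ g ⁻¹ᵁ W) (hV'V : V' ≤ g' ⁻¹ᵁ V) (hV'W' : V' ≤ f' ⁻¹ᵁ W')
      (hx' : x' ∈ V'),
      IsPushout (f.appLE W V hVW) (g.appLE W W' hW'W) (g'.appLE V V' hV'V)
        (f'.appLE W' V' hV'W') := by
  obtain ⟨_, ⟨W, hW, rfl⟩, hxW, -⟩ :=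
    S.isBasis_affineOpens.exists_subset_of_mem_open (Set.mem_univ (f (g' x'))) isOpen_univ
  obtain ⟨_, ⟨V, hV, rfl⟩, hxV, hVW⟩ :=
    X.isBasis_affineOpens.exists_subset_of_mem_open hxW (W.2.preimage f.continuous)
  replace hVW : V ≤ f ⁻¹ᵁ W := hVW
  have hs' : f' x' ∈ (g ⁻¹ᵁ W : Set S') := by
    show g (f' x') ∈ W
    rw [← Scheme.Hom.comp_apply, ← h.w, Scheme.Hom.comp_apply]
    exact hxW
  obtain ⟨_, ⟨W', hW', rfl⟩, hxW', hW'W⟩ :=
    S'.isBasis_affineOpens.exists_subset_of_mem_open hs' (g ⁻¹ᵁ W).isOpen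
  replace hW'W : W' ≤ g ⁻¹ᵁ W := hW'W
  have hW : IsAffineOpen W := hW
  have hV : IsAffineOpen V := hV
  have hW' : IsAffineOpen W' := hW'
  let V' : X'.Opens := g' ⁻¹ᵁ V ⊓ f' ⁻¹ᵁ W'
  have hUY : V' = g' ⁻¹ᵁ V ⊓ f' ⁻¹ᵁ W' := rfl
  have : IsAffine (W : Scheme) := hW
  have : IsAffine (V : Scheme) := hV
  have : IsAffine (W' : Scheme) := hW'
  have hV' : IsAffineOpen V' :=
    .of_isIso (Scheme.Hom.isPullback_resLE h hW'W hVW hUY).isoPullback.hom
  have hiso := isIso_pushoutSection_of_isAffineOpen h hW'W hVW hUY hW hW' hV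
  have hpo := (isIso_pushoutSection_iff h hW'W hVW hUY).mp hiso
  exact ⟨W, hW, V, hV, W', hW', V', hV', hVW, hW'W, inf_le_left, inf_le_right, ⟨hxV, hxW'⟩, hpo⟩


set_option maxHeartbeats 800000 in
/-- In a cartesian square with `f` locally of finite presentation and `f` or `g` flat, a point of
the fibre product is in the smooth locus of the base change iff its image is in the smooth locus
of `f`. -/
theorem mem_smoothLocus_iff_of_isPullback {X S X' S' : Scheme.{u}} (f : X ⟶ S) (g : S' ⟶ S)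
    (f' : X' ⟶ S') (g' : X' ⟶ X) (h : IsPullback g' f' f g) [LocallyOfFinitePresentation f]
    [LocallyOfFinitePresentation f'] (hflat : Flat f ∨ Flat g) (x' : X') :
    x' ∈ f'.smoothLocus ↔ g' x' ∈ f.smoothLocus := by
  obtain ⟨W, hW, V, hV, W', hW', V', hV', hVW, hW'W, hV'V, hV'W', hx', hpo⟩ :=
    exists_affine_chart f g f' g' h x'
  have hfp : (f.appLE W V hVW).hom.FinitePresentation := f.finitePresentation_appLE hW hV hVW
  letI algRA : Algebra Γ(S, W) Γ(X, V) := (f.appLE W V hVW).hom.toAlgebra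
  letI algRT : Algebra Γ(S, W) Γ(S', W') := (g.appLE W W' hW'W).hom.toAlgebra
  letI algAB : Algebra Γ(X, V) Γ(X', V') := (g'.appLE V V' hV'V).hom.toAlgebra
  letI algTB : Algebra Γ(S', W') Γ(X', V') := (f'.appLE W' V' hV'W').hom.toAlgebra
  letI algRB : Algebra Γ(S, W) Γ(X', V') :=
    ((f'.appLE W' V' hV'W').hom.comp (g.appLE W W' hW'W).hom).toAlgebra
  haveI : IsScalarTower Γ(S, W) Γ(S', W') Γ(X', V') := IsScalarTower.of_algebraMap_eq (fun _ => rfl)
  haveI : IsScalarTower Γ(S, W) Γ(X, V) Γ(X', V') := IsScalarTower.of_algebraMap_eq (fun r => by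
    have := congrArg (fun φ => φ.hom r) hpo.w
    exact this.symm)
  haveI hfpA : Algebra.FinitePresentation Γ(S, W) Γ(X, V) := hfp
  have hpo' : Algebra.IsPushout Γ(S, W) Γ(X, V) Γ(S', W') Γ(X', V') :=
    CommRingCat.isPushout_iff_isPushout.mp hpo
  haveI hpo'' : Algebra.IsPushout Γ(S, W) Γ(S', W') Γ(X, V) Γ(X', V') := hpo'.symm
  rw [Scheme.Hom.mem_smoothLocus, Scheme.Hom.mem_smoothLocus,
    formallySmooth_stalkMap_iff W' hW' V' hV' hV'W' hx',
    formallySmooth_stalkMap_iff W hW V hV hVW (hV'V hx')]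
  set P := hV'.primeIdealOf ⟨x', hx'⟩ with hP
  set q := hV.primeIdealOf ⟨g' x', hV'V hx'⟩ with hq
  haveI hlies : P.asIdeal.LiesOver q.asIdeal :=
    ⟨congr($(IsAffineOpen.comap_primeIdealOf_appLE V hV V' hV' hV'V hx').1).symm⟩
  constructor
  · intro hsm
    haveI : Algebra.IsSmoothAt Γ(S', W') P.asIdeal := hsm
    rcases hflat with hf | hg
    · haveI : Module.Flat Γ(S, W) Γ(X, V) := f.flat_appLE hW hV hVW
      haveI : Module.Flat Γ(S, W) (Localization.AtPrime q.asIdeal) :=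
        Module.Flat.trans Γ(S, W) Γ(X, V) _
      exact Groth.Agent.Lib.Helper8.SmoothFiber.isSmoothAt_of_isPushout_of_flat_left
        (R := Γ(S, W)) (T := Γ(S', W')) (A := Γ(X, V)) (B := Γ(X', V')) q.asIdeal P.asIdeal
    · haveI : Module.Flat Γ(S, W) Γ(S', W') := g.flat_appLE hW hW' hW'W
      exact Groth.Agent.Lib.Helper8.SmoothAtFlat.isSmoothAt_of_isPushout_flat
        (R := Γ(S, W)) (T := Γ(S', W')) (A := Γ(X, V)) (B := Γ(X', V')) q.asIdeal P.asIdeal
  · intro hsm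
    haveI : Algebra.IsSmoothAt Γ(S, W) q.asIdeal := hsm
    exact Groth.Agent.Lib.Helper8.SmoothFiber.isSmoothAt_baseChange
      (R := Γ(S, W)) (T := Γ(S', W')) (A := Γ(X, V)) (B := Γ(X', V')) q.asIdeal P.asIdeal

end Groth.Agent.Lib.Helper8.SmoothLocusBC
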