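import Mathlib
import Groth.Prelude

/-
Existence of universal first order thickenings of formally unramified algebras (Stacks 04EA).
-/

universe u

namespace Groth.Agent.Lib.Helper8.UnivThickEx

open KaehlerDifferential TensorProduct

section deriv

variable {R P A : Type*} [CommRing R] [CommRing P] [CommRing A] [Algebra R P] [Algebra R A]
  [Algebra P A] [IsScalarTower R P A] (I : Ideal A) (hI : I ^ 2 = ⊥) (J : Ideal P)
  (hJ : ∀ x ∈ J, algebraMap P A x ∈ I)

include hI in
lemma mul_eq_zero_of_mem {x y : A} (hx : x ∈ I) (hy : y ∈ I) : x * y = 0 := by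
  have : x * y ∈ I ^ 2 := by rw [pow_two]; exact Ideal.mul_mem_mul hx hy
  rwa [hI] at this

include hI hJ in
lemma lift_eq_zero_of_mem (δ : Derivation R P I) (ω : Ω[P⁄R])
    (hω : ω ∈ J • (⊤ : Submodule P Ω[P⁄R])) : δ.liftKaehlerDifferential ω = 0 := by
  refine Submodule.smul_induction_on hω (fun j hj w _ => ?_)
    (fun x y hx hy => by rw [map_add, hx, hy, add_zero])
  rw [map_smul]
  apply Subtype.ext
  have h1 : ((j • δ.liftKaehlerDifferential w : I) : A) =
      algebraMap P A j * (δ.liftKaehlerDifferential w : A) := by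
    rw [Submodule.coe_smul_of_tower, Algebra.smul_def]
  rw [h1, mul_eq_zero_of_mem I hI (hJ j hj) (Subtype.mem _)]
  rfl

include hI hJ in
lemma deriv_eq_of_sub_mem (δ : Derivation R P I) (x y : P)
    (h : D R P x - D R P y ∈ J • (⊤ : Submodule P Ω[P⁄R])) : δ x = δ y := by
  have := lift_eq_zero_of_mem I hI J hJ δ _ h
  rwa [map_sub, Derivation.liftKaehlerDifferential_comp_D,
    Derivation.liftKaehlerDifferential_comp_D, sub_eq_zero] at this

omit [IsScalarTower R P A] in
include hI in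
lemma coe_deriv_mul (δ : Derivation R P I) (g x : P) (hx : algebraMap P A x ∈ I) :
    ((δ (g * x) : I) : A) = algebraMap P A g * (δ x : A) := by
  rw [Derivation.leibniz, Submodule.coe_add, Submodule.coe_smul_of_tower,
    Submodule.coe_smul_of_tower, Algebra.smul_def, Algebra.smul_def,
    mul_eq_zero_of_mem I hI hx (Subtype.mem _), add_zero]

end deriv

section main

variable (R : Type u) [CommRing R] (σ : Type u) (J : Ideal (MvPolynomial σ R))
  [Algebra.FormallyUnramified R (MvPolynomial σ R ⧸ J)]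

lemma exists_mem_sub_mem (ω : Ω[MvPolynomial σ R⁄R]) :
    ∃ x ∈ J, ω - D R _ x ∈ J • (⊤ : Submodule (MvPolynomial σ R) Ω[MvPolynomial σ R⁄R]) := by
  have hsurj : Function.Surjective (algebraMap (MvPolynomial σ R) (MvPolynomial σ R ⧸ J)) :=
    Ideal.Quotient.mk_surjective
  have hex := KaehlerDifferential.exact_kerCotangentToTensor_mapBaseChange R (MvPolynomial σ R)
    (MvPolynomial σ R ⧸ J) hsurj
  obtain ⟨c, hc⟩ := (hex ((1 : MvPolynomial σ R ⧸ J) ⊗ₜ ω)).mp (Subsingleton.elim _ _)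
  obtain ⟨x, rfl⟩ := Ideal.toCotangent_surjective _ c
  rw [kerCotangentToTensor_toCotangent] at hc
  have hx : x.1 ∈ J := by
    have h2 : Ideal.Quotient.mk J x.1 = 0 := x.2
    exact Ideal.Quotient.eq_zero_iff_mem.mp h2
  refine ⟨x.1, hx, ?_⟩
  rw [← LinearMap.ker_tensorProductMk, LinearMap.mem_ker, map_sub, TensorProduct.mk_apply,
    TensorProduct.mk_apply, hc, sub_self]

/-- The ideal `J' = J² + (f_i)` defining the universal thickening. -/
theorem exists_univ : ∃ (J' : Ideal (MvPolynomial σ R)) (h : J' ≤ J),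
    OmegaSh.IsUnivThickeningRing R (MvPolynomial σ R ⧸ J) (MvPolynomial σ R ⧸ J')
      (Ideal.Quotient.factorₐ R h) := by
  classical
  choose f hfJ hf using fun i : σ => exists_mem_sub_mem R σ J (D R _ (MvPolynomial.X i))
  let J' : Ideal (MvPolynomial σ R) := J ^ 2 ⊔ Ideal.span (Set.range f)
  have hspan : Ideal.span (Set.range f) ≤ J :=
    Ideal.span_le.mpr (by rintro _ ⟨i, rfl⟩; exact hfJ i)
  have h : J' ≤ J := sup_le (Ideal.pow_le_self two_ne_zero) hspan
  have hfJ' : ∀ i, f i ∈ J' := fun i => Ideal.mem_sup_right (Ideal.subset_span ⟨i, rfl⟩)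
  refine ⟨J', h, Ideal.Quotient.factor_surjective h, ?_, ?_⟩
  · change RingHom.ker (Ideal.Quotient.factor h) ^ 2 = ⊥
    rw [Ideal.Quotient.factor_ker, ← Ideal.map_pow, Ideal.map_eq_bot_iff_le_ker, Ideal.mk_ker]
    exact le_sup_left
  intro A _ _ I hI a
  -- uniqueness first
  have huniq : ∀ a₁ a₂ : (MvPolynomial σ R ⧸ J') →ₐ[R] A,
      (Ideal.Quotient.mkₐ R I).comp a₁ = a.comp (Ideal.Quotient.factorₐ R h) →
      (Ideal.Quotient.mkₐ R I).comp a₂ = a.comp (Ideal.Quotient.factorₐ R h) → a₂ = a₁ := by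
    intro a₁ a₂ h₁ h₂
    let ψ₁ : MvPolynomial σ R →ₐ[R] A := a₁.comp (Ideal.Quotient.mkₐ R J')
    let ψ₂ : MvPolynomial σ R →ₐ[R] A := a₂.comp (Ideal.Quotient.mkₐ R J')
    let _ : Algebra (MvPolynomial σ R) A := ψ₁.toRingHom.toAlgebra
    have : IsScalarTower R (MvPolynomial σ R) A :=
      IsScalarTower.of_algebraMap_eq (fun r => (ψ₁.commutes r).symm)
    have hψ₁ : ∀ x, Ideal.Quotient.mk I (ψ₁ x) = a (Ideal.Quotient.mk J x) := fun x =>
      AlgHom.congr_fun h₁ (Ideal.Quotient.mk J' x)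
    have hψ₂ : ∀ x, Ideal.Quotient.mk I (ψ₂ x) = a (Ideal.Quotient.mk J x) := fun x =>
      AlgHom.congr_fun h₂ (Ideal.Quotient.mk J' x)
    have hJI : ∀ x ∈ J, algebraMap (MvPolynomial σ R) A x ∈ I := by
      intro x hx
      change ψ₁ x ∈ I
      rw [← Ideal.Quotient.eq_zero_iff_mem, hψ₁, Ideal.Quotient.eq_zero_iff_mem.mpr hx, map_zero]
    have e : (Ideal.Quotient.mkₐ R I).comp ψ₂ =
        IsScalarTower.toAlgHom R (MvPolynomial σ R) (A ⧸ I) := by
      apply AlgHom.ext
      intro x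
      change Ideal.Quotient.mk I (ψ₂ x) = Ideal.Quotient.mk I (ψ₁ x)
      rw [hψ₁, hψ₂]
    let δ := derivationToSquareZeroOfLift I hI ψ₂ e
    have hδ : ∀ x, (δ x : A) = ψ₂ x - ψ₁ x := fun x => rfl
    have hδ0 : δ = 0 := by
      apply MvPolynomial.derivation_ext
      intro i
      rw [deriv_eq_of_sub_mem I hI J hJI δ _ _ (hf i)]
      apply Subtype.ext
      rw [hδ]
      change a₂ (Ideal.Quotient.mk J' (f i)) - a₁ (Ideal.Quotient.mk J' (f i)) = _
      rw [Ideal.Quotient.eq_zero_iff_mem.mpr (hfJ' i), map_zero, map_zero, sub_zero]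
      rfl
    apply AlgHom.ext
    intro y
    obtain ⟨x, rfl⟩ := Ideal.Quotient.mk_surjective y
    have := hδ x
    rw [hδ0] at this
    exact (sub_eq_zero.mp this.symm)
  -- existence
  let g : σ → A := fun i => Function.surjInv (Ideal.Quotient.mk_surjective (I := I))
    (a (Ideal.Quotient.mk J (MvPolynomial.X i)))
  let ψ : MvPolynomial σ R →ₐ[R] A := MvPolynomial.aeval g
  have hψ : ∀ x, Ideal.Quotient.mk I (ψ x) = a (Ideal.Quotient.mk J x) := by
    have : (Ideal.Quotient.mkₐ R I).comp ψ = a.comp (Ideal.Quotient.mkₐ R J) := by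
      apply MvPolynomial.algHom_ext
      intro i
      change Ideal.Quotient.mk I (MvPolynomial.aeval g (MvPolynomial.X i)) = _
      rw [MvPolynomial.aeval_X]
      exact Function.surjInv_eq _ _
    exact fun x => AlgHom.congr_fun this x
  let _ : Algebra (MvPolynomial σ R) A := ψ.toRingHom.toAlgebra
  have : IsScalarTower R (MvPolynomial σ R) A :=
    IsScalarTower.of_algebraMap_eq (fun r => (ψ.commutes r).symm)
  have hJI : ∀ x ∈ J, algebraMap (MvPolynomial σ R) A x ∈ I := by
    intro x hx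
    change ψ x ∈ I
    rw [← Ideal.Quotient.eq_zero_iff_mem, hψ, Ideal.Quotient.eq_zero_iff_mem.mpr hx, map_zero]
  let δ : Derivation R (MvPolynomial σ R) I :=
    MvPolynomial.mkDerivation R (fun i => (⟨ψ (f i), hJI _ (hfJ i)⟩ : I))
  have hδf : ∀ i, (δ (f i) : A) = ψ (f i) := by
    intro i
    rw [← deriv_eq_of_sub_mem I hI J hJI δ _ _ (hf i), MvPolynomial.mkDerivation_X]
  have hmul : ∀ g' x, x ∈ J → (δ x : A) = ψ x → (δ (g' * x) : A) = ψ (g' * x) := by
    intro g' x hx hx'
    rw [coe_deriv_mul I hI δ g' x (hJI x hx), hx', map_mul]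
    rfl
  have hkey : ∀ x ∈ J', (δ x : A) = ψ x := by
    intro x hx
    obtain ⟨y, hy, z, hz, rfl⟩ := Submodule.mem_sup.mp hx
    have hy' : (δ y : A) = ψ y := by
      rw [pow_two] at hy
      refine Submodule.mul_induction_on hy (fun m hm n hn => ?_) (fun m n hm hn => ?_)
      · rw [coe_deriv_mul I hI δ m n (hJI n hn), map_mul]
        have e1 : algebraMap (MvPolynomial σ R) A m * (δ n : A) = 0 :=
          mul_eq_zero_of_mem I hI (hJI m hm) (Subtype.mem _)
        have e2 : ψ m * ψ n = 0 := mul_eq_zero_of_mem I hI (hJI m hm) (hJI n hn)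
        rw [e1, e2]
      · rw [map_add, map_add, Submodule.coe_add, hm, hn]
    have hz' : (δ z : A) = ψ z := by
      refine Submodule.span_induction (p := fun z _ => (δ z : A) = ψ z) ?_ ?_ ?_ ?_ hz
      · rintro _ ⟨i, rfl⟩
        exact hδf i
      · rw [map_zero, map_zero]; rfl
      · intro m n _ _ hm hn
        rw [map_add, map_add, Submodule.coe_add, hm, hn]
      · intro g' m hm hm'
        exact hmul g' m (hspan hm) hm'
    rw [map_add, map_add, Submodule.coe_add, hy', hz']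
  let ψ' : MvPolynomial σ R →ₐ[R] A := liftOfDerivationToSquareZero I hI (-δ)
  have hψ' : ∀ x, ψ' x = -(δ x : A) + ψ x := fun x => rfl
  have h0 : ∀ x ∈ J', ψ' x = 0 := by
    intro x hx
    rw [hψ', hkey x hx, neg_add_cancel]
  let a' : (MvPolynomial σ R ⧸ J') →ₐ[R] A := Ideal.Quotient.liftₐ J' ψ' h0
  have ha' : (Ideal.Quotient.mkₐ R I).comp a' = a.comp (Ideal.Quotient.factorₐ R h) := by
    apply AlgHom.ext
    intro y
    obtain ⟨x, rfl⟩ := Ideal.Quotient.mk_surjective y
    change Ideal.Quotient.mk I (ψ' x) = a (Ideal.Quotient.mk J x)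
    rw [hψ', map_add, map_neg, Ideal.Quotient.eq_zero_iff_mem.mpr (Subtype.mem _), neg_zero,
      zero_add, hψ]
  exact ⟨a', ha', fun a₂ ha₂ => huniq a' a₂ ha' ha₂⟩

end main


end Groth.Agent.Lib.Helper8.UnivThickEx
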