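import Mathlib

/-!
# An elementwise criterion for integral closedness; permanence under faithfully flat descent,
direct limits, and localizations of smooth algebras
-/

set_option autoImplicit false
universe u v
open Polynomial TensorProduct

namespace Groth.Agent.Lib.Helper8.NormalCrit

/-- Elementwise criterion for a domain to be integrally closed. -/
def Crit (A : Type*) [CommRing A] : Prop :=
  ∀ (a b : A) (p : A[X]), b ≠ 0 → p.Monic → eval a (scaleRoots p b) = 0 → b ∣ a

theorem isIntegrallyClosed_iff_crit (A : Type*) [CommRing A] [IsDomain A] :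
    IsIntegrallyClosed A ↔ Crit A := by
  rw [isIntegrallyClosed_iff (FractionRing A)]
  constructor
  · intro H a b p hb hp hev
    have hbK : algebraMap A (FractionRing A) b ≠ 0 :=
      (map_ne_zero_iff _ (IsFractionRing.injective A (FractionRing A))).mpr hb
    have h1 : eval₂ (algebraMap A (FractionRing A))
        (algebraMap A (FractionRing A) a / algebraMap A (FractionRing A) b) p = 0 := by
      have := scaleRoots_eval₂_mul (p := p) (algebraMap A (FractionRing A))
        (algebraMap A (FractionRing A) a / algebraMap A (FractionRing A) b) b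
      rw [mul_div_cancel₀ _ hbK, eval₂_at_apply, hev, map_zero] at this
      exact (mul_eq_zero.mp this.symm).resolve_left (pow_ne_zero _ hbK)
    obtain ⟨c, hc⟩ := H (x := algebraMap A (FractionRing A) a / algebraMap A (FractionRing A) b)
      ⟨p, hp, h1⟩
    refine ⟨c, ?_⟩
    apply IsFractionRing.injective A (FractionRing A)
    rw [map_mul, hc, mul_div_cancel₀ _ hbK]
  · intro H x hx
    obtain ⟨a, b, hb, rfl⟩ := IsFractionRing.div_surjective (A := A) x
    obtain ⟨p, hp, hpx⟩ := hx
    have hb0 : (b : A) ≠ 0 := nonZeroDivisors.ne_zero hb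
    have hbK : algebraMap A (FractionRing A) b ≠ 0 :=
      (map_ne_zero_iff _ (IsFractionRing.injective A (FractionRing A))).mpr hb0
    have hev : eval a (scaleRoots p b) = 0 := by
      apply IsFractionRing.injective A (FractionRing A)
      rw [map_zero, ← eval₂_at_apply]
      have := scaleRoots_eval₂_mul (p := p) (algebraMap A (FractionRing A))
        (algebraMap A (FractionRing A) a / algebraMap A (FractionRing A) b) b
      rw [mul_div_cancel₀ _ hbK] at this
      rw [this, hpx, mul_zero]
    obtain ⟨c, hc⟩ := H a b p hb0 hp hev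
    exact ⟨c, by rw [hc, map_mul, mul_div_cancel_left₀ _ hbK]⟩

/-- Transport of the polynomial relation along a ring hom. -/
theorem eval_scaleRoots_map {A B : Type*} [CommRing A] [CommRing B] [Nontrivial B] (φ : A →+* B)
    (a b : A) (p : A[X]) (hp : p.Monic) :
    eval (φ a) (scaleRoots (p.map φ) (φ b)) = φ (eval a (scaleRoots p b)) := by
  rw [← map_scaleRoots _ _ _ (by rw [hp.leadingCoeff, map_one]; exact one_ne_zero), eval_map,
    eval₂_at_apply]

theorem crit_of_faithfullyFlat (A B : Type*) [CommRing A] [CommRing B] [Algebra A B]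
    [Module.FaithfullyFlat A B] [IsDomain B] (hB : Crit B) : Crit A := by
  intro a b p hb hp hev
  have hinj := FaithfulSMul.algebraMap_injective A B
  have h1 : algebraMap A B b ≠ 0 := (map_ne_zero_iff _ hinj).mpr hb
  have h2 : eval (algebraMap A B a)
      (scaleRoots (p.map (algebraMap A B)) (algebraMap A B b)) = 0 := by
    rw [eval_scaleRoots_map _ _ _ _ hp, hev, map_zero]
  obtain ⟨c, hc⟩ := hB _ _ _ h1 (hp.map _) h2
  have h3 : a ∈ ((Ideal.span {b}).map (algebraMap A B)).comap (algebraMap A B) := by
    rw [Ideal.mem_comap, Ideal.map_span, Set.image_singleton, Ideal.mem_span_singleton]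
    exact ⟨c, hc⟩
  rw [Ideal.comap_map_eq_self_of_faithfullyFlat] at h3
  exact Ideal.mem_span_singleton.mp h3

theorem isDomain_isIntegrallyClosed_of_faithfullyFlat (A B : Type*) [CommRing A] [CommRing B]
    [Algebra A B] [Module.FaithfullyFlat A B] [IsDomain B] [IsIntegrallyClosed B] :
    IsDomain A ∧ IsIntegrallyClosed A := by
  have hinj := FaithfulSMul.algebraMap_injective A B
  have hdom : IsDomain A := hinj.isDomain (algebraMap A B)
  exact ⟨hdom, (isIntegrallyClosed_iff_crit A).mpr
    (crit_of_faithfullyFlat A B ((isIntegrallyClosed_iff_crit B).mp inferInstance))⟩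

section DirectLimit

variable {ι : Type*} [Preorder ι] [Nonempty ι] [IsDirectedOrder ι] (G : ι → Type*)
  [∀ i, CommRing (G i)] (f : ∀ i j, i ≤ j → G i →+* G j)
  [DirectedSystem G fun i j h => f i j h]

open Ring.DirectLimit in
theorem isDomain_directLimit (hdom : ∀ i, IsDomain (G i)) :
    IsDomain (Ring.DirectLimit G fun i j h => f i j h) := by
  have hnt : Nontrivial (Ring.DirectLimit G fun i j h => f i j h) := by
    refine ⟨⟨0, 1, fun h01 => ?_⟩⟩
    let i := Classical.arbitrary ι
    have h0 : of G (fun i j h => f i j h) i 1 = 0 := by rw [map_one]; exact h01.symm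
    obtain ⟨j, hij, hj⟩ := of.zero_exact h0
    rw [map_one] at hj
    exact one_ne_zero hj
  have hnzd : NoZeroDivisors (Ring.DirectLimit G fun i j h => f i j h) := by
    refine ⟨fun {x y} hxy => ?_⟩
    obtain ⟨i, a, rfl⟩ := exists_of x
    obtain ⟨j, b, rfl⟩ := exists_of y
    obtain ⟨k, hik, hjk⟩ := exists_ge_ge i j
    have h0 : of G (fun i j h => f i j h) k (f i k hik a * f j k hjk b) = 0 := by
      rw [map_mul, of_f, of_f]; exact hxy
    obtain ⟨l, hkl, hl⟩ := of.zero_exact h0
    rw [map_mul] at hl
    rcases mul_eq_zero.mp hl with h1 | h1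
    · left
      rw [← of_f (hij := hik), ← of_f (hij := hkl), h1, map_zero]
    · right
      rw [← of_f (hij := hjk), ← of_f (hij := hkl), h1, map_zero]
  exact NoZeroDivisors.to_isDomain _

open Ring.DirectLimit in
theorem crit_directLimit (hdom : ∀ i, IsDomain (G i)) (hcrit : ∀ i, Crit (G i)) :
    Crit (Ring.DirectLimit G fun i j h => f i j h) := by
  have := isDomain_directLimit G f hdom
  intro x y p hy hp hev
  obtain ⟨i₁, p₁, hp₁⟩ := Polynomial.exists_of p
  obtain ⟨i₂, a₂, rfl⟩ := exists_of x
  obtain ⟨i₃, b₃, rfl⟩ := exists_of y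
  obtain ⟨k', h1, h2⟩ := exists_ge_ge i₁ i₂
  obtain ⟨k, hk', h3⟩ := exists_ge_ge k' i₃
  have hl : p ∈ lifts (of G (fun i j h => f i j h) k) := by
    rw [mem_lifts]
    refine ⟨p₁.map (f i₁ k (h1.trans hk')), ?_⟩
    rw [Polynomial.map_map, ← hp₁]
    congr 1
    ext z
    simp only [RingHom.comp_apply, of_f]
  obtain ⟨q, hq, -, hqm⟩ := lifts_and_natDegree_eq_and_monic hl hp
  set a := f i₂ k (h2.trans hk') a₂ with ha
  set b := f i₃ k h3 b₃ with hb
  have hofa : of G (fun i j h => f i j h) k a = of G (fun i j h => f i j h) i₂ a₂ := of_f _ _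
  have hofb : of G (fun i j h => f i j h) k b = of G (fun i j h => f i j h) i₃ b₃ := of_f _ _
  have h0 : of G (fun i j h => f i j h) k (eval a (scaleRoots q b)) = 0 := by
    rw [← eval_scaleRoots_map _ _ _ _ hqm, hq, hofa, hofb]
    exact hev
  obtain ⟨l, hkl, hl0⟩ := of.zero_exact h0
  haveI := hdom l
  have hbl : f k l hkl b ≠ 0 := by
    intro hc
    apply hy
    rw [← hofb, ← of_f (hij := hkl), hc, map_zero]
  have hrel : eval (f k l hkl a) (scaleRoots (q.map (f k l hkl)) (f k l hkl b)) = 0 := by
    rw [eval_scaleRoots_map _ _ _ _ hqm]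
    exact hl0
  obtain ⟨c, hc⟩ := hcrit l _ _ _ hbl (hqm.map _) hrel
  refine ⟨of G (fun i j h => f i j h) l c, ?_⟩
  rw [← hofa, ← hofb, ← of_f (hij := hkl) (x := a), ← of_f (hij := hkl) (x := b), hc, map_mul]

end DirectLimit

end Groth.Agent.Lib.Helper8.NormalCrit
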