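import Mathlib
import Groth.Agent.Lib.Helper8.NormalCrit

/-!
# Local rings of smooth algebras over normal domains are normal domains
-/

set_option autoImplicit false
universe u
open Polynomial TensorProduct IsLocalRing

namespace Groth.Agent.Lib.Helper8.NormalSmooth

open Groth.Agent.Lib.Helper8.NormalCrit

section

variable (R : Type u) [CommRing R] [IsDomain R] [IsIntegrallyClosed R]
  (F : Type u) [CommRing F] [Algebra R F]

theorem exists_eq_tmul_one_of_isIntegral
    (hbc : Function.Bijective (TensorProduct.toIntegralClosure R F (FractionRing R)))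
    (t : F ⊗[R] FractionRing R) (ht : IsIntegral F t) : ∃ f : F, t = f ⊗ₜ 1 := by
  obtain ⟨z, hz⟩ := hbc.2 ⟨t, ht⟩
  have key : ∀ z : F ⊗[R] integralClosure R (FractionRing R), ∃ f : F,
      ((toIntegralClosure R F (FractionRing R) z :
        integralClosure F (F ⊗[R] FractionRing R)) : F ⊗[R] FractionRing R) = f ⊗ₜ 1 := by
    intro z
    induction z using TensorProduct.induction_on with
    | zero => exact ⟨0, by simp⟩
    | tmul f c =>
      have hc : (c : FractionRing R) ∈ (⊥ : Subalgebra R (FractionRing R)) := by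
        rw [← IsIntegrallyClosed.integralClosure_eq_bot R (FractionRing R)]
        exact c.2
      obtain ⟨r, hr⟩ := Algebra.mem_bot.mp hc
      refine ⟨r • f, ?_⟩
      change f ⊗ₜ[R] (c : FractionRing R) = _
      rw [← hr, Algebra.algebraMap_eq_smul_one, TensorProduct.tmul_smul, TensorProduct.smul_tmul']
    | add x y hx hy =>
      obtain ⟨f₁, h₁⟩ := hx
      obtain ⟨f₂, h₂⟩ := hy
      exact ⟨f₁ + f₂, by rw [map_add, Subalgebra.coe_add, h₁, h₂, add_tmul]⟩
  obtain ⟨f, hf⟩ := key z
  exact ⟨f, by rw [← hf, hz]⟩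

variable [Module.Flat R F] [IsLocalRing F]

theorem tmul_one_injective :
    Function.Injective (fun f : F => (f ⊗ₜ[R] (1 : FractionRing R) : F ⊗[R] FractionRing R)) :=
  Algebra.TensorProduct.includeLeft_injective (S := R)
    (IsFractionRing.injective R (FractionRing R))

/-- The generic fibre of a flat local algebra over a normal domain, when von Neumann regular and
with integral elements coming from `F`, is a field. -/
theorem isField_tensor
    (hbc : Function.Bijective (TensorProduct.toIntegralClosure R F (FractionRing R)))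
    (hvnr : ∀ t : F ⊗[R] FractionRing R, ∃ y, t = t * t * y) :
    IsField (F ⊗[R] FractionRing R) := by
  have hinj := tmul_one_injective R F
  have hnt : Nontrivial (F ⊗[R] FractionRing R) := by
    refine ⟨⟨(0 : F) ⊗ₜ 1, (1 : F) ⊗ₜ 1, fun h => zero_ne_one (hinj h)⟩⟩
  have hidem : ∀ e : F ⊗[R] FractionRing R, e * e = e → e = 0 ∨ e = 1 := by
    intro e he
    have hint : IsIntegral F e := by
      refine ⟨X ^ 2 - X, monic_X_pow_sub (by simp), ?_⟩
      rw [eval₂_sub, eval₂_pow, eval₂_X, pow_two, he, sub_self]
    obtain ⟨f, rfl⟩ := exists_eq_tmul_one_of_isIntegral R F hbc e hint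
    have hf : f * f = f := by
      apply hinj
      change (f * f) ⊗ₜ[R] (1 : FractionRing R) = f ⊗ₜ 1
      rw [← he, Algebra.TensorProduct.tmul_mul_tmul, mul_one]
    have h01 : f * (1 - f) = 0 := by rw [mul_sub, mul_one, hf, sub_self]
    rcases IsLocalRing.isUnit_or_isUnit_one_sub_self f with hu | hu
    · right
      have : 1 - f = 0 := (hu.mul_right_eq_zero).mp h01
      rw [← sub_eq_zero.mp this]
      rfl
    · left
      have : f = 0 := (hu.mul_left_eq_zero).mp h01
      rw [this, zero_tmul]
  refine { exists_pair_ne := ⟨0, 1, zero_ne_one⟩, mul_comm := mul_comm, mul_inv_cancel := ?_ }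
  intro t ht
  obtain ⟨y, hy⟩ := hvnr t
  have he : (t * y) * (t * y) = t * y := by
    calc (t * y) * (t * y) = (t * t * y) * y := by ring
      _ = t * y := by rw [← hy]
  rcases hidem _ he with h0 | h1
  · exfalso
    apply ht
    calc t = t * t * y := hy
      _ = t * (t * y) := by ring
      _ = 0 := by rw [h0, mul_zero]
  · exact ⟨y, h1⟩

theorem isDomain_and_crit
    (hbc : Function.Bijective (TensorProduct.toIntegralClosure R F (FractionRing R)))
    (hvnr : ∀ t : F ⊗[R] FractionRing R, ∃ y, t = t * t * y) :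
    IsDomain F ∧ Crit F := by
  have hfield := isField_tensor R F hbc hvnr
  have hinj := tmul_one_injective R F
  letI : Field (F ⊗[R] FractionRing R) := hfield.toField
  have hdom : IsDomain F :=
    Function.Injective.isDomain (Algebra.TensorProduct.includeLeft : F →ₐ[R] F ⊗[R] FractionRing R).toRingHom
      hinj
  refine ⟨hdom, ?_⟩
  intro a b p hb hp hev
  let φ : F →+* F ⊗[R] FractionRing R :=
    (Algebra.TensorProduct.includeLeft : F →ₐ[R] F ⊗[R] FractionRing R).toRingHom
  have hφ : ∀ f : F, φ f = f ⊗ₜ 1 := fun f => rfl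
  have hb' : φ b ≠ 0 := fun h0 => hb (hinj (by
    change b ⊗ₜ[R] (1 : FractionRing R) = (0 : F) ⊗ₜ[R] (1 : FractionRing R)
    rw [← hφ, h0, zero_tmul]))
  have hint : IsIntegral F (φ a / φ b) := by
    refine ⟨p, hp, ?_⟩
    have := scaleRoots_eval₂_mul (p := p) φ (φ a / φ b) b
    rw [mul_div_cancel₀ _ hb', eval₂_at_apply, hev, map_zero] at this
    have h2 := (mul_eq_zero.mp this.symm).resolve_left (pow_ne_zero _ hb')
    exact h2
  obtain ⟨f, hf⟩ := exists_eq_tmul_one_of_isIntegral R F hbc _ hint
  refine ⟨f, ?_⟩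
  apply hinj
  change φ a = φ (b * f)
  rw [map_mul, hφ f, ← hf, mul_div_cancel₀ _ hb']

end


/-- A finite reduced algebra over a field is von Neumann regular. -/
theorem vnr_of_finite_reduced (k A : Type*) [Field k] [CommRing A] [Algebra k A]
    [Module.Finite k A] [IsReduced A] (a : A) : ∃ y, a = a * a * y := by
  haveI : IsArtinianRing A := IsArtinianRing.of_finite k A
  obtain ⟨n, y, hy⟩ := IsArtinian.exists_pow_succ_smul_dvd a (1 : A)
  simp only [smul_eq_mul, mul_one] at hy
  refine ⟨y, ?_⟩
  have h0 : a ^ n * (1 - a * y) = 0 := by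
    rw [mul_sub, mul_one, ← mul_assoc, ← pow_succ, hy, sub_self]
  have hnil : IsNilpotent (a - a * a * y) := by
    refine ⟨n + 1, ?_⟩
    have : a - a * a * y = a * (1 - a * y) := by ring
    rw [this, mul_pow, pow_succ, pow_succ]
    calc a ^ n * a * ((1 - a * y) ^ n * (1 - a * y))
        = a ^ n * (1 - a * y) * (a * (1 - a * y) ^ n) := by ring
      _ = 0 := by rw [h0, zero_mul]
  exact sub_eq_zero.mp hnil.eq_zero

section etale

variable (R : Type u) [CommRing R] [IsDomain R] [IsIntegrallyClosed R]
  (E : Type u) [CommRing E] [Algebra R E] [Algebra.Etale R E] (q : Ideal E) [q.IsPrime]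

theorem vnr_generic_fibre (l : E ⊗[R] FractionRing R) : ∃ y, l = l * l * y := by
  let c : E ⊗[R] FractionRing R ≃ₐ[R] FractionRing R ⊗[R] E :=
    Algebra.TensorProduct.comm R E (FractionRing R)
  haveI : Module.Finite (FractionRing R) (FractionRing R ⊗[R] E) :=
    Algebra.FormallyUnramified.finite_of_free _ _
  haveI : IsReduced (FractionRing R ⊗[R] E) :=
    Algebra.FormallyUnramified.isReduced_of_field (FractionRing R) _
  obtain ⟨y, hy⟩ := vnr_of_finite_reduced (FractionRing R) (FractionRing R ⊗[R] E) (c l)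
  refine ⟨c.symm y, ?_⟩
  apply c.injective
  rw [map_mul, map_mul, AlgEquiv.apply_symm_apply]
  exact hy

include R in
theorem isDomain_and_crit_of_etale :
    IsDomain (Localization.AtPrime q) ∧ Crit (Localization.AtPrime q) := by
  have hbc : Function.Bijective (TensorProduct.toIntegralClosure R (Localization.AtPrime q)
      (FractionRing R)) :=
    TensorProduct.toIntegralClosure_bijective_of_tower (S := E)
      TensorProduct.toIntegralClosure_bijective_of_smooth
      (TensorProduct.toIntegralClosure_bijective_of_isLocalization q.primeCompl)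
  haveI : Module.Flat R (Localization.AtPrime q) := Module.Flat.trans R E (Localization.AtPrime q)
  refine isDomain_and_crit R (Localization.AtPrime q) hbc ?_
  let ψ : E ⊗[R] FractionRing R →ₐ[R] Localization.AtPrime q ⊗[R] FractionRing R :=
    Algebra.TensorProduct.map (IsScalarTower.toAlgHom R E (Localization.AtPrime q))
      (AlgHom.id R (FractionRing R))
  have key : ∀ t : Localization.AtPrime q ⊗[R] FractionRing R,
      ∃ l v : E ⊗[R] FractionRing R, IsUnit (ψ v) ∧ t * ψ v = ψ l := by
    intro t
    induction t using TensorProduct.induction_on with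
    | zero => exact ⟨0, 1, by rw [map_one]; exact isUnit_one, by simp⟩
    | tmul f k =>
      obtain ⟨e, s, rfl⟩ := IsLocalization.exists_mk'_eq q.primeCompl f
      refine ⟨e ⊗ₜ k, (s : E) ⊗ₜ 1, ?_, ?_⟩
      · rw [Algebra.TensorProduct.map_tmul, map_one]
        exact (IsLocalization.map_units (Localization.AtPrime q) s).map
          (Algebra.TensorProduct.includeLeft :
            Localization.AtPrime q →ₐ[R] Localization.AtPrime q ⊗[R] FractionRing R)
      · rw [Algebra.TensorProduct.map_tmul, Algebra.TensorProduct.map_tmul, map_one,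
          Algebra.TensorProduct.tmul_mul_tmul, mul_one]
        congr 1
        exact IsLocalization.mk'_spec _ e s
    | add x y hx hy =>
      obtain ⟨l₁, v₁, hu₁, h₁⟩ := hx
      obtain ⟨l₂, v₂, hu₂, h₂⟩ := hy
      refine ⟨l₁ * v₂ + l₂ * v₁, v₁ * v₂, ?_, ?_⟩
      · rw [map_mul]; exact hu₁.mul hu₂
      · rw [map_add, map_mul, map_mul, map_mul, ← h₁, ← h₂]
        ring
  intro t
  obtain ⟨l, v, hu, hlv⟩ := key t
  obtain ⟨y, hy⟩ := vnr_generic_fibre R E l
  refine ⟨ψ v * ψ y, ?_⟩
  have h1 : t * ψ v = t * ψ v * (t * ψ v) * ψ y := by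
    rw [hlv, ← map_mul, ← map_mul, ← hy]
  have h2 : t * ψ v = (t * t * (ψ v * ψ y)) * ψ v := by
    rw [h1]; ring
  exact hu.mul_left_injective h2

include R in
theorem isDomain_isIntegrallyClosed_of_etale :
    IsDomain (Localization.AtPrime q) ∧ IsIntegrallyClosed (Localization.AtPrime q) := by
  obtain ⟨hd, hc⟩ := isDomain_and_crit_of_etale R E q
  exact ⟨hd, (isIntegrallyClosed_iff_crit _).mpr hc⟩

end etale

end Groth.Agent.Lib.Helper8.NormalSmooth
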