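import Mathlib
import Groth.Prelude

/-
Universal first order thickenings: formal unramifiedness and differentials (Stacks 04EG-ish).
-/

universe u

namespace Groth.Agent.Lib.Helper8.UnivThickDiff

open KaehlerDifferential TensorProduct

section unram

variable {A B B' : Type u} [CommRing A] [CommRing B] [CommRing B'] [Algebra A B] [Algebra A B']
  (π : B' →ₐ[A] B) (h : OmegaSh.IsUnivThickeningRing A B B' π)

include h in
/-- Two maps out of a universal thickening agreeing modulo a square-zero ideal `L` containing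
the image of the kernel are equal. -/
lemma eq_of_sub_mem {T : Type u} [CommRing T] [Algebra A T] (L : Ideal T) (hL : L ^ 2 = ⊥)
    (g₁ g₂ : B' →ₐ[A] T) (hN : ∀ x, π x = 0 → g₁ x ∈ L) (h12 : ∀ x, g₁ x - g₂ x ∈ L) :
    g₁ = g₂ := by
  obtain ⟨hsurj, hsq, huniv⟩ := h
  let a₀ : B' →ₐ[A] T ⧸ L := (Ideal.Quotient.mkₐ A L).comp g₁
  have hker : RingHom.ker π.toRingHom ≤ RingHom.ker a₀.toRingHom := by
    intro x hx
    rw [RingHom.mem_ker]
    change Ideal.Quotient.mk L (g₁ x) = 0
    exact Ideal.Quotient.eq_zero_iff_mem.mpr (hN x hx)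
  let a : B →ₐ[A] T ⧸ L := AlgHom.liftOfSurjective π hsurj a₀ hker
  obtain ⟨a', -, hu⟩ := huniv T L hL a
  have e₁ : g₁ = a' := by
    apply hu
    apply AlgHom.ext
    intro x
    change Ideal.Quotient.mk L (g₁ x) = a (π x)
    rw [AlgHom.liftOfSurjective_apply]
    rfl
  have e₂ : g₂ = a' := by
    apply hu
    apply AlgHom.ext
    intro x
    change Ideal.Quotient.mk L (g₂ x) = a (π x)
    rw [AlgHom.liftOfSurjective_apply]
    change _ = Ideal.Quotient.mk L (g₁ x)
    exact (Ideal.Quotient.eq.mpr (h12 x)).symm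
  rw [e₁, e₂]

include h in
/-- A universal first order thickening of `B` over `A` is formally unramified over `A`. -/
theorem formallyUnramified : Algebra.FormallyUnramified A B' := by
  rw [Algebra.FormallyUnramified.iff_comp_injective]
  intro T _ _ I₀ hI₀ g₁ g₂ h12
  have hsq := h.2.1
  have h12' : ∀ x, g₁ x - g₂ x ∈ I₀ := fun x =>
    Ideal.Quotient.eq.mp (AlgHom.congr_fun h12 x)
  let N : Ideal B' := RingHom.ker π.toRingHom
  let N' : Ideal T := N.map g₁.toRingHom
  have hN'sq : N' * N' = ⊥ := by
    rw [← Ideal.map_mul, ← pow_two, hsq, Ideal.map_bot]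
  have hI₀sq : I₀ * I₀ = ⊥ := by rw [← pow_two, hI₀]
  have hmemN' : ∀ x, π x = 0 → g₁ x ∈ N' := fun x hx =>
    Ideal.mem_map_of_mem g₁.toRingHom (show x ∈ N from hx)
  let K : Ideal T := I₀ * N'
  -- step 1: `g₁ ≡ g₂` modulo `K`
  have step1 : ∀ x, g₁ x - g₂ x ∈ K := by
    let L : Ideal (T ⧸ K) := (I₀ ⊔ N').map (Ideal.Quotient.mk K)
    have hL : L ^ 2 = ⊥ := by
      rw [← Ideal.map_pow, Ideal.map_eq_bot_iff_le_ker, Ideal.mk_ker, pow_two, Ideal.sup_mul,
        Ideal.mul_sup, Ideal.mul_sup, hI₀sq, hN'sq, mul_comm N' I₀]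
      simp [K]
    have := eq_of_sub_mem π h L hL ((Ideal.Quotient.mkₐ A K).comp g₁)
      ((Ideal.Quotient.mkₐ A K).comp g₂)
      (fun x hx => Ideal.mem_map_of_mem _ (Ideal.mem_sup_right (hmemN' x hx)))
      (fun x => by
        change Ideal.Quotient.mk K (g₁ x) - Ideal.Quotient.mk K (g₂ x) ∈ L
        rw [← map_sub]
        exact Ideal.mem_map_of_mem _ (Ideal.mem_sup_left (h12' x)))
    intro x
    exact Ideal.Quotient.eq.mp (AlgHom.congr_fun this x)
  -- step 2
  let L₂ : Ideal T := K ⊔ N'
  have hL₂ : L₂ ^ 2 = ⊥ := by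
    have hKK : K * K = ⊥ := by
      rw [eq_bot_iff, ← hI₀sq]
      exact Ideal.mul_mono (Ideal.mul_le_left (I := I₀) (J := N')) (Ideal.mul_le_left (I := I₀) (J := N'))
    have hKN : K * N' = ⊥ := by
      simp only [K]
      rw [mul_assoc, hN'sq, Ideal.mul_bot]
    rw [pow_two, Ideal.sup_mul, Ideal.mul_sup, Ideal.mul_sup, hKK, hN'sq, mul_comm N' K, hKN]
    simp
  exact eq_of_sub_mem π h L₂ hL₂ g₁ g₂ (fun x hx => Ideal.mem_sup_right (hmemN' x hx))
    (fun x => Ideal.mem_sup_left (step1 x))

end unram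

section ext

variable {A B B' : Type u} [CommRing A] [CommRing B] [CommRing B'] [Algebra A B] [Algebra A B']
  (π : B' →ₐ[A] B) (h : OmegaSh.IsUnivThickeningRing A B B' π)
  (M : Type u) [AddCommGroup M] [Module B' M]

open TrivSqZeroExt in
include h in
/-- Derivations (here: additive maps satisfying the Leibniz rule) from `A` into a `B'`-module killed
by the kernel of a universal thickening `B' → B` extend to `B'`. -/
theorem exists_extend_derivation (hNM : ∀ (x : B') (m : M), π x = 0 → x • m = 0)
    (d : A →+ M)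
    (hd : ∀ a a' : A, d (a * a') = algebraMap A B' a • d a' + algebraMap A B' a' • d a) :
    ∃ δ' : B' →+ M, (∀ x y : B', δ' (x * y) = x • δ' y + y • δ' x) ∧
      ∀ a : A, δ' (algebraMap A B' a) = d a := by
  obtain ⟨hsurj, hsq, huniv⟩ := h
  let _ : Module B'ᵐᵒᵖ M :=
    Module.compHom M ((RingHom.id B').fromOpposite (fun _ _ => mul_comm _ _))
  have : IsCentralScalar B' M := ⟨fun r m => rfl⟩
  have hd1 : d 1 = 0 := by
    have := hd 1 1
    rw [mul_one, RingHom.map_one, one_smul] at this
    exact left_eq_add.mp this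
  let φ : A →+* TrivSqZeroExt B' M :=
    { toFun := fun a => inl (algebraMap A B' a) + inr (d a)
      map_one' := by rw [hd1, inr_zero, add_zero, map_one, inl_one]
      map_mul' := fun a a' => by
        apply TrivSqZeroExt.ext
        · simp
        · simp [hd, add_comm]
      map_zero' := by simp
      map_add' := fun a a' => by
        apply TrivSqZeroExt.ext
        · simp
        · simp }
  have hφfst : ∀ a, fst (φ a) = algebraMap A B' a := fun a => by simp [φ]
  have hφsnd : ∀ a, snd (φ a) = d a := fun a => by simp [φ]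
  let algA : Algebra A (TrivSqZeroExt B' M) := φ.toAlgebra
  let I : Ideal (TrivSqZeroExt B' M) :=
    RingHom.ker (π.toRingHom.comp (fstHom B' B' M).toRingHom)
  have hmemI : ∀ x, x ∈ I ↔ π (fst x) = 0 := fun x => Iff.rfl
  have hI : I ^ 2 = ⊥ := by
    rw [pow_two, eq_bot_iff, Ideal.mul_le]
    intro x hx y hy
    rw [hmemI] at hx hy
    rw [Ideal.mem_bot]
    apply TrivSqZeroExt.ext
    · rw [fst_mul, fst_zero]
      have : fst x * fst y ∈ RingHom.ker π.toRingHom ^ 2 := by
        rw [pow_two]
        exact Ideal.mul_mem_mul hx hy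
      rwa [hsq] at this
    · rw [snd_mul, snd_zero, hNM _ _ hx, op_smul_eq_smul, hNM _ _ hy, add_zero]
  let a₀ : B' →ₐ[A] TrivSqZeroExt B' M ⧸ I :=
    { toRingHom := (Ideal.Quotient.mk I).comp (inlHom B' M)
      commutes' := fun a => by
        change Ideal.Quotient.mk I (inl (algebraMap A B' a)) = Ideal.Quotient.mk I (φ a)
        rw [Ideal.Quotient.eq, hmemI]
        simp [hφfst] }
  have hker : RingHom.ker π.toRingHom ≤ RingHom.ker a₀.toRingHom := by
    intro x hx
    rw [RingHom.mem_ker]
    change Ideal.Quotient.mk I (inl x) = 0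
    rw [Ideal.Quotient.eq_zero_iff_mem, hmemI, fst_inl]
    exact hx
  let a : B →ₐ[A] TrivSqZeroExt B' M ⧸ I := AlgHom.liftOfSurjective π hsurj a₀ hker
  obtain ⟨a', ha', -⟩ := huniv (TrivSqZeroExt B' M) I hI a
  have ha'' : ∀ x, π (fst (a' x)) = π x := by
    intro x
    have h1 : Ideal.Quotient.mk I (a' x) = a (π x) := AlgHom.congr_fun ha' x
    rw [AlgHom.liftOfSurjective_apply] at h1
    change _ = Ideal.Quotient.mk I (inl x) at h1
    rw [Ideal.Quotient.eq, hmemI, fst_sub, fst_inl, map_sub, sub_eq_zero] at h1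
    exact h1
  let e : B' →ₐ[A] B' :=
    { toRingHom := (fstHom B' B' M).toRingHom.comp a'.toRingHom
      commutes' := fun a => by
        change fst (a' (algebraMap A B' a)) = algebraMap A B' a
        rw [a'.commutes]
        exact hφfst a }
  have he : e = AlgHom.id A B' := by
    refine eq_of_sub_mem π ⟨hsurj, hsq, huniv⟩ (RingHom.ker π.toRingHom) hsq e (AlgHom.id A B')
      (fun x hx => ?_) (fun x => ?_)
    · change π (fst (a' x)) = 0
      rw [ha'' x, hx]
    · change π (fst (a' x) - x) = 0
      rw [map_sub, ha'' x, sub_self]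
  have hfst : ∀ x, fst (a' x) = x := fun x => AlgHom.congr_fun he x
  refine ⟨{ toFun := fun x => snd (a' x)
            map_zero' := by rw [map_zero, snd_zero]
            map_add' := fun x y => by rw [map_add, snd_add] }, fun x y => ?_, fun a => ?_⟩
  · change snd (a' (x * y)) = x • snd (a' y) + y • snd (a' x)
    rw [map_mul, snd_mul, hfst, hfst, op_smul_eq_smul]
  · change snd (a' (algebraMap A B' a)) = d a
    rw [a'.commutes]
    exact hφsnd a

end ext

section main

variable (R : Type u) [CommRing R] (A : Type u) [CommRing A] [Algebra R A] (B : Type u)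
  [CommRing B] [Algebra A B] (B' : Type u) [CommRing B'] [Algebra A B']
  [Algebra R B'] [IsScalarTower R A B'] [Algebra B' B] [IsScalarTower A B' B]
  (h : OmegaSh.IsUnivThickeningRing A B B' (IsScalarTower.toAlgHom A B' B))

omit [IsScalarTower R A B'] [IsScalarTower A B' B] [Algebra A B] [Algebra R B'] in
lemma smul_one_tmul (c : B') (ω : Ω[A⁄R]) :
    c • ((1 : B) ⊗ₜ[B'] ((1 : B') ⊗ₜ[A] ω)) = (1 : B) ⊗ₜ[B'] (c ⊗ₜ[A] ω) := by
  rw [TensorProduct.smul_tmul', TensorProduct.smul_tmul, TensorProduct.smul_tmul', smul_eq_mul,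
    mul_one]

include h in
theorem bijective_baseChange :
    Function.Bijective ((KaehlerDifferential.mapBaseChange R A B').baseChange B) := by
  have hunr : Algebra.FormallyUnramified A B' := formallyUnramified _ h
  constructor
  · -- injectivity via a retraction
    have hNM : ∀ (x : B') (m : B ⊗[B'] (B' ⊗[A] Ω[A⁄R])),
        (IsScalarTower.toAlgHom A B' B) x = 0 → x • m = 0 := by
      intro x m hx
      induction m using TensorProduct.induction_on with
      | zero => simp
      | tmul b y =>
        rw [TensorProduct.smul_tmul', Algebra.smul_def, show algebraMap B' B x = 0 from hx,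
          zero_mul, TensorProduct.zero_tmul]
      | add m m' hm hm' => rw [smul_add, hm, hm', add_zero]
    let d : A →+ B ⊗[B'] (B' ⊗[A] Ω[A⁄R]) :=
      { toFun := fun a => (1 : B) ⊗ₜ[B'] ((1 : B') ⊗ₜ[A] D R A a)
        map_zero' := by rw [map_zero, TensorProduct.tmul_zero, TensorProduct.tmul_zero]
        map_add' := fun a a' => by rw [map_add, TensorProduct.tmul_add, TensorProduct.tmul_add] }
    have hd : ∀ a a' : A, d (a * a') = algebraMap A B' a • d a' + algebraMap A B' a' • d a := by
      intro a a'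
      change (1 : B) ⊗ₜ[B'] ((1 : B') ⊗ₜ[A] D R A (a * a')) =
        algebraMap A B' a • ((1 : B) ⊗ₜ[B'] ((1 : B') ⊗ₜ[A] D R A a')) +
        algebraMap A B' a' • ((1 : B) ⊗ₜ[B'] ((1 : B') ⊗ₜ[A] D R A a))
      have e1 : ∀ (a : A) (ω : Ω[A⁄R]),
          (1 : B') ⊗ₜ[A] (a • ω) = algebraMap A B' a ⊗ₜ[A] ω := fun a ω => by
        rw [← TensorProduct.smul_tmul, ← Algebra.algebraMap_eq_smul_one]
      rw [Derivation.leibniz, TensorProduct.tmul_add, TensorProduct.tmul_add, smul_one_tmul,
        smul_one_tmul, e1, e1]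
    obtain ⟨δ', hδ'mul, hδ'A⟩ := exists_extend_derivation _ h _ hNM d hd
    let _ : Algebra R B := ((algebraMap B' B).comp (algebraMap R B')).toAlgebra
    have : IsScalarTower R B' B := IsScalarTower.of_algebraMap_eq (fun _ => rfl)
    have hδ'R : ∀ r : R, δ' (algebraMap R B' r) = 0 := by
      intro r
      rw [IsScalarTower.algebraMap_apply R A B', hδ'A]
      change (1 : B) ⊗ₜ[B'] ((1 : B') ⊗ₜ[A] D R A (algebraMap R A r)) = 0
      rw [Derivation.map_algebraMap, TensorProduct.tmul_zero, TensorProduct.tmul_zero]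
    let δ : Derivation R B' (B ⊗[B'] (B' ⊗[A] Ω[A⁄R])) :=
      { toFun := δ'
        map_add' := δ'.map_add
        map_smul' := fun r x => by
          rw [Algebra.smul_def, hδ'mul, hδ'R, smul_zero, add_zero, algebraMap_smul]
          rfl
        map_one_eq_zero' := by
          have := hδ'R 1
          rwa [map_one] at this
        leibniz' := fun x y => hδ'mul x y }
    have hδ : ∀ x, δ x = δ' x := fun x => rfl
    let ρ : B ⊗[B'] Ω[B'⁄R] →ₗ[B] B ⊗[B'] (B' ⊗[A] Ω[A⁄R]) :=
      (δ.liftKaehlerDifferential).liftBaseChange B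
    have key : ∀ ω : Ω[A⁄R], ∀ (b : B) (b' : B'),
        ρ ((KaehlerDifferential.mapBaseChange R A B').baseChange B (b ⊗ₜ[B'] (b' ⊗ₜ[A] ω))) =
          b ⊗ₜ[B'] (b' ⊗ₜ[A] ω) := by
      intro ω
      have hω : ω ∈ Submodule.span A (Set.range (D R A)) := by
        rw [KaehlerDifferential.span_range_derivation]; trivial
      refine Submodule.span_induction (p := fun ω _ => ∀ (b : B) (b' : B'),
        ρ ((KaehlerDifferential.mapBaseChange R A B').baseChange B (b ⊗ₜ[B'] (b' ⊗ₜ[A] ω))) =
          b ⊗ₜ[B'] (b' ⊗ₜ[A] ω)) ?_ ?_ ?_ ?_ hω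
      · rintro _ ⟨a, rfl⟩ b b'
        rw [LinearMap.baseChange_tmul, KaehlerDifferential.mapBaseChange_tmul,
          KaehlerDifferential.map_D, LinearMap.liftBaseChange_tmul, map_smul,
          Derivation.liftKaehlerDifferential_comp_D, hδ, hδ'A]
        change b • b' • ((1 : B) ⊗ₜ[B'] ((1 : B') ⊗ₜ[A] D R A a)) = _
        rw [smul_one_tmul, TensorProduct.smul_tmul', smul_eq_mul, mul_one]
      · intro b b'
        rw [TensorProduct.tmul_zero, TensorProduct.tmul_zero, map_zero, map_zero]
      · intro x y _ _ hx hy b b'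
        rw [TensorProduct.tmul_add, TensorProduct.tmul_add, map_add, map_add, hx, hy]
      · intro a x _ hx b b'
        rw [← TensorProduct.smul_tmul]
        exact hx b _
    have hleft : ∀ m, ρ ((KaehlerDifferential.mapBaseChange R A B').baseChange B m) = m := by
      intro m
      induction m using TensorProduct.induction_on with
      | zero => rw [map_zero, map_zero]
      | tmul b y =>
        induction y using TensorProduct.induction_on with
        | zero => rw [TensorProduct.tmul_zero, map_zero, map_zero]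
        | tmul b' ω => exact key ω b b'
        | add y y' hy hy' => rw [TensorProduct.tmul_add, map_add, map_add, hy, hy']
      | add m m' hm hm' => rw [map_add, map_add, hm, hm']
    exact Function.LeftInverse.injective hleft
  · have hs : Function.Surjective (KaehlerDifferential.mapBaseChange R A B') := by
      have hex := KaehlerDifferential.exact_mapBaseChange_map R A B'
      intro x
      exact (hex x).mp (Subsingleton.elim _ _)
    intro y
    induction y using TensorProduct.induction_on with
    | zero => exact ⟨0, map_zero _⟩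
    | tmul b ω =>
      obtain ⟨x, rfl⟩ := hs ω
      exact ⟨b ⊗ₜ x, LinearMap.baseChange_tmul _ _ _⟩
    | add y y' hy hy' =>
      obtain ⟨x, rfl⟩ := hy
      obtain ⟨x', rfl⟩ := hy'
      exact ⟨x + x', map_add _ _ _⟩

end main

end Groth.Agent.Lib.Helper8.UnivThickDiff
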