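import Mathlib

/-!
# Field-valued points of schemes and residue fields

Helper lemmas on `K`-points (`K` a field) of schemes: a `K`-point over the generic point of the
spectrum of a domain with fraction field `K` is rational; two `K`-points at a rational point with
the same image agree; a point with trivial residue field extension carries a `K`-point.
-/

set_option autoImplicit false
universe u
open AlgebraicGeometry CategoryTheory CategoryTheory.Limits IsLocalRing

namespace Groth.Agent.Lib.Helper8.RatPt

/-- The residue field map is bijective as soon as the stalk map is surjective. -/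
theorem residueFieldMap_bijective_of_stalkMap_surjective {X Y : Scheme.{u}} (f : X ⟶ Y) (x : X)
    (h : Function.Surjective (f.stalkMap x).hom) :
    Function.Bijective (f.residueFieldMap x).hom := by
  refine ⟨RingHom.injective _, ?_⟩
  have h1 := Scheme.residue_residueFieldMap f x
  intro z
  obtain ⟨w, rfl⟩ := (X.residue_surjective x) z
  obtain ⟨v, rfl⟩ := h w
  refine ⟨(Y.residue (f x)).hom v, ?_⟩
  exact congrArg (fun φ => φ.hom v) h1

/-- A description of `K`-points in terms of points and residue field embeddings. -/
theorem exists_eq_specMap_fromSpecResidueField {P : Scheme.{u}} {K : Type u} [Field K]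
    (b : Spec (CommRingCat.of K) ⟶ P) :
    ∃ (x : P) (τ : P.residueField x ⟶ CommRingCat.of K),
      b = Spec.map τ ≫ P.fromSpecResidueField x :=
  ⟨_, _, (Scheme.descResidueField_stalkClosedPointTo_fromSpecResidueField K P b).symm⟩

theorem specMap_fromSpecResidueField_apply {P : Scheme.{u}} {K : Type u} [Field K] (x : P)
    (τ : P.residueField x ⟶ CommRingCat.of K) (t : ↥(Spec (CommRingCat.of K))) :
    (Spec.map τ ≫ P.fromSpecResidueField x) t = x := by
  rw [Scheme.Hom.comp_apply, Scheme.fromSpecResidueField_apply]

/-- Two `K`-points through the same point `x'` at which `p` induces a surjection of residue fields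
agree as soon as their composites with `p` agree. -/
theorem eq_of_residueFieldMap_surjective {P T : Scheme.{u}} (p : P ⟶ T) {K : Type u} [Field K]
    (b₁ b₂ : Spec (CommRingCat.of K) ⟶ P) (x' : P) (h₁ : b₁ (closedPoint K) = x')
    (h₂ : b₂ (closedPoint K) = x')
    (hs : Function.Surjective (p.residueFieldMap x').hom)
    (hcomp : b₁ ≫ p = b₂ ≫ p) : b₁ = b₂ := by
  obtain ⟨x₁, τ₁, rfl⟩ := exists_eq_specMap_fromSpecResidueField b₁
  obtain ⟨x₂, τ₂, rfl⟩ := exists_eq_specMap_fromSpecResidueField b₂
  rw [specMap_fromSpecResidueField_apply] at h₁ h₂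
  subst h₁
  subst h₂
  rw [Category.assoc, Category.assoc, ← Scheme.Hom.SpecMap_residueFieldMap_fromSpecResidueField,
    ← Category.assoc, ← Category.assoc, cancel_mono, ← Spec.map_comp, ← Spec.map_comp] at hcomp
  have h3 := Spec.map_injective hcomp
  have h4 : τ₁ = τ₂ := by
    apply CommRingCat.hom_ext
    apply RingHom.ext
    intro z
    obtain ⟨w, rfl⟩ := hs z
    exact congrArg (fun φ => φ.hom w) h3
  rw [h4]

/-- A point `x'` over the image of a `K`-point `b` with trivial residue field extension carries a
`K`-point lifting `b`. -/
theorem exists_point_lift {P T : Scheme.{u}} (p : P ⟶ T) {K : Type u} [Field K]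
    (b : Spec (CommRingCat.of K) ⟶ T) (x' : P) (hx : p x' = b (closedPoint K))
    (hρ : Function.Bijective (p.residueFieldMap x').hom) :
    ∃ σ : Spec (CommRingCat.of K) ⟶ P, σ (closedPoint K) = x' ∧ σ ≫ p = b := by
  obtain ⟨t, τ, rfl⟩ := exists_eq_specMap_fromSpecResidueField b
  rw [specMap_fromSpecResidueField_apply] at hx
  subst hx
  haveI : IsIso (p.residueFieldMap x') := (ConcreteCategory.isIso_iff_bijective _).mpr hρ
  refine ⟨Spec.map (inv (p.residueFieldMap x') ≫ τ) ≫ P.fromSpecResidueField x',
    specMap_fromSpecResidueField_apply _ _ _, ?_⟩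
  rw [Category.assoc, ← Scheme.Hom.SpecMap_residueFieldMap_fromSpecResidueField,
    ← Category.assoc, ← Spec.map_comp, IsIso.hom_inv_id_assoc]

/-- The bijectivity of the residue field embedding of a `K`-point can be read off from any
presentation of the point. -/
theorem desc_bijective_iff {P : Scheme.{u}} {K : Type u} [Field K]
    (b : Spec (CommRingCat.of K) ⟶ P) (x : P) (τ : P.residueField x ⟶ CommRingCat.of K)
    (hb : b = Spec.map τ ≫ P.fromSpecResidueField x) :
    Function.Bijective (Scheme.descResidueField (Scheme.stalkClosedPointTo b)).hom ↔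
      Function.Bijective τ.hom := by
  have h1 := Scheme.descResidueField_stalkClosedPointTo_fromSpecResidueField K P b
  have h2 : (Scheme.SpecToEquivOfField K P).symm
      ⟨b (closedPoint K), Scheme.descResidueField (Scheme.stalkClosedPointTo b)⟩ =
      (Scheme.SpecToEquivOfField K P).symm ⟨x, τ⟩ := h1.trans hb
  have h3 := (Scheme.SpecToEquivOfField K P).symm.injective h2
  obtain ⟨e, he⟩ := Scheme.SpecToEquivOfField_eq_iff.mp h3
  dsimp only at e he
  rw [he]
  subst e
  simp

/-- The image of the point of `Spec K` in `Spec A`, for `K` an extension field of a domain `A`,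
is the generic point. -/
theorem specMap_closedPoint_eq_genericPoint {A K : Type u} [CommRing A] [IsDomain A] [Field K]
    [Algebra A K] (hinj : Function.Injective (algebraMap A K)) :
    (Spec.map (CommRingCat.ofHom (algebraMap A K))) (closedPoint K) =
      genericPoint ↥(Spec (CommRingCat.of A)) := by
  rw [genericPoint_eq_bot_of_affine]
  apply PrimeSpectrum.ext
  ext a
  change algebraMap A K a ∈ (closedPoint K).asIdeal ↔ a ∈ (⊥ : Ideal A)
  rw [show (closedPoint K).asIdeal = maximalIdeal K from rfl, IsLocalRing.maximalIdeal_eq_bot,
    Ideal.mem_bot, Ideal.mem_bot]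
  exact ⟨fun h => hinj (by rw [h, map_zero]), fun h => by rw [h, map_zero]⟩

theorem desc_surjective_of_fraction {A K : Type u} [CommRing A] [IsDomain A] [Field K]
    [Algebra A K] [IsFractionRing A K]
    (r : Spec (CommRingCat.of K) ⟶ Spec (CommRingCat.of A))
    (hr : r = Spec.map (CommRingCat.ofHom (algebraMap A K))) :
    Function.Surjective (Scheme.descResidueField (Scheme.stalkClosedPointTo r)).hom := by
  have h1 := Scheme.descResidueField_stalkClosedPointTo_fromSpecResidueField K _ r
  rw [← Scheme.Spec.map_residueFieldIso_inv_eq_fromSpecResidueField, ← Spec.map_comp,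
    ← Spec.map_comp] at h1
  subst hr
  have h2 := Spec.map_injective h1
  intro k
  obtain ⟨a, b, hb, rfl⟩ := IsFractionRing.div_surjective (A := A) k
  have ha' : ∀ c : A, ∃ z, (Scheme.descResidueField (Scheme.stalkClosedPointTo
      (Spec.map (CommRingCat.ofHom (algebraMap A K))))).hom z = algebraMap A K c := by
    intro c
    have h3 := congrArg (fun φ => φ.hom c) h2
    simp only [CommRingCat.hom_comp, RingHom.comp_apply] at h3
    exact ⟨_, h3⟩
  obtain ⟨za, hza⟩ := ha' a
  obtain ⟨zb, hzb⟩ := ha' b
  exact ⟨za / zb, by rw [map_div₀, hza, hzb]⟩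

/-- A `K`-point of `P` over the generic point of `Spec A` (`K` the fraction field of `A`) is
rational: the residue field extension is trivial, and the residue field embedding into `K` is
bijective. -/
theorem residueFieldMap_bijective_of_generic {A K : Type u} [CommRing A] [IsDomain A] [Field K]
    [Algebra A K] [IsFractionRing A K] {P : Scheme.{u}} (p : P ⟶ Spec (CommRingCat.of A))
    (σ : Spec (CommRingCat.of K) ⟶ P)
    (hσ : σ ≫ p = Spec.map (CommRingCat.ofHom (algebraMap A K))) :
    Function.Bijective (p.residueFieldMap (σ (closedPoint K))).hom ∧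
      Function.Bijective (Scheme.descResidueField (Scheme.stalkClosedPointTo σ)).hom := by
  have hT := desc_surjective_of_fraction (σ ≫ p) hσ
  have hc := Scheme.descResidueField_stalkClosedPointTo_comp p σ
  have hτ : Function.Surjective ((p.residueFieldMap (σ (closedPoint K)) ≫
      Scheme.descResidueField (Scheme.stalkClosedPointTo σ)).hom) := by
    rw [← hc]; exact hT
  have hσs : Function.Surjective (Scheme.descResidueField (Scheme.stalkClosedPointTo σ)).hom := by
    have h5 : Function.Surjective
        ((Scheme.descResidueField (Scheme.stalkClosedPointTo σ)).hom ∘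
          (p.residueFieldMap (σ (closedPoint K))).hom) := hτ
    exact Function.Surjective.of_comp h5
  have hσi : Function.Injective (Scheme.descResidueField (Scheme.stalkClosedPointTo σ)).hom :=
    RingHom.injective _
  refine ⟨⟨RingHom.injective _, ?_⟩, hσi, hσs⟩
  intro y
  obtain ⟨z, hz⟩ := hτ ((Scheme.descResidueField (Scheme.stalkClosedPointTo σ)).hom y)
  exact ⟨z, hσi hz⟩

end Groth.Agent.Lib.Helper8.RatPt
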