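import Mathlib
import Groth.Agent.Lib.Helper3.ChowFinal
import Groth.Agent.Lib.Helper3.QProj
import Groth.Agent.Lib.Helper7.ValSpecDvr
import Groth.Agent.Lib.Helper7.RedLib
import Groth.Agent.Lib.Helper8.RatPt

/-!
# Properness at a point via discrete valuation rings (EGA IV 15.7)

For `f : X ⟶ Y` separated of finite type over a (locally) Noetherian base and `y : Y`: if every
DVR-test centred at `y`, with generic point mapping to a generic point of `X`, has a lift, then
`f` is proper over an open neighbourhood of `y`.  The proof uses Chow's lemma (Helper3) and the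
existence of discrete valuation rings through specializations (Helper7).
-/

set_option autoImplicit false
universe u
open AlgebraicGeometry CategoryTheory CategoryTheory.Limits TopologicalSpace IsLocalRing

namespace Groth.Agent.Lib.Helper8.ProperAtDvr

open Groth.Agent.Lib.Helper8.RatPt

/-- DVR lifting property of `f` at `y`, tested only on `L`-points `x` of `X` whose image point lies
in `G` and has residue field `L`. -/
def DvrLiftsAt {X Y : Scheme.{u}} (f : X ⟶ Y) (y : Y) (G : Set X) : Prop :=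
  ∀ (L : Type u) [Field L] (A : ValuationSubring L), IsDiscreteValuationRing A →
    ∀ (x : Spec (CommRingCat.of L) ⟶ X) (g : Spec (CommRingCat.of A) ⟶ Y),
      g (closedPoint A) = y →
      x ≫ f = Spec.map (CommRingCat.ofHom A.subtype) ≫ g →
      x (closedPoint L) ∈ G →
      Function.Bijective (Scheme.descResidueField (Scheme.stalkClosedPointTo x)).hom →
      ∃ l : Spec (CommRingCat.of A) ⟶ X, l ≫ f = g ∧
        Spec.map (CommRingCat.ofHom A.subtype) ≫ l = x

theorem DvrLiftsAt.mono {X Y : Scheme.{u}} {f : X ⟶ Y} {y : Y} {G G' : Set X}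
    (h : DvrLiftsAt f y G) (hG : G' ⊆ G) : DvrLiftsAt f y G' :=
  fun L _ A hA x g hg hc hx hb => h L A hA x g hg hc (hG hx) hb

theorem DvrLiftsAt.restrict {X Y : Scheme.{u}} {f : X ⟶ Y} {y : Y} {G : Set X}
    (h : DvrLiftsAt f y G) (V : Y.Opens) (hy : y ∈ V) :
    DvrLiftsAt (f ∣_ V) ⟨y, hy⟩ ((f ⁻¹ᵁ V).ι ⁻¹' G) := by
  intro L _ A hA x g hg hc hx hb
  have hpb := isPullback_morphismRestrict f V
  have c1 : (g ≫ V.ι) (closedPoint A) = y := by
    rw [Scheme.Hom.comp_apply, hg]
    rfl
  have c2 : (x ≫ (f ⁻¹ᵁ V).ι) ≫ f = Spec.map (CommRingCat.ofHom A.subtype) ≫ g ≫ V.ι := by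
    rw [Category.assoc, ← morphismRestrict_ι, ← Category.assoc, hc, Category.assoc]
  have c4 : Function.Bijective (Scheme.descResidueField
      (Scheme.stalkClosedPointTo (x ≫ (f ⁻¹ᵁ V).ι))).hom := by
    have hc' := Scheme.descResidueField_stalkClosedPointTo_comp (f ⁻¹ᵁ V).ι x
    have h1 : Function.Bijective ((f ⁻¹ᵁ V).ι.residueFieldMap (x (closedPoint L))).hom :=
      (ConcreteCategory.isIso_iff_bijective _).mp inferInstance
    have h2 : Function.Bijective (((f ⁻¹ᵁ V).ι.residueFieldMap (x (closedPoint L)) ≫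
        Scheme.descResidueField (Scheme.stalkClosedPointTo x)).hom) := hb.comp h1
    rw [← hc'] at h2
    exact h2
  obtain ⟨l, hl1, hl2⟩ := h L A hA (x ≫ (f ⁻¹ᵁ V).ι) (g ≫ V.ι) c1 c2 hx c4
  refine ⟨hpb.lift g l hl1.symm, hpb.lift_fst _ _ _, ?_⟩
  apply hpb.hom_ext
  · rw [Category.assoc, hpb.lift_fst, hc]
  · rw [Category.assoc, hpb.lift_snd, hl2]

theorem isProper_toBase (n : ℕ) (S : Scheme.{u}) :
    IsProper (CohB1.ProjSpaceOver.toBase n S) := by
  unfold CohB1.ProjSpaceOver.toBase
  exact MorphismProperty.pullback_snd (P := @IsProper) _ _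
    (Groth.Agent.Lib.Helper3.QProj.isProper_toSpec _ n)

/-- The key step: a specialization in `P` over `y` of a point of `X''` stays in `X''`. -/
theorem mem_range_of_specializes {X X'' P Y : Scheme.{u}} [IsLocallyNoetherian P] (f : X ⟶ Y)
    (y : Y) (G : Set X) (H : DvrLiftsAt f y G) (π'' : X'' ⟶ X) [IsProper π''] (j'' : X'' ⟶ P)
    [LocallyOfFiniteType j''] (t : P ⟶ Y) [IsSeparated t] (hcomm : j'' ≫ t = π'' ≫ f) (e'' : X'')
    (he : π'' e'' ∈ G) (hres : Function.Bijective (π''.residueFieldMap e'').hom)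
    (p : P) (hsp : j'' e'' ⤳ p) (hp : t p = y) : p ∈ Set.range j'' := by
  by_cases hne : p = j'' e''
  · exact ⟨e'', hne.symm⟩
  obtain ⟨A, h, hA, hcl, hsq⟩ :=
    Groth.Agent.Lib.Helper7.exists_dvr_through_specialization j'' e'' p hsp hne
  obtain ⟨x'', hx''⟩ : ∃ x'' : Spec (CommRingCat.of (X''.residueField e'')) ⟶ X'',
      x'' = X''.fromSpecResidueField e'' := ⟨_, rfl⟩
  rw [← hx''] at hsq
  have c1 : (h ≫ t) (closedPoint A) = y := by
    rw [Scheme.Hom.comp_apply, hcl, hp]
  have c2 : (x'' ≫ π'') ≫ f = Spec.map (CommRingCat.ofHom A.subtype) ≫ h ≫ t := by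
    rw [Category.assoc, ← hcomm, ← Category.assoc, ← hsq, Category.assoc]
  have c3 : (x'' ≫ π'') (closedPoint (X''.residueField e'')) ∈ G := by
    rw [Scheme.Hom.comp_apply, hx'', Scheme.fromSpecResidueField_apply]
    exact he
  have c4 : Function.Bijective
      (Scheme.descResidueField (Scheme.stalkClosedPointTo (x'' ≫ π''))).hom := by
    rw [desc_bijective_iff (x'' ≫ π'') (π'' e'') (π''.residueFieldMap e'')
      (by rw [hx'', Scheme.Hom.SpecMap_residueFieldMap_fromSpecResidueField])]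
    exact hres
  obtain ⟨l, hl1, hl2⟩ := H (X''.residueField e'') A hA (x'' ≫ π'') (h ≫ t) c1 c2 c3 c4
  have hex : ValuativeCriterion.Existence π'' := by
    have h0 : UniversallyClosed π'' := inferInstance
    rw [UniversallyClosed.eq_valuativeCriterion] at h0
    exact h0.1
  let S₁ : ValuativeCommSq π'' :=
    { R := A, K := X''.residueField e'', i₁ := x'', i₂ := l, commSq := ⟨hl2.symm⟩ }
  obtain ⟨⟨l'', hl''1, hl''2⟩⟩ := hex S₁
  have hl''1' : Spec.map (CommRingCat.ofHom A.subtype) ≫ l'' = x'' := hl''1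
  have hl''2' : l'' ≫ π'' = l := hl''2
  let S₂ : ValuativeCommSq t :=
    { R := A, K := X''.residueField e'', i₁ := x'' ≫ j'', i₂ := h ≫ t,
      commSq := ⟨by
        change (x'' ≫ j'') ≫ t = Spec.map (CommRingCat.ofHom A.subtype) ≫ h ≫ t
        rw [← Category.assoc, hsq]⟩ }
  have huniq := IsSeparated.valuativeCriterion t S₂
  let a : S₂.commSq.LiftStruct := ⟨h, hsq, rfl⟩
  let b : S₂.commSq.LiftStruct := ⟨l'' ≫ j'', by
    change Spec.map (CommRingCat.ofHom A.subtype) ≫ l'' ≫ j'' = x'' ≫ j''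
    rw [← Category.assoc, hl''1'], by
    change (l'' ≫ j'') ≫ t = h ≫ t
    rw [Category.assoc, hcomm, ← Category.assoc, hl''2', hl1]⟩
  have hab : h = l'' ≫ j'' := congrArg CommSq.LiftStruct.l (huniq.elim a b)
  refine ⟨l'' (closedPoint A), ?_⟩
  rw [← Scheme.Hom.comp_apply, ← hab, hcl]

/-- **EGA IV 15.7** (core, Noetherian base): properness over a neighbourhood of `y` from the DVR
lifting property at `y` tested on generic points of `X`. -/
theorem exists_isProper_restrict_of_noetherian {X Y : Scheme.{u}} [IsNoetherian Y] (f : X ⟶ Y)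
    [IsSeparated f] [LocallyOfFiniteType f] [QuasiCompact f] (y : Y)
    (H : DvrLiftsAt f y (genericPoints X)) :
    ∃ U : Y.Opens, y ∈ U ∧ IsProper (f ∣_ U) := by
  classical
  haveI : IsLocallyNoetherian X := LocallyOfFiniteType.isLocallyNoetherian f
  haveI : CompactSpace X := QuasiCompact.compactSpace_of_compactSpace f
  haveI : IsNoetherian X := {}
  have hirr : (irreducibleComponents X).Finite :=
    NoetherianSpace.finite_irreducibleComponents
  obtain ⟨n, X', π, j, hj, hcomm, hπ, hπs, U, hUd, hUiso⟩ :=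
    Groth.Agent.Lib.Helper3.ChowFinal.chow f hirr
  haveI := hj
  haveI := hπ
  haveI := hπs
  haveI := hUiso
  haveI hP : IsProper (CohB1.ProjSpaceOver.toBase n Y) := isProper_toBase n Y
  haveI : IsLocallyNoetherian (CohB1.ProjSpaceOver n Y) :=
    LocallyOfFiniteType.isLocallyNoetherian (CohB1.ProjSpaceOver.toBase n Y)
  obtain ⟨t, ht⟩ : ∃ t : CohB1.ProjSpaceOver n Y ⟶ Y, t = CohB1.ProjSpaceOver.toBase n Y :=
    ⟨_, rfl⟩
  rw [← ht] at hcomm hP
  haveI := hP
  set G : Set X := genericPoints X with hG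
  have hGfin : G.Finite := genericPoints.finite hirr
  have hGd : closure G = Set.univ := genericPoints.closure
  let E : Set X' := {x' | π x' ∈ U ∧ π x' ∈ G}
  have hinj : Set.InjOn π (π ⁻¹' (U : Set X)) := by
    intro a ha b hb hab
    have h1 : (π ∣_ U) ⟨a, ha⟩ = (π ∣_ U) ⟨b, hb⟩ :=
      Subtype.ext (by rw [morphismRestrict_base_coe, morphismRestrict_base_coe]; exact hab)
    exact congrArg Subtype.val ((π ∣_ U).isOpenEmbedding.injective h1)
  have hEfin : E.Finite := by
    apply Set.Finite.of_finite_image (f := π)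
    · exact hGfin.subset (by rintro _ ⟨x', hx', rfl⟩; exact hx'.2)
    · exact hinj.mono (fun x' hx' => hx'.1)
  let D : Closeds X' := ⟨closure E, isClosed_closure⟩
  obtain ⟨X'', ι'', hι'', hrange⟩ : ∃ (X'' : Scheme.{u}) (ι'' : X'' ⟶ X'),
      IsClosedImmersion ι'' ∧ Set.range ι'' = closure E := by
    refine ⟨_, (Scheme.IdealSheafData.vanishingIdeal D).subschemeι, inferInstance, ?_⟩
    rw [Scheme.IdealSheafData.range_subschemeι, Scheme.IdealSheafData.coe_support_vanishingIdeal]
    rfl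
  haveI := hι''
  obtain ⟨π'', hπ''⟩ : ∃ π'' : X'' ⟶ X, π'' = ι'' ≫ π := ⟨_, rfl⟩
  obtain ⟨j'', hj''⟩ : ∃ j'' : X'' ⟶ CohB1.ProjSpaceOver n Y, j'' = ι'' ≫ j := ⟨_, rfl⟩
  haveI : IsProper π'' := by rw [hπ'']; infer_instance
  haveI : IsImmersion j'' := by rw [hj'']; infer_instance
  have hcomm'' : j'' ≫ t = π'' ≫ f := by
    rw [hπ'', hj'', Category.assoc, Category.assoc, hcomm]
  -- surjectivity of `π''`
  haveI : Surjective π'' := by
    constructor
    have h1 : π '' E = (U : Set X) ∩ G := by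
      ext x
      constructor
      · rintro ⟨x', hx', rfl⟩
        exact hx'
      · rintro ⟨hxU, hxG⟩
        obtain ⟨x', rfl⟩ := π.surjective x
        exact ⟨x', ⟨hxU, hxG⟩, rfl⟩
    have h2 : IsClosed (π '' closure E) := π.isClosedMap _ isClosed_closure
    have h3 : (U : Set X) ⊆ π '' closure E := by
      calc (U : Set X) = (U : Set X) ∩ closure G := by rw [hGd, Set.inter_univ]
        _ ⊆ closure ((U : Set X) ∩ G) := U.isOpen.inter_closure
        _ = closure (π '' E) := by rw [h1]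
        _ ⊆ π '' closure E := closure_minimal (Set.image_mono subset_closure) h2
    have h4 : π '' closure E = Set.univ := by
      apply Set.eq_univ_of_univ_subset
      rw [← hUd.closure_eq]
      exact closure_minimal h3 h2
    intro x
    have hx : x ∈ π '' closure E := h4 ▸ Set.mem_univ x
    obtain ⟨x', hx', rfl⟩ := hx
    obtain ⟨x'', rfl⟩ : x' ∈ Set.range ι'' := hrange ▸ hx'
    exact ⟨x'', by rw [hπ'', Scheme.Hom.comp_apply]⟩
  -- residue fields at the points of `E`
  have hres : ∀ e'' : X'', π (ι'' e'') ∈ U →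
      Function.Bijective (π''.residueFieldMap e'').hom := by
    intro e'' he
    apply residueFieldMap_bijective_of_stalkMap_surjective
    subst hπ''
    rw [Scheme.Hom.stalkMap_comp]
    have h1 : Function.Surjective (ι''.stalkMap e'').hom := ι''.stalkMap_surjective e''
    have h2 : Function.Surjective (π.stalkMap (ι'' e'')).hom := by
      have e := morphismRestrictStalkMap π U ⟨ι'' e'', he⟩
      have h3 : IsIso (π.stalkMap (ι'' e'')) :=
        ((MorphismProperty.isomorphisms CommRingCat).arrow_mk_iso_iff e).mp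
          (inferInstanceAs (IsIso ((π ∣_ U).stalkMap ⟨ι'' e'', he⟩)))
      exact ((ConcreteCategory.isIso_iff_bijective _).mp h3).2
    exact h1.comp h2
  -- the key property
  have hkey : ∀ p : CohB1.ProjSpaceOver n Y, t p = y → p ∈ closure (Set.range j'') →
      p ∈ Set.range j'' := by
    intro p hp hpc
    have h1 : Set.range j'' = j '' closure E := by
      rw [← hrange, hj'']
      ext q
      constructor
      · rintro ⟨a, rfl⟩
        exact ⟨ι'' a, ⟨a, rfl⟩, by rw [Scheme.Hom.comp_apply]⟩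
      · rintro ⟨_, ⟨a, rfl⟩, rfl⟩
        exact ⟨a, by rw [Scheme.Hom.comp_apply]⟩
    have h2 : closure (Set.range j'') ⊆ ⋃ e ∈ E, closure {j e} := by
      rw [h1]
      have h3 : j '' closure E ⊆ closure (j '' E) :=
        image_closure_subset_closure_image j.continuous
      refine (closure_minimal h3 isClosed_closure).trans ?_
      rw [Set.image_eq_iUnion, hEfin.closure_biUnion]
    obtain ⟨e, heE, hpe⟩ := Set.mem_iUnion₂.mp (h2 hpc)
    obtain ⟨e'', rfl⟩ : e ∈ Set.range ι'' := hrange ▸ subset_closure heE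
    have hje : j'' e'' = j (ι'' e'') := by rw [hj'', Scheme.Hom.comp_apply]
    have hπe : π'' e'' = π (ι'' e'') := by rw [hπ'', Scheme.Hom.comp_apply]
    exact mem_range_of_specializes f y G H π'' j'' t hcomm'' e'' (hπe ▸ heE.2)
      (hres e'' heE.1) p (hje ▸ specializes_iff_mem_closure.mpr hpe) hp
  -- the open neighbourhood
  let C : (CohB1.ProjSpaceOver n Y).Opens := j''.coborderRange
  have hF : IsClosed (t '' ((C : Set (CohB1.ProjSpaceOver n Y))ᶜ)) :=
    t.isClosedMap _ C.isOpen.isClosed_compl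
  have hyF : y ∉ t '' ((C : Set (CohB1.ProjSpaceOver n Y))ᶜ) := by
    rintro ⟨p, hpC, hp⟩
    have h1 : p ∈ closure (Set.range j'') \ Set.range j'' := by
      by_contra h
      exact hpC h
    exact h1.2 (hkey p hp h1.1)
  let UY : Y.Opens := ⟨(t '' ((C : Set (CohB1.ProjSpaceOver n Y))ᶜ))ᶜ, hF.isOpen_compl⟩
  have hW : t ⁻¹ᵁ UY ≤ C := by
    intro q hq
    by_contra hqC
    exact hq ⟨q, hqC, rfl⟩
  refine ⟨UY, hyF, ?_⟩
  haveI : IsClosedImmersion (j'' ∣_ t ⁻¹ᵁ UY) := by
    apply IsClosedImmersion.of_isPreimmersion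
    have h1 : Set.range (j'' ∣_ t ⁻¹ᵁ UY) = Subtype.val ⁻¹' closure (Set.range j'') := by
      ext q
      constructor
      · rintro ⟨a, rfl⟩
        exact subset_closure ⟨a.1, (morphismRestrict_base_coe j'' _ a).symm⟩
      · intro h
        have hq : q.1 ∈ Set.range j'' := by
          by_contra hq
          exact (hW q.2) ⟨h, hq⟩
        obtain ⟨a, ha⟩ := hq
        have haW : a ∈ j'' ⁻¹ᵁ t ⁻¹ᵁ UY := by
          show j'' a ∈ t ⁻¹ᵁ UY
          rw [ha]
          exact q.2
        exact ⟨⟨a, haW⟩, Subtype.ext (by rw [morphismRestrict_base_coe]; exact ha)⟩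
    rw [h1]
    exact isClosed_closure.preimage continuous_subtype_val
  haveI : IsProper (t ∣_ UY) := IsZariskiLocalAtTarget.restrict (P := @IsProper) hP UY
  have hp1' : IsProper (j'' ∣_ t ⁻¹ᵁ UY ≫ t ∣_ UY) := inferInstance
  have hp1 : IsProper ((j'' ≫ t) ∣_ UY) := by
    rw [morphismRestrict_comp]
    exact hp1'
  have hp2' : IsProper ((π'' ≫ f) ∣_ UY) := by
    rw [← hcomm'']
    exact hp1
  have hp2 : IsProper (π'' ∣_ f ⁻¹ᵁ UY ≫ f ∣_ UY) := by
    rw [morphismRestrict_comp] at hp2'
    exact hp2'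
  haveI : Surjective (π'' ∣_ f ⁻¹ᵁ UY) :=
    MorphismProperty.of_isPullback (P := @Surjective)
      (isPullback_morphismRestrict π'' (f ⁻¹ᵁ UY)).flip inferInstance
  haveI := hp2
  haveI : UniversallyClosed (f ∣_ UY) :=
    UniversallyClosed.of_comp_surjective (π'' ∣_ f ⁻¹ᵁ UY) (f ∣_ UY)
  haveI : IsSeparated (f ∣_ UY) :=
    IsZariskiLocalAtTarget.restrict (P := @IsSeparated) inferInstance UY
  haveI : LocallyOfFiniteType (f ∣_ UY) :=
    IsZariskiLocalAtTarget.restrict (P := @LocallyOfFiniteType) inferInstance UY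
  exact {}

/-- **EGA IV 15.7**, locally Noetherian base: it suffices to test over an affine open
neighbourhood of `y`. -/
theorem exists_isProper_restrict {X Y : Scheme.{u}} [IsLocallyNoetherian Y] (f : X ⟶ Y)
    [IsSeparated f] [LocallyOfFiniteType f] [QuasiCompact f] (y : Y) (V : Y.Opens)
    (hV : IsAffineOpen V) (hy : y ∈ V)
    (H : DvrLiftsAt (f ∣_ V) ⟨y, hy⟩ (genericPoints ↥(f ⁻¹ᵁ V))) :
    ∃ U : Y.Opens, y ∈ U ∧ IsProper (f ∣_ U) := by
  haveI : IsAffine V.toScheme := hV
  haveI : IsLocallyNoetherian V.toScheme := isLocallyNoetherian_of_isOpenImmersion V.ι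
  haveI : IsNoetherian V.toScheme := {}
  haveI : IsSeparated (f ∣_ V) :=
    IsZariskiLocalAtTarget.restrict (P := @IsSeparated) inferInstance V
  haveI : LocallyOfFiniteType (f ∣_ V) :=
    IsZariskiLocalAtTarget.restrict (P := @LocallyOfFiniteType) inferInstance V
  haveI : QuasiCompact (f ∣_ V) :=
    IsZariskiLocalAtTarget.restrict (P := @QuasiCompact) inferInstance V
  obtain ⟨U₁, hyU₁, hp⟩ := exists_isProper_restrict_of_noetherian (f ∣_ V) ⟨y, hy⟩ H
  refine ⟨V.ι ''ᵁ U₁, ⟨⟨y, hy⟩, hyU₁, rfl⟩, ?_⟩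
  rwa [← MorphismProperty.arrow_mk_iso_iff @IsProper (morphismRestrictRestrict f V U₁)]

end Groth.Agent.Lib.Helper8.ProperAtDvr
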