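import Mathlib

/-!
# Nilpotent ideals are adically complete; zero-dimensional local rings are henselian
-/

set_option autoImplicit false

open IsLocalRing

namespace Groth.Agent.Lib.Helper8

theorem isAdicComplete_of_pow_eq_bot {R : Type*} [CommRing R] (I : Ideal R) (N : ℕ)
    (h : I ^ N = ⊥) : IsAdicComplete I R := by
  have hbot : (I ^ N • ⊤ : Submodule R R) = ⊥ := by
    rw [h]; simp
  have hle : ∀ n, N ≤ n → (I ^ n • ⊤ : Submodule R R) = ⊥ := by
    intro n hn
    apply le_bot_iff.mp
    rw [← hbot]
    exact Submodule.smul_mono_left (Ideal.pow_le_pow_right hn)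
  refine { haus' := fun x hx => ?_, prec' := fun f hf => ⟨f N, fun n => ?_⟩ }
  · have := hx N
    rw [hbot, SModEq.bot] at this
    exact this
  · rcases le_total n N with hn | hn
    · exact hf hn
    · have := hf hn
      rw [hbot, SModEq.bot] at this
      rw [this]

theorem henselianLocalRing_of_forall_isNilpotent (R : Type*) [CommRing R] [IsLocalRing R]
    (h : ∀ x ∈ maximalIdeal R, IsNilpotent x) : HenselianLocalRing R := by
  refine ⟨fun f hf a₀ h₁ h₂ => ?_⟩
  obtain ⟨N, hN⟩ := h _ h₁
  let I : Ideal R := Ideal.span {f.eval a₀}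
  have hI : I ^ N = ⊥ := by
    rw [Ideal.span_singleton_pow, hN]; simp
  have hcomp : IsAdicComplete I R := isAdicComplete_of_pow_eq_bot I N hI
  have hH : HenselianRing R I := inferInstance
  obtain ⟨a, ha, haI⟩ := hH.is_henselian f hf a₀ (Ideal.subset_span rfl)
    (h₂.map (Ideal.Quotient.mk I))
  refine ⟨a, ha, ?_⟩
  have hIm : I ≤ maximalIdeal R := by
    rw [Ideal.span_le, Set.singleton_subset_iff]; exact h₁
  exact hIm haI

end Groth.Agent.Lib.Helper8
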