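import Mathlib

set_option autoImplicit false

namespace Groth.Agent.Lib.Helper8.WeakColim

universe u v w w'

/-- A weak index "category": hom-types with identities and composition (no laws) such that any two
objects have a common target. -/
structure WSys (ι : Type u) where
  H : ι → ι → Type v
  id : ∀ i, H i i
  comp : ∀ {i j k}, H i j → H j k → H i k
  directed : ∀ i j, ∃ k, Nonempty (H i k) ∧ Nonempty (H j k)

/-- `Y` is a weak colimit of the system `X` (zero-preserving maps `m h`, cocone `γ`): jointly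
surjective, and elements of the kernel die along some map of the system. -/
structure IsWeakColim {ι : Type u} (S : WSys.{u, v} ι) (X : ι → Type w) [∀ i, Zero (X i)]
    (Y : Type w') [Zero Y] (γ : ∀ i, X i → Y) (m : ∀ {i j}, S.H i j → X i → X j) : Prop where
  map_zero : ∀ {i j} (h : S.H i j), m h 0 = 0
  map_id : ∀ i x, m (S.id i) x = x
  map_comp : ∀ {i j k} (h : S.H i j) (h' : S.H j k) x, m (S.comp h h') x = m h' (m h x)
  compat : ∀ {i j} (h : S.H i j) x, γ j (m h x) = γ i x
  surj : ∀ y, ∃ i x, γ i x = y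
  ker : ∀ i x, γ i x = 0 → ∃ j, ∃ h : S.H i j, m h x = 0

namespace IsWeakColim

variable {ι : Type u} {S : WSys.{u, v} ι} {X : ι → Type w} [∀ i, Zero (X i)]
  {Y : Type w'} [Zero Y] {γ : ∀ i, X i → Y} {m : ∀ {i j}, S.H i j → X i → X j}

include γ in
theorem nonempty_index (hW : IsWeakColim S X Y γ m) : Nonempty ι :=
  let ⟨i, _, _⟩ := hW.surj 0
  ⟨i⟩

/-- Finitely many elements of the kernel of `γ i` die along a single map of the system. -/
theorem exists_kill_finset (hW : IsWeakColim S X Y γ m) {α : Type*} (s : Finset α) :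
    ∀ (i : ι) (x : α → X i), (∀ a ∈ s, γ i (x a) = 0) →
      ∃ j, ∃ h : S.H i j, ∀ a ∈ s, m h (x a) = 0 := by
  classical
  induction s using Finset.induction_on with
  | empty => intro i x _; exact ⟨i, S.id i, by simp⟩
  | insert a s has ih =>
    intro i x hx
    obtain ⟨j, h, hj⟩ := ih i x (fun b hb => hx b (Finset.mem_insert_of_mem hb))
    have h0 : γ j (m h (x a)) = 0 := by
      rw [hW.compat]; exact hx a (Finset.mem_insert_self a s)
    obtain ⟨k, h', hk⟩ := hW.ker j _ h0
    refine ⟨k, S.comp h h', fun b hb => ?_⟩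
    rw [hW.map_comp]
    rcases Finset.mem_insert.mp hb with rfl | hb
    · exact hk
    · rw [hj b hb, hW.map_zero]

/-- Two elements case. -/
theorem exists_kill (hW : IsWeakColim S X Y γ m) {i : ι} (x : X i) (hx : γ i x = 0) :
    ∃ j, ∃ h : S.H i j, m h x = 0 := hW.ker i x hx

/-- Finitely many elements of `Y` lift to a common stage. -/
theorem exists_lift_finset (hW : IsWeakColim S X Y γ m) {α : Type*} (s : Finset α)
    (y : α → Y) : ∃ i, ∃ x : α → X i, ∀ a ∈ s, γ i (x a) = y a := by
  classical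
  induction s using Finset.induction_on with
  | empty =>
    obtain ⟨i⟩ := hW.nonempty_index
    exact ⟨i, fun _ => 0, by simp⟩
  | insert a s has ih =>
    obtain ⟨i, x, hx⟩ := ih
    obtain ⟨j, xa, hxa⟩ := hW.surj (y a)
    obtain ⟨k, ⟨h⟩, ⟨h'⟩⟩ := S.directed i j
    refine ⟨k, fun b => if b = a then m h' xa else m h (x b), fun b hb => ?_⟩
    rcases Finset.mem_insert.mp hb with rfl | hb
    · simp [hW.compat, hxa]
    · have : b ≠ a := fun e => has (e ▸ hb)
      simp [this, hW.compat, hx b hb]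

/-- Same, starting above a given index. -/
theorem exists_lift_finset_above (hW : IsWeakColim S X Y γ m) {α : Type*} (s : Finset α)
    (y : α → Y) (i₀ : ι) : ∃ i, ∃ _ : S.H i₀ i, ∃ x : α → X i, ∀ a ∈ s, γ i (x a) = y a := by
  obtain ⟨i, x, hx⟩ := hW.exists_lift_finset s y
  obtain ⟨k, ⟨h⟩, ⟨h'⟩⟩ := S.directed i₀ i
  exact ⟨k, h, fun a => m h' (x a), fun a ha => by rw [hW.compat, hx a ha]⟩

/-- An element of `Y` lifts to a stage above a given index. -/
theorem exists_lift_above (hW : IsWeakColim S X Y γ m) (y : Y) (i₀ : ι) :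
    ∃ i, ∃ _ : S.H i₀ i, ∃ x : X i, γ i x = y := by
  obtain ⟨i, x, hx⟩ := hW.surj y
  obtain ⟨k, ⟨h⟩, ⟨h'⟩⟩ := S.directed i₀ i
  exact ⟨k, h, m h' x, by rw [hW.compat, hx]⟩

end IsWeakColim

end Groth.Agent.Lib.Helper8.WeakColim
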