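import Mathlib
import Groth.Agent.Lib.Helper8.WeakColim

set_option autoImplicit false

namespace Groth.Agent.Lib.Helper8.WeakColim

universe u v

open TensorProduct

section Tensor

variable {ι : Type u} {S : WSys.{u, v} ι} {R : Type*} [CommRing R] {X : ι → Type*}
  [∀ i, AddCommGroup (X i)] [∀ i, Module R (X i)] {Y : Type*} [AddCommGroup Y] [Module R Y]
  {γ : ∀ i, X i →ₗ[R] Y} {m : ∀ {i j}, S.H i j → (X i →ₗ[R] X j)}

namespace IsWeakColim

theorem lin_id (hW : IsWeakColim S X Y (fun i => γ i) (fun h => m h)) (i : ι) :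
    m (S.id i) = LinearMap.id := LinearMap.ext (hW.map_id i)

theorem lin_comp (hW : IsWeakColim S X Y (fun i => γ i) (fun h => m h)) {i j k : ι}
    (h : S.H i j) (h' : S.H j k) : m (S.comp h h') = m h' ∘ₗ m h :=
  LinearMap.ext (hW.map_comp h h')

theorem lin_compat (hW : IsWeakColim S X Y (fun i => γ i) (fun h => m h)) {i j : ι}
    (h : S.H i j) : γ j ∘ₗ m h = γ i := LinearMap.ext (hW.compat h)

end IsWeakColim

theorem finsuppScalarLeft_lTensor {κ : Type*} [DecidableEq κ] {N N' : Type*} [AddCommGroup N] [Module R N]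
    [AddCommGroup N'] [Module R N'] (u : N →ₗ[R] N') (z : (κ →₀ R) ⊗[R] N) (a : κ) :
    finsuppScalarLeft R N' κ (u.lTensor (κ →₀ R) z) a = u (finsuppScalarLeft R N κ z a) := by
  induction z using TensorProduct.induction_on with
  | zero => simp
  | tmul p n => simp [finsuppScalarLeft_apply_tmul_apply]
  | add z₁ z₂ h₁ h₂ => simp [h₁, h₂]

theorem rTensor_lTensor_apply {F M N N' : Type*} [AddCommGroup F] [Module R F] [AddCommGroup M]
    [Module R M] [AddCommGroup N] [Module R N] [AddCommGroup N'] [Module R N']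
    (π : F →ₗ[R] M) (u : N →ₗ[R] N') (z : F ⊗[R] N) :
    π.rTensor N' (u.lTensor F z) = u.lTensor M (π.rTensor N z) := by
  rw [← LinearMap.comp_apply, ← LinearMap.comp_apply, LinearMap.rTensor_comp_lTensor,
    LinearMap.lTensor_comp_rTensor]

namespace IsWeakColim

theorem lTensor_surj (hW : IsWeakColim S X Y (fun i => γ i) (fun h => m h))
    (M : Type*) [AddCommGroup M] [Module R M] (z : M ⊗[R] Y) :
    ∃ i, ∃ x : M ⊗[R] X i, (γ i).lTensor M x = z := by
  induction z using TensorProduct.induction_on with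
  | zero => obtain ⟨i⟩ := hW.nonempty_index; exact ⟨i, 0, _root_.map_zero _⟩
  | tmul a y =>
    obtain ⟨i, x, rfl⟩ := hW.surj y
    exact ⟨i, a ⊗ₜ x, by simp⟩
  | add z₁ z₂ h₁ h₂ =>
    obtain ⟨i, x₁, rfl⟩ := h₁
    obtain ⟨j, x₂, rfl⟩ := h₂
    obtain ⟨k, ⟨h⟩, ⟨h'⟩⟩ := S.directed i j
    refine ⟨k, (m h).lTensor M x₁ + (m h').lTensor M x₂, ?_⟩
    rw [map_add, ← LinearMap.comp_apply, ← LinearMap.comp_apply, ← LinearMap.lTensor_comp,
      ← LinearMap.lTensor_comp, hW.lin_compat, hW.lin_compat]

theorem lTensor_ker_finsupp (hW : IsWeakColim S X Y (fun i => γ i) (fun h => m h))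
    (κ : Type*) (i : ι) (z : (κ →₀ R) ⊗[R] X i) (hz : (γ i).lTensor (κ →₀ R) z = 0) :
    ∃ j, ∃ h : S.H i j, (m h).lTensor (κ →₀ R) z = 0 := by
  classical
  set z' := finsuppScalarLeft R (X i) κ z with hz'
  have h0 : ∀ a, γ i (z' a) = 0 := by
    intro a
    have := finsuppScalarLeft_lTensor (γ i) z a
    rw [hz] at this
    rw [hz', ← this]; simp
  obtain ⟨j, h, hj⟩ := hW.exists_kill_finset z'.support i (fun a => z' a) (fun a _ => h0 a)
  refine ⟨j, h, ?_⟩
  apply (finsuppScalarLeft R (X j) κ).injective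
  rw [_root_.map_zero]
  ext a
  rw [finsuppScalarLeft_lTensor, Finsupp.zero_apply]
  by_cases ha : a ∈ z'.support
  · exact hj a ha
  · rw [← hz', Finsupp.notMem_support_iff.mp ha, _root_.map_zero]

theorem lTensor_ker_of_presentation (hW : IsWeakColim S X Y (fun i => γ i) (fun h => m h))
    (M : Type*) [AddCommGroup M] [Module R M] {F : Type*} [AddCommGroup F] [Module R F]
    (π : F →ₗ[R] M) (hπ : Function.Surjective π)
    (hF : ∀ (k : ι) (u : F ⊗[R] X k), (γ k).lTensor F u = 0 →
      ∃ l, ∃ h : S.H k l, (m h).lTensor F u = 0)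
    (i : ι) (z : M ⊗[R] X i) (hz : (γ i).lTensor M z = 0) :
    ∃ j, ∃ h : S.H i j, (m h).lTensor M z = 0 := by
  obtain ⟨z', rfl⟩ := LinearMap.rTensor_surjective (X i) hπ z
  have h1 : π.rTensor Y ((γ i).lTensor F z') = 0 := by
    rw [← LinearMap.comp_apply, LinearMap.rTensor_comp_lTensor, ← LinearMap.lTensor_comp_rTensor,
      LinearMap.comp_apply]
    exact hz
  have hex : Function.Exact ((LinearMap.ker π).subtype.rTensor Y) (π.rTensor Y) :=
    rTensor_exact Y (LinearMap.exact_subtype_ker_map π) hπ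
  obtain ⟨w, hw⟩ := (hex _).mp h1
  obtain ⟨j, w', rfl⟩ := hW.lTensor_surj (LinearMap.ker π) w
  obtain ⟨k, ⟨h⟩, ⟨h'⟩⟩ := S.directed i j
  let u := (m h).lTensor F z' -
    (LinearMap.ker π).subtype.rTensor (X k) ((m h').lTensor (LinearMap.ker π) w')
  have hu : (γ k).lTensor F u = 0 := by
    have e1 : (γ k).lTensor F ((m h).lTensor F z') = (γ i).lTensor F z' := by
      rw [← LinearMap.comp_apply, ← LinearMap.lTensor_comp, hW.lin_compat]
    have e2 : (γ k).lTensor F ((LinearMap.ker π).subtype.rTensor (X k)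
        ((m h').lTensor (LinearMap.ker π) w')) =
        (LinearMap.ker π).subtype.rTensor Y ((γ j).lTensor (LinearMap.ker π) w') := by
      rw [← rTensor_lTensor_apply, ← LinearMap.comp_apply (LinearMap.lTensor _ (γ k)),
        ← LinearMap.lTensor_comp, hW.lin_compat]
    rw [map_sub, e1, e2, hw, sub_self]
  obtain ⟨l, h'', hl⟩ := hF k u hu
  refine ⟨l, S.comp h h'', ?_⟩
  have e3 : π.rTensor (X l) ((m h'').lTensor F u) = 0 := by rw [hl, _root_.map_zero]
  rw [map_sub, map_sub] at e3
  have e4 : π.rTensor (X l) ((m h'').lTensor F ((LinearMap.ker π).subtype.rTensor (X k)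
      ((m h').lTensor (LinearMap.ker π) w'))) = 0 := by
    have : π ∘ₗ (LinearMap.ker π).subtype = 0 := by
      ext x; exact x.2
    rw [rTensor_lTensor_apply, ← LinearMap.comp_apply (LinearMap.rTensor _ π),
      ← LinearMap.rTensor_comp, this, LinearMap.rTensor_zero, LinearMap.zero_apply,
      _root_.map_zero]
  rw [e4, sub_zero] at e3
  rw [hW.lin_comp, LinearMap.lTensor_comp, LinearMap.comp_apply, ← rTensor_lTensor_apply,
    ← rTensor_lTensor_apply]
  exact e3

theorem lTensor_ker (hW : IsWeakColim S X Y (fun i => γ i) (fun h => m h))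
    (M : Type*) [AddCommGroup M] [Module R M] (i : ι) (z : M ⊗[R] X i)
    (hz : (γ i).lTensor M z = 0) :
    ∃ j, ∃ h : S.H i j, (m h).lTensor M z = 0 :=
  hW.lTensor_ker_of_presentation M (Finsupp.linearCombination R id)
    (Finsupp.linearCombination_id_surjective R M) (fun k u hu => hW.lTensor_ker_finsupp M k u hu)
    i z hz

/-- **Tensoring on the left preserves weak colimits.** -/
theorem lTensor (hW : IsWeakColim S X Y (fun i => γ i) (fun h => m h))
    (M : Type*) [AddCommGroup M] [Module R M] :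
    IsWeakColim S (fun i => M ⊗[R] X i) (M ⊗[R] Y) (fun i => (γ i).lTensor M)
      (fun h => (m h).lTensor M) where
  map_zero h := _root_.map_zero _
  map_id i x := by rw [hW.lin_id, LinearMap.lTensor_id, LinearMap.id_apply]
  map_comp h h' x := by rw [hW.lin_comp, LinearMap.lTensor_comp, LinearMap.comp_apply]
  compat h x := by
    rw [← LinearMap.comp_apply, ← LinearMap.lTensor_comp, hW.lin_compat]
  surj := hW.lTensor_surj M
  ker := hW.lTensor_ker M

end IsWeakColim

theorem comm_rTensor_apply {M N N' : Type*} [AddCommGroup M] [Module R M] [AddCommGroup N]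
    [Module R N] [AddCommGroup N'] [Module R N'] (u : N →ₗ[R] N') (z : N ⊗[R] M) :
    TensorProduct.comm R N' M (u.rTensor M z) = u.lTensor M (TensorProduct.comm R N M z) := by
  induction z using TensorProduct.induction_on with
  | zero => simp
  | tmul p n => simp
  | add z₁ z₂ h₁ h₂ => simp [h₁, h₂]

namespace IsWeakColim

/-- **Tensoring on the right preserves weak colimits.** -/
theorem rTensor (hW : IsWeakColim S X Y (fun i => γ i) (fun h => m h))
    (M : Type*) [AddCommGroup M] [Module R M] :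
    IsWeakColim S (fun i => X i ⊗[R] M) (Y ⊗[R] M) (fun i => (γ i).rTensor M)
      (fun h => (m h).rTensor M) where
  map_zero h := _root_.map_zero _
  map_id i x := by rw [hW.lin_id, LinearMap.rTensor_id, LinearMap.id_apply]
  map_comp h h' x := by rw [hW.lin_comp, LinearMap.rTensor_comp, LinearMap.comp_apply]
  compat h x := by
    rw [← LinearMap.comp_apply, ← LinearMap.rTensor_comp, hW.lin_compat]
  surj z := by
    obtain ⟨i, x, hx⟩ := hW.lTensor_surj M (TensorProduct.comm R Y M z)
    refine ⟨i, (TensorProduct.comm R (X i) M).symm x, ?_⟩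
    apply (TensorProduct.comm R Y M).injective
    rw [comm_rTensor_apply, LinearEquiv.apply_symm_apply, hx]
  ker i z hz := by
    have h0 : (γ i).lTensor M (TensorProduct.comm R (X i) M z) = 0 := by
      rw [← comm_rTensor_apply, hz, _root_.map_zero]
    obtain ⟨j, h, hj⟩ := hW.lTensor_ker M i _ h0
    refine ⟨j, h, ?_⟩
    apply (TensorProduct.comm R (X j) M).injective
    rw [comm_rTensor_apply, hj, _root_.map_zero]

end IsWeakColim

end Tensor

section Alg

variable {ι : Type u} {S : WSys.{u, v} ι} {R : Type*} [CommRing R] {G : ι → Type*}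
  [∀ i, CommRing (G i)] [∀ i, Algebra R (G i)] {A : Type*} [CommRing A] [Algebra R A]
  {g : ∀ i, G i →ₐ[R] A} {m : ∀ {i j}, S.H i j → (G i →ₐ[R] G j)}

namespace IsWeakColim

/-- Base change on the left of a weak colimit of algebras. -/
theorem algLeft (hW : IsWeakColim S G A (fun i => g i) (fun h => m h))
    (N : Type*) [CommRing N] [Algebra R N] :
    IsWeakColim S (fun i => N ⊗[R] G i) (N ⊗[R] A)
      (fun i => Algebra.TensorProduct.map (AlgHom.id N N) (g i))
      (fun h => Algebra.TensorProduct.map (AlgHom.id N N) (m h)) :=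
  IsWeakColim.lTensor (γ := fun i => (g i).toLinearMap) (m := fun h => (m h).toLinearMap) hW N

/-- Base change on the right of a weak colimit of algebras. -/
theorem algRight (hW : IsWeakColim S G A (fun i => g i) (fun h => m h))
    (N : Type*) [CommRing N] [Algebra R N] :
    IsWeakColim S (fun i => G i ⊗[R] N) (A ⊗[R] N)
      (fun i => Algebra.TensorProduct.map (g i) (AlgHom.id R N))
      (fun h => Algebra.TensorProduct.map (m h) (AlgHom.id R N)) :=
  IsWeakColim.rTensor (γ := fun i => (g i).toLinearMap) (m := fun h => (m h).toLinearMap) hW N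

end IsWeakColim

end Alg


end Groth.Agent.Lib.Helper8.WeakColim
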