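import Mathlib
import Groth.Agent.Lib.Helper8.WeakColimTensor

set_option autoImplicit false

namespace Groth.Agent.Lib.Helper8.WeakColim

universe u v

open TensorProduct

namespace WSys

/-- Finite conjunctions of monotone, eventually true predicates are eventually true. -/
theorem exists_forall_finset {ι : Type u} (S : WSys.{u, v} ι) {α : Type*} (s : Finset α)
    (P : α → ι → Prop) (mono : ∀ a i j, S.H i j → P a i → P a j)
    (ev : ∀ a ∈ s, ∀ i₀, ∃ j, ∃ _ : S.H i₀ j, P a j) :
    ∀ i₀, ∃ j, ∃ _ : S.H i₀ j, ∀ a ∈ s, P a j := by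
  classical
  induction s using Finset.induction_on with
  | empty => intro i₀; exact ⟨i₀, S.id i₀, by simp⟩
  | insert a s has ih =>
    intro i₀
    obtain ⟨j, h, hj⟩ := ih (fun b hb => ev b (Finset.mem_insert_of_mem hb)) i₀
    obtain ⟨k, h', hk⟩ := ev a (Finset.mem_insert_self a s) j
    refine ⟨k, S.comp h h', fun b hb => ?_⟩
    rcases Finset.mem_insert.mp hb with rfl | hb
    · exact hk
    · exact mono b j k h' (hj b hb)

/-- Two monotone eventually true predicates are simultaneously eventually true. -/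
theorem exists_and {ι : Type u} (S : WSys.{u, v} ι) (P Q : ι → Prop)
    (monoP : ∀ i j, S.H i j → P i → P j)
    (evP : ∀ i₀, ∃ j, ∃ _ : S.H i₀ j, P j) (evQ : ∀ i₀, ∃ j, ∃ _ : S.H i₀ j, Q j) :
    ∀ i₀, ∃ j, ∃ _ : S.H i₀ j, P j ∧ Q j := by
  intro i₀
  obtain ⟨j, h, hj⟩ := evP i₀
  obtain ⟨k, h', hk⟩ := evQ j
  exact ⟨k, S.comp h h', monoP j k h' hj, hk⟩

end WSys

section Alg

variable {ι : Type u} {S : WSys.{u, v} ι} {R : Type*} [CommRing R] {G : ι → Type*}
  [∀ i, CommRing (G i)] [∀ i, Algebra R (G i)] {A : Type*} [CommRing A] [Algebra R A]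
  {g : ∀ i, G i →ₐ[R] A} {m : ∀ {i j}, S.H i j → (G i →ₐ[R] G j)}

namespace IsWeakColim

theorem alg_compat (hW : IsWeakColim S G A (fun i => g i) (fun h => m h)) {i j : ι}
    (h : S.H i j) : (g j).comp (m h) = g i := AlgHom.ext (hW.compat h)

theorem alg_comp (hW : IsWeakColim S G A (fun i => g i) (fun h => m h)) {i j k : ι}
    (h : S.H i j) (h' : S.H j k) : m (S.comp h h') = (m h').comp (m h) :=
  AlgHom.ext (hW.map_comp h h')

/-- Homs out of a finite type algebra into the stages of a weak colimit which agree in the colimit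
agree at a later stage. -/
theorem exists_comp_eq_of_finiteType (hW : IsWeakColim S G A (fun i => g i) (fun h => m h))
    {C : Type*} [CommRing C] [Algebra R C] [Algebra.FiniteType R C] {i : ι}
    (u w : C →ₐ[R] G i) (huw : (g i).comp u = (g i).comp w) :
    ∃ j, ∃ h : S.H i j, (m h).comp u = (m h).comp w := by
  obtain ⟨s, hs⟩ := Algebra.FiniteType.out (R := R) (A := C)
  obtain ⟨j, h, hj⟩ := hW.exists_kill_finset s i (fun c => u c - w c) (fun c _ => by
    have := AlgHom.congr_fun huw c
    simp only [AlgHom.comp_apply] at this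
    rw [map_sub, this, sub_self])
  refine ⟨j, h, AlgHom.ext_of_adjoin_eq_top hs (fun c hc => ?_)⟩
  have := hj c hc
  rw [map_sub, sub_eq_zero] at this
  exact this

/-- A hom from a finitely presented algebra to a weak colimit lifts to some stage. -/
theorem exists_lift_of_finitePresentation
    (hW : IsWeakColim S G A (fun i => g i) (fun h => m h))
    {C : Type*} [CommRing C] [Algebra R C] [Algebra.FinitePresentation R C]
    (σ : C →ₐ[R] A) (i₀ : ι) :
    ∃ j, ∃ _ : S.H i₀ j, ∃ σ' : C →ₐ[R] G j, (g j).comp σ' = σ := by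
  obtain ⟨n, f, hf, t, ht⟩ := Algebra.FinitePresentation.out (R := R) (A := C)
  obtain ⟨i, h₀, x, hx⟩ := hW.exists_lift_finset_above Finset.univ
    (fun k : Fin n => σ (f (MvPolynomial.X k))) i₀
  let τ : MvPolynomial (Fin n) R →ₐ[R] G i := MvPolynomial.aeval x
  have hτ : (g i).comp τ = σ.comp f := by
    apply MvPolynomial.algHom_ext
    intro k
    simp only [AlgHom.comp_apply, τ, MvPolynomial.aeval_X]
    exact hx k (Finset.mem_univ k)
  obtain ⟨j, h, hj⟩ := hW.exists_kill_finset t i (fun r => τ r) (fun r hr => by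
    have h1 := AlgHom.congr_fun hτ r
    simp only [AlgHom.comp_apply] at h1
    have h2 : f r = 0 := by
      have : r ∈ RingHom.ker f.toRingHom := ht ▸ Ideal.subset_span hr
      exact this
    rw [h1, h2, _root_.map_zero])
  have hker : RingHom.ker f.toRingHom ≤ RingHom.ker ((m h).comp τ).toRingHom := by
    rw [← ht, Ideal.span_le]
    intro r hr
    exact hj r hr
  refine ⟨j, S.comp h₀ h, AlgHom.liftOfSurjective f hf ((m h).comp τ) hker, ?_⟩
  apply AlgHom.cancel_right hf |>.mp
  rw [AlgHom.comp_assoc, AlgHom.liftOfSurjective_comp, ← AlgHom.comp_assoc, hW.alg_compat, hτ]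

end IsWeakColim

end Alg

end Groth.Agent.Lib.Helper8.WeakColim
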