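import Mathlib
import Groth.Agent.Lib.Helper8.WeakColimAlg

set_option autoImplicit false

namespace Groth.Agent.Lib.Helper8.WeakColim

universe u v

open TensorProduct

section Final

variable {R : Type*} [CommRing R]

/-- If `1 ⊗ c` is in the range of `B → B ⊗ C` for generators `c` of `C`, the map is surjective. -/
theorem surjective_algebraMap_of_forall_mem_range {B C : Type*} [CommRing B] [Algebra R B]
    [CommRing C] [Algebra R C] (s : Set C) (hs : Algebra.adjoin R s = ⊤)
    (h : ∀ c ∈ s, (1 : B) ⊗ₜ[R] c ∈ Set.range (algebraMap B (B ⊗[R] C))) :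
    Function.Surjective (algebraMap B (B ⊗[R] C)) := by
  have h1 := Algebra.TensorProduct.adjoin_one_tmul_image_eq_top (A := B) s hs
  have h2 : (Algebra.ofId B (B ⊗[R] C)).range = ⊤ := by
    rw [eq_top_iff, ← h1]
    apply Algebra.adjoin_le
    rintro _ ⟨c, hc, rfl⟩
    exact h c hc
  exact (AlgHom.range_eq_top _).mp h2

/-- If `1 ⊗ c` is integral over `B` for generators `c` of `C`, then `B ⊗ C` is finite over `B`. -/
theorem finite_of_forall_isIntegral {B C : Type*} [CommRing B] [Algebra R B]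
    [CommRing C] [Algebra R C] (s : Finset C) (hs : Algebra.adjoin R (s : Set C) = ⊤)
    (h : ∀ c ∈ s, IsIntegral B ((1 : B) ⊗ₜ[R] c)) :
    Module.Finite B (B ⊗[R] C) := by
  have h1 := Algebra.TensorProduct.adjoin_one_tmul_image_eq_top (A := B) (s : Set C) hs
  have h2 : (Algebra.adjoin B (((1 : B) ⊗ₜ[R] ·) '' (s : Set C))).toSubmodule.FG := by
    apply fg_adjoin_of_finite (s.finite_toSet.image _)
    rintro _ ⟨c, hc, rfl⟩
    exact h c hc
  rw [h1, Algebra.top_toSubmodule] at h2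
  exact Module.finite_def.mpr h2

/-- If `D x = 0` for generators `x`, the algebra is formally unramified. -/
theorem formallyUnramified_of_D_eq_zero {S' : Type*} [CommRing S'] [Algebra R S'] (s : Set S')
    (hs : Algebra.adjoin R s = ⊤) (h : ∀ x ∈ s, KaehlerDifferential.D R S' x = 0) :
    Algebra.FormallyUnramified R S' := by
  let T : Subalgebra R S' :=
    { carrier := {x | KaehlerDifferential.D R S' x = 0}
      mul_mem' := fun {x y} hx hy => by
        simp only [Set.mem_setOf_eq] at hx hy ⊢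
        rw [Derivation.leibniz, hx, hy, smul_zero, smul_zero, add_zero]
      add_mem' := fun {x y} hx hy => by
        simp only [Set.mem_setOf_eq] at hx hy ⊢
        rw [map_add, hx, hy, add_zero]
      algebraMap_mem' := fun r => by
        simp only [Set.mem_setOf_eq]
        exact Derivation.map_algebraMap _ r }
  have hT : T = ⊤ := by
    rw [eq_top_iff, ← hs]
    exact Algebra.adjoin_le h
  have hD : ∀ x, KaehlerDifferential.D R S' x = 0 := fun x => by
    have : x ∈ T := hT ▸ Algebra.mem_top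
    exact this
  have h1 := KaehlerDifferential.span_range_derivation R S'
  have h2 : Set.range (KaehlerDifferential.D R S') ⊆ {0} := by
    rintro _ ⟨x, rfl⟩
    exact hD x
  have h3 : (⊤ : Submodule S' Ω[S'⁄R]) = ⊥ := by
    rw [eq_bot_iff, ← h1, Submodule.span_le]
    intro y hy
    have := h2 hy
    simpa using this
  exact ⟨(Submodule.subsingleton_iff S').mp (subsingleton_of_bot_eq_top h3.symm)⟩

end Final

section Descent

variable {ι : Type u} {S : WSys.{u, v} ι} {R : Type*} [CommRing R] {B : ι → Type*}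
  [∀ i, CommRing (B i)] [∀ i, Algebra R (B i)] {B' : Type*} [CommRing B'] [Algebra R B']
  {β : ∀ i, B i →ₐ[R] B'} {μ : ∀ {i j}, S.H i j → (B i →ₐ[R] B j)}

namespace IsWeakColim

/-! ### Surjectivity -/

theorem mem_range_mono {B₁ B₂ : Type*} [CommRing B₁] [Algebra R B₁] [CommRing B₂] [Algebra R B₂]
    (φ : B₁ →ₐ[R] B₂) (C : Type*) [CommRing C] [Algebra R C] (c : C)
    (hc : (1 : B₁) ⊗ₜ[R] c ∈ Set.range (algebraMap B₁ (B₁ ⊗[R] C))) :
    (1 : B₂) ⊗ₜ[R] c ∈ Set.range (algebraMap B₂ (B₂ ⊗[R] C)) := by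
  obtain ⟨b, hb⟩ := hc
  refine ⟨φ b, ?_⟩
  have := congrArg (Algebra.TensorProduct.map φ (AlgHom.id R C)) hb
  simpa [Algebra.TensorProduct.algebraMap_apply] using this

theorem exists_mem_range_of_surjective
    (hW : IsWeakColim S B B' (fun i => β i) (fun h => μ h)) (C : Type*) [CommRing C] [Algebra R C]
    (hs : Function.Surjective (algebraMap B' (B' ⊗[R] C))) (c : C) (i₀ : ι) :
    ∃ j, ∃ _ : S.H i₀ j, (1 : B j) ⊗ₜ[R] c ∈ Set.range (algebraMap (B j) (B j ⊗[R] C)) := by
  obtain ⟨b, hb⟩ := hs (1 ⊗ₜ c)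
  obtain ⟨k, h₀, x, hx⟩ := hW.exists_lift_above b i₀
  have hWC := hW.algRight C
  have hz : Algebra.TensorProduct.map (β k) (AlgHom.id R C)
      (algebraMap (B k) (B k ⊗[R] C) x - 1 ⊗ₜ c) = 0 := by
    rw [map_sub, sub_eq_zero]
    rw [Algebra.TensorProduct.algebraMap_apply] at hb ⊢
    simp only [Algebra.TensorProduct.map_tmul, map_one, AlgHom.coe_id, id_eq]
    rw [← hb]
    congr 1
  obtain ⟨j, h, hj⟩ := hWC.ker k _ hz
  refine ⟨j, S.comp h₀ h, μ h x, ?_⟩
  rw [map_sub, sub_eq_zero] at hj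
  simpa [Algebra.TensorProduct.algebraMap_apply] using hj

/-- **Descent of surjectivity** along a weak colimit. -/
theorem exists_surjective (hW : IsWeakColim S B B' (fun i => β i) (fun h => μ h))
    (C : Type*) [CommRing C] [Algebra R C] [Algebra.FiniteType R C]
    (hs : Function.Surjective (algebraMap B' (B' ⊗[R] C))) (i₀ : ι) :
    ∃ j, ∃ _ : S.H i₀ j, Function.Surjective (algebraMap (B j) (B j ⊗[R] C)) := by
  obtain ⟨s, hs'⟩ := Algebra.FiniteType.out (R := R) (A := C)
  obtain ⟨j, h, hj⟩ := S.exists_forall_finset s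
    (fun c i => (1 : B i) ⊗ₜ[R] c ∈ Set.range (algebraMap (B i) (B i ⊗[R] C)))
    (fun c i j h hc => mem_range_mono (μ h) C c hc)
    (fun c _ i₀ => hW.exists_mem_range_of_surjective C hs c i₀) i₀
  exact ⟨j, h, surjective_algebraMap_of_forall_mem_range (s : Set C) hs' hj⟩

/-! ### Finiteness -/

theorem isIntegral_mono {B₁ B₂ : Type*} [CommRing B₁] [Algebra R B₁] [CommRing B₂] [Algebra R B₂]
    (φ : B₁ →ₐ[R] B₂) (C : Type*) [CommRing C] [Algebra R C] (c : C)
    (hc : IsIntegral B₁ ((1 : B₁) ⊗ₜ[R] c)) : IsIntegral B₂ ((1 : B₂) ⊗ₜ[R] c) := by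
  have := IsIntegral.map_of_comp_eq (φ : B₁ →+* B₂)
    (Algebra.TensorProduct.map φ (AlgHom.id R C) : B₁ ⊗[R] C →+* B₂ ⊗[R] C)
    (by ext b; simp [Algebra.TensorProduct.algebraMap_apply]) hc
  simpa using this

theorem exists_isIntegral_of_isIntegral
    (hW : IsWeakColim S B B' (fun i => β i) (fun h => μ h)) (C : Type*) [CommRing C] [Algebra R C]
    (c : C) (hc : IsIntegral B' ((1 : B') ⊗ₜ[R] c)) (i₀ : ι) :
    ∃ j, ∃ _ : S.H i₀ j, IsIntegral (B j) ((1 : B j) ⊗ₜ[R] c) := by
  classical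
  obtain ⟨p, hpm, hp⟩ := hc
  set n := p.natDegree with hn
  obtain ⟨k, h₀, a, ha⟩ := hW.exists_lift_finset_above (Finset.range n) (fun l => p.coeff l) i₀
  have hWC := hW.algRight C
  -- the relation at level `k`
  let w : B k ⊗[R] C := ((1 : B k) ⊗ₜ[R] c) ^ n +
    ∑ l ∈ Finset.range n, algebraMap (B k) (B k ⊗[R] C) (a l) * ((1 : B k) ⊗ₜ[R] c) ^ l
  have hw : Algebra.TensorProduct.map (β k) (AlgHom.id R C) w = 0 := by
    have e1 : Polynomial.eval₂ (algebraMap B' (B' ⊗[R] C)) ((1 : B') ⊗ₜ[R] c) p =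
        ((1 : B') ⊗ₜ[R] c) ^ n +
          ∑ l ∈ Finset.range n, algebraMap B' (B' ⊗[R] C) (p.coeff l) * ((1 : B') ⊗ₜ[R] c) ^ l := by
      conv_lhs => rw [hpm.as_sum]
      simp [Polynomial.eval₂_add, Polynomial.eval₂_finsetSum, hn]
    rw [← hp, e1]
    simp only [w, map_add, map_pow, map_sum, map_mul]
    congr 1
    · simp
    · apply Finset.sum_congr rfl
      intro l hl
      rw [Algebra.TensorProduct.algebraMap_apply, Algebra.TensorProduct.algebraMap_apply]
      simp only [Algebra.TensorProduct.map_tmul, map_one, AlgHom.coe_id, id_eq]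
      rw [← ha l hl]
      rfl
  obtain ⟨j, h, hj⟩ := hWC.ker k w hw
  refine ⟨j, S.comp h₀ h, ?_⟩
  let q : Polynomial (B j) := Polynomial.X ^ n +
    ∑ l ∈ Finset.range n, Polynomial.C (μ h (a l)) * Polynomial.X ^ l
  have hq : q.Monic := by
    apply Polynomial.monic_X_pow_add
    refine (Polynomial.degree_sum_le _ _).trans_lt ?_
    refine (Finset.sup_lt_iff (WithBot.bot_lt_coe n)).mpr ?_
    intro l hl
    exact (Polynomial.degree_C_mul_X_pow_le l _).trans_lt
      (WithBot.coe_lt_coe.mpr (Finset.mem_range.mp hl))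
  refine ⟨q, hq, ?_⟩
  have e2 : Algebra.TensorProduct.map (μ h) (AlgHom.id R C) w =
      ((1 : B j) ⊗ₜ[R] c) ^ n +
        ∑ l ∈ Finset.range n, algebraMap (B j) (B j ⊗[R] C) (μ h (a l)) *
          ((1 : B j) ⊗ₜ[R] c) ^ l := by
    simp only [w, map_add, map_pow, map_sum, map_mul]
    congr 1
    · simp
    · apply Finset.sum_congr rfl
      intro l _
      rw [Algebra.TensorProduct.algebraMap_apply, Algebra.TensorProduct.algebraMap_apply]
      simp
  rw [← hj, e2]
  simp [q, Polynomial.eval₂_add, Polynomial.eval₂_finsetSum]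

/-- **Descent of finiteness** along a weak colimit. -/
theorem exists_finite (hW : IsWeakColim S B B' (fun i => β i) (fun h => μ h))
    (C : Type*) [CommRing C] [Algebra R C] [Algebra.FiniteType R C]
    [Module.Finite B' (B' ⊗[R] C)] (i₀ : ι) :
    ∃ j, ∃ _ : S.H i₀ j, Module.Finite (B j) (B j ⊗[R] C) := by
  obtain ⟨s, hs'⟩ := Algebra.FiniteType.out (R := R) (A := C)
  obtain ⟨j, h, hj⟩ := S.exists_forall_finset s
    (fun c i => IsIntegral (B i) ((1 : B i) ⊗ₜ[R] c))
    (fun c i j h hc => isIntegral_mono (μ h) C c hc)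
    (fun c _ i₀ => hW.exists_isIntegral_of_isIntegral C c
      (Algebra.IsIntegral.isIntegral _) i₀) i₀
  exact ⟨j, h, finite_of_forall_isIntegral s hs' hj⟩

/-! ### Bijectivity -/

theorem injective_algebraMap_of_algHom {B₁ C : Type*} [CommRing B₁] [Algebra R B₁] [CommRing C]
    [Algebra R C] (σ : C →ₐ[R] B₁) : Function.Injective (algebraMap B₁ (B₁ ⊗[R] C)) := by
  let τ : B₁ ⊗[R] C →ₐ[B₁] B₁ :=
    Algebra.TensorProduct.lift (AlgHom.id B₁ B₁) σ (fun _ _ => Commute.all _ _)
  exact Function.LeftInverse.injective (g := τ) (fun b => τ.commutes b)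

/-- **Descent of bijectivity** along a weak colimit. -/
theorem exists_bijective (hW : IsWeakColim S B B' (fun i => β i) (fun h => μ h))
    (C : Type*) [CommRing C] [Algebra R C] [Algebra.FinitePresentation R C]
    (hb : Function.Bijective (algebraMap B' (B' ⊗[R] C))) (i₀ : ι) :
    ∃ j, ∃ _ : S.H i₀ j, Function.Bijective (algebraMap (B j) (B j ⊗[R] C)) := by
  let e : B' ≃ₐ[B'] B' ⊗[R] C := AlgEquiv.ofBijective (Algebra.ofId B' (B' ⊗[R] C)) hb
  let σ : C →ₐ[R] B' :=
    (e.symm.toAlgHom.restrictScalars R).comp Algebra.TensorProduct.includeRight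
  obtain ⟨i, h₀, σ', -⟩ := hW.exists_lift_of_finitePresentation σ i₀
  obtain ⟨j, h, hj⟩ := hW.exists_surjective C hb.2 i
  exact ⟨j, S.comp h₀ h, injective_algebraMap_of_algHom ((μ h).comp σ'), hj⟩

/-! ### Unramifiedness -/

theorem one_tmul_eq_zero_mono {B₁ B₂ : Type*} [CommRing B₁] [Algebra R B₁] [CommRing B₂]
    [Algebra R B₂] (φ : B₁ →ₐ[R] B₂) {M : Type*} [AddCommGroup M] [Module R M] (x : M)
    (hx : (1 : B₁) ⊗ₜ[R] x = 0) : (1 : B₂) ⊗ₜ[R] x = 0 := by
  have := congrArg (φ.toLinearMap.rTensor M) hx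
  simpa using this

attribute [local instance] Algebra.TensorProduct.rightAlgebra in
theorem formallyUnramified_of_one_tmul_D_eq_zero {B₁ C : Type*} [CommRing B₁] [Algebra R B₁]
    [CommRing C] [Algebra R C] (s : Set C) (hs : Algebra.adjoin R s = ⊤)
    (h : ∀ c ∈ s, (1 : B₁) ⊗ₜ[R] KaehlerDifferential.D R C c = 0) :
    Algebra.FormallyUnramified B₁ (B₁ ⊗[R] C) := by
  apply formallyUnramified_of_D_eq_zero (((1 : B₁) ⊗ₜ[R] ·) '' s)
    (Algebra.TensorProduct.adjoin_one_tmul_image_eq_top (A := B₁) s hs)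
  rintro _ ⟨c, hc, rfl⟩
  have := congrArg (KaehlerDifferential.tensorKaehlerEquivBase R B₁ C (B₁ ⊗[R] C)) (h c hc)
  rw [KaehlerDifferential.tensorKaehlerEquivBase_tmul, one_smul, KaehlerDifferential.map_D,
    _root_.map_zero] at this
  exact this

attribute [local instance] Algebra.TensorProduct.rightAlgebra in
/-- **Descent of formal unramifiedness** along a weak colimit. -/
theorem exists_formallyUnramified (hW : IsWeakColim S B B' (fun i => β i) (fun h => μ h))
    (C : Type*) [CommRing C] [Algebra R C] [Algebra.FiniteType R C]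
    [Algebra.FormallyUnramified B' (B' ⊗[R] C)] (i₀ : ι) :
    ∃ j, ∃ _ : S.H i₀ j, Algebra.FormallyUnramified (B j) (B j ⊗[R] C) := by
  obtain ⟨s, hs'⟩ := Algebra.FiniteType.out (R := R) (A := C)
  haveI : Subsingleton (B' ⊗[R] Ω[C⁄R]) :=
    (KaehlerDifferential.tensorKaehlerEquivBase R B' C (B' ⊗[R] C)).toEquiv.subsingleton
  have hWΩ := IsWeakColim.rTensor (γ := fun i => (β i).toLinearMap)
    (m := fun h => (μ h).toLinearMap) hW Ω[C⁄R]
  obtain ⟨j, h, hj⟩ := S.exists_forall_finset s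
    (fun c i => (1 : B i) ⊗ₜ[R] KaehlerDifferential.D R C c = 0)
    (fun c i j h hc => one_tmul_eq_zero_mono (μ h) _ hc)
    (fun c _ i₀ => by
      obtain ⟨j, h, hj⟩ := hWΩ.ker i₀ ((1 : B i₀) ⊗ₜ[R] KaehlerDifferential.D R C c)
        (Subsingleton.elim _ _)
      refine ⟨j, h, ?_⟩
      simpa using hj) i₀
  exact ⟨j, h, formallyUnramified_of_one_tmul_D_eq_zero (s : Set C) hs' hj⟩

end IsWeakColim

end Descent


end Groth.Agent.Lib.Helper8.WeakColim
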