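import Mathlib
import Groth.Agent.Lib.Helper8.WeakColimDescent

set_option autoImplicit false

namespace Groth.Agent.Lib.Helper8.WeakColim

universe u v

open TensorProduct

section SmoothFinal

variable {R : Type*} [CommRing R] {E C : Type*} [CommRing E] [Algebra R E] [CommRing C]
  [Algebra R C] (π₀ : E →ₐ[R] C)

/-- The base change of the thickening `π₀ : E → C` to `B₁` has an `R`-algebra
section over `C`. -/
def HasSec (B₁ : Type*) [CommRing B₁] [Algebra R B₁] : Prop :=
  ∃ s : C →ₐ[R] B₁ ⊗[R] E,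
    ((Algebra.TensorProduct.map (AlgHom.id B₁ B₁) π₀).restrictScalars R).comp s =
      Algebra.TensorProduct.includeRight

theorem map_map_comm {B₁ B₂ : Type*} [CommRing B₁] [Algebra R B₁] [CommRing B₂] [Algebra R B₂]
    (φ : B₁ →ₐ[R] B₂) (e : B₁ ⊗[R] E) :
    Algebra.TensorProduct.map (AlgHom.id B₂ B₂) π₀
        (Algebra.TensorProduct.map φ (AlgHom.id R E) e) =
      Algebra.TensorProduct.map φ (AlgHom.id R C)
        (Algebra.TensorProduct.map (AlgHom.id B₁ B₁) π₀ e) := by
  induction e using TensorProduct.induction_on with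
  | zero => simp only [map_zero]
  | tmul b x => simp only [Algebra.TensorProduct.map_tmul, AlgHom.coe_id, id_eq]
  | add x y hx hy => simp only [map_add, hx, hy]

theorem HasSec.mono {B₁ B₂ : Type*} [CommRing B₁] [Algebra R B₁] [CommRing B₂] [Algebra R B₂]
    (φ : B₁ →ₐ[R] B₂) (h : HasSec π₀ B₁) : HasSec π₀ B₂ := by
  obtain ⟨s, hs⟩ := h
  refine ⟨(Algebra.TensorProduct.map φ (AlgHom.id R _)).comp s, ?_⟩
  ext c
  have h1 := AlgHom.congr_fun hs c
  simp only [AlgHom.comp_apply, AlgHom.restrictScalars_apply] at h1 ⊢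
  rw [map_map_comm, h1]
  simp

/-- At a formally smooth stage, the section exists. -/
theorem HasSec.of_formallySmooth (hπ₀ : Function.Surjective π₀)
    (hsq : RingHom.ker (π₀ : E →+* C) ^ 2 = ⊥) (B₁ : Type*) [CommRing B₁]
    [Algebra R B₁] [Algebra.FormallySmooth B₁ (B₁ ⊗[R] C)] : HasSec π₀ B₁ := by
  let ψ : B₁ ⊗[R] E →ₐ[B₁] B₁ ⊗[R] C := Algebra.TensorProduct.map (AlgHom.id B₁ B₁) π₀
  have hψ : Function.Surjective ψ :=
    Algebra.TensorProduct.map_surjective _ _ Function.surjective_id hπ₀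
  have hker : RingHom.ker (ψ : B₁ ⊗[R] E →+* B₁ ⊗[R] C) =
      (RingHom.ker π₀).map (Algebra.TensorProduct.includeRight : E →ₐ[R] B₁ ⊗[R] E) := by
    rw [← Algebra.TensorProduct.lTensor_ker _ hπ₀]
    rfl
  have hnil : IsNilpotent (RingHom.ker (ψ : B₁ ⊗[R] E →+* B₁ ⊗[R] C)) := by
    refine ⟨2, ?_⟩
    rw [hker, ← Ideal.map_pow]
    have : RingHom.ker π₀ ^ 2 = ⊥ := hsq
    rw [this, Ideal.map_bot]
    rfl
  let s' : B₁ ⊗[R] C →ₐ[B₁] B₁ ⊗[R] E :=
    Algebra.FormallySmooth.liftOfSurjective (AlgHom.id B₁ _) ψ hψ hnil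
  refine ⟨(s'.restrictScalars R).comp Algebra.TensorProduct.includeRight, ?_⟩
  ext c
  simp only [AlgHom.comp_apply, AlgHom.restrictScalars_apply]
  exact Algebra.FormallySmooth.liftOfSurjective_apply (AlgHom.id B₁ _) ψ hψ hnil _

end SmoothFinal

section SmoothFinal2

variable {R : Type*} [CommRing R] {P C : Type*} [CommRing P] [Algebra R P] [CommRing C]
  [Algebra R C] (f₀ : P →ₐ[R] C)

theorem surjective_kerSquareLift (hf₀ : Function.Surjective f₀) :
    Function.Surjective f₀.kerSquareLift := by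
  intro c
  obtain ⟨p, rfl⟩ := hf₀ c
  exact ⟨Ideal.Quotient.mk _ p, f₀.kerSquareLift_mk p⟩

theorem ker_kerSquareLift_sq :
    RingHom.ker (f₀.kerSquareLift : (P ⧸ RingHom.ker f₀.toRingHom ^ 2) →+* C) ^ 2 = ⊥ := by
  have := f₀.ker_kerSquareLift
  exact (congrArg (· ^ 2) this).trans (Ideal.cotangentIdeal_square _)

/-- If the base change to `B₁` of `P/(ker f₀)² → C` has a section, then `B₁ ⊗ C` is formally
smooth over `B₁` (for `P` formally smooth over `R`). -/
theorem formallySmooth_of_hasSec [Algebra.FormallySmooth R P]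
    (B₁ : Type*) [CommRing B₁] [Algebra R B₁] (h : HasSec f₀.kerSquareLift B₁) :
    Algebra.FormallySmooth B₁ (B₁ ⊗[R] C) := by
  obtain ⟨s, hs⟩ := h
  let f₁ : B₁ ⊗[R] P →ₐ[B₁] B₁ ⊗[R] C := Algebra.TensorProduct.map (AlgHom.id B₁ B₁) f₀
  let Q := (B₁ ⊗[R] P) ⧸ RingHom.ker f₁.toRingHom ^ 2
  -- the natural map `P/(ker f₀)² → (B₁ ⊗ P)/(ker f₁)²`
  have hle : ∀ a ∈ RingHom.ker f₀.toRingHom ^ 2,
      (((Ideal.Quotient.mkₐ B₁ (RingHom.ker f₁.toRingHom ^ 2)).restrictScalars R).comp
        (Algebra.TensorProduct.includeRight : P →ₐ[R] B₁ ⊗[R] P)) a = 0 := by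
    intro a ha
    simp only [AlgHom.comp_apply, AlgHom.restrictScalars_apply, Ideal.Quotient.mkₐ_eq_mk]
    rw [Ideal.Quotient.eq_zero_iff_mem]
    have h1 : RingHom.ker f₀.toRingHom ≤ (RingHom.ker f₁.toRingHom).comap
        (Algebra.TensorProduct.includeRight : P →ₐ[R] B₁ ⊗[R] P) := by
      intro p hp
      rw [Ideal.mem_comap, RingHom.mem_ker]
      have hp' : f₀ p = 0 := hp
      change f₁ (1 ⊗ₜ p) = 0
      simp only [f₁, Algebra.TensorProduct.map_tmul, hp', tmul_zero]
    exact (Ideal.pow_right_mono h1 2).trans (Ideal.le_comap_pow _ 2) ha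
  let θ₀ : (P ⧸ RingHom.ker f₀.toRingHom ^ 2) →ₐ[R] Q :=
    Ideal.Quotient.liftₐ _ _ hle
  let θ : B₁ ⊗[R] (P ⧸ RingHom.ker f₀.toRingHom ^ 2) →ₐ[B₁] Q :=
    Algebra.TensorProduct.lift (Algebra.ofId B₁ Q) θ₀ (fun _ _ => Commute.all _ _)
  let g : B₁ ⊗[R] C →ₐ[B₁] Q :=
    Algebra.TensorProduct.lift (Algebra.ofId B₁ Q) ((θ.restrictScalars R).comp s)
      (fun _ _ => Commute.all _ _)
  have hK : ∀ e : B₁ ⊗[R] (P ⧸ RingHom.ker f₀.toRingHom ^ 2),
      f₁.kerSquareLift (θ e) =
        Algebra.TensorProduct.map (AlgHom.id B₁ B₁) f₀.kerSquareLift e := by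
    intro e
    induction e using TensorProduct.induction_on with
    | zero => simp only [map_zero]
    | tmul b x =>
      obtain ⟨p, rfl⟩ := Ideal.Quotient.mk_surjective x
      simp only [θ, Algebra.TensorProduct.lift_tmul, map_mul, Algebra.TensorProduct.map_tmul,
        AlgHom.coe_id, id_eq]
      have e1 : f₁.kerSquareLift (Algebra.ofId B₁ Q b) = b ⊗ₜ[R] (1 : C) := by
        rw [Algebra.ofId_apply, AlgHom.commutes, Algebra.TensorProduct.algebraMap_apply]
        rfl
      have e2 : f₁.kerSquareLift (θ₀ (Ideal.Quotient.mk _ p)) = (1 : B₁) ⊗ₜ[R] f₀ p := by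
        change f₁.kerSquareLift (Ideal.Quotient.mk _ ((1 : B₁) ⊗ₜ[R] p)) = _
        rw [AlgHom.kerSquareLift_mk]
        simp only [f₁, Algebra.TensorProduct.map_tmul, map_one]
      have e3 : f₀.kerSquareLift (Ideal.Quotient.mk _ p) = f₀ p := f₀.kerSquareLift_mk p
      rw [e1, e2, e3, Algebra.TensorProduct.tmul_mul_tmul, mul_one, one_mul]
    | add x y hx hy => simp only [map_add, hx, hy]
  have hg : f₁.kerSquareLift.comp g = AlgHom.id B₁ (B₁ ⊗[R] C) := by
    apply AlgHom.ext
    intro z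
    induction z using TensorProduct.induction_on with
    | zero => simp only [map_zero]
    | tmul b c =>
      simp only [AlgHom.comp_apply, g, Algebra.TensorProduct.lift_tmul, map_mul,
        AlgHom.restrictScalars_apply, AlgHom.coe_id, id_eq]
      have e1 : f₁.kerSquareLift (Algebra.ofId B₁ Q b) = b ⊗ₜ[R] (1 : C) := by
        rw [Algebra.ofId_apply, AlgHom.commutes, Algebra.TensorProduct.algebraMap_apply]
        rfl
      have e2 := AlgHom.congr_fun hs c
      simp only [AlgHom.comp_apply, AlgHom.restrictScalars_apply,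
        Algebra.TensorProduct.includeRight_apply] at e2
      rw [e1, hK, e2, Algebra.TensorProduct.tmul_mul_tmul, mul_one, one_mul]
    | add x y hx hy => simp only [map_add, hx, hy]
  exact Algebra.FormallySmooth.of_split f₁ g hg

end SmoothFinal2

section SmoothDescent

variable {ι : Type u} {S : WSys.{u, v} ι} {R : Type*} [CommRing R] {B : ι → Type*}
  [∀ i, CommRing (B i)] [∀ i, Algebra R (B i)] {B' : Type*} [CommRing B'] [Algebra R B']
  {β : ∀ i, B i →ₐ[R] B'} {μ : ∀ {i j}, S.H i j → (B i →ₐ[R] B j)}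

namespace IsWeakColim

/-- Descent of sections of a thickening along a weak colimit. -/
theorem exists_hasSec (hW : IsWeakColim S B B' (fun i => β i) (fun h => μ h))
    {E C : Type*} [CommRing E] [Algebra R E] [CommRing C] [Algebra R C]
    [Algebra.FinitePresentation R C] (π₀ : E →ₐ[R] C) (h : HasSec π₀ B') (i₀ : ι) :
    ∃ j, ∃ _ : S.H i₀ j, HasSec π₀ (B j) := by
  obtain ⟨s, hs⟩ := h
  have hWE := hW.algRight E
  have hWC := hW.algRight C
  obtain ⟨i, h₀, si, hsi⟩ := hWE.exists_lift_of_finitePresentation s i₀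
  let u : C →ₐ[R] B i ⊗[R] C :=
    ((Algebra.TensorProduct.map (AlgHom.id (B i) (B i)) π₀).restrictScalars R).comp si
  let w : C →ₐ[R] B i ⊗[R] C := Algebra.TensorProduct.includeRight
  have huw : (Algebra.TensorProduct.map (β i) (AlgHom.id R C)).comp u =
      (Algebra.TensorProduct.map (β i) (AlgHom.id R C)).comp w := by
    ext c
    have e1 := AlgHom.congr_fun hsi c
    have e2 := AlgHom.congr_fun hs c
    simp only [AlgHom.comp_apply, AlgHom.restrictScalars_apply] at e1 e2
    simp only [AlgHom.comp_apply, u, w, AlgHom.restrictScalars_apply]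
    rw [← map_map_comm, e1, e2]
    simp
  obtain ⟨j, h, hj⟩ := hWC.exists_comp_eq_of_finiteType u w huw
  refine ⟨j, S.comp h₀ h, (Algebra.TensorProduct.map (μ h) (AlgHom.id R E)).comp si, ?_⟩
  ext c
  have e3 := AlgHom.congr_fun hj c
  simp only [AlgHom.comp_apply, u, w, AlgHom.restrictScalars_apply] at e3
  simp only [AlgHom.comp_apply, AlgHom.restrictScalars_apply]
  rw [map_map_comm, e3]
  simp

/-- **Descent of formal smoothness** along a weak colimit, for finitely presented `C`. -/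
theorem exists_formallySmooth (hW : IsWeakColim S B B' (fun i => β i) (fun h => μ h))
    (C : Type*) [CommRing C] [Algebra R C] [Algebra.FinitePresentation R C]
    [Algebra.FormallySmooth B' (B' ⊗[R] C)] (i₀ : ι) :
    ∃ j, ∃ _ : S.H i₀ j, Algebra.FormallySmooth (B j) (B j ⊗[R] C) := by
  obtain ⟨n, f₀, hf₀, -⟩ := Algebra.FinitePresentation.out (R := R) (A := C)
  have h1 : HasSec f₀.kerSquareLift B' :=
    HasSec.of_formallySmooth _ (surjective_kerSquareLift f₀ hf₀) (ker_kerSquareLift_sq f₀) B'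
  obtain ⟨j, h, hj⟩ := hW.exists_hasSec f₀.kerSquareLift h1 i₀
  exact ⟨j, h, formallySmooth_of_hasSec f₀ (B j) hj⟩

/-- **Descent of formal étaleness** along a weak colimit, for finitely presented `C`. -/
theorem exists_formallyEtale (hW : IsWeakColim S B B' (fun i => β i) (fun h => μ h))
    (C : Type*) [CommRing C] [Algebra R C] [Algebra.FinitePresentation R C]
    [Algebra.FormallyEtale B' (B' ⊗[R] C)] (i₀ : ι) :
    ∃ j, ∃ _ : S.H i₀ j, Algebra.FormallyEtale (B j) (B j ⊗[R] C) := by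
  obtain ⟨n, f₀, hf₀, -⟩ := Algebra.FinitePresentation.out (R := R) (A := C)
  have h1 : HasSec f₀.kerSquareLift B' :=
    HasSec.of_formallySmooth _ (surjective_kerSquareLift f₀ hf₀) (ker_kerSquareLift_sq f₀) B'
  obtain ⟨j, h, hj, hj'⟩ := S.exists_and
    (fun i => HasSec f₀.kerSquareLift (B i))
    (fun i => Algebra.FormallyUnramified (B i) (B i ⊗[R] C))
    (fun i j h hi => HasSec.mono _ (μ h) hi)
    (fun i₀ => hW.exists_hasSec f₀.kerSquareLift h1 i₀)
    (fun i₀ => hW.exists_formallyUnramified C i₀) i₀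
  have := formallySmooth_of_hasSec f₀ (B j) hj
  exact ⟨j, h, Algebra.FormallyEtale.of_formallyUnramified_and_formallySmooth⟩

end IsWeakColim

end SmoothDescent

end Groth.Agent.Lib.Helper8.WeakColim
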