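import Mathlib
import Groth.Agent.Lib.Helper8.WeakColimSmooth

set_option autoImplicit false

namespace Groth.Agent.Lib.Helper8.WeakColim

universe u

open TensorProduct

section Base

variable {ι : Type u} [Preorder ι] [IsDirected ι (· ≤ ·)]
    (A₀ : Type u) [CommRing A₀] (G : ι → Type u) [∀ i, CommRing (G i)] [∀ i, Algebra A₀ (G i)]
    (f : ∀ i j, i ≤ j → (G i →ₐ[A₀] G j)) (A : Type u) [CommRing A] [Algebra A₀ A]
    (g : ∀ i, G i →ₐ[A₀] A) (hg : ∀ i j (h : i ≤ j), (g j).comp (f i j h) = g i)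

/-- The weak index category whose maps `i ⟶ j` are all algebra homs `G i → G j` compatible with the
cocone `g`. -/
def algSys : WSys.{u, u} ι where
  H i j := {φ : G i →ₐ[A₀] G j // (g j).comp φ = g i}
  id i := ⟨AlgHom.id A₀ (G i), AlgHom.comp_id _⟩
  comp h h' := ⟨h'.1.comp h.1, by rw [← AlgHom.comp_assoc, h'.2, h.2]⟩
  directed i j := by
    obtain ⟨k, hik, hjk⟩ := exists_ge_ge i j
    exact ⟨k, ⟨⟨f i k hik, hg i k hik⟩⟩, ⟨⟨f j k hjk, hg j k hjk⟩⟩⟩

/-- The transition map attached to a map of `algSys`. -/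
def algSysMap {i j : ι} (h : (algSys A₀ G f A g hg).H i j) : G i →ₐ[A₀] G j := h.1

theorem isWeakColim_algSys (hsurj : ∀ a : A, ∃ i, ∃ x : G i, g i x = a)
    (hker : ∀ i (x : G i), g i x = 0 → ∃ j, ∃ h : i ≤ j, f i j h x = 0) :
    IsWeakColim (algSys A₀ G f A g hg) G A (fun i => g i)
      (fun h => algSysMap A₀ G f A g hg h) where
  map_zero h := map_zero _
  map_id i x := rfl
  map_comp h h' x := rfl
  compat h x := AlgHom.congr_fun h.2 x
  surj := hsurj
  ker i x hx := by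
    obtain ⟨j, hij, h0⟩ := hker i x hx
    exact ⟨j, ⟨f i j hij, hg i j hij⟩, h0⟩

/-- The base-changed system `B₀ ⊗[A₀] G i` is a weak colimit system of `B₀`-algebras. -/
theorem isWeakColim_baseChange (hsurj : ∀ a : A, ∃ i, ∃ x : G i, g i x = a)
    (hker : ∀ i (x : G i), g i x = 0 → ∃ j, ∃ h : i ≤ j, f i j h x = 0)
    (B₀ : Type u) [CommRing B₀] [Algebra A₀ B₀] :
    IsWeakColim (algSys A₀ G f A g hg) (fun i => B₀ ⊗[A₀] G i) (B₀ ⊗[A₀] A)
      (fun i => Algebra.TensorProduct.map (AlgHom.id B₀ B₀) (g i))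
      (fun h => Algebra.TensorProduct.map (AlgHom.id B₀ B₀) (algSysMap A₀ G f A g hg h)) :=
  (isWeakColim_algSys A₀ G f A g hg hsurj hker).algLeft B₀

end Base

end Groth.Agent.Lib.Helper8.WeakColim
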