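import Mathlib

set_option autoImplicit false
universe u

open TensorProduct

namespace Groth.Agent.Lib.Helper8.EtLocRing

section Triv

variable {R R' : Type u} [CommRing R] [CommRing R'] [Algebra R R']

/-- Elementary form of "`κ(p) → κ(P)` is surjective". -/
def Triv (p : Ideal R) (P : Ideal R') : Prop :=
  ∀ b : R', ∃ a s : R, s ∉ p ∧ s • b - a • (1 : R') ∈ P

theorem mapₐ_algebraMap_mk (p : Ideal R) [p.IsPrime] (P : Ideal R') [P.IsPrime] [P.LiesOver p]
    (r : R) :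
    Ideal.ResidueField.mapₐ p P (Algebra.ofId R R') (P.over_def p)
      (algebraMap (R ⧸ p) p.ResidueField (Ideal.Quotient.mk p r)) =
      algebraMap R' P.ResidueField (algebraMap R R' r) := by
  rw [Ideal.algebraMap_quotient_residueField_mk, Ideal.ResidueField.mapₐ_apply,
    Ideal.ResidueField.map_algebraMap]
  rfl

theorem notMem_of_liesOver (p : Ideal R) (P : Ideal R') [P.LiesOver p] {s : R} (hs : s ∉ p) :
    algebraMap R R' s ∉ P := by
  intro h
  apply hs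
  rw [P.over_def p]
  exact h

theorem triv_of_bijective (p : Ideal R) [p.IsPrime] (P : Ideal R') [P.IsPrime] [P.LiesOver p]
    (H : Function.Bijective (Ideal.ResidueField.mapₐ p P (Algebra.ofId R R') (P.over_def p))) :
    Triv p P := by
  intro b
  obtain ⟨c, hc⟩ := H.2 (algebraMap R' P.ResidueField b)
  obtain ⟨x, y, hy, rfl⟩ := IsFractionRing.div_surjective (A := R ⧸ p) c
  obtain ⟨a, rfl⟩ := Ideal.Quotient.mk_surjective x
  obtain ⟨s, rfl⟩ := Ideal.Quotient.mk_surjective y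
  have hs : s ∉ p := fun h =>
    (nonZeroDivisors.ne_zero hy) (Ideal.Quotient.eq_zero_iff_mem.mpr h)
  refine ⟨a, s, hs, ?_⟩
  rw [← Ideal.algebraMap_residueField_eq_zero (I := P), map_sub, sub_eq_zero,
    Algebra.smul_def, Algebra.smul_def, mul_one, map_mul]
  rw [map_div₀, mapₐ_algebraMap_mk, mapₐ_algebraMap_mk] at hc
  have hne : algebraMap R' P.ResidueField (algebraMap R R' s) ≠ 0 := by
    rw [Ne, Ideal.algebraMap_residueField_eq_zero]
    exact notMem_of_liesOver p P hs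
  rw [div_eq_iff hne] at hc
  rw [hc, mul_comm]

theorem bijective_of_triv (p : Ideal R) [p.IsPrime] (P : Ideal R') [P.IsPrime] [P.LiesOver p]
    (h : Triv p P) :
    Function.Bijective (Ideal.ResidueField.mapₐ p P (Algebra.ofId R R') (P.over_def p)) := by
  refine ⟨(Ideal.ResidueField.mapₐ p P (Algebra.ofId R R') (P.over_def p)).toRingHom.injective,
    fun z => ?_⟩
  obtain ⟨x, y, hy, rfl⟩ := IsFractionRing.div_surjective (A := R' ⧸ P) z
  obtain ⟨b, rfl⟩ := Ideal.Quotient.mk_surjective x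
  obtain ⟨b', rfl⟩ := Ideal.Quotient.mk_surjective y
  have hb' : b' ∉ P := fun h =>
    (nonZeroDivisors.ne_zero hy) (Ideal.Quotient.eq_zero_iff_mem.mpr h)
  obtain ⟨a, s, hs, h1⟩ := h b
  obtain ⟨a', s', hs', h2⟩ := h b'
  set F := Ideal.ResidueField.mapₐ p P (Algebra.ofId R R') (P.over_def p) with hF
  have key : ∀ r : R, F (algebraMap R p.ResidueField r) =
      algebraMap R' P.ResidueField (algebraMap R R' r) := fun r => mapₐ_algebraMap_mk p P r
  rw [← Ideal.algebraMap_residueField_eq_zero (I := P), map_sub, sub_eq_zero,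
    Algebra.smul_def, Algebra.smul_def, mul_one, map_mul] at h1 h2
  have hne : ∀ t : R, t ∉ p → algebraMap R' P.ResidueField (algebraMap R R' t) ≠ 0 := by
    intro t ht
    rw [Ne, Ideal.algebraMap_residueField_eq_zero]
    exact notMem_of_liesOver p P ht
  have hb'ne : algebraMap R' P.ResidueField b' ≠ 0 := by
    rw [Ne, Ideal.algebraMap_residueField_eq_zero]; exact hb'
  have ha'ne : algebraMap R' P.ResidueField (algebraMap R R' a') ≠ 0 := by
    rw [← h2]; exact mul_ne_zero (hne s' hs') hb'ne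
  refine ⟨algebraMap R p.ResidueField a * algebraMap R p.ResidueField s' /
    (algebraMap R p.ResidueField s * algebraMap R p.ResidueField a'), ?_⟩
  rw [map_div₀, map_mul, map_mul, key, key, key, key,
    Ideal.algebraMap_quotient_residueField_mk, Ideal.algebraMap_quotient_residueField_mk,
    ← h1, ← h2]
  have := hne s hs
  have := hne s' hs'
  field_simp

theorem triv_self (p : Ideal R) [p.IsPrime] : Triv (R' := R) p p := fun b =>
  ⟨b, 1, (Ideal.ne_top_iff_one p).mp (Ideal.IsPrime.ne_top ‹_›), by simp⟩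

end Triv

section Tensor

variable {R R₁ R₂ : Type u} [CommRing R] [CommRing R₁] [CommRing R₂] [Algebra R R₁] [Algebra R R₂]

theorem exists_prime_tensor (p : Ideal R) [p.IsPrime] (P₁ : Ideal R₁) [P₁.IsPrime] [P₁.LiesOver p]
    (P₂ : Ideal R₂) [P₂.IsPrime] [P₂.LiesOver p]
    (H₁ : Function.Bijective (Ideal.ResidueField.mapₐ p P₁ (Algebra.ofId R R₁) (P₁.over_def p)))
    (H₂ : Function.Bijective (Ideal.ResidueField.mapₐ p P₂ (Algebra.ofId R R₂) (P₂.over_def p))) :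
    ∃ P : Ideal (R₁ ⊗[R] R₂), P.IsPrime ∧ P.comap (algebraMap R₁ (R₁ ⊗[R] R₂)) = P₁ ∧
      P.comap (Algebra.TensorProduct.includeRight : R₂ →ₐ[R] R₁ ⊗[R] R₂).toRingHom = P₂ ∧
      Triv p P := by
  let Q := (Ideal.fiberIsoOfBijectiveResidueField (S := R₂) H₁).symm ⟨P₂, ‹_›, ‹_›⟩
  have hQprime : Q.1.IsPrime := Q.2.1
  have hQover : Q.1.LiesOver P₁ := Q.2.2
  have hQ1 : Q.1.comap (algebraMap R₁ (R₁ ⊗[R] R₂)) = P₁ := (Q.1.over_def P₁).symm
  have hQ2 : Q.1.comap (Algebra.TensorProduct.includeRight : R₂ →ₐ[R] R₁ ⊗[R] R₂).toRingHom = P₂ :=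
    Ideal.comap_fiberIsoOfBijectiveResidueField_symm H₁ ⟨P₂, ‹_›, ‹_›⟩
  refine ⟨Q.1, hQprime, hQ1, hQ2, ?_⟩
  have T₁ := triv_of_bijective p P₁ H₁
  have T₂ := triv_of_bijective p P₂ H₂
  have hmem1 : ∀ d ∈ P₁, ∀ c : R₂, d ⊗ₜ[R] c ∈ Q.1 := by
    intro d hd c
    have h1 : algebraMap R₁ (R₁ ⊗[R] R₂) d ∈ Q.1 := by
      rw [← hQ1] at hd; exact hd
    have : d ⊗ₜ[R] c = algebraMap R₁ (R₁ ⊗[R] R₂) d * ((1 : R₁) ⊗ₜ[R] c) := by
      rw [Algebra.TensorProduct.algebraMap_apply, Algebra.TensorProduct.tmul_mul_tmul]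
      simp
    rw [this]
    exact Ideal.mul_mem_right _ _ h1
  have hmem2 : ∀ d ∈ P₂, ∀ c : R₁, c ⊗ₜ[R] d ∈ Q.1 := by
    intro d hd c
    have h1 : (1 : R₁) ⊗ₜ[R] d ∈ Q.1 := by
      rw [← hQ2] at hd; exact hd
    have : c ⊗ₜ[R] d = (c ⊗ₜ[R] (1 : R₂)) * ((1 : R₁) ⊗ₜ[R] d) := by
      rw [Algebra.TensorProduct.tmul_mul_tmul]; simp
    rw [this]
    exact Ideal.mul_mem_left _ _ h1
  intro y
  induction y using TensorProduct.induction_on with
  | zero =>
    exact ⟨0, 1, (Ideal.ne_top_iff_one p).mp (Ideal.IsPrime.ne_top ‹_›), by simp⟩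
  | tmul b₁ b₂ =>
    obtain ⟨a₁, s₁, hs₁, h1⟩ := T₁ b₁
    obtain ⟨a₂, s₂, hs₂, h2⟩ := T₂ b₂
    refine ⟨a₁ * a₂, s₁ * s₂, fun h => (Ideal.IsPrime.mem_or_mem ‹_› h).elim hs₁ hs₂, ?_⟩
    have e : (s₁ * s₂) • (b₁ ⊗ₜ[R] b₂) - (a₁ * a₂) • (1 : R₁ ⊗[R] R₂) =
        (s₁ • b₁ - a₁ • (1 : R₁)) ⊗ₜ[R] (s₂ • b₂) + (a₁ • (1 : R₁)) ⊗ₜ[R] (s₂ • b₂ - a₂ • (1 : R₂)) := by
      rw [Algebra.TensorProduct.one_def, ← TensorProduct.smul_tmul_smul,
        ← TensorProduct.smul_tmul_smul, TensorProduct.sub_tmul, TensorProduct.tmul_sub]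
      abel
    rw [e]
    exact Ideal.add_mem _ (hmem1 _ h1 _) (hmem2 _ h2 _)
  | add y₁ y₂ ih₁ ih₂ =>
    obtain ⟨a₁, s₁, hs₁, h1⟩ := ih₁
    obtain ⟨a₂, s₂, hs₂, h2⟩ := ih₂
    refine ⟨s₂ * a₁ + s₁ * a₂, s₁ * s₂, fun h => (Ideal.IsPrime.mem_or_mem ‹_› h).elim hs₁ hs₂, ?_⟩
    have e : (s₁ * s₂) • (y₁ + y₂) - (s₂ * a₁ + s₁ * a₂) • (1 : R₁ ⊗[R] R₂) =
        s₂ • (s₁ • y₁ - a₁ • (1 : R₁ ⊗[R] R₂)) + s₁ • (s₂ • y₂ - a₂ • (1 : R₁ ⊗[R] R₂)) := by
      simp only [smul_add, smul_sub, add_smul, mul_smul]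
      rw [smul_comm s₁ s₂ y₁]
      abel
    rw [e]
    refine Ideal.add_mem _ ?_ ?_
    · rw [Algebra.smul_def]; exact Ideal.mul_mem_left _ _ h1
    · rw [Algebra.smul_def]; exact Ideal.mul_mem_left _ _ h2

end Tensor


section Split

/-- `R' ⊗[R] S` splits off (via the idempotent `e`) a piece finite over `R'` containing exactly one
prime over `P`, and this prime lies over `q`. -/
def SplitAt (R S R' : Type u) [CommRing R] [CommRing S] [CommRing R'] [Algebra R S] [Algebra R R']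
    (P : Ideal R') (q : Ideal S) : Prop :=
  ∃ (e : R' ⊗[R] S) (P' : Ideal (R' ⊗[R] S)), IsIdempotentElem e ∧ P'.IsPrime ∧
    P'.comap (algebraMap R' (R' ⊗[R] S)) = P ∧
    P'.comap (Algebra.TensorProduct.includeRight : S →ₐ[R] R' ⊗[R] S).toRingHom = q ∧ e ∉ P' ∧
    Module.Finite R' (Localization.Away e) ∧
    ∀ P'' : Ideal (R' ⊗[R] S), P''.IsPrime → P''.comap (algebraMap R' (R' ⊗[R] S)) = P →
      e ∉ P'' → P'' = P'

variable {R S R₁ R₂ : Type u} [CommRing R] [CommRing S] [CommRing R₁] [CommRing R₂]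
    [Algebra R S] [Algebra R R₁] [Algebra R R₂] [Algebra R₁ R₂] [IsScalarTower R R₁ R₂]

theorem SplitAt.baseChange
    (p : Ideal R) [p.IsPrime] (P₁ : Ideal R₁) [P₁.IsPrime] [P₁.LiesOver p]
    (P₂ : Ideal R₂) [P₂.IsPrime] [P₂.LiesOver p] (h12 : P₂.comap (algebraMap R₁ R₂) = P₁)
    (H₁ : Function.Bijective (Ideal.ResidueField.mapₐ p P₁ (Algebra.ofId R R₁) (P₁.over_def p)))
    (H₂ : Function.Bijective (Ideal.ResidueField.mapₐ p P₂ (Algebra.ofId R R₂) (P₂.over_def p)))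
    (q : Ideal S) [q.IsPrime] [q.LiesOver p]
    (h : SplitAt R S R₁ P₁ q) : SplitAt R S R₂ P₂ q := by
  obtain ⟨e, P', he, hP'prime, hP'P₁, hP'q, heP', hfin, huniq⟩ := h
  haveI := hP'prime
  haveI := hfin
  let ψ : R₁ ⊗[R] S →ₐ[R₁] R₂ ⊗[R] S :=
    Algebra.TensorProduct.map (Algebra.ofId R₁ R₂) (AlgHom.id R S)
  have hψinc : ∀ s : S, ψ ((1 : R₁) ⊗ₜ[R] s) = (1 : R₂) ⊗ₜ[R] s := by
    intro s; simp [ψ]
  have hψalg : ∀ r : R₁, ψ (algebraMap R₁ (R₁ ⊗[R] S) r) =
      algebraMap R₂ (R₂ ⊗[R] S) (algebraMap R₁ R₂ r) := by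
    intro r
    rw [ψ.commutes, IsScalarTower.algebraMap_apply R₁ R₂ (R₂ ⊗[R] S)]
  have c1 : ∀ P'' : Ideal (R₂ ⊗[R] S),
      (P''.comap ψ.toRingHom).comap (algebraMap R₁ (R₁ ⊗[R] S)) =
      (P''.comap (algebraMap R₂ (R₂ ⊗[R] S))).comap (algebraMap R₁ R₂) := by
    intro P''
    ext r
    simp only [Ideal.mem_comap]
    rw [← hψalg]
    rfl
  have c2 : ∀ P'' : Ideal (R₂ ⊗[R] S),
      (P''.comap ψ.toRingHom).comap
        (Algebra.TensorProduct.includeRight : S →ₐ[R] R₁ ⊗[R] S).toRingHom =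
      P''.comap (Algebra.TensorProduct.includeRight : S →ₐ[R] R₂ ⊗[R] S).toRingHom := by
    intro P''
    ext s
    simp only [Ideal.mem_comap]
    change ψ ((1 : R₁) ⊗ₜ[R] s) ∈ P'' ↔ (1 : R₂) ⊗ₜ[R] s ∈ P''
    rw [hψinc]
  -- the prime of `R₂ ⊗ S` over `P₂` and `q`
  let Q := (Ideal.fiberIsoOfBijectiveResidueField (S := S) H₂).symm ⟨q, ‹_›, ‹_›⟩
  haveI hQprime : Q.1.IsPrime := Q.2.1
  haveI hQover : Q.1.LiesOver P₂ := Q.2.2
  have hQ1 : Q.1.comap (algebraMap R₂ (R₂ ⊗[R] S)) = P₂ := (Q.1.over_def P₂).symm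
  have hQ2 : Q.1.comap (Algebra.TensorProduct.includeRight : S →ₐ[R] R₂ ⊗[R] S).toRingHom = q :=
    Ideal.comap_fiberIsoOfBijectiveResidueField_symm H₂ ⟨q, ‹_›, ‹_›⟩
  -- comparing primes of `R₁ ⊗ S`
  have hcomp : ∀ P'' : Ideal (R₂ ⊗[R] S), P''.IsPrime →
      P''.comap (algebraMap R₂ (R₂ ⊗[R] S)) = P₂ →
      P''.comap (Algebra.TensorProduct.includeRight : S →ₐ[R] R₂ ⊗[R] S).toRingHom = q →
      P''.comap ψ.toRingHom = P' := by
    intro P'' hP'' h1 h2
    haveI := hP''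
    haveI : (P''.comap ψ.toRingHom).IsPrime := Ideal.comap_isPrime _ _
    haveI : (P''.comap ψ.toRingHom).LiesOver P₁ := ⟨by
      rw [Ideal.under_def, c1, h1, h12]⟩
    haveI : P'.LiesOver P₁ := ⟨by rw [Ideal.under_def, hP'P₁]⟩
    apply Ideal.eq_of_comap_eq_comap_of_bijective_residueFieldMap H₁
    rw [c2, h2, hP'q]
  refine ⟨ψ e, Q.1, he.map ψ, hQprime, hQ1, hQ2, ?_, ?_, ?_⟩
  · intro hmem
    apply heP'
    rw [← hcomp Q.1 hQprime hQ1 hQ2]
    exact hmem
  · -- finiteness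
    haveI : IsScalarTower R₁ R₂ (Localization.Away (ψ e)) :=
      IsScalarTower.of_algebraMap_eq (fun r => by
        rw [IsScalarTower.algebraMap_apply R₁ (R₂ ⊗[R] S) (Localization.Away (ψ e)),
          IsScalarTower.algebraMap_apply R₂ (R₂ ⊗[R] S) (Localization.Away (ψ e)),
          IsScalarTower.algebraMap_apply R₁ R₂ (R₂ ⊗[R] S)])
    let θ : R₂ ⊗[R₁] Localization.Away e →ₐ[R₂] Localization.Away (ψ e) :=
      Algebra.TensorProduct.lift (Algebra.ofId R₂ _) (Localization.awayMapₐ ψ e)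
        (fun _ _ => Commute.all _ _)
    have hθ : Function.Surjective θ := by
      intro z
      obtain ⟨y, rfl⟩ := IsLocalization.Away.algebraMap_surjective_of_isIdempotentElem
        (S := Localization.Away (ψ e)) (ψ e) (he.map ψ) z
      induction y using TensorProduct.induction_on with
      | zero => exact ⟨0, by simp⟩
      | tmul r s =>
        refine ⟨r ⊗ₜ[R₁] algebraMap (R₁ ⊗[R] S) (Localization.Away e) ((1 : R₁) ⊗ₜ[R] s), ?_⟩
        rw [Algebra.TensorProduct.lift_tmul]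
        have h1 : (Localization.awayMapₐ ψ e)
            (algebraMap (R₁ ⊗[R] S) (Localization.Away e) ((1 : R₁) ⊗ₜ[R] s)) =
            algebraMap (R₂ ⊗[R] S) (Localization.Away (ψ e)) ((1 : R₂) ⊗ₜ[R] s) := by
          rw [← hψinc, IsLocalization.Away.mapₐ_apply]
          exact IsLocalization.map_eq _ _
        rw [h1]
        change algebraMap R₂ (Localization.Away (ψ e)) r * _ = _
        rw [IsScalarTower.algebraMap_apply R₂ (R₂ ⊗[R] S) (Localization.Away (ψ e)), ← map_mul,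
          Algebra.TensorProduct.algebraMap_apply, Algebra.TensorProduct.tmul_mul_tmul]
        simp
      | add a b ha hb =>
        obtain ⟨a', ha'⟩ := ha
        obtain ⟨b', hb'⟩ := hb
        exact ⟨a' + b', by rw [map_add, ha', hb', map_add]⟩
    exact Module.Finite.of_surjective θ.toLinearMap hθ
  · intro P'' hP'' h1 hne
    haveI := hP''
    have hpre : P''.comap ψ.toRingHom = P' := by
      apply huniq
      · exact Ideal.comap_isPrime _ _
      · rw [c1, h1, h12]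
      · exact fun hmem => hne hmem
    have h2 : P''.comap (Algebra.TensorProduct.includeRight : S →ₐ[R] R₂ ⊗[R] S).toRingHom = q := by
      rw [← c2, hpre, hP'q]
    haveI : P''.LiesOver P₂ := ⟨by rw [Ideal.under_def, h1]⟩
    apply Ideal.eq_of_comap_eq_comap_of_bijective_residueFieldMap H₂
    rw [h2, hQ2]

end Split

section Main

theorem exists_etale_splitAt {R S : Type u} [CommRing R] [CommRing S] [Algebra R S]
    [Algebra.FiniteType R S] (p : Ideal R) [p.IsPrime] (q : Ideal S) [q.IsPrime] [q.LiesOver p]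
    [Algebra.QuasiFiniteAt R q] :
    ∃ (R' : Type u) (_ : CommRing R') (_ : Algebra R R') (_ : Algebra.Etale R R') (P : Ideal R')
      (_ : P.IsPrime) (_ : P.LiesOver p),
      Function.Bijective (Ideal.ResidueField.mapₐ p P (Algebra.ofId _ _) (P.over_def p)) ∧
        SplitAt R S R' P q := by
  obtain ⟨R', _, _, _, P, _, _, e, he, P', _, _, hP'q, heP', hbij, hfin, huniq⟩ :=
    Algebra.exists_etale_isIdempotentElem_forall_liesOver_eq p q
  refine ⟨R', inferInstance, inferInstance, inferInstance, P, inferInstance, inferInstance, hbij,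
    e, P', he, inferInstance, (P'.over_def P).symm, hP'q, heP', hfin, ?_⟩
  intro P'' hP'' hP''P heP''
  haveI := hP''
  haveI : P''.LiesOver P := ⟨by rw [Ideal.under_def, hP''P]⟩
  exact huniq P'' inferInstance inferInstance heP''

theorem exists_etale_splitAt_family {R : Type u} [CommRing R] (p : Ideal R) [p.IsPrime] :
    ∀ (n : ℕ) (S : Fin n → Type u) [∀ i, CommRing (S i)] [∀ i, Algebra R (S i)]
      (_ : ∀ i, Algebra.FiniteType R (S i)) (q : ∀ i, Ideal (S i)) (hq : ∀ i, (q i).IsPrime)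
      (_ : ∀ i, (q i).LiesOver p)
      (_ : ∀ i, @Algebra.QuasiFiniteAt R (S i) _ _ _ (q i) (hq i)),
      ∃ (R' : Type u) (_ : CommRing R') (_ : Algebra R R') (_ : Algebra.Etale R R') (P : Ideal R')
        (_ : P.IsPrime) (_ : P.LiesOver p),
        Function.Bijective (Ideal.ResidueField.mapₐ p P (Algebra.ofId _ _) (P.over_def p)) ∧
        ∀ i, SplitAt R (S i) R' P (q i) := by
  intro n
  induction n with
  | zero =>
    intro S _ _ hft q hq hqp hqf
    haveI : p.LiesOver p := ⟨by simp [Ideal.under_def]⟩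
    exact ⟨R, inferInstance, inferInstance, inferInstance, p, inferInstance, inferInstance,
      bijective_of_triv p p (triv_self p), fun i => i.elim0⟩
  | succ n ih =>
    intro S _ _ hft q hq hqp hqf
    obtain ⟨Ra, _, _, _, Pa, _, _, Ha, ha⟩ := ih (fun i => S i.succ) (fun i => hft i.succ)
      (fun i => q i.succ) (fun i => hq i.succ) (fun i => hqp i.succ) (fun i => hqf i.succ)
    haveI := hq 0
    haveI := hqp 0
    haveI := hqf 0
    haveI := hft 0
    obtain ⟨Rb, _, _, _, Pb, _, _, Hb, hb⟩ := exists_etale_splitAt p (q 0)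
    obtain ⟨P, hPprime, hPa, hPb, hPtriv⟩ := exists_prime_tensor p Pa Pb Ha Hb
    haveI := hPprime
    haveI : Algebra.Etale R (Ra ⊗[R] Rb) := Algebra.Etale.comp R Ra (Ra ⊗[R] Rb)
    haveI hPp : P.LiesOver p := ⟨by
      rw [Ideal.under_def, IsScalarTower.algebraMap_eq R Ra (Ra ⊗[R] Rb), ← Ideal.comap_comap, hPa,
        ← Ideal.under_def, ← Pa.over_def p]⟩
    have HP := bijective_of_triv p P hPtriv
    refine ⟨Ra ⊗[R] Rb, inferInstance, inferInstance, inferInstance, P, inferInstance, hPp, HP, ?_⟩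
    refine Fin.cases ?_ ?_
    · letI algb : Algebra Rb (Ra ⊗[R] Rb) :=
        (Algebra.TensorProduct.includeRight : Rb →ₐ[R] Ra ⊗[R] Rb).toRingHom.toAlgebra
      haveI : IsScalarTower R Rb (Ra ⊗[R] Rb) := IsScalarTower.of_algebraMap_eq (fun r => by
        change _ = (Algebra.TensorProduct.includeRight : Rb →ₐ[R] Ra ⊗[R] Rb) (algebraMap R Rb r)
        rw [AlgHom.commutes])
      exact SplitAt.baseChange p Pb P hPb Hb HP (q 0) hb
    · intro i
      haveI := hq i.succ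
      haveI := hqp i.succ
      exact SplitAt.baseChange p Pa P hPa Ha HP (q i.succ) (ha i)

end Main

end Groth.Agent.Lib.Helper8.EtLocRing
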