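import Mathlib
import Groth.Agent.Lib.Helper8.EtLocRing
import Groth.Agent.Lib.Helper11.UHRing

set_option autoImplicit false
universe u

open AlgebraicGeometry CategoryTheory Limits TensorProduct

namespace Groth.Agent.Lib.Helper8.EtLocSch

open Groth.Agent.Lib.Helper8.EtLocRing
open Groth.Agent.Lib.Helper11

section residue

/-- pointwise surjectivity of residue field maps on `Spec`. -/
theorem residueFieldMap_surjective_of_triv {A B : Type u} [CommRing A] [CommRing B] (φ : A →+* B)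
    (y : Spec (CommRingCat.of B))
    (h : ∀ b : B, ∃ a s : A, φ s ∉ y.asIdeal ∧ φ s * b - φ a ∈ y.asIdeal) :
    Function.Surjective ((Spec.map (CommRingCat.ofHom φ)).residueFieldMap y) := by
  intro z
  obtain ⟨b, t, ht, hz⟩ := UHRing.exists_ev_div (CommRingCat.of B) y z
  obtain ⟨a, s, hs, hsb⟩ := h b
  obtain ⟨a', s', hs', hsb'⟩ := h t
  rw [← UHRing.ev_eq_zero_iff (CommRingCat.of B) y, map_sub, map_mul, sub_eq_zero] at hsb hsb'
  set E := UHRing.ev (CommRingCat.of B) y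
  set EA := UHRing.ev (CommRingCat.of A) ((Spec.map (CommRingCat.ofHom φ)) y)
  set ρ := (Spec.map (CommRingCat.ofHom φ)).residueFieldMap y
  have hEs : E (φ s) ≠ 0 := fun h0 => hs ((UHRing.ev_eq_zero_iff _ y _).mp h0)
  have hEs' : E (φ s') ≠ 0 := fun h0 => hs' ((UHRing.ev_eq_zero_iff _ y _).mp h0)
  have hEt : E t ≠ 0 := fun h0 => ht ((UHRing.ev_eq_zero_iff _ y _).mp h0)
  have hρ : ∀ a : A, ρ (EA a) = E (φ a) := fun a =>
    UHRing.residueFieldMap_ev (CommRingCat.ofHom φ) y a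
  have hEa' : E (φ a') ≠ 0 := by
    rw [← hsb']; exact mul_ne_zero hEs' hEt
  refine ⟨EA a * EA s' / (EA s * EA a'), ?_⟩
  rw [map_div₀, map_mul, map_mul, hρ, hρ, hρ, hρ]
  rw [div_eq_iff (mul_ne_zero hEs hEa')]
  have hz' : z = E b / E t := by rw [eq_div_iff hEt]; exact hz
  rw [hz', ← hsb, ← hsb']
  field_simp

theorem residueFieldMap_comp_openImm_surjective {A B : Type u} [CommRing A] [CommRing B]
    (φ : A →+* B) {Z : Scheme.{u}} (i : Spec (CommRingCat.of A) ⟶ Z) [IsOpenImmersion i]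
    (y : Spec (CommRingCat.of B))
    (h : ∀ b : B, ∃ a s : A, φ s ∉ y.asIdeal ∧ φ s * b - φ a ∈ y.asIdeal) :
    Function.Surjective ((Spec.map (CommRingCat.ofHom φ) ≫ i).residueFieldMap y) := by
  rw [Scheme.residueFieldMap_comp]
  have h1 := residueFieldMap_surjective_of_triv φ y h
  have h2 : Function.Bijective (i.residueFieldMap ((Spec.map (CommRingCat.ofHom φ)) y)) :=
    ConcreteCategory.bijective_of_isIso _
  intro z
  obtain ⟨w, hw⟩ := h1 z
  obtain ⟨w', hw'⟩ := h2.2 w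
  refine ⟨w', ?_⟩
  exact (congrArg (ConcreteCategory.hom
    (Scheme.Hom.residueFieldMap (Spec.map (CommRingCat.ofHom φ)) y)) hw').trans hw

theorem residueFieldMap_surjective_of_chart {Y Z : Scheme.{u}} (h : Y ⟶ Z) {A B : Type u}
    [CommRing A] [CommRing B] (φ : A →+* B)
    (j : Spec (CommRingCat.of B) ⟶ Y) [IsOpenImmersion j]
    (i : Spec (CommRingCat.of A) ⟶ Z) [IsOpenImmersion i]
    (e : j ≫ h = Spec.map (CommRingCat.ofHom φ) ≫ i) (y : Spec (CommRingCat.of B))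
    (hy : ∀ b : B, ∃ a s : A, φ s ∉ y.asIdeal ∧ φ s * b - φ a ∈ y.asIdeal) :
    Function.Surjective (h.residueFieldMap (j y)) := by
  have key : ∀ (k : Spec (CommRingCat.of B) ⟶ Z), k = Spec.map (CommRingCat.ofHom φ) ≫ i →
      Function.Surjective (k.residueFieldMap y) := by
    rintro k rfl
    exact residueFieldMap_comp_openImm_surjective φ i y hy
  have h1 := key (j ≫ h) e
  rw [Scheme.residueFieldMap_comp] at h1
  have h2 : Function.Bijective (j.residueFieldMap y) := ConcreteCategory.bijective_of_isIso _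
  intro z
  obtain ⟨w, hw⟩ := h1 (j.residueFieldMap y z)
  refine ⟨w, h2.1 ?_⟩
  exact hw

end residue


section ringaux

variable {R S R' : Type u} [CommRing R] [CommRing S] [CommRing R'] [Algebra R S] [Algebra R R']

theorem tmul_mem_of_mem (P : Ideal R') (P' : Ideal (R' ⊗[R] S))
    (hP' : P'.comap (algebraMap R' (R' ⊗[R] S)) = P) {d : R'} (hd : d ∈ P) (b : S) :
    d ⊗ₜ[R] b ∈ P' := by
  have h1 : algebraMap R' (R' ⊗[R] S) d ∈ P' := by
    rw [← hP'] at hd; exact hd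
  have : d ⊗ₜ[R] b = algebraMap R' (R' ⊗[R] S) d * ((1 : R') ⊗ₜ[R] b) := by
    rw [Algebra.TensorProduct.algebraMap_apply, Algebra.TensorProduct.tmul_mul_tmul]
    simp
  rw [this]
  exact Ideal.mul_mem_right _ _ h1

theorem triv_tensor (p : Ideal R) (P : Ideal R') [P.LiesOver p] (hT : Triv p P)
    (P' : Ideal (R' ⊗[R] S)) [P'.IsPrime]
    (hP' : P'.comap (algebraMap R' (R' ⊗[R] S)) = P) (t : R' ⊗[R] S) :
    ∃ a s : S, (Algebra.TensorProduct.includeRight : S →ₐ[R] R' ⊗[R] S).toRingHom s ∉ P' ∧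
      (Algebra.TensorProduct.includeRight : S →ₐ[R] R' ⊗[R] S).toRingHom s * t -
        (Algebra.TensorProduct.includeRight : S →ₐ[R] R' ⊗[R] S).toRingHom a ∈ P' := by
  induction t using TensorProduct.induction_on with
  | zero =>
    refine ⟨0, 1, ?_, by simp⟩
    rw [map_one]
    exact (Ideal.ne_top_iff_one P').mp (Ideal.IsPrime.ne_top ‹_›)
  | tmul r' b =>
    obtain ⟨a₀, s₀, hs₀, h⟩ := hT r'
    refine ⟨a₀ • b, algebraMap R S s₀, ?_, ?_⟩
    · intro hmem
      apply hs₀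
      rw [P.over_def p, ← hP']
      change algebraMap R' (R' ⊗[R] S) (algebraMap R R' s₀) ∈ P'
      have e : algebraMap R' (R' ⊗[R] S) (algebraMap R R' s₀) =
          (1 : R') ⊗ₜ[R] (algebraMap R S s₀) := by
        rw [Algebra.TensorProduct.algebraMap_apply, Algebra.algebraMap_eq_smul_one s₀,
          Algebra.algebraMap_eq_smul_one (A := S) s₀]
        change (s₀ • (1 : R')) ⊗ₜ[R] (1 : S) = _
        rw [TensorProduct.smul_tmul]
      rw [e]
      exact hmem
    · have e : (Algebra.TensorProduct.includeRight : S →ₐ[R] R' ⊗[R] S).toRingHom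
            (algebraMap R S s₀) * (r' ⊗ₜ[R] b) -
          (Algebra.TensorProduct.includeRight : S →ₐ[R] R' ⊗[R] S).toRingHom (a₀ • b) =
          (s₀ • r' - a₀ • (1 : R')) ⊗ₜ[R] b := by
        change ((1 : R') ⊗ₜ[R] (algebraMap R S s₀)) * (r' ⊗ₜ[R] b) - (1 : R') ⊗ₜ[R] (a₀ • b) = _
        rw [Algebra.TensorProduct.tmul_mul_tmul, one_mul, ← Algebra.smul_def,
          TensorProduct.sub_tmul, TensorProduct.smul_tmul, TensorProduct.smul_tmul]
      rw [e]
      exact tmul_mem_of_mem P P' hP' h b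
  | add t₁ t₂ ih₁ ih₂ =>
    obtain ⟨a₁, s₁, hs₁, h1⟩ := ih₁
    obtain ⟨a₂, s₂, hs₂, h2⟩ := ih₂
    refine ⟨s₂ * a₁ + s₁ * a₂, s₁ * s₂, ?_, ?_⟩
    · rw [map_mul]
      exact fun h => (Ideal.IsPrime.mem_or_mem ‹_› h).elim hs₁ hs₂
    · set ι := (Algebra.TensorProduct.includeRight : S →ₐ[R] R' ⊗[R] S).toRingHom
      have e : ι (s₁ * s₂) * (t₁ + t₂) - ι (s₂ * a₁ + s₁ * a₂) =
          ι s₂ * (ι s₁ * t₁ - ι a₁) + ι s₁ * (ι s₂ * t₂ - ι a₂) := by
        simp only [map_mul, map_add]; ring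
      rw [e]
      exact Ideal.add_mem _ (Ideal.mul_mem_left _ _ h1) (Ideal.mul_mem_left _ _ h2)

end ringaux

section chart

variable {X S : Scheme.{u}} (f : X ⟶ S)

set_option backward.defeqAttrib.useBackward true in
set_option backward.isDefEq.respectTransparency false in
set_option maxHeartbeats 1600000 in
theorem chart {U₀ : S.Opens} (hU₀ : IsAffineOpen U₀) {X₁ : X.Opens} (hX₁ : IsAffineOpen X₁)
    (hle : X₁ ≤ f ⁻¹ᵁ U₀) [inst : Algebra Γ(S, U₀) Γ(X, X₁)]
    (hinst : inst = (f.appLE U₀ X₁ hle).hom.toAlgebra)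
    (R' : Type u) [CommRing R'] [Algebra Γ(S, U₀) R']
    (x : X) (hx : x ∈ X₁) (p : Ideal Γ(S, U₀)) [p.IsPrime] (P : Ideal R') [P.IsPrime] [P.LiesOver p]
    (H : Function.Bijective (Ideal.ResidueField.mapₐ p P (Algebra.ofId _ _) (P.over_def p)))
    (hsplit : SplitAt Γ(S, U₀) Γ(X, X₁) R' P (hX₁.primeIdealOf ⟨x, hx⟩).asIdeal) :
    ∃ (V : (pullback f (Spec.map (CommRingCat.ofHom (algebraMap Γ(S, U₀) R')) ≫
        hU₀.fromSpec)).Opens)
      (v : ↥(pullback f (Spec.map (CommRingCat.ofHom (algebraMap Γ(S, U₀) R')) ≫ hU₀.fromSpec))),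
      v ∈ V ∧ IsFinite (V.ι ≫ pullback.snd f _) ∧
      pullback.snd f _ v = (⟨P, inferInstance⟩ : Spec (CommRingCat.of R')) ∧
      pullback.fst f _ v = x ∧
      (∀ w ∈ V, pullback.snd f _ w = (⟨P, inferInstance⟩ : Spec (CommRingCat.of R')) → w = v) ∧
      (∀ w, pullback.snd f _ w = (⟨P, inferInstance⟩ : Spec (CommRingCat.of R')) →
        pullback.fst f _ w = x → w = v) ∧
      Function.Surjective ((pullback.fst f _).residueFieldMap v) := by
  subst hinst
  letI algXS : Algebra Γ(S, U₀) Γ(X, X₁) := (f.appLE U₀ X₁ hle).hom.toAlgebra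
  obtain ⟨e, P', he, hP'prime, hP'P, hP'q, heP', hfin, huniq⟩ := hsplit
  haveI := hP'prime
  haveI := hfin
  set g : Spec (CommRingCat.of R') ⟶ S :=
    Spec.map (CommRingCat.ofHom (algebraMap Γ(S, U₀) R')) ≫ hU₀.fromSpec with hg
  let φ : Γ(S, U₀) ⟶ .of R' := CommRingCat.ofHom (algebraMap Γ(S, U₀) R')
  let e₁ : Spec (.of (R' ⊗[Γ(S, U₀)] Γ(X, X₁))) ≅
      pullback (Spec.map (f.appLE U₀ X₁ hle)) (Spec.map φ) :=
    (pullbackSpecIso _ _ _).symm ≪≫ pullbackSymmetry _ _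
  have he₁ : e₁.hom ≫ pullback.fst _ _ =
      Spec.map (CommRingCat.ofHom Algebra.TensorProduct.includeRight.toRingHom) := by
    dsimp [e₁, RingHom.algebraMap_toAlgebra]
    rw [Category.assoc, pullbackSymmetry_hom_comp_fst]
    exact pullbackSpecIso_inv_snd ..
  have he₁' : e₁.hom ≫ pullback.snd _ _ =
      Spec.map (CommRingCat.ofHom (Algebra.TensorProduct.includeLeftRingHom :
        R' →+* R' ⊗[Γ(S, U₀)] Γ(X, X₁))) := by
    dsimp [e₁, RingHom.algebraMap_toAlgebra]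
    rw [Category.assoc, pullbackSymmetry_hom_comp_snd]
    exact pullbackSpecIso_inv_fst ..
  let c : Spec (.of (R' ⊗[Γ(S, U₀)] Γ(X, X₁))) ⟶ pullback f g :=
    e₁.hom ≫ pullback.map _ _ _ _ hX₁.fromSpec (𝟙 _) hU₀.fromSpec
      (IsAffineOpen.SpecMap_appLE_fromSpec ..) (by simp [g, φ])
  haveI : IsOpenImmersion c := by dsimp only [c]; infer_instance
  have hc_fst : c ≫ pullback.fst f g =
      Spec.map (CommRingCat.ofHom Algebra.TensorProduct.includeRight.toRingHom) ≫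
        hX₁.fromSpec := by
    simp only [c, Category.assoc, pullback.lift_fst]
    rw [← Category.assoc, he₁]
  have hc_snd : c ≫ pullback.snd f g =
      Spec.map (CommRingCat.ofHom (Algebra.TensorProduct.includeLeftRingHom :
        R' →+* R' ⊗[Γ(S, U₀)] Γ(X, X₁))) := by
    simp only [c, Category.assoc, pullback.lift_snd, Category.comp_id]
    exact he₁'
  -- points of the chart
  have hsnd_pt : ∀ y : Spec (.of (R' ⊗[Γ(S, U₀)] Γ(X, X₁))),
      (pullback.snd f g (c y)).asIdeal = y.asIdeal.comap (algebraMap R' _) := by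
    intro y
    rw [← Scheme.Hom.comp_apply, hc_snd]
    ext r
    change (r ⊗ₜ[Γ(S, U₀)] (1 : Γ(X, X₁))) ∈ y.asIdeal ↔ algebraMap R' _ r ∈ y.asIdeal
    rw [Algebra.TensorProduct.algebraMap_apply]
    rfl
  have hfst_pt : ∀ y : Spec (.of (R' ⊗[Γ(S, U₀)] Γ(X, X₁))),
      pullback.fst f g (c y) = hX₁.fromSpec
        (Spec.map (CommRingCat.ofHom Algebra.TensorProduct.includeRight.toRingHom) y) := by
    intro y
    rw [← Scheme.Hom.comp_apply, hc_fst, Scheme.Hom.comp_apply]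
  haveI : IsOpenImmersion hX₁.fromSpec := hX₁.isOpenImmersion_fromSpec
  have hfst_pt' : ∀ y : Spec (.of (R' ⊗[Γ(S, U₀)] Γ(X, X₁))), pullback.fst f g (c y) = x →
      y.asIdeal.comap Algebra.TensorProduct.includeRight.toRingHom =
        (hX₁.primeIdealOf ⟨x, hx⟩).asIdeal := by
    intro y hy
    rw [hfst_pt] at hy
    have hxe : hX₁.fromSpec (hX₁.primeIdealOf ⟨x, hx⟩) = x := hX₁.fromSpec_primeIdealOf ⟨x, hx⟩
    have := hX₁.fromSpec.isOpenEmbedding.injective (hy.trans hxe.symm)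
    exact congrArg PrimeSpectrum.asIdeal this
  let W₁ := c ''ᵁ PrimeSpectrum.basicOpen e
  let v := c ⟨P', hP'prime⟩
  have hv_snd : pullback.snd f g v = (⟨P, inferInstance⟩ : Spec (CommRingCat.of R')) :=
    PrimeSpectrum.ext ((hsnd_pt _).trans hP'P)
  have hv_fst : pullback.fst f g v = x := by
    rw [hfst_pt]
    have hxe : hX₁.fromSpec (hX₁.primeIdealOf ⟨x, hx⟩) = x := hX₁.fromSpec_primeIdealOf ⟨x, hx⟩
    refine Eq.trans ?_ hxe
    congr 1
    exact PrimeSpectrum.ext hP'q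
  -- finiteness
  have hW₁fin : IsFinite (W₁.ι ≫ pullback.snd f g) := by
    let ι : Spec (.of (Localization.Away e)) ⟶ pullback f g :=
      Spec.map (CommRingCat.ofHom <| algebraMap _ _) ≫ c
    have hιrange : ι.opensRange = W₁ := by
      simp only [Scheme.Hom.opensRange_comp, ι, W₁]
      congr 1
      exact TopologicalSpace.Opens.ext <| PrimeSpectrum.localization_away_comap_range _ _
    have hιsnd : ι ≫ pullback.snd f g =
        Spec.map (CommRingCat.ofHom (algebraMap R' (Localization.Away e))) := by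
      simp only [ι, Category.assoc, hc_snd, ← Spec.map_comp]
      congr 1
    haveI : IsFinite (ι ≫ pullback.snd f g) := by
      rw [hιsnd, IsFinite.SpecMap_iff]
      exact RingHom.finite_algebraMap.mpr hfin
    rw [← hιrange, ← Scheme.Hom.isoOpensRange_inv_comp, Category.assoc]
    infer_instance
  refine ⟨W₁, v, ⟨⟨P', hP'prime⟩, heP', rfl⟩, hW₁fin, hv_snd, hv_fst, ?_, ?_, ?_⟩
  · rintro w ⟨y, hy, rfl⟩ hw
    have h1 : y.asIdeal.comap (algebraMap R' _) = P :=
      (hsnd_pt y).symm.trans (congrArg PrimeSpectrum.asIdeal hw)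
    have : y.asIdeal = P' := huniq y.asIdeal y.2 h1 hy
    change c y = c ⟨P', hP'prime⟩
    congr 1
    exact PrimeSpectrum.ext this
  · intro w hw hwx
    have hrange : w ∈ Set.range c := by
      have h1 : Set.range c = Set.range (pullback.map _ _ _ _ hX₁.fromSpec (𝟙 _) hU₀.fromSpec
          (IsAffineOpen.SpecMap_appLE_fromSpec f hU₀ hX₁ hle) (by simp [g, φ]) :
          pullback (Spec.map (f.appLE U₀ X₁ hle)) (Spec.map φ) ⟶ pullback f g) := by
        dsimp only [c]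
        rw [Scheme.Hom.comp_base, TopCat.coe_comp, Set.range_comp,
          Set.range_eq_univ.mpr e₁.hom.surjective, Set.image_univ]
      rw [h1, Scheme.Pullback.range_map]
      refine ⟨?_, by simp⟩
      change pullback.fst f g w ∈ Set.range hX₁.fromSpec
      rw [hwx, hX₁.range_fromSpec]
      exact hx
    obtain ⟨y, rfl⟩ := hrange
    have h1 : y.asIdeal.comap (algebraMap R' _) = P :=
      (hsnd_pt y).symm.trans (congrArg PrimeSpectrum.asIdeal hw)
    have h2 := hfst_pt' y hwx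
    haveI : y.asIdeal.LiesOver P := ⟨by rw [Ideal.under_def, h1]⟩
    haveI : P'.LiesOver P := ⟨by rw [Ideal.under_def, hP'P]⟩
    have : y.asIdeal = P' := by
      apply Ideal.eq_of_comap_eq_comap_of_bijective_residueFieldMap H
      rw [h2, hP'q]
    change c y = c ⟨P', hP'prime⟩
    congr 1
    exact PrimeSpectrum.ext this
  · have hT := triv_of_bijective p P H
    exact residueFieldMap_surjective_of_chart (pullback.fst f g)
      (Algebra.TensorProduct.includeRight : Γ(X, X₁) →ₐ[Γ(S, U₀)] R' ⊗[Γ(S, U₀)] Γ(X, X₁)).toRingHom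
      c hX₁.fromSpec hc_fst ⟨P', hP'prime⟩ (triv_tensor p P hT P' hP'P)

end chart


section main

variable {X S : Scheme.{u}} (f : X ⟶ S)

theorem primeIdealOf_eq {U : S.Opens} (hU : IsAffineOpen U) {V : X.Opens}
    (hV : IsAffineOpen V) (hUV : V ≤ f ⁻¹ᵁ U) (x : X) (hxV : x ∈ V) (s : S) (hsU : s ∈ U)
    (h : f x = s) :
    hU.primeIdealOf ⟨s, hsU⟩ = Spec.map (f.appLE U V hUV) (hV.primeIdealOf ⟨x, hxV⟩) := by
  subst h
  apply hU.isoSpec.inv.homeomorph.injective
  apply Subtype.ext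
  simp only [IsAffineOpen.primeIdealOf, Scheme.Hom.homeomorph_apply,
    ← Scheme.Hom.comp_apply, ← Scheme.Opens.ι_apply, IsAffineOpen.isoSpec_hom]
  simp

set_option maxHeartbeats 1600000 in
/-- Étale localization at finitely many quasi-finite points (indexed by `Fin n`). -/
theorem exists_etale_nbhd_split_fin [LocallyOfFiniteType f] (s : S) (n : ℕ)
    (x : Fin n → X) (hs : ∀ i, f (x i) = s) (hx : ∀ i, f.QuasiFiniteAt (x i)) :
    ∃ (U : Scheme.{u}) (g : U ⟶ S) (u : U), Etale g ∧ g u = s ∧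
      Function.Surjective (g.residueFieldMap u) ∧
      ∃ (V : Fin n → (pullback f g).Opens) (v : Fin n → ↥(pullback f g)), ∀ i,
        v i ∈ V i ∧ IsFinite ((V i).ι ≫ pullback.snd f g) ∧ pullback.snd f g (v i) = u ∧
        pullback.fst f g (v i) = x i ∧
        (∀ w ∈ V i, pullback.snd f g w = u → w = v i) ∧
        (∀ w, pullback.snd f g w = u → pullback.fst f g w = x i → w = v i) ∧
        Function.Surjective ((pullback.fst f g).residueFieldMap (v i)) := by
  classical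
  obtain ⟨U₀, hU₀, hsU₀⟩ : ∃ U₀ : S.Opens, IsAffineOpen U₀ ∧ s ∈ U₀ := by
    obtain ⟨_, ⟨U, hU, rfl⟩, hxU, -⟩ :=
      S.isBasis_affineOpens.exists_subset_of_mem_open (Set.mem_univ s) isOpen_univ
    exact ⟨U, hU, hxU⟩
  have hchart : ∀ i, ∃ X₁ : X.Opens, IsAffineOpen X₁ ∧ x i ∈ X₁ ∧ X₁ ≤ f ⁻¹ᵁ U₀ := by
    intro i
    have hmem : x i ∈ ((f ⁻¹ᵁ U₀ : X.Opens) : Set X) := by
      change f (x i) ∈ U₀
      rw [hs i]
      exact hsU₀
    obtain ⟨_, ⟨V, hV, rfl⟩, hxV, hVU⟩ :=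
      X.isBasis_affineOpens.exists_subset_of_mem_open hmem (f ⁻¹ᵁ U₀).2
    exact ⟨V, hV, hxV, hVU⟩
  choose X₁ hX₁ hxX₁ hle using hchart
  letI algfam : ∀ i, Algebra Γ(S, U₀) Γ(X, X₁ i) :=
    fun i => (f.appLE U₀ (X₁ i) (hle i)).hom.toAlgebra
  have hft : ∀ i, Algebra.FiniteType Γ(S, U₀) Γ(X, X₁ i) :=
    fun i => f.finiteType_appLE hU₀ (hX₁ i) (hle i)
  let p : Ideal Γ(S, U₀) := (hU₀.primeIdealOf ⟨s, hsU₀⟩).asIdeal
  haveI : p.IsPrime := (hU₀.primeIdealOf ⟨s, hsU₀⟩).2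
  let q : ∀ i, Ideal Γ(X, X₁ i) := fun i => ((hX₁ i).primeIdealOf ⟨x i, hxX₁ i⟩).asIdeal
  have hq : ∀ i, (q i).IsPrime := fun i => ((hX₁ i).primeIdealOf ⟨x i, hxX₁ i⟩).2
  have hqp : ∀ i, (q i).LiesOver p := by
    intro i
    have := primeIdealOf_eq f hU₀ (hX₁ i) (hle i) (x i) (hxX₁ i) s hsU₀ (hs i)
    exact ⟨congr(($this).1)⟩
  have hqf : ∀ i, @Algebra.QuasiFiniteAt Γ(S, U₀) Γ(X, X₁ i) _ _ _ (q i) (hq i) :=
    fun i => (hx i).quasiFiniteAt (hX₁ i) hU₀ (hle i) (hxX₁ i)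
  obtain ⟨R', _, _, _, P, _, _, H, hsplit⟩ :=
    exists_etale_splitAt_family p n (fun i => Γ(X, X₁ i)) hft q hq hqp hqf
  have hch := fun i => chart f hU₀ (hX₁ i) (hle i) (inst := algfam i) rfl R' (x i) (hxX₁ i) p P H
    (hsplit i)
  choose V v hV using hch
  have hT := triv_of_bijective p P H
  have hcond : ∀ b : R', ∃ a t : Γ(S, U₀), algebraMap Γ(S, U₀) R' t ∉ P ∧
      algebraMap Γ(S, U₀) R' t * b - algebraMap Γ(S, U₀) R' a ∈ P := by
    intro b
    obtain ⟨a, t, ht, h⟩ := hT b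
    refine ⟨a, t, notMem_of_liesOver p P ht, ?_⟩
    rwa [Algebra.smul_def, Algebra.smul_def, mul_one] at h
  haveI : Etale (Spec.map (CommRingCat.ofHom (algebraMap Γ(S, U₀) R'))) :=
    HasRingHomProperty.Spec_iff.mpr (RingHom.etale_algebraMap.mpr ‹_›)
  haveI : IsOpenImmersion hU₀.fromSpec := hU₀.isOpenImmersion_fromSpec
  refine ⟨Spec (.of R'), Spec.map (CommRingCat.ofHom (algebraMap Γ(S, U₀) R')) ≫ hU₀.fromSpec,
    (⟨P, inferInstance⟩ : Spec (CommRingCat.of R')), inferInstance, ?_, ?_, V, v, hV⟩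
  · rw [Scheme.Hom.comp_apply]
    have hse : hU₀.fromSpec (hU₀.primeIdealOf ⟨s, hsU₀⟩) = s :=
      hU₀.fromSpec_primeIdealOf ⟨s, hsU₀⟩
    refine Eq.trans ?_ hse
    congr 1
    exact PrimeSpectrum.ext (P.over_def p).symm
  · exact residueFieldMap_comp_openImm_surjective (algebraMap Γ(S, U₀) R') hU₀.fromSpec
      (⟨P, inferInstance⟩ : Spec (CommRingCat.of R')) hcond

/-- Étale localization at finitely many quasi-finite points (arbitrary finite index type). -/
theorem exists_etale_nbhd_split [LocallyOfFiniteType f] (s : S) {ι : Type*} [Finite ι]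
    (x : ι → X) (hs : ∀ i, f (x i) = s) (hx : ∀ i, f.QuasiFiniteAt (x i)) :
    ∃ (U : Scheme.{u}) (g : U ⟶ S) (u : U), Etale g ∧ g u = s ∧
      Function.Surjective (g.residueFieldMap u) ∧
      ∃ (V : ι → (pullback f g).Opens) (v : ι → ↥(pullback f g)), ∀ i,
        v i ∈ V i ∧ IsFinite ((V i).ι ≫ pullback.snd f g) ∧ pullback.snd f g (v i) = u ∧
        pullback.fst f g (v i) = x i ∧
        (∀ w ∈ V i, pullback.snd f g w = u → w = v i) ∧
        (∀ w, pullback.snd f g w = u → pullback.fst f g w = x i → w = v i) ∧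
        Function.Surjective ((pullback.fst f g).residueFieldMap (v i)) := by
  let e := Finite.equivFin ι
  obtain ⟨U, g, u, hg, hgu, hres, V, v, hV⟩ :=
    exists_etale_nbhd_split_fin f s (Nat.card ι) (fun j => x (e.symm j))
      (fun j => hs _) (fun j => hx _)
  refine ⟨U, g, u, hg, hgu, hres, fun i => V (e i), fun i => v (e i), fun i => ?_⟩
  have := hV (e i)
  simp only [Equiv.symm_apply_apply] at this
  exact this

end main

section union

variable {X S : Scheme.{u}} (f : X ⟶ S)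

theorem isFinite_sup' [IsSeparated f] [LocallyOfFiniteType f]
    (W₁ W₂ : X.Opens) (h₁ : IsFinite (W₁.ι ≫ f)) (h₂ : IsFinite (W₂.ι ≫ f)) :
    IsFinite ((W₁ ⊔ W₂).ι ≫ f) := by
  let φ : (W₁ : Scheme) ⨿ (W₂ : Scheme) ⟶ ((W₁ ⊔ W₂ : X.Opens) : Scheme) :=
    coprod.desc (X.homOfLE le_sup_left) (X.homOfLE le_sup_right)
  have hφ : φ ≫ ((W₁ ⊔ W₂).ι ≫ f) = coprod.desc (W₁.ι ≫ f) (W₂.ι ≫ f) := by
    apply coprod.hom_ext <;> simp [φ]
  haveI hsurj : Surjective φ := ⟨by
    rintro ⟨y, hy⟩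
    rcases hy with hy | hy
    · refine ⟨(coprod.inl : (W₁ : Scheme) ⟶ _) ⟨y, hy⟩, ?_⟩
      apply (W₁ ⊔ W₂).ι.isOpenEmbedding.injective
      have e1 : (coprod.inl : (W₁ : Scheme) ⟶ _) ≫ φ ≫ (W₁ ⊔ W₂).ι = W₁.ι := by
        rw [← Category.assoc, coprod.inl_desc, Scheme.homOfLE_ι]
      rw [← Scheme.Hom.comp_apply, ← Scheme.Hom.comp_apply, e1]
      rfl
    · refine ⟨(coprod.inr : (W₂ : Scheme) ⟶ _) ⟨y, hy⟩, ?_⟩
      apply (W₁ ⊔ W₂).ι.isOpenEmbedding.injective
      have e1 : (coprod.inr : (W₂ : Scheme) ⟶ _) ≫ φ ≫ (W₁ ⊔ W₂).ι = W₂.ι := by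
        rw [← Category.assoc, coprod.inr_desc, Scheme.homOfLE_ι]
      rw [← Scheme.Hom.comp_apply, ← Scheme.Hom.comp_apply, e1]
      rfl⟩
  haveI hfin : IsFinite (φ ≫ ((W₁ ⊔ W₂).ι ≫ f)) := by rw [hφ]; infer_instance
  haveI : UniversallyClosed ((W₁ ⊔ W₂).ι ≫ f) := UniversallyClosed.of_comp_surjective φ _
  haveI : IsProper ((W₁ ⊔ W₂).ι ≫ f) := ⟨⟩
  haveI : LocallyQuasiFinite ((W₁ ⊔ W₂).ι ≫ f) := by
    apply LocallyQuasiFinite.of_finite_preimage_singleton
    intro y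
    have hfy : ((φ ≫ ((W₁ ⊔ W₂).ι ≫ f)) ⁻¹' {y}).Finite :=
      Scheme.Hom.finite_preimage_singleton _ y
    refine (hfy.image φ).subset ?_
    intro z hz
    obtain ⟨w, rfl⟩ := hsurj.surj z
    exact ⟨w, hz, rfl⟩
  exact IsFinite.of_isProper_of_locallyQuasiFinite _

theorem isFinite_finset_sup' [IsSeparated f] [LocallyOfFiniteType f]
    {ι : Type*} (t : Finset ι) (W : ι → X.Opens) (h : ∀ i ∈ t, IsFinite ((W i).ι ≫ f)) :
    IsFinite ((t.sup W).ι ≫ f) := by
  classical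
  induction t using Finset.induction_on with
  | empty =>
    rw [Finset.sup_empty]
    haveI : IsEmpty ((⊥ : X.Opens) : Scheme) := ⟨fun x => x.2⟩
    infer_instance
  | insert a t ha ih =>
    rw [Finset.sup_insert]
    exact isFinite_sup' f _ _ (h a (Finset.mem_insert_self _ _))
      (ih fun i hi => h i (Finset.mem_insert_of_mem hi))

theorem isClosed_of_isFinite [IsSeparated f] (W : X.Opens) (h : IsFinite (W.ι ≫ f)) :
    IsClosed (W : Set X) := by
  haveI : IsFinite W.ι := IsFinite.of_comp _ f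
  have := W.ι.isClosedMap.isClosed_range
  rwa [Scheme.Opens.range_ι] at this

end union

end Groth.Agent.Lib.Helper8.EtLocSch
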