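import Mathlib
set_option autoImplicit false
open TensorProduct KaehlerDifferential

/-! Étale charts `k[x₁,…,x_d] → R[1/g]` at a smooth maximal ideal, inducing an isomorphism on
residue fields (finite residue field case). -/

namespace Groth.Agent.Lib.Helper8.EtChart

theorem formallyEtale_of_bijective_mapBaseChange (k P T : Type*) [CommRing k] [CommRing P]
    [CommRing T] [Algebra k P] [Algebra k T] [Algebra P T] [IsScalarTower k P T]
    [Subsingleton (Algebra.H1Cotangent k T)]
    (h : Function.Bijective (KaehlerDifferential.mapBaseChange k P T)) :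
    Algebra.FormallyEtale P T := by
  refine ⟨⟨fun a b => ?_⟩, ⟨fun a b => ?_⟩⟩
  · have key : ∀ c : Ω[T⁄P], c = 0 := fun c => by
      obtain ⟨c', rfl⟩ := KaehlerDifferential.map_surjective k P T c
      obtain ⟨c'', rfl⟩ := h.2 c'
      exact (KaehlerDifferential.exact_mapBaseChange_map k P T _).mpr ⟨c'', rfl⟩
    rw [key a, key b]
  · have key : ∀ c : Algebra.H1Cotangent P T, c = 0 := fun c => by
      have h1 : Algebra.H1Cotangent.δ k P T c = 0 := by
        apply h.1
        rw [map_zero]
        exact (Algebra.H1Cotangent.exact_δ_mapBaseChange k P T _).mpr ⟨c, rfl⟩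
      obtain ⟨c', rfl⟩ := (Algebra.H1Cotangent.exact_map_δ k P T c).mp h1
      rw [Subsingleton.elim c' 0, map_zero]
    rw [key a, key b]

theorem isEtaleAt_of_basis {k P R : Type*} [CommRing k] [CommRing P] [CommRing R]
    [Algebra k P] [Algebra k R] [Algebra P R] [IsScalarTower k P R]
    [Algebra.EssFiniteType k R]
    (m : Ideal R) [m.IsPrime] [Algebra.IsSmoothAt k m]
    {ι : Type*} [Finite ι] (B : Module.Basis ι P Ω[P⁄k]) (p : ι → P)
    (hp : ∀ i, B i = D k P (p i))
    (hB : Function.Bijective (Finsupp.linearCombination m.ResidueField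
      (fun i => (1 : m.ResidueField) ⊗ₜ[R] D k R (algebraMap P R (p i))))) :
    Algebra.IsEtaleAt P m := by
  have hbc1 : IsBaseChange (Localization.AtPrime m)
      (KaehlerDifferential.map k k R (Localization.AtPrime m)) :=
    IsLocalizedModule.isBaseChange m.primeCompl _ _
  have hbc2 : IsBaseChange m.ResidueField
      (TensorProduct.mk (Localization.AtPrime m) m.ResidueField Ω[Localization.AtPrime m⁄k] 1) :=
    TensorProduct.isBaseChange _ _ _
  have hbc := hbc1.comp hbc2
  set v : ι → Ω[Localization.AtPrime m⁄k] :=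
    fun i => D k (Localization.AtPrime m) (algebraMap P (Localization.AtPrime m) (p i)) with hv
  have hfun : (TensorProduct.mk (Localization.AtPrime m) m.ResidueField
      Ω[Localization.AtPrime m⁄k] 1 ∘ v) = hbc.equiv ∘
      (fun i => (1 : m.ResidueField) ⊗ₜ[R] D k R (algebraMap P R (p i))) := by
    funext i
    simp only [Function.comp_apply, IsBaseChange.equiv_tmul, one_smul, LinearMap.coe_comp,
      LinearMap.coe_restrictScalars, KaehlerDifferential.map_D, hv,
      ← IsScalarTower.algebraMap_apply]
  have h1 : Function.Bijective (Finsupp.linearCombination m.ResidueField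
      (TensorProduct.mk (Localization.AtPrime m) m.ResidueField
      Ω[Localization.AtPrime m⁄k] 1 ∘ v)) := by
    rw [hfun]
    have : ⇑(Finsupp.linearCombination m.ResidueField (hbc.equiv ∘
      (fun i => (1 : m.ResidueField) ⊗ₜ[R] D k R (algebraMap P R (p i))))) =
        hbc.equiv ∘ (Finsupp.linearCombination m.ResidueField
      (fun i => (1 : m.ResidueField) ⊗ₜ[R] D k R (algebraMap P R (p i)))) := by
      funext l
      exact (LinearMap.map_finsupp_linearCombination hbc.equiv.toLinearMap l).symm
    rw [this]
    exact hbc.equiv.bijective.comp hB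
  have h2 := Module.IsLocalRing.linearCombination_bijective_of_flat v h1
  have h3 : (KaehlerDifferential.mapBaseChange k P (Localization.AtPrime m)) ∘ₗ
      (B.baseChange (Localization.AtPrime m)).repr.symm.toLinearMap =
      Finsupp.linearCombination (Localization.AtPrime m) v := by
    apply Finsupp.lhom_ext'
    intro i
    apply LinearMap.ext_ring
    simp [hp, hv]
  have h4 : Function.Bijective (KaehlerDifferential.mapBaseChange k P (Localization.AtPrime m)) := by
    rw [← Function.Bijective.of_comp_iff _ (B.baseChange (Localization.AtPrime m)).repr.symm.bijective]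
    have : ⇑(KaehlerDifferential.mapBaseChange k P (Localization.AtPrime m)) ∘
        ⇑(B.baseChange (Localization.AtPrime m)).repr.symm =
        ⇑(Finsupp.linearCombination (Localization.AtPrime m) v) := by
      rw [← h3]; rfl
    rw [this]
    exact h2
  exact formallyEtale_of_bijective_mapBaseChange k P (Localization.AtPrime m) h4

theorem exists_chart (k R : Type*) [CommRing k] [CommRing R] [Algebra k R]
    [Algebra.FinitePresentation k R] (m : Ideal R) [m.IsMaximal] [Algebra.IsSmoothAt k m]
    {d : ℕ} (x : Fin d → R)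
    (hx : Function.Bijective (Finsupp.linearCombination m.ResidueField
      (fun i => (1 : m.ResidueField) ⊗ₜ[R] D k R (x i))))
    (hsurj : ∀ r : R, ∃ p : MvPolynomial (Fin d) k, MvPolynomial.aeval x p - r ∈ m) :
    ∃ g : R, g ∉ m ∧ ∃ φ : MvPolynomial (Fin d) k →ₐ[k] Localization.Away g,
      φ.toRingHom.Etale ∧ Function.Surjective
        ((Ideal.Quotient.mk (m.map (algebraMap R (Localization.Away g)))).comp φ.toRingHom) := by
  letI : Algebra (MvPolynomial (Fin d) k) R := (MvPolynomial.aeval x).toRingHom.toAlgebra
  haveI : IsScalarTower k (MvPolynomial (Fin d) k) R :=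
    .of_algebraMap_eq' (MvPolynomial.aeval x).comp_algebraMap.symm
  haveI : Algebra.FinitePresentation (MvPolynomial (Fin d) k) R :=
    .of_restrict_scalars_finitePresentation k _ _
  have hmap : ∀ q, algebraMap (MvPolynomial (Fin d) k) R q = MvPolynomial.aeval x q := fun _ => rfl
  haveI : Algebra.IsEtaleAt (MvPolynomial (Fin d) k) m := by
    refine isEtaleAt_of_basis m (KaehlerDifferential.mvPolynomialBasis k (Fin d)) MvPolynomial.X
      (fun i => by simp) ?_
    simpa [hmap] using hx
  obtain ⟨g, hg, hget⟩ := Algebra.exists_etale_of_isEtaleAt (R := MvPolynomial (Fin d) k) m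
  refine ⟨g, hg, (IsScalarTower.toAlgHom k R (Localization.Away g)).comp (MvPolynomial.aeval x),
    ?_, ?_⟩
  · have : ((IsScalarTower.toAlgHom k R (Localization.Away g)).comp
        (MvPolynomial.aeval x)).toRingHom =
        algebraMap (MvPolynomial (Fin d) k) (Localization.Away g) := by
      refine RingHom.ext fun q => ?_
      rw [IsScalarTower.algebraMap_apply (MvPolynomial (Fin d) k) R (Localization.Away g), hmap]
      rfl
    rw [this, RingHom.etale_algebraMap]
    exact hget
  · intro y
    obtain ⟨y, rfl⟩ := Ideal.Quotient.mk_surjective y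
    obtain ⟨⟨r, ⟨_, n, rfl⟩⟩, hy⟩ := IsLocalization.surj (Submonoid.powers g) y
    obtain ⟨h, i, hi, hgi⟩ := Ideal.IsMaximal.exists_inv ‹m.IsMaximal› hg
    obtain ⟨q, hq⟩ := hsurj (r * h ^ n)
    refine ⟨q, ?_⟩
    set I := m.map (algebraMap R (Localization.Away g)) with hI
    have e1 : Ideal.Quotient.mk I (algebraMap R _ g) * Ideal.Quotient.mk I (algebraMap R _ h) = 1 := by
      have h0 : Ideal.Quotient.mk I (algebraMap R _ i) = 0 :=
        Ideal.Quotient.eq_zero_iff_mem.mpr (Ideal.mem_map_of_mem _ hi)
      have h2 := congrArg (fun z => Ideal.Quotient.mk I (algebraMap R (Localization.Away g) z)) hgi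
      simp only [map_add, map_mul, map_one, h0, add_zero] at h2
      rw [mul_comm]; exact h2
    have e2 : Ideal.Quotient.mk I (algebraMap R _ (MvPolynomial.aeval x q)) =
        Ideal.Quotient.mk I (algebraMap R _ (r * h ^ n)) := by
      rw [← sub_eq_zero, ← map_sub, ← map_sub]
      exact Ideal.Quotient.eq_zero_iff_mem.mpr (Ideal.mem_map_of_mem _ hq)
    have hy' : y * algebraMap R (Localization.Away g) g ^ n = algebraMap R _ r := by
      simpa using hy
    calc ((Ideal.Quotient.mk I).comp ((IsScalarTower.toAlgHom k R (Localization.Away g)).comp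
          (MvPolynomial.aeval x)).toRingHom) q
        = Ideal.Quotient.mk I (algebraMap R _ (MvPolynomial.aeval x q)) := rfl
      _ = Ideal.Quotient.mk I (algebraMap R _ (r * h ^ n)) := e2
      _ = Ideal.Quotient.mk I (algebraMap R _ r) * (Ideal.Quotient.mk I (algebraMap R _ h)) ^ n := by
        simp only [map_mul, map_pow]
      _ = Ideal.Quotient.mk I y * (Ideal.Quotient.mk I (algebraMap R _ g) *
          Ideal.Quotient.mk I (algebraMap R _ h)) ^ n := by
        rw [← hy', map_mul, map_pow, mul_pow]; ring
      _ = Ideal.Quotient.mk I y := by rw [e1, one_pow, mul_one]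

theorem exists_chart_of_finite_residueField
    (k : Type*) [CommRing k] [IsLocalRing k] [Finite (IsLocalRing.ResidueField k)]
    (R : Type*) [CommRing R] [Algebra k R] [Algebra.FinitePresentation k R]
    (m : Ideal R) [m.IsMaximal] (hm : m.comap (algebraMap k R) = IsLocalRing.maximalIdeal k)
    [Algebra.IsSmoothAt k m] (d : ℕ) (hd : 0 < d)
    (hdim : Module.finrank (R ⧸ m) ((R ⧸ m) ⊗[R] KaehlerDifferential k R) = d) :
    ∃ g : R, g ∉ m ∧ ∃ φ : MvPolynomial (Fin d) k →ₐ[k] Localization.Away g,
      φ.toRingHom.Etale ∧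
      Function.Surjective
        ((Ideal.Quotient.mk (m.map (algebraMap R (Localization.Away g)))).comp φ.toRingHom) := by
  haveI hloc : IsLocalHom (algebraMap k (Localization.AtPrime m)) := by
    refine ((IsLocalRing.local_hom_TFAE (algebraMap k (Localization.AtPrime m))).out 0 4).mpr ?_
    have h1 : (IsLocalRing.maximalIdeal (Localization.AtPrime m)).comap
        (algebraMap R (Localization.AtPrime m)) = m := Localization.AtPrime.comap_maximalIdeal
    rw [IsScalarTower.algebraMap_eq k R (Localization.AtPrime m), ← Ideal.comap_comap, h1, hm]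
  haveI : Algebra.FiniteType k m.ResidueField :=
    .of_surjective (IsScalarTower.toAlgHom k R m.ResidueField)
      (Ideal.algebraMap_residueField_surjective m)
  haveI : Algebra.FiniteType (IsLocalRing.ResidueField k) m.ResidueField :=
    .of_restrictScalars_finiteType k _ _
  haveI : Module.Finite (IsLocalRing.ResidueField k) m.ResidueField :=
    finite_of_finite_type_of_isJacobsonRing _ _
  haveI : Finite m.ResidueField := Module.finite_of_finite (IsLocalRing.ResidueField k)
  haveI : Algebra.FormallyUnramified (IsLocalRing.ResidueField k) m.ResidueField :=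
    .of_isSeparable _ _
  haveI : Algebra.FormallyUnramified k (IsLocalRing.ResidueField k) :=
    .of_surjective (Algebra.ofId _ _) IsLocalRing.residue_surjective
  haveI : Algebra.FormallyUnramified k m.ResidueField :=
    .comp k (IsLocalRing.ResidueField k) _
  have hA : ∀ v : m.ResidueField ⊗[R] Ω[R⁄k],
      ∃ z ∈ m, (1 : m.ResidueField) ⊗ₜ[R] D k R z = v := by
    intro v
    have hv : KaehlerDifferential.mapBaseChange k R m.ResidueField v = 0 := Subsingleton.elim _ _
    obtain ⟨c, rfl⟩ := (KaehlerDifferential.exact_kerCotangentToTensor_mapBaseChange k R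
      m.ResidueField (Ideal.algebraMap_residueField_surjective m) v).mp hv
    obtain ⟨z, rfl⟩ := Ideal.toCotangent_surjective _ c
    exact ⟨z.1, Ideal.algebraMap_residueField_eq_zero.mp (RingHom.mem_ker.mp z.2), rfl⟩
  have hfin : Module.finrank m.ResidueField (m.ResidueField ⊗[R] Ω[R⁄k]) = d := by
    letI := Ideal.Quotient.field m
    rw [← hdim, ← Module.finrank_baseChange (R := m.ResidueField) (S := R ⧸ m)]
    exact (TensorProduct.AlgebraTensorModule.cancelBaseChange R (R ⧸ m) m.ResidueField
      m.ResidueField Ω[R⁄k]).symm.finrank_eq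
  haveI : Module.Finite m.ResidueField (m.ResidueField ⊗[R] Ω[R⁄k]) :=
    Module.finite_of_finrank_pos (by rw [hfin]; exact hd)
  let b := Module.finBasisOfFinrankEq m.ResidueField (m.ResidueField ⊗[R] Ω[R⁄k]) hfin
  obtain ⟨θ, hθ⟩ := IsCyclic.exists_monoid_generator (α := m.ResidueFieldˣ)
  obtain ⟨t, ht⟩ := Ideal.algebraMap_residueField_surjective m (θ : m.ResidueField)
  choose z hzm hz using fun i => hA (b i)
  obtain ⟨z', hz'm, hz'⟩ := hA (- ((1 : m.ResidueField) ⊗ₜ[R] D k R t))
  let i0 : Fin d := ⟨0, hd⟩
  let x : Fin d → R := fun i => z i + (if i = i0 then t + z' else 0)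
  have hxD : ∀ i, (1 : m.ResidueField) ⊗ₜ[R] D k R (x i) = b i := by
    intro i
    simp only [x, map_add, TensorProduct.tmul_add, hz]
    split_ifs
    · rw [map_add, tmul_add, hz', add_neg_cancel, add_zero]
    · simp
  have hx0 : algebraMap R m.ResidueField (x i0) = θ := by
    simp [x, ht, Ideal.algebraMap_residueField_eq_zero.mpr (hzm i0),
      Ideal.algebraMap_residueField_eq_zero.mpr hz'm]
  refine exists_chart k R m x ?_ ?_
  · have h1 : (fun i => (1 : m.ResidueField) ⊗ₜ[R] D k R (x i)) = b := funext hxD
    rw [h1]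
    have h2 : ⇑(Finsupp.linearCombination m.ResidueField b) = b.repr.symm := by
      funext l; exact (b.repr_symm_apply l).symm
    rw [h2]; exact b.repr.symm.bijective
  · intro r
    by_cases hr : r ∈ m
    · exact ⟨0, by simpa using hr⟩
    · have hne : algebraMap R m.ResidueField r ≠ 0 := by
        rwa [Ne, Ideal.algebraMap_residueField_eq_zero]
      obtain ⟨n, hn⟩ := hθ (Units.mk0 _ hne)
      refine ⟨MvPolynomial.X i0 ^ n, ?_⟩
      rw [← Ideal.algebraMap_residueField_eq_zero (I := m), map_sub, map_pow, MvPolynomial.aeval_X,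
        map_pow, hx0, sub_eq_zero]
      have := congrArg Units.val hn
      simpa using this

end Groth.Agent.Lib.Helper8.EtChart
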