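import Mathlib
import Groth.Agent.Lib.Helper8.EtChart
set_option autoImplicit false
open TensorProduct KaehlerDifferential IsLocalRing

/-! Jacobian criterion for smoothness of quotients of smooth algebras, at a prime. -/

namespace Groth.Agent.Lib.Helper8.SmoothQuot

section Phi
variable (R : Type*) {A : Type*} [CommRing R] [CommRing A] [Algebra R A] (q : Ideal A) [q.IsPrime]

/-- `κ(q) ⊗_A Ω_{A/R} ≃ κ(q) ⊗_{A_q} Ω_{A_q/R}`. -/
noncomputable def kappaOmegaEquiv :
    q.ResidueField ⊗[A] Ω[A⁄R] ≃ₗ[q.ResidueField]
      q.ResidueField ⊗[Localization.AtPrime q] Ω[Localization.AtPrime q⁄R] :=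
  ((IsLocalizedModule.isBaseChange q.primeCompl (Localization.AtPrime q)
      (KaehlerDifferential.map R R A (Localization.AtPrime q))).comp
    (TensorProduct.isBaseChange (Localization.AtPrime q) Ω[Localization.AtPrime q⁄R]
      q.ResidueField)).equiv

lemma kappaOmegaEquiv_tmul_D (c : q.ResidueField) (x : A) :
    kappaOmegaEquiv R q (c ⊗ₜ[A] D R A x) =
      c ⊗ₜ[Localization.AtPrime q] D R (Localization.AtPrime q) (algebraMap A _ x) := by
  simp only [kappaOmegaEquiv, IsBaseChange.equiv_tmul, LinearMap.coe_comp,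
    LinearMap.coe_restrictScalars, Function.comp_apply, KaehlerDifferential.map_D,
    TensorProduct.mk_apply, TensorProduct.smul_tmul', smul_eq_mul, mul_one]

end Phi

section Local
variable {R T : Type*} [CommRing R] [CommRing T] [IsLocalRing T] [Algebra R T]

/-- If `T` and `T/J` are formally smooth over `R` (`T` local) and the `g i ∈ J` are linearly
independent modulo `𝔪 J`, then the `d(g i)` are linearly independent in `κ ⊗ Ω_{T/R}`. -/
theorem linearIndependent_of_formallySmooth_quotient
    (J : Ideal T) (hJ : J ≤ maximalIdeal T) [Algebra.FormallySmooth R T]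
    [Algebra.FormallySmooth R (T ⧸ J)]
    {ι : Type*} [Fintype ι] (g : ι → T) (hg : ∀ i, g i ∈ J)
    (hmin : ∀ t : ι → T, ∑ i, t i * g i ∈ maximalIdeal T * J → ∀ i, t i ∈ maximalIdeal T) :
    LinearIndependent (ResidueField T) (fun i => (1 : ResidueField T) ⊗ₜ[T] D R T (g i)) := by
  obtain ⟨l, hl⟩ := (Algebra.FormallySmooth.iff_split_injection (R := R) (P := T) (A := T ⧸ J)
    Ideal.Quotient.mk_surjective).mp inferInstance
  have hK : RingHom.ker (algebraMap T (T ⧸ J)) = J := by
    rw [Ideal.Quotient.algebraMap_eq, Ideal.mk_ker]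
  rw [Fintype.linearIndependent_iff]
  intro c hc i
  choose t ht using fun i => IsLocalRing.residue_surjective (c i)
  have hzJ : ∑ i, t i * g i ∈ J := Ideal.sum_mem _ fun i _ => Ideal.mul_mem_left _ _ (hg i)
  have hzK : ∑ i, t i * g i ∈ RingHom.ker (algebraMap T (T ⧸ J)) := by rw [hK]; exact hzJ
  -- `w = 1 ⊗ D z`
  have hw : kerCotangentToTensor R T (T ⧸ J) (Ideal.toCotangent _ ⟨_, hzK⟩) =
      ∑ i, t i • ((1 : T ⧸ J) ⊗ₜ[T] D R T (g i)) := by
    rw [kerCotangentToTensor_toCotangent]
    simp only [map_sum, Derivation.leibniz, TensorProduct.tmul_add, TensorProduct.tmul_sum,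
      Finset.sum_add_distrib]
    have h0 : ∀ i, (1 : T ⧸ J) ⊗ₜ[T] (g i • D R T (t i)) = 0 := by
      intro i
      rw [← TensorProduct.smul_tmul, Algebra.smul_def, mul_one, Ideal.Quotient.algebraMap_eq,
        Ideal.Quotient.eq_zero_iff_mem.mpr (hg i), TensorProduct.zero_tmul]
    simp only [h0, Finset.sum_const_zero, add_zero, TensorProduct.tmul_smul]
  have hw1 : (1 : ResidueField T) ⊗ₜ[T]
      (kerCotangentToTensor R T (T ⧸ J) (Ideal.toCotangent _ ⟨_, hzK⟩)) = 0 := by
    have h1 := congrArg ((TensorProduct.mk T (T ⧸ J) Ω[T⁄R] 1).baseChange (ResidueField T)) hc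
    rw [map_zero, map_sum] at h1
    rw [hw, TensorProduct.tmul_sum, ← h1]
    refine Finset.sum_congr rfl fun i _ => ?_
    rw [map_smul, LinearMap.baseChange_tmul, TensorProduct.mk_apply, TensorProduct.tmul_smul,
      ← ht i, TensorProduct.smul_tmul', TensorProduct.smul_tmul', smul_eq_mul, mul_one,
      Algebra.smul_def, mul_one]
    rfl
  have hw2 : kerCotangentToTensor R T (T ⧸ J) (Ideal.toCotangent _ ⟨_, hzK⟩) ∈
      maximalIdeal T • (⊤ : Submodule T ((T ⧸ J) ⊗[T] Ω[T⁄R])) := by
    rw [← LinearMap.ker_tensorProductMk]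
    exact hw1
  have hlw : Ideal.toCotangent _ ⟨_, hzK⟩ ∈ maximalIdeal T •
      (⊤ : Submodule T (RingHom.ker (algebraMap T (T ⧸ J))).Cotangent) := by
    have h1 : l (kerCotangentToTensor R T (T ⧸ J) (Ideal.toCotangent _ ⟨_, hzK⟩)) =
        Ideal.toCotangent _ ⟨_, hzK⟩ := LinearMap.congr_fun hl _
    rw [← h1]
    have h2 := Submodule.mem_map_of_mem (f := l) hw2
    rw [Submodule.map_smul''] at h2
    exact Submodule.smul_mono le_rfl le_top h2
  -- extract `z ∈ 𝔪 J`
  have hz : ∑ i, t i * g i ∈ maximalIdeal T * J := by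
    have h1 : (⊤ : Submodule T (RingHom.ker (algebraMap T (T ⧸ J))).Cotangent) =
        Submodule.map (Ideal.toCotangent _) ⊤ := by
      rw [Submodule.map_top, LinearMap.range_eq_top.mpr (Ideal.toCotangent_surjective _)]
    rw [h1, ← Submodule.map_smul''] at hlw
    obtain ⟨y, hy, hyz⟩ := hlw
    rw [Ideal.toCotangent_eq] at hyz
    have hy' : (y : T) ∈ maximalIdeal T * RingHom.ker (algebraMap T (T ⧸ J)) := by
      have := Submodule.mem_map_of_mem (f := Submodule.subtype _) hy
      rw [Submodule.map_smul'', Submodule.map_subtype_top, smul_eq_mul] at this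
      exact this
    have hsq : RingHom.ker (algebraMap T (T ⧸ J)) ^ 2 ≤
        maximalIdeal T * RingHom.ker (algebraMap T (T ⧸ J)) := by
      rw [pow_two]
      exact Ideal.mul_mono_left (hK.le.trans hJ)
    have hyz' : (y : T) - ∑ i, t i * g i ∈ RingHom.ker (algebraMap T (T ⧸ J)) ^ 2 := hyz
    have := Ideal.sub_mem _ hy' (hsq hyz')
    rw [sub_sub_cancel] at this
    rwa [hK] at this
  have := hmin t hz i
  rw [← ht i]
  exact (IsLocalRing.residue_eq_zero_iff _).mpr this


/-- Conversely, if the `d(g i)` are linearly independent in `κ ⊗ Ω_{T/R}` then `T/(g)` is formally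
smooth over `R`. -/
theorem formallySmooth_quotient_of_linearIndependent [Algebra.FormallySmooth R T]
    [Module.Finite T Ω[T⁄R]] {ι : Type*} [Fintype ι] (g : ι → T)
    (hli : LinearIndependent (ResidueField T)
      (fun i => (1 : ResidueField T) ⊗ₜ[T] D R T (g i))) :
    Algebra.FormallySmooth R (T ⧸ Ideal.span (Set.range g)) := by
  classical
  haveI : Module.Free T Ω[T⁄R] := Module.free_of_flat_of_isLocalRing
  let l₀ : (ι →₀ T) →ₗ[T] Ω[T⁄R] := Finsupp.linearCombination T (fun i => D R T (g i))
  have hinj : Function.Injective (l₀.lTensor (ResidueField T)) := by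
    have h1 : ⇑(l₀.lTensor (ResidueField T)) ∘
        ⇑(TensorProduct.finsuppScalarRight T (ResidueField T) (ResidueField T) ι).symm =
        ⇑(Finsupp.linearCombination (ResidueField T)
          (fun i => (1 : ResidueField T) ⊗ₜ[T] D R T (g i))) := by
      funext f
      induction f using Finsupp.induction_linear with
      | zero => simp
      | add f g hf hg =>
        simp only [Function.comp_apply, map_add] at hf hg ⊢
        rw [hf, hg]
      | single i c =>
        simp only [Function.comp_apply, TensorProduct.finsuppScalarRight_symm_apply_single,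
          LinearMap.lTensor_tmul, l₀, Finsupp.linearCombination_single, one_smul,
          TensorProduct.smul_tmul', smul_eq_mul, mul_one]
    have h2 : Function.Injective (⇑(l₀.lTensor (ResidueField T)) ∘
        ⇑(TensorProduct.finsuppScalarRight T (ResidueField T) (ResidueField T) ι).symm) := by
      rw [h1]; exact hli
    exact (Function.Injective.of_comp_iff' _ (LinearEquiv.bijective _)).mp h2
  obtain ⟨r, hr⟩ := (IsLocalRing.split_injective_iff_lTensor_residueField_injective l₀).mpr hinj
  have hrD : ∀ i, r (D R T (g i)) = Finsupp.single i 1 := by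
    intro i
    have := LinearMap.congr_fun hr (Finsupp.single i 1)
    simpa [l₀] using this
  have hK : RingHom.ker (algebraMap T (T ⧸ Ideal.span (Set.range g))) =
      Ideal.span (Set.range g) := by
    rw [Ideal.Quotient.algebraMap_eq, Ideal.mk_ker]
  have hgK : ∀ i, g i ∈ RingHom.ker (algebraMap T (T ⧸ Ideal.span (Set.range g))) := fun i => by
    rw [hK]; exact Ideal.subset_span ⟨i, rfl⟩
  let lam : (ι →₀ T) →ₗ[T]
      (RingHom.ker (algebraMap T (T ⧸ Ideal.span (Set.range g)))).Cotangent :=
    Finsupp.linearCombination T (fun i => Ideal.toCotangent _ ⟨g i, hgK i⟩)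
  let β : T →ₗ[T] (Ω[T⁄R] →ₗ[T]
      (RingHom.ker (algebraMap T (T ⧸ Ideal.span (Set.range g)))).Cotangent) :=
    (LinearMap.id : T →ₗ[T] T).smulRight (lam ∘ₗ r)
  have hβ : Ideal.span (Set.range g) ≤ LinearMap.ker β := by
    intro j hj
    rw [LinearMap.mem_ker]
    ext ω
    simp only [β, LinearMap.smulRight_apply, LinearMap.id_apply, LinearMap.smul_apply,
      LinearMap.zero_apply]
    exact Ideal.Cotangent.smul_eq_zero_of_mem (by rw [hK]; exact hj) _
  let l : (T ⧸ Ideal.span (Set.range g)) ⊗[T] Ω[T⁄R] →ₗ[T]
      (RingHom.ker (algebraMap T (T ⧸ Ideal.span (Set.range g)))).Cotangent :=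
    TensorProduct.lift (Submodule.liftQ (Ideal.span (Set.range g)) β hβ)
  have hl1 : ∀ ω, l ((1 : T ⧸ Ideal.span (Set.range g)) ⊗ₜ[T] ω) = lam (r ω) := by
    intro ω
    have h1 : (1 : T ⧸ Ideal.span (Set.range g)) = Submodule.Quotient.mk (1 : T) := rfl
    rw [TensorProduct.lift.tmul, h1, Submodule.liftQ_apply]
    simp [β]
  refine (Algebra.FormallySmooth.iff_split_injection (R := R) (P := T)
    (A := T ⧸ Ideal.span (Set.range g)) Ideal.Quotient.mk_surjective).mpr ⟨l, ?_⟩
  apply LinearMap.ext
  intro y
  obtain ⟨⟨z, hz⟩, rfl⟩ := Ideal.toCotangent_surjective _ y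
  rw [LinearMap.comp_apply, kerCotangentToTensor_toCotangent, hl1, LinearMap.id_apply]
  have hzJ : z ∈ Ideal.span (Set.range g) := by rw [← hK]; exact hz
  obtain ⟨t, rfl⟩ := (Ideal.mem_span_range_iff_exists_fun).mp hzJ
  have e1 : lam (r (D R T (∑ i, t i * g i))) = ∑ i, t i • Ideal.toCotangent _ ⟨g i, hgK i⟩ := by
    simp only [map_sum, Derivation.leibniz, map_add, map_smul, hrD]
    refine Finset.sum_congr rfl fun i _ => ?_
    rw [Ideal.Cotangent.smul_eq_zero_of_mem (hgK i), add_zero]
    simp [lam]
  have e2 : Ideal.toCotangent _ ⟨∑ i, t i * g i, hz⟩ =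
      ∑ i, t i • Ideal.toCotangent _ ⟨g i, hgK i⟩ := by
    simp only [← map_smul, ← map_sum]
    congr 1
    ext
    simp [Submodule.coe_sum]
  rw [e1, e2]

end Local


section Local2
universe u'
variable {R T : Type*} [CommRing R] [CommRing T] [IsLocalRing T] [Algebra R T]

/-- If the classes `1 ⊗ g i` are linearly independent in `κ ⊗ J`, then a relation
`∑ t i * g i ∈ 𝔪 J` forces all `t i ∈ 𝔪`. -/
theorem mem_maximalIdeal_of_sum_mem_mul (J : Ideal T) {ι : Type*} [Fintype ι] (g : ι → T)
    (hg : ∀ i, g i ∈ J)
    (hli : LinearIndependent (ResidueField T)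
      (fun i => (1 : ResidueField T) ⊗ₜ[T] (⟨g i, hg i⟩ : J)))
    (t : ι → T) (ht : ∑ i, t i * g i ∈ maximalIdeal T * J) (i : ι) : t i ∈ maximalIdeal T := by
  have hz : (∑ i, t i • (⟨g i, hg i⟩ : J)) ∈ maximalIdeal T • (⊤ : Submodule T J) := by
    rw [Submodule.mem_smul_top_iff]
    have h1 : ((∑ i, t i • (⟨g i, hg i⟩ : J) : J) : T) = ∑ i, t i * g i := by
      simp
    rw [h1]
    exact ht
  rw [← LinearMap.ker_tensorProductMk, LinearMap.mem_ker, TensorProduct.mk_apply,
    TensorProduct.tmul_sum] at hz
  have h2 : ∑ i, IsLocalRing.residue T (t i) •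
      ((1 : ResidueField T) ⊗ₜ[T] (⟨g i, hg i⟩ : J)) = 0 := by
    refine (Finset.sum_congr rfl fun i _ => ?_).trans hz
    rw [TensorProduct.tmul_smul, TensorProduct.smul_tmul', TensorProduct.smul_tmul', smul_eq_mul,
      mul_one, Algebra.smul_def, mul_one]
    rfl
  have := Fintype.linearIndependent_iff.mp hli _ h2 i
  exact (IsLocalRing.residue_eq_zero_iff _).mp this

/-- Combination: linear independence in `κ ⊗ J` implies linear independence of differentials. -/
theorem linearIndependent_D_of_linearIndependent_tmul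
    (J : Ideal T) (hJ : J ≤ maximalIdeal T) [Algebra.FormallySmooth R T]
    [Algebra.FormallySmooth R (T ⧸ J)]
    {ι : Type*} [Fintype ι] (g : ι → T) (hg : ∀ i, g i ∈ J)
    (hli : LinearIndependent (ResidueField T)
      (fun i => (1 : ResidueField T) ⊗ₜ[T] (⟨g i, hg i⟩ : J))) :
    LinearIndependent (ResidueField T) (fun i => (1 : ResidueField T) ⊗ₜ[T] D R T (g i)) :=
  linearIndependent_of_formallySmooth_quotient J hJ g hg
    (fun t ht i => mem_maximalIdeal_of_sum_mem_mul J g hg hli t ht i)

/-- From a generating family of a finitely generated ideal `J` of a local ring one can extract a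
finite subfamily that generates `J` and is a basis modulo `𝔪 J`. -/
theorem exists_subfamily_basis (J : Ideal T) (hJfg : J.FG) {ι : Type u'} (w : ι → T)
    (hw : ∀ i, w i ∈ J) (hspan : Ideal.span (Set.range w) = J) :
    ∃ (κ' : Type u') (a : κ' → ι), Finite κ' ∧ Function.Injective a ∧
      Ideal.span (Set.range (w ∘ a)) = J ∧
      LinearIndependent (ResidueField T)
        (fun i => (1 : ResidueField T) ⊗ₜ[T] (⟨w (a i), hw (a i)⟩ : J)) := by
  haveI : Module.Finite T J := Module.Finite.iff_fg.mpr hJfg
  let w' : ι → J := fun i => ⟨w i, hw i⟩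
  let v : ι → ResidueField T ⊗[T] J := fun i => 1 ⊗ₜ w' i
  have hw'top : Submodule.span T (Set.range w') = ⊤ := by
    apply Submodule.map_injective_of_injective (f := J.subtype) (Submodule.injective_subtype J)
    rw [Submodule.map_span, Submodule.map_top, Submodule.range_subtype, ← Set.range_comp]
    exact hspan
  have hvtop : Submodule.span (ResidueField T) (Set.range v) = ⊤ := by
    have h0 : (Submodule.span T (Set.range w')).map (TensorProduct.mk T (ResidueField T) J 1) = ⊤ :=
      IsLocalRing.map_tensorProduct_mk_eq_top.mpr hw'top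
    rw [Submodule.map_span, ← Set.range_comp, ← Submodule.restrictScalars_span T (ResidueField T)
      Ideal.Quotient.mk_surjective, Submodule.restrictScalars_eq_top_iff] at h0
    exact h0
  obtain ⟨κ', a, ha, hsp, hli⟩ := exists_linearIndependent' (ResidueField T) v
  rw [hvtop] at hsp
  let b : Module.Basis κ' (ResidueField T) (ResidueField T ⊗[T] J) := Module.Basis.mk hli hsp.ge
  haveI : Finite κ' := Module.Finite.finite_basis b
  refine ⟨κ', a, inferInstance, ha, ?_, hli⟩
  have h1 := IsLocalRing.span_eq_top_of_tmul_eq_basis (fun i => w' (a i)) b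
    (fun i => (Module.Basis.mk_apply hli hsp.ge i).symm)
  have h2 := congrArg (Submodule.map J.subtype) h1
  rw [Submodule.map_span, Submodule.map_top, Submodule.range_subtype, ← Set.range_comp] at h2
  exact h2

end Local2

section Main
variable (R : Type*) {A : Type*} [CommRing R] [CommRing A] [Algebra R A]

lemma algebraMapSubmonoid_primeCompl (I : Ideal A) (P : Ideal (A ⧸ I)) [P.IsPrime] :
    Algebra.algebraMapSubmonoid (A ⧸ I) (P.comap (Ideal.Quotient.mk I)).primeCompl =
      P.primeCompl := by
  ext x
  constructor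
  · rintro ⟨a, ha, rfl⟩
    exact ha
  · intro hx
    obtain ⟨a, rfl⟩ := Ideal.Quotient.mk_surjective x
    exact ⟨a, hx, rfl⟩

/-- `(A/I)_P ≃ A_q / I A_q` hence formal smoothness can be tested on either. -/
theorem formallySmooth_localization_quotient_iff (I : Ideal A) (P : Ideal (A ⧸ I)) [P.IsPrime] :
    Algebra.FormallySmooth R (Localization.AtPrime P) ↔
      Algebra.FormallySmooth R (Localization.AtPrime (P.comap (Ideal.Quotient.mk I)) ⧸
        I.map (algebraMap A (Localization.AtPrime (P.comap (Ideal.Quotient.mk I))))) := by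
  haveI : IsLocalization P.primeCompl (Localization.AtPrime (P.comap (Ideal.Quotient.mk I)) ⧸
        I.map (algebraMap A (Localization.AtPrime (P.comap (Ideal.Quotient.mk I))))) := by
    rw [← algebraMapSubmonoid_primeCompl]
    infer_instance
  haveI : IsScalarTower R (A ⧸ I) (Localization.AtPrime (P.comap (Ideal.Quotient.mk I)) ⧸
        I.map (algebraMap A (Localization.AtPrime (P.comap (Ideal.Quotient.mk I))))) :=
    IsScalarTower.of_algebraMap_eq fun r => by
      rw [IsScalarTower.algebraMap_apply R A (A ⧸ I), Ideal.Quotient.algebraMap_eq,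
        Ideal.Quotient.algebraMap_quotient_map_quotient,
        IsScalarTower.algebraMap_apply R (Localization.AtPrime (P.comap (Ideal.Quotient.mk I))) (_ ⧸ _),
        ← IsScalarTower.algebraMap_apply R A (Localization.AtPrime (P.comap (Ideal.Quotient.mk I)))]
      rfl
  exact Algebra.FormallySmooth.iff_of_equiv
    ((IsLocalization.algEquiv P.primeCompl (Localization.AtPrime P) _).restrictScalars R)

end Main


section Core
universe u
variable (R A : Type u) [CommRing R] [CommRing A] [IsNoetherianRing R] [Algebra R A]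
  [Algebra.Smooth R A]

theorem formallySmooth_quotient_localization_iff (I : Ideal A) (q : Ideal A) [q.IsPrime]
    (hIq : I ≤ q) :
    Algebra.FormallySmooth R (Localization.AtPrime q ⧸
        I.map (algebraMap A (Localization.AtPrime q))) ↔
      ∃ s : Finset A, (↑s : Set A) ⊆ (I : Set A) ∧
        Ideal.map (algebraMap A (Localization.AtPrime q)) I =
          Ideal.span ((algebraMap A (Localization.AtPrime q)) '' (↑s : Set A)) ∧
        LinearIndependent q.ResidueField
          (fun g : ↥s => (1 : q.ResidueField) ⊗ₜ[A] D R A (g : A)) := by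
  classical
  have hJ : I.map (algebraMap A (Localization.AtPrime q)) ≤
      maximalIdeal (Localization.AtPrime q) := by
    rw [← IsLocalization.AtPrime.map_eq_maximalIdeal q (Localization.AtPrime q)]
    exact Ideal.map_mono hIq
  haveI : IsNoetherianRing A := Algebra.FiniteType.isNoetherianRing R A
  haveI : IsNoetherianRing (Localization.AtPrime q) :=
    IsLocalization.isNoetherianRing q.primeCompl _ inferInstance
  constructor
  · intro hsm
    obtain ⟨κ', a, hfin, hinj, hsp, hli⟩ :=
      exists_subfamily_basis (I.map (algebraMap A (Localization.AtPrime q)))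
        (IsNoetherian.noetherian _) (fun x : I => algebraMap A (Localization.AtPrime q) x)
        (fun x => Ideal.mem_map_of_mem _ x.2) (by
          unfold Ideal.map
          congr 1
          ext y
          constructor
          · rintro ⟨⟨x, hx⟩, rfl⟩
            exact ⟨x, hx, rfl⟩
          · rintro ⟨x, hx, rfl⟩
            exact ⟨⟨x, hx⟩, rfl⟩)
    haveI := Fintype.ofFinite κ'
    have hD := linearIndependent_D_of_linearIndependent_tmul (R := R) _ hJ
      (fun i => algebraMap A (Localization.AtPrime q) (a i))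
      (fun i => Ideal.mem_map_of_mem _ (a i).2) hli
    have hD' : LinearIndependent q.ResidueField
        (fun i : κ' => (1 : q.ResidueField) ⊗ₜ[A] D R A (a i : A)) := by
      have h3 : (fun i : κ' => (1 : q.ResidueField) ⊗ₜ[A] D R A (a i : A)) =
          ⇑(kappaOmegaEquiv R q).symm.toLinearMap ∘
            (fun i => (1 : q.ResidueField) ⊗ₜ[Localization.AtPrime q]
              D R (Localization.AtPrime q) (algebraMap A (Localization.AtPrime q) (a i))) := by
        funext i
        simp only [Function.comp_apply, LinearEquiv.coe_coe]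
        rw [← kappaOmegaEquiv_tmul_D, LinearEquiv.symm_apply_apply]
      rw [h3]
      exact hD.map' _ (LinearEquiv.ker _)
    refine ⟨Finset.univ.image (fun i : κ' => (a i : A)), ?_, ?_, ?_⟩
    · intro x hx
      simp only [Finset.coe_image, Finset.coe_univ, Set.image_univ, Set.mem_range] at hx
      obtain ⟨i, rfl⟩ := hx
      exact (a i).2
    · rw [← hsp]
      congr 1
      ext y
      simp only [Finset.coe_image, Finset.coe_univ, Set.image_univ, Set.mem_range,
        Function.comp_apply, Set.mem_image, exists_exists_eq_and]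
    · have hmem : ∀ g : ↥(Finset.univ.image (fun i : κ' => (a i : A))), ∃ i : κ', (a i : A) = g :=
        fun g => by
          have := g.2
          simp only [Finset.mem_image, Finset.mem_univ, true_and] at this
          exact this
      choose e he using hmem
      have hinj' : Function.Injective e := fun g g' h => Subtype.ext (by rw [← he g, ← he g', h])
      have h5 := hD'.comp e hinj'
      have h6 : (fun g : ↥(Finset.univ.image (fun i : κ' => (a i : A))) =>
          (1 : q.ResidueField) ⊗ₜ[A] D R A (g : A)) =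
          (fun i : κ' => (1 : q.ResidueField) ⊗ₜ[A] D R A (a i : A)) ∘ e := by
        funext g
        simp only [Function.comp_apply, he]
      rw [h6]
      exact h5
  · rintro ⟨s, hsI, hspan, hli⟩
    have hrange : Set.range (fun x : ↥s => algebraMap A (Localization.AtPrime q) (x : A)) =
        algebraMap A (Localization.AtPrime q) '' (↑s : Set A) := by
      ext y
      constructor
      · rintro ⟨⟨x, hx⟩, rfl⟩
        exact ⟨x, hx, rfl⟩
      · rintro ⟨x, hx, rfl⟩
        exact ⟨⟨x, hx⟩, rfl⟩
    have h3 : (fun i : ↥s => (1 : q.ResidueField) ⊗ₜ[Localization.AtPrime q]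
        D R (Localization.AtPrime q) (algebraMap A (Localization.AtPrime q) (i : A))) =
        ⇑(kappaOmegaEquiv R q).toLinearMap ∘
          (fun g : ↥s => (1 : q.ResidueField) ⊗ₜ[A] D R A (g : A)) := by
      funext i
      exact (kappaOmegaEquiv_tmul_D R q 1 i).symm
    have h2 : LinearIndependent q.ResidueField (fun i : ↥s =>
        (1 : q.ResidueField) ⊗ₜ[Localization.AtPrime q]
        D R (Localization.AtPrime q) (algebraMap A (Localization.AtPrime q) (i : A))) := by
      rw [h3]
      exact hli.map' _ (LinearEquiv.ker _)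
    have h4 := formallySmooth_quotient_of_linearIndependent (R := R)
      (fun x : ↥s => algebraMap A (Localization.AtPrime q) (x : A)) h2
    rw [hrange, ← hspan] at h4
    exact h4

/-- SGA 1 II 4.10-type Jacobian criterion for quotients of smooth algebras. -/
theorem isSmoothAt_quotient_iff (I : Ideal A) (P : Ideal (A ⧸ I)) [P.IsPrime] :
    Algebra.IsSmoothAt R P ↔ ∃ s : Finset A, (↑s : Set A) ⊆ (I : Set A) ∧
      Ideal.map (algebraMap A (Localization.AtPrime (P.comap (Ideal.Quotient.mk I)))) I =
        Ideal.span ((algebraMap A (Localization.AtPrime (P.comap (Ideal.Quotient.mk I)))) ''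
          (↑s : Set A)) ∧
      LinearIndependent (P.comap (Ideal.Quotient.mk I)).ResidueField
        (fun g : ↥s => (1 : (P.comap (Ideal.Quotient.mk I)).ResidueField) ⊗ₜ[A]
          D R A (g : A)) := by
  have hIq : I ≤ P.comap (Ideal.Quotient.mk I) := fun x hx => by
    rw [Ideal.mem_comap, Ideal.Quotient.eq_zero_iff_mem.mpr hx]
    exact zero_mem _
  rw [Algebra.IsSmoothAt, formallySmooth_localization_quotient_iff R I P]
  exact formallySmooth_quotient_localization_iff R A I _ hIq

end Core

end Groth.Agent.Lib.Helper8.SmoothQuot
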