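import Mathlib
import Groth.Agent.Lib.Helper8.EtChart
import Groth.Agent.Lib.Helper8.SmoothQuot
set_option autoImplicit false
open TensorProduct KaehlerDifferential IsLocalRing

/-! Étale coordinates adapted to a smooth closed subscheme (affine, local form). -/

namespace Groth.Agent.Lib.Helper8.SmoothQuotChart

open Groth.Agent.Lib.Helper8.SmoothQuot Groth.Agent.Lib.Helper8.EtChart

section LinAlg

/-- Extend a linearly independent family to a basis using vectors from a spanning family. -/
theorem exists_extension_bijective {K V : Type*} [Field K] [AddCommGroup V] [Module K V]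
    [Module.Finite K V] {ι₁ : Type*} (u : ι₁ → V) (hu : LinearIndependent K u) {ι₀ : Type*}
    (c : ι₀ → V) (hc : Submodule.span K (Set.range c) = ⊤) :
    ∃ (m : ℕ) (a : Fin m → ι₀),
      Function.Bijective (Finsupp.linearCombination K (Sum.elim u (c ∘ a))) := by
  classical
  let W : Submodule K V := Submodule.span K (Set.range u)
  have hf : LinearIndependent K (fun i => (⟨u i, Submodule.subset_span ⟨i, rfl⟩⟩ : W)) :=
    linearIndependent_span hu
  let cq : ι₀ → V ⧸ W := fun i => W.mkQ (c i)
  have hcq : Submodule.span K (Set.range cq) = ⊤ := by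
    have := congrArg (Submodule.map W.mkQ) hc
    rw [Submodule.map_span, ← Set.range_comp, Submodule.map_top, Submodule.range_mkQ] at this
    exact this
  obtain ⟨κ', a', ha', hsp, hli⟩ := exists_linearIndependent' K cq
  rw [hcq] at hsp
  haveI : Finite κ' := Module.Finite.finite_basis (Module.Basis.mk hli hsp.ge)
  let e := Finite.equivFin κ'
  refine ⟨Nat.card κ', a' ∘ e.symm, ?_⟩
  have hli2 : LinearIndependent K (Submodule.Quotient.mk (p := W) ∘ (c ∘ (a' ∘ e.symm))) :=
    hli.comp e.symm e.symm.injective
  have hLI : LinearIndependent K (Sum.elim u (c ∘ (a' ∘ e.symm))) :=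
    LinearIndependent.sumElim_of_quotient hf (c ∘ (a' ∘ e.symm)) hli2
  refine ⟨hLI, ?_⟩
  rw [← LinearMap.range_eq_top, Finsupp.range_linearCombination, Set.Sum.elim_range,
    Submodule.span_union]
  show W ⊔ _ = ⊤
  rw [← Submodule.map_mkQ_eq_top, Submodule.map_span, ← Set.range_comp]
  have h1 : (⇑W.mkQ ∘ c ∘ a' ∘ ⇑e.symm) = (cq ∘ a') ∘ ⇑e.symm := rfl
  rw [h1, e.symm.surjective.range_comp]
  exact hsp

end LinAlg

section Ideals

lemma map_span_range {B S : Type*} [CommSemiring B] [CommSemiring S] [Algebra B S] {ι : Type*}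
    (g : ι → B) :
    (Ideal.span (Set.range g)).map (algebraMap B S) =
      Ideal.span (Set.range fun i => algebraMap B S (g i)) := by
  rw [Ideal.map_span, ← Set.range_comp]
  rfl

theorem exists_mul_mem_of_map_le {B : Type*} [CommRing B] (q : Ideal B) [q.IsPrime] (G J : Ideal B)
    (hJ : J.FG)
    (h : J.map (algebraMap B (Localization.AtPrime q)) ≤
      G.map (algebraMap B (Localization.AtPrime q))) :
    ∃ s : B, s ∉ q ∧ ∀ j ∈ J, s * j ∈ G := by
  classical
  obtain ⟨F, rfl⟩ := hJ
  have h1 : ∀ j ∈ F, ∃ s : B, s ∉ q ∧ s * j ∈ G := by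
    intro j hj
    have hj' : algebraMap B (Localization.AtPrime q) j ∈ G.map (algebraMap B _) :=
      h (Ideal.mem_map_of_mem _ (Ideal.subset_span hj))
    rw [IsLocalization.mem_map_algebraMap_iff q.primeCompl] at hj'
    obtain ⟨⟨x, z⟩, hxz⟩ := hj'
    rw [← map_mul, IsLocalization.eq_iff_exists q.primeCompl] at hxz
    obtain ⟨c, hc⟩ := hxz
    refine ⟨c * z, q.primeCompl.mul_mem c.2 z.2, ?_⟩
    have h2 : (c * z : B) * j = c * x := by
      rw [← hc]; ring
    rw [h2]
    exact G.mul_mem_left _ x.2
  choose! s hs1 hs2 using h1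
  refine ⟨∏ j ∈ F, s j, ?_, ?_⟩
  · intro hmem
    obtain ⟨j, hj, hjq⟩ := Ideal.IsPrime.prod_mem_iff.mp hmem
    exact hs1 j hj hjq
  · intro j hj
    refine Submodule.span_induction ?_ ?_ ?_ ?_ hj
    · intro x hx
      rw [← Finset.mul_prod_erase F s hx, mul_right_comm]
      exact G.mul_mem_right _ (hs2 x hx)
    · simp
    · intro x y _ _ hx hy
      rw [mul_add]
      exact G.add_mem hx hy
    · intro a x _ hx
      rw [smul_eq_mul, mul_left_comm]
      exact G.mul_mem_left _ hx

theorem exists_away_map_eq_span {B : Type*} [CommRing B] (J : Ideal B) (hJ : J.FG) (q : Ideal B)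
    [q.IsPrime] {ι : Type*} (g : ι → B) (hg : ∀ i, g i ∈ J)
    (hgen : J.map (algebraMap B (Localization.AtPrime q)) =
      Ideal.span (Set.range fun i => algebraMap B (Localization.AtPrime q) (g i))) :
    ∃ s : B, s ∉ q ∧ ∀ f : B, s ∣ f → J.map (algebraMap B (Localization.Away f)) =
      Ideal.span (Set.range fun i => algebraMap B (Localization.Away f) (g i)) := by
  obtain ⟨s, hs, hsJ⟩ := exists_mul_mem_of_map_le q (Ideal.span (Set.range g)) J hJ
    (by rw [hgen, map_span_range])
  refine ⟨s, hs, fun f hsf => ?_⟩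
  rw [← map_span_range]
  refine le_antisymm ?_ (Ideal.map_mono (Ideal.span_le.mpr (by rintro _ ⟨i, rfl⟩; exact hg i)))
  rw [Ideal.map_le_iff_le_comap]
  intro j hj
  rw [Ideal.mem_comap]
  have hu : IsUnit (algebraMap B (Localization.Away f) s) :=
    isUnit_of_dvd_unit (map_dvd _ hsf) (IsLocalization.Away.algebraMap_isUnit f)
  rw [← Ideal.unit_mul_mem_iff_mem _ hu, ← map_mul]
  exact Ideal.mem_map_of_mem _ (hsJ j hj)

end Ideals


section Chart

theorem formallySmooth_quotient_of_isSmoothAt (A : Type*) {B : Type*} [CommRing A] [CommRing B]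
    [Algebra A B] (J : Ideal B) (q : Ideal B) [q.IsPrime] (Q : Ideal (B ⧸ J)) [Q.IsPrime]
    (hQ : Q.comap (Ideal.Quotient.mk J) = q) [Algebra.IsSmoothAt A Q] :
    Algebra.FormallySmooth A (Localization.AtPrime q ⧸
      J.map (algebraMap B (Localization.AtPrime q))) := by
  subst hQ
  exact (formallySmooth_localization_quotient_iff A J Q).mp inferInstance

/-- Minimal generators at `q` of `J` with `B` and `B/J` smooth at `q` have linearly independent
differentials in `κ(q) ⊗ Ω_{B/A}`. -/
theorem linearIndependent_tmul_D_of_minimal_generators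
    (A B : Type*) [CommRing A] [CommRing B] [Algebra A B] (J : Ideal B) (hJ : J.FG)
    (q : Ideal B) [q.IsPrime] (hJq : J ≤ q)
    [Algebra.FormallySmooth A (Localization.AtPrime q)]
    [Algebra.FormallySmooth A (Localization.AtPrime q ⧸
      J.map (algebraMap B (Localization.AtPrime q)))]
    {r : ℕ} (g : Fin r → B) (hg : ∀ i, g i ∈ J)
    (hgen : J.map (algebraMap B (Localization.AtPrime q)) =
      Ideal.span (Set.range fun i => algebraMap B (Localization.AtPrime q) (g i)))
    (hmin : r = Module.finrank q.ResidueField (q.ResidueField ⊗[B] J)) :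
    LinearIndependent q.ResidueField (fun i => (1 : q.ResidueField) ⊗ₜ[B] D A B (g i)) := by
  classical
  let J'' : Ideal (Localization.AtPrime q) :=
    Submodule.localized' (Localization.AtPrime q) q.primeCompl
      (Algebra.linearMap B (Localization.AtPrime q)) J
  have hJ'' : J'' = J.map (algebraMap B (Localization.AtPrime q)) :=
    Ideal.localized'_eq_map (Localization.AtPrime q) q.primeCompl J
  haveI : Algebra.FormallySmooth A (Localization.AtPrime q ⧸ J'') := by
    rw [hJ'']; infer_instance
  have hJ''le : J'' ≤ maximalIdeal (Localization.AtPrime q) := by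
    rw [hJ'', ← IsLocalization.AtPrime.map_eq_maximalIdeal q (Localization.AtPrime q)]
    exact Ideal.map_mono hJq
  have hJ''fg : J''.FG := by
    rw [hJ'']; exact hJ.map _
  haveI : Module.Finite (Localization.AtPrime q) J'' := Module.Finite.iff_fg.mpr hJ''fg
  have hmem : ∀ i, algebraMap B (Localization.AtPrime q) (g i) ∈ J'' := fun i => by
    rw [hJ'']; exact Ideal.mem_map_of_mem _ (hg i)
  let g'' : Fin r → J'' := fun i => ⟨algebraMap B (Localization.AtPrime q) (g i), hmem i⟩
  have hg''top : Submodule.span (Localization.AtPrime q) (Set.range g'') = ⊤ := by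
    apply Submodule.map_injective_of_injective (f := J''.subtype) (Submodule.injective_subtype J'')
    rw [Submodule.map_span, Submodule.map_top, Submodule.range_subtype, ← Set.range_comp]
    exact hgen.symm.trans hJ''.symm
  have hvtop : Submodule.span q.ResidueField
      (Set.range fun i => (1 : q.ResidueField) ⊗ₜ[Localization.AtPrime q] g'' i) = ⊤ := by
    have h0 : (Submodule.span (Localization.AtPrime q) (Set.range g'')).map
        (TensorProduct.mk (Localization.AtPrime q) (ResidueField (Localization.AtPrime q)) J'' 1)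
        = ⊤ := IsLocalRing.map_tensorProduct_mk_eq_top.mpr hg''top
    rw [Submodule.map_span, ← Set.range_comp, ← Submodule.restrictScalars_span
      (Localization.AtPrime q) (ResidueField (Localization.AtPrime q))
      Ideal.Quotient.mk_surjective, Submodule.restrictScalars_eq_top_iff] at h0
    exact h0
  let Φ : q.ResidueField ⊗[B] J ≃ₗ[q.ResidueField]
      q.ResidueField ⊗[Localization.AtPrime q] J'' :=
    ((IsLocalizedModule.isBaseChange q.primeCompl (Localization.AtPrime q)
        (Submodule.toLocalized' (Localization.AtPrime q) q.primeCompl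
          (Algebra.linearMap B (Localization.AtPrime q)) J)).comp
      (TensorProduct.isBaseChange (Localization.AtPrime q) J'' q.ResidueField)).equiv
  have hfin : Module.finrank q.ResidueField (q.ResidueField ⊗[Localization.AtPrime q] J'') = r :=
    Φ.finrank_eq.symm.trans hmin.symm
  have hliT : LinearIndependent q.ResidueField
      (fun i => (1 : q.ResidueField) ⊗ₜ[Localization.AtPrime q] g'' i) :=
    linearIndependent_of_top_le_span_of_card_eq_finrank hvtop.ge (by rw [Fintype.card_fin, hfin])
  have hD := linearIndependent_D_of_linearIndependent_tmul (R := A) J'' hJ''le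
    (fun i => algebraMap B (Localization.AtPrime q) (g i)) hmem hliT
  have h3 : (fun i : Fin r => (1 : q.ResidueField) ⊗ₜ[B] D A B (g i)) =
      ⇑(kappaOmegaEquiv A q).symm.toLinearMap ∘
        (fun i => (1 : q.ResidueField) ⊗ₜ[Localization.AtPrime q]
          D A (Localization.AtPrime q) (algebraMap B (Localization.AtPrime q) (g i))) := by
    funext i
    simp only [Function.comp_apply, LinearEquiv.coe_coe]
    rw [← kappaOmegaEquiv_tmul_D, LinearEquiv.symm_apply_apply]
  rw [h3]
  exact hD.map' _ (LinearEquiv.ker _)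

/-- Étale chart at a prime from a family of functions whose differentials form a basis of
`κ(m) ⊗ Ω`. -/
theorem exists_etale_aeval (k R : Type*) [CommRing k] [CommRing R] [Algebra k R]
    [Algebra.FinitePresentation k R] (m : Ideal R) [m.IsPrime] [Algebra.IsSmoothAt k m]
    {ι : Type*} [Finite ι] (x : ι → R)
    (hx : Function.Bijective (Finsupp.linearCombination m.ResidueField
      (fun i => (1 : m.ResidueField) ⊗ₜ[R] D k R (x i)))) :
    ∃ f₁ : R, f₁ ∉ m ∧ ∀ f : R, f₁ ∣ f →
      (MvPolynomial.aeval (fun i => algebraMap R (Localization.Away f) (x i)) :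
        MvPolynomial ι k →ₐ[k] Localization.Away f).toRingHom.Etale := by
  letI : Algebra (MvPolynomial ι k) R := (MvPolynomial.aeval x).toRingHom.toAlgebra
  haveI : IsScalarTower k (MvPolynomial ι k) R :=
    .of_algebraMap_eq' (MvPolynomial.aeval x).comp_algebraMap.symm
  haveI : Algebra.FinitePresentation (MvPolynomial ι k) R :=
    .of_restrict_scalars_finitePresentation k _ _
  have hmap : ∀ p, algebraMap (MvPolynomial ι k) R p = MvPolynomial.aeval x p := fun _ => rfl
  haveI : Algebra.IsEtaleAt (MvPolynomial ι k) m := by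
    refine isEtaleAt_of_basis m (KaehlerDifferential.mvPolynomialBasis k ι) MvPolynomial.X
      (fun i => by simp) ?_
    simpa [hmap] using hx
  obtain ⟨f₁, hf₁, hget⟩ := Algebra.exists_etale_of_isEtaleAt (R := MvPolynomial ι k) m
  refine ⟨f₁, hf₁, fun f hf => ?_⟩
  have hsub : (↑(PrimeSpectrum.basicOpen f) : Set (PrimeSpectrum R)) ⊆
      Algebra.etaleLocus (MvPolynomial ι k) R := by
    obtain ⟨c, rfl⟩ := hf
    exact fun p hp => (Algebra.basicOpen_subset_etaleLocus_iff_etale.mpr hget)
      (PrimeSpectrum.basicOpen_mul_le_left f₁ c hp)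
  have hét : Algebra.Etale (MvPolynomial ι k) (Localization.Away f) :=
    Algebra.basicOpen_subset_etaleLocus_iff_etale.mp hsub
  have : (MvPolynomial.aeval (fun i => algebraMap R (Localization.Away f) (x i)) :
        MvPolynomial ι k →ₐ[k] Localization.Away f).toRingHom =
        algebraMap (MvPolynomial ι k) (Localization.Away f) := by
    refine RingHom.ext fun p => ?_
    rw [IsScalarTower.algebraMap_apply (MvPolynomial ι k) R (Localization.Away f), hmap]
    exact (MvPolynomial.comp_aeval_apply x (IsScalarTower.toAlgHom k R (Localization.Away f)) p).symm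
  rw [this, RingHom.etale_algebraMap]
  exact hét

/-- Étale coordinates adapted to a smooth closed subscheme (SGA 1 II 4.10 a ⇒ d, affine form). -/
theorem exists_etale_coordinates (A B : Type*) [CommRing A] [CommRing B]
    [Algebra A B] [Algebra.FinitePresentation A B] (J : Ideal B) (hJ : J.FG) (q : Ideal B)
    [q.IsPrime] (hJq : J ≤ q)
    [Algebra.IsSmoothAt A q] (Q : Ideal (B ⧸ J)) [Q.IsPrime]
    (hQ : Q.comap (Ideal.Quotient.mk J) = q)
    [Algebra.IsSmoothAt A Q] (r : ℕ) (g : Fin r → B) (hg : ∀ i, g i ∈ J)
    (hgen : J.map (algebraMap B (Localization.AtPrime q)) =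
      Ideal.span (Set.range fun i => algebraMap B (Localization.AtPrime q) (g i)))
    (hmin : r = Module.finrank q.ResidueField (q.ResidueField ⊗[B] J)) :
    ∃ (f : B) (_ : f ∉ q) (m : ℕ) (g' : Fin m → Localization.Away f),
      (MvPolynomial.aeval (Sum.elim (fun i => algebraMap B (Localization.Away f) (g i)) g') :
          MvPolynomial (Fin r ⊕ Fin m) A →ₐ[A] Localization.Away f).toRingHom.Etale ∧
      J.map (algebraMap B (Localization.Away f)) =
        Ideal.span (Set.range fun i => algebraMap B (Localization.Away f) (g i)) := by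
  haveI := formallySmooth_quotient_of_isSmoothAt A J q Q hQ
  have hD := linearIndependent_tmul_D_of_minimal_generators A B J hJ q hJq g hg hgen hmin
  have hc : Submodule.span q.ResidueField
      (Set.range fun b : B => (1 : q.ResidueField) ⊗ₜ[B] D A B b) = ⊤ := by
    have h1 := Submodule.baseChange_span (R := B) q.ResidueField (Set.range (D A B))
    rw [KaehlerDifferential.span_range_derivation, Submodule.baseChange_top,
      ← Set.range_comp] at h1
    exact h1.symm
  obtain ⟨m, a, hbij⟩ := exists_extension_bijective _ hD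
    (fun b : B => (1 : q.ResidueField) ⊗ₜ[B] D A B b) hc
  have hfun : (fun i => (1 : q.ResidueField) ⊗ₜ[B] D A B (Sum.elim g a i)) =
      Sum.elim (fun i => (1 : q.ResidueField) ⊗ₜ[B] D A B (g i))
        ((fun b : B => (1 : q.ResidueField) ⊗ₜ[B] D A B b) ∘ a) := by
    funext i
    cases i <;> rfl
  have hbij' : Function.Bijective (Finsupp.linearCombination q.ResidueField
      (fun i => (1 : q.ResidueField) ⊗ₜ[B] D A B (Sum.elim g a i))) := by
    rw [hfun]; exact hbij
  obtain ⟨f₁, hf₁, hét⟩ := exists_etale_aeval A B q (Sum.elim g a) hbij'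
  obtain ⟨s, hs, hsJ⟩ := exists_away_map_eq_span J hJ q g hg hgen
  refine ⟨f₁ * s, fun h => (Ideal.IsPrime.mem_or_mem ‹q.IsPrime› h).elim hf₁ hs, m,
    fun j => algebraMap B _ (a j), ?_, hsJ _ (Dvd.intro_left _ rfl)⟩
  have h5 := hét (f₁ * s) (Dvd.intro _ rfl)
  have hfun2 : (fun i => algebraMap B (Localization.Away (f₁ * s)) (Sum.elim g a i)) =
      Sum.elim (fun i => algebraMap B (Localization.Away (f₁ * s)) (g i))
        (fun j => algebraMap B (Localization.Away (f₁ * s)) (a j)) := by
    funext i
    cases i <;> rfl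
  rw [hfun2] at h5
  exact h5

end Chart

end Groth.Agent.Lib.Helper8.SmoothQuotChart
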