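import Mathlib
import Groth.Agent.Lib.Helper8.SmoothQuotChart
set_option autoImplicit false
open TensorProduct KaehlerDifferential IsLocalRing AlgebraicGeometry CategoryTheory

/-! Étale slices through a point with separable residue field of a smooth algebra
(affine form of EGA IV 17.16.3). -/

namespace Groth.Agent.Lib.Helper8.EtaleSlice
open Groth.Agent.Lib.Helper8.SmoothQuot Groth.Agent.Lib.Helper8.SmoothQuotChart
universe u

section SP
variable {R A : Type*} [CommRing R] [CommRing A] [Algebra R A]

/-- If `κ(q)` is formally unramified over `R`, every element of `κ(q) ⊗ Ω_{A/R}` is a multiple of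
the differential of an element of `q`. -/
theorem exists_smul_tmul_D_eq (q : Ideal A) [q.IsPrime]
    [Algebra.FormallyUnramified R q.ResidueField]
    (v : q.ResidueField ⊗[A] Ω[A⁄R]) :
    ∃ (c : q.ResidueField) (a : A), a ∈ q ∧ v = c • ((1 : q.ResidueField) ⊗ₜ[A] D R A a) := by
  have hsurj : Function.Surjective (algebraMap (Localization.AtPrime q) q.ResidueField) :=
    IsLocalRing.residue_surjective
  have hex := KaehlerDifferential.exact_kerCotangentToTensor_mapBaseChange R
    (Localization.AtPrime q) q.ResidueField hsurj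
  have h0 : KaehlerDifferential.mapBaseChange R (Localization.AtPrime q) q.ResidueField
      (kappaOmegaEquiv R q v) = 0 := Subsingleton.elim _ _
  obtain ⟨y, hy⟩ := (hex _).mp h0
  obtain ⟨⟨z, hz⟩, rfl⟩ := Ideal.toCotangent_surjective _ y
  rw [kerCotangentToTensor_toCotangent] at hy
  obtain ⟨a, s, hzas⟩ := IsLocalization.exists_mk'_eq q.primeCompl z
  have hz0 : algebraMap (Localization.AtPrime q) q.ResidueField z = 0 := RingHom.mem_ker.mp hz
  have hzm : z ∈ maximalIdeal (Localization.AtPrime q) :=
    (IsLocalRing.residue_eq_zero_iff z).mp hz0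
  have ha : a ∈ q := by
    rw [← hzas] at hzm
    exact (IsLocalization.AtPrime.mk'_mem_maximal_iff (Localization.AtPrime q) q a s).mp hzm
  have hs : algebraMap A q.ResidueField (s : A) ≠ 0 := fun h =>
    s.2 (Ideal.algebraMap_residueField_eq_zero.mp h)
  have hspec : algebraMap A (Localization.AtPrime q) s * z =
      algebraMap A (Localization.AtPrime q) a := by
    rw [← hzas]
    exact IsLocalization.mk'_spec' _ a s
  have hleib := (D R (Localization.AtPrime q)).leibniz (algebraMap A (Localization.AtPrime q) s) z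
  rw [hspec] at hleib
  have e1 : algebraMap A (Localization.AtPrime q) s •
      ((1 : q.ResidueField) ⊗ₜ[Localization.AtPrime q] D R (Localization.AtPrime q) z) =
      (algebraMap A q.ResidueField s) ⊗ₜ[Localization.AtPrime q]
        D R (Localization.AtPrime q) z := by
    rw [TensorProduct.smul_tmul', Algebra.smul_def, mul_one,
      ← IsScalarTower.algebraMap_apply A (Localization.AtPrime q) q.ResidueField]
  have e2 : z • ((1 : q.ResidueField) ⊗ₜ[Localization.AtPrime q]
      D R (Localization.AtPrime q) (algebraMap A (Localization.AtPrime q) s)) = 0 := by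
    rw [TensorProduct.smul_tmul', Algebra.smul_def, mul_one, hz0, TensorProduct.zero_tmul]
  have e3 : algebraMap A q.ResidueField s •
      ((1 : q.ResidueField) ⊗ₜ[Localization.AtPrime q] D R (Localization.AtPrime q) z) =
      (algebraMap A q.ResidueField s) ⊗ₜ[Localization.AtPrime q]
        D R (Localization.AtPrime q) z := by
    rw [TensorProduct.smul_tmul', smul_eq_mul, mul_one]
  have h1 : (1 : q.ResidueField) ⊗ₜ[Localization.AtPrime q]
      D R (Localization.AtPrime q) (algebraMap A (Localization.AtPrime q) a) =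
      algebraMap A q.ResidueField s •
        ((1 : q.ResidueField) ⊗ₜ[Localization.AtPrime q] D R (Localization.AtPrime q) z) := by
    rw [hleib, TensorProduct.tmul_add, TensorProduct.tmul_smul, TensorProduct.tmul_smul, e1, e2,
      add_zero, e3]
  refine ⟨(algebraMap A q.ResidueField s)⁻¹, a, ha, ?_⟩
  apply (kappaOmegaEquiv R q).injective
  rw [map_smul, kappaOmegaEquiv_tmul_D, h1, smul_smul, inv_mul_cancel₀ hs, one_smul]
  exact hy.symm

theorem span_tmul_D_eq_top (q : Ideal A) [q.IsPrime]
    [Algebra.FormallyUnramified R q.ResidueField] :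
    Submodule.span q.ResidueField
      (Set.range fun a : q => (1 : q.ResidueField) ⊗ₜ[A] D R A (a : A)) = ⊤ := by
  rw [eq_top_iff]
  intro v _
  obtain ⟨c, a, ha, rfl⟩ := exists_smul_tmul_D_eq (R := R) q v
  exact Submodule.smul_mem _ _ (Submodule.subset_span ⟨⟨a, ha⟩, rfl⟩)

/-- Transport of formal unramifiedness of the residue field along another model of the
localization. -/
theorem formallyUnramified_residueField_of_isLocalization (q : Ideal A) [q.IsPrime]
    (T : Type*) [CommRing T] [IsLocalRing T] [Algebra A T]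
    [Algebra R T] [IsScalarTower R A T] [IsLocalization.AtPrime T q]
    [Algebra.FormallyUnramified R (IsLocalRing.ResidueField T)] :
    Algebra.FormallyUnramified R q.ResidueField := by
  let e : T ≃ₐ[A] Localization.AtPrime q := IsLocalization.algEquiv q.primeCompl T _
  exact Algebra.FormallyUnramified.of_equiv
    (IsLocalRing.ResidueField.mapAlgEquiv (e.restrictScalars R))

end SP

section Quot
variable {R B : Type*} [CommRing R] [CommRing B] [Algebra R B] {σ : Type*}

theorem bijective_algebraMap_quotient_idealOfVars :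
    Function.Bijective
      (algebraMap R (MvPolynomial σ R ⧸ MvPolynomial.idealOfVars σ R)) := by
  constructor
  · rw [injective_iff_map_eq_zero]
    intro r hr
    have h1 : (MvPolynomial.C r : MvPolynomial σ R) ∈ MvPolynomial.idealOfVars σ R ^ 1 := by
      rw [pow_one]
      exact Ideal.Quotient.eq_zero_iff_mem.mp hr
    rcases (MvPolynomial.C_mem_pow_idealOfVars_iff 1 r).mp h1 with h | h
    · exact h
    · exact absurd h one_ne_zero
  · intro y
    obtain ⟨p, rfl⟩ := Ideal.Quotient.mk_surjective y
    refine ⟨MvPolynomial.constantCoeff p, ?_⟩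
    show Ideal.Quotient.mk _ (MvPolynomial.C (MvPolynomial.constantCoeff p)) =
      Ideal.Quotient.mk _ p
    rw [Ideal.Quotient.eq, ← pow_one (MvPolynomial.idealOfVars σ R),
      MvPolynomial.mem_pow_idealOfVars_iff']
    intro d hd
    have hd0 : d = 0 := (Finsupp.degree_eq_zero_iff d).mp (Nat.lt_one_iff.mp hd)
    subst hd0
    rw [MvPolynomial.coeff_sub, MvPolynomial.coeff_zero_C, MvPolynomial.constantCoeff_eq]
    exact sub_self _

theorem etale_quotient_map_idealOfVars [Algebra (MvPolynomial σ R) B]
    [IsScalarTower R (MvPolynomial σ R) B] [Algebra.Etale (MvPolynomial σ R) B] :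
    Algebra.Etale R
      (B ⧸ (MvPolynomial.idealOfVars σ R).map (algebraMap (MvPolynomial σ R) B)) := by
  haveI : Algebra.Etale R (MvPolynomial σ R ⧸ MvPolynomial.idealOfVars σ R) :=
    Algebra.Etale.of_equiv (AlgEquiv.ofBijective
      (Algebra.ofId R (MvPolynomial σ R ⧸ MvPolynomial.idealOfVars σ R))
      bijective_algebraMap_quotient_idealOfVars)
  haveI : Algebra.Etale (MvPolynomial σ R ⧸ MvPolynomial.idealOfVars σ R)
      (B ⧸ (MvPolynomial.idealOfVars σ R).map (algebraMap (MvPolynomial σ R) B)) :=
    Algebra.Etale.of_equiv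
      (A := (MvPolynomial σ R ⧸ MvPolynomial.idealOfVars σ R) ⊗[MvPolynomial σ R] B)
      (Algebra.TensorProduct.quotIdealMapEquivQuotTensor B (MvPolynomial.idealOfVars σ R)).symm
  haveI : IsScalarTower R (MvPolynomial σ R ⧸ MvPolynomial.idealOfVars σ R)
      (B ⧸ (MvPolynomial.idealOfVars σ R).map (algebraMap (MvPolynomial σ R) B)) := by
    refine IsScalarTower.of_algebraMap_eq (R := R)
      (S := MvPolynomial σ R ⧸ MvPolynomial.idealOfVars σ R)
      (A := B ⧸ (MvPolynomial.idealOfVars σ R).map (algebraMap (MvPolynomial σ R) B))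
      (fun r => ?_)
    show Ideal.Quotient.mk _ (algebraMap R B r) =
      Ideal.Quotient.mk _ (algebraMap (MvPolynomial σ R) B (algebraMap R (MvPolynomial σ R) r))
    rw [← IsScalarTower.algebraMap_apply R (MvPolynomial σ R) B]
  exact Algebra.Etale.comp R (MvPolynomial σ R ⧸ MvPolynomial.idealOfVars σ R) _

end Quot

section Main

/-- Étale slice through a prime with formally unramified residue field of a smooth algebra. -/
theorem exists_etale_slice {R A : Type u} [CommRing R] [CommRing A] [Algebra R A]
    [Algebra.FinitePresentation R A] (q : Ideal A) [q.IsPrime] [Algebra.IsSmoothAt R q]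
    [Algebra.FormallyUnramified R q.ResidueField] :
    ∃ (C : Type u) (_ : CommRing C) (φ : A →+* C),
      (φ.comp (algebraMap R A)).Etale ∧
      IsImmersion (Spec.map (CommRingCat.ofHom φ)) ∧
      ∃ Q₁ : Ideal C, Q₁.IsPrime ∧ Q₁.comap φ = q ∧
        ∀ Q : Ideal C, Q.IsPrime →
          Q.comap (φ.comp (algebraMap R A)) = q.comap (algebraMap R A) → Q = Q₁ := by
  classical
  obtain ⟨m, a, hbij⟩ := exists_extension_bijective (K := q.ResidueField)
    (V := q.ResidueField ⊗[A] Ω[A⁄R]) (fun e : Empty => e.elim) linearIndependent_empty_type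
    (fun a : q => (1 : q.ResidueField) ⊗ₜ[A] D R A (a : A)) (span_tmul_D_eq_top (R := R) q)
  let x : Empty ⊕ Fin m → A := Sum.elim (fun e => e.elim) (fun j => (a j : A))
  have hxq : ∀ i, x i ∈ q := by
    rintro (e | j)
    · exact e.elim
    · exact (a j).2
  have hfun : (fun i => (1 : q.ResidueField) ⊗ₜ[A] D R A (x i)) =
      Sum.elim (fun e : Empty => e.elim)
        ((fun a : q => (1 : q.ResidueField) ⊗ₜ[A] D R A (a : A)) ∘ a) := by
    funext i
    rcases i with e | j
    · exact e.elim
    · rfl
  have hbij' : Function.Bijective (Finsupp.linearCombination q.ResidueField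
      (fun i => (1 : q.ResidueField) ⊗ₜ[A] D R A (x i))) := by
    rw [hfun]; exact hbij
  obtain ⟨f₁, hf₁, hét⟩ := exists_etale_aeval R A q x hbij'
  have hét₁ := hét f₁ dvd_rfl
  letI algPB : Algebra (MvPolynomial (Empty ⊕ Fin m) R) (Localization.Away f₁) :=
    (MvPolynomial.aeval (fun i => algebraMap A (Localization.Away f₁) (x i)) :
      MvPolynomial (Empty ⊕ Fin m) R →ₐ[R] Localization.Away f₁).toRingHom.toAlgebra
  haveI : IsScalarTower R (MvPolynomial (Empty ⊕ Fin m) R) (Localization.Away f₁) :=
    .of_algebraMap_eq' (MvPolynomial.aeval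
      (fun i => algebraMap A (Localization.Away f₁) (x i))).comp_algebraMap.symm
  haveI : Algebra.Etale (MvPolynomial (Empty ⊕ Fin m) R) (Localization.Away f₁) := hét₁
  set J : Ideal (Localization.Away f₁) :=
    (MvPolynomial.idealOfVars (Empty ⊕ Fin m) R).map
      (algebraMap (MvPolynomial (Empty ⊕ Fin m) R) (Localization.Away f₁)) with hJ
  haveI hC₀ : Algebra.Etale R (Localization.Away f₁ ⧸ J) := etale_quotient_map_idealOfVars
  -- the map to the residue field
  have hf₁u : IsUnit (algebraMap A q.ResidueField f₁) :=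
    isUnit_iff_ne_zero.mpr (fun h => hf₁ (Ideal.algebraMap_residueField_eq_zero.mp h))
  let ψB : Localization.Away f₁ →+* q.ResidueField := IsLocalization.Away.lift f₁ hf₁u
  have hψB : ∀ a, ψB (algebraMap A _ a) = algebraMap A q.ResidueField a :=
    fun a => IsLocalization.Away.lift_eq f₁ hf₁u a
  have hJψ : ∀ b ∈ J, ψB b = 0 := by
    have hle : J ≤ RingHom.ker ψB := by
      rw [hJ, Ideal.map_le_iff_le_comap, Ideal.span_le]
      rintro _ ⟨i, rfl⟩
      show ψB (algebraMap (MvPolynomial (Empty ⊕ Fin m) R) (Localization.Away f₁)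
        (MvPolynomial.X i)) = 0
      have h2 : algebraMap (MvPolynomial (Empty ⊕ Fin m) R) (Localization.Away f₁)
          (MvPolynomial.X i) = algebraMap A (Localization.Away f₁) (x i) :=
        MvPolynomial.aeval_X _ i
      rw [h2, hψB]
      exact Ideal.algebraMap_residueField_eq_zero.mpr (hxq i)
    exact fun b hb => hle hb
  let ψ₀ : (Localization.Away f₁ ⧸ J) →+* q.ResidueField := Ideal.Quotient.lift J ψB hJψ
  have hψ₀ : ∀ a : A, ψ₀ (algebraMap A (Localization.Away f₁ ⧸ J) a) =
      algebraMap A q.ResidueField a := fun a => hψB a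
  set Q₀ : Ideal (Localization.Away f₁ ⧸ J) := RingHom.ker ψ₀ with hQ₀def
  haveI : Q₀.IsPrime := RingHom.ker_isPrime ψ₀
  have hQ₀ : Q₀.comap (algebraMap A (Localization.Away f₁ ⧸ J)) = q := by
    ext a
    rw [Ideal.mem_comap, hQ₀def, RingHom.mem_ker, hψ₀, Ideal.algebraMap_residueField_eq_zero]
  haveI : Q₀.LiesOver (q.under R) :=
    ⟨by rw [Ideal.under_def, Ideal.under_def,
      IsScalarTower.algebraMap_eq R A (Localization.Away f₁ ⧸ J), ← Ideal.comap_comap, hQ₀]⟩
  obtain ⟨s, hsQ₀, hs⟩ := Ideal.exists_not_mem_forall_mem_of_ne_of_liesOver (q.under R) Q₀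
  have hsu : IsUnit (ψ₀ s) := isUnit_iff_ne_zero.mpr (fun h => hsQ₀ (RingHom.mem_ker.mpr h))
  let ψ₁ : Localization.Away s →+* q.ResidueField := IsLocalization.Away.lift s hsu
  have hψ₁ : ∀ c, ψ₁ (algebraMap (Localization.Away f₁ ⧸ J) (Localization.Away s) c) = ψ₀ c :=
    fun c => IsLocalization.Away.lift_eq s hsu c
  let φ : A →+* Localization.Away s :=
    (algebraMap (Localization.Away f₁ ⧸ J) (Localization.Away s)).comp
      ((Ideal.Quotient.mk J).comp (algebraMap A (Localization.Away f₁)))
  have hφ : ∀ a, φ a = algebraMap (Localization.Away f₁ ⧸ J) (Localization.Away s)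
      (algebraMap A (Localization.Away f₁ ⧸ J) a) := fun a => rfl
  have hcomp : (algebraMap (Localization.Away f₁ ⧸ J) (Localization.Away s)).comp
      (algebraMap R (Localization.Away f₁ ⧸ J)) = φ.comp (algebraMap R A) := by
    refine RingHom.ext fun r => ?_
    show algebraMap (Localization.Away f₁ ⧸ J) (Localization.Away s)
        (algebraMap R (Localization.Away f₁ ⧸ J) r) =
      algebraMap (Localization.Away f₁ ⧸ J) (Localization.Away s)
        (algebraMap A (Localization.Away f₁ ⧸ J) (algebraMap R A r))
    rw [← IsScalarTower.algebraMap_apply R A (Localization.Away f₁ ⧸ J)]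
  refine ⟨Localization.Away s, inferInstance, φ, ?_, ?_, RingHom.ker ψ₁, RingHom.ker_isPrime ψ₁,
    ?_, ?_⟩
  · have e : φ.comp (algebraMap R A) = algebraMap R (Localization.Away s) := by
      rw [← hcomp]
      exact (IsScalarTower.algebraMap_eq R (Localization.Away f₁ ⧸ J) (Localization.Away s)).symm
    rw [e, RingHom.etale_algebraMap]
    infer_instance
  · have e : CommRingCat.ofHom φ = CommRingCat.ofHom (algebraMap A (Localization.Away f₁)) ≫
        CommRingCat.ofHom (Ideal.Quotient.mk J) ≫
        CommRingCat.ofHom (algebraMap (Localization.Away f₁ ⧸ J) (Localization.Away s)) := rfl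
    rw [e, Spec.map_comp, Spec.map_comp]
    haveI : IsOpenImmersion (Spec.map (CommRingCat.ofHom (algebraMap A (Localization.Away f₁)))) :=
      IsOpenImmersion.of_isLocalization f₁
    haveI : IsClosedImmersion (Spec.map (CommRingCat.ofHom (Ideal.Quotient.mk J))) :=
      IsClosedImmersion.spec_of_surjective _ Ideal.Quotient.mk_surjective
    haveI : IsOpenImmersion (Spec.map (CommRingCat.ofHom
        (algebraMap (Localization.Away f₁ ⧸ J) (Localization.Away s)))) :=
      IsOpenImmersion.of_isLocalization s
    infer_instance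
  · ext a
    rw [Ideal.mem_comap, RingHom.mem_ker, hφ, hψ₁, hψ₀, Ideal.algebraMap_residueField_eq_zero]
  · intro Q hQp hQ
    haveI := hQp
    have hQ' : Q.comap (algebraMap (Localization.Away f₁ ⧸ J) (Localization.Away s)) = Q₀ := by
      by_contra hne
      have hlo : (Q.comap (algebraMap (Localization.Away f₁ ⧸ J)
          (Localization.Away s))).LiesOver (q.under R) := ⟨by
        rw [Ideal.under_def, Ideal.under_def, Ideal.comap_comap, hcomp, hQ]⟩
      have hsQ := hs _ inferInstance hne hlo
      have hu : IsUnit (algebraMap (Localization.Away f₁ ⧸ J) (Localization.Away s) s) :=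
        IsLocalization.Away.algebraMap_isUnit s
      exact hQp.ne_top (Ideal.eq_top_of_isUnit_mem _ (Ideal.mem_comap.mp hsQ) hu)
    have hQ₁' : (RingHom.ker ψ₁).comap
        (algebraMap (Localization.Away f₁ ⧸ J) (Localization.Away s)) = Q₀ := by
      ext c
      rw [Ideal.mem_comap, RingHom.mem_ker, hψ₁, hQ₀def, RingHom.mem_ker]
    calc Q = (Q.comap (algebraMap (Localization.Away f₁ ⧸ J) (Localization.Away s))).map
          (algebraMap (Localization.Away f₁ ⧸ J) (Localization.Away s)) :=
        (IsLocalization.map_comap (Submonoid.powers s) _ Q).symm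
      _ = ((RingHom.ker ψ₁).comap
          (algebraMap (Localization.Away f₁ ⧸ J) (Localization.Away s))).map
          (algebraMap (Localization.Away f₁ ⧸ J) (Localization.Away s)) := by rw [hQ', hQ₁']
      _ = RingHom.ker ψ₁ := IsLocalization.map_comap (Submonoid.powers s) _ _

end Main

end Groth.Agent.Lib.Helper8.EtaleSlice
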