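import Mathlib
import Groth.Agent.Lib.Helper8.EtaleSlice
set_option autoImplicit false
open TensorProduct KaehlerDifferential IsLocalRing AlgebraicGeometry CategoryTheory

/-! A smooth algebra has, over any prime in the image, a point with formally unramified
(i.e. finite separable) residue field; consequently smooth morphisms have sections étale locally
(affine form of EGA IV 17.16.3 (ii)). -/

namespace Groth.Agent.Lib.Helper8.EtaleSection
open Groth.Agent.Lib.Helper8.SmoothQuot Groth.Agent.Lib.Helper8.SmoothQuotChart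
open Groth.Agent.Lib.Helper8.EtaleSlice
universe u

section Finite
variable {R A : Type*} [CommRing R] [CommRing A] [Algebra R A]

theorem exists_prime_formallyUnramified_of_finite [Algebra.FiniteType R A]
    (p : Ideal R) [p.IsPrime] [Finite (R ⧸ p)] (q₀ : Ideal A) [q₀.IsPrime]
    (hq₀ : q₀.comap (algebraMap R A) = p) :
    ∃ (q : Ideal A) (_ : q.IsPrime), q.comap (algebraMap R A) = p ∧
      Algebra.FormallyUnramified R q.ResidueField := by
  have hfield : IsField (R ⧸ p) := Finite.isField_of_domain (R ⧸ p)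
  haveI hpmax : p.IsMaximal := Ideal.Quotient.maximal_of_isField p hfield
  have hpA : p.map (algebraMap R A) ≠ ⊤ := fun h =>
    (‹q₀.IsPrime›).ne_top (top_le_iff.mp (h ▸ Ideal.map_le_iff_le_comap.mpr hq₀.ge))
  obtain ⟨q, hqmax, hq⟩ := Ideal.exists_le_maximal _ hpA
  haveI := hqmax
  have hqp : q.comap (algebraMap R A) = p :=
    (hpmax.eq_of_le (Ideal.comap_ne_top _ hqmax.ne_top) (Ideal.map_le_iff_le_comap.mp hq)).symm
  refine ⟨q, hqmax.isPrime, hqp, ?_⟩
  letI := Ideal.Quotient.field p
  have hsurj : Function.Surjective (algebraMap A q.ResidueField) :=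
    q.algebraMap_residueField_surjective
  have hker : ∀ r ∈ p, algebraMap R q.ResidueField r = 0 := by
    intro r hr
    rw [IsScalarTower.algebraMap_apply R A q.ResidueField, Ideal.algebraMap_residueField_eq_zero]
    rw [← hqp] at hr
    exact hr
  letI algkL : Algebra (R ⧸ p) q.ResidueField :=
    (Ideal.Quotient.lift p (algebraMap R q.ResidueField) hker).toAlgebra
  haveI : IsScalarTower R (R ⧸ p) q.ResidueField :=
    IsScalarTower.of_algebraMap_eq (fun _ => rfl)
  haveI : Algebra.FiniteType R q.ResidueField :=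
    Algebra.FiniteType.of_surjective (IsScalarTower.toAlgHom R A q.ResidueField) hsurj
  haveI : Algebra.FiniteType (R ⧸ p) q.ResidueField :=
    Algebra.FiniteType.of_restrictScalars_finiteType R (R ⧸ p) q.ResidueField
  haveI : Module.Finite (R ⧸ p) q.ResidueField :=
    finite_of_finite_type_of_isJacobsonRing (R ⧸ p) q.ResidueField
  haveI : Algebra.IsSeparable (R ⧸ p) q.ResidueField := inferInstance
  haveI : Algebra.FormallyUnramified (R ⧸ p) q.ResidueField :=
    Algebra.FormallyUnramified.of_isSeparable _ _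
  haveI : Algebra.FormallyUnramified R (R ⧸ p) :=
    Algebra.FormallyUnramified.of_surjective (Algebra.ofId R (R ⧸ p)) Ideal.Quotient.mk_surjective
  exact Algebra.FormallyUnramified.comp R (R ⧸ p) q.ResidueField

end Finite

section Infinite
variable {R A : Type u} [CommRing R] [CommRing A] [Algebra R A]

theorem exists_prime_formallyUnramified_of_infinite [Algebra.Smooth R A]
    (p : Ideal R) [p.IsPrime] [Infinite (R ⧸ p)] (q₀ : Ideal A) [q₀.IsPrime]
    (hq₀ : q₀.comap (algebraMap R A) = p) :
    ∃ (g : A) (q' : Ideal (Localization.Away g)) (_ : q'.IsPrime),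
      q'.comap (algebraMap R (Localization.Away g)) = p ∧
      Algebra.FormallyUnramified R q'.ResidueField := by
  classical
  haveI : Algebra.FormallySmooth A (Localization.AtPrime q₀) :=
    Algebra.FormallySmooth.of_isLocalization q₀.primeCompl
  haveI : Algebra.IsSmoothAt R q₀ := Algebra.FormallySmooth.comp R A (Localization.AtPrime q₀)
  have hc : Submodule.span q₀.ResidueField
      (Set.range fun b : A => (1 : q₀.ResidueField) ⊗ₜ[A] D R A b) = ⊤ := by
    have h1 := Submodule.baseChange_span (R := A) q₀.ResidueField (Set.range (D R A))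
    rw [KaehlerDifferential.span_range_derivation, Submodule.baseChange_top,
      ← Set.range_comp] at h1
    exact h1.symm
  obtain ⟨m, a, hbij⟩ := exists_extension_bijective (K := q₀.ResidueField)
    (V := q₀.ResidueField ⊗[A] Ω[A⁄R]) (fun e : Empty => e.elim) linearIndependent_empty_type
    (fun b : A => (1 : q₀.ResidueField) ⊗ₜ[A] D R A b) hc
  let x : Empty ⊕ Fin m → A := Sum.elim (fun e => e.elim) a
  have hfun : (fun i => (1 : q₀.ResidueField) ⊗ₜ[A] D R A (x i)) =
      Sum.elim (fun e : Empty => e.elim)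
        ((fun b : A => (1 : q₀.ResidueField) ⊗ₜ[A] D R A b) ∘ a) := by
    funext i
    rcases i with e | j
    · exact e.elim
    · rfl
  have hbij' : Function.Bijective (Finsupp.linearCombination q₀.ResidueField
      (fun i => (1 : q₀.ResidueField) ⊗ₜ[A] D R A (x i))) := by
    rw [hfun]; exact hbij
  obtain ⟨g, hg, hét⟩ := exists_etale_aeval R A q₀ x hbij'
  have hét₁ := hét g dvd_rfl
  letI algPB : Algebra (MvPolynomial (Empty ⊕ Fin m) R) (Localization.Away g) :=
    (MvPolynomial.aeval (fun i => algebraMap A (Localization.Away g) (x i)) :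
      MvPolynomial (Empty ⊕ Fin m) R →ₐ[R] Localization.Away g).toRingHom.toAlgebra
  haveI : IsScalarTower R (MvPolynomial (Empty ⊕ Fin m) R) (Localization.Away g) :=
    .of_algebraMap_eq' (MvPolynomial.aeval
      (fun i => algebraMap A (Localization.Away g) (x i))).comp_algebraMap.symm
  haveI : Algebra.Etale (MvPolynomial (Empty ⊕ Fin m) R) (Localization.Away g) := hét₁
  have hopen : IsOpenMap (PrimeSpectrum.comap
      (algebraMap (MvPolynomial (Empty ⊕ Fin m) R) (Localization.Away g))) :=
    PrimeSpectrum.isOpenMap_comap_of_hasGoingDown_of_finitePresentation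
  have hdisj : Disjoint (Submonoid.powers g : Set A) (q₀ : Set A) :=
    (Ideal.disjoint_powers_iff_notMem g (‹q₀.IsPrime›).isRadical).mpr hg
  let Q₀ : PrimeSpectrum (Localization.Away g) := ⟨q₀.map (algebraMap A (Localization.Away g)),
    IsLocalization.isPrime_of_isPrime_disjoint (Submonoid.powers g) _ q₀ ‹_› hdisj⟩
  have hQ₀c : Q₀.asIdeal.comap (algebraMap A (Localization.Away g)) = q₀ :=
    IsLocalization.comap_map_of_isPrime_disjoint (Submonoid.powers g) _ ‹_› hdisj
  set n₀ : PrimeSpectrum (MvPolynomial (Empty ⊕ Fin m) R) :=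
    PrimeSpectrum.comap (algebraMap (MvPolynomial (Empty ⊕ Fin m) R) (Localization.Away g)) Q₀
    with hn₀
  have hn₀U : n₀ ∈ Set.range (PrimeSpectrum.comap
      (algebraMap (MvPolynomial (Empty ⊕ Fin m) R) (Localization.Away g))) := ⟨Q₀, rfl⟩
  obtain ⟨_, ⟨h, rfl⟩, hn₀h, hhU⟩ :=
    PrimeSpectrum.isTopologicalBasis_basic_opens.exists_subset_of_mem_open hn₀U hopen.isOpen_range
  have hn₀p : n₀.asIdeal.comap (algebraMap R (MvPolynomial (Empty ⊕ Fin m) R)) = p := by
    show (Q₀.asIdeal.comap (algebraMap (MvPolynomial (Empty ⊕ Fin m) R)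
      (Localization.Away g))).comap (algebraMap R (MvPolynomial (Empty ⊕ Fin m) R)) = p
    rw [Ideal.comap_comap,
      ← IsScalarTower.algebraMap_eq R (MvPolynomial (Empty ⊕ Fin m) R) (Localization.Away g),
      IsScalarTower.algebraMap_eq R A (Localization.Away g), ← Ideal.comap_comap, hQ₀c, hq₀]
  have hhbar : MvPolynomial.map (Ideal.Quotient.mk p) h ≠ 0 := by
    intro h0
    have h1 : h ∈ RingHom.ker (MvPolynomial.map (Ideal.Quotient.mk p) :
        MvPolynomial (Empty ⊕ Fin m) R →+* MvPolynomial (Empty ⊕ Fin m) (R ⧸ p)) := h0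
    rw [MvPolynomial.ker_map, Ideal.mk_ker] at h1
    have h2 : Ideal.map (MvPolynomial.C : R →+* MvPolynomial (Empty ⊕ Fin m) R) p ≤
        n₀.asIdeal := by
      rw [Ideal.map_le_iff_le_comap]
      exact hn₀p.ge
    exact hn₀h (h2 h1)
  obtain ⟨cbar, hcbar⟩ : ∃ c : (Empty ⊕ Fin m) → R ⧸ p,
      MvPolynomial.eval c (MvPolynomial.map (Ideal.Quotient.mk p) h) ≠ 0 := by
    by_contra hcon
    push_neg at hcon
    exact hhbar (MvPolynomial.funext (fun c => by rw [hcon c, map_zero]))
  let c : (Empty ⊕ Fin m) → R := fun i => (Ideal.Quotient.mk_surjective (cbar i)).choose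
  have hc' : ∀ i, Ideal.Quotient.mk p (c i) = cbar i :=
    fun i => (Ideal.Quotient.mk_surjective (cbar i)).choose_spec
  let ev : MvPolynomial (Empty ⊕ Fin m) R →ₐ[R] R := MvPolynomial.aeval c
  have hev : Ideal.Quotient.mk p (ev h) =
      MvPolynomial.eval cbar (MvPolynomial.map (Ideal.Quotient.mk p) h) := by
    have hfun' : (Ideal.Quotient.mk p) ∘ c = cbar := funext hc'
    show Ideal.Quotient.mk p (MvPolynomial.aeval c h) = _
    rw [MvPolynomial.eval_map, MvPolynomial.aeval_def, MvPolynomial.eval₂_comp_left, hfun',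
      Algebra.algebraMap_self, RingHom.comp_id]
  set 𝔫 : Ideal (MvPolynomial (Empty ⊕ Fin m) R) :=
    p.comap (ev : MvPolynomial (Empty ⊕ Fin m) R →+* R) with h𝔫
  haveI : 𝔫.IsPrime := Ideal.comap_isPrime _ _
  have hhn : h ∉ 𝔫 := fun hmem => hcbar (by
    rw [← hev]
    exact Ideal.Quotient.eq_zero_iff_mem.mpr hmem)
  obtain ⟨Q', hQ'⟩ := hhU (show (⟨𝔫, inferInstance⟩ : PrimeSpectrum _) ∈
    (PrimeSpectrum.basicOpen h : Set _) from hhn)
  have hQ'n : Q'.asIdeal.comap
      (algebraMap (MvPolynomial (Empty ⊕ Fin m) R) (Localization.Away g)) = 𝔫 :=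
    congrArg PrimeSpectrum.asIdeal hQ'
  have hevC : (ev : MvPolynomial (Empty ⊕ Fin m) R →+* R).comp
      (algebraMap R (MvPolynomial (Empty ⊕ Fin m) R)) = RingHom.id R := by
    refine RingHom.ext fun r => ?_
    show ev (algebraMap R _ r) = r
    rw [AlgHom.commutes]
    rfl
  refine ⟨g, Q'.asIdeal, Q'.isPrime, ?_, ?_⟩
  · rw [IsScalarTower.algebraMap_eq R (MvPolynomial (Empty ⊕ Fin m) R) (Localization.Away g),
      ← Ideal.comap_comap, hQ'n, h𝔫, Ideal.comap_comap, hevC, Ideal.comap_id]
  · letI algPR : Algebra (MvPolynomial (Empty ⊕ Fin m) R) R :=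
      (ev : MvPolynomial (Empty ⊕ Fin m) R →+* R).toAlgebra
    have hker : ∀ pol : MvPolynomial (Empty ⊕ Fin m) R, pol ∈ 𝔫 →
        algebraMap (MvPolynomial (Empty ⊕ Fin m) R) Q'.asIdeal.ResidueField pol = 0 := by
      intro pol hpol
      rw [IsScalarTower.algebraMap_apply (MvPolynomial (Empty ⊕ Fin m) R) (Localization.Away g)
        Q'.asIdeal.ResidueField, Ideal.algebraMap_residueField_eq_zero]
      rw [← hQ'n] at hpol
      exact hpol
    have hX : ∀ i, algebraMap (MvPolynomial (Empty ⊕ Fin m) R) Q'.asIdeal.ResidueField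
        (MvPolynomial.X i) = algebraMap R Q'.asIdeal.ResidueField (c i) := by
      intro i
      have h1 : (MvPolynomial.X i - MvPolynomial.C (c i) : MvPolynomial (Empty ⊕ Fin m) R) ∈ 𝔫 := by
        show ev (MvPolynomial.X i - MvPolynomial.C (c i)) ∈ p
        have : ev (MvPolynomial.X i - MvPolynomial.C (c i)) = 0 := by
          show MvPolynomial.aeval c (MvPolynomial.X i - MvPolynomial.C (c i)) = 0
          rw [map_sub, MvPolynomial.aeval_X, MvPolynomial.aeval_C]
          exact sub_self _
        rw [this]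
        exact zero_mem _
      have h2 := hker _ h1
      rw [map_sub, sub_eq_zero] at h2
      rw [h2, IsScalarTower.algebraMap_apply R (MvPolynomial (Empty ⊕ Fin m) R)
        Q'.asIdeal.ResidueField]
      rfl
    haveI : IsScalarTower (MvPolynomial (Empty ⊕ Fin m) R) R Q'.asIdeal.ResidueField := by
      refine IsScalarTower.of_algebraMap_eq (fun pol => ?_)
      have hF : IsScalarTower.toAlgHom R (MvPolynomial (Empty ⊕ Fin m) R)
          Q'.asIdeal.ResidueField = (Algebra.ofId R Q'.asIdeal.ResidueField).comp ev :=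
        MvPolynomial.algHom_ext (fun i => by
          show algebraMap (MvPolynomial (Empty ⊕ Fin m) R) Q'.asIdeal.ResidueField
            (MvPolynomial.X i) = algebraMap R Q'.asIdeal.ResidueField
              (MvPolynomial.aeval c (MvPolynomial.X i))
          rw [MvPolynomial.aeval_X, hX])
      exact DFunLike.congr_fun hF pol
    haveI : Algebra.FormallyUnramified (Localization.Away g) Q'.asIdeal.ResidueField :=
      Algebra.FormallyUnramified.comp (Localization.Away g) (Localization.AtPrime Q'.asIdeal)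
        Q'.asIdeal.ResidueField
    haveI : Algebra.FormallyUnramified (MvPolynomial (Empty ⊕ Fin m) R)
        Q'.asIdeal.ResidueField :=
      Algebra.FormallyUnramified.comp (MvPolynomial (Empty ⊕ Fin m) R) (Localization.Away g)
        Q'.asIdeal.ResidueField
    exact Algebra.FormallyUnramified.of_restrictScalars (MvPolynomial (Empty ⊕ Fin m) R) R
      Q'.asIdeal.ResidueField

end Infinite

section Main
variable {R A : Type u} [CommRing R] [CommRing A] [Algebra R A]

/-- Affine form of: a smooth morphism has sections étale locally. -/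
theorem exists_etale_section_ring [Algebra.Smooth R A]
    (p : Ideal R) [p.IsPrime] (q₀ : Ideal A) [q₀.IsPrime]
    (hq₀ : q₀.comap (algebraMap R A) = p) :
    ∃ (C : Type u) (_ : CommRing C) (ψ : A →+* C), (ψ.comp (algebraMap R A)).Etale ∧
      ∃ Q₁ : Ideal C, Q₁.IsPrime ∧ Q₁.comap (ψ.comp (algebraMap R A)) = p := by
  by_cases hfin : Finite (R ⧸ p)
  · obtain ⟨q, hqp, hqo, hqu⟩ := exists_prime_formallyUnramified_of_finite p q₀ hq₀
    haveI : Algebra.FormallySmooth A (Localization.AtPrime q) :=
      Algebra.FormallySmooth.of_isLocalization q.primeCompl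
    haveI : Algebra.IsSmoothAt R q := Algebra.FormallySmooth.comp R A (Localization.AtPrime q)
    obtain ⟨C, instC, φ, hφet, -, Q₁, hQ₁p, hQ₁q, -⟩ := exists_etale_slice (R := R) (A := A) q
    exact ⟨C, instC, φ, hφet, Q₁, hQ₁p, by rw [← Ideal.comap_comap, hQ₁q, hqo]⟩
  · haveI : Infinite (R ⧸ p) := not_finite_iff_infinite.mp hfin
    obtain ⟨g, q', hq'p, hq'o, hq'u⟩ := exists_prime_formallyUnramified_of_infinite p q₀ hq₀
    haveI : Algebra.Smooth A (Localization.Away g) := inferInstance
    haveI : Algebra.Smooth R (Localization.Away g) := Algebra.Smooth.comp R A (Localization.Away g)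
    haveI : Algebra.FormallySmooth (Localization.Away g) (Localization.AtPrime q') :=
      Algebra.FormallySmooth.of_isLocalization q'.primeCompl
    haveI : Algebra.IsSmoothAt R q' :=
      Algebra.FormallySmooth.comp R (Localization.Away g) (Localization.AtPrime q')
    obtain ⟨C, instC, φ, hφet, -, Q₁, hQ₁p, hQ₁q, -⟩ :=
      exists_etale_slice (R := R) (A := Localization.Away g) q'
    refine ⟨C, instC, φ.comp (algebraMap A (Localization.Away g)), ?_, Q₁, hQ₁p, ?_⟩
    · rw [RingHom.comp_assoc, ← IsScalarTower.algebraMap_eq R A (Localization.Away g)]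
      exact hφet
    · rw [RingHom.comp_assoc, ← IsScalarTower.algebraMap_eq R A (Localization.Away g),
        ← Ideal.comap_comap, hQ₁q, hq'o]

end Main

end Groth.Agent.Lib.Helper8.EtaleSection
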