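import Mathlib

/-!
# Affine charts on which a morphism étale near a point is étale
-/

set_option autoImplicit false
open CategoryTheory CategoryTheory.Limits AlgebraicGeometry Opposite
universe u

namespace Groth.Agent.Lib.Helper8.EtaleAffineNhd

/-- If `f` is étale near `x`, there are affine opens `V ∋ x`, `W ∋ f x` with `V ≤ f⁻¹ W` and
`f.appLE W V` étale. -/
theorem exists_affine_etale_appLE {X Y : Scheme.{u}} (f : X ⟶ Y) (x : X)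
    (hf : ∃ U : X.Opens, x ∈ U ∧ Etale (U.ι ≫ f)) :
    ∃ (W : Y.Opens) (V : X.Opens) (_ : IsAffineOpen W) (_ : IsAffineOpen V) (hVW : V ≤ f ⁻¹ᵁ W),
      x ∈ V ∧ (f.appLE W V hVW).hom.Etale := by
  obtain ⟨U, hxU, hU⟩ := hf
  obtain ⟨_, ⟨W, hW, rfl⟩, hsW, -⟩ :=
    Y.isBasis_affineOpens.exists_subset_of_mem_open (Set.mem_univ (f.base x)) isOpen_univ
  obtain ⟨_, ⟨V', hV', rfl⟩, hxV', hV'W⟩ :=
    (U : Scheme).isBasis_affineOpens.exists_subset_of_mem_open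
      (show (⟨x, hxU⟩ : U) ∈ ((U.ι ≫ f) ⁻¹ᵁ W : Set U) from hsW) ((U.ι ≫ f) ⁻¹ᵁ W).2
  replace hV'W : V' ≤ (U.ι ≫ f) ⁻¹ᵁ W := hV'W
  have hV : IsAffineOpen (U.ι ''ᵁ V') := hV'.image_of_isOpenImmersion U.ι
  have hxV : x ∈ U.ι ''ᵁ V' := ⟨⟨x, hxU⟩, hxV', rfl⟩
  have hVW : U.ι ''ᵁ V' ≤ f ⁻¹ᵁ W := by
    rintro _ ⟨z, hz, rfl⟩
    exact hV'W hz
  refine ⟨W, U.ι ''ᵁ V', hW, hV, hVW, hxV, ?_⟩
  have := HasRingHomProperty.appLE @Etale (U.ι ≫ f) hU ⟨W, hW⟩ ⟨V', hV'⟩ hV'W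
  have heq : (U.ι ≫ f).appLE W V' hV'W = f.appLE W (U.ι ''ᵁ V') hVW := by
    have e2 : V' ≤ U.ι ⁻¹ᵁ (f ⁻¹ᵁ W) := hV'W
    rw [← Scheme.Hom.appLE_comp_appLE U.ι f W (f ⁻¹ᵁ W) V' le_rfl e2, Scheme.Opens.ι_appLE]
    exact Scheme.Hom.appLE_map f le_rfl _
  rw [← heq]
  exact this

/-- If `f` is formally unramified near `x`, there are affine opens `V ∋ x`, `W ∋ f x` with
`V ≤ f⁻¹ W` and `f.appLE W V` formally unramified. -/
theorem exists_affine_unramified_appLE {X Y : Scheme.{u}} (f : X ⟶ Y) (x : X)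
    (hf : ∃ U : X.Opens, x ∈ U ∧ FormallyUnramified (U.ι ≫ f)) :
    ∃ (W : Y.Opens) (V : X.Opens) (_ : IsAffineOpen W) (_ : IsAffineOpen V) (hVW : V ≤ f ⁻¹ᵁ W),
      x ∈ V ∧ (f.appLE W V hVW).hom.FormallyUnramified := by
  obtain ⟨U, hxU, hU⟩ := hf
  obtain ⟨_, ⟨W, hW, rfl⟩, hsW, -⟩ :=
    Y.isBasis_affineOpens.exists_subset_of_mem_open (Set.mem_univ (f.base x)) isOpen_univ
  obtain ⟨_, ⟨V', hV', rfl⟩, hxV', hV'W⟩ :=
    (U : Scheme).isBasis_affineOpens.exists_subset_of_mem_open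
      (show (⟨x, hxU⟩ : U) ∈ ((U.ι ≫ f) ⁻¹ᵁ W : Set U) from hsW) ((U.ι ≫ f) ⁻¹ᵁ W).2
  replace hV'W : V' ≤ (U.ι ≫ f) ⁻¹ᵁ W := hV'W
  have hV : IsAffineOpen (U.ι ''ᵁ V') := hV'.image_of_isOpenImmersion U.ι
  have hxV : x ∈ U.ι ''ᵁ V' := ⟨⟨x, hxU⟩, hxV', rfl⟩
  have hVW : U.ι ''ᵁ V' ≤ f ⁻¹ᵁ W := by
    rintro _ ⟨z, hz, rfl⟩
    exact hV'W hz
  refine ⟨W, U.ι ''ᵁ V', hW, hV, hVW, hxV, ?_⟩
  have := HasRingHomProperty.appLE @FormallyUnramified (U.ι ≫ f) hU ⟨W, hW⟩ ⟨V', hV'⟩ hV'W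
  have heq : (U.ι ≫ f).appLE W V' hV'W = f.appLE W (U.ι ''ᵁ V') hVW := by
    have e2 : V' ≤ U.ι ⁻¹ᵁ (f ⁻¹ᵁ W) := hV'W
    rw [← Scheme.Hom.appLE_comp_appLE U.ι f W (f ⁻¹ᵁ W) V' le_rfl e2, Scheme.Opens.ι_appLE]
    exact Scheme.Hom.appLE_map f le_rfl _
  rw [← heq]
  exact this

/-- Membership in a basic open of an affine open in terms of `primeIdealOf`. -/
theorem mem_basicOpen_iff_notMem_primeIdealOf {Y : Scheme.{u}} {W : Y.Opens} (hW : IsAffineOpen W)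
    (f : Γ(Y, W)) (y : Y) (hy : y ∈ W) :
    y ∈ Y.basicOpen f ↔ f ∉ (hW.primeIdealOf ⟨y, hy⟩).asIdeal := by
  rw [Y.mem_basicOpen f y hy, hW.primeIdealOf_eq_map_closedPoint ⟨y, hy⟩]
  constructor
  · intro hu hmem
    exact (IsLocalRing.mem_maximalIdeal _).mp hmem hu
  · intro h
    by_contra hnu
    exact h ((IsLocalRing.mem_maximalIdeal _).mpr hnu)

/-- appLE to a basic open of an affine open is étale if the localization is. -/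
theorem etale_appLE_basicOpen {Y S : Scheme.{u}} (h : Y ⟶ S) (U : S.Opens) (W : Y.Opens)
    (hW : IsAffineOpen W) (hWU : W ≤ h ⁻¹ᵁ U) (f : Γ(Y, W))
    (het : letI := (h.appLE U W hWU).hom.toAlgebra; Algebra.Etale Γ(S, U) (Localization.Away f))
    (W2 : Y.Opens) (hW2 : W2 = Y.basicOpen f) (e : W2 ≤ h ⁻¹ᵁ U) :
    (h.appLE U W2 e).hom.Etale := by
  subst hW2
  have h1 : h.appLE U (Y.basicOpen f) e =
      h.appLE U W hWU ≫ Y.presheaf.map (homOfLE (Y.basicOpen_le f)).op := by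
    rw [Scheme.Hom.appLE_map]
  rw [h1]
  letI := (h.appLE U W hWU).hom.toAlgebra
  haveI := hW.isLocalization_basicOpen f
  letI : Algebra Γ(S, U) Γ(Y, Y.basicOpen f) :=
    ((h.appLE U W hWU ≫ Y.presheaf.map (homOfLE (Y.basicOpen_le f)).op).hom).toAlgebra
  haveI : IsScalarTower Γ(S, U) Γ(Y, W) Γ(Y, Y.basicOpen f) :=
    IsScalarTower.of_algebraMap_eq (fun a => rfl)
  let e1 : Localization.Away f ≃ₐ[Γ(Y, W)] Γ(Y, Y.basicOpen f) :=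
    IsLocalization.algEquiv (Submonoid.powers f) _ _
  have : Algebra.Etale Γ(S, U) Γ(Y, Y.basicOpen f) :=
    Algebra.Etale.of_equiv (e1.restrictScalars Γ(S, U))
  exact RingHom.etale_algebraMap.mpr this

/-- If `Γ(Y, W)[1/f]` is étale over `Γ(S, U)`, then `h` is étale on the basic open `D(f)`. -/
theorem etale_basicOpen_ι_comp {Y S : Scheme.{u}} (h : Y ⟶ S) (U : S.Opens) (hU : IsAffineOpen U)
    (W : Y.Opens) (hW : IsAffineOpen W) (hWU : W ≤ h ⁻¹ᵁ U) (f : Γ(Y, W))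
    (het : letI := (h.appLE U W hWU).hom.toAlgebra; Algebra.Etale Γ(S, U) (Localization.Away f)) :
    Etale ((Y.basicOpen f).ι ≫ h) := by
  have hsrc : RingHom.StableUnderCompositionWithLocalizationAwaySource RingHom.Etale := by
    intro R S T _ _ _ _ r _ g hg
    refine RingHom.Etale.stableUnderComposition _ _ ?_ hg
    show (algebraMap R S).Etale
    rw [RingHom.etale_algebraMap]
    exact Algebra.Etale.of_isLocalizationAway r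
  rw [HasRingHomProperty.iff_exists_appLE (P := @Etale) hsrc]
  intro x'
  have haff : IsAffineOpen (Y.basicOpen f) := hW.basicOpen f
  haveI : IsAffine (Y.basicOpen f : Scheme) := haff
  have hle : (⊤ : (Y.basicOpen f : Scheme).Opens) ≤ ((Y.basicOpen f).ι ≫ h) ⁻¹ᵁ U := by
    intro z _
    exact hWU (Y.basicOpen_le f z.2)
  refine ⟨⟨U, hU⟩, ⟨⊤, isAffineOpen_top _⟩, trivial, hle, ?_⟩
  have e2 : (⊤ : (Y.basicOpen f : Scheme).Opens) ≤ (Y.basicOpen f).ι ⁻¹ᵁ (h ⁻¹ᵁ U) := hle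
  have heq : ((Y.basicOpen f).ι ≫ h).appLE U ⊤ hle =
      h.appLE U ((Y.basicOpen f).ι ''ᵁ ⊤) (by
        rintro _ ⟨z, -, rfl⟩
        exact hWU (Y.basicOpen_le f z.2)) := by
    rw [← Scheme.Hom.appLE_comp_appLE (Y.basicOpen f).ι h U (h ⁻¹ᵁ U) ⊤ le_rfl e2,
      Scheme.Opens.ι_appLE]
    exact Scheme.Hom.appLE_map h le_rfl _
  show (((Y.basicOpen f).ι ≫ h).appLE U ⊤ hle).hom.Etale
  rw [heq]
  exact etale_appLE_basicOpen h U W hW hWU f het _ (Scheme.Opens.ι_image_top _) _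

end Groth.Agent.Lib.Helper8.EtaleAffineNhd
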