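import Mathlib
import Groth.Agent.Lib.Helper8.SmoothQuotChart
set_option autoImplicit false
open TensorProduct KaehlerDifferential IsLocalRing

/-! Smooth hypersurface slices of smooth algebras. -/

namespace Groth.Agent.Lib.Helper8.SmoothSlice
open Groth.Agent.Lib.Helper8.SmoothQuot Groth.Agent.Lib.Helper8.SmoothQuotChart
universe u

/-- `1 ⊗ ω` vanishes in `κ ⊗ M` iff `ω ∈ 𝔪 M`. -/
theorem one_tmul_eq_zero_iff {T : Type*} [CommRing T] [IsLocalRing T] {M : Type*} [AddCommGroup M]
    [Module T M] (ω : M) :
    (1 : ResidueField T) ⊗ₜ[T] ω = 0 ↔ ω ∈ maximalIdeal T • (⊤ : Submodule T M) := by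
  have h := LinearMap.ker_tensorProductMk (R := T) (Q := M) (I := maximalIdeal T)
  rw [← h, LinearMap.mem_ker]
  rfl

/-- Non-vanishing of a differential in the fibre of `Ω` of a local ring `T = A_q` over a bigger base
`R'` implies the non-vanishing in `κ(q) ⊗_A Ω_{A/R}`. -/
theorem tmul_D_ne_zero_of_stalk {R A : Type*} [CommRing R] [CommRing A] [Algebra R A] (q : Ideal A)
    [q.IsPrime] {R' T : Type*} [CommRing R'] [CommRing T] [IsLocalRing T] [Algebra R R']
    [Algebra R' T] [Algebra A T] [Algebra R T] [IsScalarTower R R' T] [IsScalarTower R A T]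
    [IsLocalization.AtPrime T q] (a : A)
    (hd : (1 : ResidueField T) ⊗ₜ[T] D R' T (algebraMap A T a) ≠ 0) :
    (1 : q.ResidueField) ⊗ₜ[A] D R A a ≠ 0 := by
  intro h0
  apply hd
  have h1 : (1 : q.ResidueField) ⊗ₜ[Localization.AtPrime q]
      D R (Localization.AtPrime q) (algebraMap A _ a) = 0 := by
    rw [← kappaOmegaEquiv_tmul_D, h0, map_zero]
  rw [one_tmul_eq_zero_iff] at h1 ⊢
  let e : Localization.AtPrime q ≃ₐ[A] T := IsLocalization.algEquiv q.primeCompl _ _
  letI : Algebra (Localization.AtPrime q) T := e.toAlgHom.toRingHom.toAlgebra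
  haveI : IsScalarTower A (Localization.AtPrime q) T :=
    IsScalarTower.of_algebraMap_eq (fun x => (e.commutes x).symm)
  haveI : IsScalarTower R (Localization.AtPrime q) T := by
    refine IsScalarTower.of_algebraMap_eq (fun r => ?_)
    rw [IsScalarTower.algebraMap_apply R A T,
      IsScalarTower.algebraMap_apply R A (Localization.AtPrime q),
      ← IsScalarTower.algebraMap_apply A (Localization.AtPrime q) T]
  have hea : algebraMap (Localization.AtPrime q) T (algebraMap A _ a) = algebraMap A T a :=
    (IsScalarTower.algebraMap_apply A _ T a).symm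
  rw [← hea, ← KaehlerDifferential.map_D R R' (Localization.AtPrime q) T]
  have key : ∀ ω ∈ maximalIdeal (Localization.AtPrime q) •
      (⊤ : Submodule (Localization.AtPrime q) Ω[Localization.AtPrime q⁄R]),
      KaehlerDifferential.map R R' (Localization.AtPrime q) T ω ∈
        maximalIdeal T • (⊤ : Submodule T Ω[T⁄R']) := by
    intro ω hω
    refine Submodule.smul_induction_on hω (fun r hr n _ => ?_) (fun x y hx hy => ?_)
    · rw [map_smul, algebra_compatible_smul T r]
      refine Submodule.smul_mem_smul ?_ Submodule.mem_top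
      rw [mem_maximalIdeal, mem_nonunits_iff] at hr ⊢
      intro hu
      apply hr
      have h2 := hu.map e.symm
      rwa [show algebraMap (Localization.AtPrime q) T r = e r from rfl, e.symm_apply_apply] at h2
    · rw [map_add]; exact add_mem hx hy
  exact key _ h1

/-- If `dF ≠ 0` in `κ(q) ⊗ Ω` then `A_q / F` is formally smooth (no Noetherian hypothesis). -/
theorem formallySmooth_quotient_singleton (R A : Type u) [CommRing R] [CommRing A] [Algebra R A]
    [Algebra.FiniteType R A] (F : A) (q : Ideal A) [q.IsPrime] [Algebra.IsSmoothAt R q]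
    (h1 : (1 : q.ResidueField) ⊗ₜ[A] D R A F ≠ 0) :
    Algebra.FormallySmooth R (Localization.AtPrime q ⧸
        (Ideal.span ({F} : Set A)).map (algebraMap A (Localization.AtPrime q))) := by
  classical
  have hmap : (Ideal.span ({F} : Set A)).map (algebraMap A (Localization.AtPrime q)) =
      Ideal.span (Set.range (fun _ : Unit => algebraMap A (Localization.AtPrime q) F)) := by
    rw [Ideal.map_span, Set.image_singleton, Set.range_const]
  have htr : (1 : q.ResidueField) ⊗ₜ[A] D R A F ≠ 0 ↔
      (1 : q.ResidueField) ⊗ₜ[Localization.AtPrime q]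
        D R (Localization.AtPrime q) (algebraMap A (Localization.AtPrime q) F) ≠ 0 := by
    rw [← kappaOmegaEquiv_tmul_D, ne_eq, ne_eq, LinearEquiv.map_eq_zero_iff]
  haveI : Algebra.FormallySmooth R (Localization.AtPrime q) := ‹Algebra.IsSmoothAt R q›
  rw [hmap]
  exact formallySmooth_quotient_of_linearIndependent (R := R)
    (fun _ : Unit => algebraMap A (Localization.AtPrime q) F)
    (linearIndependent_unique_iff.mpr (htr.mp h1))

/-- Smooth hypersurface through a point of a smooth algebra: if `h ∈ q` has nonzero differential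
at `q`, then on a basic neighbourhood `D(f)` of `q` the element `h` is a nonzerodivisor and
`A_f / h` is smooth over `R`. -/
theorem exists_away_nonZeroDivisor_smooth (R A : Type u) [CommRing R] [CommRing A] [Algebra R A]
    [Algebra.FinitePresentation R A] (q : Ideal A) [q.IsPrime] [Algebra.IsSmoothAt R q] (h : A)
    (hq : h ∈ q) (hd : (1 : q.ResidueField) ⊗ₜ[A] D R A h ≠ 0) :
    ∃ f : A, f ∉ q ∧ ∀ (A' : Type u) [CommRing A'] [Algebra A A'] [Algebra R A']
      [IsScalarTower R A A'] [IsLocalization.Away f A'],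
      algebraMap A A' h ∈ nonZeroDivisors A' ∧
        Algebra.Smooth R (A' ⧸ Ideal.span {algebraMap A A' h}) := by
  classical
  have hc : Submodule.span q.ResidueField
      (Set.range fun b : A => (1 : q.ResidueField) ⊗ₜ[A] D R A b) = ⊤ := by
    have h1 := Submodule.baseChange_span (R := A) q.ResidueField (Set.range (D R A))
    rw [KaehlerDifferential.span_range_derivation, Submodule.baseChange_top,
      ← Set.range_comp] at h1
    exact h1.symm
  have hu : LinearIndependent q.ResidueField
      (fun _ : Unit => (1 : q.ResidueField) ⊗ₜ[A] D R A h) :=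
    linearIndependent_unique_iff.mpr hd
  obtain ⟨m, a, hbij⟩ := exists_extension_bijective _ hu
    (fun b : A => (1 : q.ResidueField) ⊗ₜ[A] D R A b) hc
  have hfun : (fun i => (1 : q.ResidueField) ⊗ₜ[A] D R A (Sum.elim (fun _ : Unit => h) a i)) =
      Sum.elim (fun _ : Unit => (1 : q.ResidueField) ⊗ₜ[A] D R A h)
        ((fun b : A => (1 : q.ResidueField) ⊗ₜ[A] D R A b) ∘ a) := by
    funext i
    cases i <;> rfl
  have hbij' : Function.Bijective (Finsupp.linearCombination q.ResidueField
      (fun i => (1 : q.ResidueField) ⊗ₜ[A] D R A (Sum.elim (fun _ : Unit => h) a i))) := by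
    rw [hfun]; exact hbij
  obtain ⟨f₁, hf₁, hét⟩ := exists_etale_aeval R A q (Sum.elim (fun _ : Unit => h) a) hbij'
  haveI : Algebra.FinitePresentation R (A ⧸ Ideal.span ({h} : Set A)) :=
    Algebra.FinitePresentation.quotient ⟨{h}, by simp⟩
  have hIq : Ideal.span ({h} : Set A) ≤ q := (Ideal.span_singleton_le_iff_mem _).mpr hq
  obtain ⟨P, hP, hPq⟩ : ∃ P : Ideal (A ⧸ Ideal.span ({h} : Set A)), P.IsPrime ∧
      P.comap (Ideal.Quotient.mk (Ideal.span ({h} : Set A))) = q := by
    refine ⟨q.map (Ideal.Quotient.mk _),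
      Ideal.map_isPrime_of_surjective Ideal.Quotient.mk_surjective (by rwa [Ideal.mk_ker]), ?_⟩
    rw [Ideal.comap_map_of_surjective _ Ideal.Quotient.mk_surjective,
      ← RingHom.ker_eq_comap_bot, Ideal.mk_ker, sup_eq_left]
    exact hIq
  subst hPq
  haveI : Algebra.IsSmoothAt R P := by
    show Algebra.FormallySmooth R (Localization.AtPrime P)
    rw [formallySmooth_localization_quotient_iff R (Ideal.span ({h} : Set A)) P]
    exact formallySmooth_quotient_singleton R A h _ hd
  obtain ⟨f', hf'P, hsm'⟩ := Algebra.IsSmoothAt.exists_notMem_smooth R P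
  obtain ⟨f₂, rfl⟩ := Ideal.Quotient.mk_surjective f'
  have hf₂ : f₂ ∉ P.comap (Ideal.Quotient.mk (Ideal.span ({h} : Set A))) := hf'P
  refine ⟨f₁ * f₂, fun hmem => (Ideal.IsPrime.mem_or_mem inferInstance hmem).elim hf₁ hf₂, ?_⟩
  intro A' _ _ _ _ _
  constructor
  · have h5 := hét (f₁ * f₂) (Dvd.intro _ rfl)
    let φ : MvPolynomial (Unit ⊕ Fin m) R →ₐ[R] Localization.Away (f₁ * f₂) :=
      MvPolynomial.aeval (fun i => algebraMap A (Localization.Away (f₁ * f₂))
        (Sum.elim (fun _ : Unit => h) a i))
    letI : Algebra (MvPolynomial (Unit ⊕ Fin m) R) (Localization.Away (f₁ * f₂)) :=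
      φ.toRingHom.toAlgebra
    haveI : Algebra.Etale (MvPolynomial (Unit ⊕ Fin m) R) (Localization.Away (f₁ * f₂)) := h5
    haveI : Module.Flat (MvPolynomial (Unit ⊕ Fin m) R) (Localization.Away (f₁ * f₂)) :=
      inferInstance
    have hreg : IsSMulRegular (Localization.Away (f₁ * f₂))
        (MvPolynomial.X (Sum.inl ()) : MvPolynomial (Unit ⊕ Fin m) R) :=
      Module.Flat.isSMulRegular_of_isRegular MvPolynomial.isRegular_X
    have hX : algebraMap (MvPolynomial (Unit ⊕ Fin m) R) (Localization.Away (f₁ * f₂))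
        (MvPolynomial.X (Sum.inl ())) = algebraMap A (Localization.Away (f₁ * f₂)) h := by
      show φ (MvPolynomial.X (Sum.inl ())) = _
      simp [φ]
    have hB : algebraMap A (Localization.Away (f₁ * f₂)) h ∈
        nonZeroDivisors (Localization.Away (f₁ * f₂)) := by
      rw [mem_nonZeroDivisors_iff_right]
      intro y hy
      apply hreg
      show (MvPolynomial.X (Sum.inl ()) : MvPolynomial (Unit ⊕ Fin m) R) • y =
        (MvPolynomial.X (Sum.inl ()) : MvPolynomial (Unit ⊕ Fin m) R) • (0 : Localization.Away (f₁ * f₂))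
      rw [smul_zero, Algebra.smul_def, hX, mul_comm (algebraMap A (Localization.Away (f₁ * f₂)) h) y]
      exact hy
    let e : Localization.Away (f₁ * f₂) ≃ₐ[A] A' :=
      IsLocalization.algEquiv (Submonoid.powers (f₁ * f₂)) _ _
    have he : algebraMap A A' h = e (algebraMap A (Localization.Away (f₁ * f₂)) h) :=
      (e.commutes h).symm
    rw [he, mem_nonZeroDivisors_iff_right]
    intro y hy
    have h6 : e.symm y * algebraMap A (Localization.Away (f₁ * f₂)) h = 0 := by
      apply e.injective
      rw [map_mul, e.apply_symm_apply, map_zero]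
      exact hy
    have h7 := (mem_nonZeroDivisors_iff_right.mp hB) _ h6
    rw [← e.apply_symm_apply y, h7, map_zero]
  · have hsub : (PrimeSpectrum.basicOpen (Ideal.Quotient.mk (Ideal.span ({h} : Set A)) (f₁ * f₂)) :
        Set (PrimeSpectrum (A ⧸ Ideal.span ({h} : Set A)))) ⊆
        Algebra.smoothLocus R (A ⧸ Ideal.span ({h} : Set A)) := by
      have h7 := Algebra.basicOpen_subset_smoothLocus_iff_smooth.mpr hsm'
      refine subset_trans ?_ h7
      rw [map_mul]
      exact SetLike.coe_subset_coe.mpr (PrimeSpectrum.basicOpen_mul_le_right _ _)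
    haveI hsm : Algebra.Smooth R
        (Localization.Away (Ideal.Quotient.mk (Ideal.span ({h} : Set A)) (f₁ * f₂))) :=
      Algebra.basicOpen_subset_smoothLocus_iff_smooth.mp hsub
    haveI hloc : IsLocalization.Away (Ideal.Quotient.mk (Ideal.span ({h} : Set A)) (f₁ * f₂))
        (A' ⧸ (Ideal.span ({h} : Set A)).map (algebraMap A A')) := by
      have h8 : IsLocalization (Algebra.algebraMapSubmonoid (A ⧸ Ideal.span ({h} : Set A))
          (Submonoid.powers (f₁ * f₂)))
          (A' ⧸ (Ideal.span ({h} : Set A)).map (algebraMap A A')) := inferInstance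
      have hpow : Algebra.algebraMapSubmonoid (A ⧸ Ideal.span ({h} : Set A))
          (Submonoid.powers (f₁ * f₂)) =
          Submonoid.powers (Ideal.Quotient.mk (Ideal.span ({h} : Set A)) (f₁ * f₂)) := by
        simp [Algebra.algebraMapSubmonoid, Submonoid.map_powers]
      rwa [hpow] at h8
    haveI : IsScalarTower R (A ⧸ Ideal.span ({h} : Set A))
        (A' ⧸ (Ideal.span ({h} : Set A)).map (algebraMap A A')) :=
      IsScalarTower.of_algebraMap_eq fun r => by
        rw [IsScalarTower.algebraMap_apply R A (A ⧸ Ideal.span ({h} : Set A)),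
          Ideal.Quotient.algebraMap_eq, Ideal.Quotient.algebraMap_quotient_map_quotient,
          IsScalarTower.algebraMap_apply R A' (A' ⧸ _),
          ← IsScalarTower.algebraMap_apply R A A']
        rfl
    have e₁ : Localization.Away (Ideal.Quotient.mk (Ideal.span ({h} : Set A)) (f₁ * f₂)) ≃ₐ[R]
        (A' ⧸ (Ideal.span ({h} : Set A)).map (algebraMap A A')) :=
      (IsLocalization.algEquiv (Submonoid.powers
        (Ideal.Quotient.mk (Ideal.span ({h} : Set A)) (f₁ * f₂))) _ _).restrictScalars R
    haveI : Algebra.Smooth R (A' ⧸ (Ideal.span ({h} : Set A)).map (algebraMap A A')) :=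
      Algebra.Smooth.of_equiv e₁
    have hJeq : (Ideal.span ({h} : Set A)).map (algebraMap A A') =
        Ideal.span {algebraMap A A' h} := by
      rw [Ideal.map_span, Set.image_singleton]
    exact Algebra.Smooth.of_equiv (Ideal.quotientEquivAlgOfEq R hJeq)

end Groth.Agent.Lib.Helper8.SmoothSlice
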