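import Mathlib
import Groth.Agent.Lib.Helper8.SmoothSlice
import Groth.Agent.Lib.Helper8.EtaleAffineNhd

set_option autoImplicit false
open CategoryTheory CategoryTheory.Limits AlgebraicGeometry Opposite TensorProduct
universe u

/-! Smooth effective Cartier divisors through a point of a smooth morphism (scheme glue). -/

namespace Groth.Agent.Lib.Helper8.SmoothSliceSch

/-- If `f` is smooth near `x`, there are affine opens `V ∋ x`, `W ∋ f x` with `V ≤ f⁻¹ W`,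
`V ≤ U₁` (a prescribed neighbourhood) and `f.appLE W V` smooth. -/
theorem exists_affine_smooth_appLE {X Y : Scheme.{u}} (f : X ⟶ Y) (x : X)
    (U : X.Opens) (hxU : x ∈ U) (hU : Smooth (U.ι ≫ f)) (U₁ : X.Opens) (hxU₁ : x ∈ U₁) :
    ∃ (W : Y.Opens) (V : X.Opens) (_ : IsAffineOpen W) (_ : IsAffineOpen V) (hVW : V ≤ f ⁻¹ᵁ W),
      x ∈ V ∧ V ≤ U₁ ∧ f x ∈ W ∧ (f.appLE W V hVW).hom.Smooth := by
  obtain ⟨_, ⟨W, hW, rfl⟩, hsW, -⟩ :=
    Y.isBasis_affineOpens.exists_subset_of_mem_open (Set.mem_univ (f.base x)) isOpen_univ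
  obtain ⟨_, ⟨V', hV', rfl⟩, hxV', hV'W⟩ :=
    (U : Scheme).isBasis_affineOpens.exists_subset_of_mem_open
      (show (⟨x, hxU⟩ : U) ∈ (((U.ι ≫ f) ⁻¹ᵁ W ⊓ U.ι ⁻¹ᵁ U₁ : (U : Scheme).Opens) : Set U) from
        ⟨hsW, hxU₁⟩)
      ((U.ι ≫ f) ⁻¹ᵁ W ⊓ U.ι ⁻¹ᵁ U₁).2
  have hV'W₁ : V' ≤ (U.ι ≫ f) ⁻¹ᵁ W := fun z hz => (hV'W hz).1
  have hV'U₁ : V' ≤ U.ι ⁻¹ᵁ U₁ := fun z hz => (hV'W hz).2
  have hV : IsAffineOpen (U.ι ''ᵁ V') := hV'.image_of_isOpenImmersion U.ι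
  have hxV : x ∈ U.ι ''ᵁ V' := ⟨⟨x, hxU⟩, hxV', rfl⟩
  have hVW : U.ι ''ᵁ V' ≤ f ⁻¹ᵁ W := by
    rintro _ ⟨z, hz, rfl⟩
    exact hV'W₁ hz
  have hVU₁ : U.ι ''ᵁ V' ≤ U₁ := by
    rintro _ ⟨z, hz, rfl⟩
    exact hV'U₁ hz
  refine ⟨W, U.ι ''ᵁ V', hW, hV, hVW, hxV, hVU₁, hsW, ?_⟩
  have := HasRingHomProperty.appLE @Smooth (U.ι ≫ f) hU ⟨W, hW⟩ ⟨V', hV'⟩ hV'W₁
  have heq : (U.ι ≫ f).appLE W V' hV'W₁ = f.appLE W (U.ι ''ᵁ V') hVW := by
    have e2 : V' ≤ U.ι ⁻¹ᵁ (f ⁻¹ᵁ W) := hV'W₁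
    rw [← Scheme.Hom.appLE_comp_appLE U.ι f W (f ⁻¹ᵁ W) V' le_rfl e2, Scheme.Opens.ι_appLE]
    exact Scheme.Hom.appLE_map f le_rfl _
  rw [← heq]
  exact this

theorem exists_smooth_effCartier_of_differential_ne_zero {X S : Scheme.{u}} (f : X ⟶ S) (x : X)
    (W : X.Opens) (hxW : x ∈ W) (hW : Smooth (W.ι ≫ f))
    (h : ↑(X.presheaf.stalk x)) (hm : h ∈ IsLocalRing.maximalIdeal ↑(X.presheaf.stalk x))
    (hd : letI := (f.stalkMap x).hom.toAlgebra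
      (1 : IsLocalRing.ResidueField ↑(X.presheaf.stalk x)) ⊗ₜ[↑(X.presheaf.stalk x)]
          (KaehlerDifferential.D ↑(S.presheaf.stalk (f x)) ↑(X.presheaf.stalk x) h) ≠ 0) :
    ∃ (U : X.Opens) (hU : IsAffineOpen U) (hx : x ∈ U) (h' : Γ(X, U)),
      X.presheaf.germ U x hx h' = h ∧ h' ∈ nonZeroDivisors Γ(X, U) ∧
      Smooth (Spec.map (CommRingCat.ofHom (Ideal.Quotient.mk (Ideal.span {h'}))) ≫
        hU.fromSpec ≫ f) := by
  obtain ⟨U₁, hxU₁, h₁, hh₁⟩ := TopCat.Presheaf.exists_germ_eq X.presheaf h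
  obtain ⟨V, U₀, hV, hU₀, hUV, hxU₀, hU₀U₁, hfxV, hsm⟩ :=
    exists_affine_smooth_appLE f x W hxW hW U₁ hxU₁
  set h₀ : Γ(X, U₀) := X.presheaf.map (homOfLE hU₀U₁).op h₁ with hh₀def
  have hh₀ : X.presheaf.germ U₀ x hxU₀ h₀ = h := by
    rw [hh₀def, TopCat.Presheaf.germ_res_apply]
    exact hh₁
  letI algRA : Algebra Γ(S, V) Γ(X, U₀) := (f.appLE V U₀ hUV).hom.toAlgebra
  haveI : Algebra.Smooth Γ(S, V) Γ(X, U₀) := hsm
  letI algAT : Algebra Γ(X, U₀) (X.presheaf.stalk x) :=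
    X.presheaf.algebra_section_stalk ⟨x, hxU₀⟩
  letI algRR' : Algebra Γ(S, V) (S.presheaf.stalk (f x)) :=
    S.presheaf.algebra_section_stalk ⟨f x, hfxV⟩
  letI algR'T : Algebra (S.presheaf.stalk (f x)) (X.presheaf.stalk x) :=
    (f.stalkMap x).hom.toAlgebra
  letI algRT : Algebra Γ(S, V) (X.presheaf.stalk x) :=
    ((algebraMap Γ(X, U₀) (X.presheaf.stalk x)).comp (algebraMap Γ(S, V) Γ(X, U₀))).toAlgebra
  haveI : IsScalarTower Γ(S, V) Γ(X, U₀) (X.presheaf.stalk x) :=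
    IsScalarTower.of_algebraMap_eq (fun _ => rfl)
  haveI : IsScalarTower Γ(S, V) (S.presheaf.stalk (f x)) (X.presheaf.stalk x) := by
    refine IsScalarTower.of_algebraMap_eq (fun r => ?_)
    show X.presheaf.germ U₀ x hxU₀ (f.appLE V U₀ hUV r) =
      f.stalkMap x (S.presheaf.germ V (f x) hfxV r)
    rw [Scheme.Hom.germ_stalkMap_apply]
    show X.presheaf.germ U₀ x hxU₀ ((X.presheaf.map (homOfLE hUV).op) (f.app V r)) = _
    rw [TopCat.Presheaf.germ_res_apply]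
  set q : Ideal Γ(X, U₀) := (hU₀.primeIdealOf ⟨x, hxU₀⟩).asIdeal with hq
  haveI : IsLocalization.AtPrime (X.presheaf.stalk x) q := hU₀.isLocalization_stalk ⟨x, hxU₀⟩
  have hd' : (1 : q.ResidueField) ⊗ₜ[Γ(X, U₀)] KaehlerDifferential.D Γ(S, V) Γ(X, U₀) h₀ ≠ 0 := by
    apply Groth.Agent.Lib.Helper8.SmoothSlice.tmul_D_ne_zero_of_stalk (R := Γ(S, V))
      (A := Γ(X, U₀)) q (R' := S.presheaf.stalk (f x)) (T := X.presheaf.stalk x) h₀
    have h2 : algebraMap Γ(X, U₀) (X.presheaf.stalk x) h₀ = h := hh₀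
    rw [h2]
    exact hd
  have hh₀q : h₀ ∈ q := by
    rw [← IsLocalization.AtPrime.to_map_mem_maximal_iff (X.presheaf.stalk x) q h₀ inferInstance]
    show X.presheaf.germ U₀ x hxU₀ h₀ ∈ _
    rw [hh₀]
    exact hm
  haveI : Algebra.FormallySmooth Γ(X, U₀) (Localization.AtPrime q) :=
    Algebra.FormallySmooth.of_isLocalization q.primeCompl
  haveI : Algebra.IsSmoothAt Γ(S, V) q :=
    Algebra.FormallySmooth.comp Γ(S, V) Γ(X, U₀) (Localization.AtPrime q)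
  obtain ⟨f₀, hf₀q, H⟩ := Groth.Agent.Lib.Helper8.SmoothSlice.exists_away_nonZeroDivisor_smooth
    Γ(S, V) Γ(X, U₀) q h₀ hh₀q hd'
  have hU : IsAffineOpen (X.basicOpen f₀) := hU₀.basicOpen f₀
  have hxU : x ∈ X.basicOpen f₀ :=
    (Groth.Agent.Lib.Helper8.EtaleAffineNhd.mem_basicOpen_iff_notMem_primeIdealOf hU₀ f₀ x
      hxU₀).mpr hf₀q
  haveI : IsLocalization.Away f₀ Γ(X, X.basicOpen f₀) := hU₀.isLocalization_basicOpen f₀
  letI algRA' : Algebra Γ(S, V) Γ(X, X.basicOpen f₀) :=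
    ((algebraMap Γ(X, U₀) Γ(X, X.basicOpen f₀)).comp (algebraMap Γ(S, V) Γ(X, U₀))).toAlgebra
  haveI : IsScalarTower Γ(S, V) Γ(X, U₀) Γ(X, X.basicOpen f₀) :=
    IsScalarTower.of_algebraMap_eq (fun _ => rfl)
  obtain ⟨hnzd, hsmooth⟩ := H Γ(X, X.basicOpen f₀)
  refine ⟨X.basicOpen f₀, hU, hxU, algebraMap Γ(X, U₀) Γ(X, X.basicOpen f₀) h₀, ?_, hnzd, ?_⟩
  · show X.presheaf.germ _ x hxU (X.presheaf.map (homOfLE (X.basicOpen_le f₀)).op h₀) = h
    rw [TopCat.Presheaf.germ_res_apply]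
    exact hh₀
  · have hUV' : X.basicOpen f₀ ≤ f ⁻¹ᵁ V := (X.basicOpen_le f₀).trans hUV
    have e1 : hU.fromSpec ≫ f = Spec.map (f.appLE V (X.basicOpen f₀) hUV') ≫ hV.fromSpec :=
      (hV.SpecMap_appLE_fromSpec f hU hUV').symm
    rw [e1, ← Category.assoc, ← Spec.map_comp]
    haveI : Smooth (Spec.map (f.appLE V (X.basicOpen f₀) hUV' ≫ CommRingCat.ofHom
        (Ideal.Quotient.mk (Ideal.span {algebraMap Γ(X, U₀) Γ(X, X.basicOpen f₀) h₀})))) := by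
      rw [HasRingHomProperty.Spec_iff (P := @Smooth)]
      have h9 : (f.appLE V (X.basicOpen f₀) hUV' ≫ CommRingCat.ofHom
          (Ideal.Quotient.mk (Ideal.span {algebraMap Γ(X, U₀) Γ(X, X.basicOpen f₀) h₀}))).hom =
          algebraMap Γ(S, V) (Γ(X, X.basicOpen f₀) ⧸
            Ideal.span {algebraMap Γ(X, U₀) Γ(X, X.basicOpen f₀) h₀}) := by
        ext r
        show Ideal.Quotient.mk _ (f.appLE V (X.basicOpen f₀) hUV' r) =
          Ideal.Quotient.mk _ (X.presheaf.map (homOfLE (X.basicOpen_le f₀)).op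
            (f.appLE V U₀ hUV r))
        rw [← Scheme.Hom.appLE_map f hUV (homOfLE (X.basicOpen_le f₀)).op]
        rfl
      rw [h9]
      exact RingHom.smooth_algebraMap.mpr hsmooth
    infer_instance

/-- Variant with the hypothesis that `κ ⊗ Ω_{O_x/O_s} → Ω_{κ/O_s}` has nonzero kernel. -/
theorem exists_smooth_effCartier_of_ker_ne_bot {X S : Scheme.{u}} (f : X ⟶ S) (x : X)
    (W : X.Opens) (hxW : x ∈ W) (hW : Smooth (W.ι ≫ f))
    (hker : letI := (f.stalkMap x).hom.toAlgebra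
      letI := ((IsLocalRing.residue ↑(X.presheaf.stalk x)).comp (f.stalkMap x).hom).toAlgebra
      haveI : IsScalarTower ↑(S.presheaf.stalk (f x)) ↑(X.presheaf.stalk x)
          (IsLocalRing.ResidueField ↑(X.presheaf.stalk x)) :=
        IsScalarTower.of_algebraMap_eq (fun _ => rfl)
      LinearMap.ker (KaehlerDifferential.mapBaseChange ↑(S.presheaf.stalk (f x))
        ↑(X.presheaf.stalk x) (IsLocalRing.ResidueField ↑(X.presheaf.stalk x))) ≠ ⊥) :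
    ∃ (U : X.Opens) (hU : IsAffineOpen U) (hx : x ∈ U) (h' : Γ(X, U)),
      h' ∈ nonZeroDivisors Γ(X, U) ∧
      X.presheaf.germ U x hx h' ∈ IsLocalRing.maximalIdeal ↑(X.presheaf.stalk x) ∧
      Smooth (Spec.map (CommRingCat.ofHom (Ideal.Quotient.mk (Ideal.span {h'}))) ≫
        hU.fromSpec ≫ f) := by
  letI algR'T : Algebra (S.presheaf.stalk (f x)) (X.presheaf.stalk x) :=
    (f.stalkMap x).hom.toAlgebra
  letI algR'κ : Algebra (S.presheaf.stalk (f x)) (IsLocalRing.ResidueField (X.presheaf.stalk x)) :=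
    ((IsLocalRing.residue ↑(X.presheaf.stalk x)).comp (f.stalkMap x).hom).toAlgebra
  haveI : IsScalarTower ↑(S.presheaf.stalk (f x)) ↑(X.presheaf.stalk x)
      (IsLocalRing.ResidueField ↑(X.presheaf.stalk x)) :=
    IsScalarTower.of_algebraMap_eq (fun _ => rfl)
  obtain ⟨z, hz, hz0⟩ := (Submodule.ne_bot_iff _).mp hker
  have hex := KaehlerDifferential.exact_kerCotangentToTensor_mapBaseChange
    (S.presheaf.stalk (f x)) (X.presheaf.stalk x)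
    (IsLocalRing.ResidueField (X.presheaf.stalk x)) IsLocalRing.residue_surjective
  obtain ⟨y, rfl⟩ := (hex z).mp hz
  obtain ⟨⟨t, ht⟩, rfl⟩ := Ideal.toCotangent_surjective _ y
  rw [KaehlerDifferential.kerCotangentToTensor_toCotangent] at hz0
  have htm : t ∈ IsLocalRing.maximalIdeal (X.presheaf.stalk x) := by
    rw [RingHom.mem_ker] at ht
    exact (IsLocalRing.residue_eq_zero_iff t).mp ht
  obtain ⟨U, hU, hx, h', hh', hnzd, hsm⟩ :=
    exists_smooth_effCartier_of_differential_ne_zero f x W hxW hW t htm hz0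
  exact ⟨U, hU, hx, h', hnzd, hh' ▸ htm, hsm⟩

end Groth.Agent.Lib.Helper8.SmoothSliceSch
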