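import Mathlib
import Groth.Agent.Lib.Helper8.EtaleSection
import Groth.Agent.Lib.Helper8.SmoothSliceSch

set_option autoImplicit false
open CategoryTheory CategoryTheory.Limits AlgebraicGeometry Opposite TensorProduct
universe u

/-! Smooth morphisms have sections étale locally on the target (scheme glue). -/

namespace Groth.Agent.Lib.Helper8.EtaleSectionSch

theorem exists_etale_nhd_section {X S : Scheme.{u}} (f : X ⟶ S) [Smooth f] (s : S)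
    (hs : s ∈ Set.range f) :
    ∃ (S' : Scheme.{u}) (g : S' ⟶ S) (s' : S'), Etale g ∧ g s' = s ∧
      ∃ h : S' ⟶ X, h ≫ f = g := by
  obtain ⟨x, rfl⟩ := hs
  obtain ⟨V, U₀, hV, hU₀, hUV, hxU₀, -, hfxV, hsm⟩ :=
    Groth.Agent.Lib.Helper8.SmoothSliceSch.exists_affine_smooth_appLE f x ⊤ trivial
      inferInstance ⊤ trivial
  letI algRA : Algebra Γ(S, V) Γ(X, U₀) := (f.appLE V U₀ hUV).hom.toAlgebra
  haveI : Algebra.Smooth Γ(S, V) Γ(X, U₀) := hsm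
  have hq₀ : (hU₀.primeIdealOf ⟨x, hxU₀⟩).asIdeal.comap (algebraMap Γ(S, V) Γ(X, U₀)) =
      (hV.primeIdealOf ⟨f x, hfxV⟩).asIdeal :=
    congrArg PrimeSpectrum.asIdeal (IsAffineOpen.comap_primeIdealOf_appLE V hV U₀ hU₀ hUV hxU₀)
  obtain ⟨C, instC, ψ, hψet, Q₁, hQ₁p, hQ₁⟩ :=
    Groth.Agent.Lib.Helper8.EtaleSection.exists_etale_section_ring
      (hV.primeIdealOf ⟨f x, hfxV⟩).asIdeal (hU₀.primeIdealOf ⟨x, hxU₀⟩).asIdeal hq₀
  have e1 : hU₀.fromSpec ≫ f = Spec.map (f.appLE V U₀ hUV) ≫ hV.fromSpec :=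
    (hV.SpecMap_appLE_fromSpec f hU₀ hUV).symm
  refine ⟨Spec (CommRingCat.of C),
    Spec.map (CommRingCat.ofHom (ψ.comp (algebraMap Γ(S, V) Γ(X, U₀)))) ≫ hV.fromSpec,
    ⟨Q₁, hQ₁p⟩, ?_, ?_, Spec.map (CommRingCat.ofHom ψ) ≫ hU₀.fromSpec, ?_⟩
  · haveI : Etale (Spec.map (CommRingCat.ofHom (ψ.comp (algebraMap Γ(S, V) Γ(X, U₀))))) := by
      rw [HasRingHomProperty.Spec_iff (P := @Etale)]
      exact hψet
    infer_instance
  · have h1 : (Spec.map (CommRingCat.ofHom (ψ.comp (algebraMap Γ(S, V) Γ(X, U₀)))))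
        ⟨Q₁, hQ₁p⟩ = hV.primeIdealOf ⟨f x, hfxV⟩ := PrimeSpectrum.ext hQ₁
    rw [Scheme.Hom.comp_apply, h1]
    exact hV.fromSpec_primeIdealOf ⟨f x, hfxV⟩
  · rw [Category.assoc, e1, ← Category.assoc, ← Spec.map_comp]
    rfl

end Groth.Agent.Lib.Helper8.EtaleSectionSch
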