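import Mathlib

/-!
# Standard étale algebras over reduced rings are reduced
-/

open Polynomial

namespace Groth.Agent.Lib.Helper8

/-- Over a field: if `f ∣ h ^ N` then `f ∣ f' * h`. -/
theorem dvd_derivative_mul_of_dvd_pow_field {K : Type*} [Field K] :
    ∀ (n : ℕ) (f : K[X]), f.natDegree = n → f ≠ 0 → ∀ (h : K[X]) (N : ℕ), f ∣ h ^ N →
      f ∣ derivative f * h := by
  intro n
  induction n using Nat.strong_induction_on with
  | _ n ih =>
    intro f hfn hf0 h N hN
    by_cases hu : IsUnit f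
    · exact hu.dvd
    obtain ⟨π, hπ, hπf⟩ := WfDvdMonoid.exists_irreducible_factor hu hf0
    have hfin : FiniteMultiplicity π f := FiniteMultiplicity.of_not_isUnit hπ.not_isUnit hf0
    obtain ⟨u, hfu, hπu⟩ := hfin.exists_eq_pow_mul_and_not_dvd
    obtain ⟨e, hedef⟩ : ∃ e, e = multiplicity π f := ⟨_, rfl⟩
    rw [← hedef] at hfu
    have he : 1 ≤ e := by
      rw [hedef]
      exact Nat.succ_le_of_lt (multiplicity_pos_of_dvd hπf)
    have hu0 : u ≠ 0 := by
      rintro rfl
      rw [mul_zero] at hfu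
      exact hf0 hfu
    have hπ0 : π ≠ 0 := hπ.ne_zero
    have hdeg : u.natDegree < n := by
      rw [← hfn, hfu, natDegree_mul (pow_ne_zero _ hπ0) hu0, natDegree_pow]
      have := hπ.natDegree_pos
      nlinarith
    have hπh : π ∣ h := hπ.prime.dvd_of_dvd_pow (hπf.trans hN)
    have huh : u ∣ derivative u * h :=
      ih u.natDegree hdeg u rfl hu0 h N ((Dvd.intro_left _ hfu.symm).trans hN)
    have hcop : IsCoprime (π ^ e) u :=
      ((hπ.coprime_iff_not_dvd).mpr hπu).pow_left
    have hder : derivative f * h =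
        (C (e : K) * π ^ (e - 1) * derivative π) * u * h + π ^ e * (derivative u * h) := by
      rw [hfu, derivative_mul, derivative_pow]
      ring
    rw [hder]
    nth_rewrite 1 [hfu]
    apply hcop.mul_dvd
    · apply dvd_add
      · obtain ⟨h', rfl⟩ := hπh
        refine ⟨C (e : K) * derivative π * u * h', ?_⟩
        have : π ^ e = π ^ (e - 1) * π := by
          rw [← pow_succ, Nat.sub_add_cancel he]
        rw [this]
        ring
      · exact Dvd.intro _ rfl
    · apply dvd_add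
      · exact Dvd.intro_left _ (by ring : (C (e : K) * π ^ (e - 1) * derivative π * h) * u = _)
      · exact dvd_mul_of_dvd_right huh _

/-- Over a reduced ring: if the monic polynomial `f` divides `h ^ N` then `f ∣ f' * h`. -/
theorem dvd_derivative_mul_of_dvd_pow {R : Type*} [CommRing R] [IsReduced R] (f : R[X])
    (hf : f.Monic) (h : R[X]) (N : ℕ) (hN : f ∣ h ^ N) : f ∣ derivative f * h := by
  rw [← Polynomial.modByMonic_eq_zero_iff_dvd hf]
  ext k
  rw [coeff_zero]
  apply IsNilpotent.eq_zero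
  rw [nilpotent_iff_mem_prime]
  intro p hp
  obtain ⟨φ, hφ⟩ : ∃ φ : R →+* p.ResidueField, φ = algebraMap R p.ResidueField := ⟨_, rfl⟩
  have h1 : f.map φ ∣ derivative (f.map φ) * h.map φ := by
    apply dvd_derivative_mul_of_dvd_pow_field _ _ rfl (hf.map φ).ne_zero _ N
    rw [← Polynomial.map_pow]
    exact Polynomial.map_dvd φ hN
  have h2 : ((derivative f * h) %ₘ f).map φ = 0 := by
    rw [Polynomial.map_modByMonic _ hf, Polynomial.map_mul, ← derivative_map]
    exact (modByMonic_eq_zero_iff_dvd (hf.map φ)).mpr h1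
  have h3 := congrArg (fun q => q.coeff k) h2
  simp only [coeff_map, coeff_zero] at h3
  rw [hφ, Ideal.algebraMap_residueField_eq_zero] at h3
  exact h3

/-- The localized monogenic algebra underlying a standard étale algebra is reduced over a reduced
base. -/
theorem isReduced_away_adjoinRoot {R : Type*} [CommRing R] [IsReduced R] (f g : R[X])
    (hf : f.Monic) (cond : ∃ p₁ p₂ n, derivative f * p₁ + f * p₂ = g ^ n) :
    IsReduced (Localization.Away (AdjoinRoot.mk f g)) := by
  obtain ⟨p₁, p₂, n, hcond⟩ := cond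
  obtain ⟨γ, hγ⟩ : ∃ γ, γ = AdjoinRoot.mk f g := ⟨_, rfl⟩
  rw [← hγ]
  refine ⟨fun y hy => ?_⟩
  obtain ⟨N, hN⟩ := hy
  obtain ⟨a, ⟨_, k, rfl⟩, rfl⟩ := IsLocalization.exists_mk'_eq (Submonoid.powers γ) y
  rw [← IsLocalization.mk'_pow, IsLocalization.mk'_eq_zero_iff] at hN
  obtain ⟨⟨_, m, rfl⟩, hm⟩ := hN
  -- `γ * a` is nilpotent
  have h1 : (γ * a) ^ (m + N) = 0 := by
    have : (γ * a) ^ (m + N) = γ ^ N * a ^ m * (γ ^ m * a ^ N) := by ring
    rw [this, hm, mul_zero]
  obtain ⟨h₁, hh₁⟩ := AdjoinRoot.mk_surjective (g := f) (γ * a)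
  rw [← hh₁, ← map_pow, AdjoinRoot.mk_eq_zero] at h1
  have h2 := dvd_derivative_mul_of_dvd_pow f hf h₁ _ h1
  rw [← AdjoinRoot.mk_eq_zero, map_mul, hh₁] at h2
  have h3 : γ ^ n = AdjoinRoot.mk f (derivative f) * AdjoinRoot.mk f p₁ := by
    rw [hγ, ← map_pow, ← hcond, map_add, map_mul, map_mul, AdjoinRoot.mk_self, zero_mul, add_zero]
  have h4 : γ ^ (n + 1) * a = 0 := by
    have : γ ^ (n + 1) * a = AdjoinRoot.mk f p₁ * (AdjoinRoot.mk f (derivative f) * (γ * a)) := by
      rw [pow_succ, h3]; ring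
    rw [this, h2, mul_zero]
  rw [IsLocalization.mk'_eq_zero_iff]
  exact ⟨⟨γ ^ (n + 1), n + 1, rfl⟩, h4⟩

/-- Standard étale algebras over a reduced ring are reduced. -/
theorem isReduced_standardEtalePair {R : Type*} [CommRing R] [IsReduced R]
    (P : StandardEtalePair R) : IsReduced P.Ring := by
  have := isReduced_away_adjoinRoot P.f P.g P.monic_f P.cond
  exact isReduced_of_injective P.equivAwayAdjoinRoot.toAlgHom P.equivAwayAdjoinRoot.injective

/-- Over any ring: if the monic polynomial `f` divides `h ^ N` then the remainder of `f' * h`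
modulo `f` has nilpotent coefficients. -/
theorem coeff_modByMonic_mem_nilradical {R : Type*} [CommRing R] (f : R[X])
    (hf : f.Monic) (h : R[X]) (N : ℕ) (hN : f ∣ h ^ N) (k : ℕ) :
    ((derivative f * h) %ₘ f).coeff k ∈ nilradical R := by
  rw [mem_nilradical, nilpotent_iff_mem_prime]
  intro p hp
  obtain ⟨φ, hφ⟩ : ∃ φ : R →+* p.ResidueField, φ = algebraMap R p.ResidueField := ⟨_, rfl⟩
  have h1 : f.map φ ∣ derivative (f.map φ) * h.map φ := by
    apply dvd_derivative_mul_of_dvd_pow_field _ _ rfl (hf.map φ).ne_zero _ N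
    rw [← Polynomial.map_pow]
    exact Polynomial.map_dvd φ hN
  have h2 : ((derivative f * h) %ₘ f).map φ = 0 := by
    rw [Polynomial.map_modByMonic _ hf, Polynomial.map_mul, ← derivative_map]
    exact (modByMonic_eq_zero_iff_dvd (hf.map φ)).mpr h1
  have h3 := congrArg (fun q => q.coeff k) h2
  simp only [coeff_map, coeff_zero] at h3
  rw [hφ, Ideal.algebraMap_residueField_eq_zero] at h3
  exact h3

lemma mk_mem_map_nilradical {R : Type*} [CommRing R] (f : R[X]) (ρ : R[X])
    (hρ : ∀ k, ρ.coeff k ∈ nilradical R) :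
    AdjoinRoot.mk f ρ ∈ (nilradical R).map (algebraMap R (AdjoinRoot f)) := by
  rw [ρ.as_sum_range_C_mul_X_pow, map_sum]
  refine Ideal.sum_mem _ fun k _ => ?_
  rw [map_mul, AdjoinRoot.mk_C, ← AdjoinRoot.algebraMap_eq]
  exact Ideal.mul_mem_right _ _ (Ideal.mem_map_of_mem _ (hρ k))

/-- The nilradical of the localized monogenic algebra underlying a standard étale algebra is
generated by the nilradical of the base. -/
theorem nilradical_away_adjoinRoot_le {R : Type*} [CommRing R] (f g : R[X])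
    (hf : f.Monic) (cond : ∃ p₁ p₂ n, derivative f * p₁ + f * p₂ = g ^ n) :
    nilradical (Localization.Away (AdjoinRoot.mk f g)) ≤
      (nilradical R).map (algebraMap R (Localization.Away (AdjoinRoot.mk f g))) := by
  obtain ⟨p₁, p₂, n, hcond⟩ := cond
  obtain ⟨γ, hγ⟩ : ∃ γ, γ = AdjoinRoot.mk f g := ⟨_, rfl⟩
  rw [← hγ]
  intro y hy
  obtain ⟨N, hN⟩ := mem_nilradical.mp hy
  obtain ⟨a, ⟨_, k, rfl⟩, rfl⟩ := IsLocalization.exists_mk'_eq (Submonoid.powers γ) y
  rw [← IsLocalization.mk'_pow, IsLocalization.mk'_eq_zero_iff] at hN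
  obtain ⟨⟨_, m, rfl⟩, hm⟩ := hN
  have h1 : (γ * a) ^ (m + N) = 0 := by
    have : (γ * a) ^ (m + N) = γ ^ N * a ^ m * (γ ^ m * a ^ N) := by ring
    rw [this, hm, mul_zero]
  obtain ⟨h₁, hh₁⟩ := AdjoinRoot.mk_surjective (g := f) (γ * a)
  rw [← hh₁, ← map_pow, AdjoinRoot.mk_eq_zero] at h1
  obtain ⟨ρ, hρdef⟩ : ∃ ρ, ρ = (derivative f * h₁) %ₘ f := ⟨_, rfl⟩
  have hρ : ∀ k, ρ.coeff k ∈ nilradical R := fun k => by
    rw [hρdef]; exact coeff_modByMonic_mem_nilradical f hf h₁ _ h1 k
  have h2 : AdjoinRoot.mk f (derivative f) * (γ * a) = AdjoinRoot.mk f ρ := by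
    rw [← hh₁, ← map_mul, AdjoinRoot.mk_eq_mk, hρdef]
    refine ⟨(derivative f * h₁) /ₘ f, ?_⟩
    have := Polynomial.modByMonic_add_div (derivative f * h₁) f
    linear_combination -this
  have h3 : γ ^ n = AdjoinRoot.mk f (derivative f) * AdjoinRoot.mk f p₁ := by
    rw [hγ, ← map_pow, ← hcond, map_add, map_mul, map_mul, AdjoinRoot.mk_self, zero_mul, add_zero]
  have h4 : γ ^ (n + 1) * a = AdjoinRoot.mk f p₁ * AdjoinRoot.mk f ρ := by
    rw [← h2, pow_succ, h3]; ring
  have h5 : γ ^ (n + 1) * a ∈ (nilradical R).map (algebraMap R (AdjoinRoot f)) := by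
    rw [h4]
    exact Ideal.mul_mem_left _ _ (mk_mem_map_nilradical f ρ hρ)
  have h6 : IsLocalization.mk' (Localization.Away γ) a
      (⟨γ ^ k, k, rfl⟩ : Submonoid.powers γ) =
      IsLocalization.mk' (Localization.Away γ) (γ ^ (n + 1) * a)
        (⟨γ ^ (n + 1 + k), n + 1 + k, rfl⟩ : Submonoid.powers γ) := by
    rw [IsLocalization.mk'_eq_iff_eq]
    congr 1
    simp only
    ring
  rw [h6, IsLocalization.mk'_eq_mul_mk'_one]
  apply Ideal.mul_mem_right
  have h7 := Ideal.mem_map_of_mem (algebraMap (AdjoinRoot f) (Localization.Away γ)) h5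
  rwa [Ideal.map_map, ← IsScalarTower.algebraMap_eq] at h7

lemma nilradical_le_map_of_algEquiv {R A B : Type*} [CommRing R] [CommRing A] [CommRing B]
    [Algebra R A] [Algebra R B] (e : A ≃ₐ[R] B)
    (h : nilradical B ≤ (nilradical R).map (algebraMap R B)) :
    nilradical A ≤ (nilradical R).map (algebraMap R A) := by
  intro x hx
  have h1 : e x ∈ nilradical B := by
    rw [mem_nilradical] at hx ⊢
    exact hx.map e
  have h2 := Ideal.mem_map_of_mem (e.symm.toAlgHom : B →+* A) (h h1)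
  rw [Ideal.map_map, AlgHom.comp_algebraMap] at h2
  simpa using h2

/-- The nilradical of a standard étale algebra is generated by the nilradical of the base. -/
theorem nilradical_standardEtalePair_le {R : Type*} [CommRing R] (P : StandardEtalePair R) :
    nilradical P.Ring ≤ (nilradical R).map (algebraMap R P.Ring) :=
  nilradical_le_map_of_algEquiv P.equivAwayAdjoinRoot
    (nilradical_away_adjoinRoot_le P.f P.g P.monic_f P.cond)

end Groth.Agent.Lib.Helper8
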