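import Mathlib
import Groth.Prelude

/-!
# Minimal primes of `normRed A ⊗[A] B` for `B` flat over `A`

Contraction along `B → normRed A ⊗[A] B` is a bijection on minimal primes whenever `B` is flat
over `A`.
-/

set_option autoImplicit false
universe u
open TensorProduct

namespace Groth.Agent.Lib.Helper8.MinPrimeNorm

/-- A surjection with nil kernel induces a bijection on minimal primes. -/
theorem bijOn_comap_of_surjective {R S : Type*} [CommRing R] [CommRing S] (f : R →+* S)
    (hf : Function.Surjective f) (hker : RingHom.ker f ≤ nilradical R) :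
    Set.BijOn (Ideal.comap f) (minimalPrimes S) (minimalPrimes R) := by
  have h1 : (RingHom.ker f).minimalPrimes = minimalPrimes R := by
    have : (fun q : Ideal R => q.IsPrime ∧ RingHom.ker f ≤ q) =
        (fun q : Ideal R => q.IsPrime ∧ ⊥ ≤ q) := by
      funext q
      apply propext
      constructor
      · intro h; exact ⟨h.1, bot_le⟩
      · intro h; exact ⟨h.1, hker.trans (haveI := h.1; nilradical_le_prime q)⟩
    ext p
    show Minimal (fun q : Ideal R => q.IsPrime ∧ RingHom.ker f ≤ q) p ↔
      Minimal (fun q : Ideal R => q.IsPrime ∧ ⊥ ≤ q) p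
    rw [this]
  have h2 := Ideal.comap_minimalPrimes_eq_of_surjective hf (⊥ : Ideal S)
  rw [← RingHom.ker_eq_comap_bot, h1] at h2
  refine ⟨?_, ?_, ?_⟩
  · intro P hP
    rw [h2]; exact ⟨P, hP, rfl⟩
  · intro P _ Q _ h
    exact Ideal.comap_injective_of_surjective f hf h
  · intro p hp
    rw [h2] at hp
    exact hp

/-- A ring isomorphism induces a bijection on minimal primes. -/
theorem bijOn_comap_ringEquiv {R S : Type*} [CommRing R] [CommRing S] (e : R ≃+* S) :
    Set.BijOn (Ideal.comap (e : R →+* S)) (minimalPrimes S) (minimalPrimes R) :=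
  bijOn_comap_of_surjective (e : R →+* S) e.surjective (by
    intro x hx
    have hx0 : e x = 0 := hx
    have : x = 0 := e.injective (by rw [map_zero]; exact hx0)
    rw [this]; exact zero_mem _)

/-- Localization at a submonoid of nonzerodivisors induces a bijection on minimal primes. -/
theorem bijOn_comap_of_isLocalization {R : Type*} [CommRing R] (M : Submonoid R)
    (hM : M ≤ nonZeroDivisors R) (T : Type*) [CommRing T] [Algebra R T] [IsLocalization M T] :
    Set.BijOn (Ideal.comap (algebraMap R T)) (minimalPrimes T) (minimalPrimes R) := by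
  have hinj : Function.Injective (algebraMap R T) := IsLocalization.injective T hM
  have h2 := IsLocalization.minimalPrimes_comap M T (⊥ : Ideal T)
  have h3 : (⊥ : Ideal T).comap (algebraMap R T) = ⊥ := by
    rw [← RingHom.ker_eq_comap_bot]; exact (RingHom.injective_iff_ker_eq_bot _).mp hinj
  rw [h3] at h2
  refine ⟨?_, ?_, ?_⟩
  · intro P hP
    show Ideal.comap (algebraMap R T) P ∈ (⊥ : Ideal R).minimalPrimes
    rw [h2]; exact ⟨P, hP, rfl⟩
  · intro P _ Q _ h
    have := congrArg (Ideal.map (algebraMap R T)) h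
    rwa [IsLocalization.map_under M T, IsLocalization.map_under M T] at this
  · intro p hp
    have : p ∈ (⊥ : Ideal R).minimalPrimes := hp
    rw [h2] at this
    exact this

/-- Sandwich lemma: if `R → R'' → T` with `T` a localization of `R` at nonzerodivisors and
`R'' → T` injective, then `R → R''` induces a bijection on minimal primes. -/
theorem bijOn_comap_of_sandwich {R R'' T : Type*} [CommRing R] [CommRing R''] [CommRing T]
    [Algebra R T] (M : Submonoid R) (hM : M ≤ nonZeroDivisors R) [IsLocalization M T]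
    (φ : R →+* R'') (ψ : R'' →+* T) (hψ : Function.Injective ψ)
    (hcomp : ∀ r, ψ (φ r) = algebraMap R T r) :
    Set.BijOn (Ideal.comap φ) (minimalPrimes R'') (minimalPrimes R) := by
  letI : Algebra R'' T := ψ.toAlgebra
  have halg : ∀ c, algebraMap R'' T c = ψ c := fun _ => rfl
  have hM'' : M.map (φ : R →* R'') ≤ nonZeroDivisors R'' := by
    rintro _ ⟨m, hm, rfl⟩
    rw [mem_nonZeroDivisors_iff_right]
    intro c hc
    apply hψ
    rw [map_zero]
    have hu : IsUnit (ψ (φ m)) := by rw [hcomp]; exact IsLocalization.map_units T ⟨m, hm⟩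
    have : ψ c * ψ (φ m) = 0 := by
      rw [← map_mul]
      have hc' : c * φ m = 0 := hc
      rw [hc', map_zero]
    exact hu.mul_left_eq_zero.mp this
  haveI : IsLocalization (M.map (φ : R →* R'')) T := by
    rw [isLocalization_iff]
    refine ⟨?_, ?_, ?_⟩
    · rintro ⟨_, m, hm, rfl⟩
      show IsUnit (ψ (φ m))
      rw [hcomp]; exact IsLocalization.map_units T ⟨m, hm⟩
    · intro z
      obtain ⟨⟨r, m⟩, h⟩ := IsLocalization.surj M z
      refine ⟨(φ r, ⟨φ m, m, m.2, rfl⟩), ?_⟩
      show z * ψ (φ m) = ψ (φ r)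
      rw [hcomp, hcomp]; exact h
    · intro x y h
      exact ⟨1, by rw [hψ h]⟩
  have hA := bijOn_comap_of_isLocalization (M.map (φ : R →* R'')) hM'' T
  have hB := bijOn_comap_of_isLocalization M hM T
  have key : ∀ Q : Ideal T, (Q.comap (algebraMap R'' T)).comap φ = Q.comap (algebraMap R T) := by
    intro Q
    rw [Ideal.comap_comap]
    congr 1
    exact RingHom.ext hcomp
  refine ⟨?_, ?_, ?_⟩
  · intro P hP
    obtain ⟨Q, hQ, rfl⟩ := hA.surjOn hP
    rw [key]; exact hB.mapsTo hQ
  · intro P₁ hP₁ P₂ hP₂ h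
    obtain ⟨Q₁, hQ₁, rfl⟩ := hA.surjOn hP₁
    obtain ⟨Q₂, hQ₂, rfl⟩ := hA.surjOn hP₂
    rw [key, key] at h
    rw [hB.injOn hQ₁ hQ₂ h]
  · intro p hp
    obtain ⟨Q, hQ, rfl⟩ := hB.surjOn hp
    exact ⟨Q.comap (algebraMap R'' T), hA.mapsTo hQ, key Q⟩

/-- Tensor version of the sandwich lemma. -/
theorem bijOn_comap_includeRight {R₀ : Type u} [CommRing R₀] (M₀ : Submonoid R₀)
    (hM₀ : M₀ ≤ nonZeroDivisors R₀) (K : Type u) [CommRing K] [Algebra R₀ K] [IsLocalization M₀ K]
    (R' : Type u) [CommRing R'] [Algebra R₀ R'] (j : R' →ₐ[R₀] K) (hj : Function.Injective j)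
    (S : Type u) [CommRing S] [Algebra R₀ S] [Module.Flat R₀ S] :
    Set.BijOn (Ideal.comap
        ((Algebra.TensorProduct.includeRight : S →ₐ[R₀] R' ⊗[R₀] S).toRingHom))
      (minimalPrimes (R' ⊗[R₀] S)) (minimalPrimes S) := by
  have hle : Algebra.algebraMapSubmonoid S M₀ ≤ nonZeroDivisors S := by
    rintro _ ⟨m, hm, rfl⟩
    have hreg : IsSMulRegular S m := Module.Flat.isSMulRegular_of_nonZeroDivisors (hM₀ hm)
    rw [mem_nonZeroDivisors_iff_right]
    intro c hc
    apply hreg
    show m • c = m • (0 : S)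
    rw [smul_zero, Algebra.smul_def, mul_comm]; exact hc
  have h1 : Function.Injective (Algebra.TensorProduct.map j (AlgHom.id R₀ S)) := by
    have := Module.Flat.rTensor_preserves_injective_linearMap (M := S) j.toLinearMap hj
    intro x y hxy
    exact this hxy
  let ψ : R' ⊗[R₀] S →+* S ⊗[R₀] K :=
    ((Algebra.TensorProduct.comm R₀ K S).toAlgHom.comp
      (Algebra.TensorProduct.map j (AlgHom.id R₀ S))).toRingHom
  have hψ : Function.Injective ψ := (Algebra.TensorProduct.comm R₀ K S).injective.comp h1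
  refine bijOn_comap_of_sandwich (T := S ⊗[R₀] K) (Algebra.algebraMapSubmonoid S M₀) hle _ ψ hψ ?_
  intro s
  show (Algebra.TensorProduct.comm R₀ K S)
    (Algebra.TensorProduct.map j (AlgHom.id R₀ S) ((1 : R') ⊗ₜ[R₀] s)) = _
  rw [Algebra.TensorProduct.map_tmul, map_one, AlgHom.id_apply, Algebra.TensorProduct.comm_tmul,
    Algebra.TensorProduct.algebraMap_apply]
  rfl

/-- **Main lemma**: for `B` flat over `A`, contraction along `B → normRed A ⊗[A] B` is a bijection
on minimal primes. -/
theorem bijOn_normRed (A B : Type u) [CommRing A] [CommRing B] [Algebra A B] [Module.Flat A B] :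
    Set.BijOn (fun P : Ideal (CAlg2.normRed A ⊗[A] B) =>
        P.comap (Algebra.TensorProduct.includeRight.toRingHom : B →+* CAlg2.normRed A ⊗[A] B))
      (minimalPrimes (CAlg2.normRed A ⊗[A] B)) (minimalPrimes B) := by
  have hG := bijOn_comap_includeRight (nonZeroDivisors (CAlg2.red A)) le_rfl
    (FractionRing (CAlg2.red A)) (CAlg2.normRed A)
    (integralClosure (CAlg2.red A) (FractionRing (CAlg2.red A))).val
    Subtype.val_injective (CAlg2.red A ⊗[A] B)
  let c := Algebra.TensorProduct.cancelBaseChange A (CAlg2.red A) (CAlg2.red A) (CAlg2.normRed A) B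
  let π : B →+* CAlg2.red A ⊗[A] B :=
    (Algebra.TensorProduct.includeRight : B →ₐ[A] CAlg2.red A ⊗[A] B).toRingHom
  let q := Algebra.TensorProduct.quotIdealMapEquivQuotTensor B (nilradical A)
  have hπ : ∀ b, π b = q (Ideal.Quotient.mk _ b) := fun b => rfl
  have hπs : Function.Surjective π := by
    intro y
    obtain ⟨z, rfl⟩ := q.surjective y
    obtain ⟨b, rfl⟩ := Ideal.Quotient.mk_surjective z
    exact ⟨b, hπ b⟩
  have hπk : RingHom.ker π ≤ nilradical B := by
    intro s hs
    have hs0 : π s = 0 := hs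
    rw [hπ] at hs0
    have h2 : Ideal.Quotient.mk ((nilradical A).map (algebraMap A B)) s = 0 := by
      apply q.injective; rw [hs0, map_zero]
    have h3 := Ideal.Quotient.eq_zero_iff_mem.mp h2
    have h4 : (nilradical A).map (algebraMap A B) ≤ nilradical B := by
      rw [Ideal.map_le_iff_le_comap]
      intro r hr
      exact (mem_nilradical.mp hr).map (algebraMap A B)
    exact h4 h3
  have h1 := bijOn_comap_of_surjective π hπs hπk
  have h3 := bijOn_comap_ringEquiv
    (R := CAlg2.normRed A ⊗[CAlg2.red A] (CAlg2.red A ⊗[A] B)) (S := CAlg2.normRed A ⊗[A] B)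
    c.toRingEquiv
  have h := h1.comp (hG.comp h3)
  refine h.congr ?_
  intro P _
  simp only [Function.comp_apply]
  rw [Ideal.comap_comap, Ideal.comap_comap]
  congr 1
  ext b
  simp [π, c]

end Groth.Agent.Lib.Helper8.MinPrimeNorm
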