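import Mathlib

/-!
# Structure of the integral closure of a reduced ring with finitely many minimal primes

For a reduced ring `R` with finitely many minimal primes, total fraction ring `K` and integral
closure `R'` of `R` in `K`, every prime `P` of `R'` admits a surjection `θ : R' → N` onto a normal
domain together with an idempotent-like element `e ∉ P` killing the kernel of `θ`.
-/

set_option autoImplicit false
universe u
open Polynomial

namespace Groth.Agent.Lib.Helper8.NormRedStruct

section Basic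

variable {R : Type u} [CommRing R] [IsReduced R]

theorem eq_zero_of_forall_mem {x : R} (h : ∀ p ∈ minimalPrimes R, x ∈ p) : x = 0 := by
  have h1 : x ∈ sInf (minimalPrimes R) := by
    rw [Ideal.mem_sInf]
    intro p hp; exact h p hp
  have h2 : sInf (minimalPrimes R) = nilradical R :=
    Ideal.sInf_minimalPrimes (I := (⊥ : Ideal R))
  rw [h2, nilradical_eq_zero] at h1
  simpa using h1

theorem mem_nonZeroDivisors_of_forall_notMem {y : R} (h : ∀ p ∈ minimalPrimes R, y ∉ p) :
    y ∈ nonZeroDivisors R := by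
  rw [mem_nonZeroDivisors_iff_right]
  intro x hx
  apply eq_zero_of_forall_mem
  intro p hp
  have hprime : p.IsPrime := hp.1.1
  have : x * y ∈ p := by rw [hx]; exact zero_mem _
  exact (hprime.mem_or_mem this).resolve_right (h p hp)

theorem exists_a (hfin : (minimalPrimes R).Finite) (p : Ideal R) (hp : p ∈ minimalPrimes R) :
    ∃ a : R, a ∉ p ∧ ∀ p' ∈ minimalPrimes R, p' ≠ p → a ∈ p' := by
  classical
  by_contra hcon
  push_neg at hcon
  have hle : (hfin.toFinset.erase p).inf id ≤ p := by
    intro a ha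
    by_contra hap
    obtain ⟨p', hp', hne, hap'⟩ := hcon a hap
    apply hap'
    have hmem : p' ∈ hfin.toFinset.erase p := by
      rw [Finset.mem_erase, Set.Finite.mem_toFinset]; exact ⟨hne, hp'⟩
    have : (hfin.toFinset.erase p).inf id ≤ id p' := Finset.inf_le hmem
    exact this ha
  have hprime : p.IsPrime := hp.1.1
  rw [Ideal.IsPrime.inf_le' hprime] at hle
  obtain ⟨p', hp', hle'⟩ := hle
  rw [Finset.mem_erase, Set.Finite.mem_toFinset] at hp'
  have hp'prime : p'.IsPrime := hp'.2.1.1
  have : p ≤ p' := hp.2 ⟨hp'prime, bot_le⟩ hle'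
  exact hp'.1 (le_antisymm hle' this)

end Basic

section Family

variable {R : Type u} [CommRing R] [IsReduced R] [Fintype (minimalPrimes R)]
  (a : minimalPrimes R → R)
  (ha1 : ∀ p : minimalPrimes R, a p ∉ p.1)
  (ha2 : ∀ p p' : minimalPrimes R, p' ≠ p → a p ∈ p'.1)

include ha2 in
theorem a_mul_a {p p' : minimalPrimes R} (h : p ≠ p') : a p * a p' = 0 := by
  apply eq_zero_of_forall_mem
  intro q hq
  by_cases hqp : (⟨q, hq⟩ : minimalPrimes R) = p
  · have h' : (⟨q, hq⟩ : minimalPrimes R) ≠ p' := by rw [hqp]; exact h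
    have : a p' ∈ q := ha2 p' ⟨q, hq⟩ h'
    exact Ideal.mul_mem_left _ _ this
  · have : a p ∈ q := ha2 p ⟨q, hq⟩ hqp
    exact Ideal.mul_mem_right _ _ this

include ha1 ha2 in
theorem mul_a_eq_zero_iff (p : minimalPrimes R) (r : R) : r * a p = 0 ↔ r ∈ p.1 := by
  constructor
  · intro h
    have hprime : p.1.IsPrime := p.2.1.1
    have : r * a p ∈ p.1 := by rw [h]; exact zero_mem _
    exact (hprime.mem_or_mem this).resolve_right (ha1 p)
  · intro h
    apply eq_zero_of_forall_mem
    intro q hq
    by_cases hqp : (⟨q, hq⟩ : minimalPrimes R) = p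
    · have : q = p.1 := congrArg Subtype.val hqp
      rw [this]; exact Ideal.mul_mem_right _ _ h
    · exact Ideal.mul_mem_left _ _ (ha2 p ⟨q, hq⟩ hqp)

/-- `dsum a c = ∑ c p * a p`. -/
def dsum (c : minimalPrimes R → R) : R := ∑ p, c p * a p

include ha2 in
theorem dsum_sub_mem (c : minimalPrimes R → R) (q : minimalPrimes R) :
    dsum a c - c q * a q ∈ q.1 := by
  classical
  unfold dsum
  rw [← Finset.add_sum_erase Finset.univ _ (Finset.mem_univ q), add_sub_cancel_left]
  apply Ideal.sum_mem
  intro p hp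
  have hne : p ≠ q := (Finset.mem_erase.mp hp).1
  exact Ideal.mul_mem_left _ _ (ha2 p q hne.symm)

include ha1 ha2 in
theorem dsum_mem_nonZeroDivisors (c : minimalPrimes R → R) (hc : ∀ p : minimalPrimes R, c p ∉ p.1) :
    dsum a c ∈ nonZeroDivisors R := by
  apply mem_nonZeroDivisors_of_forall_notMem
  intro q hq hmem
  have h1 := dsum_sub_mem a ha2 c ⟨q, hq⟩
  have h2 : c ⟨q, hq⟩ * a ⟨q, hq⟩ ∈ q := by
    have := sub_mem hmem h1
    simpa using this
  have hprime : q.IsPrime := hq.1.1
  rcases hprime.mem_or_mem h2 with h | h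
  · exact hc ⟨q, hq⟩ h
  · exact ha1 ⟨q, hq⟩ h

theorem one_notMem (p : minimalPrimes R) : (1 : R) ∉ p.1 := by
  have hprime : p.1.IsPrime := p.2.1.1
  exact fun h => hprime.ne_top ((Ideal.eq_top_iff_one _).mpr h)

variable (K : Type u) [CommRing K] [Algebra R K] [IsFractionRing R K]
  (u : K) (hu : algebraMap R K (dsum a (fun _ => 1)) * u = 1)

/-- The idempotent of `K` attached to the minimal prime `p`. -/
def idem (p : minimalPrimes R) : K := algebraMap R K (a p) * u

include hu in
theorem isUnit_u : IsUnit u :=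
  ⟨⟨u, algebraMap R K (dsum a (fun _ => 1)), by rw [mul_comm]; exact hu, hu⟩, rfl⟩

include ha1 ha2 hu in
theorem algebraMap_mul_idem_eq_zero_iff (p : minimalPrimes R) (r : R) :
    algebraMap R K r * idem a K u p = 0 ↔ r ∈ p.1 := by
  unfold idem
  rw [← mul_assoc, ← map_mul, (isUnit_u a K u hu).mul_left_eq_zero,
    map_eq_zero_iff _ (IsFractionRing.injective R K)]
  exact mul_a_eq_zero_iff a ha1 ha2 p r

include hu in
theorem sum_idem : ∑ p, idem a K u p = 1 := by
  unfold idem
  rw [← Finset.sum_mul, ← map_sum]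
  have : dsum a (fun _ => 1) = ∑ p, a p := by simp [dsum]
  rw [← this]
  exact hu

include ha2 in
theorem idem_mul_idem {p p' : minimalPrimes R} (h : p ≠ p') :
    idem a K u p * idem a K u p' = 0 := by
  unfold idem
  rw [mul_mul_mul_comm, ← map_mul, a_mul_a a ha2 h, map_zero, zero_mul]

include ha2 hu in
theorem idem_mul_self (p : minimalPrimes R) : idem a K u p * idem a K u p = idem a K u p := by
  classical
  have h1 : idem a K u p = idem a K u p * ∑ q, idem a K u q := by
    rw [sum_idem a K u hu, mul_one]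
  rw [Finset.mul_sum] at h1
  rw [Finset.sum_eq_single p (fun q _ hq => idem_mul_idem a ha2 K u (Ne.symm hq))
    (fun h => absurd (Finset.mem_univ p) h)] at h1
  exact h1.symm

include ha2 hu in
theorem isIntegral_idem (p : minimalPrimes R) : IsIntegral R (idem a K u p) := by
  refine ⟨X ^ 2 - X, monic_X_pow_sub (lt_of_le_of_lt degree_X_le (by exact_mod_cast one_lt_two)), ?_⟩
  rw [eval₂_sub, eval₂_pow, eval₂_X, pow_two, idem_mul_self a ha2 K u hu p, sub_self]

theorem isPrime_coe (p : minimalPrimes R) : p.1.IsPrime := p.2.1.1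

attribute [local instance] isPrime_coe

theorem isUnit_g (p : minimalPrimes R) (y : nonZeroDivisors R) :
    IsUnit (((algebraMap (R ⧸ p.1) (FractionRing (R ⧸ p.1))).comp (Ideal.Quotient.mk p.1)) y) := by
  have hy : (y : R) ∉ p.1 := fun h =>
    Set.disjoint_left.mp (Ideal.disjoint_nonZeroDivisors_of_mem_minimalPrimes p.2) h y.2
  rw [RingHom.comp_apply]
  apply IsUnit.mk0
  intro h0
  have : Ideal.Quotient.mk p.1 (y : R) = 0 :=
    (IsFractionRing.injective (R ⧸ p.1) (FractionRing (R ⧸ p.1))) (h0.trans (map_zero _).symm)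
  exact hy (Ideal.Quotient.eq_zero_iff_mem.mp this)

/-- The projection of the total fraction ring onto the fraction field of `R ⧸ p`. -/
noncomputable def rho (p : minimalPrimes R) : K →+* FractionRing (R ⧸ p.1) :=
  IsLocalization.lift (M := nonZeroDivisors R) (isUnit_g p)

theorem rho_algebraMap (p : minimalPrimes R) (r : R) :
    rho K p (algebraMap R K r) =
      algebraMap (R ⧸ p.1) (FractionRing (R ⧸ p.1)) (Ideal.Quotient.mk p.1 r) :=
  IsLocalization.lift_eq _ r

include ha1 ha2 hu in
theorem rho_eq_zero_iff (p : minimalPrimes R) (z : K) :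
    rho K p z = 0 ↔ z * idem a K u p = 0 := by
  obtain ⟨⟨r, t⟩, hrt⟩ := IsLocalization.surj (nonZeroDivisors R) z
  simp only at hrt
  have ht1 : IsUnit (algebraMap R K t) := IsLocalization.map_units K t
  have ht2 : IsUnit (rho K p (algebraMap R K t)) := ht1.map _
  calc rho K p z = 0 ↔ rho K p z * rho K p (algebraMap R K t) = 0 := ht2.mul_left_eq_zero.symm
    _ ↔ rho K p (algebraMap R K r) = 0 := by rw [← map_mul, hrt]
    _ ↔ Ideal.Quotient.mk p.1 r = 0 := by
        rw [rho_algebraMap]
        exact map_eq_zero_iff _ (IsFractionRing.injective (R ⧸ p.1) (FractionRing (R ⧸ p.1)))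
    _ ↔ r ∈ p.1 := Ideal.Quotient.eq_zero_iff_mem
    _ ↔ algebraMap R K r * idem a K u p = 0 :=
        (algebraMap_mul_idem_eq_zero_iff a ha1 ha2 K u hu p r).symm
    _ ↔ z * algebraMap R K t * idem a K u p = 0 := by rw [hrt]
    _ ↔ z * idem a K u p = 0 := by rw [mul_right_comm]; exact ht1.mul_left_eq_zero

include ha1 ha2 hu in
theorem rho_idem (p : minimalPrimes R) : rho K p (idem a K u p) = 1 := by
  have h : rho K p (1 - idem a K u p) = 0 := by
    rw [rho_eq_zero_iff a ha1 ha2 K u hu, sub_mul, one_mul, idem_mul_self a ha2 K u hu, sub_self]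
  rw [map_sub, map_one, sub_eq_zero] at h
  exact h.symm

include ha1 ha2 in
theorem rho_surjective (p : minimalPrimes R) : Function.Surjective (rho K p) := by
  classical
  intro w
  obtain ⟨b', t', rfl⟩ := IsLocalization.exists_mk'_eq (nonZeroDivisors (R ⧸ p.1)) w
  obtain ⟨b, rfl⟩ := Ideal.Quotient.mk_surjective b'
  obtain ⟨t, ht⟩ := Ideal.Quotient.mk_surjective (t' : R ⧸ p.1)
  have htp : t ∉ p.1 := by
    intro h
    have h0 : (t' : R ⧸ p.1) = 0 := by rw [← ht]; exact Ideal.Quotient.eq_zero_iff_mem.mpr h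
    exact nonZeroDivisors.coe_ne_zero t' h0
  let c : minimalPrimes R → R := fun q => if q = p then t else 1
  have hc : ∀ q : minimalPrimes R, c q ∉ q.1 := by
    intro q
    by_cases h : q = p
    · simp only [c, h, if_true]; exact htp
    · simp only [c, h, if_false]; exact one_notMem q
  have hd := dsum_mem_nonZeroDivisors a ha1 ha2 c hc
  have hdp : dsum a c - t * a p ∈ p.1 := by
    have := dsum_sub_mem a ha2 c p
    simpa [c] using this
  refine ⟨IsLocalization.mk' K (b * a p) ⟨dsum a c, hd⟩, ?_⟩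
  have h1 : rho K p (IsLocalization.mk' K (b * a p) ⟨dsum a c, hd⟩) *
      rho K p (algebraMap R K (dsum a c)) = rho K p (algebraMap R K (b * a p)) := by
    rw [← map_mul]
    congr 1
    exact IsLocalization.mk'_spec K (b * a p) ⟨dsum a c, hd⟩
  rw [rho_algebraMap, rho_algebraMap] at h1
  have h2 : Ideal.Quotient.mk p.1 (dsum a c) = Ideal.Quotient.mk p.1 (t * a p) :=
    Ideal.Quotient.eq.mpr hdp
  rw [h2] at h1
  simp only [map_mul] at h1
  rw [ht] at h1
  have hap : algebraMap (R ⧸ p.1) (FractionRing (R ⧸ p.1)) (Ideal.Quotient.mk p.1 (a p)) ≠ 0 := by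
    intro h0
    have : Ideal.Quotient.mk p.1 (a p) = 0 :=
      (IsFractionRing.injective (R ⧸ p.1) (FractionRing (R ⧸ p.1))) (h0.trans (map_zero _).symm)
    exact ha1 p (Ideal.Quotient.eq_zero_iff_mem.mp this)
  rw [IsLocalization.eq_mk'_iff_mul_eq]
  apply mul_right_cancel₀ hap
  rw [mul_assoc]
  exact h1

/-- The induced map on integral closures. -/
noncomputable def theta (p : minimalPrimes R) :
    integralClosure R K →+* integralClosure (R ⧸ p.1) (FractionRing (R ⧸ p.1)) :=
  RingHom.codRestrict ((rho K p).comp (algebraMap (integralClosure R K) K))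
    (integralClosure (R ⧸ p.1) (FractionRing (R ⧸ p.1))) (fun x =>
      IsIntegral.map_of_comp_eq (Ideal.Quotient.mk p.1) (rho K p)
        (RingHom.ext fun r => (rho_algebraMap K p r).symm) x.2)

theorem theta_coe (p : minimalPrimes R) (x : integralClosure R K) :
    ((theta K p x : integralClosure (R ⧸ p.1) (FractionRing (R ⧸ p.1))) :
      FractionRing (R ⧸ p.1)) = rho K p (x : K) := rfl

include ha1 ha2 hu in
theorem theta_surjective (p : minimalPrimes R) : Function.Surjective (theta K p) := by
  rintro ⟨w, hw⟩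
  obtain ⟨W, rfl⟩ := rho_surjective a ha1 ha2 K p w
  obtain ⟨f', hf'monic, hf'⟩ := hw
  obtain ⟨f, hf, -, hfmonic⟩ := lifts_and_natDegree_eq_and_monic
    ((mem_lifts _).mpr (map_surjective _ Ideal.Quotient.mk_surjective f')) hf'monic
  have hx : IsIntegral R (W * idem a K u p) := by
    refine ⟨X * f, monic_X.mul hfmonic, ?_⟩
    have h0 : rho K p (eval₂ (algebraMap R K) (W * idem a K u p) f) = 0 := by
      rw [hom_eval₂, map_mul, rho_idem a ha1 ha2 K u hu, mul_one]
      have : (rho K p).comp (algebraMap R K) =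
          (algebraMap (R ⧸ p.1) (FractionRing (R ⧸ p.1))).comp (Ideal.Quotient.mk p.1) :=
        RingHom.ext fun r => rho_algebraMap K p r
      rw [this, ← eval₂_map, hf]
      exact hf'
    rw [rho_eq_zero_iff a ha1 ha2 K u hu] at h0
    rw [eval₂_mul, eval₂_X, mul_assoc, mul_comm (idem a K u p), h0, mul_zero]
  refine ⟨⟨W * idem a K u p, hx⟩, ?_⟩
  apply Subtype.ext
  rw [theta_coe]
  show rho K p (W * idem a K u p) = rho K p W
  rw [map_mul, rho_idem a ha1 ha2 K u hu, mul_one]

include ha1 ha2 hu in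
theorem mul_idem_eq_zero_of_theta (p : minimalPrimes R) (x : integralClosure R K)
    (hx : theta K p x = 0) : (x : K) * idem a K u p = 0 := by
  rw [← rho_eq_zero_iff a ha1 ha2 K u hu, ← theta_coe, hx]
  rfl

end Family

section Main

variable {R : Type u} [CommRing R] [IsReduced R]

/-- **Structure theorem.** -/
theorem exists_normal_quotient (hfin : (minimalPrimes R).Finite)
    (P : Ideal (integralClosure R (FractionRing R))) [P.IsPrime] :
    ∃ (N : Type u) (_ : CommRing N) (_ : IsDomain N) (_ : IsIntegrallyClosed N)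
      (θ : integralClosure R (FractionRing R) →+* N) (e : integralClosure R (FractionRing R)),
      Function.Surjective θ ∧ e ∉ P ∧ ∀ x, θ x = 0 → x * e = 0 := by
  classical
  haveI := hfin.fintype
  have hex : ∀ p : minimalPrimes R, ∃ a : R, a ∉ p.1 ∧
      ∀ p' ∈ minimalPrimes R, p' ≠ p.1 → a ∈ p' := fun p => exists_a hfin p.1 p.2
  choose a ha1 ha2' using hex
  have ha2 : ∀ p p' : minimalPrimes R, p' ≠ p → a p ∈ p'.1 := fun p p' h =>
    ha2' p p'.1 p'.2 (fun h' => h (Subtype.ext h'))
  have hs := dsum_mem_nonZeroDivisors a ha1 ha2 (fun _ => 1) one_notMem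
  let K := FractionRing R
  let u : K := IsLocalization.mk' K (1 : R) ⟨dsum a (fun _ => 1), hs⟩
  have hu : algebraMap R K (dsum a (fun _ => 1)) * u = 1 := by
    have := IsLocalization.mk'_spec' K (1 : R) ⟨dsum a (fun _ => 1), hs⟩
    rw [map_one] at this
    exact this
  let e : minimalPrimes R → integralClosure R K := fun p =>
    ⟨idem a K u p, isIntegral_idem a ha2 K u hu p⟩
  have hsum : ∑ p, e p = 1 := by
    apply Subtype.ext
    have : ((∑ p, e p : integralClosure R K) : K) = ∑ p, idem a K u p := by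
      rw [← Subalgebra.coe_val, map_sum]
      rfl
    rw [this, sum_idem a K u hu]
    rfl
  have hexp : ∃ p, e p ∉ P := by
    by_contra hcon
    push_neg at hcon
    have : (1 : integralClosure R K) ∈ P := by
      rw [← hsum]; exact Ideal.sum_mem _ (fun p _ => hcon p)
    exact (inferInstance : P.IsPrime).ne_top ((Ideal.eq_top_iff_one _).mpr this)
  obtain ⟨p, hp⟩ := hexp
  haveI : p.1.IsPrime := isPrime_coe p
  refine ⟨integralClosure (R ⧸ p.1) (FractionRing (R ⧸ p.1)), inferInstance, inferInstance,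
    integralClosure.isIntegrallyClosedOfFiniteExtension (FractionRing (R ⧸ p.1)),
    theta K p, e p, theta_surjective a ha1 ha2 K u hu p, hp, ?_⟩
  intro x hx
  apply Subtype.ext
  exact mul_idem_eq_zero_of_theta a ha1 ha2 K u hu p x hx

end Main

end Groth.Agent.Lib.Helper8.NormRedStruct
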