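import Mathlib
import Groth.Agent.S0502

/-!
# A local ring over which finite-type algebras split off their finite part is henselian
-/

set_option autoImplicit false
universe u
open IsLocalRing

namespace Groth.Agent.Lib.Helper8.HenselSplitConv

theorem isLocalHom_of_isIntegral (R A : Type*) [CommRing R] [IsLocalRing R] [CommRing A]
    [IsLocalRing A] [Algebra R A] [Algebra.IsIntegral R A] : IsLocalHom (algebraMap R A) := by
  refine ⟨fun r hr => ?_⟩
  by_contra hnu
  have h1 : ((maximalIdeal A).comap (algebraMap R A)).IsMaximal :=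
    Ideal.isMaximal_comap_of_isIntegral_of_isMaximal _
  have h2 : (maximalIdeal A).comap (algebraMap R A) = maximalIdeal R := eq_maximalIdeal h1
  have h3 : r ∈ (maximalIdeal A).comap (algebraMap R A) := by
    rw [h2]; exact (mem_maximalIdeal r).mpr hnu
  exact ((mem_maximalIdeal _).mp h3) hr

/-- A finite flat unramified local algebra with trivial residue field extension is trivial. -/
theorem algebraMap_bijective_of_finite_flat_unramified (R A : Type u) [CommRing R] [IsLocalRing R]
    [CommRing A] [IsLocalRing A] [Algebra R A] [Module.Finite R A] [Module.Flat R A]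
    [Algebra.FormallyUnramified R A]
    (hres : ∀ a : A, ∃ r : R, a - algebraMap R A r ∈ maximalIdeal A) :
    Function.Bijective (algebraMap R A) := by
  have hloc : IsLocalHom (algebraMap R A) := isLocalHom_of_isIntegral R A
  have hm : (maximalIdeal R).map (algebraMap R A) = maximalIdeal A :=
    Algebra.FormallyUnramified.map_maximalIdeal
  constructor
  · have : Module.FaithfullyFlat R A := Module.FaithfullyFlat.of_flat_of_isLocalHom
    exact FaithfulSMul.algebraMap_injective R A
  · have key : (⊤ : Submodule R A) ≤ LinearMap.range (Algebra.linearMap R A) := by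
      apply Submodule.le_of_le_smul_of_le_jacobson_bot (I := maximalIdeal R) Module.Finite.fg_top
        (IsLocalRing.maximalIdeal_le_jacobson ⊥)
      intro a _
      obtain ⟨r, hr⟩ := hres a
      have h1 : a = algebraMap R A r + (a - algebraMap R A r) := by ring
      rw [h1]
      refine Submodule.add_mem_sup ⟨r, rfl⟩ ?_
      rw [Ideal.smul_top_eq_map, hm]
      exact hr
    intro a
    obtain ⟨r, hr⟩ := key (Submodule.mem_top (x := a))
    exact ⟨r, hr⟩

variable (R : Type u) [CommRing R] [IsLocalRing R]

theorem exists_retraction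
    (h : ∀ (S : Type u) [CommRing S] [Algebra R S] [Algebra.FiniteType R S],
      ∃ e : S, IsIdempotentElem e ∧ Module.Finite R (S ⧸ Ideal.span ({1 - e} : Set S)) ∧
        ∀ (q : Ideal (S ⧸ Ideal.span ({e} : Set S))) [q.IsPrime],
          q.LiesOver (IsLocalRing.maximalIdeal R) → ¬ Algebra.QuasiFiniteAt R q)
    (S : Type u) [CommRing S] [Algebra R S] [Algebra.Etale R S] (q : Ideal S) [hqp : q.IsPrime]
    (hq : q.LiesOver (maximalIdeal R)) (hsurj : Function.Surjective (algebraMap R q.ResidueField)) :
    Nonempty (S →ₐ[R] R) := by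
  classical
  -- Step 0: residues
  have hres : ∀ s : S, ∃ r : R, s - algebraMap R S r ∈ q := by
    intro s
    obtain ⟨r, hr⟩ := hsurj (algebraMap S q.ResidueField s)
    refine ⟨r, ?_⟩
    rw [← Ideal.algebraMap_residueField_eq_zero, map_sub, ← IsScalarTower.algebraMap_apply, hr,
      sub_self]
  -- Step 1: choose g
  have hfin : ((maximalIdeal R).primesOver S).Finite := Algebra.QuasiFinite.finite_primesOver _
  have hx : ∀ q' : Ideal S, q' ∈ (maximalIdeal R).primesOver S → q' ≠ q → ∃ x ∈ q', x ∉ q := by
    intro q' hq' hne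
    by_contra hcon
    push_neg at hcon
    have : q'.IsPrime := hq'.1
    have : q'.LiesOver (maximalIdeal R) := hq'.2
    exact hne (Algebra.QuasiFinite.eq_of_le_of_under_eq (R := R) q' q hcon
      (by rw [← Ideal.over_def q' (maximalIdeal R), ← Ideal.over_def q (maximalIdeal R)]))
  choose! x hx1 hx2 using hx
  let P : Finset (Ideal S) := hfin.toFinset.erase q
  let g : S := ∏ q' ∈ P, x q'
  have hgq : g ∉ q := by
    intro hg
    obtain ⟨q', hq'P, hxq⟩ := (Ideal.IsPrime.prod_mem_iff).mp hg
    rw [Finset.mem_erase, Set.Finite.mem_toFinset] at hq'P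
    exact hx2 q' hq'P.2 hq'P.1 hxq
  have hg : ∀ q' : Ideal S, q' ∈ (maximalIdeal R).primesOver S → q' ≠ q → g ∈ q' := by
    intro q' hq' hne
    have hmem : q' ∈ P := by
      rw [Finset.mem_erase, Set.Finite.mem_toFinset]
      exact ⟨hne, hq'⟩
    obtain ⟨c, hc⟩ := Finset.dvd_prod_of_mem x hmem
    change (∏ q' ∈ P, x q') ∈ q'
    rw [hc]
    exact Ideal.mul_mem_right _ _ (hx1 q' hq' hne)
  -- Step 2: localize and apply `h`
  let S' := Localization.Away g
  obtain ⟨e, he, hfinA, hB⟩ := h S'
  have hdisj : Disjoint (Submonoid.powers g : Set S) (q : Set S) := by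
    rw [Set.disjoint_left]
    rintro _ ⟨n, rfl⟩ hn
    exact hgq (hqp.mem_of_pow_mem n hn)
  let Q : Ideal S' := q.map (algebraMap S S')
  have hQp : Q.IsPrime := IsLocalization.isPrime_of_isPrime_disjoint (.powers g) S' q hqp hdisj
  have hQc : Q.comap (algebraMap S S') = q :=
    IsLocalization.under_map_of_isPrime_disjoint (.powers g) S' hqp hdisj
  have hQo : Q.LiesOver (maximalIdeal R) := ⟨by
    rw [Ideal.under, IsScalarTower.algebraMap_eq R S S', ← Ideal.comap_comap, hQc]
    exact hq.over⟩
  -- Step 3: `1 - e ∈ Q`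
  have heQ : e ∉ Q := by
    intro heQ
    let B := S' ⧸ Ideal.span ({e} : Set S')
    have hle : RingHom.ker (Ideal.Quotient.mk (Ideal.span ({e} : Set S'))) ≤ Q := by
      rw [Ideal.mk_ker, Ideal.span_le, Set.singleton_subset_iff]
      exact heQ
    let QB : Ideal B := Q.map (Ideal.Quotient.mk _)
    have hQBp : QB.IsPrime := Ideal.map_isPrime_of_surjective Ideal.Quotient.mk_surjective hle
    have hQBc : QB.comap (Ideal.Quotient.mk _) = Q :=
      Ideal.comap_map_of_surjective' _ Ideal.Quotient.mk_surjective _ |>.trans (by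
        rw [sup_eq_left]; exact hle)
    have hQBo : QB.LiesOver (maximalIdeal R) := ⟨by
      rw [Ideal.under, IsScalarTower.algebraMap_eq R S' B, ← Ideal.comap_comap]
      change _ = (QB.comap (Ideal.Quotient.mk _)).comap _
      rw [hQBc]
      exact hQo.over⟩
    exact hB QB hQBo inferInstance
  have h1eQ : 1 - e ∈ Q := by
    have : e * (1 - e) ∈ Q := by
      rw [mul_sub, mul_one, he.eq, sub_self]; exact Q.zero_mem
    exact (hQp.mem_or_mem this).resolve_left heQ
  -- Step 4: `A'` is local
  let A' := S' ⧸ Ideal.span ({1 - e} : Set S')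
  let π : S' →+* A' := Ideal.Quotient.mk _
  have hπ : Function.Surjective π := Ideal.Quotient.mk_surjective
  have hker : RingHom.ker π ≤ Q := by
    rw [Ideal.mk_ker, Ideal.span_le, Set.singleton_subset_iff]
    exact h1eQ
  have hnt : Nontrivial A' := by
    refine Ideal.Quotient.nontrivial_iff.mpr fun htop => hQp.ne_top ?_
    have hk : RingHom.ker π = ⊤ := by rw [Ideal.mk_ker]; exact htop
    exact eq_top_iff.mpr (hk ▸ hker)
  have hmax : ∀ M : Ideal A', M.IsMaximal → M.comap π = Q := by
    intro M hM
    have h1 : (M.comap (algebraMap R A')).IsMaximal :=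
      Ideal.isMaximal_comap_of_isIntegral_of_isMaximal M
    have h2 : M.comap (algebraMap R A') = maximalIdeal R := eq_maximalIdeal h1
    let M' : Ideal S' := M.comap π
    have hM'p : M'.IsPrime := Ideal.comap_isPrime _ _
    let M'' : Ideal S := M'.comap (algebraMap S S')
    have hM''p : M''.IsPrime := Ideal.comap_isPrime _ _
    have hM''o : M''.LiesOver (maximalIdeal R) := ⟨by
      rw [← h2]
      change _ = ((M.comap π).comap (algebraMap S S')).comap (algebraMap R S)
      rw [Ideal.comap_comap, Ideal.comap_comap]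
      rfl⟩
    have hgM : g ∉ M'' := by
      intro hgM
      have hu : IsUnit (algebraMap S S' g) := IsLocalization.Away.algebraMap_isUnit g
      exact hM'p.ne_top (Ideal.eq_top_of_isUnit_mem _ hgM hu)
    have hM''q : M'' = q := by
      by_contra hne
      exact hgM (hg M'' ⟨hM''p, hM''o⟩ hne)
    have : M' = Q := by
      rw [← IsLocalization.map_under (.powers g) S' M']
      change M''.map _ = _
      rw [hM''q]
    exact this
  have hloc : IsLocalRing A' := by
    obtain ⟨M, hM⟩ := Ideal.exists_maximal A'
    refine IsLocalRing.of_unique_max_ideal ⟨M, hM, fun M' hM' => ?_⟩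
    rw [← Ideal.map_comap_of_surjective π hπ M', ← Ideal.map_comap_of_surjective π hπ M,
      hmax M hM, hmax M' hM']
  have hmA : (maximalIdeal A').comap π = Q := hmax _ (maximalIdeal.isMaximal A')
  -- Step 5: residues of `A'`
  have hresA : ∀ a : A', ∃ r : R, a - algebraMap R A' r ∈ maximalIdeal A' := by
    intro a
    obtain ⟨s', rfl⟩ := hπ a
    obtain ⟨s, ⟨_, n, rfl⟩, rfl⟩ := IsLocalization.exists_mk'_eq (.powers g) s'
    obtain ⟨rs, hrs⟩ := hres s
    obtain ⟨rg, hrg⟩ := hres (g ^ n)
    have hrgu : IsUnit rg := by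
      by_contra hnu
      have h1 : rg ∈ maximalIdeal R := (mem_maximalIdeal rg).mpr hnu
      rw [hq.over] at h1
      have h2 : algebraMap R S rg ∈ q := h1
      have h3 : g ^ n ∈ q := by
        have := q.add_mem hrg h2
        rwa [sub_add_cancel] at this
      exact hgq (hqp.mem_of_pow_mem n h3)
    obtain ⟨u, rfl⟩ := hrgu
    refine ⟨rs * (u⁻¹ : Rˣ), ?_⟩
    set m : S' := IsLocalization.mk' S' s (⟨g ^ n, n, rfl⟩ : Submonoid.powers g) with hmdef
    have hm : m * algebraMap S S' (g ^ n) = algebraMap S S' s :=
      IsLocalization.mk'_spec S' s (⟨g ^ n, n, rfl⟩ : Submonoid.powers g)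
    have hgoal : m - algebraMap R S' (rs * (u⁻¹ : Rˣ)) ∈ Q := by
      have hgn : algebraMap S S' (g ^ n) ∉ Q := by
        intro hc
        have : g ^ n ∈ Q.comap (algebraMap S S') := hc
        rw [hQc] at this
        exact hgq (hqp.mem_of_pow_mem n this)
      refine (hQp.mem_or_mem (?_ : (m - algebraMap R S' (rs * (u⁻¹ : Rˣ))) *
        algebraMap S S' (g ^ n) ∈ Q)).resolve_right hgn
      have e1 : (m - algebraMap R S' (rs * (u⁻¹ : Rˣ))) * algebraMap S S' (g ^ n) =
          algebraMap S S' (s - algebraMap R S rs) +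
            algebraMap R S' (rs * (u⁻¹ : Rˣ)) *
              algebraMap S S' (algebraMap R S (u : R) - g ^ n) := by
        rw [sub_mul, hm]
        simp only [map_sub, map_mul, ← IsScalarTower.algebraMap_apply R S S']
        have : algebraMap R S' (u : R) * algebraMap R S' ((u⁻¹ : Rˣ) : R) = 1 := by
          rw [← map_mul, Units.mul_inv, map_one]
        linear_combination (-(algebraMap R S' rs)) * this
      rw [e1]
      refine Q.add_mem (Ideal.mem_map_of_mem _ hrs) (Q.mul_mem_left _ (Ideal.mem_map_of_mem _ ?_))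
      have := q.neg_mem hrg
      rwa [neg_sub] at this
    have : π m - algebraMap R A' (rs * (u⁻¹ : Rˣ)) =
        π (m - algebraMap R S' (rs * (u⁻¹ : Rˣ))) := by
      rw [map_sub]; rfl
    rw [this, ← Ideal.mem_comap, hmA]
    exact hgoal
  -- Step 6: `R ≃ A'`
  have hflat : Module.Flat R A' := by
    have : IsLocalization.Away e A' := IsLocalization.Away.quotient_of_isIdempotentElem he
    have : Module.Flat S' A' := IsLocalization.flat A' (Submonoid.powers e)
    exact Module.Flat.trans R S' A'
  have hunr : Algebra.FormallyUnramified R A' :=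
    Algebra.FormallyUnramified.of_surjective (Ideal.Quotient.mkₐ R _) Ideal.Quotient.mk_surjective
  have hbij := algebraMap_bijective_of_finite_flat_unramified R A' hresA
  let eq : R ≃ₐ[R] A' := AlgEquiv.ofBijective (Algebra.ofId R A') hbij
  exact ⟨eq.symm.toAlgHom.comp ((Ideal.Quotient.mkₐ R _).comp (IsScalarTower.toAlgHom R S S'))⟩

theorem henselianLocalRing
    (h : ∀ (S : Type u) [CommRing S] [Algebra R S] [Algebra.FiniteType R S],
      ∃ e : S, IsIdempotentElem e ∧ Module.Finite R (S ⧸ Ideal.span ({1 - e} : Set S)) ∧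
        ∀ (q : Ideal (S ⧸ Ideal.span ({e} : Set S))) [q.IsPrime],
          q.LiesOver (IsLocalRing.maximalIdeal R) → ¬ Algebra.QuasiFiniteAt R q) :
    HenselianLocalRing R :=
  Groth.Agent.S0502.result R fun S _ _ _ q _ hq hsurj => exists_retraction R h S q hq hsurj

end Groth.Agent.Lib.Helper8.HenselSplitConv
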