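import Mathlib

/-!
# Modules over an unramified algebra that are flat over the base are flat over the algebra

If `E` is a formally unramified `A`-algebra essentially of finite type and `M` is an `E`-module,
then `M` is a retract of `E ⊗[A] M` as an `E`-module. In particular `M` is flat over `E` as soon
as it is flat over `A`.
-/

set_option autoImplicit false
universe u

open TensorProduct

namespace Groth.Agent.Lib.Helper8

section Retract

variable {A E : Type*} [CommRing A] [CommRing E] [Algebra A E] (M : Type*) [AddCommGroup M]
  [Module A M] [Module E M] [IsScalarTower A E M]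

/-- The action of `E ⊗[A] E` on `1 ⊗ M ⊆ E ⊗[A] M`: `(a ⊗ b) • m = a ⊗ b m`. -/
noncomputable def actMap : E ⊗[A] E →ₗ[A] M →ₗ[A] E ⊗[A] M :=
  TensorProduct.lift
    (LinearMap.mk₂ A (fun a b => (TensorProduct.mk A E M a).comp (Algebra.lsmul A A M b))
      (fun a a' b => by ext m; simp [TensorProduct.add_tmul])
      (fun c a b => by ext m; simp [TensorProduct.smul_tmul'])
      (fun a b b' => by ext m; simp [add_smul, TensorProduct.tmul_add])
      (fun c a b => by ext m; simp))

@[simp]
lemma actMap_tmul (a b : E) (m : M) : actMap (A := A) M (a ⊗ₜ b) m = a ⊗ₜ (b • m) := by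
  simp [actMap]

lemma actMap_mul_right (t : E ⊗[A] E) (s : E) (m : M) :
    actMap M (t * ((1 : E) ⊗ₜ[A] s)) m = actMap M t (s • m) := by
  induction t using TensorProduct.induction_on with
  | zero => simp
  | tmul a b => simp [Algebra.TensorProduct.tmul_mul_tmul, mul_smul]
  | add x y hx hy => rw [add_mul, map_add, map_add, LinearMap.add_apply, LinearMap.add_apply, hx, hy]

lemma actMap_mul_left (t : E ⊗[A] E) (s : E) (m : M) :
    actMap M (t * (s ⊗ₜ[A] (1 : E))) m = s • actMap M t m := by
  induction t using TensorProduct.induction_on with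
  | zero => simp
  | tmul a b =>
    simp only [Algebra.TensorProduct.tmul_mul_tmul, mul_one, actMap_tmul]
    rw [TensorProduct.smul_tmul', smul_eq_mul, mul_comm]
  | add x y hx hy =>
    rw [add_mul, map_add, map_add, LinearMap.add_apply, LinearMap.add_apply, hx, hy, smul_add]

/-- The canonical retraction `E ⊗[A] M → M`. -/
noncomputable def retr : E ⊗[A] M →ₗ[E] M :=
  LinearMap.liftBaseChange E ((LinearMap.id : M →ₗ[E] M).restrictScalars A)

@[simp]
lemma retr_tmul (e : E) (m : M) : retr (A := A) M (e ⊗ₜ m) = e • m := by
  simp [retr]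

lemma retr_actMap (t : E ⊗[A] E) (m : M) :
    retr M (actMap M t m) = (Algebra.TensorProduct.lmul' A t) • m := by
  induction t using TensorProduct.induction_on with
  | zero => simp
  | tmul a b => simp [mul_smul]
  | add x y hx hy => rw [map_add, LinearMap.add_apply, map_add, hx, hy, map_add, add_smul]

/-- The section of `retr` defined by a separability idempotent. -/
noncomputable def sect (t : E ⊗[A] E)
    (ht : ∀ s : E, ((1 : E) ⊗ₜ[A] s - s ⊗ₜ[A] (1 : E)) * t = 0) : M →ₗ[E] E ⊗[A] M where
  toFun m := actMap M t m
  map_add' m m' := map_add _ _ _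
  map_smul' s m := by
    simp only [RingHom.id_apply]
    rw [← actMap_mul_right, ← actMap_mul_left]
    congr 2
    have := ht s
    rw [sub_mul, sub_eq_zero] at this
    rw [mul_comm t, mul_comm t, this]

lemma retr_comp_sect (t : E ⊗[A] E)
    (ht : ∀ s : E, ((1 : E) ⊗ₜ[A] s - s ⊗ₜ[A] (1 : E)) * t = 0)
    (ht1 : Algebra.TensorProduct.lmul' A t = 1) :
    (retr M).comp (sect M t ht) = LinearMap.id := by
  ext m
  change retr M (actMap M t m) = m
  rw [retr_actMap, ht1, one_smul]

end Retract

/-- A module over an unramified algebra essentially of finite type which is flat over the base is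
flat over the algebra. -/
theorem flat_of_flat_of_unramified (A E : Type u) [CommRing A] [CommRing E] [Algebra A E]
    [Algebra.EssFiniteType A E] [Algebra.FormallyUnramified A E]
    (M : Type u) [AddCommGroup M] [Module A M] [Module E M] [IsScalarTower A E M]
    [Module.Flat A M] : Module.Flat E M := by
  obtain ⟨t, ht, ht1⟩ := Algebra.FormallyUnramified.iff_exists_tensorProduct.mp
    (inferInstance : Algebra.FormallyUnramified A E)
  have : Module.Flat E (E ⊗[A] M) := inferInstance
  exact Module.Flat.of_retract (sect M t ht) (retr M) (retr_comp_sect M t ht ht1)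

end Groth.Agent.Lib.Helper8
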