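import Mathlib
import Groth.Prelude
import Groth.Agent.Lib.Helper8.Hzl.IndEtaleFlat
import Groth.Agent.Lib.Helper8.NormalSmooth
import Groth.Agent.Lib.Helper8.HenselFinite
import Groth.Agent.Lib.Helper8.HenselSplitConv

/-!
# Unibranch local rings and (strict) henselizations: supporting lemmas

* `IndEtaleLike.baseChange`: the property `IndEtaleLike` is stable under base change.
* `isDomain_of_indEtaleLike`: a local ring which is flat and ind-étale-like over a normal domain is
  a domain.
* `isLocalRing_of_isIntegral_of_isDomain`: a domain integral over a henselian local ring is local.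
-/

set_option autoImplicit false
universe u
open IsLocalRing TensorProduct Polynomial

namespace Groth.Agent.Lib.Helper8.UnibranchHens

open Groth.Agent.Lib.Helper8.Hzl

section baseChange

variable {R S : Type u} [CommRing R] [CommRing S] [Algebra R S]

/-- `IndEtaleLike` is stable under base change. -/
theorem indEtaleLike_baseChange (h : IndEtaleLike R S) (A : Type u) [CommRing A] [Algebra R A] :
    IndEtaleLike A (A ⊗[R] S) := by
  intro x
  induction x using TensorProduct.induction_on with
  | zero =>
    exact ⟨A, inferInstance, inferInstance, inferInstance, Algebra.ofId A _, 0, 1,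
      by rw [map_one]; exact isUnit_one, by simp⟩
  | tmul a x =>
    obtain ⟨E, _, _, _, ι, e, t, ht, hx⟩ := h x
    refine ⟨A ⊗[R] E, inferInstance, inferInstance, inferInstance,
      Algebra.TensorProduct.map (AlgHom.id A A) ι, a ⊗ₜ e, 1 ⊗ₜ t, ?_, ?_⟩
    · rw [Algebra.TensorProduct.map_tmul, map_one]
      exact ht.map (Algebra.TensorProduct.includeRight : S →ₐ[R] A ⊗[R] S)
    · rw [Algebra.TensorProduct.map_tmul, Algebra.TensorProduct.map_tmul, map_one,
        Algebra.TensorProduct.tmul_mul_tmul, mul_one, hx]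
      rfl
  | add x y hx hy =>
    obtain ⟨E₁, _, _, _, ι₁, e₁, t₁, ht₁, h₁⟩ := hx
    obtain ⟨E₂, _, _, _, ι₂, e₂, t₂, ht₂, h₂⟩ := hy
    have : Algebra.Etale A (E₁ ⊗[A] E₂) := Algebra.Etale.comp A E₁ _
    refine ⟨E₁ ⊗[A] E₂, inferInstance, inferInstance, inferInstance,
      Algebra.TensorProduct.lift ι₁ ι₂ (fun _ _ => Commute.all _ _),
      e₁ ⊗ₜ t₂ + t₁ ⊗ₜ e₂, t₁ ⊗ₜ t₂, ?_, ?_⟩
    · rw [Algebra.TensorProduct.lift_tmul]
      exact ht₁.mul ht₂
    · rw [map_add, Algebra.TensorProduct.lift_tmul, Algebra.TensorProduct.lift_tmul,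
        Algebra.TensorProduct.lift_tmul, ← h₁, ← h₂]
      ring

end baseChange

section domain

/-- A local ring which is flat and ind-étale-like over a normal domain is a domain. -/
theorem isDomain_of_indEtaleLike (A T : Type u) [CommRing A] [IsDomain A] [IsIntegrallyClosed A]
    [CommRing T] [IsLocalRing T] [Algebra A T] [Module.Flat A T] (h : IndEtaleLike A T) :
    IsDomain T := by
  have hnzd : NoZeroDivisors T := by
    refine ⟨fun {x y} hxy => ?_⟩
    obtain ⟨E, _, _, _, ι, e, t, ht, he⟩ := h.exists_finite ![x, y]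
    let q : Ideal E := (maximalIdeal T).comap ι.toRingHom
    have : q.IsPrime := Ideal.comap_isPrime _ _
    obtain ⟨hD, -⟩ := NormalSmooth.isDomain_and_crit_of_etale A E q
    have hunits : ∀ s : q.primeCompl, IsUnit (ι.toRingHom s) := fun s => by
      have hs : (s : E) ∉ q := s.2
      by_contra hnu
      exact hs ((mem_maximalIdeal _).mpr hnu)
    let ιD : Localization.AtPrime q →+* T := IsLocalization.lift hunits
    let : Algebra E T := ι.toRingHom.toAlgebra
    let : Algebra (Localization.AtPrime q) T := ιD.toAlgebra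
    have : IsScalarTower A E T := IsScalarTower.of_algebraMap_eq' ι.comp_algebraMap.symm
    have : IsScalarTower E (Localization.AtPrime q) T :=
      IsScalarTower.of_algebraMap_eq (fun x => (IsLocalization.lift_eq hunits x).symm)
    have : IsScalarTower A (Localization.AtPrime q) T := by
      refine IsScalarTower.of_algebraMap_eq (fun a => ?_)
      rw [IsScalarTower.algebraMap_apply A E (Localization.AtPrime q),
        ← IsScalarTower.algebraMap_apply E (Localization.AtPrime q) T,
        ← IsScalarTower.algebraMap_apply A E T]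
    have : Algebra.EssFiniteType E (Localization.AtPrime q) :=
      Algebra.EssFiniteType.of_isLocalization _ q.primeCompl
    have : Algebra.EssFiniteType A (Localization.AtPrime q) :=
      Algebra.EssFiniteType.comp A E _
    have : Algebra.FormallyUnramified E (Localization.AtPrime q) :=
      Algebra.FormallyUnramified.of_isLocalization q.primeCompl
    have : Algebra.FormallyUnramified A (Localization.AtPrime q) :=
      Algebra.FormallyUnramified.comp A E _
    have : Module.Flat (Localization.AtPrime q) T :=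
      flat_of_flat_of_unramified A (Localization.AtPrime q) T
    have : IsLocalHom (algebraMap (Localization.AtPrime q) T) := by
      refine ⟨fun d hd => ?_⟩
      obtain ⟨a, s, rfl⟩ := IsLocalization.exists_mk'_eq q.primeCompl d
      have h1 : algebraMap (Localization.AtPrime q) T (IsLocalization.mk' _ a s) *
          algebraMap E T s = algebraMap E T a := by
        rw [IsScalarTower.algebraMap_apply E (Localization.AtPrime q) T,
          IsScalarTower.algebraMap_apply E (Localization.AtPrime q) T, ← map_mul,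
          IsLocalization.mk'_spec]
      have h2 : IsUnit (algebraMap E T a) := by
        rw [← h1]; exact hd.mul (hunits s)
      have h3 : a ∉ q := fun ha => ((mem_maximalIdeal _).mp ha) h2
      exact (IsLocalization.AtPrime.isUnit_mk'_iff (Localization.AtPrime q) q a s).mpr h3
    have : Module.FaithfullyFlat (Localization.AtPrime q) T :=
      Module.FaithfullyFlat.of_flat_of_isLocalHom
    have hinj : Function.Injective (algebraMap (Localization.AtPrime q) T) :=
      FaithfulSMul.algebraMap_injective _ _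
    have h0 : x * ι t = ι (e 0) := he 0
    have h1 : y * ι t = ι (e 1) := he 1
    have hprod : algebraMap (Localization.AtPrime q) T
        (algebraMap E _ (e 0) * algebraMap E _ (e 1)) = 0 := by
      rw [map_mul, ← IsScalarTower.algebraMap_apply, ← IsScalarTower.algebraMap_apply]
      change ι (e 0) * ι (e 1) = 0
      rw [← h0, ← h1]
      calc x * ι t * (y * ι t) = x * y * (ι t * ι t) := by ring
        _ = 0 := by rw [hxy, zero_mul]
    have hz := hinj (hprod.trans (map_zero _).symm)
    rcases mul_eq_zero.mp hz with hz | hz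
    · left
      have : ι (e 0) = 0 := by
        change algebraMap E T (e 0) = 0
        rw [IsScalarTower.algebraMap_apply E (Localization.AtPrime q) T, hz, map_zero]
      rw [this] at h0
      exact (ht.mul_left_eq_zero).mp h0
    · right
      have : ι (e 1) = 0 := by
        change algebraMap E T (e 1) = 0
        rw [IsScalarTower.algebraMap_apply E (Localization.AtPrime q) T, hz, map_zero]
      rw [this] at h1
      exact (ht.mul_left_eq_zero).mp h1
  exact NoZeroDivisors.to_isDomain T

end domain

section integral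

/-- A finite algebra over a henselian local ring which is a domain is local. -/
theorem isLocalRing_of_finite_of_isDomain (S C : Type u) [CommRing S] [HenselianLocalRing S]
    [CommRing C] [IsDomain C] [Algebra S C] [Module.Finite S C] : IsLocalRing C := by
  classical
  obtain ⟨ι, _, A, _, hloc, ⟨e⟩⟩ := exists_pi_local_of_finite_of_henselian S C
  have hsub : Subsingleton ι := by
    refine ⟨fun i j => ?_⟩
    by_contra hij
    have h1 : (Pi.single i (1 : A i) : ∀ k, A k) * Pi.single j (1 : A j) = 0 := by
      ext k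
      by_cases hk : k = i
      · subst hk
        simp [Pi.single_eq_of_ne hij]
      · simp [Pi.single_eq_of_ne hk]
    have h2 : e.symm (Pi.single i (1 : A i)) * e.symm (Pi.single j (1 : A j)) = 0 := by
      rw [← map_mul, h1, map_zero]
    rcases mul_eq_zero.mp h2 with h | h
    · have := congrFun ((e.symm.map_eq_zero_iff).mp h) i
      simp at this
    · have := congrFun ((e.symm.map_eq_zero_iff).mp h) j
      simp at this
  refine IsLocalRing.of_isUnit_or_isUnit_one_sub_self fun c => ?_
  have hu : ∀ x : (∀ k, A k), (∀ k, IsUnit (x k)) → IsUnit (e.symm x) := fun x hx =>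
    (Pi.isUnit_iff.mpr hx).map e.symm
  by_cases hne : Nonempty ι
  · obtain ⟨i⟩ := hne
    rcases IsLocalRing.isUnit_or_isUnit_one_sub_self (e c i) with h | h
    · left
      have := hu (e c) (fun k => by rw [Subsingleton.elim k i]; exact h)
      rwa [e.symm_apply_apply] at this
    · right
      have := hu (e (1 - c)) (fun k => by
        rw [Subsingleton.elim k i, map_sub, map_one]; exact h)
      rwa [e.symm_apply_apply] at this
  · left
    have := hu (e c) (fun k => (hne ⟨k⟩).elim)
    rwa [e.symm_apply_apply] at this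

/-- A domain integral over a henselian local ring is local. -/
theorem isLocalRing_of_isIntegral_of_isDomain (S T : Type u) [CommRing S] [HenselianLocalRing S]
    [CommRing T] [IsDomain T] [Algebra S T] [Algebra.IsIntegral S T] : IsLocalRing T := by
  refine IsLocalRing.of_isUnit_or_isUnit_one_sub_self fun t => ?_
  let C : Subalgebra S T := Algebra.adjoin S {t}
  have hfin : Module.Finite S C :=
    Algebra.finite_adjoin_simple_of_isIntegral (Algebra.IsIntegral.isIntegral t)
  have hC : IsLocalRing C := isLocalRing_of_finite_of_isDomain S C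
  let c : C := ⟨t, Algebra.subset_adjoin (Set.mem_singleton t)⟩
  rcases IsLocalRing.isUnit_or_isUnit_one_sub_self c with h | h
  · left; exact h.map C.val
  · right
    have := h.map C.val
    simpa [c] using this

end integral


section purelyInsep

attribute [local instance] Algebra.TensorProduct.rightAlgebra

/-- Integrality passes to the base change (as an algebra over the right factor). -/
theorem isIntegral_right' (R R' S : Type u) [CommRing R] [CommRing R'] [Algebra R R']
    [Algebra.IsIntegral R R'] [CommRing S] [Algebra R S] : Algebra.IsIntegral S (R' ⊗[R] S) where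
  isIntegral p := p.induction_on isIntegral_zero (fun b s => by
    have h1 : IsIntegral S (b ⊗ₜ[R] (1 : S)) :=
      (Algebra.IsIntegral.isIntegral (R := R) b).map_of_comp_eq (algebraMap R S)
        (Algebra.TensorProduct.includeLeftRingHom (R := R) (A := R') (B := S))
        (by
          ext a
          change (1 : R') ⊗ₜ[R] algebraMap R S a = algebraMap R R' a ⊗ₜ[R] (1 : S)
          rw [Algebra.algebraMap_eq_smul_one, Algebra.algebraMap_eq_smul_one,
            TensorProduct.smul_tmul])
    have h2 : b ⊗ₜ[R] s = s • (b ⊗ₜ[R] (1 : S)) := by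
      rw [Algebra.smul_def, Algebra.TensorProduct.right_algebraMap_apply]
      simp
    rw [h2]
    exact h1.smul s) (fun _ _ => IsIntegral.add)

variable (R R' S : Type u) [CommRing R] [IsLocalRing R]
  [CommRing R'] [IsLocalRing R'] [Algebra R R'] [Algebra.IsIntegral R R']
  [CommRing S] [IsLocalRing S] [Algebra R S] [IsLocalHom (algebraMap R S)]

theorem comap_right_eq (M : Ideal (R' ⊗[R] S)) [M.IsMaximal] :
    M.comap (algebraMap S (R' ⊗[R] S)) = maximalIdeal S := by
  haveI := isIntegral_right' R R' S
  exact eq_maximalIdeal (Ideal.isMaximal_comap_of_isIntegral_of_isMaximal M)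

theorem comap_left_eq (M : Ideal (R' ⊗[R] S)) [M.IsMaximal] :
    M.comap (algebraMap R' (R' ⊗[R] S)) = maximalIdeal R' := by
  have hP : (M.comap (algebraMap R' (R' ⊗[R] S))).IsPrime := Ideal.comap_isPrime _ _
  have h1 : (M.comap (algebraMap R' (R' ⊗[R] S))).comap (algebraMap R R') = maximalIdeal R := by
    rw [Ideal.comap_comap, ← IsScalarTower.algebraMap_eq R R' (R' ⊗[R] S),
      IsScalarTower.algebraMap_eq R S (R' ⊗[R] S), ← Ideal.comap_comap, comap_right_eq]
    exact ((local_hom_TFAE (algebraMap R S)).out 0 4).mp ‹_›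
  have hmax : (M.comap (algebraMap R' (R' ⊗[R] S))).IsMaximal := by
    apply Ideal.isMaximal_of_isIntegral_of_isMaximal_comap (R := R)
    rw [h1]
    infer_instance
  exact eq_maximalIdeal hmax

/-- If `R'` is a local ring integral over the local ring `R` with purely inseparable residue field
extension, then `R' ⊗[R] S` is local for every local `R`-algebra `S` (local homomorphism). -/
theorem isLocalRing_tensor_of_purelyInseparable [Nontrivial (R' ⊗[R] S)]
    (hpi : ∀ x : R' ⧸ maximalIdeal R',
      ∃ n : ℕ, x ^ (ringExpChar (R' ⧸ maximalIdeal R')) ^ n ∈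
        ((Ideal.Quotient.mk (maximalIdeal R')).comp (algebraMap R R')).range) :
    IsLocalRing (R' ⊗[R] S) := by
  let J : Ideal (R' ⊗[R] S) := (maximalIdeal R').map (algebraMap R' (R' ⊗[R] S)) ⊔
    (maximalIdeal S).map (algebraMap S (R' ⊗[R] S))
  have hJle : ∀ M : Ideal (R' ⊗[R] S), M.IsMaximal → J ≤ M := fun M hM =>
    sup_le (Ideal.map_le_iff_le_comap.mpr (comap_left_eq R R' S M).ge)
      (Ideal.map_le_iff_le_comap.mpr (comap_right_eq R R' S M).ge)
  obtain ⟨M₀, hM₀⟩ := Ideal.exists_maximal (R' ⊗[R] S)
  have hJne : J ≠ ⊤ := fun h => hM₀.ne_top (top_le_iff.mp (h ▸ hJle M₀ hM₀))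
  haveI : Nontrivial ((R' ⊗[R] S) ⧸ J) := Ideal.Quotient.nontrivial_iff.mpr hJne
  letI : Field (R' ⧸ maximalIdeal R') := Ideal.Quotient.field _
  let φ : R' ⧸ maximalIdeal R' →+* (R' ⊗[R] S) ⧸ J :=
    Ideal.Quotient.lift _ ((Ideal.Quotient.mk J).comp (algebraMap R' (R' ⊗[R] S)))
      (fun a ha => by
        rw [RingHom.comp_apply, Ideal.Quotient.eq_zero_iff_mem]
        exact Ideal.mem_sup_left (Ideal.mem_map_of_mem _ ha))
  set q := ringExpChar (R' ⧸ maximalIdeal R') with hq
  haveI : ExpChar (R' ⧸ maximalIdeal R') q := ringExpChar.expChar _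
  haveI : ExpChar ((R' ⊗[R] S) ⧸ J) q := expChar_of_injective_ringHom φ.injective q
  let mkS : S →+* (R' ⊗[R] S) ⧸ J := (Ideal.Quotient.mk J).comp (algebraMap S (R' ⊗[R] S))
  have key : ∀ t : R' ⊗[R] S, ∃ (n : ℕ) (σ : S), (Ideal.Quotient.mk J t) ^ q ^ n = mkS σ := by
    intro t
    induction t using TensorProduct.induction_on with
    | zero => exact ⟨0, 0, by simp⟩
    | tmul a s =>
      obtain ⟨n, r, hr⟩ := hpi (Ideal.Quotient.mk _ a)
      refine ⟨n, algebraMap R S r * s ^ q ^ n, ?_⟩
      have e1 : a ⊗ₜ[R] s = algebraMap R' (R' ⊗[R] S) a * algebraMap S (R' ⊗[R] S) s := by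
        rw [Algebra.TensorProduct.algebraMap_apply, Algebra.TensorProduct.right_algebraMap_apply]
        simp
      have e2 : (Ideal.Quotient.mk J (algebraMap R' (R' ⊗[R] S) a)) ^ q ^ n =
          mkS (algebraMap R S r) := by
        have h := congrArg φ hr
        rw [map_pow] at h
        change φ (Ideal.Quotient.mk _ (algebraMap R R' r)) = (φ (Ideal.Quotient.mk _ a)) ^ q ^ n at h
        rw [Ideal.Quotient.lift_mk, Ideal.Quotient.lift_mk] at h
        rw [RingHom.comp_apply, RingHom.comp_apply] at h
        rw [← h]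
        change _ = Ideal.Quotient.mk J (algebraMap S (R' ⊗[R] S) (algebraMap R S r))
        rw [← IsScalarTower.algebraMap_apply R S (R' ⊗[R] S),
          ← IsScalarTower.algebraMap_apply R R' (R' ⊗[R] S)]
      rw [e1, map_mul, mul_pow, e2, map_mul, map_pow]
      rfl
    | add x y hx hy =>
      obtain ⟨n, σ, h1⟩ := hx
      obtain ⟨m, τ, h2⟩ := hy
      refine ⟨n + m, σ ^ q ^ m + τ ^ q ^ n, ?_⟩
      rw [map_add, add_pow_expChar_pow, pow_add, pow_mul, h1, mul_comm (q ^ n) (q ^ m), pow_mul, h2,
        map_add, map_pow, map_pow]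
  have hmem : ∀ (M : Ideal (R' ⊗[R] S)) (hM : M.IsMaximal) (t : R' ⊗[R] S) (n : ℕ) (σ : S),
      (Ideal.Quotient.mk J t) ^ q ^ n = mkS σ → (t ∈ M ↔ σ ∈ maximalIdeal S) := by
    intro M hM t n σ h
    have h1 : t ^ q ^ n - algebraMap S (R' ⊗[R] S) σ ∈ M := by
      apply hJle M hM
      rw [← Ideal.Quotient.eq_zero_iff_mem, map_sub, map_pow, h]
      exact sub_self _
    have hqpos : q ^ n ≠ 0 := (pow_pos (expChar_pos (R' ⧸ maximalIdeal R') q) n).ne'
    constructor
    · intro ht
      have h2 : algebraMap S (R' ⊗[R] S) σ ∈ M := by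
        have := M.sub_mem (M.pow_mem_of_mem ht _ (Nat.pos_of_ne_zero hqpos)) h1
        simpa using this
      rw [← comap_right_eq R R' S M]
      exact h2
    · intro hσ
      have h2 : algebraMap S (R' ⊗[R] S) σ ∈ M := by
        rw [← comap_right_eq R R' S M] at hσ
        exact hσ
      have h3 : t ^ q ^ n ∈ M := by
        have := M.add_mem h1 h2
        simpa using this
      exact hM.isPrime.mem_of_pow_mem _ h3
  refine IsLocalRing.of_unique_max_ideal ⟨M₀, hM₀, fun M hM => ?_⟩
  ext t
  obtain ⟨n, σ, h⟩ := key t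
  rw [hmem M hM t n σ h, hmem M₀ hM₀ t n σ h]

end purelyInsep


section converse

attribute [local instance] Algebra.TensorProduct.rightAlgebra

/-- If `R' ⊗[R] S` is a domain, with `R'` integral over `R` and `S` a henselian local ring
faithfully flat over `R`, then `R'` is local. -/
theorem isLocalRing_of_isDomain_tensor (R R' S : Type u) [CommRing R] [CommRing R'] [Nontrivial R']
    [Algebra R R'] [Algebra.IsIntegral R R'] [CommRing S] [HenselianLocalRing S] [Algebra R S]
    [Module.FaithfullyFlat R S] [IsDomain (R' ⊗[R] S)] : IsLocalRing R' := by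
  haveI := isIntegral_right' R R' S
  haveI : IsLocalRing (R' ⊗[R] S) := isLocalRing_of_isIntegral_of_isDomain S _
  haveI : Module.FaithfullyFlat R' (R' ⊗[R] S) := inferInstance
  obtain ⟨𝔫₁, h𝔫₁⟩ := Ideal.exists_maximal R'
  have hall : ∀ 𝔫 : Ideal R', 𝔫.IsMaximal →
      𝔫 = (maximalIdeal (R' ⊗[R] S)).comap (algebraMap R' (R' ⊗[R] S)) := by
    intro 𝔫 h𝔫
    have h1 : (𝔫.map (algebraMap R' (R' ⊗[R] S))).comap (algebraMap R' (R' ⊗[R] S)) = 𝔫 :=
      Ideal.comap_map_eq_self_of_faithfullyFlat 𝔫
    have h2 : 𝔫.map (algebraMap R' (R' ⊗[R] S)) ≠ ⊤ := fun h =>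
      h𝔫.ne_top (by rw [← h1, h, Ideal.comap_top])
    have h3 : 𝔫.map (algebraMap R' (R' ⊗[R] S)) ≤ maximalIdeal (R' ⊗[R] S) := le_maximalIdeal h2
    have h4 : 𝔫 ≤ (maximalIdeal (R' ⊗[R] S)).comap (algebraMap R' (R' ⊗[R] S)) :=
      Ideal.map_le_iff_le_comap.mp h3
    exact h𝔫.eq_of_le (Ideal.comap_ne_top _ (maximalIdeal.isMaximal _).ne_top) h4
  exact IsLocalRing.of_unique_max_ideal
    ⟨𝔫₁, h𝔫₁, fun 𝔫 h𝔫 => (hall 𝔫 h𝔫).trans (hall 𝔫₁ h𝔫₁).symm⟩

/-- If `S` is a domain flat over `R`, with `R → S` injective, and `R'` is a nontrivial `R`-algebra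
embedded into a localization of `R` at non-zero-divisors, then `R' ⊗[R] S` is a domain. -/
theorem isDomain_tensor_of_injective (R S : Type u) [CommRing R] [CommRing S] [Algebra R S]
    [Module.Flat R S] [IsDomain S] (hinj : Function.Injective (algebraMap R S))
    (M : Submonoid R) (hM : M ≤ nonZeroDivisors R) (K : Type u) [CommRing K] [Algebra R K]
    [IsLocalization M K] (R' : Type u) [CommRing R'] [Algebra R R']
    (j : R' →ₐ[R] K) (hj : Function.Injective j) : IsDomain (R' ⊗[R] S) := by
  haveI : Nontrivial R := (algebraMap R S).domain_nontrivial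
  have hle : Algebra.algebraMapSubmonoid S M ≤ nonZeroDivisors S := by
    rintro _ ⟨m, hm, rfl⟩
    apply mem_nonZeroDivisors_of_ne_zero
    intro h0
    have : m = 0 := hinj (h0.trans (map_zero _).symm)
    exact nonZeroDivisors.ne_zero (hM hm) this
  haveI : IsDomain (S ⊗[R] K) := IsLocalization.isDomain_of_le_nonZeroDivisors (S ⊗[R] K) hle
  have h1 : Function.Injective (Algebra.TensorProduct.map j (AlgHom.id R S)) := by
    have := Module.Flat.rTensor_preserves_injective_linearMap (M := S) j.toLinearMap hj
    intro x y hxy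
    exact this hxy
  let ψ : R' ⊗[R] S →+* S ⊗[R] K :=
    ((Algebra.TensorProduct.comm R K S).toAlgHom.comp
      (Algebra.TensorProduct.map j (AlgHom.id R S))).toRingHom
  have hψ : Function.Injective ψ := (Algebra.TensorProduct.comm R K S).injective.comp h1
  exact hψ.isDomain ψ

end converse


section insep

theorem isSeparable_of_aeval_derivative_ne_zero {K L : Type*} [Field K] [Field L] [Algebra K L]
    (x : L) (p : K[X]) (h0 : aeval x p = 0) (h1 : aeval x (derivative p) ≠ 0) :
    IsSeparable K x := by
  have hp0 : p ≠ 0 := by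
    rintro rfl
    simp at h1
  have halg : IsIntegral K x := IsAlgebraic.isIntegral (⟨p, hp0, h0⟩ : IsAlgebraic K x)
  obtain ⟨h, hh⟩ := minpoly.dvd K x h0
  have hirr := minpoly.irreducible halg
  unfold IsSeparable
  rw [separable_iff_derivative_ne_zero hirr]
  intro hd
  apply h1
  rw [hh, derivative_mul, hd, zero_mul, zero_add, map_mul, minpoly.aeval, zero_mul]

theorem mem_range_of_simple_root {K L : Type*} [Field K] [Field L] [Algebra K L] [IsSepClosed K]
    (x : L) (p : K[X]) (h0 : aeval x p = 0) (h1 : aeval x (derivative p) ≠ 0) :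
    x ∈ (algebraMap K L).range := by
  have hsep := isSeparable_of_aeval_derivative_ne_zero x p h0 h1
  have hp0 : p ≠ 0 := by
    rintro rfl
    simp at h1
  have halg : IsIntegral K x := IsAlgebraic.isIntegral (⟨p, hp0, h0⟩ : IsAlgebraic K x)
  have hdeg := IsSepClosed.degree_eq_one_of_irreducible K (minpoly.irreducible halg) hsep
  exact minpoly.mem_range_of_degree_eq_one K x hdeg

end insep

section insep2

attribute [local instance] Algebra.TensorProduct.rightAlgebra

theorem exists_sub_mem_of_simple_root (R R' S : Type u) [CommRing R] [IsLocalRing R]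
    [CommRing R'] [IsLocalRing R'] [Algebra R R'] [Algebra.IsIntegral R R']
    [CommRing S] [HenselianLocalRing S] [Algebra R S] [IsLocalHom (algebraMap R S)]
    [Module.FaithfullyFlat R S] [IsSepClosed (ResidueField S)] [IsLocalRing (R' ⊗[R] S)]
    (a : R') (p : R[X]) (hp : p.Monic)
    (h0 : aeval a p ∈ maximalIdeal R') (h1 : aeval a (derivative p) ∉ maximalIdeal R') :
    ∃ r : R, a - algebraMap R R' r ∈ maximalIdeal R' := by
  haveI := isIntegral_right' R R' S
  haveI : IsLocalHom (algebraMap S (R' ⊗[R] S)) :=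
    HenselSplitConv.isLocalHom_of_isIntegral S (R' ⊗[R] S)
  have hcl : (maximalIdeal (R' ⊗[R] S)).comap (algebraMap R' (R' ⊗[R] S)) = maximalIdeal R' :=
    comap_left_eq R R' S _
  set x : R' ⊗[R] S := algebraMap R' (R' ⊗[R] S) a with hx
  set ᾱ : ResidueField (R' ⊗[R] S) := residue _ x with hᾱ
  set pS : S[X] := p.map (algebraMap R S) with hpS
  set pΩ : (ResidueField S)[X] := pS.map (residue S) with hpΩ
  have hcomp : (algebraMap (ResidueField S) (ResidueField (R' ⊗[R] S))).comp (residue S) =
      (residue (R' ⊗[R] S)).comp (algebraMap S (R' ⊗[R] S)) := by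
    ext s; rfl
  have hgen : ∀ q : R[X], aeval ᾱ ((q.map (algebraMap R S)).map (residue S)) =
      residue _ (algebraMap R' (R' ⊗[R] S) (aeval a q)) := by
    intro q
    rw [Polynomial.map_map, aeval_def, eval₂_map, ← RingHom.comp_assoc, hcomp,
      ← Polynomial.aeval_algebraMap_apply, aeval_def, hom_eval₂, RingHom.comp_assoc,
      ← IsScalarTower.algebraMap_eq R S (R' ⊗[R] S)]
  have e0 : aeval ᾱ pΩ = 0 := by
    rw [hpΩ, hpS, hgen, residue_eq_zero_iff, ← Ideal.mem_comap, hcl]
    exact h0
  have e1 : aeval ᾱ (derivative pΩ) ≠ 0 := by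
    rw [hpΩ, hpS, derivative_map, derivative_map, hgen, Ne, residue_eq_zero_iff, ← Ideal.mem_comap,
      hcl]
    exact h1
  obtain ⟨ω, hω⟩ := mem_range_of_simple_root ᾱ pΩ e0 e1
  obtain ⟨s₀, rfl⟩ := residue_surjective ω
  have hinjΩ : Function.Injective (algebraMap (ResidueField S) (ResidueField (R' ⊗[R] S))) :=
    (algebraMap (ResidueField S) (ResidueField (R' ⊗[R] S))).injective
  have hev : ∀ (q : S[X]) (s : S), residue S s = residue S s₀ →
      algebraMap (ResidueField S) (ResidueField (R' ⊗[R] S)) (residue S (q.eval s)) =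
        aeval ᾱ (q.map (residue S)) := by
    intro q s hs
    rw [← hω, Polynomial.aeval_algebraMap_apply, ← hs, coe_aeval_eq_eval, eval_map, eval₂_at_apply]
  have h₁ : pS.eval s₀ ∈ maximalIdeal S := by
    rw [← residue_eq_zero_iff]
    apply hinjΩ
    rw [hev pS s₀ rfl, map_zero]
    exact e0
  have hunit : ∀ s : S, residue S s = residue S s₀ → IsUnit ((derivative pS).eval s) := by
    intro s hs
    by_contra hnu
    have : residue S ((derivative pS).eval s) = 0 := (residue_eq_zero_iff _).mpr hnu
    apply e1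
    rw [hpΩ, derivative_map, ← hev (derivative pS) s hs, this, map_zero]
  obtain ⟨s, hroot, hs⟩ := HenselianLocalRing.is_henselian pS (hp.map _) s₀ h₁ (hunit s₀ rfl)
  have hres : residue S s = residue S s₀ := by
    rw [← sub_eq_zero, ← map_sub, residue_eq_zero_iff]
    exact hs
  -- factorization
  set g : S[X] := pS /ₘ (X - C s) with hg
  have hfac : (X - C s) * g = pS := mul_divByMonic_eq_iff_isRoot.mpr hroot
  have hgs : g.eval s = (derivative pS).eval s := by
    rw [← hfac, derivative_mul]
    simp
  have hgu : IsUnit (g.eval s) := hgs ▸ hunit s hres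
  set u : R' ⊗[R] S := x - algebraMap S (R' ⊗[R] S) s with hu
  have hum : u ∈ maximalIdeal (R' ⊗[R] S) := by
    rw [← residue_eq_zero_iff, hu, map_sub, sub_eq_zero]
    change ᾱ = algebraMap (ResidueField S) (ResidueField (R' ⊗[R] S)) (residue S s)
    rw [hres, hω]
  set G : (R' ⊗[R] S)[X] := g.map (algebraMap S (R' ⊗[R] S)) with hG
  have hprod : u * G.eval x = algebraMap R' (R' ⊗[R] S) (aeval a p) := by
    have h2 : (pS.map (algebraMap S (R' ⊗[R] S))).eval x = u * G.eval x := by
      rw [← hfac, Polynomial.map_mul, eval_mul, Polynomial.map_sub, map_X, map_C, eval_sub, eval_X,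
        eval_C]
    rw [← h2, hpS, Polynomial.map_map, ← IsScalarTower.algebraMap_eq, eval_map, ← aeval_def,
      hx, Polynomial.aeval_algebraMap_apply]
  have hGu : IsUnit (G.eval x) := by
    by_contra hnu
    have h3 : G.eval x ∈ maximalIdeal (R' ⊗[R] S) := (mem_maximalIdeal _).mpr hnu
    obtain ⟨c, hc⟩ := Polynomial.sub_dvd_eval_sub x (algebraMap S (R' ⊗[R] S) s) G
    have h4 : G.eval (algebraMap S (R' ⊗[R] S) s) = algebraMap S (R' ⊗[R] S) (g.eval s) := by
      rw [hG, eval_map, eval₂_at_apply]
    have h5 : algebraMap S (R' ⊗[R] S) (g.eval s) ∈ maximalIdeal (R' ⊗[R] S) := by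
      have : algebraMap S (R' ⊗[R] S) (g.eval s) = G.eval x - u * c := by
        rw [← h4, hu, ← hc]; ring
      rw [this]
      exact Ideal.sub_mem _ h3 (Ideal.mul_mem_right _ _ hum)
    exact ((mem_maximalIdeal _).mp h5) (hgu.map _)
  have huN : u ∈ (maximalIdeal R').map (algebraMap R' (R' ⊗[R] S)) := by
    obtain ⟨v, hv⟩ := hGu.exists_right_inv
    have : u = v * algebraMap R' (R' ⊗[R] S) (aeval a p) := by
      rw [← hprod]
      calc u = u * (G.eval x * v) := by rw [hv, mul_one]
        _ = v * (u * G.eval x) := by ring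
    rw [this]
    exact Ideal.mul_mem_left _ _ (Ideal.mem_map_of_mem _ h0)
  -- pass to the quotient
  let Ψ : R' ⊗[R] S →ₐ[R] (R' ⧸ maximalIdeal R') ⊗[R] S :=
    Algebra.TensorProduct.map (Ideal.Quotient.mkₐ R (maximalIdeal R')) (AlgHom.id R S)
  have hΨ : Ψ u = 0 := by
    have hle : (maximalIdeal R').map (algebraMap R' (R' ⊗[R] S)) ≤ RingHom.ker Ψ.toRingHom := by
      rw [Ideal.map_le_iff_le_comap]
      intro n hn
      rw [Ideal.mem_comap, RingHom.mem_ker]
      change Ψ (algebraMap R' (R' ⊗[R] S) n) = 0
      rw [Algebra.TensorProduct.algebraMap_apply]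
      simp only [Algebra.algebraMap_self, RingHom.id_apply, Ψ, Algebra.TensorProduct.map_tmul,
        Ideal.Quotient.mkₐ_eq_mk, map_one]
      rw [Ideal.Quotient.eq_zero_iff_mem.mpr hn, TensorProduct.zero_tmul]
    exact hle huN
  have hΨ' : (Ideal.Quotient.mk (maximalIdeal R') a) ⊗ₜ[R] (1 : S) =
      (1 : R' ⧸ maximalIdeal R') ⊗ₜ[R] s := by
    have : Ψ u = (Ideal.Quotient.mk (maximalIdeal R') a) ⊗ₜ[R] (1 : S) -
        (1 : R' ⧸ maximalIdeal R') ⊗ₜ[R] s := by
      rw [hu, hx, map_sub, Algebra.TensorProduct.algebraMap_apply,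
        Algebra.TensorProduct.right_algebraMap_apply]
      simp [Ψ]
    rw [this] at hΨ
    exact sub_eq_zero.mp hΨ
  let W : Submodule R (R' ⧸ maximalIdeal R') :=
    LinearMap.range (Algebra.linearMap R (R' ⧸ maximalIdeal R'))
  have h6 : (W.mkQ (Ideal.Quotient.mk (maximalIdeal R') a)) ⊗ₜ[R] (1 : S) = 0 := by
    have := congrArg (LinearMap.rTensor S W.mkQ) hΨ'
    rw [LinearMap.rTensor_tmul, LinearMap.rTensor_tmul] at this
    rw [this]
    have h1W : W.mkQ (1 : R' ⧸ maximalIdeal R') = 0 := by
      rw [Submodule.mkQ_apply, Submodule.Quotient.mk_eq_zero]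
      exact ⟨1, by simp⟩
    rw [h1W, TensorProduct.zero_tmul]
  have h7 : W.mkQ (Ideal.Quotient.mk (maximalIdeal R') a) = 0 := by
    apply Module.FaithfullyFlat.tensorProduct_mk_injective (A := R) (B := S)
    rw [map_zero, TensorProduct.mk_apply]
    have := congrArg (TensorProduct.comm R _ S) h6
    rwa [TensorProduct.comm_tmul, map_zero] at this
  rw [Submodule.mkQ_apply, Submodule.Quotient.mk_eq_zero] at h7
  obtain ⟨r, hr⟩ := h7
  refine ⟨r, ?_⟩
  rw [← Ideal.Quotient.eq_zero_iff_mem, map_sub, sub_eq_zero, ← hr]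
  rfl

end insep2

section insep3

attribute [local instance] Algebra.TensorProduct.rightAlgebra

/-- If `R' ⊗[R] S` is local, where `S` is a strictly henselian local ring faithfully flat over `R`
and `R'` is a local ring integral over `R`, then the residue field extension of `R → R'` is purely
inseparable. -/
theorem pow_mem_range_of_isLocalRing_tensor (R R' S : Type u) [CommRing R] [IsLocalRing R]
    [CommRing R'] [IsLocalRing R'] [Algebra R R'] [Algebra.IsIntegral R R']
    [CommRing S] [HenselianLocalRing S] [Algebra R S] [IsLocalHom (algebraMap R S)]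
    [Module.FaithfullyFlat R S] [IsSepClosed (ResidueField S)] [IsLocalRing (R' ⊗[R] S)]
    (x : R' ⧸ maximalIdeal R') :
    ∃ n : ℕ, x ^ (ringExpChar (R' ⧸ maximalIdeal R')) ^ n ∈
      ((Ideal.Quotient.mk (maximalIdeal R')).comp (algebraMap R R')).range := by
  haveI : IsLocalHom (algebraMap R R') := HenselSplitConv.isLocalHom_of_isIntegral R R'
  letI : Field (R' ⧸ maximalIdeal R') := Ideal.Quotient.field _
  set f : R →+* R' ⧸ maximalIdeal R' :=
    (Ideal.Quotient.mk (maximalIdeal R')).comp (algebraMap R R') with hf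
  have hker : ∀ r ∈ maximalIdeal R, f r = 0 := by
    intro r hr
    rw [hf, RingHom.comp_apply, Ideal.Quotient.eq_zero_iff_mem]
    have h2 : (algebraMap R R') '' (maximalIdeal R : Set R) ⊆ maximalIdeal R' :=
      ((local_hom_TFAE (algebraMap R R')).out 0 1).mp ‹_›
    exact h2 ⟨r, hr, rfl⟩
  let φ : ResidueField R →+* R' ⧸ maximalIdeal R' := Ideal.Quotient.lift (maximalIdeal R) f hker
  letI : Algebra (ResidueField R) (R' ⧸ maximalIdeal R') := φ.toAlgebra
  have hφ : ∀ r : R, algebraMap (ResidueField R) (R' ⧸ maximalIdeal R') (residue R r) = f r :=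
    fun r => rfl
  have hcomp : (algebraMap (ResidueField R) (R' ⧸ maximalIdeal R')).comp (residue R) = f :=
    RingHom.ext hφ
  have hev : ∀ (P : R[X]) (a : R'), aeval (Ideal.Quotient.mk (maximalIdeal R') a)
      (P.map (residue R)) = Ideal.Quotient.mk (maximalIdeal R') (aeval a P) := by
    intro P a
    rw [aeval_def, eval₂_map, hcomp, aeval_def, hom_eval₂]
  have hpi : IsPurelyInseparable (ResidueField R) (R' ⧸ maximalIdeal R') := by
    rw [isPurelyInseparable_iff]
    intro y
    obtain ⟨a, rfl⟩ := Ideal.Quotient.mk_surjective y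
    have hint : IsIntegral (ResidueField R) (Ideal.Quotient.mk (maximalIdeal R') a) := by
      obtain ⟨P, hP, hPa⟩ := Algebra.IsIntegral.isIntegral (R := R) a
      refine ⟨P.map (residue R), hP.map _, ?_⟩
      rw [← aeval_def, hev, aeval_def, hPa, map_zero]
    refine ⟨hint, fun hsep => ?_⟩
    set m := minpoly (ResidueField R) (Ideal.Quotient.mk (maximalIdeal R') a) with hm
    have hmm : m.Monic := minpoly.monic hint
    have hl : m ∈ Polynomial.lifts (residue R) := by
      rw [Polynomial.mem_lifts]
      exact Polynomial.map_surjective _ (residue_surjective) m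
    obtain ⟨P, hPm, -, hPmonic⟩ := Polynomial.lifts_and_degree_eq_and_monic hl hmm
    have h0 : aeval a P ∈ maximalIdeal R' := by
      rw [← Ideal.Quotient.eq_zero_iff_mem, ← hev, hPm, hm, minpoly.aeval]
    have h1 : aeval a (derivative P) ∉ maximalIdeal R' := by
      rw [← Ideal.Quotient.eq_zero_iff_mem, ← hev, ← derivative_map, hPm]
      exact hsep.aeval_derivative_ne_zero (minpoly.aeval _ _)
    obtain ⟨r, hr⟩ := exists_sub_mem_of_simple_root R R' S a P hPmonic h0 h1
    refine ⟨residue R r, ?_⟩
    rw [hφ, hf, RingHom.comp_apply]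
    symm
    rw [← sub_eq_zero, ← map_sub, Ideal.Quotient.eq_zero_iff_mem]
    exact hr
  haveI := ringExpChar.expChar (ResidueField R)
  haveI : ExpChar (R' ⧸ maximalIdeal R') (ringExpChar (ResidueField R)) :=
    expChar_of_injective_algebraMap
      (algebraMap (ResidueField R) (R' ⧸ maximalIdeal R')).injective _
  have hq : ringExpChar (R' ⧸ maximalIdeal R') = ringExpChar (ResidueField R) :=
    ringExpChar.eq _ _
  obtain ⟨n, z, hz⟩ := (isPurelyInseparable_iff_pow_mem (ResidueField R)
    (ringExpChar (ResidueField R))).mp hpi x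
  obtain ⟨r, rfl⟩ := residue_surjective z
  refine ⟨n, r, ?_⟩
  rw [hq, ← hz]
  rfl

end insep3

end Groth.Agent.Lib.Helper8.UnibranchHens
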