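import Mathlib
import Groth.Prelude
import Groth.Agent.Lib.Helper8.UnibranchHens

/-!
# Unibranch local rings and (strict) henselizations: main lemmas

For a local ring `R` and a suitable flat local `R`-algebra `S` (in practice the henselization or
strict henselization), with `R' = CAlg2.normRed R` the normalization of `R_red`:

* `isDomain_of_isLocalRing_tensor`: if `R` is reduced, `R_red` a domain, `S` ind-étale-like and
  `R' ⊗[R] S` local, then `S` is a domain.
* `unibranch_of_isDomain`: if `S` is a henselian local domain faithfully flat over `R`, then `R`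
  is a domain, `R'` is local and `R' ⊗[R] S` is local.
-/

set_option autoImplicit false
universe u
open IsLocalRing TensorProduct Polynomial

namespace Groth.Agent.Lib.Helper8.UnibranchHens

open Groth.Agent.Lib.Helper8.Hzl


section normRed

variable (R : Type u) [CommRing R]

instance isIntegral_normRed : Algebra.IsIntegral R (CAlg2.normRed R) := by
  haveI : Algebra.IsIntegral R (CAlg2.red R) :=
    Algebra.isIntegral_of_surjective Ideal.Quotient.mk_surjective
  exact Algebra.IsIntegral.trans (CAlg2.red R)

theorem algebraMap_red_injective (h : nilradical R = ⊥) :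
    Function.Injective (algebraMap R (CAlg2.red R)) := by
  rw [injective_iff_map_eq_zero]
  intro x hx
  have : x ∈ nilradical R := Ideal.Quotient.eq_zero_iff_mem.mp hx
  rwa [h, Ideal.mem_bot] at this

theorem algebraMap_normRed_injective (h : nilradical R = ⊥) :
    Function.Injective (algebraMap R (CAlg2.normRed R)) := by
  have h1 : Function.Injective (algebraMap (CAlg2.red R) (FractionRing (CAlg2.red R))) :=
    IsFractionRing.injective _ _
  intro x y hxy
  apply algebraMap_red_injective R h
  apply h1
  have := congrArg (Subtype.val) hxy
  exact this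

theorem isLocalization_fractionRing_red (h : nilradical R = ⊥) :
    IsLocalization ((nonZeroDivisors (CAlg2.red R)).comap (algebraMap R (CAlg2.red R)))
      (FractionRing (CAlg2.red R)) where
  map_units y := by
    have hy : algebraMap R (CAlg2.red R) y ∈ nonZeroDivisors (CAlg2.red R) := y.2
    rw [IsScalarTower.algebraMap_apply R (CAlg2.red R) (FractionRing (CAlg2.red R))]
    exact IsLocalization.map_units (FractionRing (CAlg2.red R)) ⟨_, hy⟩
  surj z := by
    obtain ⟨⟨a, b⟩, hab⟩ := IsLocalization.surj (nonZeroDivisors (CAlg2.red R)) z
    obtain ⟨a', rfl⟩ := Ideal.Quotient.mk_surjective a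
    obtain ⟨b', hb'⟩ := Ideal.Quotient.mk_surjective (b : CAlg2.red R)
    refine ⟨⟨a', ⟨b', ?_⟩⟩, ?_⟩
    · change algebraMap R (CAlg2.red R) b' ∈ nonZeroDivisors (CAlg2.red R)
      change Ideal.Quotient.mk _ b' ∈ _
      rw [hb']; exact b.2
    · simp only
      rw [IsScalarTower.algebraMap_apply R (CAlg2.red R) (FractionRing (CAlg2.red R)),
        IsScalarTower.algebraMap_apply R (CAlg2.red R) (FractionRing (CAlg2.red R))]
      change z * algebraMap _ _ (Ideal.Quotient.mk _ b') = algebraMap _ _ (Ideal.Quotient.mk _ a')
      rw [hb']
      exact hab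
  exists_of_eq {x y} hxy := by
    refine ⟨1, ?_⟩
    have h1 : Function.Injective (algebraMap (CAlg2.red R) (FractionRing (CAlg2.red R))) :=
      IsFractionRing.injective _ _
    rw [IsScalarTower.algebraMap_apply R (CAlg2.red R) (FractionRing (CAlg2.red R)),
      IsScalarTower.algebraMap_apply R (CAlg2.red R) (FractionRing (CAlg2.red R))] at hxy
    rw [algebraMap_red_injective R h (h1 hxy)]

theorem comap_nonZeroDivisors_le (h : nilradical R = ⊥) :
    (nonZeroDivisors (CAlg2.red R)).comap (algebraMap R (CAlg2.red R)) ≤ nonZeroDivisors R := by
  intro x hx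
  rw [Submonoid.mem_comap] at hx
  rw [mem_nonZeroDivisors_iff_right]
  intro y hy
  apply algebraMap_red_injective R h
  rw [map_zero]
  apply (mem_nonZeroDivisors_iff_right.mp hx)
  rw [← map_mul, hy, map_zero]

theorem isIntegrallyClosed_normRed [IsDomain (CAlg2.red R)] :
    IsIntegrallyClosed (CAlg2.normRed R) :=
  integralClosure.isIntegrallyClosedOfFiniteExtension (FractionRing (CAlg2.red R))

end normRed

section main

variable (R S : Type u) [CommRing R] [IsLocalRing R] [CommRing S] [Algebra R S]

/-- If `R` is reduced with `R_red` a domain, `S` is flat and ind-étale-like over `R` and the base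
change of the normalization is local, then `S` is a domain. -/
theorem isDomain_of_isLocalRing_tensor [IsLocalRing S] [Module.Flat R S] (hind : IndEtaleLike R S)
    (hred : IsReduced R) (hdom : IsDomain (CAlg2.red R))
    (hloc : IsLocalRing (CAlg2.normRed R ⊗[R] S)) : IsDomain S := by
  have hnil : nilradical R = ⊥ := nilradical_eq_zero R
  haveI := isIntegrallyClosed_normRed R
  have hind' : IndEtaleLike (CAlg2.normRed R) (CAlg2.normRed R ⊗[R] S) :=
    indEtaleLike_baseChange hind _
  haveI : IsDomain (CAlg2.normRed R ⊗[R] S) := isDomain_of_indEtaleLike _ _ hind'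
  have hinj : Function.Injective
      (Algebra.TensorProduct.includeRight : S →ₐ[R] CAlg2.normRed R ⊗[R] S) :=
    Algebra.TensorProduct.includeRight_injective (algebraMap_normRed_injective R hnil)
  exact hinj.isDomain (Algebra.TensorProduct.includeRight : S →ₐ[R] _).toRingHom

/-- If `S` is a henselian local domain faithfully flat over `R`, then `R` is a domain whose
normalization is local, and the base change of the normalization is a local domain. -/
theorem unibranch_of_isDomain [HenselianLocalRing S] [Module.FaithfullyFlat R S] [IsDomain S] :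
    IsReduced R ∧ IsDomain (CAlg2.red R) ∧ IsLocalRing (CAlg2.normRed R) ∧
      IsLocalRing (CAlg2.normRed R ⊗[R] S) := by
  have hinj : Function.Injective (algebraMap R S) := FaithfulSMul.algebraMap_injective R S
  haveI : IsDomain R := hinj.isDomain _
  have hnil : nilradical R = ⊥ := nilradical_eq_zero R
  have hdom : IsDomain (CAlg2.red R) := by
    have : (nilradical R).IsPrime := hnil ▸ Ideal.isPrime_bot
    exact Ideal.Quotient.isDomain _
  haveI := isLocalization_fractionRing_red R hnil
  haveI : IsDomain (CAlg2.normRed R ⊗[R] S) :=
    isDomain_tensor_of_injective R S hinj _ (comap_nonZeroDivisors_le R hnil)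
      (FractionRing (CAlg2.red R)) (CAlg2.normRed R)
      ((integralClosure (CAlg2.red R) (FractionRing (CAlg2.red R))).val.restrictScalars R)
      Subtype.val_injective
  letI := Algebra.TensorProduct.rightAlgebra (R := R) (A := CAlg2.normRed R) (B := S)
  haveI := isIntegral_right' R (CAlg2.normRed R) S
  refine ⟨inferInstance, hdom, isLocalRing_of_isDomain_tensor R _ S, ?_⟩
  exact isLocalRing_of_isIntegral_of_isDomain S (CAlg2.normRed R ⊗[R] S)

end main

end Groth.Agent.Lib.Helper8.UnibranchHens
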