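import Mathlib
import Groth.Prelude
import Groth.Agent.Lib.Helper8.NormRedStruct
import Groth.Agent.Lib.Helper8.MinPrimeNorm
import Groth.Agent.Lib.Helper8.UnibranchMain

/-!
# Minimal primes versus maximal ideals of `normRed A ⊗[A] B`

For `A` with finitely many minimal primes and `B` flat and ind-étale-like over `A`, every prime of
`normRed A ⊗[A] B` contains exactly one minimal prime.  If moreover `B` is henselian local then every
prime is contained in exactly one maximal ideal.
-/

set_option autoImplicit false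
universe u
open TensorProduct IsLocalRing

namespace Groth.Agent.Lib.Helper8.NormRedTensor

open Groth.Agent.Lib.Helper8.Hzl Groth.Agent.Lib.Helper8.UnibranchHens

section red

variable (A : Type u) [CommRing A]

instance isReduced_red : IsReduced (CAlg2.red A) :=
  (Ideal.isRadical_iff_quotient_reduced (nilradical A)).mp (Ideal.radical_isRadical _)

theorem finite_minimalPrimes_red (hfin : (minimalPrimes A).Finite) :
    (minimalPrimes (CAlg2.red A)).Finite := by
  have hb := MinPrimeNorm.bijOn_comap_of_surjective (Ideal.Quotient.mk (nilradical A))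
    Ideal.Quotient.mk_surjective (Ideal.mk_ker).le
  exact Set.Finite.of_injOn hb.mapsTo hb.injOn hfin

end red

theorem indEtaleLike_localization {R S : Type u} [CommRing R] [CommRing S] [Algebra R S]
    (h : IndEtaleLike R S) (P : Ideal S) [P.IsPrime] :
    IndEtaleLike R (Localization.AtPrime P) := by
  intro x
  obtain ⟨c, s, rfl⟩ := IsLocalization.exists_mk'_eq P.primeCompl x
  obtain ⟨E, _, _, _, ι, e, t, ht, he⟩ := h.exists_finite ![c, (s : S)]
  have h0 : c * ι t = ι (e 0) := he 0
  have h1 : (s : S) * ι t = ι (e 1) := he 1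
  let ι' : E →ₐ[R] Localization.AtPrime P :=
    (IsScalarTower.toAlgHom R S (Localization.AtPrime P)).comp ι
  have hι' : ∀ y, ι' y = algebraMap S (Localization.AtPrime P) (ι y) := fun _ => rfl
  refine ⟨E, inferInstance, inferInstance, inferInstance, ι', e 0, e 1, ?_, ?_⟩
  · rw [hι', ← h1, map_mul]
    exact (IsLocalization.map_units _ s).mul (ht.map _)
  · rw [hι', hι', ← h1, ← h0, map_mul, map_mul, ← mul_assoc, IsLocalization.mk'_spec]

section main

variable (A B : Type u) [CommRing A] [CommRing B] [Algebra A B] [Module.Flat A B]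

theorem minimalPrime_unique_of_le (hfin : (minimalPrimes A).Finite) (hind : IndEtaleLike A B)
    (m : Ideal (CAlg2.normRed A ⊗[A] B)) [m.IsPrime]
    {q₁ q₂ : Ideal (CAlg2.normRed A ⊗[A] B)}
    (h₁ : q₁ ∈ minimalPrimes (CAlg2.normRed A ⊗[A] B))
    (h₂ : q₂ ∈ minimalPrimes (CAlg2.normRed A ⊗[A] B)) (hle₁ : q₁ ≤ m) (hle₂ : q₂ ≤ m) :
    q₁ = q₂ := by
  let incl : CAlg2.normRed A →ₐ[A] CAlg2.normRed A ⊗[A] B := Algebra.TensorProduct.includeLeft
  let P : Ideal (CAlg2.normRed A) := m.comap incl.toRingHom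
  haveI : P.IsPrime := Ideal.comap_isPrime _ _
  obtain ⟨N, _, _, _, θ, e, hθ, heP, hker⟩ :=
    NormRedStruct.exists_normal_quotient (finite_minimalPrimes_red A hfin) P
  letI : Algebra (CAlg2.normRed A) N := θ.toAlgebra
  letI : Algebra A N := (θ.comp (algebraMap A (CAlg2.normRed A))).toAlgebra
  haveI : IsScalarTower A (CAlg2.normRed A) N := IsScalarTower.of_algebraMap_eq (fun _ => rfl)
  let θa : CAlg2.normRed A →ₐ[A] N := IsScalarTower.toAlgHom A (CAlg2.normRed A) N
  have hθa : Function.Surjective θa := hθ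
  let π₁ : CAlg2.normRed A ⊗[A] B →ₐ[A] N ⊗[A] B :=
    Algebra.TensorProduct.map θa (AlgHom.id A B)
  have hπs : Function.Surjective π₁ :=
    Algebra.TensorProduct.map_surjective (f := θa) (g := AlgHom.id A B) hθa Function.surjective_id
  have hkerπ : RingHom.ker π₁ = (RingHom.ker θa).map
      (Algebra.TensorProduct.includeLeft : CAlg2.normRed A →ₐ[A] CAlg2.normRed A ⊗[A] B) :=
    Algebra.TensorProduct.rTensor_ker θa hθa
  let ε : CAlg2.normRed A ⊗[A] B := e ⊗ₜ[A] (1 : B)
  have hεm : ε ∉ m := heP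
  have hkerε : ∀ c ∈ RingHom.ker π₁, c * ε = 0 := by
    rw [hkerπ]
    intro c hc
    have hle : (RingHom.ker θa).map
        (Algebra.TensorProduct.includeLeft : CAlg2.normRed A →ₐ[A] CAlg2.normRed A ⊗[A] B) ≤
        (Submodule.span (CAlg2.normRed A ⊗[A] B) {ε}).annihilator := by
      rw [Ideal.map_le_iff_le_comap]
      intro x hx
      rw [Ideal.mem_comap, Submodule.mem_annihilator_span_singleton, smul_eq_mul]
      have hx0 : θ x = 0 := hx
      have hxe := hker x hx0
      show (x ⊗ₜ[A] (1 : B)) * (e ⊗ₜ[A] (1 : B)) = 0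
      rw [Algebra.TensorProduct.tmul_mul_tmul, hxe, TensorProduct.zero_tmul]
    have := hle hc
    rwa [Submodule.mem_annihilator_span_singleton, smul_eq_mul] at this
  have hkq : ∀ q : Ideal (CAlg2.normRed A ⊗[A] B), q.IsPrime → ε ∉ q → RingHom.ker π₁ ≤ q := by
    intro q hq hεq c hc
    have : c * ε ∈ q := by rw [hkerε c hc]; exact zero_mem _
    exact (hq.mem_or_mem this).resolve_right hεq
  have hind₁ : IndEtaleLike N (N ⊗[A] B) := indEtaleLike_baseChange hind N
  let m₁ : Ideal (N ⊗[A] B) := m.map π₁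
  haveI hm₁ : m₁.IsPrime := Ideal.map_isPrime_of_surjective hπs (hkq m inferInstance hεm)
  haveI : Module.Flat N (Localization.AtPrime m₁) :=
    Module.Flat.trans N (N ⊗[A] B) (Localization.AtPrime m₁)
  have hindD : IndEtaleLike N (Localization.AtPrime m₁) := indEtaleLike_localization hind₁ m₁
  haveI : IsDomain (Localization.AtPrime m₁) :=
    isDomain_of_indEtaleLike N (Localization.AtPrime m₁) hindD
  let N₀ : Ideal (N ⊗[A] B) := RingHom.ker (algebraMap (N ⊗[A] B) (Localization.AtPrime m₁))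
  haveI hN₀ : N₀.IsPrime := RingHom.ker_isPrime _
  have key : ∀ q ∈ minimalPrimes (CAlg2.normRed A ⊗[A] B), q ≤ m → q = N₀.comap π₁ := by
    intro q hq hle
    haveI hqp : q.IsPrime := hq.1.1
    have hεq : ε ∉ q := fun h => hεm (hle h)
    have hkq' := hkq q hqp hεq
    haveI hq'p : (q.map π₁).IsPrime := Ideal.map_isPrime_of_surjective hπs hkq'
    have hcm : (q.map π₁).comap π₁ = q := by
      rw [Ideal.comap_map_of_surjective π₁ hπs]
      exact sup_eq_left.mpr hkq'
    have hN₀le : N₀ ≤ q.map π₁ := by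
      intro x hx
      have hx0 : algebraMap (N ⊗[A] B) (Localization.AtPrime m₁) x = 0 := hx
      obtain ⟨s, hs⟩ := (IsLocalization.map_eq_zero_iff m₁.primeCompl _ x).mp hx0
      have hmem : (s : N ⊗[A] B) * x ∈ q.map π₁ := by rw [hs]; exact zero_mem _
      rcases hq'p.mem_or_mem hmem with h | h
      · exact absurd (Ideal.map_mono hle h) s.2
      · exact h
    have h1 : N₀.comap π₁ ≤ q := by
      rw [← hcm]; exact Ideal.comap_mono hN₀le
    have hP' : (N₀.comap π₁).IsPrime := Ideal.comap_isPrime _ _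
    have h2 : q ≤ N₀.comap π₁ := hq.2 ⟨hP', bot_le⟩ h1
    exact le_antisymm h2 h1
  rw [key q₁ h₁ hle₁, key q₂ h₂ hle₂]

theorem existsUnique_minimalPrime_le (hfin : (minimalPrimes A).Finite) (hind : IndEtaleLike A B)
    (m : Ideal (CAlg2.normRed A ⊗[A] B)) [m.IsPrime] :
    ∃! q : Ideal (CAlg2.normRed A ⊗[A] B),
      q ∈ minimalPrimes (CAlg2.normRed A ⊗[A] B) ∧ q ≤ m := by
  obtain ⟨q, hq, hle⟩ := Ideal.exists_minimalPrimes_le (I := ⊥) (J := m) bot_le
  exact ⟨q, ⟨hq, hle⟩, fun q' hq' =>
    minimalPrime_unique_of_le A B hfin hind m hq'.1 hq hq'.2 hle⟩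

end main

section hens

theorem existsUnique_maximal_ge_of_isIntegral (B C : Type u) [CommRing B] [HenselianLocalRing B]
    [CommRing C] [Algebra B C] [Algebra.IsIntegral B C] (q : Ideal C) [q.IsPrime] :
    ∃! m : Ideal C, m.IsMaximal ∧ q ≤ m := by
  haveI : Algebra.IsIntegral B (C ⧸ q) := ⟨fun x => by
    obtain ⟨c, rfl⟩ := Ideal.Quotient.mk_surjective x
    exact (Algebra.IsIntegral.isIntegral (R := B) c).map (Ideal.Quotient.mkₐ B q)⟩
  haveI : IsLocalRing (C ⧸ q) := isLocalRing_of_isIntegral_of_isDomain B (C ⧸ q)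
  let M : Ideal C := (maximalIdeal (C ⧸ q)).comap (Ideal.Quotient.mk q)
  have hM : M.IsMaximal := Ideal.comap_isMaximal_of_surjective _ Ideal.Quotient.mk_surjective
  refine ⟨M, ⟨hM, ?_⟩, ?_⟩
  · intro x hx
    show Ideal.Quotient.mk q x ∈ maximalIdeal _
    rw [Ideal.Quotient.eq_zero_iff_mem.mpr hx]; exact zero_mem _
  · rintro m ⟨hm, hqm⟩
    have hne : m.map (Ideal.Quotient.mk q) ≠ ⊤ := by
      intro h
      have := congrArg (Ideal.comap (Ideal.Quotient.mk q)) h
      rw [Ideal.comap_map_of_surjective _ Ideal.Quotient.mk_surjective, Ideal.comap_top,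
        ← RingHom.ker_eq_comap_bot, Ideal.mk_ker, sup_eq_left.mpr hqm] at this
      exact hm.ne_top this
    have hle : m ≤ M :=
      (Ideal.le_comap_map).trans (Ideal.comap_mono (IsLocalRing.le_maximalIdeal hne))
    exact hm.eq_of_le hM.ne_top hle

attribute [local instance] Algebra.TensorProduct.rightAlgebra

variable (A B : Type u) [CommRing A] [CommRing B] [Algebra A B]

theorem existsUnique_maximal_ge [HenselianLocalRing B] (q : Ideal (CAlg2.normRed A ⊗[A] B))
    (hq : q.IsPrime) :
    ∃! m : Ideal (CAlg2.normRed A ⊗[A] B), m.IsMaximal ∧ q ≤ m := by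
  haveI := hq
  haveI : Algebra.IsIntegral B (CAlg2.normRed A ⊗[A] B) :=
    isIntegral_right' A (CAlg2.normRed A) B
  exact existsUnique_maximal_ge_of_isIntegral B (CAlg2.normRed A ⊗[A] B) q

end hens

end Groth.Agent.Lib.Helper8.NormRedTensor
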