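import Mathlib
import Groth.Prelude
import Groth.Agent.Lib.Helper8.NormRedTensor

/-!
# Counting minimal primes of a henselization via maximal ideals of the normalization
-/

set_option autoImplicit false
universe u
open TensorProduct IsLocalRing

namespace Groth.Agent.Lib.Helper8.BranchCount

open Groth.Agent.Lib.Helper8.Hzl Groth.Agent.Lib.Helper8.UnibranchHens
  Groth.Agent.Lib.Helper8.NormRedTensor

section general

variable (A B : Type u) [CommRing A] [CommRing B] [Algebra A B]

/-- Faithfully flat: minimal primes of `B` surject onto those of `A`. -/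
theorem exists_minimalPrime_comap_eq [Module.FaithfullyFlat A B] (p : Ideal A)
    (hp : p ∈ minimalPrimes A) : ∃ Q ∈ minimalPrimes B, Q.comap (algebraMap A B) = p := by
  haveI : p.IsPrime := hp.1.1
  obtain ⟨P, hP, hPp⟩ := Ideal.exists_isPrime_liesOver_of_faithfullyFlat (B := B) p
  obtain ⟨Q, hQ, hQP⟩ := Ideal.exists_minimalPrimes_le (I := ⊥) (J := P) bot_le
  refine ⟨Q, hQ, ?_⟩
  haveI : Q.IsPrime := hQ.1.1
  have h1 : Q.comap (algebraMap A B) ≤ p :=
    calc Q.comap (algebraMap A B) ≤ P.comap (algebraMap A B) := Ideal.comap_mono hQP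
      _ = p := hPp.over.symm
  exact le_antisymm h1 (hp.2 ⟨Ideal.comap_isPrime _ _, bot_le⟩ h1)

theorem infinite_minimalPrimes_of_faithfullyFlat [Module.FaithfullyFlat A B]
    (h : ¬ (minimalPrimes A).Finite) : ¬ (minimalPrimes B).Finite := by
  intro hB
  apply h
  refine (hB.image (Ideal.comap (algebraMap A B))).subset ?_
  intro p hp
  obtain ⟨Q, hQ, rfl⟩ := exists_minimalPrime_comap_eq A B p hp
  exact ⟨Q, hQ, rfl⟩

end general

section abs

attribute [local instance] Algebra.TensorProduct.rightAlgebra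

variable (A A' B : Type u) [CommRing A] [IsLocalRing A] [CommRing A'] [Algebra A A']
  [Algebra.IsIntegral A A'] [CommRing B] [IsLocalRing B]
  [Algebra A B] [IsLocalHom (algebraMap A B)]

theorem comap_includeRight_eq (m : Ideal (A' ⊗[A] B)) [m.IsMaximal] :
    m.comap (algebraMap B (A' ⊗[A] B)) = maximalIdeal B := by
  haveI : Algebra.IsIntegral B (A' ⊗[A] B) := isIntegral_right' A A' B
  exact eq_maximalIdeal (Ideal.isMaximal_comap_of_isIntegral_of_isMaximal m)

omit [IsLocalRing A] [Algebra.IsIntegral A A'] in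
theorem algebraMap_comp_eq :
    (algebraMap A' (A' ⊗[A] B)).comp (algebraMap A A') =
      (algebraMap B (A' ⊗[A] B)).comp (algebraMap A B) := by
  ext a
  change algebraMap A A' a ⊗ₜ[A] (1 : B) = (1 : A') ⊗ₜ[A] algebraMap A B a
  rw [Algebra.algebraMap_eq_smul_one, Algebra.algebraMap_eq_smul_one, TensorProduct.smul_tmul]

theorem comap_maximalIdeal_eq' : (maximalIdeal B).comap (algebraMap A B) = maximalIdeal A := by
  ext x
  rw [Ideal.mem_comap, mem_maximalIdeal, mem_maximalIdeal, mem_nonunits_iff, mem_nonunits_iff,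
    isUnit_map_iff]

theorem isMaximal_comap_left (m : Ideal (A' ⊗[A] B)) [m.IsMaximal] :
    (m.comap (algebraMap A' (A' ⊗[A] B))).IsMaximal := by
  haveI : (m.comap (algebraMap A' (A' ⊗[A] B))).IsPrime := Ideal.comap_isPrime _ _
  apply Ideal.isMaximal_of_isIntegral_of_isMaximal_comap (R := A)
  have : (m.comap (algebraMap A' (A' ⊗[A] B))).comap (algebraMap A A') = maximalIdeal A := by
    rw [Ideal.comap_comap, algebraMap_comp_eq A A' B, ← Ideal.comap_comap,
      comap_includeRight_eq A A' B m, comap_maximalIdeal_eq' A B]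
  rw [this]; infer_instance

omit [IsLocalRing A] [Algebra.IsIntegral A A'] [IsLocalHom (algebraMap A B)] in
theorem exists_sub_mem (hres : ∀ b : B, ∃ a : A, b - algebraMap A B a ∈ maximalIdeal B)
    (c : A' ⊗[A] B) :
    ∃ x : A', c - x ⊗ₜ[A] (1 : B) ∈ (maximalIdeal B).map (algebraMap B (A' ⊗[A] B)) := by
  induction c using TensorProduct.induction_on with
  | zero => exact ⟨0, by simp⟩
  | tmul x b =>
    obtain ⟨a, ha⟩ := hres b
    refine ⟨a • x, ?_⟩
    have : x ⊗ₜ[A] b - (a • x) ⊗ₜ[A] (1 : B) =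
        (x ⊗ₜ[A] (1 : B)) * algebraMap B (A' ⊗[A] B) (b - algebraMap A B a) := by
      rw [Algebra.TensorProduct.right_algebraMap_apply, Algebra.TensorProduct.tmul_mul_tmul,
        mul_one, one_mul, TensorProduct.tmul_sub, Algebra.algebraMap_eq_smul_one,
        TensorProduct.tmul_smul, TensorProduct.smul_tmul']
    rw [this]
    exact Ideal.mul_mem_left _ _ (Ideal.mem_map_of_mem _ ha)
  | add c₁ c₂ h₁ h₂ =>
    obtain ⟨x₁, h₁⟩ := h₁
    obtain ⟨x₂, h₂⟩ := h₂
    refine ⟨x₁ + x₂, ?_⟩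
    have : c₁ + c₂ - (x₁ + x₂) ⊗ₜ[A] (1 : B) =
        (c₁ - x₁ ⊗ₜ[A] (1 : B)) + (c₂ - x₂ ⊗ₜ[A] (1 : B)) := by
      rw [TensorProduct.add_tmul]; ring
    rw [this]; exact add_mem h₁ h₂

theorem comap_left_injective (hres : ∀ b : B, ∃ a : A, b - algebraMap A B a ∈ maximalIdeal B)
    (m₁ m₂ : Ideal (A' ⊗[A] B)) [hm₁ : m₁.IsMaximal] [hm₂ : m₂.IsMaximal]
    (h : m₁.comap (algebraMap A' (A' ⊗[A] B)) = m₂.comap (algebraMap A' (A' ⊗[A] B))) :
    m₁ = m₂ := by
  have hJ : ∀ m : Ideal (A' ⊗[A] B), m.IsMaximal →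
      (maximalIdeal B).map (algebraMap B (A' ⊗[A] B)) ≤ m := by
    intro m hm
    haveI := hm
    rw [Ideal.map_le_iff_le_comap, comap_includeRight_eq A A' B m]
  have hle : m₁ ≤ m₂ := by
    intro c hc
    obtain ⟨x, hx⟩ := exists_sub_mem A A' B hres c
    have h1 : x ⊗ₜ[A] (1 : B) ∈ m₁ := by
      have := sub_mem hc (hJ m₁ hm₁ hx)
      rwa [sub_sub_cancel] at this
    have h2 : x ∈ m₁.comap (algebraMap A' (A' ⊗[A] B)) := h1
    rw [h] at h2
    have h3 : x ⊗ₜ[A] (1 : B) ∈ m₂ := h2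
    have := add_mem h3 (hJ m₂ hm₂ hx)
    rwa [add_sub_cancel] at this
  exact hm₁.eq_of_le hm₂.ne_top hle

theorem exists_maximal_comap_eq [Module.Flat A B] (P : Ideal A') [hP : P.IsMaximal] :
    ∃ m : Ideal (A' ⊗[A] B), m.IsMaximal ∧ m.comap (algebraMap A' (A' ⊗[A] B)) = P := by
  haveI : Module.FaithfullyFlat A B := Module.FaithfullyFlat.of_flat_of_isLocalHom
  haveI : Module.FaithfullyFlat A' (A' ⊗[A] B) := inferInstance
  have h1 : (P.map (algebraMap A' (A' ⊗[A] B))).comap (algebraMap A' (A' ⊗[A] B)) = P :=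
    Ideal.comap_map_eq_self_of_faithfullyFlat P
  have hne : P.map (algebraMap A' (A' ⊗[A] B)) ≠ ⊤ := by
    intro h
    rw [h, Ideal.comap_top] at h1
    exact hP.ne_top h1.symm
  obtain ⟨m, hm, hle⟩ := Ideal.exists_le_maximal _ hne
  refine ⟨m, hm, ?_⟩
  have h2 : P ≤ m.comap (algebraMap A' (A' ⊗[A] B)) := by
    rw [← h1]; exact Ideal.comap_mono hle
  have h3 : m.comap (algebraMap A' (A' ⊗[A] B)) ≠ ⊤ := Ideal.comap_ne_top _ hm.ne_top
  exact (hP.eq_of_le h3 h2).symm

/-- Contraction of maximal ideals to the normalization. -/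
noncomputable def maxToMax (m : MaximalSpectrum (A' ⊗[A] B)) : MaximalSpectrum A' :=
  ⟨m.asIdeal.comap (algebraMap A' (A' ⊗[A] B)),
    haveI := m.isMaximal; isMaximal_comap_left A A' B m.asIdeal⟩

theorem maxToMax_bijective [Module.Flat A B]
    (hres : ∀ b : B, ∃ a : A, b - algebraMap A B a ∈ maximalIdeal B) :
    Function.Bijective (maxToMax A A' B) := by
  constructor
  · intro m₁ m₂ h
    haveI := m₁.isMaximal
    haveI := m₂.isMaximal
    exact MaximalSpectrum.ext (comap_left_injective A A' B hres m₁.asIdeal m₂.asIdeal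
      (congrArg MaximalSpectrum.asIdeal h))
  · intro P
    haveI := P.isMaximal
    obtain ⟨m, hm, hmP⟩ := exists_maximal_comap_eq A A' B P.asIdeal
    exact ⟨⟨m, hm⟩, MaximalSpectrum.ext hmP⟩

end abs

section count

attribute [local instance] Algebra.TensorProduct.rightAlgebra

variable (A B : Type u) [CommRing A] [IsLocalRing A] [CommRing B] [HenselianLocalRing B]
  [Algebra A B] [IsLocalHom (algebraMap A B)] [Module.Flat A B]

/-- The maximal ideal containing a given minimal prime. -/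
noncomputable def minToMax (q : minimalPrimes (CAlg2.normRed A ⊗[A] B)) :
    MaximalSpectrum (CAlg2.normRed A ⊗[A] B) :=
  ⟨Classical.choose (existsUnique_maximal_ge A B q.1 q.2.1.1).exists,
    (Classical.choose_spec (existsUnique_maximal_ge A B q.1 q.2.1.1).exists).1⟩

theorem le_minToMax (q : minimalPrimes (CAlg2.normRed A ⊗[A] B)) :
    q.1 ≤ (minToMax A B q).asIdeal :=
  (Classical.choose_spec (existsUnique_maximal_ge A B q.1 q.2.1.1).exists).2

theorem minToMax_eq (q : minimalPrimes (CAlg2.normRed A ⊗[A] B))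
    (m : Ideal (CAlg2.normRed A ⊗[A] B)) (hm : m.IsMaximal) (hle : q.1 ≤ m) :
    (minToMax A B q).asIdeal = m :=
  (existsUnique_maximal_ge A B q.1 q.2.1.1).unique
    ⟨(minToMax A B q).isMaximal, le_minToMax A B q⟩ ⟨hm, hle⟩

theorem minToMax_bijective (hfin : (minimalPrimes A).Finite) (hind : IndEtaleLike A B) :
    Function.Bijective (minToMax A B) := by
  constructor
  · intro q₁ q₂ h
    apply Subtype.ext
    haveI := (minToMax A B q₁).isMaximal.isPrime
    exact minimalPrime_unique_of_le A B hfin hind (minToMax A B q₁).asIdeal q₁.2 q₂.2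
      (le_minToMax A B q₁) (by rw [h]; exact le_minToMax A B q₂)
  · intro m
    haveI := m.isMaximal.isPrime
    obtain ⟨q, hq, hle⟩ := Ideal.exists_minimalPrimes_le (I := ⊥) (J := m.asIdeal) bot_le
    exact ⟨⟨q, hq⟩, MaximalSpectrum.ext (minToMax_eq A B ⟨q, hq⟩ m.asIdeal m.isMaximal hle)⟩

theorem card_minimalPrimes_eq (hfin : (minimalPrimes A).Finite) (hind : IndEtaleLike A B)
    (hres : ∀ b : B, ∃ a : A, b - algebraMap A B a ∈ maximalIdeal B) :
    ENat.card (minimalPrimes B) = ENat.card (MaximalSpectrum (CAlg2.normRed A)) := by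
  have e1 : minimalPrimes (CAlg2.normRed A ⊗[A] B) ≃ minimalPrimes B :=
    Set.BijOn.equiv _ (MinPrimeNorm.bijOn_normRed A B)
  have e2 : minimalPrimes (CAlg2.normRed A ⊗[A] B) ≃
      MaximalSpectrum (CAlg2.normRed A ⊗[A] B) :=
    Equiv.ofBijective _ (minToMax_bijective A B hfin hind)
  have e3 : MaximalSpectrum (CAlg2.normRed A ⊗[A] B) ≃ MaximalSpectrum (CAlg2.normRed A) :=
    Equiv.ofBijective (maxToMax A (CAlg2.normRed A) B)
      (maxToMax_bijective A (CAlg2.normRed A) B hres)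
  exact (ENat.card_congr e1).symm.trans ((ENat.card_congr e2).trans (ENat.card_congr e3))

end count

end Groth.Agent.Lib.Helper8.BranchCount
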