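import Mathlib
import Groth.Prelude
import Groth.Agent.Lib.Helper8.MinPrimeNorm
import Groth.Agent.Lib.Helper8.Hzl.IntegralHens
import Groth.Agent.Lib.Helper8.Hzl.Main
import Groth.Agent.Lib.Helper8.Hzl.Transfer

/-!
# Number of branches as a sum over minimal primes
-/

set_option autoImplicit false
universe u
open TensorProduct IsLocalRing

namespace Groth.Agent.Lib.Helper8.BranchSum

open Groth.Agent.Lib.Helper8.Hzl

section flat

variable (A H : Type u) [CommRing A] [CommRing H] [Algebra A H] [Module.Flat A H]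

theorem comap_mem_minimalPrimes {Q : Ideal H} (hQ : Q ∈ minimalPrimes H) :
    Q.comap (algebraMap A H) ∈ minimalPrimes A := by
  haveI : Q.IsPrime := hQ.1.1
  refine ⟨⟨Ideal.comap_isPrime _ _, bot_le⟩, ?_⟩
  rintro p' ⟨hp', -⟩ hle
  haveI := hp'
  haveI : Q.LiesOver (Q.comap (algebraMap A H)) := ⟨rfl⟩
  obtain ⟨P, hPQ, hP, hPp⟩ := Ideal.exists_ideal_le_liesOver_of_le (S := H) (p := p')
    (q := Q.comap (algebraMap A H)) Q hle
  have hQP : Q ≤ P := hQ.2 ⟨hP, bot_le⟩ hPQ
  have hPQ' : P = Q := le_antisymm hPQ hQP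
  have h1 : p' = Q.comap (algebraMap A H) := by rw [← hPQ']; exact hPp.over
  rw [h1]

theorem minimalPrimes_map_eq {p : Ideal A} (hp : p ∈ minimalPrimes A) :
    (p.map (algebraMap A H)).minimalPrimes =
      {Q | Q ∈ minimalPrimes H ∧ Q.comap (algebraMap A H) = p} := by
  haveI : p.IsPrime := hp.1.1
  ext Q
  constructor
  · intro hQ
    haveI hQp : Q.IsPrime := hQ.1.1
    have hpQ : p ≤ Q.comap (algebraMap A H) := Ideal.map_le_iff_le_comap.mp hQ.1.2
    haveI : Q.LiesOver (Q.comap (algebraMap A H)) := ⟨rfl⟩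
    obtain ⟨P, hPQ, hP, hPp⟩ := Ideal.exists_ideal_le_liesOver_of_le (S := H) (p := p)
      (q := Q.comap (algebraMap A H)) Q hpQ
    have hmapP : p.map (algebraMap A H) ≤ P := by
      rw [Ideal.map_le_iff_le_comap]; exact hPp.over.le
    have hQP : Q ≤ P := hQ.2 ⟨hP, hmapP⟩ hPQ
    have hPQ' : P = Q := le_antisymm hPQ hQP
    have hunder : Q.comap (algebraMap A H) = p := by rw [← hPQ']; exact hPp.over.symm
    refine ⟨⟨⟨hQp, bot_le⟩, ?_⟩, hunder⟩
    rintro Q₀ ⟨hQ₀, -⟩ hle
    haveI := hQ₀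
    have h1 : Q₀.comap (algebraMap A H) ≤ p := by rw [← hunder]; exact Ideal.comap_mono hle
    have h2 : p ≤ Q₀.comap (algebraMap A H) := hp.2 ⟨Ideal.comap_isPrime _ _, bot_le⟩ h1
    exact hQ.2 ⟨hQ₀, Ideal.map_le_iff_le_comap.mpr h2⟩ hle
  · rintro ⟨hQ, hunder⟩
    haveI hQp : Q.IsPrime := hQ.1.1
    refine ⟨⟨hQp, ?_⟩, ?_⟩
    · rw [Ideal.map_le_iff_le_comap, hunder]
    · rintro Q' ⟨hQ', -⟩ hle
      exact hQ.2 ⟨hQ', bot_le⟩ hle

end flat

theorem encard_minimalPrimes_quotient {R : Type u} [CommRing R] (I : Ideal R) :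
    (minimalPrimes (R ⧸ I)).encard = I.minimalPrimes.encard := by
  rw [Ideal.minimalPrimes_eq_comap (I := I)]
  exact ((Ideal.comap_injective_of_surjective _
    Ideal.Quotient.mk_surjective).injOn.encard_image).symm

theorem encard_minimalPrimes_ringEquiv {R S : Type u} [CommRing R] [CommRing S] (e : R ≃+* S) :
    (minimalPrimes R).encard = (minimalPrimes S).encard :=
  (Set.encard_congr (Set.BijOn.equiv _ (MinPrimeNorm.bijOn_comap_ringEquiv e))).symm

theorem isLocalHom_quotient (A : Type u) [CommRing A] [IsLocalRing A] (p : Ideal A) [p.IsPrime] :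
    IsLocalHom (algebraMap A (A ⧸ p)) := by
  refine ⟨fun a ha => ?_⟩
  by_contra hnu
  have hmem : a ∈ maximalIdeal A := (mem_maximalIdeal a).mpr hnu
  have hp : p ≤ maximalIdeal A := IsLocalRing.le_maximalIdeal (Ideal.IsPrime.ne_top inferInstance)
  obtain ⟨b', hb'⟩ := ha.exists_right_inv
  obtain ⟨b, rfl⟩ := Ideal.Quotient.mk_surjective b'
  have hab : a * b - 1 ∈ p := by
    rw [← Ideal.Quotient.eq, map_mul, map_one]; exact hb'
  have h1 : (1 : A) ∈ maximalIdeal A := by
    have h2 := sub_mem (Ideal.mul_mem_right b _ hmem) (hp hab)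
    rwa [sub_sub_cancel] at h2
  exact (Ideal.IsPrime.ne_top inferInstance : maximalIdeal A ≠ ⊤)
    ((Ideal.eq_top_iff_one _).mpr h1)

section main

variable (A : Type u) [CommRing A] [IsLocalRing A]

/-- Number of branches as a sum over minimal primes, given that the number of branches is the
number of minimal primes of a henselization. -/
theorem numBranches_eq_finsum (h : (minimalPrimes A).Finite)
    (hbr : ∀ (R S : Type u) [CommRing R] [IsLocalRing R] [CommRing S] [IsLocalRing S]
      [Algebra R S] [IsLocalHom (algebraMap R S)] [Hensel.IsHenselization R S],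
      ENat.card (minimalPrimes S) = Brnch.numBranches R) :
    Brnch.numBranches A =
      ∑ᶠ p : minimalPrimes A,
        haveI : p.1.IsPrime := p.2.1.1
        Brnch.numBranches (A ⧸ p.1) := by
  classical
  haveI hH := isHenselization A
  haveI : Module.Flat A (Hens A) := henselization_flat A (Hens A)
  rw [← hbr A (Hens A)]
  let s : minimalPrimes A → Set (Ideal (Hens A)) := fun p =>
    {Q | Q ∈ minimalPrimes (Hens A) ∧ Q.comap (algebraMap A (Hens A)) = p.1}
  have hU : (⋃ p, s p) = minimalPrimes (Hens A) := by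
    ext Q
    simp only [Set.mem_iUnion, s, Set.mem_setOf_eq]
    constructor
    · rintro ⟨p, hQ, -⟩; exact hQ
    · intro hQ; exact ⟨⟨_, comap_mem_minimalPrimes A (Hens A) hQ⟩, hQ, rfl⟩
  have hdisj : Pairwise (Function.onFun Disjoint s) := by
    intro p p' hne
    rw [Function.onFun, Set.disjoint_left]
    rintro Q ⟨-, h1⟩ ⟨-, h2⟩
    exact hne (Subtype.ext (h1.symm.trans h2))
  haveI : Finite (minimalPrimes A) := h.to_subtype
  change (minimalPrimes (Hens A)).encard = _
  rw [← hU, Set.encard_iUnion_of_finite hdisj]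
  apply finsum_congr
  intro p
  haveI : p.1.IsPrime := p.2.1.1
  haveI : IsLocalHom (algebraMap A (A ⧸ p.1)) := isLocalHom_quotient A p.1
  haveI : Algebra.IsIntegral A (A ⧸ p.1) :=
    Algebra.isIntegral_of_surjective Ideal.Quotient.mk_surjective
  haveI := isLocalRing_tensor A (A ⧸ p.1) (Hens A)
  haveI := isLocalHom_algebraMap_tensor A (A ⧸ p.1) (Hens A)
  haveI := isHenselization_tensor A (A ⧸ p.1) (Hens A)
  rw [← hbr (A ⧸ p.1) ((A ⧸ p.1) ⊗[A] Hens A)]
  change (s p).encard = (minimalPrimes ((A ⧸ p.1) ⊗[A] Hens A)).encard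
  have e := Algebra.TensorProduct.quotIdealMapEquivQuotTensor (Hens A) p.1
  calc (s p).encard = ((p.1.map (algebraMap A (Hens A))).minimalPrimes).encard := by
        rw [minimalPrimes_map_eq A (Hens A) p.2]
    _ = (minimalPrimes (Hens A ⧸ p.1.map (algebraMap A (Hens A)))).encard :=
        (encard_minimalPrimes_quotient _).symm
    _ = (minimalPrimes ((A ⧸ p.1) ⊗[A] Hens A)).encard :=
        encard_minimalPrimes_ringEquiv (R := Hens A ⧸ p.1.map (algebraMap A (Hens A)))
          (S := (A ⧸ p.1) ⊗[A] Hens A) e.toRingEquiv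

end main

end Groth.Agent.Lib.Helper8.BranchSum
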