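import Mathlib

/-
Lifting étale algebras along a surjection `R → R ⧸ I` (Stacks 04D1), via submersive
presentations: `EtLift.exists_lift`.
-/

open TensorProduct MvPolynomial

universe u

namespace Groth.Agent.Lib.Helper8.EtLift

open Algebra

variable {R : Type u} [CommRing R] {ι σ : Type} [Finite ι] [Finite σ]

/-- the étale algebra from a "naive" presubmersive presentation, localized at the jacobian. -/
theorem etale_localization_naive (v : σ → MvPolynomial ι R) (a : σ → ι) (ha : Function.Injective a)
    (hcard : Nat.card ι = Nat.card σ) :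
    let P₁ : PreSubmersivePresentation R (MvPolynomial ι R ⧸ Ideal.span (Set.range v)) ι σ :=
      PreSubmersivePresentation.naive a ha
    Algebra.Etale R (Localization.Away P₁.jacobian) := by
  intro P₁
  set S₁ := MvPolynomial ι R ⧸ Ideal.span (Set.range v)
  set S := Localization.Away P₁.jacobian
  let Q : SubmersivePresentation S₁ S Unit Unit := SubmersivePresentation.localizationAway S P₁.jacobian
  let QP : PreSubmersivePresentation R S (Unit ⊕ ι) (Unit ⊕ σ) := Q.toPreSubmersivePresentation.comp P₁
  have hj : IsUnit QP.jacobian := by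
    rw [PreSubmersivePresentation.comp_jacobian_eq_jacobian_smul_jacobian, Algebra.smul_def]
    exact (IsLocalization.Away.algebraMap_isUnit _).mul Q.jacobian_isUnit
  let QP' : SubmersivePresentation R S (Unit ⊕ ι) (Unit ⊕ σ) := { QP with jacobian_isUnit := hj }
  have hdim : QP'.dimension = 0 := by
    change QP.dimension = 0
    rw [PreSubmersivePresentation.dimension_comp_eq_dimension_add_dimension]
    simp [Presentation.dimension, hcard]
  have : IsStandardSmoothOfRelativeDimension 0 R S := QP'.isStandardSmoothOfRelativeDimension hdim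
  infer_instance

end Groth.Agent.Lib.Helper8.EtLift

namespace Groth.Agent.Lib.Helper8.EtLift
open Algebra

theorem isLocalization_of_bijective_of_isUnit {A B : Type*} [CommSemiring A] [CommSemiring B]
    [Algebra A B] (M : Submonoid A) (hb : Function.Bijective (algebraMap A B))
    (hu : ∀ m ∈ M, IsUnit (algebraMap A B m)) : IsLocalization M B where
  map_units := fun m => hu m m.2
  surj := fun z => by obtain ⟨x, rfl⟩ := hb.2 z; exact ⟨(x, 1), by simp⟩
  exists_of_eq := fun h => ⟨1, by simp [hb.1 h]⟩

theorem exists_equiv_of_relation_eq {R S S' : Type*} {ι σ : Type*} [CommRing R] [CommRing S]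
    [CommRing S'] [Algebra R S] [Algebra R S'] (P : Presentation R S ι σ)
    (P' : Presentation R S' ι σ) (h : P.relation = P'.relation) :
    ∃ e : S ≃ₐ[R] S', ∀ p : MvPolynomial ι R, e (aeval P.val p) = aeval P'.val p := by
  have hs : Function.Surjective (aeval (R := R) P.val) := by
    intro x; obtain ⟨y, rfl⟩ := P.algebraMap_surjective x; exact ⟨y, (P.algebraMap_apply y).symm⟩
  have hs' : Function.Surjective (aeval (R := R) P'.val) := by
    intro x; obtain ⟨y, rfl⟩ := P'.algebraMap_surjective x; exact ⟨y, (P'.algebraMap_apply y).symm⟩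
  have hker : RingHom.ker (aeval (R := R) P.val) = RingHom.ker (aeval (R := R) P'.val) := by
    have h1 := P.span_range_relation_eq_ker
    have h2 := P'.span_range_relation_eq_ker
    rw [h] at h1
    rw [← P.ker_eq_ker_aeval_val, ← P'.ker_eq_ker_aeval_val]
    exact h1.symm.trans h2
  refine ⟨(Ideal.quotientKerAlgEquivOfSurjective hs).symm.trans
    ((Ideal.quotientEquivAlgOfEq R hker).trans (Ideal.quotientKerAlgEquivOfSurjective hs')), ?_⟩
  intro p
  have : (Ideal.quotientKerAlgEquivOfSurjective hs).symm (aeval P.val p) =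
      Ideal.Quotient.mk _ p := by
    rw [AlgEquiv.symm_apply_eq]
    simp
  simp [this]

end Groth.Agent.Lib.Helper8.EtLift

namespace Groth.Agent.Lib.Helper8.EtLift
open Algebra

theorem jacobiMatrix_eq_of_relation_eq {R S S' : Type*} {ι σ : Type*} [CommRing R] [CommRing S]
    [CommRing S'] [Algebra R S] [Algebra R S'] [Fintype σ] [DecidableEq σ]
    (P : PreSubmersivePresentation R S ι σ)
    (P' : PreSubmersivePresentation R S' ι σ) (h : P.relation = P'.relation)
    (hm : P.map = P'.map) :
    (P.jacobiMatrix : Matrix σ σ (MvPolynomial ι R)) = P'.jacobiMatrix := by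
  ext i j : 1
  rw [PreSubmersivePresentation.jacobiMatrix_apply, PreSubmersivePresentation.jacobiMatrix_apply,
    h, hm]

theorem jacobian_eq_of_relation_eq {R S S' : Type*} {ι σ : Type*} [CommRing R] [CommRing S]
    [CommRing S'] [Algebra R S] [Algebra R S'] [Finite σ]
    (P : PreSubmersivePresentation R S ι σ)
    (P' : PreSubmersivePresentation R S' ι σ) (h : P.relation = P'.relation)
    (hm : P.map = P'.map) (e : S ≃ₐ[R] S')
    (he : ∀ p : MvPolynomial ι R, e (aeval P.val p) = aeval P'.val p) :
    e P.jacobian = P'.jacobian := by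
  classical
  cases nonempty_fintype σ
  rw [PreSubmersivePresentation.jacobian_eq_jacobiMatrix_det,
    PreSubmersivePresentation.jacobian_eq_jacobiMatrix_det, Generators.algebraMap_apply,
    Generators.algebraMap_apply, he, jacobiMatrix_eq_of_relation_eq P P' h hm]

theorem exists_equiv_of_localization {R : Type*} [CommRing R] (k A Sb : Type*) [CommRing k]
    [Algebra R k] [CommRing A] [Algebra R A] [CommRing Sb] [Algebra k Sb]
    (e₁ : (k ⊗[R] A) ≃ₐ[k] Sb) (g : A) (hg : IsUnit (e₁ (1 ⊗ₜ g))) :
    Nonempty ((k ⊗[R] Localization.Away g) ≃ₐ[k] Sb) := by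
  let : Algebra (k ⊗[R] A) Sb := e₁.toAlgHom.toRingHom.toAlgebra
  have : IsScalarTower k (k ⊗[R] A) Sb :=
    ⟨fun x y z => by
      change e₁ (x • y) * z = x • (e₁ y * z)
      rw [map_smul, smul_mul_assoc]⟩
  have : IsLocalization ((Submonoid.powers g).map
      (Algebra.TensorProduct.includeRight (R := R) (A := k))) Sb := by
    apply isLocalization_of_bijective_of_isUnit
    · exact e₁.bijective
    · rintro _ ⟨_, ⟨n, rfl⟩, rfl⟩
      change IsUnit (e₁ (Algebra.TensorProduct.includeRight (g ^ n)))
      rw [map_pow, map_pow, Algebra.TensorProduct.includeRight_apply]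
      exact hg.pow n
  exact ⟨IsLocalization.tensorProductEquivOfMapIncludeRight R k
    (Submonoid.powers g) (Localization.Away g) Sb⟩

theorem exists_lift (R : Type u) [CommRing R] (I : Ideal R) (Sb : Type u) [CommRing Sb]
    [Algebra (R ⧸ I) Sb] [Algebra.Etale (R ⧸ I) Sb] :
    ∃ (S : Type u) (_ : CommRing S) (_ : Algebra R S), Algebra.Etale R S ∧
      Nonempty (((R ⧸ I) ⊗[R] S) ≃ₐ[R ⧸ I] Sb) := by
  have h0 : IsStandardSmoothOfRelativeDimension 0 (R ⧸ I) Sb :=
    Etale.iff_isStandardSmoothOfRelativeDimension_zero.mp inferInstance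
  obtain ⟨ι, σ, _, _, P, hP⟩ := h0.out
  have hcard : Nat.card ι = Nat.card σ := by
    have := P.card_relations_le_card_vars_of_isFinite
    simp only [Presentation.dimension] at hP; omega
  have hv : ∀ j, ∃ p : MvPolynomial ι R, MvPolynomial.map (Ideal.Quotient.mk I) p = P.relation j :=
    fun j => MvPolynomial.map_surjective _ Ideal.Quotient.mk_surjective _
  choose v hv using hv
  let P₁ : PreSubmersivePresentation R (MvPolynomial ι R ⧸ Ideal.span (Set.range v)) ι σ :=
    PreSubmersivePresentation.naive P.map P.map_inj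
  refine ⟨Localization.Away P₁.jacobian, inferInstance, inferInstance,
    etale_localization_naive v P.map P.map_inj hcard, ?_⟩
  let PB : PreSubmersivePresentation (R ⧸ I) ((R ⧸ I) ⊗[R]
      (MvPolynomial ι R ⧸ Ideal.span (Set.range v))) ι σ := P₁.baseChange (R ⧸ I)
  have hrel : PB.relation = P.relation := by
    funext j
    exact hv j
  obtain ⟨e₁, he₁⟩ := exists_equiv_of_relation_eq PB.toPresentation P.toPresentation hrel
  have hjac : e₁ (1 ⊗ₜ P₁.jacobian) = P.jacobian := by
    rw [← PreSubmersivePresentation.baseChange_jacobian]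
    exact jacobian_eq_of_relation_eq PB P.toPreSubmersivePresentation hrel rfl e₁ he₁
  exact exists_equiv_of_localization (R ⧸ I) _ Sb e₁ P₁.jacobian (hjac ▸ P.jacobian_isUnit)

end Groth.Agent.Lib.Helper8.EtLift
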