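import Mathlib
import Groth.Prelude.Def_PBC
import Groth.Agent.Lib.Helper8.WeakColimSmooth
import Groth.Agent.Lib.Helper8.Hzl.NbhdColimit

set_option autoImplicit false

universe u

open CategoryTheory Limits TensorProduct

namespace Groth.Agent.Lib.Helper8.IndEt

open Groth.Agent.Lib.Helper8.WeakColim

section OfFiltered

/-- The weak index category of a filtered category. -/
def _root_.Groth.Agent.Lib.Helper8.WeakColim.WSys.ofFiltered (C : Type u) [Category.{u} C]
    [IsFilteredOrEmpty C] : WSys.{u, u} C where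
  H X Y := X ⟶ Y
  id X := 𝟙 X
  comp f g := f ≫ g
  directed X Y := ⟨IsFiltered.max X Y, ⟨IsFiltered.leftToMax X Y⟩, ⟨IsFiltered.rightToMax X Y⟩⟩

end OfFiltered

section Coeq

variable {A E₁ E₂ : Type u} [CommRing A] [CommRing E₁] [CommRing E₂] [Algebra A E₁] [Algebra A E₂]

/-- The ideal of `E₂` generated by the `u x - v x`. -/
noncomputable def coeqIdeal (u v : E₁ →ₐ[A] E₂) : Ideal E₂ :=
  Ideal.map (Algebra.TensorProduct.productMap u v) (KaehlerDifferential.ideal A E₁)

theorem sub_mem_coeqIdeal (u v : E₁ →ₐ[A] E₂) (x : E₁) : v x - u x ∈ coeqIdeal u v := by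
  have h1 := KaehlerDifferential.one_smul_sub_smul_one_mem_ideal A x
  have h2 := Ideal.mem_map_of_mem (Algebra.TensorProduct.productMap u v) h1
  simpa [coeqIdeal] using h2

theorem coeqIdeal_le_ker {B : Type*} [CommRing B] [Algebra A B] (u v : E₁ →ₐ[A] E₂)
    (φ : E₂ →ₐ[A] B) (h : φ.comp u = φ.comp v) : coeqIdeal u v ≤ RingHom.ker φ.toRingHom := by
  rw [coeqIdeal, ← KaehlerDifferential.span_range_eq_ideal, Ideal.map_span, Ideal.span_le]
  rintro _ ⟨_, ⟨x, rfl⟩, rfl⟩
  have := AlgHom.congr_fun h x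
  simp only [AlgHom.comp_apply] at this
  simp [RingHom.mem_ker, this]

theorem etale_quotient_coeqIdeal [Algebra.Etale A E₁] [Algebra.Etale A E₂] (u v : E₁ →ₐ[A] E₂) :
    Algebra.Etale A (E₂ ⧸ coeqIdeal u v) := by
  have hJ : IsIdempotentElem (KaehlerDifferential.ideal A E₁) :=
    (Ideal.cotangent_subsingleton_iff _).mp (inferInstanceAs (Subsingleton Ω[E₁⁄A]))
  have hK : IsIdempotentElem (coeqIdeal u v) := by
    unfold IsIdempotentElem coeqIdeal
    rw [← Ideal.map_mul, hJ.eq]
  have hfg : (coeqIdeal u v).FG := (KaehlerDifferential.ideal_fg A E₁).map _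
  haveI : Algebra.FinitePresentation E₂ (E₂ ⧸ coeqIdeal u v) :=
    Algebra.FinitePresentation.quotient hfg
  haveI : Algebra.FormallyEtale E₂ (E₂ ⧸ coeqIdeal u v) := by
    rw [Algebra.FormallyEtale.iff_of_surjective Ideal.Quotient.mk_surjective]
    rw [Ideal.Quotient.algebraMap_eq, Ideal.mk_ker]
    exact hK
  haveI : Algebra.Etale E₂ (E₂ ⧸ coeqIdeal u v) := {}
  exact Algebra.Etale.comp A E₂ _

end Coeq

section Cat

variable (A B : Type u) [CommRing A] [CommRing B] [Algebra A B]

/-- The (small) category of étale `A`-algebras, presented as quotients of polynomial rings,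
equipped with a map to `B`. -/
structure EtOver : Type u where
  n : ℕ
  I : Ideal (MvPolynomial (Fin n) A)
  etale : Algebra.Etale A (MvPolynomial (Fin n) A ⧸ I)
  φ : (MvPolynomial (Fin n) A ⧸ I) →ₐ[A] B

variable {A B}

/-- The underlying algebra. -/
abbrev EtOver.E (X : EtOver A B) : Type u := MvPolynomial (Fin X.n) A ⧸ X.I

instance (X : EtOver A B) : Algebra.Etale A X.E := X.etale

noncomputable instance : Category.{u} (EtOver A B) where
  Hom X Y := {ψ : X.E →ₐ[A] Y.E // Y.φ.comp ψ = X.φ}
  id X := ⟨AlgHom.id A _, AlgHom.comp_id _⟩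
  comp f g := ⟨g.1.comp f.1, by rw [← AlgHom.comp_assoc, g.2, f.2]⟩
  id_comp f := Subtype.ext (AlgHom.comp_id _)
  comp_id f := Subtype.ext (AlgHom.id_comp _)
  assoc f g h := Subtype.ext (AlgHom.comp_assoc _ _ _).symm

theorem EtOver.comp_val {X Y Z : EtOver A B} (f : X ⟶ Y) (g : Y ⟶ Z) :
    (f ≫ g).1 = g.1.comp f.1 := rfl

theorem EtOver.id_val (X : EtOver A B) : (𝟙 X : X ⟶ X).1 = AlgHom.id A X.E := rfl

theorem EtOver.hom_ext {X Y : EtOver A B} (f g : X ⟶ Y) (h : f.1 = g.1) : f = g := Subtype.ext h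

/-- Every étale algebra with a map to `B` is realized by an object of `EtOver A B`. -/
theorem EtOver.exists_realize (E : Type u) [CommRing E] [Algebra A E] [Algebra.Etale A E]
    (φ : E →ₐ[A] B) : ∃ (X : EtOver A B) (e : X.E ≃ₐ[A] E), φ.comp e.toAlgHom = X.φ := by
  obtain ⟨n, f, hf, -⟩ := Algebra.FinitePresentation.out (R := A) (A := E)
  let e : (MvPolynomial (Fin n) A ⧸ RingHom.ker f.toRingHom) ≃ₐ[A] E :=
    Ideal.quotientKerAlgEquivOfSurjective hf
  exact ⟨⟨n, RingHom.ker f.toRingHom, Algebra.Etale.of_equiv e.symm, φ.comp e.toAlgHom⟩, e, rfl⟩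

instance : Nonempty (EtOver A B) := by
  obtain ⟨X, -, -⟩ := EtOver.exists_realize A (Algebra.ofId A B)
  exact ⟨X⟩

instance : IsFiltered (EtOver A B) where
  cocone_objs X Y := by
    haveI : Algebra.Etale A (X.E ⊗[A] Y.E) := Algebra.Etale.comp A X.E _
    obtain ⟨Z, e, he⟩ := EtOver.exists_realize (X.E ⊗[A] Y.E)
      (Algebra.TensorProduct.productMap X.φ Y.φ)
    refine ⟨Z, ⟨e.symm.toAlgHom.comp Algebra.TensorProduct.includeLeft, ?_⟩,
      ⟨e.symm.toAlgHom.comp Algebra.TensorProduct.includeRight, ?_⟩, trivial⟩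
    · rw [← he]
      ext x
      simp
    · rw [← he]
      ext x
      simp
  cocone_maps X Y f g := by
    haveI : Algebra.Etale A (Y.E ⧸ coeqIdeal f.1 g.1) := etale_quotient_coeqIdeal f.1 g.1
    have hle : coeqIdeal f.1 g.1 ≤ RingHom.ker Y.φ.toRingHom :=
      coeqIdeal_le_ker f.1 g.1 Y.φ (f.2.trans g.2.symm)
    obtain ⟨Z, e, he⟩ := EtOver.exists_realize (Y.E ⧸ coeqIdeal f.1 g.1)
      (Ideal.Quotient.liftₐ _ Y.φ hle)
    refine ⟨Z, ⟨e.symm.toAlgHom.comp (Ideal.Quotient.mkₐ A _), ?_⟩, ?_⟩
    · rw [← he]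
      ext x
      simp
    · apply EtOver.hom_ext
      rw [EtOver.comp_val, EtOver.comp_val]
      ext x
      simp only [AlgHom.comp_apply, AlgEquiv.coe_toAlgHom, Ideal.Quotient.mkₐ_eq_mk]
      congr 1
      rw [Ideal.Quotient.eq]
      have := sub_mem_coeqIdeal f.1 g.1 x
      rw [← neg_sub]
      exact neg_mem this

end Cat

section Star

variable (A B : Type u) [CommRing A] [CommRing B] [Algebra A B]

/-- A concrete characterization of ind-étale algebras: every element of `B` comes from an étale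
`A`-algebra mapping to `B`, and every element of the kernel of such a map dies in a further étale
`A`-algebra mapping to `B`. -/
def IndEtaleStar : Prop :=
  (∀ b : B, ∃ (E : Type u) (_ : CommRing E) (_ : Algebra A E) (_ : Algebra.Etale A E)
    (φ : E →ₐ[A] B), b ∈ Set.range φ) ∧
  (∀ (E : Type u) [CommRing E] [Algebra A E] [Algebra.Etale A E] (φ : E →ₐ[A] B) (e : E),
    φ e = 0 → ∃ (E' : Type u) (_ : CommRing E') (_ : Algebra A E') (_ : Algebra.Etale A E')
      (ψ : E →ₐ[A] E') (φ' : E' →ₐ[A] B), φ'.comp ψ = φ ∧ ψ e = 0)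

variable {A B}

/-- The canonical diagram of étale algebras over `B`. -/
noncomputable def EtOver.diagram : EtOver A B ⥤ Under (CommRingCat.of A) where
  obj X := Under.mk (CommRingCat.ofHom (algebraMap A X.E))
  map f := Under.homMk (CommRingCat.ofHom f.1.toRingHom) (by
    ext r
    exact f.1.commutes r)
  map_id X := by
    ext x
    rfl
  map_comp f g := by
    ext x
    rfl

/-- The canonical cocone with vertex `B`. -/
noncomputable def EtOver.cocone : Cocone (EtOver.diagram (A := A) (B := B)) where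
  pt := Under.mk (CommRingCat.ofHom (algebraMap A B))
  ι :=
    { app := fun X => Under.homMk (CommRingCat.ofHom X.φ.toRingHom) (by
        ext r
        exact X.φ.commutes r)
      naturality := fun X Y f => by
        ext x
        exact AlgHom.congr_fun f.2 x }

/-- The canonical system is a weak colimit system if `B` satisfies `IndEtaleStar`. -/
theorem IndEtaleStar.isWeakColim (h : IndEtaleStar A B) :
    IsWeakColim (WSys.ofFiltered (EtOver A B)) (fun X => X.E) B (fun X => X.φ)
      (fun f => f.1) where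
  map_zero f := map_zero _
  map_id X x := rfl
  map_comp f g x := rfl
  compat f x := AlgHom.congr_fun f.2 x
  surj b := by
    obtain ⟨E, _, _, _, φ, y, rfl⟩ := h.1 b
    obtain ⟨X, e, he⟩ := EtOver.exists_realize E φ
    refine ⟨X, e.symm y, ?_⟩
    rw [← he]
    simp
  ker X x hx := by
    obtain ⟨E', _, _, _, ψ, φ', h1, h2⟩ := h.2 X.E X.φ x hx
    obtain ⟨Y, e, he⟩ := EtOver.exists_realize E' φ'
    refine ⟨Y, ⟨e.symm.toAlgHom.comp ψ, ?_⟩, ?_⟩
    · rw [← he, ← h1]
      ext z
      simp
    · change e.symm (ψ x) = 0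
      rw [h2, map_zero]

/-- **`IndEtaleStar` implies ind-étale.** -/
theorem IndEtaleStar.isIndEtale (h : IndEtaleStar A B) : EtPBC.IsIndEtale A B := by
  have hW := h.isWeakColim
  refine ⟨EtOver A B, inferInstance, inferInstance, EtOver.diagram, EtOver.cocone,
    Hzl.isColimitOfConcrete _ _ ?_ ?_, fun X => ?_, ⟨Iso.refl _⟩⟩
  · intro x
    obtain ⟨X, y, hy⟩ := hW.surj x
    exact ⟨X, y, hy.symm⟩
  · intro X Y x y hxy
    let Z := IsFiltered.max X Y
    let f : X ⟶ Z := IsFiltered.leftToMax X Y
    let g : Y ⟶ Z := IsFiltered.rightToMax X Y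
    have h0 : Z.φ (f.1 x - g.1 y) = 0 := by
      rw [map_sub, sub_eq_zero]
      have h1 := AlgHom.congr_fun f.2 x
      have h2 := AlgHom.congr_fun g.2 y
      simp only [AlgHom.comp_apply] at h1 h2
      rw [h1, h2]
      exact hxy
    obtain ⟨W, k, hk⟩ := hW.ker Z _ h0
    refine ⟨W, f ≫ k, g ≫ k, ?_⟩
    change k.1 (f.1 x) = k.1 (g.1 y)
    have : k.1 (f.1 x - g.1 y) = 0 := hk
    rwa [map_sub, sub_eq_zero] at this
  · have hX : ((EtOver.diagram (A := A) (B := B)).obj X).hom.hom.toAlgebra =
        (inferInstance : Algebra A X.E) := by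
      apply Algebra.algebra_ext
      intro r
      rfl
    rw [hX]
    exact X.etale

end Star

section Concrete

variable {A B : Type u} [CommRing A] [CommRing B] [Algebra A B]

/-- A filtered colimit in rings under `A` gives a weak colimit system of `A`-algebras. -/
theorem exists_isWeakColim_of_isColimit {J : Type u} [SmallCategory J] [IsFiltered J]
    (D : J ⥤ Under (CommRingCat.of A)) (c : Cocone D) (hc : IsColimit c)
    (e : c.pt ≅ Under.mk (CommRingCat.ofHom (algebraMap A B))) :
    ∃ (alg : ∀ j, Algebra A (D.obj j).right), (∀ j, alg j = (D.obj j).hom.hom.toAlgebra) ∧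
      ∃ (tr : ∀ {j k : J}, (j ⟶ k) → ((D.obj j).right →ₐ[A] (D.obj k).right))
        (φ : ∀ j, (D.obj j).right →ₐ[A] B),
        IsWeakColim (WSys.ofFiltered J) (fun j => (D.obj j).right) B (fun j => φ j)
          (fun f => tr f) := by
  let F := Under.forget (CommRingCat.of A) ⋙ forget CommRingCat
  have hcT : IsColimit (F.mapCocone c) := isColimitOfPreserves F hc
  letI alg : ∀ j, Algebra A (D.obj j).right := fun j => (D.obj j).hom.hom.toAlgebra
  let tr : ∀ {j k : J}, (j ⟶ k) → ((D.obj j).right →ₐ[A] (D.obj k).right) := fun {j k} f =>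
    { toRingHom := (D.map f).right.hom
      commutes' := fun a => by
        have := Under.w (D.map f)
        exact DFunLike.congr_fun (congrArg CommRingCat.Hom.hom this) a }
  let φ : ∀ j, (D.obj j).right →ₐ[A] B := fun j =>
    { toRingHom := (e.hom.right.hom).comp (c.ι.app j).right.hom
      commutes' := fun a => by
        have h1 := Under.w (c.ι.app j)
        have h2 := Under.w e.hom
        have h1' := DFunLike.congr_fun (congrArg CommRingCat.Hom.hom h1) a
        have h2' := DFunLike.congr_fun (congrArg CommRingCat.Hom.hom h2) a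
        simp only [RingHom.toMonoidHom_eq_coe, OneHom.toFun_eq_coe, MonoidHom.toOneHom_coe,
          MonoidHom.coe_coe, RingHom.coe_comp, Function.comp_apply]
        change e.hom.right.hom ((c.ι.app j).right.hom ((D.obj j).hom.hom a)) = _
        erw [h1', h2']
        rfl }
  refine ⟨alg, fun j => rfl, tr, φ, ?_⟩
  refine
    { map_zero := fun f => map_zero _
      map_id := fun j x => ?_
      map_comp := fun f g x => ?_
      compat := fun {j k} f x => ?_
      surj := fun b => ?_
      ker := fun j x hx => ?_ }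
  · change (D.map (𝟙 j)).right.hom x = x
    rw [D.map_id]
    rfl
  · change (D.map (f ≫ g)).right.hom x = (D.map g).right.hom ((D.map f).right.hom x)
    rw [D.map_comp]
    rfl
  · have := c.w f
    have h3 := congrArg (fun g => g.right.hom x) this
    change e.hom.right.hom ((c.ι.app k).right.hom ((D.map f).right.hom x)) =
      e.hom.right.hom ((c.ι.app j).right.hom x)
    congr 1
  · obtain ⟨j, x, hx⟩ := Types.jointly_surjective_of_isColimit hcT (e.inv.right.hom b)
    refine ⟨j, x, ?_⟩
    change e.hom.right.hom ((c.ι.app j).right.hom x) = b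
    have h4 : (c.ι.app j).right.hom x = e.inv.right.hom b := hx
    rw [h4]
    have h5 := congrArg (fun g => g.right.hom b) e.inv_hom_id
    exact h5
  · have h6 : (c.ι.app j).right.hom x = (c.ι.app j).right.hom 0 := by
      rw [map_zero]
      have h7 : e.hom.right.hom ((c.ι.app j).right.hom x) = 0 := hx
      have h8 := congrArg (e.inv.right.hom) h7
      rw [map_zero] at h8
      have h9 := congrArg (fun g => g.right.hom ((c.ι.app j).right.hom x)) e.hom_inv_id
      exact h9.symm.trans h8
    obtain ⟨k, f, g, hfg⟩ := (Types.FilteredColimit.isColimit_eq_iff _ hcT).mp h6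
    refine ⟨k, f, ?_⟩
    change (D.map f).right.hom x = 0
    have h10 : (D.map f).right.hom x = (D.map g).right.hom 0 := hfg
    rw [h10, map_zero]

/-- **Ind-étale implies `IndEtaleStar`.** -/
theorem indEtaleStar_of_isIndEtale (h : EtPBC.IsIndEtale A B) : IndEtaleStar A B := by
  obtain ⟨J, _, _, D, c, hc, hD, ⟨e⟩⟩ := h
  obtain ⟨alg, halg, tr, φ, hW⟩ := exists_isWeakColim_of_isColimit D c hc e
  have het : ∀ j, Algebra.Etale A (D.obj j).right := fun j => by
    have := hD j
    rwa [← halg j] at this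
  refine ⟨fun b => ?_, fun E _ _ _ ψ x hx => ?_⟩
  · obtain ⟨j, y, hy⟩ := hW.surj b
    exact ⟨(D.obj j).right, inferInstance, alg j, het j, φ j, y, hy⟩
  · obtain ⟨j₀⟩ := hW.nonempty_index
    obtain ⟨j, -, σ, hσ⟩ := hW.exists_lift_of_finitePresentation ψ j₀
    have h0 : φ j (σ x) = 0 := by
      have := AlgHom.congr_fun hσ x
      simp only [AlgHom.comp_apply] at this
      rw [this, hx]
    obtain ⟨k, f, hk⟩ := hW.ker j _ h0
    refine ⟨(D.obj k).right, inferInstance, alg k, het k, (tr f).comp σ, φ k, ?_, hk⟩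
    rw [← AlgHom.comp_assoc, hW.alg_compat, hσ]

end Concrete

end Groth.Agent.Lib.Helper8.IndEt
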