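import Mathlib
import Groth.Agent.Lib.Helper8.IndEtStar
import Groth.Agent.Lib.Helper8.EtLift

/-!
# Killing kernel elements modulo an ideal

If `Cb` is an ind-étale `A/I`-algebra, `E` an étale `A`-algebra with an `A`-algebra map `φ` to `Cb`
and `φ x = 0`, then after passing to a further étale `A`-algebra mapping to `Cb`, the image of `x`
lies in the extension of `I`.
-/

set_option autoImplicit false

open TensorProduct

namespace Groth.Agent.Lib.Helper8.IndEt

universe u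

/-- A surjection between étale algebras has kernel generated by an idempotent. -/
theorem exists_idempotent_ker {R S T : Type u} [CommRing R] [CommRing S] [CommRing T] [Algebra R S]
    [Algebra R T] [Algebra.Etale R S] [Algebra.Etale R T] (f : S →ₐ[R] T)
    (hf : Function.Surjective f) :
    ∃ ε : S, IsIdempotentElem ε ∧ RingHom.ker f.toRingHom = Ideal.span {ε} := by
  letI : Algebra S T := f.toRingHom.toAlgebra
  haveI : IsScalarTower R S T := IsScalarTower.of_algebraMap_eq (fun r => (f.commutes r).symm)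
  haveI : Algebra.FormallyEtale S T := Algebra.FormallyEtale.of_restrictScalars (R := R)
  have hidem : IsIdempotentElem (RingHom.ker (algebraMap S T)) :=
    (Algebra.FormallyEtale.iff_of_surjective (R := S) (S := T) hf).mp inferInstance
  have hfg : (RingHom.ker f.toRingHom).FG := Algebra.FinitePresentation.ker_fG_of_surjective f hf
  exact (Ideal.isIdempotentElem_iff_of_fg _ hfg).mp hidem

theorem exists_kill_mod {A : Type u} [CommRing A] (I : Ideal A) (Cb : Type u) [CommRing Cb]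
    [Algebra (A ⧸ I) Cb] [Algebra A Cb] [IsScalarTower A (A ⧸ I) Cb]
    (hC : IndEtaleStar (A ⧸ I) Cb)
    (E : Type u) [CommRing E] [Algebra A E] [Algebra.Etale A E] (φ : E →ₐ[A] Cb) (x : E)
    (hx : φ x = 0) :
    ∃ (E₃ : Type u) (_ : CommRing E₃) (_ : Algebra A E₃) (_ : Algebra.Etale A E₃)
      (ψ : E →ₐ[A] E₃) (φ₃ : E₃ →ₐ[A] Cb),
      φ₃.comp ψ = φ ∧ ψ x ∈ I.map (algebraMap A E₃) := by
  -- reduce mod `I`
  let φb : (A ⧸ I) ⊗[A] E →ₐ[A ⧸ I] Cb :=
    Algebra.TensorProduct.lift (Algebra.ofId (A ⧸ I) Cb) φ (fun _ _ => Commute.all _ _)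
  have hφb : φb ((1 : A ⧸ I) ⊗ₜ[A] x) = 0 := by
    simp only [φb, Algebra.TensorProduct.lift_tmul, map_one, one_mul, hx]
  obtain ⟨Eb', _, _, _, ψb, φ', hcomp, hψb⟩ := hC.2 ((A ⧸ I) ⊗[A] E) φb _ hφb
  obtain ⟨E', _, _, hE', ⟨e'⟩⟩ := EtLift.exists_lift A I Eb'
  letI : Algebra A Eb' := ((algebraMap (A ⧸ I) Eb').comp (algebraMap A (A ⧸ I))).toAlgebra
  haveI : IsScalarTower A (A ⧸ I) Eb' := IsScalarTower.of_algebraMap_eq (fun _ => rfl)
  let m₁ : E →ₐ[A] Eb' := (ψb.restrictScalars A).comp Algebra.TensorProduct.includeRight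
  let m₂ : E' →ₐ[A] Eb' := (e'.toAlgHom.restrictScalars A).comp Algebra.TensorProduct.includeRight
  have hm₂ : Function.Surjective m₂ := by
    intro y
    obtain ⟨z, hz⟩ := e'.surjective y
    obtain ⟨v, rfl⟩ := TensorProduct.mk_surjective A E' (A ⧸ I) Ideal.Quotient.mk_surjective z
    exact ⟨v, hz⟩
  -- the étale `A`-algebra `B₂ = E ⊗ E'` and its map onto `Eb'`
  let m : E ⊗[A] E' →ₐ[A] Eb' := Algebra.TensorProduct.productMap m₁ m₂
  have hm : Function.Surjective m := by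
    intro y
    obtain ⟨v, rfl⟩ := hm₂ y
    exact ⟨1 ⊗ₜ v, by simp [m]⟩
  haveI : Algebra.Etale A (E ⊗[A] E') := Algebra.Etale.comp A E _
  let mb : (A ⧸ I) ⊗[A] (E ⊗[A] E') →ₐ[A ⧸ I] Eb' :=
    Algebra.TensorProduct.lift (Algebra.ofId (A ⧸ I) Eb') m (fun _ _ => Commute.all _ _)
  have hmb : Function.Surjective mb := by
    intro y
    obtain ⟨b, rfl⟩ := hm y
    exact ⟨1 ⊗ₜ b, by simp [mb]⟩
  obtain ⟨ε, hε, hker⟩ := exists_idempotent_ker mb hmb
  obtain ⟨t, ht⟩ := TensorProduct.mk_surjective A (E ⊗[A] E') (A ⧸ I)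
    Ideal.Quotient.mk_surjective (1 - ε)
  have ht' : (1 : A ⧸ I) ⊗ₜ[A] t = 1 - ε := ht
  have hεker : mb ε = 0 := by
    have : ε ∈ RingHom.ker mb.toRingHom := by
      rw [hker]; exact Ideal.mem_span_singleton_self ε
    exact this
  have hmt : m t = 1 := by
    have h1 : mb ((1 : A ⧸ I) ⊗ₜ[A] t) = m t := by simp [mb]
    rw [← h1, ht', map_sub, map_one, hεker, sub_zero]
  -- the localization
  haveI : Algebra.Etale (E ⊗[A] E') (Localization.Away t) :=
    Algebra.Etale.of_isLocalizationAway t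
  haveI : Algebra.Etale A (Localization.Away t) := Algebra.Etale.comp A (E ⊗[A] E') _
  let φ₂ : E ⊗[A] E' →ₐ[A] Cb := (φ'.restrictScalars A).comp m
  have hφ₂u : ∀ y : Submonoid.powers t, IsUnit (φ₂ y) := by
    rintro ⟨_, n, rfl⟩
    change IsUnit (φ' (m (t ^ n)))
    rw [map_pow, hmt, one_pow, map_one]
    exact isUnit_one
  let φ₃ : Localization.Away t →ₐ[A] Cb :=
    IsLocalization.liftAlgHom (M := Submonoid.powers t) (f := φ₂) hφ₂u
  let ψ : E →ₐ[A] Localization.Away t :=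
    (IsScalarTower.toAlgHom A (E ⊗[A] E') (Localization.Away t)).comp
      Algebra.TensorProduct.includeLeft
  refine ⟨Localization.Away t, inferInstance, inferInstance, inferInstance, ψ, φ₃, ?_, ?_⟩
  · ext u
    change φ₃ (algebraMap (E ⊗[A] E') (Localization.Away t) (u ⊗ₜ 1)) = φ u
    rw [IsLocalization.liftAlgHom_apply, IsLocalization.lift_eq]
    change φ' (m (u ⊗ₜ 1)) = φ u
    have h1 : m (u ⊗ₜ[A] (1 : E')) = ψb ((1 : A ⧸ I) ⊗ₜ[A] u) := by
      simp [m, m₁]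
    rw [h1]
    have h2 := AlgHom.congr_fun hcomp ((1 : A ⧸ I) ⊗ₜ[A] u)
    simp only [AlgHom.comp_apply] at h2
    rw [h2]
    simp [φb]
  · change algebraMap (E ⊗[A] E') (Localization.Away t) (x ⊗ₜ 1) ∈ _
    have hmb0 : m (x ⊗ₜ[A] (1 : E')) = 0 := by
      have h1 : m (x ⊗ₜ[A] (1 : E')) = ψb ((1 : A ⧸ I) ⊗ₜ[A] x) := by
        simp [m, m₁]
      rw [h1, hψb]
    have hmem : ((1 : A ⧸ I) ⊗ₜ[A] (x ⊗ₜ[A] (1 : E'))) ∈ RingHom.ker mb.toRingHom := by
      change mb _ = 0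
      simp only [mb, Algebra.TensorProduct.lift_tmul, map_one, one_mul, hmb0]
    rw [hker] at hmem
    obtain ⟨y, hy⟩ := Ideal.mem_span_singleton'.mp hmem
    have h0 : (1 : A ⧸ I) ⊗ₜ[A] ((x ⊗ₜ[A] (1 : E')) * t) = 0 := by
      have h1 : (1 : A ⧸ I) ⊗ₜ[A] ((x ⊗ₜ[A] (1 : E')) * t) =
          ((1 : A ⧸ I) ⊗ₜ[A] (x ⊗ₜ[A] (1 : E'))) * ((1 : A ⧸ I) ⊗ₜ[A] t) := by
        rw [Algebra.TensorProduct.tmul_mul_tmul, one_mul]
      rw [h1, ← hy, ht', mul_assoc, mul_sub, mul_one, hε.eq, sub_self, mul_zero]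
    have hbt : (x ⊗ₜ[A] (1 : E')) * t ∈ I.map (algebraMap A (E ⊗[A] E')) := by
      have h2 : Algebra.TensorProduct.quotIdealMapEquivQuotTensor (E ⊗[A] E') I
          (Ideal.Quotient.mk _ ((x ⊗ₜ[A] (1 : E')) * t)) = 0 := h0
      rw [map_eq_zero_iff _ (AlgEquiv.injective _)] at h2
      exact Ideal.Quotient.eq_zero_iff_mem.mp h2
    have h3 := Ideal.mem_map_of_mem (algebraMap (E ⊗[A] E') (Localization.Away t)) hbt
    rw [Ideal.map_map, ← IsScalarTower.algebraMap_eq, map_mul] at h3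
    exact (Ideal.mul_unit_mem_iff_mem _ (IsLocalization.Away.algebraMap_isUnit t)).mp h3

end Groth.Agent.Lib.Helper8.IndEt
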