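import Mathlib
import Groth.Agent.Lib.Helper8.IndEtLiftKer

/-!
# An algebra map from an étale algebra to a flat algebra is flat
-/

set_option autoImplicit false

open TensorProduct

universe u

namespace Groth.Agent.Lib.Helper8.EtaleToFlat

/-- A retraction of an étale algebra onto its base is flat (it is a localization at an
idempotent). -/
theorem flat_of_etale_retraction (S T : Type u) [CommRing S] [CommRing T] [Algebra S T]
    [Algebra.Etale S T] (μ : T →ₐ[S] S) : μ.toRingHom.Flat := by
  have hsurj : Function.Surjective μ := fun s => ⟨algebraMap S T s, by simp⟩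
  obtain ⟨ε, hε, hker⟩ := Groth.Agent.Lib.Helper8.IndEt.exists_idempotent_ker μ hsurj
  letI : Algebra T S := μ.toRingHom.toAlgebra
  have hloc : IsLocalization.Away (1 - ε) S :=
    IsLocalization.away_of_isIdempotentElem hε.one_sub (by
      rw [sub_sub_cancel]; exact hker) hsurj
  have : Module.Flat T S := IsLocalization.flat S (Submonoid.powers (1 - ε))
  exact RingHom.flat_algebraMap_iff.mpr this

attribute [local instance] Algebra.TensorProduct.rightAlgebra in
/-- An algebra map from an étale `A`-algebra to a flat `A`-algebra is flat. -/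
theorem flat_of_etale_of_flat (A E₀ S : Type u) [CommRing A] [CommRing E₀] [CommRing S]
    [Algebra A E₀] [Algebra A S] [Algebra.Etale A E₀] [Module.Flat A S]
    [Algebra E₀ S] [IsScalarTower A E₀ S] : Module.Flat E₀ S := by
  have hEt : Algebra.Etale S (E₀ ⊗[A] S) :=
    Algebra.Etale.of_equiv (Algebra.TensorProduct.commRight A S E₀)
  let μ₀ : E₀ ⊗[A] S →ₐ[A] S :=
    Algebra.TensorProduct.productMap (IsScalarTower.toAlgHom A E₀ S) (AlgHom.id A S)
  let μ : E₀ ⊗[A] S →ₐ[S] S :=
    { μ₀ with
      commutes' := fun s => by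
        change μ₀ ((1 : E₀) ⊗ₜ[A] s) = s
        simp [μ₀] }
  have h1 : μ.toRingHom.Flat := flat_of_etale_retraction S (E₀ ⊗[A] S) μ
  have h2 : (algebraMap E₀ (E₀ ⊗[A] S)).Flat := RingHom.flat_algebraMap_iff.mpr inferInstance
  have h3 : algebraMap E₀ S = μ.toRingHom.comp (algebraMap E₀ (E₀ ⊗[A] S)) := by
    ext e
    change _ = μ₀ (e ⊗ₜ[A] (1 : S))
    simp [μ₀]
  have h4 : (algebraMap E₀ S).Flat := h3 ▸ RingHom.Flat.comp h2 h1
  exact RingHom.flat_algebraMap_iff.mp h4

/-- Variant for an explicit algebra map. -/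
theorem flat_of_algHom (A E₀ S : Type u) [CommRing A] [CommRing E₀] [CommRing S]
    [Algebra A E₀] [Algebra A S] [Algebra.Etale A E₀] [Module.Flat A S]
    (φ : E₀ →ₐ[A] S) : φ.toRingHom.Flat := by
  letI : Algebra E₀ S := φ.toRingHom.toAlgebra
  haveI : IsScalarTower A E₀ S := IsScalarTower.of_algebraMap_eq (fun a => (φ.commutes a).symm)
  exact RingHom.flat_algebraMap_iff.mpr (flat_of_etale_of_flat A E₀ S)

end Groth.Agent.Lib.Helper8.EtaleToFlat
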