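import Mathlib
import Groth.Prelude
import Groth.Agent.Lib.Helper8.UnibranchMain

/-!
# Unibranch local rings and uniqueness of the minimal prime of the (strict) henselization
-/

set_option autoImplicit false
universe u
open IsLocalRing TensorProduct Polynomial

namespace Groth.Agent.Lib.Helper8.UnibranchHens

open Groth.Agent.Lib.Helper8.Hzl


theorem hasUniqueMinimalPrime_of_prime_le_nilradical {S : Type u} [CommRing S] (P : Ideal S)
    [hP : P.IsPrime] (hle : P ≤ nilradical S) : CAlgX.HasUniqueMinimalPrime S := by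
  have hmin : ∀ q : Ideal S, q.IsPrime → P ≤ q := fun q hq => hle.trans (nilradical_le_prime q)
  refine ⟨P, ⟨⟨hP, bot_le⟩, fun q hq _ => hmin q hq.1⟩, fun q hq => ?_⟩
  exact le_antisymm (hq.2 ⟨hP, bot_le⟩ (hmin q hq.1.1)) (hmin q hq.1.1)

theorem nilradical_isPrime_of_hasUniqueMinimalPrime {S : Type u} [CommRing S]
    (h : CAlgX.HasUniqueMinimalPrime S) : (nilradical S).IsPrime := by
  obtain ⟨P, hP, huniq⟩ := h
  have h1 : minimalPrimes S = {P} := by
    ext q
    simp only [Set.mem_singleton_iff]
    exact ⟨fun hq => huniq q hq, fun hq => hq ▸ hP⟩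
  have h2 : nilradical S = P := by
    have := Ideal.sInf_minimalPrimes (I := (⊥ : Ideal S))
    rw [show (⊥ : Ideal S).minimalPrimes = minimalPrimes S from rfl, h1, sInf_singleton] at this
    rw [this]; rfl
  rw [h2]
  exact hP.1.1

section main

variable (R S : Type u) [CommRing R] [IsLocalRing R] [CommRing S] [Algebra R S]

theorem hasUniqueMinimalPrime_of_isLocalRing_tensor [IsLocalRing S] [Module.Flat R S]
    (hind : IndEtaleLike R S) (hdom : IsDomain (CAlg2.red R))
    (hloc : IsLocalRing (CAlg2.normRed R ⊗[R] S)) : CAlgX.HasUniqueMinimalPrime S := by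
  haveI := isIntegrallyClosed_normRed R
  have hind' : IndEtaleLike (CAlg2.normRed R) (CAlg2.normRed R ⊗[R] S) :=
    indEtaleLike_baseChange hind _
  haveI : IsDomain (CAlg2.normRed R ⊗[R] S) := isDomain_of_indEtaleLike _ _ hind'
  let ι : S →+* CAlg2.normRed R ⊗[R] S :=
    (Algebra.TensorProduct.includeRight : S →ₐ[R] CAlg2.normRed R ⊗[R] S).toRingHom
  haveI : (RingHom.ker ι).IsPrime := RingHom.ker_isPrime ι
  refine hasUniqueMinimalPrime_of_prime_le_nilradical (RingHom.ker ι) ?_
  intro s hs
  have hs0 : (1 : CAlg2.normRed R) ⊗ₜ[R] s = 0 := hs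
  have hinj1 : Function.Injective (algebraMap (CAlg2.red R) (CAlg2.normRed R)) := by
    have h1 : Function.Injective (algebraMap (CAlg2.red R) (FractionRing (CAlg2.red R))) :=
      IsFractionRing.injective _ _
    intro x y hxy
    exact h1 (congrArg Subtype.val hxy)
  let j : CAlg2.red R ⊗[R] S →ₐ[R] CAlg2.normRed R ⊗[R] S :=
    Algebra.TensorProduct.map (IsScalarTower.toAlgHom R (CAlg2.red R) (CAlg2.normRed R))
      (AlgHom.id R S)
  have hj : Function.Injective j := by
    have := Module.Flat.rTensor_preserves_injective_linearMap (M := S)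
      (IsScalarTower.toAlgHom R (CAlg2.red R) (CAlg2.normRed R)).toLinearMap hinj1
    intro x y hxy
    exact this hxy
  have h1 : (1 : CAlg2.red R) ⊗ₜ[R] s = 0 := by
    apply hj
    rw [map_zero]
    simp only [j, Algebra.TensorProduct.map_tmul, map_one, AlgHom.id_apply]
    exact hs0
  have h2 : Ideal.Quotient.mk ((nilradical R).map (algebraMap R S)) s = 0 := by
    apply (Algebra.TensorProduct.quotIdealMapEquivQuotTensor S (nilradical R)).injective
    rw [Algebra.TensorProduct.quotIdealMapEquivQuotTensor_mk, map_zero]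
    exact h1
  have h3 : s ∈ (nilradical R).map (algebraMap R S) := Ideal.Quotient.eq_zero_iff_mem.mp h2
  have h4 : (nilradical R).map (algebraMap R S) ≤ nilradical S := by
    rw [Ideal.map_le_iff_le_comap]
    intro r hr
    exact (mem_nilradical.mp hr).map (algebraMap R S)
  exact h4 h3

theorem unibranch_of_hasUniqueMinimalPrime [HenselianLocalRing S] [Module.FaithfullyFlat R S]
    (hnil : (nilradical R).map (algebraMap R S) = nilradical S)
    (h : CAlgX.HasUniqueMinimalPrime S) :
    IsDomain (CAlg2.red R) ∧ IsLocalRing (CAlg2.normRed R) ∧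
      IsLocalRing (CAlg2.normRed R ⊗[R] S) := by
  have hP := nilradical_isPrime_of_hasUniqueMinimalPrime h
  rw [← hnil] at hP
  haveI : IsDomain (S ⧸ (nilradical R).map (algebraMap R S)) := Ideal.Quotient.isDomain _
  haveI hdQ : IsDomain (CAlg2.red R ⊗[R] S) :=
    (Algebra.TensorProduct.quotIdealMapEquivQuotTensor S (nilradical R)).symm.injective.isDomain
      (Algebra.TensorProduct.quotIdealMapEquivQuotTensor S (nilradical R)).symm.toRingEquiv.toRingHom
  have hinj' : Function.Injective (algebraMap (CAlg2.red R) (CAlg2.red R ⊗[R] S)) :=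
    FaithfulSMul.algebraMap_injective _ _
  have hdom : IsDomain (CAlg2.red R) := hinj'.isDomain _
  haveI : IsDomain (CAlg2.normRed R ⊗[CAlg2.red R] (CAlg2.red R ⊗[R] S)) :=
    isDomain_tensor_of_injective (CAlg2.red R) (CAlg2.red R ⊗[R] S) hinj'
      (nonZeroDivisors (CAlg2.red R)) le_rfl (FractionRing (CAlg2.red R)) (CAlg2.normRed R)
      (integralClosure (CAlg2.red R) (FractionRing (CAlg2.red R))).val Subtype.val_injective
  let c := Algebra.TensorProduct.cancelBaseChange R (CAlg2.red R) (CAlg2.red R) (CAlg2.normRed R) S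
  haveI : IsDomain (CAlg2.normRed R ⊗[R] S) :=
    c.symm.injective.isDomain c.symm.toRingEquiv.toRingHom
  letI := Algebra.TensorProduct.rightAlgebra (R := R) (A := CAlg2.normRed R) (B := S)
  haveI := isIntegral_right' R (CAlg2.normRed R) S
  refine ⟨hdom, isLocalRing_of_isDomain_tensor R _ S, ?_⟩
  exact isLocalRing_of_isIntegral_of_isDomain S (CAlg2.normRed R ⊗[R] S)

end main

end Groth.Agent.Lib.Helper8.UnibranchHens
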