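import Mathlib
import Groth.Prelude.Def_Hensel
import Groth.Prelude.Def_CAlg2
import Groth.Prelude.Def_CAlgX
import Groth.Agent.Lib.Helper5.HenselLift
import Groth.Agent.Lib.Helper8.Hzl.Universal
import Groth.Agent.Lib.Helper8.Hzl.Main
import Groth.Agent.Lib.Helper8.UnibranchMinPrime
import Groth.Agent.Lib.Helper8.Hzl.IntegralHens
import Groth.Agent.Lib.Helper8.Hzl.IndEtaleLike
import Groth.Agent.Lib.Helper8.Hzl.Nilradical
import Groth.Agent.Lib.Helper8.Hzl.Transfer

/-!
# Étale-local rings over a geometrically unibranch local ring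

* `exists_isStrictHenselization_of_etale`: a strict henselization of `A` is a strict henselization
  of any local ring `B` of an étale algebra over `A`.
* `isGeomUnibranch_iff_hasUniqueMinimalPrime`: geometrically unibranch iff the strict
  henselization has a unique minimal prime.
* `isGeomUnibranch_of_etale`, `isDomain_of_etale`.
-/

set_option autoImplicit false
universe u
open IsLocalRing CAlg Groth.Agent.Lib.Helper8.UnibranchHens

namespace Groth.Agent.Lib.Helper8.EtaleUnibranch

set_option maxHeartbeats 800000 in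
/-- The strict henselization of a local ring `A` is also a strict henselization of any local ring
`B` of an étale algebra lying over `A`. -/
theorem exists_isStrictHenselization_of_etale
    {A₀ C₀ : Type u} [CommRing A₀] [CommRing C₀] [Algebra A₀ C₀] [Algebra.Etale A₀ C₀]
    (p : Ideal A₀) [p.IsPrime] (q : Ideal C₀) [q.IsPrime]
    (A : Type u) [CommRing A] [IsLocalRing A] [Algebra A₀ A] [IsLocalization.AtPrime A p]
    (B : Type u) [CommRing B] [IsLocalRing B] [Algebra C₀ B] [IsLocalization.AtPrime B q]
    [Algebra A₀ B] [IsScalarTower A₀ C₀ B] [Algebra A B] [IsScalarTower A₀ A B]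
    [IsLocalHom (algebraMap A B)]
    (Ash : Type u) [CommRing Ash] [IsLocalRing Ash] [Algebra A Ash]
    [IsLocalHom (algebraMap A Ash)] [hsh : Hensel.IsStrictHenselization A Ash] :
    ∃ (φ : B →+* Ash) (hφ : IsLocalHom φ), φ.comp (algebraMap A B) = algebraMap A Ash ∧
      @Hensel.IsStrictHenselization B Ash _ _ _ _ φ.toAlgebra hφ := by
  haveI : HenselianLocalRing Ash := hsh.henselian
  haveI : IsSepClosure (ResidueField A) (ResidueField Ash) := hsh.isSepClosure
  haveI : IsSepClosed (ResidueField Ash) := IsSepClosure.sep_closed (ResidueField A)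
  haveI : Algebra.IsSeparable (ResidueField A) (ResidueField Ash) := IsSepClosure.separable
  -- unramifiedness of `B`
  haveI : Algebra.FormallyUnramified C₀ B := .of_isLocalization q.primeCompl
  haveI : Algebra.FormallyUnramified A₀ B := .comp A₀ C₀ B
  haveI : Algebra.EssFiniteType C₀ B := .of_isLocalization B q.primeCompl
  haveI : Algebra.EssFiniteType A₀ B := .comp A₀ C₀ B
  haveI : Algebra.FormallyUnramified A B := .of_restrictScalars A₀ A B
  haveI : Algebra.EssFiniteType A B := .of_comp A₀ A B
  haveI : Algebra.IsSeparable (ResidueField A) (ResidueField B) := inferInstance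
  let σ : ResidueField B →ₐ[ResidueField A] ResidueField Ash := IsSepClosed.lift
  letI algA₀Ash : Algebra A₀ Ash := ((algebraMap A Ash).comp (algebraMap A₀ A)).toAlgebra
  haveI : IsScalarTower A₀ A Ash := .of_algebraMap_eq (fun _ => rfl)
  let χ : C₀ →ₐ[A₀] ResidueField Ash :=
    { toRingHom := (σ : ResidueField B →+* ResidueField Ash).comp
        ((residue B).comp (algebraMap C₀ B))
      commutes' := fun a => by
        show σ (residue B (algebraMap C₀ B (algebraMap A₀ C₀ a))) = _
        rw [← IsScalarTower.algebraMap_apply A₀ C₀ B, IsScalarTower.algebraMap_apply A₀ A B,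
          ← ResidueField.algebraMap_residue, σ.commutes]
        rfl }
  have hχ : ∀ c, c ∉ q → χ c ≠ 0 := by
    intro c hc
    have hu : IsUnit (algebraMap C₀ B c) :=
      IsLocalization.map_units B (⟨c, hc⟩ : q.primeCompl)
    have h1 : residue B (algebraMap C₀ B c) ≠ 0 := (residue_ne_zero_iff_isUnit _).mpr hu
    exact (map_ne_zero_iff _ σ.toRingHom.injective).mpr h1
  obtain ⟨φ', hφ'⟩ := Groth.Agent.Lib.Helper5.exists_algHom_localization_of_etale q χ hχ
  let e : B ≃ₐ[C₀] Localization.AtPrime q := IsLocalization.algEquiv q.primeCompl _ _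
  let φ : B →+* Ash := (φ' : Localization.AtPrime q →+* Ash).comp (e : B →+* Localization.AtPrime q)
  have hφc : ∀ c : C₀, φ (algebraMap C₀ B c) = φ' (algebraMap C₀ (Localization.AtPrime q) c) := by
    intro c
    show φ' (e (algebraMap C₀ B c)) = _
    rw [e.commutes]
  -- residues
  have hres : ∀ b : B, residue Ash (φ b) = σ (residue B b) := by
    have : (residue Ash).comp φ = (σ : ResidueField B →+* ResidueField Ash).comp (residue B) := by
      apply IsLocalization.ringHom_ext q.primeCompl (S := B)
      ext c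
      show residue Ash (φ (algebraMap C₀ B c)) = σ (residue B (algebraMap C₀ B c))
      rw [hφc, hφ']
      rfl
    exact fun b => congrFun (congrArg DFunLike.coe this) b
  have hloc : IsLocalHom φ := by
    constructor
    intro b hb
    have h1 : residue Ash (φ b) ≠ 0 := (residue_ne_zero_iff_isUnit _).mpr hb
    rw [hres] at h1
    have h2 : residue B b ≠ 0 := fun h0 => h1 (by rw [h0, map_zero])
    exact (residue_ne_zero_iff_isUnit _).mp h2
  have hcomp : φ.comp (algebraMap A B) = algebraMap A Ash := by
    apply IsLocalization.ringHom_ext p.primeCompl (S := A)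
    ext a
    show φ (algebraMap A B (algebraMap A₀ A a)) = algebraMap A Ash (algebraMap A₀ A a)
    rw [← IsScalarTower.algebraMap_apply A₀ A B, IsScalarTower.algebraMap_apply A₀ C₀ B, hφc,
      ← IsScalarTower.algebraMap_apply A₀ C₀ (Localization.AtPrime q), φ'.commutes]
    rfl
  refine ⟨φ, hloc, hcomp, ?_⟩
  letI algBAsh : Algebra B Ash := φ.toAlgebra
  haveI hloc' : IsLocalHom (algebraMap B Ash) := hloc
  haveI : IsScalarTower A B Ash := .of_algebraMap_eq (fun a => (RingHom.congr_fun hcomp a).symm)
  haveI : IsScalarTower A₀ B Ash := .to₁₃₄ A₀ A B Ash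
  refine @Hensel.IsStrictHenselization.mk B Ash _ _ _ _ algBAsh hloc' inferInstance ?_ ?_
  · rw [isSepClosure_iff]
    exact ⟨inferInstance,
      Algebra.isSeparable_tower_top_of_isSeparable (ResidueField A) (ResidueField B)
        (ResidueField Ash)⟩
  · intro T _ _ f hf τ hτ
    haveI : IsLocalHom (f.comp (algebraMap A B)) := RingHom.isLocalHom_comp _ _
    have hτ' : τ.comp (ResidueField.map (algebraMap A Ash)) =
        ResidueField.map (f.comp (algebraMap A B)) := by
      apply RingHom.ext
      intro x
      obtain ⟨a, rfl⟩ := residue_surjective x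
      have h1 := RingHom.congr_fun hτ (residue B (algebraMap A B a))
      simp only [RingHom.comp_apply, ResidueField.map_residue] at h1 ⊢
      rw [← h1, IsScalarTower.algebraMap_apply A B Ash]
    obtain ⟨g, ⟨hg1, hg2⟩, hguniq⟩ := hsh.universal T (f.comp (algebraMap A B)) τ hτ'
    have hgφ : g.comp (algebraMap B Ash) = f := by
      letI algA₀T : Algebra A₀ T := (f.comp (algebraMap A₀ B)).toAlgebra
      let u : B →ₐ[A₀] T :=
        { toRingHom := g.comp (algebraMap B Ash)
          commutes' := fun a => by
            show g (algebraMap B Ash (algebraMap A₀ B a)) = f (algebraMap A₀ B a)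
            rw [IsScalarTower.algebraMap_apply A₀ A B, ← IsScalarTower.algebraMap_apply A B Ash]
            exact RingHom.congr_fun hg1 (algebraMap A₀ A a) }
      let v : B →ₐ[A₀] T := { toRingHom := f, commutes' := fun a => rfl }
      have huv : u = v := by
        apply Groth.Agent.Lib.Helper8.Hzl.algHom_ext_residue
        intro b
        show residue T (g (algebraMap B Ash b)) = residue T (f b)
        rw [hg2]
        have h1 := RingHom.congr_fun hτ (residue B b)
        simp only [RingHom.comp_apply, ResidueField.map_residue] at h1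
        exact h1
      exact congrArg (fun w : B →ₐ[A₀] T => (w : B →+* T)) huv
    refine ⟨g, ⟨hgφ, hg2⟩, ?_⟩
    rintro g' ⟨hg'1, hg'2⟩
    apply hguniq
    refine ⟨?_, hg'2⟩
    rw [← hg'1, RingHom.comp_assoc, ← IsScalarTower.algebraMap_eq A B Ash]


/-- A local ring `A` is geometrically unibranch if and only if a strict henselization of `A` has a
unique minimal prime ideal. -/
theorem isGeomUnibranch_iff_hasUniqueMinimalPrime {A Ash : Type u} [CommRing A] [IsLocalRing A]
    [CommRing Ash] [IsLocalRing Ash] [Algebra A Ash] [IsLocalHom (algebraMap A Ash)]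
    [Hensel.IsStrictHenselization A Ash] :
    CAlg2.IsGeomUnibranch A ↔ CAlgX.HasUniqueMinimalPrime Ash := by
  haveI hh : HenselianLocalRing Ash := Hensel.IsStrictHenselization.henselian (R := A)
  haveI := Groth.Agent.Lib.Helper8.Hzl.strictHenselization_faithfullyFlat A Ash
  constructor
  · rintro ⟨⟨hdom, hloc⟩, hpi⟩
    haveI := hdom
    haveI := hloc
    haveI : Nontrivial (TensorProduct A (CAlg2.normRed A) Ash) :=
      Module.FaithfullyFlat.rTensor_nontrivial A Ash _
    have hl : IsLocalRing (TensorProduct A (CAlg2.normRed A) Ash) :=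
      isLocalRing_tensor_of_purelyInseparable A (CAlg2.normRed A) Ash
        (hpi (IsLocalRing.maximalIdeal _))
    exact hasUniqueMinimalPrime_of_isLocalRing_tensor A Ash
      (Groth.Agent.Lib.Helper8.Hzl.strictHenselization_indEtaleLike A Ash) hdom hl
  · intro hS
    obtain ⟨h2, h3, h4⟩ := unibranch_of_hasUniqueMinimalPrime A Ash
      (Groth.Agent.Lib.Helper8.Hzl.strictHenselization_nilradical A Ash) hS
    refine ⟨⟨h2, h3⟩, ?_⟩
    intro m' hm'
    haveI := h3
    haveI := h4
    have hm : m' = IsLocalRing.maximalIdeal (CAlg2.normRed A) := IsLocalRing.eq_maximalIdeal hm'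
    subst hm
    haveI : IsSepClosed (IsLocalRing.ResidueField Ash) :=
      (Hensel.IsStrictHenselization.isSepClosure (R := A) (S := Ash)).sep_closed
    exact pow_mem_range_of_isLocalRing_tensor A (CAlg2.normRed A) Ash



/-- The local ring of an étale algebra over a geometrically unibranch local ring is geometrically
unibranch, and a domain if the base local ring is. -/
theorem isGeomUnibranch_and_isDomain_of_etale
    {A₀ C₀ : Type u} [CommRing A₀] [CommRing C₀] [Algebra A₀ C₀] [Algebra.Etale A₀ C₀]
    (p : Ideal A₀) [p.IsPrime] (q : Ideal C₀) [q.IsPrime]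
    (A : Type u) [CommRing A] [IsLocalRing A] [Algebra A₀ A] [IsLocalization.AtPrime A p]
    (B : Type u) [CommRing B] [IsLocalRing B] [Algebra C₀ B] [IsLocalization.AtPrime B q]
    [Algebra A₀ B] [IsScalarTower A₀ C₀ B] [Algebra A B] [IsScalarTower A₀ A B]
    [IsLocalHom (algebraMap A B)] (hA : CAlg2.IsGeomUnibranch A) :
    CAlg2.IsGeomUnibranch B ∧ (IsDomain A → IsDomain B) := by
  haveI := Hzl.isStrictHenselization A
  obtain ⟨φ, hφ, hcomp, hB⟩ := exists_isStrictHenselization_of_etale p q A B (Hzl.SHens A)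
  have huniq : CAlgX.HasUniqueMinimalPrime (Hzl.SHens A) :=
    (isGeomUnibranch_iff_hasUniqueMinimalPrime (A := A) (Ash := Hzl.SHens A)).mp hA
  letI algB : Algebra B (Hzl.SHens A) := φ.toAlgebra
  haveI : IsLocalHom (algebraMap B (Hzl.SHens A)) := hφ
  haveI : Hensel.IsStrictHenselization B (Hzl.SHens A) := hB
  refine ⟨(isGeomUnibranch_iff_hasUniqueMinimalPrime (A := B) (Ash := Hzl.SHens A)).mpr huniq, ?_⟩
  intro hdom
  -- the strict henselization is a domain
  have hnil : nilradical (Hzl.SHens A) = ⊥ := by
    rw [← Hzl.strictHenselization_nilradical A (Hzl.SHens A), nilradical_eq_zero, Ideal.zero_eq_bot,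
      Ideal.map_bot]
  obtain ⟨P, hP, hPuniq⟩ := huniq
  have hPbot : P = ⊥ := by
    rw [← hnil, nilradical_eq_sInf]
    apply le_antisymm
    · apply le_sInf
      intro J hJ
      haveI : J.IsPrime := hJ
      obtain ⟨Q, hQ, hQJ⟩ := Ideal.exists_minimalPrimes_le (I := ⊥) (J := J) bot_le
      rw [hPuniq Q hQ] at hQJ
      exact hQJ
    · exact sInf_le hP.1.1
  haveI : (⊥ : Ideal (Hzl.SHens A)).IsPrime := hPbot ▸ hP.1.1
  haveI : IsDomain (Hzl.SHens A) := IsDomain.of_bot_isPrime _
  haveI := Hzl.strictHenselization_faithfullyFlat B (Hzl.SHens A)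
  have hinj : Function.Injective (algebraMap B (Hzl.SHens A)) :=
    FaithfulSMul.algebraMap_injective B (Hzl.SHens A)
  exact hinj.isDomain _


set_option maxHeartbeats 800000 in
/-- An algebra of finite type, unramified at a prime `Q`, over a ring whose local ring at the
contraction `p` is a geometrically unibranch domain injecting into the local ring at `Q`, is flat
at `Q`. -/
theorem flat_of_unramified_of_injective
    {A₀ C₀ : Type u} [CommRing A₀] [CommRing C₀] [Algebra A₀ C₀] [Algebra.FiniteType A₀ C₀]
    (p : Ideal A₀) [p.IsPrime] (Q : Ideal C₀) [Q.IsPrime] [Algebra.IsUnramifiedAt A₀ Q]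
    (A : Type u) [CommRing A] [IsLocalRing A] [Algebra A₀ A] [IsLocalization.AtPrime A p]
    (B : Type u) [CommRing B] [IsLocalRing B] [Algebra C₀ B] [IsLocalization.AtPrime B Q]
    [Algebra A₀ B] [IsScalarTower A₀ C₀ B] [Algebra A B] [IsScalarTower A₀ A B]
    [IsLocalHom (algebraMap A B)] [IsDomain A] (hA : CAlg2.IsGeomUnibranch A)
    (hinj : Function.Injective (algebraMap A B)) : Module.Flat A₀ B := by
  obtain ⟨f₁, hf₁Q, P, φ, hφ⟩ :=
    Algebra.IsUnramifiedAt.exists_hasStandardEtaleSurjectionOn (R := A₀) Q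
  -- `B` as an algebra over `D = C₀[1/f₁]` and over `E = P.Ring`
  have hu : IsUnit (algebraMap C₀ B f₁) := IsLocalization.map_units B (⟨f₁, hf₁Q⟩ : Q.primeCompl)
  let lD : Localization.Away f₁ →ₐ[C₀] B := IsLocalization.liftAlgHom
    (M := Submonoid.powers f₁) (f := Algebra.ofId C₀ B) (by
      rintro ⟨_, n, rfl⟩
      simpa using hu.pow n)
  let θ : P.Ring →ₐ[A₀] B := (lD.restrictScalars A₀).comp φ
  letI algEB : Algebra P.Ring B := θ.toRingHom.toAlgebra
  haveI : IsScalarTower A₀ P.Ring B := .of_algebraMap_eq (fun a => (θ.commutes a).symm)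
  let q' : Ideal P.Ring := (maximalIdeal B).comap (algebraMap P.Ring B)
  haveI : q'.IsPrime := Ideal.comap_isPrime _ _
  let B' := Localization.AtPrime q'
  let ψ : B' →ₐ[P.Ring] B := IsLocalization.liftAlgHom (M := q'.primeCompl)
    (f := Algebra.ofId P.Ring B) (by
      rintro ⟨e, he⟩
      have : algebraMap P.Ring B e ∉ maximalIdeal B := he
      simpa using this)
  have hθφ : ∀ e : P.Ring, algebraMap P.Ring B e = lD (φ e) := fun e => rfl
  have hlD : ∀ c : C₀, lD (algebraMap C₀ (Localization.Away f₁) c) = algebraMap C₀ B c := by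
    intro c
    exact lD.commutes c
  have hψ : ∀ e : P.Ring, ψ (algebraMap P.Ring B' e) = algebraMap P.Ring B e := fun e =>
    ψ.commutes e
  have hsurj : Function.Surjective ψ := by
    intro b
    obtain ⟨c, s, rfl⟩ := IsLocalization.exists_mk'_eq Q.primeCompl b
    obtain ⟨ec, hec⟩ := hφ (algebraMap C₀ _ c)
    obtain ⟨es, hes⟩ := hφ (algebraMap C₀ _ (s : C₀))
    have h1 : algebraMap P.Ring B ec = algebraMap C₀ B c := by rw [hθφ, hec, hlD]
    have h2 : algebraMap P.Ring B es = algebraMap C₀ B (s : C₀) := by rw [hθφ, hes, hlD]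
    have hes' : es ∈ q'.primeCompl := by
      show algebraMap P.Ring B es ∉ maximalIdeal B
      rw [h2]
      have : IsUnit (algebraMap C₀ B (s : C₀)) := IsLocalization.map_units B s
      simpa using this
    refine ⟨IsLocalization.mk' B' ec ⟨es, hes'⟩, ?_⟩
    rw [IsLocalization.eq_mk'_iff_mul_eq, ← h2, ← hψ es, ← map_mul, IsLocalization.mk'_spec, hψ, h1]
  -- `B'` as an `A`-algebra
  have hunitA : ∀ a : p.primeCompl, IsUnit (algebraMap A₀ B' (a : A₀)) := by
    intro a
    rw [IsScalarTower.algebraMap_apply A₀ P.Ring B']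
    apply IsLocalization.map_units B' (⟨algebraMap A₀ P.Ring a, ?_⟩ : q'.primeCompl)
    show algebraMap P.Ring B (algebraMap A₀ P.Ring a) ∉ maximalIdeal B
    rw [← IsScalarTower.algebraMap_apply A₀ P.Ring B, IsScalarTower.algebraMap_apply A₀ A B]
    have : IsUnit (algebraMap A₀ A (a : A₀)) := IsLocalization.map_units A a
    simpa using this.map (algebraMap A B)
  let ιA : A →+* B' := IsLocalization.lift (M := p.primeCompl) (g := algebraMap A₀ B') hunitA
  letI algAB' : Algebra A B' := ιA.toAlgebra
  haveI : IsScalarTower A₀ A B' := .of_algebraMap_eq (fun a => (IsLocalization.lift_eq hunitA a).symm)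
  have hψι : (ψ : B' →+* B).comp (algebraMap A B') = algebraMap A B := by
    apply IsLocalization.ringHom_ext p.primeCompl (S := A)
    ext a
    show ψ (algebraMap A B' (algebraMap A₀ A a)) = algebraMap A B (algebraMap A₀ A a)
    rw [← IsScalarTower.algebraMap_apply A₀ A B', IsScalarTower.algebraMap_apply A₀ P.Ring B', hψ,
      ← IsScalarTower.algebraMap_apply A₀ P.Ring B, IsScalarTower.algebraMap_apply A₀ A B]
  haveI : IsLocalHom (algebraMap A B') := by
    constructor
    intro a ha
    have h1 : IsUnit (ψ (algebraMap A B' a)) := ha.map ψ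
    have h2 : ψ (algebraMap A B' a) = algebraMap A B a := RingHom.congr_fun hψι a
    rw [h2] at h1
    exact isUnit_of_map_unit (algebraMap A B) a h1
  haveI : Algebra.Etale A₀ P.Ring := inferInstance
  obtain ⟨-, hdom⟩ := Groth.Agent.Lib.Helper8.EtaleUnibranch.isGeomUnibranch_and_isDomain_of_etale
    p q' A B' hA
  haveI : IsDomain B' := hdom inferInstance
  have hinj' : Function.Injective (algebraMap A B') := by
    intro a a' h
    apply hinj
    rw [← RingHom.congr_fun hψι a, ← RingHom.congr_fun hψι a']
    show ψ (algebraMap A B' a) = ψ (algebraMap A B' a')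
    rw [h]
  -- a prime of `B` over the zero ideal of `A`
  have hmin : (⊥ : Ideal A) ∈ minimalPrimes A := by
    rw [IsDomain.minimalPrimes_eq_singleton_bot]
    exact Set.mem_singleton _
  obtain ⟨Pbar, hPbar, hPbar0⟩ :=
    Ideal.exists_comap_eq_of_mem_minimalPrimes_of_injective hinj ⊥ hmin
  haveI := hPbar
  let PP : Ideal B' := Pbar.comap (ψ : B' →+* B)
  haveI : PP.IsPrime := Ideal.comap_isPrime _ _
  have hker : RingHom.ker (ψ : B' →+* B) ≤ PP := Ideal.comap_mono bot_le
  have hPPA : PP.comap (algebraMap A B') = ⊥ := by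
    rw [Ideal.comap_comap, hψι, hPbar0]
  have hbotA : (⊥ : Ideal B').comap (algebraMap A B') = ⊥ := by
    rw [← RingHom.ker_eq_comap_bot]
    exact (RingHom.injective_iff_ker_eq_bot _).mp hinj'
  have hunder : (⊥ : Ideal B').under A₀ = PP.under A₀ := by
    show (⊥ : Ideal B').comap (algebraMap A₀ B') = PP.comap (algebraMap A₀ B')
    rw [IsScalarTower.algebraMap_eq A₀ A B', ← Ideal.comap_comap, ← Ideal.comap_comap, hPPA, hbotA]
  have hPPbot : (⊥ : Ideal B') = PP :=
    Algebra.QuasiFinite.eq_of_le_of_under_eq (R := A₀) ⊥ PP bot_le hunder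
  have hψinj : Function.Injective ψ := by
    rw [← AlgHom.coe_toRingHom, RingHom.injective_iff_ker_eq_bot]
    exact le_bot_iff.mp (hPPbot ▸ hker)
  let eψ : B' ≃ₐ[P.Ring] B := AlgEquiv.ofBijective ψ ⟨hψinj, hsurj⟩
  haveI : Module.Flat A₀ P.Ring := inferInstance
  haveI : Module.Flat A₀ B' := Module.Flat.trans A₀ P.Ring B'
  exact Module.Flat.of_linearEquiv (eψ.restrictScalars A₀).symm.toLinearEquiv


end Groth.Agent.Lib.Helper8.EtaleUnibranch
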