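import Mathlib
import Groth.Prelude
import Groth.Agent.Lib.Helper5.HenselLift
import Groth.Agent.Lib.Helper15.MaxPts
import Groth.Agent.Lib.Helper8.Hzl.AtPrimeGen
import Groth.Agent.Lib.Helper8.BranchCount
import Groth.Agent.Lib.Helper8.BranchSum
import Groth.Agent.Lib.Helper8.EtaleUnibranch
import Groth.Agent.Lib.Helper8.EtaleAffineNhd
import Groth.Agent.Lib.Helper8.EtLocSch
import Groth.Agent.Lib.Helper8.EtaleToFlat
import Groth.Agent.Lib.Helper8.HenselSplitConv

/-!
# Branches of a scheme at a point via étale neighbourhoods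
-/

set_option autoImplicit false
universe u

open AlgebraicGeometry CategoryTheory Limits IsLocalRing

namespace Groth.Agent.Lib.Helper8.BranchNbhd

open Groth.Agent.Lib.Helper8.Hzl

section top

theorem closure_singleton_mem_irreducibleComponents_iff {R : Type u} [CommRing R]
    (z : PrimeSpectrum R) :
    closure ({z} : Set (PrimeSpectrum R)) ∈ irreducibleComponents (PrimeSpectrum R) ↔
      z.asIdeal ∈ minimalPrimes R := by
  rw [Groth.Agent.Lib.Helper15.NT.closure_singleton_mem_irreducibleComponents_iff]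
  constructor
  · intro h
    refine ⟨⟨z.2, bot_le⟩, ?_⟩
    rintro q ⟨hq, -⟩ hle
    have h1 : (⟨q, hq⟩ : PrimeSpectrum R) ⤳ z :=
      (PrimeSpectrum.le_iff_specializes _ _).mp hle
    exact (PrimeSpectrum.le_iff_specializes _ _).mpr (h _ h1)
  · intro h t' ht'
    have h1 : t'.asIdeal ≤ z.asIdeal := (PrimeSpectrum.le_iff_specializes _ _).mpr ht'
    exact (PrimeSpectrum.le_iff_specializes _ _).mp (h.2 ⟨t'.2, bot_le⟩ h1)

/-- The irreducible components of a scheme through a point correspond to the minimal primes of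
the local ring. -/
theorem encard_irreducibleComponents_mem (U : Scheme.{u}) (u : U) :
    {Z : Set U | Z ∈ irreducibleComponents U ∧ u ∈ Z}.encard =
      (minimalPrimes (U.presheaf.stalk u)).encard := by
  have hb0 := Groth.Agent.Lib.Helper15.NT.bijOn_irreducibleComponents_of_range_eq_generizations
    (A := ↥(Spec (U.presheaf.stalk u))) (B := U)
    (f := (U.fromSpecStalk u : _ → _))
    (U.fromSpecStalk u).isEmbedding.isInducing u Scheme.range_fromSpecStalk
  have hb : Set.BijOn (fun z : PrimeSpectrum (U.presheaf.stalk u) =>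
        closure ({(U.fromSpecStalk u) z} : Set U))
      {z : PrimeSpectrum (U.presheaf.stalk u) |
        closure ({z} : Set (PrimeSpectrum (U.presheaf.stalk u))) ∈
          irreducibleComponents (PrimeSpectrum (U.presheaf.stalk u))}
      {Z : Set U | Z ∈ irreducibleComponents U ∧ u ∈ Z} := hb0
  calc {Z : Set U | Z ∈ irreducibleComponents U ∧ u ∈ Z}.encard
      = {z : PrimeSpectrum (U.presheaf.stalk u) | closure ({z} : Set _) ∈
          irreducibleComponents (PrimeSpectrum (U.presheaf.stalk u))}.encard :=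
        (Set.encard_congr (Set.BijOn.equiv _ hb)).symm
    _ = (PrimeSpectrum.asIdeal ⁻¹' (minimalPrimes (U.presheaf.stalk u))).encard := by
        congr 1
        ext z
        exact closure_singleton_mem_irreducibleComponents_iff z
    _ = (PrimeSpectrum.asIdeal ''
          (PrimeSpectrum.asIdeal ⁻¹' (minimalPrimes (U.presheaf.stalk u)))).encard :=
        (Set.InjOn.encard_image (fun a _ b _ h => PrimeSpectrum.ext h)).symm
    _ = (minimalPrimes (U.presheaf.stalk u)).encard := by
        rw [Set.image_preimage_eq_of_subset]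
        intro P hP
        exact ⟨⟨P, hP.1.1⟩, rfl⟩

theorem hasUniqueMinimalPrime_iff_encard_eq_one (S : Type u) [CommRing S] :
    CAlgX.HasUniqueMinimalPrime S ↔ (minimalPrimes S).encard = 1 := by
  rw [Set.encard_eq_one]
  constructor
  · rintro ⟨P, hP, huniq⟩
    exact ⟨P, Set.eq_singleton_iff_unique_mem.mpr ⟨hP, fun Q hQ => huniq Q hQ⟩⟩
  · rintro ⟨P, hP⟩
    refine ⟨P, by rw [hP]; exact Set.mem_singleton P, fun Q hQ => ?_⟩
    rw [hP] at hQ
    exact hQ

theorem encard_minimalPrimes_le_of_faithfullyFlat (A B : Type u) [CommRing A] [CommRing B]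
    [Algebra A B] [Module.FaithfullyFlat A B] :
    (minimalPrimes A).encard ≤ (minimalPrimes B).encard := by
  have hsub : minimalPrimes A ⊆ (Ideal.comap (algebraMap A B)) '' (minimalPrimes B) := by
    intro p hp
    obtain ⟨Q, hQ, rfl⟩ := BranchCount.exists_minimalPrime_comap_eq A B p hp
    exact ⟨Q, hQ, rfl⟩
  exact (Set.encard_le_encard hsub).trans (Set.encard_image_le _ _)

end top

section ring

/-- A local ring of an étale algebra over `A` maps flatly and locally to a henselian local flat
`A`-algebra, given a compatible map on residue fields. -/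
theorem exists_flat_localHom_of_etale
    {A₀ C₀ : Type u} [CommRing A₀] [CommRing C₀] [Algebra A₀ C₀] [Algebra.Etale A₀ C₀]
    (p : Ideal A₀) [p.IsPrime] (q : Ideal C₀) [q.IsPrime]
    (A : Type u) [CommRing A] [IsLocalRing A] [Algebra A₀ A] [IsLocalization.AtPrime A p]
    (B : Type u) [CommRing B] [IsLocalRing B] [Algebra C₀ B] [IsLocalization.AtPrime B q]
    [Algebra A₀ B] [IsScalarTower A₀ C₀ B] [Algebra A B] [IsScalarTower A₀ A B]
    [IsLocalHom (algebraMap A B)]
    (S : Type u) [CommRing S] [HenselianLocalRing S] [Algebra A S] [Module.Flat A S]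
    (σ : ResidueField B →+* ResidueField S)
    (hσ : ∀ a : A, σ (residue B (algebraMap A B a)) = residue S (algebraMap A S a)) :
    ∃ (φ : B →+* S), IsLocalHom φ ∧ φ.Flat := by
  letI algA₀S : Algebra A₀ S := ((algebraMap A S).comp (algebraMap A₀ A)).toAlgebra
  haveI : IsScalarTower A₀ A S := .of_algebraMap_eq (fun _ => rfl)
  let χ : C₀ →ₐ[A₀] ResidueField S :=
    { toRingHom := σ.comp ((residue B).comp (algebraMap C₀ B))
      commutes' := fun a => by
        show σ (residue B (algebraMap C₀ B (algebraMap A₀ C₀ a))) = _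
        rw [← IsScalarTower.algebraMap_apply A₀ C₀ B, IsScalarTower.algebraMap_apply A₀ A B, hσ]
        rfl }
  have hχ : ∀ c, c ∉ q → χ c ≠ 0 := by
    intro c hc
    have hu : IsUnit (algebraMap C₀ B c) :=
      IsLocalization.map_units B (⟨c, hc⟩ : q.primeCompl)
    have h1 : residue B (algebraMap C₀ B c) ≠ 0 := (residue_ne_zero_iff_isUnit _).mpr hu
    exact (map_ne_zero_iff _ σ.injective).mpr h1
  obtain ⟨φ', hφ'⟩ := Groth.Agent.Lib.Helper5.exists_algHom_localization_of_etale q χ hχ
  let e : B ≃ₐ[C₀] Localization.AtPrime q := IsLocalization.algEquiv q.primeCompl _ _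
  let φ : B →+* S := (φ' : Localization.AtPrime q →+* S).comp (e : B →+* Localization.AtPrime q)
  have hφc : ∀ c : C₀, φ (algebraMap C₀ B c) = φ' (algebraMap C₀ (Localization.AtPrime q) c) := by
    intro c
    show φ' (e (algebraMap C₀ B c)) = _
    rw [e.commutes]
  have hres : ∀ b : B, residue S (φ b) = σ (residue B b) := by
    have : (residue S).comp φ = σ.comp (residue B) := by
      apply IsLocalization.ringHom_ext q.primeCompl (S := B)
      ext c
      show residue S (φ (algebraMap C₀ B c)) = σ (residue B (algebraMap C₀ B c))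
      rw [hφc, hφ']
      rfl
    exact fun b => congrFun (congrArg DFunLike.coe this) b
  have hloc : IsLocalHom φ := by
    constructor
    intro b hb
    have h1 : residue S (φ b) ≠ 0 := (residue_ne_zero_iff_isUnit _).mpr hb
    rw [hres] at h1
    have h2 : residue B b ≠ 0 := fun h0 => h1 (by rw [h0, map_zero])
    exact (residue_ne_zero_iff_isUnit _).mp h2
  refine ⟨φ, hloc, ?_⟩
  haveI : Module.Flat A₀ A := IsLocalization.flat A p.primeCompl
  haveI : Module.Flat A₀ S := Module.Flat.trans A₀ A S
  letI algC₀S : Algebra C₀ S := (φ.comp (algebraMap C₀ B)).toAlgebra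
  haveI : IsScalarTower A₀ C₀ S := .of_algebraMap_eq (fun a => by
    show algebraMap A₀ S a = φ (algebraMap C₀ B (algebraMap A₀ C₀ a))
    rw [hφc, ← IsScalarTower.algebraMap_apply A₀ C₀ (Localization.AtPrime q), φ'.commutes])
  have h1 : Module.Flat C₀ S := EtaleToFlat.flat_of_etale_of_flat A₀ C₀ S
  letI algBS : Algebra B S := φ.toAlgebra
  haveI : IsScalarTower C₀ B S := .of_algebraMap_eq (fun c => rfl)
  have h2 : Module.Flat B S := (Module.flat_iff_of_isLocalization B q.primeCompl S).mpr h1
  exact RingHom.flat_algebraMap_iff.mpr h2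

/-- Minimal primes of a local ring of an étale algebra versus those of the (strict)
henselization of the base. -/
theorem encard_le_of_etale
    {A₀ C₀ : Type u} [CommRing A₀] [CommRing C₀] [Algebra A₀ C₀] [Algebra.Etale A₀ C₀]
    (p : Ideal A₀) [p.IsPrime] (q : Ideal C₀) [q.IsPrime]
    (A : Type u) [CommRing A] [IsLocalRing A] [Algebra A₀ A] [IsLocalization.AtPrime A p]
    (B : Type u) [CommRing B] [IsLocalRing B] [Algebra C₀ B] [IsLocalization.AtPrime B q]
    [Algebra A₀ B] [IsScalarTower A₀ C₀ B] [Algebra A B] [IsScalarTower A₀ A B]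
    [IsLocalHom (algebraMap A B)] :
    (minimalPrimes B).encard ≤ (minimalPrimes (SHens A)).encard ∧
    (Function.Bijective (algebraMap (ResidueField A) (ResidueField B)) →
      (minimalPrimes B).encard ≤ (minimalPrimes (Hens A)).encard) := by
  constructor
  · haveI := isStrictHenselization A
    obtain ⟨φ, hφ, hcomp, hB⟩ :=
      EtaleUnibranch.exists_isStrictHenselization_of_etale p q A B (SHens A)
    letI algB : Algebra B (SHens A) := φ.toAlgebra
    haveI : IsLocalHom (algebraMap B (SHens A)) := hφ
    haveI : Hensel.IsStrictHenselization B (SHens A) := hB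
    haveI := strictHenselization_faithfullyFlat B (SHens A)
    exact encard_minimalPrimes_le_of_faithfullyFlat B (SHens A)
  · intro hres
    haveI := isHenselization A
    haveI : Module.Flat A (Hens A) := henselization_flat A (Hens A)
    let eκ : ResidueField A ≃+* ResidueField B :=
      RingEquiv.ofBijective (algebraMap (ResidueField A) (ResidueField B)) hres
    let σ : ResidueField B →+* ResidueField (Hens A) :=
      (ResidueField.map (algebraMap A (Hens A))).comp
        (eκ.symm : ResidueField B →+* ResidueField A)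
    have hσ : ∀ a : A, σ (residue B (algebraMap A B a)) =
        residue (Hens A) (algebraMap A (Hens A) a) := by
      intro a
      have h1 : residue B (algebraMap A B a) = eκ (residue A a) := rfl
      change ResidueField.map (algebraMap A (Hens A))
        (eκ.symm (residue B (algebraMap A B a))) = _
      rw [h1, RingEquiv.symm_apply_apply, ResidueField.map_residue]
    obtain ⟨φ, hφ, hflat⟩ := exists_flat_localHom_of_etale p q A B (Hens A) σ hσ
    letI algBS : Algebra B (Hens A) := φ.toAlgebra
    haveI : IsLocalHom (algebraMap B (Hens A)) := hφ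
    haveI : Module.Flat B (Hens A) := RingHom.flat_algebraMap_iff.mp hflat
    haveI : Module.FaithfullyFlat B (Hens A) := Module.FaithfullyFlat.of_flat_of_isLocalHom
    exact encard_minimalPrimes_le_of_faithfullyFlat B (Hens A)

end ring

section sch

/-- Upper bound: an étale neighbourhood has at most as many components through the point as the
strict henselization has minimal primes (henselization, for trivial residue field extension). -/
theorem encard_minimalPrimes_stalk_le {X U : Scheme.{u}} (g : U ⟶ X) [Etale g] (u : U) :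
    (minimalPrimes (U.presheaf.stalk u)).encard ≤
        (minimalPrimes (SHens (X.presheaf.stalk (g u)))).encard ∧
    (Function.Bijective (g.residueFieldMap u) →
      (minimalPrimes (U.presheaf.stalk u)).encard ≤
        (minimalPrimes (Hens (X.presheaf.stalk (g u)))).encard) := by
  have hf : ∃ U' : U.Opens, u ∈ U' ∧ Etale (U'.ι ≫ g) := ⟨⊤, trivial, inferInstance⟩
  obtain ⟨W, V, hW, hV, hVW, hxV, het⟩ :=
    Groth.Agent.Lib.Helper8.EtaleAffineNhd.exists_affine_etale_appLE g u hf
  have hyW : g u ∈ W := hVW hxV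
  have hcomm : X.presheaf.germ W (g u) hyW ≫ g.stalkMap u =
      g.appLE W V hVW ≫ U.presheaf.germ V u hxV := by
    rw [Scheme.Hom.germ_stalkMap, Scheme.Hom.appLE, Category.assoc, TopCat.Presheaf.germ_res]
  letI algAC : Algebra Γ(X, W) Γ(U, V) := (g.appLE W V hVW).hom.toAlgebra
  haveI : Algebra.Etale Γ(X, W) Γ(U, V) := het
  letI algA : Algebra Γ(X, W) (X.presheaf.stalk (g u)) :=
    X.presheaf.algebra_section_stalk ⟨g u, hyW⟩
  letI algB : Algebra Γ(U, V) (U.presheaf.stalk u) := U.presheaf.algebra_section_stalk ⟨u, hxV⟩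
  letI algAB : Algebra (X.presheaf.stalk (g u)) (U.presheaf.stalk u) :=
    (g.stalkMap u).hom.toAlgebra
  letI algA₀B : Algebra Γ(X, W) (U.presheaf.stalk u) :=
    ((U.presheaf.germ V u hxV).hom.comp (g.appLE W V hVW).hom).toAlgebra
  haveI : IsScalarTower Γ(X, W) Γ(U, V) (U.presheaf.stalk u) :=
    IsScalarTower.of_algebraMap_eq (fun _ => rfl)
  haveI : IsScalarTower Γ(X, W) (X.presheaf.stalk (g u)) (U.presheaf.stalk u) := by
    refine IsScalarTower.of_algebraMap_eq (fun a => ?_)
    have := congrArg (fun φ => φ.hom a) hcomm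
    exact this.symm
  haveI : IsLocalHom (algebraMap (X.presheaf.stalk (g u)) (U.presheaf.stalk u)) :=
    (inferInstance : IsLocalHom (g.stalkMap u).hom)
  haveI := hW.isLocalization_stalk ⟨g u, hyW⟩
  haveI := hV.isLocalization_stalk ⟨u, hxV⟩
  obtain ⟨h1, h2⟩ := encard_le_of_etale
    (hW.primeIdealOf ⟨g u, hyW⟩).asIdeal (hV.primeIdealOf ⟨u, hxV⟩).asIdeal
    (X.presheaf.stalk (g u)) (U.presheaf.stalk u)
  exact ⟨h1, fun hres => h2 hres⟩

/-- Lower bound: every stage of the colimit is the local ring of an étale neighbourhood. -/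
theorem exists_etale_nbhd_of_idx (X : Scheme.{u}) (x : X) {V : X.Opens} (hV : IsAffineOpen V)
    (hx : x ∈ V) (Ω : Type u) [Field Ω] [Algebra Γ(X, V) Ω]
    (hker : ∀ r : Γ(X, V), algebraMap Γ(X, V) Ω r = 0 ↔ r ∈ (hV.primeIdealOf ⟨x, hx⟩).asIdeal)
    (k : Idx Γ(X, V) Ω) :
    ∃ (U : Scheme.{u}) (g : U ⟶ X) (u : U), Etale g ∧ g u = x ∧
      (minimalPrimes (U.presheaf.stalk u)).encard = (minimalPrimes k.B).encard ∧
      ((∀ ω : Ω, ∃ a t : Γ(X, V), algebraMap Γ(X, V) Ω t ≠ 0 ∧
          ω * algebraMap Γ(X, V) Ω t = algebraMap Γ(X, V) Ω a) →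
        Function.Bijective (g.residueFieldMap u)) := by
  haveI : Etale (Spec.map (CommRingCat.ofHom (algebraMap Γ(X, V) k.E))) :=
    HasRingHomProperty.Spec_iff.mpr (RingHom.etale_algebraMap.mpr inferInstance)
  haveI : IsOpenImmersion hV.fromSpec := hV.isOpenImmersion_fromSpec
  refine ⟨Spec (.of k.E), Spec.map (CommRingCat.ofHom (algebraMap Γ(X, V) k.E)) ≫ hV.fromSpec,
    (⟨k.q, inferInstance⟩ : Spec (CommRingCat.of k.E)), inferInstance, ?_, ?_, ?_⟩
  · rw [Scheme.Hom.comp_apply]
    have hse : hV.fromSpec (hV.primeIdealOf ⟨x, hx⟩) = x := hV.fromSpec_primeIdealOf ⟨x, hx⟩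
    refine Eq.trans ?_ hse
    congr 1
    refine PrimeSpectrum.ext ?_
    ext r
    change algebraMap Γ(X, V) k.E r ∈ k.q ↔ _
    rw [k.mem_q, AlgHom.commutes, hker]
  · exact BranchSum.encard_minimalPrimes_ringEquiv
      (Spec.stalkIso (.of k.E) ⟨k.q, inferInstance⟩).commRingCatIsoToRingEquiv
  · intro hfrac
    refine ⟨(Scheme.Hom.residueFieldMap _ _).hom.injective, ?_⟩
    refine EtLocSch.residueFieldMap_comp_openImm_surjective (algebraMap Γ(X, V) k.E)
      hV.fromSpec _ ?_
    intro b
    obtain ⟨a, t, ht, hω⟩ := hfrac (k.χ b)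
    refine ⟨a, t, ?_, ?_⟩
    · change algebraMap Γ(X, V) k.E t ∉ k.q
      rw [k.mem_q, AlgHom.commutes]
      exact ht
    · change algebraMap Γ(X, V) k.E t * b - algebraMap Γ(X, V) k.E a ∈ k.q
      rw [k.mem_q, map_sub, map_mul, AlgHom.commutes, AlgHom.commutes, mul_comm, hω, sub_self]

end sch

end Groth.Agent.Lib.Helper8.BranchNbhd
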