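import Mathlib
import Groth.Prelude
import Groth.Agent.Lib.Helper8.BranchSum

/-!
# Number of geometric branches as a sum over minimal primes

`isStrictHenselization_quotient`: if `S` is a strict henselization of the local ring `A` and `p` is a
proper ideal of `A`, then `S ⧸ pS` is a strict henselization of `A ⧸ p`.
-/

set_option autoImplicit false
universe u
open IsLocalRing

namespace Groth.Agent.Lib.Helper8.BranchSumGeom

open Groth.Agent.Lib.Helper8.Hzl Groth.Agent.Lib.Helper8.BranchSum

section gen

theorem isLocalHom_mk {R : Type u} [CommRing R] [IsLocalRing R] (J : Ideal R) (hJ : J ≠ ⊤) :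
    IsLocalHom (Ideal.Quotient.mk J) := by
  refine ⟨fun a ha => ?_⟩
  by_contra hnu
  have hmem : a ∈ maximalIdeal R := (mem_maximalIdeal a).mpr hnu
  have hp : J ≤ maximalIdeal R := IsLocalRing.le_maximalIdeal hJ
  obtain ⟨b', hb'⟩ := ha.exists_right_inv
  obtain ⟨b, rfl⟩ := Ideal.Quotient.mk_surjective b'
  have hab : a * b - 1 ∈ J := by
    rw [← Ideal.Quotient.eq, map_mul, map_one]; exact hb'
  have h1 : (1 : R) ∈ maximalIdeal R := by
    have h2 := sub_mem (Ideal.mul_mem_right b _ hmem) (hp hab)
    rwa [sub_sub_cancel] at h2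
  exact (Ideal.IsPrime.ne_top inferInstance : maximalIdeal R ≠ ⊤)
    ((Ideal.eq_top_iff_one _).mpr h1)

theorem ne_top_of_isLocalRing_quotient {R : Type u} [CommRing R] (J : Ideal R)
    [IsLocalRing (R ⧸ J)] : J ≠ ⊤ :=
  Ideal.Quotient.nontrivial_iff.mp inferInstance

theorem residueMap_bijective {R R' : Type u} [CommRing R] [IsLocalRing R] [CommRing R']
    [IsLocalRing R'] (φ : R →+* R') [IsLocalHom φ] (hφ : Function.Surjective φ) :
    Function.Bijective (ResidueField.map φ) := by
  refine ⟨(ResidueField.map φ).injective, fun x => ?_⟩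
  obtain ⟨y, rfl⟩ := residue_surjective x
  obtain ⟨z, rfl⟩ := hφ y
  exact ⟨residue R z, ResidueField.map_residue φ z⟩

end gen

section sh

variable (A S : Type u) [CommRing A] [IsLocalRing A] [CommRing S] [IsLocalRing S] [Algebra A S]
  [IsLocalHom (algebraMap A S)] (p : Ideal A)

theorem map_ne_top (hp : p ≠ ⊤) : p.map (algebraMap A S) ≠ ⊤ := by
  intro htop
  have h1 : p.map (algebraMap A S) ≤ maximalIdeal S := by
    rw [Ideal.map_le_iff_le_comap, IsLocalRing.maximalIdeal_comap (algebraMap A S)]
    exact IsLocalRing.le_maximalIdeal hp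
  rw [htop] at h1
  exact (Ideal.IsPrime.ne_top inferInstance : maximalIdeal S ≠ ⊤) (top_le_iff.mp h1)

local notation "φS" => Ideal.Quotient.mk (Ideal.map (algebraMap A S) p)

variable [IsLocalRing (A ⧸ p)] [IsLocalRing (S ⧸ p.map (algebraMap A S))]

theorem isLocalHom_quotientMap :
    IsLocalHom (algebraMap (A ⧸ p) (S ⧸ p.map (algebraMap A S))) := by
  haveI hmS : IsLocalHom φS := isLocalHom_mk _ (ne_top_of_isLocalRing_quotient _)
  refine ⟨fun b hb => ?_⟩
  obtain ⟨a, rfl⟩ := Ideal.Quotient.mk_surjective b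
  have h1 : IsUnit (φS (algebraMap A S a)) := hb
  have h2 : IsUnit (algebraMap A S a) := isUnit_of_map_unit φS _ h1
  have h3 : IsUnit a := isUnit_of_map_unit (algebraMap A S) a h2
  exact h3.map _

variable [IsLocalHom (algebraMap (A ⧸ p) (S ⧸ p.map (algebraMap A S)))]

theorem isSepClosure_quotient
    (hsc : IsSepClosure (ResidueField A) (ResidueField S)) :
    IsSepClosure (ResidueField (A ⧸ p)) (ResidueField (S ⧸ p.map (algebraMap A S))) := by
  haveI hmA : IsLocalHom (Ideal.Quotient.mk p) :=
    isLocalHom_mk p (ne_top_of_isLocalRing_quotient p)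
  haveI hmS : IsLocalHom φS := isLocalHom_mk _ (ne_top_of_isLocalRing_quotient _)
  have hbij := residueMap_bijective φS Ideal.Quotient.mk_surjective
  haveI := hsc.sep_closed
  haveI := hsc.separable
  refine ⟨isSepClosed_of_ringEquiv (RingEquiv.ofBijective _ hbij), ⟨fun x => ?_⟩⟩
  obtain ⟨y, rfl⟩ := hbij.2 x
  have hm : (minpoly (ResidueField A) y).Separable :=
    Algebra.IsSeparable.isSeparable (ResidueField A) y
  let ψ : ResidueField A →+* ResidueField (A ⧸ p) := ResidueField.map (Ideal.Quotient.mk p)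
  have hcomm : (algebraMap (ResidueField (A ⧸ p))
      (ResidueField (S ⧸ p.map (algebraMap A S)))).comp ψ =
      (ResidueField.map φS).comp (algebraMap (ResidueField A) (ResidueField S)) := by
    apply Ideal.Quotient.ringHom_ext
    ext a
    rfl
  have hroot : Polynomial.aeval (ResidueField.map φS y)
      ((minpoly (ResidueField A) y).map ψ) = 0 := by
    rw [Polynomial.aeval_def, Polynomial.eval₂_map, hcomm, ← Polynomial.hom_eval₂,
      ← Polynomial.aeval_def, minpoly.aeval, map_zero]
  exact (hm.map (f := ψ)).of_dvd (minpoly.dvd _ _ hroot)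

theorem isStrictHenselization_quotient [hS : Hensel.IsStrictHenselization A S] :
    Hensel.IsStrictHenselization (A ⧸ p) (S ⧸ p.map (algebraMap A S)) := by
  haveI hmA : IsLocalHom (Ideal.Quotient.mk p) :=
    isLocalHom_mk p (ne_top_of_isLocalRing_quotient p)
  haveI hmS : IsLocalHom φS := isLocalHom_mk _ (ne_top_of_isLocalRing_quotient _)
  haveI : HenselianLocalRing S := hS.henselian
  haveI : Algebra.IsIntegral S (S ⧸ p.map (algebraMap A S)) :=
    Algebra.isIntegral_of_surjective Ideal.Quotient.mk_surjective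
  refine ⟨henselianLocalRing_of_isIntegral S _, isSepClosure_quotient A S p hS.isSepClosure, ?_⟩
  intro T _ _ f _ τ hτ
  have hf₀ : IsLocalHom (f.comp (Ideal.Quotient.mk p)) := RingHom.isLocalHom_comp _ _
  let τ₀ : ResidueField S →+* ResidueField T := τ.comp (ResidueField.map φS)
  have hτ₀ : τ₀.comp (ResidueField.map (algebraMap A S)) =
      ResidueField.map (f.comp (Ideal.Quotient.mk p)) := by
    apply Ideal.Quotient.ringHom_ext
    ext a
    exact DFunLike.congr_fun hτ (residue (A ⧸ p) (Ideal.Quotient.mk p a))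
  obtain ⟨g₀, ⟨hg1, hg2⟩, hgu⟩ := hS.universal T (f.comp (Ideal.Quotient.mk p)) τ₀ hτ₀
  have hker : ∀ s ∈ p.map (algebraMap A S), g₀ s = 0 := by
    intro s hs
    have h2 : p.map (algebraMap A S) ≤ RingHom.ker g₀ := by
      rw [Ideal.map_le_iff_le_comap]
      intro a ha
      rw [Ideal.mem_comap, RingHom.mem_ker]
      have h3 : g₀ (algebraMap A S a) = f (Ideal.Quotient.mk p a) := DFunLike.congr_fun hg1 a
      rw [h3, Ideal.Quotient.eq_zero_iff_mem.mpr ha, map_zero]
    exact h2 hs
  let g : S ⧸ p.map (algebraMap A S) →+* T := Ideal.Quotient.lift _ g₀ hker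
  refine ⟨g, ⟨?_, ?_⟩, ?_⟩
  · apply Ideal.Quotient.ringHom_ext
    ext a
    exact DFunLike.congr_fun hg1 a
  · intro x
    obtain ⟨s, rfl⟩ := Ideal.Quotient.mk_surjective x
    exact hg2 s
  · rintro g' ⟨hg'1, hg'2⟩
    have h5 : (g'.comp φS).comp (algebraMap A S) = f.comp (Ideal.Quotient.mk p) := by
      ext a
      exact DFunLike.congr_fun hg'1 (Ideal.Quotient.mk p a)
    have h4 : g'.comp φS = g₀ := hgu _ ⟨h5, fun s => hg'2 (φS s)⟩
    apply Ideal.Quotient.ringHom_ext
    rw [h4]
    ext s
    rfl

end sh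

section main

variable (A : Type u) [CommRing A] [IsLocalRing A]

/-- Number of geometric branches as a sum over minimal primes, given that the number of geometric
branches is the number of minimal primes of a strict henselization. -/
theorem numGeomBranches_eq_finsum (h : (minimalPrimes A).Finite)
    (hbr : ∀ (R S : Type u) [CommRing R] [IsLocalRing R] [CommRing S] [IsLocalRing S]
      [Algebra R S] [IsLocalHom (algebraMap R S)] [Hensel.IsStrictHenselization R S],
      ENat.card (minimalPrimes S) = Brnch.numGeomBranches R) :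
    Brnch.numGeomBranches A =
      ∑ᶠ p : minimalPrimes A,
        haveI : p.1.IsPrime := p.2.1.1
        Brnch.numGeomBranches (A ⧸ p.1) := by
  classical
  haveI hH := isStrictHenselization A
  haveI : Module.Flat A (SHens A) := strictHenselization_flat A (SHens A)
  rw [← hbr A (SHens A)]
  let s : minimalPrimes A → Set (Ideal (SHens A)) := fun p =>
    {Q | Q ∈ minimalPrimes (SHens A) ∧ Q.comap (algebraMap A (SHens A)) = p.1}
  have hU : (⋃ p, s p) = minimalPrimes (SHens A) := by
    ext Q
    simp only [Set.mem_iUnion, s, Set.mem_setOf_eq]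
    constructor
    · rintro ⟨p, hQ, -⟩; exact hQ
    · intro hQ; exact ⟨⟨_, comap_mem_minimalPrimes A (SHens A) hQ⟩, hQ, rfl⟩
  have hdisj : Pairwise (Function.onFun Disjoint s) := by
    intro p p' hne
    rw [Function.onFun, Set.disjoint_left]
    rintro Q ⟨-, h1⟩ ⟨-, h2⟩
    exact hne (Subtype.ext (h1.symm.trans h2))
  haveI : Finite (minimalPrimes A) := h.to_subtype
  change (minimalPrimes (SHens A)).encard = _
  rw [← hU, Set.encard_iUnion_of_finite hdisj]
  apply finsum_congr
  intro p
  haveI : p.1.IsPrime := p.2.1.1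
  have hne : p.1.map (algebraMap A (SHens A)) ≠ ⊤ :=
    map_ne_top A (SHens A) p.1 (Ideal.IsPrime.ne_top inferInstance)
  haveI : Nontrivial (SHens A ⧸ p.1.map (algebraMap A (SHens A))) :=
    Ideal.Quotient.nontrivial_iff.mpr hne
  haveI := isLocalHom_quotientMap A (SHens A) p.1
  haveI := isStrictHenselization_quotient A (SHens A) p.1
  rw [← hbr (A ⧸ p.1) (SHens A ⧸ p.1.map (algebraMap A (SHens A)))]
  change (s p).encard = (minimalPrimes (SHens A ⧸ p.1.map (algebraMap A (SHens A)))).encard
  calc (s p).encard = ((p.1.map (algebraMap A (SHens A))).minimalPrimes).encard := by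
        rw [minimalPrimes_map_eq A (SHens A) p.2]
    _ = (minimalPrimes (SHens A ⧸ p.1.map (algebraMap A (SHens A)))).encard :=
        (encard_minimalPrimes_quotient _).symm

end main

end Groth.Agent.Lib.Helper8.BranchSumGeom
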