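import Mathlib
import Groth.Prelude
import Groth.Agent.Lib.Helper8.BranchNbhd
import Groth.Agent.Lib.Helper8.BranchSumGeom

/-!
# Branches of fibres: ring-level lemmas

Minimal primes over an ideal under (faithfully) flat maps, transport of (strict) henselizations
along ring isomorphisms, henselization of a quotient.
-/

set_option autoImplicit false
universe u

open IsLocalRing

namespace Groth.Agent.Lib.Helper8.BranchFibre

open Groth.Agent.Lib.Helper8.Hzl

section minprimes

variable {A B : Type u} [CommRing A] [CommRing B] [Algebra A B]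

/-- Flat: the contraction of a minimal prime over `J B` is a minimal prime over `J`. -/
theorem comap_mem_minimalPrimes_map [Module.Flat A B] (J : Ideal A) {Q : Ideal B}
    (hQ : Q ∈ (J.map (algebraMap A B)).minimalPrimes) :
    Q.comap (algebraMap A B) ∈ J.minimalPrimes := by
  haveI : Q.IsPrime := hQ.1.1
  have hJQ : J ≤ Q.comap (algebraMap A B) := Ideal.map_le_iff_le_comap.mp hQ.1.2
  refine ⟨⟨Ideal.comap_isPrime _ _, hJQ⟩, ?_⟩
  rintro p' ⟨hp', hJp'⟩ hle
  haveI := hp'
  haveI : Q.LiesOver (Q.comap (algebraMap A B)) := ⟨rfl⟩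
  obtain ⟨P, hPQ, hP, hPp⟩ := Ideal.exists_ideal_le_liesOver_of_le (S := B) (p := p')
    (q := Q.comap (algebraMap A B)) Q hle
  have hJP : J.map (algebraMap A B) ≤ P := by
    rw [Ideal.map_le_iff_le_comap]
    exact hJp'.trans hPp.over.le
  have hQP : Q ≤ P := hQ.2 ⟨hP, hJP⟩ hPQ
  have hPQ' : P = Q := le_antisymm hPQ hQP
  have h1 : p' = Q.comap (algebraMap A B) := by rw [← hPQ']; exact hPp.over
  rw [h1]

/-- Faithfully flat: every minimal prime over `J` is the contraction of one over `J B`. -/
theorem exists_minimalPrimes_map_comap_eq [Module.FaithfullyFlat A B] (J : Ideal A) (p : Ideal A)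
    (hp : p ∈ J.minimalPrimes) :
    ∃ Q ∈ (J.map (algebraMap A B)).minimalPrimes, Q.comap (algebraMap A B) = p := by
  haveI : p.IsPrime := hp.1.1
  obtain ⟨P, hP, hPp⟩ := Ideal.exists_isPrime_liesOver_of_faithfullyFlat (B := B) p
  haveI := hP
  have hJP : J.map (algebraMap A B) ≤ P := by
    rw [Ideal.map_le_iff_le_comap]
    exact hp.1.2.trans hPp.over.le
  obtain ⟨Q, hQ, hQP⟩ := Ideal.exists_minimalPrimes_le hJP
  refine ⟨Q, hQ, ?_⟩
  haveI : Q.IsPrime := hQ.1.1
  have h1 : Q.comap (algebraMap A B) ≤ p :=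
    calc Q.comap (algebraMap A B) ≤ P.comap (algebraMap A B) := Ideal.comap_mono hQP
      _ = p := hPp.over.symm
  have h2 : J ≤ Q.comap (algebraMap A B) := Ideal.map_le_iff_le_comap.mp hQ.1.2
  exact le_antisymm h1 (hp.2 ⟨Ideal.comap_isPrime _ _, h2⟩ h1)

theorem encard_minimalPrimes_le_map [Module.FaithfullyFlat A B] (J : Ideal A) :
    J.minimalPrimes.encard ≤ (J.map (algebraMap A B)).minimalPrimes.encard := by
  have hsub : J.minimalPrimes ⊆
      (Ideal.comap (algebraMap A B)) '' (J.map (algebraMap A B)).minimalPrimes := by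
    intro p hp
    obtain ⟨Q, hQ, rfl⟩ := exists_minimalPrimes_map_comap_eq (B := B) J p hp
    exact ⟨Q, hQ, rfl⟩
  exact (Set.encard_le_encard hsub).trans (Set.encard_image_le _ _)

theorem encard_minimalPrimes_map_ringEquiv {R S : Type u} [CommRing R] [CommRing S]
    (e : R ≃+* S) (φ : R →+* S) (hφ : ∀ r, φ r = e r) (J : Ideal R) :
    (J.map φ).minimalPrimes.encard = J.minimalPrimes.encard := by
  have hφe : φ = (e : R →+* S) := RingHom.ext hφ
  have h1 : J.map φ = J.comap (e.symm : S →+* R) := by
    rw [hφe]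
    exact (Ideal.comap_symm e).symm
  rw [h1, Ideal.comap_minimalPrimes_eq_of_surjective (f := (e.symm : S →+* R)) e.symm.surjective]
  exact (Ideal.comap_injective_of_surjective _ e.symm.surjective).injOn.encard_image

end minprimes

section idx

variable {R : Type u} [CommRing R] {Ω : Type u} [Field Ω] [Algebra R Ω]

/-- Finitely many minimal primes over `𝔞 H` of the colimit are separated at a finite stage. -/
theorem exists_idx_natCast_le_encard_map (𝔞 : Ideal R) (n : ℕ)
    (hn : (n : ℕ∞) ≤ (𝔞.map (algebraMap R (Hz R Ω))).minimalPrimes.encard) :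
    ∃ k : Idx R Ω, (n : ℕ∞) ≤ (𝔞.map (algebraMap R k.B)).minimalPrimes.encard := by
  classical
  obtain ⟨t, ht, htn⟩ := Set.exists_subset_encard_eq hn
  have htfin : t.Finite := Set.finite_of_encard_eq_coe htn
  have hsep : ∀ Q Q' : Ideal (Hz R Ω), ∃ x : Hz R Ω,
      Q ∈ t → Q' ∈ t → Q ≠ Q' → x ∈ Q ∧ x ∉ Q' := by
    intro Q Q'
    by_cases h : Q ∈ t ∧ Q' ∈ t ∧ Q ≠ Q'
    · obtain ⟨hQ, hQ', hne⟩ := h
      have hnle : ¬ Q ≤ Q' := by
        intro hle
        have hQm := ht hQ
        have hQ'm := ht hQ'
        exact hne (le_antisymm hle (hQ'm.2 ⟨hQm.1.1, hQm.1.2⟩ hle))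
      obtain ⟨x, hx, hx'⟩ := SetLike.not_le_iff_exists.mp hnle
      exact ⟨x, fun _ _ _ => ⟨hx, hx'⟩⟩
    · exact ⟨0, fun h1 h2 h3 => (h ⟨h1, h2, h3⟩).elim⟩
  choose f hf using hsep
  obtain ⟨k, hk⟩ := exists_ofAlg_finset
    ((htfin.toFinset ×ˢ htfin.toFinset).image (fun pr => f pr.1 pr.2))
  refine ⟨k, ?_⟩
  letI algB : Algebra k.B (Hz R Ω) := (ofAlg k).toRingHom.toAlgebra
  haveI : IsScalarTower R k.B (Hz R Ω) :=
    IsScalarTower.of_algebraMap_eq (fun r => algebraMap_eq k r)
  haveI : Module.Flat k.B (Hz R Ω) := RingHom.flat_algebraMap_iff.mp (flat_ofAlg k)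
  have hmapmap : (𝔞.map (algebraMap R k.B)).map (algebraMap k.B (Hz R Ω)) =
      𝔞.map (algebraMap R (Hz R Ω)) := by
    rw [Ideal.map_map, ← IsScalarTower.algebraMap_eq]
  have hmaps : ∀ Q ∈ t, Q.comap (algebraMap k.B (Hz R Ω)) ∈
      (𝔞.map (algebraMap R k.B)).minimalPrimes := fun Q hQ =>
    comap_mem_minimalPrimes_map (𝔞.map (algebraMap R k.B)) (by rw [hmapmap]; exact ht hQ)
  have hinj : Set.InjOn (Ideal.comap (algebraMap k.B (Hz R Ω))) t := by
    intro Q hQ Q' hQ' heq
    by_contra hne
    obtain ⟨hx, hx'⟩ := hf Q Q' hQ hQ' hne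
    obtain ⟨b, hb⟩ := hk (f Q Q') (Finset.mem_image.mpr ⟨(Q, Q'),
      Finset.mem_product.mpr ⟨htfin.mem_toFinset.mpr hQ, htfin.mem_toFinset.mpr hQ'⟩, rfl⟩)
    have h1 : b ∈ Q.comap (algebraMap k.B (Hz R Ω)) := by
      rw [Ideal.mem_comap]
      change ofAlg k b ∈ Q
      rw [hb]
      exact hx
    have heq' : Ideal.comap (algebraMap k.B (Hz R Ω)) Q =
        Ideal.comap (algebraMap k.B (Hz R Ω)) Q' := heq
    rw [heq', Ideal.mem_comap] at h1
    apply hx'
    rw [← hb]
    exact h1
  calc (n : ℕ∞) = t.encard := htn.symm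
    _ = ((Ideal.comap (algebraMap k.B (Hz R Ω))) '' t).encard := hinj.encard_image.symm
    _ ≤ (𝔞.map (algebraMap R k.B)).minimalPrimes.encard := Set.encard_le_encard (by
        rintro _ ⟨Q, hQ, rfl⟩
        exact hmaps Q hQ)

end idx

section transport

variable {R R' S : Type u} [CommRing R] [IsLocalRing R] [CommRing R'] [IsLocalRing R']
  [CommRing S] [IsLocalRing S] [Algebra R' S] [IsLocalHom (algebraMap R' S)]

theorem isLocalHom_ringEquiv (e : R ≃+* R') : IsLocalHom (e : R →+* R') := ⟨fun a ha => by
  have h := ha.map (e.symm : R' →+* R)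
  simpa using h⟩

theorem isStrictHenselization_of_ringEquiv [hS : Hensel.IsStrictHenselization R' S]
    (e : R ≃+* R') [Algebra R S] [IsLocalHom (algebraMap R S)]
    (halg : algebraMap R S = (algebraMap R' S).comp (e : R →+* R')) :
    Hensel.IsStrictHenselization R S := by
  haveI : IsLocalHom (e : R →+* R') := isLocalHom_ringEquiv e
  haveI : IsLocalHom (e.symm : R' →+* R) := isLocalHom_ringEquiv e.symm
  have hsc := hS.isSepClosure
  have hal : ∀ a : R', algebraMap R S (e.symm a) = algebraMap R' S a := fun a => by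
    rw [halg]; simp
  refine ⟨hS.henselian, ?_, ?_⟩
  · haveI := hsc.sep_closed
    haveI := hsc.separable
    refine ⟨inferInstance, ⟨fun y => ?_⟩⟩
    have hm : (minpoly (ResidueField R') y).Separable :=
      Algebra.IsSeparable.isSeparable (ResidueField R') y
    let ψ : ResidueField R' →+* ResidueField R := ResidueField.map (e.symm : R' →+* R)
    have hcomm : (algebraMap (ResidueField R) (ResidueField S)).comp ψ =
        algebraMap (ResidueField R') (ResidueField S) := by
      apply Ideal.Quotient.ringHom_ext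
      ext a
      change residue S (algebraMap R S (e.symm a)) = residue S (algebraMap R' S a)
      rw [hal]
    have hroot : Polynomial.aeval y ((minpoly (ResidueField R') y).map ψ) = 0 := by
      rw [Polynomial.aeval_def, Polynomial.eval₂_map, hcomm, ← Polynomial.aeval_def,
        minpoly.aeval]
    exact (hm.map (f := ψ)).of_dvd (minpoly.dvd _ _ hroot)
  · intro T _ _ f _ τ hτ
    haveI hf' : IsLocalHom (f.comp (e.symm : R' →+* R)) := RingHom.isLocalHom_comp _ _
    have hτ' : τ.comp (ResidueField.map (algebraMap R' S)) =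
        ResidueField.map (f.comp (e.symm : R' →+* R)) := by
      apply Ideal.Quotient.ringHom_ext
      ext a
      have h1 := DFunLike.congr_fun hτ (residue R (e.symm a))
      change τ (residue S (algebraMap R' S a)) = residue T (f (e.symm a))
      rw [← hal]
      exact h1
    obtain ⟨g, ⟨hg1, hg2⟩, hu⟩ := hS.universal T (f.comp (e.symm : R' →+* R)) τ hτ'
    refine ⟨g, ⟨?_, hg2⟩, fun g' hg' => hu g' ⟨?_, hg'.2⟩⟩
    · change g.comp (algebraMap R S) = f
      ext a
      have h1 := DFunLike.congr_fun hg1 (e a)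
      simpa [halg] using h1
    · have h3 : g'.comp (algebraMap R S) = f := hg'.1
      change g'.comp (algebraMap R' S) = f.comp (e.symm : R' →+* R)
      ext a
      have h1 := DFunLike.congr_fun h3 (e.symm a)
      simpa [halg] using h1

theorem isHenselization_of_ringEquiv [hS : Hensel.IsHenselization R' S]
    (e : R ≃+* R') [Algebra R S] [IsLocalHom (algebraMap R S)]
    (halg : algebraMap R S = (algebraMap R' S).comp (e : R →+* R')) :
    Hensel.IsHenselization R S := by
  haveI : IsLocalHom (e : R →+* R') := isLocalHom_ringEquiv e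
  haveI : IsLocalHom (e.symm : R' →+* R) := isLocalHom_ringEquiv e.symm
  refine ⟨hS.henselian, ?_⟩
  intro T _ _ f hf
  haveI : IsLocalHom f := hf
  have hf' : IsLocalHom (f.comp (e.symm : R' →+* R)) := RingHom.isLocalHom_comp _ _
  obtain ⟨g, hg1, hu⟩ := hS.universal T (f.comp (e.symm : R' →+* R)) hf'
  refine ⟨g, ?_, fun g' hg' => hu g' ?_⟩
  · change g.comp (algebraMap R S) = f
    ext a
    have h1 := DFunLike.congr_fun hg1 (e a)
    simpa [halg] using h1
  · have h3 : g'.comp (algebraMap R S) = f := hg'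
    change g'.comp (algebraMap R' S) = f.comp (e.symm : R' →+* R)
    ext a
    have h1 := DFunLike.congr_fun h3 (e.symm a)
    simpa [halg] using h1

end transport

section invariance

theorem numGeomBranches_eq_of_ringEquiv
    (hbr : ∀ (R S : Type u) [CommRing R] [IsLocalRing R] [CommRing S] [IsLocalRing S]
      [Algebra R S] [IsLocalHom (algebraMap R S)] [Hensel.IsStrictHenselization R S],
      ENat.card (minimalPrimes S) = Brnch.numGeomBranches R)
    {R R' : Type u} [CommRing R] [IsLocalRing R] [CommRing R'] [IsLocalRing R'] (e : R ≃+* R') :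
    Brnch.numGeomBranches R = Brnch.numGeomBranches R' := by
  haveI := isStrictHenselization R'
  haveI : IsLocalHom (e : R →+* R') := isLocalHom_ringEquiv e
  letI : Algebra R (SHens R') := ((algebraMap R' (SHens R')).comp (e : R →+* R')).toAlgebra
  haveI : IsLocalHom (algebraMap R (SHens R')) :=
    (RingHom.isLocalHom_comp _ _ : IsLocalHom ((algebraMap R' (SHens R')).comp (e : R →+* R')))
  haveI := isStrictHenselization_of_ringEquiv (S := SHens R') e rfl
  rw [← hbr R (SHens R'), ← hbr R' (SHens R')]

theorem numBranches_eq_of_ringEquiv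
    (hbr : ∀ (R S : Type u) [CommRing R] [IsLocalRing R] [CommRing S] [IsLocalRing S]
      [Algebra R S] [IsLocalHom (algebraMap R S)] [Hensel.IsHenselization R S],
      ENat.card (minimalPrimes S) = Brnch.numBranches R)
    {R R' : Type u} [CommRing R] [IsLocalRing R] [CommRing R'] [IsLocalRing R'] (e : R ≃+* R') :
    Brnch.numBranches R = Brnch.numBranches R' := by
  haveI := isHenselization R'
  haveI : IsLocalHom (e : R →+* R') := isLocalHom_ringEquiv e
  letI : Algebra R (Hens R') := ((algebraMap R' (Hens R')).comp (e : R →+* R')).toAlgebra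
  haveI : IsLocalHom (algebraMap R (Hens R')) :=
    (RingHom.isLocalHom_comp _ _ : IsLocalHom ((algebraMap R' (Hens R')).comp (e : R →+* R')))
  haveI := isHenselization_of_ringEquiv (S := Hens R') e rfl
  rw [← hbr R (Hens R'), ← hbr R' (Hens R')]

end invariance

section quot

variable (A S : Type u) [CommRing A] [IsLocalRing A] [CommRing S] [IsLocalRing S] [Algebra A S]
  [IsLocalHom (algebraMap A S)] (p : Ideal A)

local notation "φS" => Ideal.Quotient.mk (Ideal.map (algebraMap A S) p)

theorem isHenselization_quotient [IsLocalRing (A ⧸ p)] [IsLocalRing (S ⧸ p.map (algebraMap A S))]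
    [IsLocalHom (algebraMap (A ⧸ p) (S ⧸ p.map (algebraMap A S)))]
    [hS : Hensel.IsHenselization A S] :
    Hensel.IsHenselization (A ⧸ p) (S ⧸ p.map (algebraMap A S)) := by
  haveI hmA : IsLocalHom (Ideal.Quotient.mk p) :=
    BranchSumGeom.isLocalHom_mk p (BranchSumGeom.ne_top_of_isLocalRing_quotient p)
  haveI : HenselianLocalRing S := hS.henselian
  haveI : Algebra.IsIntegral S (S ⧸ p.map (algebraMap A S)) :=
    Algebra.isIntegral_of_surjective Ideal.Quotient.mk_surjective
  refine ⟨henselianLocalRing_of_isIntegral S _, ?_⟩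
  intro T _ _ f hf
  haveI : IsLocalHom f := hf
  have hf₀ : IsLocalHom (f.comp (Ideal.Quotient.mk p)) := RingHom.isLocalHom_comp _ _
  obtain ⟨g₀, hg1, hgu⟩ := hS.universal T (f.comp (Ideal.Quotient.mk p)) hf₀
  have hker : ∀ s ∈ p.map (algebraMap A S), g₀ s = 0 := by
    intro s hs
    have h2 : p.map (algebraMap A S) ≤ RingHom.ker g₀ := by
      rw [Ideal.map_le_iff_le_comap]
      intro a ha
      rw [Ideal.mem_comap, RingHom.mem_ker]
      have h3 : g₀ (algebraMap A S a) = f (Ideal.Quotient.mk p a) := DFunLike.congr_fun hg1 a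
      rw [h3, Ideal.Quotient.eq_zero_iff_mem.mpr ha, map_zero]
    exact h2 hs
  let g : S ⧸ p.map (algebraMap A S) →+* T := Ideal.Quotient.lift _ g₀ hker
  refine ⟨g, ?_, ?_⟩
  · apply Ideal.Quotient.ringHom_ext
    ext a
    exact DFunLike.congr_fun hg1 a
  · intro g' hg'1
    have h5 : (g'.comp φS).comp (algebraMap A S) = f.comp (Ideal.Quotient.mk p) := by
      ext a
      exact DFunLike.congr_fun hg'1 (Ideal.Quotient.mk p a)
    have h4 : g'.comp φS = g₀ := hgu _ h5
    apply Ideal.Quotient.ringHom_ext
    rw [h4]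
    ext s
    rfl

theorem numGeomBranches_quotient_eq
    (hbr : ∀ (R S : Type u) [CommRing R] [IsLocalRing R] [CommRing S] [IsLocalRing S]
      [Algebra R S] [IsLocalHom (algebraMap R S)] [Hensel.IsStrictHenselization R S],
      ENat.card (minimalPrimes S) = Brnch.numGeomBranches R)
    [Hensel.IsStrictHenselization A S] (hp : p ≠ ⊤) [IsLocalRing (A ⧸ p)] :
    Brnch.numGeomBranches (A ⧸ p) = (p.map (algebraMap A S)).minimalPrimes.encard := by
  haveI : Nontrivial (S ⧸ p.map (algebraMap A S)) :=
    Ideal.Quotient.nontrivial_iff.mpr (BranchSumGeom.map_ne_top A S p hp)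
  haveI := BranchSumGeom.isLocalHom_quotientMap A S p
  haveI := BranchSumGeom.isStrictHenselization_quotient A S p
  rw [← hbr (A ⧸ p) (S ⧸ p.map (algebraMap A S))]
  exact BranchSum.encard_minimalPrimes_quotient _

theorem numBranches_quotient_eq
    (hbr : ∀ (R S : Type u) [CommRing R] [IsLocalRing R] [CommRing S] [IsLocalRing S]
      [Algebra R S] [IsLocalHom (algebraMap R S)] [Hensel.IsHenselization R S],
      ENat.card (minimalPrimes S) = Brnch.numBranches R)
    [Hensel.IsHenselization A S] (hp : p ≠ ⊤) [IsLocalRing (A ⧸ p)] :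
    Brnch.numBranches (A ⧸ p) = (p.map (algebraMap A S)).minimalPrimes.encard := by
  haveI : Nontrivial (S ⧸ p.map (algebraMap A S)) :=
    Ideal.Quotient.nontrivial_iff.mpr (BranchSumGeom.map_ne_top A S p hp)
  haveI := BranchSumGeom.isLocalHom_quotientMap A S p
  haveI := isHenselization_quotient A S p
  rw [← hbr (A ⧸ p) (S ⧸ p.map (algebraMap A S))]
  exact BranchSum.encard_minimalPrimes_quotient _

end quot

section etale

/-- Variant of `BranchNbhd.exists_flat_localHom_of_etale` recording compatibility with `A`. -/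
theorem exists_flat_localHom_of_etale'
    {A₀ C₀ : Type u} [CommRing A₀] [CommRing C₀] [Algebra A₀ C₀] [Algebra.Etale A₀ C₀]
    (p : Ideal A₀) [p.IsPrime] (q : Ideal C₀) [q.IsPrime]
    (A : Type u) [CommRing A] [IsLocalRing A] [Algebra A₀ A] [IsLocalization.AtPrime A p]
    (B : Type u) [CommRing B] [IsLocalRing B] [Algebra C₀ B] [IsLocalization.AtPrime B q]
    [Algebra A₀ B] [IsScalarTower A₀ C₀ B] [Algebra A B] [IsScalarTower A₀ A B]
    [IsLocalHom (algebraMap A B)]
    (S : Type u) [CommRing S] [HenselianLocalRing S] [Algebra A S] [Module.Flat A S]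
    (σ : ResidueField B →+* ResidueField S)
    (hσ : ∀ a : A, σ (residue B (algebraMap A B a)) = residue S (algebraMap A S a)) :
    ∃ (φ : B →+* S), IsLocalHom φ ∧ φ.Flat ∧ φ.comp (algebraMap A B) = algebraMap A S := by
  letI algA₀S : Algebra A₀ S := ((algebraMap A S).comp (algebraMap A₀ A)).toAlgebra
  haveI : IsScalarTower A₀ A S := .of_algebraMap_eq (fun _ => rfl)
  let χ : C₀ →ₐ[A₀] ResidueField S :=
    { toRingHom := σ.comp ((residue B).comp (algebraMap C₀ B))
      commutes' := fun a => by
        show σ (residue B (algebraMap C₀ B (algebraMap A₀ C₀ a))) = _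
        rw [← IsScalarTower.algebraMap_apply A₀ C₀ B, IsScalarTower.algebraMap_apply A₀ A B, hσ]
        rfl }
  have hχ : ∀ c, c ∉ q → χ c ≠ 0 := by
    intro c hc
    have hu : IsUnit (algebraMap C₀ B c) :=
      IsLocalization.map_units B (⟨c, hc⟩ : q.primeCompl)
    have h1 : residue B (algebraMap C₀ B c) ≠ 0 := (residue_ne_zero_iff_isUnit _).mpr hu
    exact (map_ne_zero_iff _ σ.injective).mpr h1
  obtain ⟨φ', hφ'⟩ := Groth.Agent.Lib.Helper5.exists_algHom_localization_of_etale q χ hχ
  let e : B ≃ₐ[C₀] Localization.AtPrime q := IsLocalization.algEquiv q.primeCompl _ _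
  let φ : B →+* S := (φ' : Localization.AtPrime q →+* S).comp (e : B →+* Localization.AtPrime q)
  have hφc : ∀ c : C₀, φ (algebraMap C₀ B c) = φ' (algebraMap C₀ (Localization.AtPrime q) c) := by
    intro c
    show φ' (e (algebraMap C₀ B c)) = _
    rw [e.commutes]
  have hres : ∀ b : B, residue S (φ b) = σ (residue B b) := by
    have : (residue S).comp φ = σ.comp (residue B) := by
      apply IsLocalization.ringHom_ext q.primeCompl (S := B)
      ext c
      show residue S (φ (algebraMap C₀ B c)) = σ (residue B (algebraMap C₀ B c))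
      rw [hφc, hφ']
      rfl
    exact fun b => congrFun (congrArg DFunLike.coe this) b
  have hloc : IsLocalHom φ := by
    constructor
    intro b hb
    have h1 : residue S (φ b) ≠ 0 := (residue_ne_zero_iff_isUnit _).mpr hb
    rw [hres] at h1
    have h2 : residue B b ≠ 0 := fun h0 => h1 (by rw [h0, map_zero])
    exact (residue_ne_zero_iff_isUnit _).mp h2
  have hcomp : φ.comp (algebraMap A B) = algebraMap A S := by
    apply IsLocalization.ringHom_ext p.primeCompl (S := A)
    ext a
    show φ (algebraMap A B (algebraMap A₀ A a)) = algebraMap A S (algebraMap A₀ A a)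
    rw [← IsScalarTower.algebraMap_apply A₀ A B, IsScalarTower.algebraMap_apply A₀ C₀ B, hφc,
      ← IsScalarTower.algebraMap_apply A₀ C₀ (Localization.AtPrime q), φ'.commutes]
    rfl
  refine ⟨φ, hloc, ?_, hcomp⟩
  haveI : Module.Flat A₀ A := IsLocalization.flat A p.primeCompl
  haveI : Module.Flat A₀ S := Module.Flat.trans A₀ A S
  letI algC₀S : Algebra C₀ S := (φ.comp (algebraMap C₀ B)).toAlgebra
  haveI : IsScalarTower A₀ C₀ S := .of_algebraMap_eq (fun a => by
    show algebraMap A₀ S a = φ (algebraMap C₀ B (algebraMap A₀ C₀ a))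
    rw [hφc, ← IsScalarTower.algebraMap_apply A₀ C₀ (Localization.AtPrime q), φ'.commutes])
  have h1 : Module.Flat C₀ S := EtaleToFlat.flat_of_etale_of_flat A₀ C₀ S
  letI algBS : Algebra B S := φ.toAlgebra
  haveI : IsScalarTower C₀ B S := .of_algebraMap_eq (fun c => rfl)
  have h2 : Module.Flat B S := (Module.flat_iff_of_isLocalization B q.primeCompl S).mpr h1
  exact RingHom.flat_algebraMap_iff.mpr h2

/-- Minimal primes over an extended ideal: local ring of an étale algebra versus the (strict)
henselization of the base. -/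
theorem encard_map_le_of_etale
    {A₀ C₀ : Type u} [CommRing A₀] [CommRing C₀] [Algebra A₀ C₀] [Algebra.Etale A₀ C₀]
    (p : Ideal A₀) [p.IsPrime] (q : Ideal C₀) [q.IsPrime]
    (A : Type u) [CommRing A] [IsLocalRing A] [Algebra A₀ A] [IsLocalization.AtPrime A p]
    (B : Type u) [CommRing B] [IsLocalRing B] [Algebra C₀ B] [IsLocalization.AtPrime B q]
    [Algebra A₀ B] [IsScalarTower A₀ C₀ B] [Algebra A B] [IsScalarTower A₀ A B]
    [IsLocalHom (algebraMap A B)] (I : Ideal A) :
    (I.map (algebraMap A B)).minimalPrimes.encard ≤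
        (I.map (algebraMap A (SHens A))).minimalPrimes.encard ∧
    (Function.Bijective (algebraMap (ResidueField A) (ResidueField B)) →
      (I.map (algebraMap A B)).minimalPrimes.encard ≤
        (I.map (algebraMap A (Hens A))).minimalPrimes.encard) := by
  constructor
  · haveI := isStrictHenselization A
    obtain ⟨φ, hφ, hcomp, hB⟩ :=
      EtaleUnibranch.exists_isStrictHenselization_of_etale p q A B (SHens A)
    letI algB : Algebra B (SHens A) := φ.toAlgebra
    haveI : IsLocalHom (algebraMap B (SHens A)) := hφ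
    haveI : Hensel.IsStrictHenselization B (SHens A) := hB
    haveI := strictHenselization_faithfullyFlat B (SHens A)
    have h := encard_minimalPrimes_le_map (A := B) (B := SHens A) (I.map (algebraMap A B))
    rw [Ideal.map_map] at h
    have hc : (algebraMap B (SHens A)).comp (algebraMap A B) = algebraMap A (SHens A) := hcomp
    rwa [hc] at h
  · intro hres
    haveI := isHenselization A
    haveI : Module.Flat A (Hens A) := henselization_flat A (Hens A)
    let eκ : ResidueField A ≃+* ResidueField B :=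
      RingEquiv.ofBijective (algebraMap (ResidueField A) (ResidueField B)) hres
    let σ : ResidueField B →+* ResidueField (Hens A) :=
      (ResidueField.map (algebraMap A (Hens A))).comp
        (eκ.symm : ResidueField B →+* ResidueField A)
    have hσ : ∀ a : A, σ (residue B (algebraMap A B a)) =
        residue (Hens A) (algebraMap A (Hens A) a) := by
      intro a
      have h1 : residue B (algebraMap A B a) = eκ (residue A a) := rfl
      change ResidueField.map (algebraMap A (Hens A))
        (eκ.symm (residue B (algebraMap A B a))) = _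
      rw [h1, RingEquiv.symm_apply_apply, ResidueField.map_residue]
    obtain ⟨φ, hφ, hflat, hcomp⟩ := exists_flat_localHom_of_etale' p q A B (Hens A) σ hσ
    letI algBS : Algebra B (Hens A) := φ.toAlgebra
    haveI : IsLocalHom (algebraMap B (Hens A)) := hφ
    haveI : Module.Flat B (Hens A) := RingHom.flat_algebraMap_iff.mp hflat
    haveI : Module.FaithfullyFlat B (Hens A) := Module.FaithfullyFlat.of_flat_of_isLocalHom
    have h := encard_minimalPrimes_le_map (A := B) (B := Hens A) (I.map (algebraMap A B))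
    rw [Ideal.map_map] at h
    have hc : (algebraMap B (Hens A)).comp (algebraMap A B) = algebraMap A (Hens A) := hcomp
    rwa [hc] at h

end etale

end Groth.Agent.Lib.Helper8.BranchFibre
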