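import Mathlib
import Groth.Prelude.Def_Brnch
import Groth.Agent.Lib.Helper12.NormAff

/-!
# Branches of a local domain vs. primes of the normalization (ring level)

Helper library for S7657: the maximal ideals of the normalization of `A = R_p` correspond to
the primes of an integrally closed, integral, birational extension `B` of `R` lying over `p`,
compatibly with residue fields; plus `ENat.card` of a sigma type as a `tsum`.
-/

set_option autoImplicit false
universe u

namespace Groth.Agent.Lib.Helper8.NormFibre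

open Groth.Agent.Lib.Helper12.KAExt

section ENatSum

theorem enat_hasSum {ι : Type*} (f : ι → ℕ∞) : HasSum f (⨆ s : Finset ι, ∑ i ∈ s, f i) :=
  tendsto_atTop_iSup fun _ _ => Finset.sum_le_sum_of_subset

theorem enat_tsum_eq_iSup_sum {ι : Type*} (f : ι → ℕ∞) :
    ∑' i, f i = ⨆ s : Finset ι, ∑ i ∈ s, f i :=
  (enat_hasSum f).tsum_eq

theorem encard_iUnion_eq_tsum {ι α : Type*} (s : ι → Set α)
    (hs : Pairwise (Function.onFun Disjoint s)) :
    (⋃ i, s i).encard = ∑' i, (s i).encard := by
  rw [enat_tsum_eq_iSup_sum]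
  have key : ∀ F : Finset ι, (⋃ i ∈ (F : Set ι), s i).encard = ∑ i ∈ F, (s i).encard := by
    intro F
    rw [F.finite_toSet.encard_biUnion (fun a _ b _ hab => hs hab), finsum_mem_coe_finset]
  apply le_antisymm
  · rw [← ENat.forall_natCast_le_iff_le]
    intro n hn
    obtain ⟨t, ht, htn⟩ := Set.exists_subset_encard_eq hn
    have htfin : t.Finite := Set.finite_of_encard_eq_coe htn
    obtain ⟨I, hI, htI⟩ := Set.finite_subset_iUnion htfin ht
    rw [← htn]
    calc t.encard ≤ (⋃ i ∈ I, s i).encard := Set.encard_le_encard htI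
      _ = (⋃ i ∈ (hI.toFinset : Set ι), s i).encard := by rw [hI.coe_toFinset]
      _ = ∑ i ∈ hI.toFinset, (s i).encard := key _
      _ ≤ _ := le_iSup (fun F : Finset ι => ∑ i ∈ F, (s i).encard) hI.toFinset
  · apply iSup_le
    intro F
    rw [← key F]
    exact Set.encard_le_encard (Set.iUnion₂_subset fun i _ => Set.subset_iUnion s i)

theorem card_sigma_eq_tsum {ι : Type*} (β : ι → Type*) :
    ENat.card (Σ i, β i) = ∑' i, ENat.card (β i) := by
  have h1 : (Set.univ : Set (Σ i, β i)) = ⋃ i, Set.range (Sigma.mk i) := by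
    ext ⟨i, b⟩
    simp
  rw [← Set.encard_univ, h1, encard_iUnion_eq_tsum]
  · refine tsum_congr fun i => ?_
    rw [← Set.image_univ, Function.Injective.encard_image sigma_mk_injective, Set.encard_univ]
  · intro i j hij
    rw [Function.onFun, Set.disjoint_left]
    rintro _ ⟨a, rfl⟩ ⟨b, hb⟩
    exact hij (congrArg Sigma.fst hb).symm

end ENatSum

section FieldIso

/-- Two "evaluation" maps from `B` to fields with the same kernel, each generating its target
as a field of fractions, have isomorphic targets compatibly with the maps. -/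
theorem exists_ringEquiv_of_ker_eq {B E₁ E₂ : Type*} [CommRing B] [Field E₁] [Field E₂]
    (ev₁ : B →+* E₁) (ev₂ : B →+* E₂) (hker : RingHom.ker ev₁ = RingHom.ker ev₂)
    (gen₁ : ∀ z : E₁, ∃ b b' : B, ev₁ b' ≠ 0 ∧ z * ev₁ b' = ev₁ b)
    (gen₂ : ∀ z : E₂, ∃ b b' : B, ev₂ b' ≠ 0 ∧ z * ev₂ b' = ev₂ b) :
    ∃ e : E₁ ≃+* E₂, ∀ b, e (ev₁ b) = ev₂ b := by
  haveI : (RingHom.ker ev₁).IsPrime := RingHom.ker_isPrime ev₁
  let ι₁ : B ⧸ RingHom.ker ev₁ →+* E₁ := RingHom.kerLift ev₁
  have hι₁ : Function.Injective ι₁ := RingHom.kerLift_injective ev₁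
  let ι₂ : B ⧸ RingHom.ker ev₁ →+* E₂ :=
    Ideal.Quotient.lift (RingHom.ker ev₁) ev₂ (fun a ha => by
      rw [hker] at ha
      exact ha)
  have hι₂ : Function.Injective ι₂ := by
    rw [injective_iff_map_eq_zero]
    intro d hd
    obtain ⟨a, rfl⟩ := Ideal.Quotient.mk_surjective d
    rw [Ideal.Quotient.lift_mk] at hd
    rw [Ideal.Quotient.eq_zero_iff_mem, hker]
    exact hd
  letI : Algebra (B ⧸ RingHom.ker ev₁) E₁ := ι₁.toAlgebra
  haveI : FaithfulSMul (B ⧸ RingHom.ker ev₁) E₁ :=
    (faithfulSMul_iff_algebraMap_injective _ _).2 hι₁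
  haveI : IsFractionRing (B ⧸ RingHom.ker ev₁) E₁ :=
    IsFractionRing.of_field _ _ (fun z => by
      obtain ⟨b, b', hb', hz⟩ := gen₁ z
      refine ⟨Ideal.Quotient.mk _ b, Ideal.Quotient.mk _ b', ?_⟩
      show z = ev₁ b / ev₁ b'
      rw [eq_div_iff hb']
      exact hz)
  let g : E₁ →+* E₂ := IsFractionRing.lift hι₂
  have hg : ∀ b, g (ev₁ b) = ev₂ b := fun b =>
    IsFractionRing.lift_algebraMap hι₂ (Ideal.Quotient.mk _ b)
  have hsurj : Function.Surjective g := by
    intro z
    obtain ⟨b, b', hb', hz⟩ := gen₂ z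
    refine ⟨ev₁ b / ev₁ b', ?_⟩
    rw [map_div₀, hg, hg, div_eq_iff hb', hz]
  exact ⟨RingEquiv.ofBijective g ⟨g.injective, hsurj⟩, fun b => hg b⟩

end FieldIso

section Ring

variable (R B A : Type u) [CommRing R] [IsDomain R] [CommRing B] [IsDomain B] [Algebra R B]
  [CommRing A] [Algebra R A] (p : Ideal R) [p.IsPrime] [IsLocalization.AtPrime A p]

include p in
theorem isDomain_of_atPrime : IsDomain A :=
  IsLocalization.isDomain_of_le_nonZeroDivisors (M := p.primeCompl) A
    p.primeCompl_le_nonZeroDivisors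

/-- The comparison map `β : B → normRed A`. -/
theorem exists_beta (hinj : Function.Injective (algebraMap R B)) (hbir : Bir R B)
    [Algebra.IsIntegral R B] [IsIntegrallyClosed B] :
    ∃ β : B →+* CAlg2.normRed A,
      (∀ r : R, β (algebraMap R B r) =
        algebraMap (CAlg2.red A) (CAlg2.normRed A)
          (Ideal.Quotient.mk (nilradical A) (algebraMap R A r))) ∧
      Function.Injective β ∧
      (∀ z : CAlg2.normRed A, ∃ s : R, s ∉ p ∧ ∃ b : B, z * β (algebraMap R B s) = β b) := by
  haveI hdomA : IsDomain A := isDomain_of_atPrime R A p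
  have hnil : nilradical A = ⊥ := by rw [nilradical_eq_zero, Ideal.zero_eq_bot]
  haveI : (nilradical A).IsPrime := by rw [hnil]; exact Ideal.bot_prime
  haveI : IsDomain (CAlg2.red A) := Ideal.Quotient.isDomain _
  have hmkinj : Function.Injective (Ideal.Quotient.mk (nilradical A)) := by
    rw [injective_iff_map_eq_zero]
    intro a ha
    rw [Ideal.Quotient.eq_zero_iff_mem, hnil] at ha
    exact ha
  let E : A ≃ₐ[R] CAlg2.red A :=
    AlgEquiv.ofBijective (Ideal.Quotient.mkₐ R (nilradical A))
      ⟨hmkinj, Ideal.Quotient.mk_surjective⟩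
  haveI hloc : IsLocalization p.primeCompl (CAlg2.red A) :=
    IsLocalization.isLocalization_of_algEquiv p.primeCompl E
  have hψinj : Function.Injective (algebraMap R (CAlg2.red A)) :=
    IsLocalization.injective (CAlg2.red A) p.primeCompl_le_nonZeroDivisors
  let K := FractionRing (CAlg2.red A)
  haveI hfracRK : IsFractionRing R K := by
    have h := IsLocalization.localization_localization_isLocalization_of_has_all_units
      p.primeCompl (nonZeroDivisors (CAlg2.red A)) K (fun x hx => hx.mem_nonZeroDivisors)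
    have heq : (nonZeroDivisors (CAlg2.red A)).comap (algebraMap R (CAlg2.red A)) =
        nonZeroDivisors R := by
      ext x
      rw [Submonoid.mem_comap, mem_nonZeroDivisors_iff_ne_zero, mem_nonZeroDivisors_iff_ne_zero,
        Ne, map_eq_zero_iff _ hψinj]
    rw [heq] at h
    exact h
  let FB := FractionRing B
  haveI hfracRFB : IsFractionRing R FB := isFractionRing_of_bir hinj hbir FB
  let ε : FB ≃ₐ[R] K := IsLocalization.algEquiv (nonZeroDivisors R) FB K
  let β₀ : B →+* K := (ε : FB →+* K).comp (algebraMap B FB)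
  have hβ₀R : ∀ r : R, β₀ (algebraMap R B r) =
      algebraMap (CAlg2.red A) K (algebraMap R (CAlg2.red A) r) := by
    intro r
    show ε (algebraMap B FB (algebraMap R B r)) = _
    rw [← IsScalarTower.algebraMap_apply R B FB, ε.commutes,
      IsScalarTower.algebraMap_apply R (CAlg2.red A) K]
  have hint : ∀ b : B, β₀ b ∈ integralClosure (CAlg2.red A) K := by
    intro b
    exact IsIntegral.map_of_comp_eq (algebraMap R (CAlg2.red A)) β₀
      (RingHom.ext fun r => (hβ₀R r).symm) (Algebra.IsIntegral.isIntegral b)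
  let β : B →+* CAlg2.normRed A :=
    { toFun := fun b => ⟨β₀ b, hint b⟩
      map_one' := Subtype.ext (map_one β₀)
      map_mul' := fun a b => Subtype.ext (map_mul β₀ a b)
      map_zero' := Subtype.ext (map_zero β₀)
      map_add' := fun a b => Subtype.ext (map_add β₀ a b) }
  have hβval : ∀ b, ((β b : CAlg2.normRed A) : K) = β₀ b := fun _ => rfl
  refine ⟨β, ?_, ?_, ?_⟩
  · intro r
    apply Subtype.ext
    rw [hβval, hβ₀R]
    rfl
  · intro b₁ b₂ h
    have h' : β₀ b₁ = β₀ b₂ := congrArg Subtype.val h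
    have h'' : algebraMap B FB b₁ = algebraMap B FB b₂ := ε.injective h'
    exact IsFractionRing.injective B FB h''
  · intro z
    have hz : IsIntegral (CAlg2.red A) (z : K) := z.2
    obtain ⟨⟨s, hs⟩, hsz⟩ :=
      IsIntegral.exists_multiple_integral_of_isLocalization p.primeCompl (z : K) hz
    have hsz' : IsIntegral R (algebraMap R K s * (z : K)) := by
      have h0 : (⟨s, hs⟩ : p.primeCompl) • (z : K) = algebraMap R K s * (z : K) := by
        rw [Submonoid.smul_def, Algebra.smul_def]
      rwa [h0] at hsz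
    have h1 : IsIntegral R (ε.symm (algebraMap R K s * (z : K))) :=
      hsz'.map (ε.symm : K →ₐ[R] FB)
    have h2 : IsIntegral B (ε.symm (algebraMap R K s * (z : K))) := h1.tower_top
    obtain ⟨b, hb⟩ := IsIntegrallyClosed.isIntegral_iff.1 h2
    refine ⟨s, hs, b, ?_⟩
    apply Subtype.ext
    show (z : K) * β₀ (algebraMap R B s) = β₀ b
    rw [hβ₀R, ← IsScalarTower.algebraMap_apply R (CAlg2.red A) K]
    show (z : K) * algebraMap R K s = ε (algebraMap B FB b)
    rw [hb, ε.apply_symm_apply, mul_comm]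

/-- The maximal ideals of `normRed A` (`A = R_p`) correspond to the primes of `B` over `p`. -/
theorem main_ring (hinj : Function.Injective (algebraMap R B)) (hbir : Bir R B)
    [Algebra.IsIntegral R B] [IsIntegrallyClosed B] :
    ∃ (β : B →+* CAlg2.normRed A)
      (Θ : MaximalSpectrum (CAlg2.normRed A) ≃
        {P : PrimeSpectrum B // P.asIdeal.comap (algebraMap R B) = p}),
      (∀ r : R, β (algebraMap R B r) =
        algebraMap (CAlg2.red A) (CAlg2.normRed A)
          (Ideal.Quotient.mk (nilradical A) (algebraMap R A r))) ∧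
      (∀ m', (Θ m').1.asIdeal = m'.asIdeal.comap β) ∧
      (∀ (m' : MaximalSpectrum (CAlg2.normRed A)) (z : CAlg2.normRed A ⧸ m'.asIdeal),
        ∃ b b' : B, Ideal.Quotient.mk m'.asIdeal (β b') ≠ 0 ∧
          z * Ideal.Quotient.mk m'.asIdeal (β b') = Ideal.Quotient.mk m'.asIdeal (β b)) := by
  obtain ⟨β, hβ1, hβinj, hβ3⟩ := exists_beta R B A p hinj hbir
  haveI hlocal : IsLocalRing A := IsLocalization.AtPrime.isLocalRing A p
  let χ : A →+* CAlg2.normRed A :=
    (algebraMap (CAlg2.red A) (CAlg2.normRed A)).comp (Ideal.Quotient.mk (nilradical A))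
  have hβχ : ∀ r, β (algebraMap R B r) = χ (algebraMap R A r) := hβ1
  have hχint : χ.IsIntegral :=
    RingHom.IsIntegral.trans _ _ (RingHom.isIntegral_of_surjective _ Ideal.Quotient.mk_surjective)
      (algebraMap_isIntegral_iff.2 inferInstance)
  have hunit : ∀ s : R, s ∉ p → IsUnit (β (algebraMap R B s)) := by
    intro s hs
    rw [hβχ]
    exact (IsLocalization.map_units A (⟨s, hs⟩ : p.primeCompl)).map χ
  have hcomap : ∀ m' : Ideal (CAlg2.normRed A), m'.IsMaximal →
      (m'.comap β).comap (algebraMap R B) = p := by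
    intro m' hm'
    have h1 : (m'.comap χ).IsMaximal :=
      Ideal.isMaximal_comap_of_isIntegral_of_isMaximal' χ hχint m'
    have h2 : m'.comap χ = IsLocalRing.maximalIdeal A := IsLocalRing.eq_maximalIdeal h1
    have h3 : β.comp (algebraMap R B) = χ.comp (algebraMap R A) := RingHom.ext hβχ
    rw [Ideal.comap_comap, h3, ← Ideal.comap_comap, h2]
    exact IsLocalization.AtPrime.comap_maximalIdeal A p
  letI algβ : Algebra B (CAlg2.normRed A) := β.toAlgebra
  haveI hlocB : IsLocalization (Algebra.algebraMapSubmonoid B p.primeCompl)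
      (CAlg2.normRed A) := by
    refine (isLocalization_iff _ _).2 ⟨?_, ?_, ?_⟩
    · rintro ⟨_, s, hs, rfl⟩
      exact hunit s hs
    · intro z
      obtain ⟨s, hs, b, h⟩ := hβ3 z
      exact ⟨⟨b, ⟨algebraMap R B s, s, hs, rfl⟩⟩, h⟩
    · intro b₁ b₂ h
      exact ⟨1, by rw [hβinj h]⟩
  let Θf : MaximalSpectrum (CAlg2.normRed A) →
      {P : PrimeSpectrum B // P.asIdeal.comap (algebraMap R B) = p} :=
    fun m' => ⟨⟨m'.asIdeal.comap β,
      (haveI := m'.isMaximal.isPrime; Ideal.comap_isPrime β m'.asIdeal)⟩,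
      hcomap m'.asIdeal m'.isMaximal⟩
  have hle : ∀ (m₁ m₂ : MaximalSpectrum (CAlg2.normRed A)),
      m₁.asIdeal.comap β = m₂.asIdeal.comap β → m₁.asIdeal ≤ m₂.asIdeal := by
    intro m₁ m₂ h' z hz
    obtain ⟨s, hs, b, hb⟩ := hβ3 z
    have hb1 : β b ∈ m₁.asIdeal := by
      rw [← hb]
      exact m₁.asIdeal.mul_mem_right _ hz
    have hb2 : β b ∈ m₂.asIdeal := by
      have h0 : b ∈ m₁.asIdeal.comap β := hb1
      rw [h'] at h0
      exact h0
    rw [← hb] at hb2
    rcases m₂.isMaximal.isPrime.mem_or_mem hb2 with h | h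
    · exact h
    · exact absurd (m₂.asIdeal.eq_top_of_isUnit_mem h (hunit s hs)) m₂.isMaximal.ne_top
  have hΘinj : Function.Injective Θf := by
    intro m₁ m₂ h
    have h' : m₁.asIdeal.comap β = m₂.asIdeal.comap β :=
      congrArg (fun P => P.1.asIdeal) h
    exact MaximalSpectrum.ext (m₁.isMaximal.eq_of_le m₂.isMaximal.ne_top (hle m₁ m₂ h'))
  have hΘsurj : Function.Surjective Θf := by
    rintro ⟨P, hP⟩
    haveI := P.isPrime
    have hdisj : Disjoint (Algebra.algebraMapSubmonoid B p.primeCompl : Set B)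
        (P.asIdeal : Set B) := by
      rw [Set.disjoint_left]
      rintro _ ⟨s, hs, rfl⟩ hsP
      apply hs
      rw [← hP]
      exact hsP
    have hQprime : (P.asIdeal.map (algebraMap B (CAlg2.normRed A))).IsPrime :=
      IsLocalization.isPrime_of_isPrime_disjoint (Algebra.algebraMapSubmonoid B p.primeCompl) _
        P.asIdeal P.isPrime hdisj
    have hQcomap : (P.asIdeal.map (algebraMap B (CAlg2.normRed A))).comap
        (algebraMap B (CAlg2.normRed A)) = P.asIdeal :=
      IsLocalization.under_map_of_isPrime_disjoint (Algebra.algebraMapSubmonoid B p.primeCompl) _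
        P.isPrime hdisj
    obtain ⟨m, hm, hQm⟩ := Ideal.exists_le_maximal _ hQprime.ne_top
    refine ⟨⟨m, hm⟩, ?_⟩
    apply Subtype.ext
    apply PrimeSpectrum.ext
    show m.comap β = P.asIdeal
    have hle' : P.asIdeal ≤ m.comap β := by
      rw [← hQcomap]
      exact Ideal.comap_mono hQm
    have hover : (m.comap β).comap (algebraMap R B) = p := hcomap m hm
    by_contra hne
    have hlt : P.asIdeal < m.comap β := lt_of_le_of_ne hle' (Ne.symm hne)
    obtain ⟨x, hxm, hxP⟩ := SetLike.exists_of_lt hlt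
    have := Ideal.comap_lt_comap_of_integral_mem_sdiff hle' ⟨hxm, hxP⟩
      (Algebra.IsIntegral.isIntegral (R := R) x)
    rw [hP, hover] at this
    exact lt_irrefl _ this
  refine ⟨β, Equiv.ofBijective Θf ⟨hΘinj, hΘsurj⟩, hβ1, fun m' => rfl, ?_⟩
  intro m' z
  obtain ⟨w, rfl⟩ := Ideal.Quotient.mk_surjective z
  obtain ⟨s, hs, b, hb⟩ := hβ3 w
  refine ⟨b, algebraMap R B s, ?_, ?_⟩
  · rw [Ne, Ideal.Quotient.eq_zero_iff_mem]
    intro hmem
    exact m'.isMaximal.ne_top (m'.asIdeal.eq_top_of_isUnit_mem hmem (hunit s hs))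
  · rw [← map_mul, hb]

end Ring

section EmbCard

/-- If `E` is a field over the residue field of `A`, identified with `normRed A / m'`
compatibly with the maps from `A`, then the embeddings of `E` are counted by `Brnch.Emb A m'`. -/
theorem card_emb_eq_of_ringEquiv (A : Type u) [CommRing A] [IsLocalRing A]
    (m' : MaximalSpectrum (CAlg2.normRed A)) (E : Type u) [Field E]
    [Algebra (IsLocalRing.ResidueField A) E]
    (e : E ≃+* (CAlg2.normRed A ⧸ m'.asIdeal))
    (he : ∀ a : A, e (algebraMap (IsLocalRing.ResidueField A) E (IsLocalRing.residue A a)) =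
      Brnch.toResidue A m' a) :
    ENat.card (Field.Emb (IsLocalRing.ResidueField A) E) = ENat.card (Brnch.Emb A m') := by
  haveI : Algebra.IsAlgebraic (IsLocalRing.ResidueField A) E := by
    have hnil : ∀ a ∈ nilradical A, IsLocalRing.residue A a = 0 := fun a ha =>
      (IsNilpotent.map (mem_nilradical.1 ha) (IsLocalRing.residue A)).eq_zero
    let φ : CAlg2.red A →+* IsLocalRing.ResidueField A :=
      Ideal.Quotient.lift (nilradical A) (IsLocalRing.residue A) hnil
    let ψ : CAlg2.normRed A →+* E :=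
      (e.symm : _ →+* E).comp (Ideal.Quotient.mk m'.asIdeal)
    have hcomp : (algebraMap (IsLocalRing.ResidueField A) E).comp φ =
        ψ.comp (algebraMap (CAlg2.red A) (CAlg2.normRed A)) := by
      apply Ideal.Quotient.ringHom_ext
      ext a
      show algebraMap (IsLocalRing.ResidueField A) E (IsLocalRing.residue A a) =
        e.symm (Brnch.toResidue A m' a)
      rw [← he, e.symm_apply_apply]
    haveI : Algebra.IsIntegral (IsLocalRing.ResidueField A) E := ⟨fun z => by
      obtain ⟨w, hw⟩ := Ideal.Quotient.mk_surjective (e z)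
      have hz : z = ψ w := by
        show z = e.symm (Ideal.Quotient.mk _ w)
        rw [hw, e.symm_apply_apply]
      rw [hz]
      exact IsIntegral.map_of_comp_eq φ ψ hcomp (Algebra.IsIntegral.isIntegral w)⟩
    exact Algebra.IsIntegral.isAlgebraic
  refine (ENat.card_congr (Field.embEquivOfIsAlgClosed (IsLocalRing.ResidueField A) E
    (AlgebraicClosure (IsLocalRing.ResidueField A)))).trans (ENat.card_congr ?_)
  exact
    { toFun := fun σ => (⟨(σ : E →+* AlgebraicClosure (IsLocalRing.ResidueField A)).comp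
          (e.symm : _ →+* E), by
        ext a
        show σ (e.symm (Brnch.toResidue A m' a)) = Brnch.toClosure A a
        rw [← he, e.symm_apply_apply, σ.commutes]
        rfl⟩ : {σ : CAlg2.normRed A ⧸ m'.asIdeal →+*
          AlgebraicClosure (IsLocalRing.ResidueField A) //
          σ.comp (Brnch.toResidue A m') = Brnch.toClosure A})
      invFun := fun τ =>
        { toRingHom := τ.1.comp (e : E →+* _)
          commutes' := fun f => by
            obtain ⟨a, rfl⟩ := IsLocalRing.residue_surjective f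
            show τ.1 (e (algebraMap (IsLocalRing.ResidueField A) E (IsLocalRing.residue A a))) = _
            rw [he]
            exact congr($(τ.2) a) }
      left_inv := fun σ => by
        ext z
        show σ (e.symm (e z)) = σ z
        rw [e.symm_apply_apply]
      right_inv := fun τ => by
        apply Subtype.ext
        ext z
        show τ.1 (e (e.symm z)) = τ.1 z
        rw [e.apply_symm_apply] }

end EmbCard

end Groth.Agent.Lib.Helper8.NormFibre
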