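import Mathlib
import Groth.Prelude.Def_Brnch
import Groth.Prelude.Def_Hensel
import Groth.Agent.Lib.Helper8.BranchFibre

/-!
# Purely inseparable residue fields of the normalization vs. branches (for S16431)

* `injective_iff_card_eq`: a surjection of finite types is injective iff the cardinalities agree.
* `isLocalHom_hens_shens`, `isStrictHenselization_hens_shens`: a strict henselization of `A` is a
  strict henselization of a henselization of `A`.
* `exists_ringEquiv_integralClosure_normRed`: for reduced `A`, `integralClosure A (FractionRing A)`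
  is `CAlg2.normRed A`.
* `emb_core`: `Brnch.Emb A m'` is nonempty, and a subsingleton iff the residue field extension is
  purely inseparable (power form) -- adapted from helper19's S9236.
* `pinsep_iff`: the power-form condition for `integralClosure A (FractionRing A)` vs `normRed A`.
-/

set_option autoImplicit false
universe u

namespace Groth.Agent.Lib.Helper8.PInsep

open Groth.Agent.Lib.Helper8 IsLocalRing

section Count

theorem injective_iff_card_eq {α β : Type*} [Finite α] [Finite β] (f : α → β)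
    (hf : Function.Surjective f) : Function.Injective f ↔ ENat.card α = ENat.card β := by
  constructor
  · intro hinj
    exact ENat.card_congr (Equiv.ofBijective f ⟨hinj, hf⟩)
  · intro h
    rw [ENat.card_eq_coe_natCard, ENat.card_eq_coe_natCard] at h
    have h' : Nat.card α = Nat.card β := by exact_mod_cast h
    obtain ⟨e⟩ := Finite.card_eq.1 h'
    exact (Finite.injective_iff_surjective_of_equiv e).2 hf

theorem finite_of_card_eq {α β : Type*} [Finite β] (h : ENat.card α = ENat.card β) : Finite α := by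
  by_contra hinf
  haveI : Infinite α := not_finite_iff_infinite.mp hinf
  rw [ENat.card_eq_top_of_infinite, ENat.card_eq_coe_natCard] at h
  exact absurd h (by simp)

end Count

section Tower

variable (A Ah Ash : Type u) [CommRing A] [IsLocalRing A]
  [CommRing Ah] [IsLocalRing Ah] [Algebra A Ah] [IsLocalHom (algebraMap A Ah)]
  [Hensel.IsHenselization A Ah]
  [CommRing Ash] [IsLocalRing Ash] [Algebra A Ash] [IsLocalHom (algebraMap A Ash)]
  [Hensel.IsStrictHenselization A Ash] [Algebra Ah Ash] [IsScalarTower A Ah Ash]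

include A in
theorem isLocalHom_hens_shens : IsLocalHom (algebraMap Ah Ash) := by
  refine ⟨fun a ha => ?_⟩
  by_contra hnu
  have hmem : a ∈ maximalIdeal Ah := (mem_maximalIdeal a).mpr hnu
  rw [← Hzl.henselization_map_maximalIdeal A Ah] at hmem
  have h1 : algebraMap Ah Ash a ∈
      ((maximalIdeal A).map (algebraMap A Ah)).map (algebraMap Ah Ash) :=
    Ideal.mem_map_of_mem _ hmem
  rw [Ideal.map_map, ← IsScalarTower.algebraMap_eq] at h1
  have h2 : (maximalIdeal A).map (algebraMap A Ash) ≤ maximalIdeal Ash :=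
    ((IsLocalRing.local_hom_TFAE (algebraMap A Ash)).out 0 2).mp ‹IsLocalHom (algebraMap A Ash)›
  exact (mem_maximalIdeal _).mp (h2 h1) ha

include A in
theorem isStrictHenselization_hens_shens [IsLocalHom (algebraMap Ah Ash)] :
    Hensel.IsStrictHenselization Ah Ash := by
  have hS : Hensel.IsStrictHenselization A Ash := inferInstance
  have hH : Hensel.IsHenselization A Ah := inferInstance
  have htower : (ResidueField.map (algebraMap Ah Ash)).comp (ResidueField.map (algebraMap A Ah)) =
      ResidueField.map (algebraMap A Ash) := by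
    apply Ideal.Quotient.ringHom_ext
    ext a
    show ResidueField.map (algebraMap Ah Ash) (ResidueField.map (algebraMap A Ah) (residue A a)) =
      ResidueField.map (algebraMap A Ash) (residue A a)
    rw [ResidueField.map_residue, ResidueField.map_residue, ResidueField.map_residue,
      ← IsScalarTower.algebraMap_apply]
  refine ⟨hS.henselian, ?_, ?_⟩
  · haveI := hS.isSepClosure.sep_closed
    haveI := hS.isSepClosure.separable
    haveI : IsScalarTower (ResidueField A) (ResidueField Ah) (ResidueField Ash) :=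
      IsScalarTower.of_algebraMap_eq' htower.symm
    exact ⟨inferInstance, Algebra.isSeparable_tower_top_of_isSeparable (ResidueField A)
      (ResidueField Ah) (ResidueField Ash)⟩
  · intro T _ _ f hf τ hτ
    haveI hf₀ : IsLocalHom (f.comp (algebraMap A Ah)) := RingHom.isLocalHom_comp _ _
    have hτ₀ : τ.comp (ResidueField.map (algebraMap A Ash)) =
        ResidueField.map (f.comp (algebraMap A Ah)) := by
      rw [← htower, ← RingHom.comp_assoc, hτ]
      apply Ideal.Quotient.ringHom_ext
      ext a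
      rfl
    obtain ⟨g, ⟨hg1, hg2⟩, hgu⟩ := hS.universal T (f.comp (algebraMap A Ah)) τ hτ₀
    have hgf : g.comp (algebraMap Ah Ash) = f := by
      obtain ⟨g', -, hg'u⟩ := hH.universal T (f.comp (algebraMap A Ah)) hf₀
      have e1 : g.comp (algebraMap Ah Ash) = g' := hg'u _ (by
        show (g.comp (algebraMap Ah Ash)).comp (algebraMap A Ah) = f.comp (algebraMap A Ah)
        rw [RingHom.comp_assoc, ← IsScalarTower.algebraMap_eq]
        exact hg1)
      have e2 : f = g' := hg'u _ rfl
      rw [e1, e2]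
    refine ⟨g, ⟨hgf, hg2⟩, ?_⟩
    rintro g₂ ⟨h1, h2⟩
    have h3 : g₂.comp (algebraMap A Ash) = f.comp (algebraMap A Ah) := by
      rw [IsScalarTower.algebraMap_eq A Ah Ash, ← RingHom.comp_assoc, h1]
    exact hgu g₂ ⟨h3, h2⟩

end Tower

section NormRedEquiv

variable (A : Type u) [CommRing A] [IsReduced A]

theorem exists_ringEquiv_integralClosure_normRed :
    ∃ θ : integralClosure A (FractionRing A) ≃+* CAlg2.normRed A,
      ∀ a : A, θ (algebraMap A (integralClosure A (FractionRing A)) a) =
        algebraMap (CAlg2.red A) (CAlg2.normRed A) (Ideal.Quotient.mk (nilradical A) a) := by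
  have hnil : nilradical A = ⊥ := by rw [nilradical_eq_zero, Ideal.zero_eq_bot]
  have hmkinj : Function.Injective (Ideal.Quotient.mk (nilradical A)) := by
    rw [injective_iff_map_eq_zero]
    intro a ha
    rw [Ideal.Quotient.eq_zero_iff_mem, hnil] at ha
    exact ha
  let e₀ : A ≃+* CAlg2.red A :=
    RingEquiv.ofBijective (Ideal.Quotient.mk (nilradical A)) ⟨hmkinj, Ideal.Quotient.mk_surjective⟩
  let E : FractionRing A ≃+* FractionRing (CAlg2.red A) :=
    IsLocalization.ringEquivOfRingEquiv (FractionRing A) (FractionRing (CAlg2.red A)) e₀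
      (MulEquivClass.map_nonZeroDivisors e₀)
  have hE : ∀ a : A, E (algebraMap A (FractionRing A) a) =
      algebraMap (CAlg2.red A) (FractionRing (CAlg2.red A)) (e₀ a) :=
    fun a => IsLocalization.ringEquivOfRingEquiv_eq _ a
  have hE' : ∀ b : CAlg2.red A, E.symm (algebraMap (CAlg2.red A) (FractionRing (CAlg2.red A)) b) =
      algebraMap A (FractionRing A) (e₀.symm b) := by
    intro b
    rw [RingEquiv.symm_apply_eq, hE, e₀.apply_symm_apply]
  have hint : ∀ x : FractionRing A, IsIntegral A x → IsIntegral (CAlg2.red A) (E x) :=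
    fun x hx => IsIntegral.map_of_comp_eq (e₀ : A →+* CAlg2.red A)
      (E : FractionRing A →+* FractionRing (CAlg2.red A))
      (RingHom.ext fun a => (hE a).symm) hx
  have hint' : ∀ y : FractionRing (CAlg2.red A), IsIntegral (CAlg2.red A) y →
      IsIntegral A (E.symm y) :=
    fun y hy => IsIntegral.map_of_comp_eq (e₀.symm : CAlg2.red A →+* A)
      (E.symm : FractionRing (CAlg2.red A) →+* FractionRing A)
      (RingHom.ext fun b => (hE' b).symm) hy
  let θf : integralClosure A (FractionRing A) →+* CAlg2.normRed A :=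
    { toFun := fun x => ⟨E x.1, hint x.1 x.2⟩
      map_one' := Subtype.ext (map_one E)
      map_mul' := fun a b => Subtype.ext (map_mul E a.1 b.1)
      map_zero' := Subtype.ext (map_zero E)
      map_add' := fun a b => Subtype.ext (map_add E a.1 b.1) }
  have hbij : Function.Bijective θf := by
    constructor
    · intro x y h
      exact Subtype.ext (E.injective (congrArg Subtype.val h))
    · intro y
      exact ⟨⟨E.symm y.1, hint' y.1 y.2⟩, Subtype.ext (E.apply_symm_apply y.1)⟩
  refine ⟨RingEquiv.ofBijective θf hbij, fun a => ?_⟩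
  apply Subtype.ext
  exact hE a

end NormRedEquiv

section Core

theorem pow_mem_range_transfer {A R₁ R₂ : Type*} [CommRing A] [CommRing R₁] [CommRing R₂]
    (g₁ : A →+* R₁) (g₂ : A →+* R₂) (θ : R₁ ≃+* R₂) (hθ : ∀ a, θ (g₁ a) = g₂ a)
    (M₁ : Ideal R₁) [M₁.IsMaximal] (M₂ : Ideal R₂) [M₂.IsMaximal]
    (hM : ∀ x, x ∈ M₁ ↔ θ x ∈ M₂)
    (h : ∀ x : R₁ ⧸ M₁, ∃ n : ℕ,
      x ^ (ringExpChar (R₁ ⧸ M₁)) ^ n ∈ ((Ideal.Quotient.mk M₁).comp g₁).range) :
    ∀ y : R₂ ⧸ M₂, ∃ n : ℕ,
      y ^ (ringExpChar (R₂ ⧸ M₂)) ^ n ∈ ((Ideal.Quotient.mk M₂).comp g₂).range := by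
  let φ : R₁ ⧸ M₁ →+* R₂ ⧸ M₂ :=
    Ideal.Quotient.lift M₁ ((Ideal.Quotient.mk M₂).comp (θ : R₁ →+* R₂)) (fun x hx => by
      show Ideal.Quotient.mk M₂ (θ x) = 0
      exact Ideal.Quotient.eq_zero_iff_mem.2 ((hM x).1 hx))
  have hφinj : Function.Injective φ := by
    rw [injective_iff_map_eq_zero]
    intro z hz
    obtain ⟨x, rfl⟩ := Ideal.Quotient.mk_surjective z
    have h0 : Ideal.Quotient.mk M₂ (θ x) = 0 := hz
    exact Ideal.Quotient.eq_zero_iff_mem.2 ((hM x).2 (Ideal.Quotient.eq_zero_iff_mem.1 h0))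
  haveI : ExpChar (R₂ ⧸ M₂) (ringExpChar (R₁ ⧸ M₁)) := expChar_of_injective_ringHom hφinj _
  have hq : ringExpChar (R₂ ⧸ M₂) = ringExpChar (R₁ ⧸ M₁) := ringExpChar.eq _ _
  intro y
  obtain ⟨y₀, rfl⟩ := Ideal.Quotient.mk_surjective y
  obtain ⟨n, hn⟩ := h (Ideal.Quotient.mk M₁ (θ.symm y₀))
  obtain ⟨a, ha⟩ := RingHom.mem_range.1 hn
  refine ⟨n, RingHom.mem_range.2 ⟨a, ?_⟩⟩
  rw [hq]
  have h1 := congrArg φ ha
  rw [map_pow] at h1
  have h2 : φ (Ideal.Quotient.mk M₁ (θ.symm y₀)) = Ideal.Quotient.mk M₂ y₀ := by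
    show Ideal.Quotient.mk M₂ (θ (θ.symm y₀)) = _
    rw [θ.apply_symm_apply]
  have h3 : φ (((Ideal.Quotient.mk M₁).comp g₁) a) = ((Ideal.Quotient.mk M₂).comp g₂) a := by
    show Ideal.Quotient.mk M₂ (θ (g₁ a)) = Ideal.Quotient.mk M₂ (g₂ a)
    rw [hθ]
  rw [h2, h3] at h1
  exact h1

variable (A : Type u) [CommRing A] [IsLocalRing A]

theorem emb_core (m' : MaximalSpectrum (CAlg2.normRed A)) (q : ℕ)
    (hq0 : ringExpChar (CAlg2.normRed A ⧸ m'.asIdeal) = q) :
    Nonempty (Brnch.Emb A m') ∧
    (Subsingleton (Brnch.Emb A m') ↔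
      ∀ x : CAlg2.normRed A ⧸ m'.asIdeal, ∃ n : ℕ,
        x ^ q ^ n ∈ (Brnch.toResidue A m').range) := by
  classical
  haveI := m'.isMaximal
  letI : Field (CAlg2.normRed A ⧸ m'.asIdeal) := Ideal.Quotient.field m'.asIdeal
  have hmax : ((m'.asIdeal.comap (algebraMap (CAlg2.red A) (CAlg2.normRed A))).comap
      (Ideal.Quotient.mk (nilradical A))) = IsLocalRing.maximalIdeal A := by
    haveI : (m'.asIdeal.comap (algebraMap (CAlg2.red A) (CAlg2.normRed A))).IsMaximal :=
      Ideal.isMaximal_comap_of_isIntegral_of_isMaximal m'.asIdeal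
    exact IsLocalRing.eq_maximalIdeal
      (Ideal.comap_isMaximal_of_surjective _ Ideal.Quotient.mk_surjective)
  have hker : ∀ a ∈ IsLocalRing.maximalIdeal A, Brnch.toResidue A m' a = 0 := by
    intro a ha
    rw [← hmax] at ha
    show Ideal.Quotient.mk m'.asIdeal (algebraMap (CAlg2.red A) (CAlg2.normRed A)
      (Ideal.Quotient.mk (nilradical A) a)) = 0
    exact Ideal.Quotient.eq_zero_iff_mem.mpr ha
  let g : IsLocalRing.ResidueField A →+* (CAlg2.normRed A ⧸ m'.asIdeal) :=
    Ideal.Quotient.lift (IsLocalRing.maximalIdeal A) (Brnch.toResidue A m') hker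
  have hgf : g.comp (IsLocalRing.residue A) = Brnch.toResidue A m' :=
    RingHom.ext fun a => rfl
  have hres_int : (Brnch.toResidue A m').IsIntegral := by
    unfold Brnch.toResidue
    exact RingHom.IsIntegral.trans _ _
      (RingHom.IsIntegral.trans _ _
        (RingHom.isIntegral_of_surjective _ Ideal.Quotient.mk_surjective)
        (algebraMap_isIntegral_iff.mpr inferInstance))
      (RingHom.isIntegral_of_surjective _ Ideal.Quotient.mk_surjective)
  have hgint : g.IsIntegral :=
    RingHom.IsIntegral.tower_top (IsLocalRing.residue A) g (by rw [hgf]; exact hres_int)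
  letI : Algebra (IsLocalRing.ResidueField A) (CAlg2.normRed A ⧸ m'.asIdeal) := g.toAlgebra
  haveI : Algebra.IsIntegral (IsLocalRing.ResidueField A) (CAlg2.normRed A ⧸ m'.asIdeal) :=
    algebraMap_isIntegral_iff.mp hgint
  haveI : Algebra.IsAlgebraic (IsLocalRing.ResidueField A) (CAlg2.normRed A ⧸ m'.asIdeal) :=
    inferInstance
  have hφ : ∀ φ : (CAlg2.normRed A ⧸ m'.asIdeal) →ₐ[IsLocalRing.ResidueField A]
      AlgebraicClosure (IsLocalRing.ResidueField A),
      φ.toRingHom.comp (Brnch.toResidue A m') = Brnch.toClosure A := by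
    intro φ
    ext a
    have h1 : Brnch.toResidue A m' a = algebraMap (IsLocalRing.ResidueField A)
        (CAlg2.normRed A ⧸ m'.asIdeal) (IsLocalRing.residue A a) :=
      (RingHom.congr_fun hgf a).symm
    show φ (Brnch.toResidue A m' a) = _
    rw [h1, φ.commutes]
    rfl
  let mkEmb : ∀ σ : (CAlg2.normRed A ⧸ m'.asIdeal) →+*
      AlgebraicClosure (IsLocalRing.ResidueField A),
      σ.comp (Brnch.toResidue A m') = Brnch.toClosure A → Brnch.Emb A m' :=
    fun σ h => Subtype.mk σ h
  have hmkEmb : ∀ σ h, Subtype.val (mkEmb σ h) = σ := fun σ h => rfl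
  have hexp : ExpChar (CAlg2.normRed A ⧸ m'.asIdeal) (ringExpChar (IsLocalRing.ResidueField A)) :=
    expChar_of_injective_algebraMap
      (algebraMap (IsLocalRing.ResidueField A) (CAlg2.normRed A ⧸ m'.asIdeal)).injective
      (ringExpChar (IsLocalRing.ResidueField A))
  have hq : q = ringExpChar (IsLocalRing.ResidueField A) :=
    hq0.symm.trans (ringExpChar.eq _ _)
  subst hq
  refine ⟨⟨mkEmb (IsAlgClosed.lift : (CAlg2.normRed A ⧸ m'.asIdeal)
    →ₐ[IsLocalRing.ResidueField A] AlgebraicClosure (IsLocalRing.ResidueField A)).toRingHom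
    (hφ _)⟩, ?_, ?_⟩
  · intro hsub
    haveI : Subsingleton ((CAlg2.normRed A ⧸ m'.asIdeal) →ₐ[IsLocalRing.ResidueField A]
        AlgebraicClosure (IsLocalRing.ResidueField A)) := ⟨fun φ₁ φ₂ => by
      have h := Subsingleton.elim (mkEmb φ₁.toRingHom (hφ φ₁)) (mkEmb φ₂.toRingHom (hφ φ₂))
      have h' : φ₁.toRingHom = φ₂.toRingHom := by
        have := congrArg Subtype.val h
        rwa [hmkEmb, hmkEmb] at this
      exact AlgHom.ext fun x => RingHom.congr_fun h' x⟩
    haveI : Nonempty ((CAlg2.normRed A ⧸ m'.asIdeal) →ₐ[IsLocalRing.ResidueField A]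
        AlgebraicClosure (IsLocalRing.ResidueField A)) := ⟨IsAlgClosed.lift⟩
    have hcard : Nat.card ((CAlg2.normRed A ⧸ m'.asIdeal) →ₐ[IsLocalRing.ResidueField A]
        AlgebraicClosure (IsLocalRing.ResidueField A)) = 1 := Nat.card_unique
    have hsep : Field.finSepDegree (IsLocalRing.ResidueField A)
        (CAlg2.normRed A ⧸ m'.asIdeal) = 1 :=
      (Field.finSepDegree_eq_of_isAlgClosed (IsLocalRing.ResidueField A) _
        (AlgebraicClosure (IsLocalRing.ResidueField A))).trans hcard
    have hpi : IsPurelyInseparable (IsLocalRing.ResidueField A)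
        (CAlg2.normRed A ⧸ m'.asIdeal) :=
      (isPurelyInseparable_iff_finSepDegree_eq_one (IsLocalRing.ResidueField A) _).mpr hsep
    intro x
    obtain ⟨n, hn⟩ := (isPurelyInseparable_iff_pow_mem (IsLocalRing.ResidueField A)
      (ringExpChar (IsLocalRing.ResidueField A))).mp hpi x
    obtain ⟨k, hk⟩ := RingHom.mem_range.mp hn
    obtain ⟨a, rfl⟩ := (Ideal.Quotient.mk_surjective :
      Function.Surjective (IsLocalRing.residue A)) k
    exact ⟨n, RingHom.mem_range.mpr ⟨a, (RingHom.congr_fun hgf a).symm.trans hk⟩⟩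
  · intro hpow
    have hpi : IsPurelyInseparable (IsLocalRing.ResidueField A)
        (CAlg2.normRed A ⧸ m'.asIdeal) :=
      (isPurelyInseparable_iff_pow_mem (IsLocalRing.ResidueField A)
        (ringExpChar (IsLocalRing.ResidueField A))).mpr (fun x => by
          obtain ⟨n, hn⟩ := hpow x
          obtain ⟨a, ha⟩ := RingHom.mem_range.mp hn
          exact ⟨n, RingHom.mem_range.mpr
            ⟨IsLocalRing.residue A a, (RingHom.congr_fun hgf a).trans ha⟩⟩)
    refine ⟨fun e₁ e₂ => ?_⟩
    obtain ⟨σ₁, h1⟩ := e₁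
    obtain ⟨σ₂, h2⟩ := e₂
    have h3 : (σ₁.comp g).comp (IsLocalRing.residue A)
        = (σ₂.comp g).comp (IsLocalRing.residue A) :=
      RingHom.ext fun a => (RingHom.congr_fun h1 a).trans (RingHom.congr_fun h2 a).symm
    have h4 : σ₁.comp g = σ₂.comp g :=
      (RingHom.cancel_right (Ideal.Quotient.mk_surjective :
        Function.Surjective (IsLocalRing.residue A))).mp h3
    have h5 : σ₁ = σ₂ := IsPurelyInseparable.injective_comp_algebraMap
      (IsLocalRing.ResidueField A) (CAlg2.normRed A ⧸ m'.asIdeal)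
      (AlgebraicClosure (IsLocalRing.ResidueField A)) h4
    exact Subtype.ext h5


theorem pinsep_iff [IsReduced A] :
    (∀ (M : Ideal (integralClosure A (FractionRing A))) [M.IsMaximal],
      ∀ x : (integralClosure A (FractionRing A)) ⧸ M, ∃ n : ℕ,
        x ^ (ringExpChar ((integralClosure A (FractionRing A)) ⧸ M)) ^ n ∈
          ((Ideal.Quotient.mk M).comp
            (algebraMap A (integralClosure A (FractionRing A)))).range) ↔
    (∀ m' : MaximalSpectrum (CAlg2.normRed A), ∀ x : CAlg2.normRed A ⧸ m'.asIdeal, ∃ n : ℕ,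
      x ^ (ringExpChar (CAlg2.normRed A ⧸ m'.asIdeal)) ^ n ∈ (Brnch.toResidue A m').range) := by
  obtain ⟨θ, hθ⟩ := exists_ringEquiv_integralClosure_normRed A
  constructor
  · intro h m'
    haveI := m'.isMaximal
    haveI hM : (m'.asIdeal.comap
        (θ : integralClosure A (FractionRing A) →+* CAlg2.normRed A)).IsMaximal :=
      Ideal.comap_isMaximal_of_surjective
        (θ : integralClosure A (FractionRing A) →+* CAlg2.normRed A) θ.surjective
    exact pow_mem_range_transfer (algebraMap A (integralClosure A (FractionRing A)))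
      ((algebraMap (CAlg2.red A) (CAlg2.normRed A)).comp (Ideal.Quotient.mk (nilradical A)))
      θ hθ (m'.asIdeal.comap (θ : integralClosure A (FractionRing A) →+* CAlg2.normRed A))
      m'.asIdeal (fun x => Iff.rfl) (h _)
  · intro h M hM
    haveI hm : (M.comap
        (θ.symm : CAlg2.normRed A →+* integralClosure A (FractionRing A))).IsMaximal :=
      Ideal.comap_isMaximal_of_surjective
        (θ.symm : CAlg2.normRed A →+* integralClosure A (FractionRing A)) θ.symm.surjective
    exact pow_mem_range_transfer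
      ((algebraMap (CAlg2.red A) (CAlg2.normRed A)).comp (Ideal.Quotient.mk (nilradical A)))
      (algebraMap A (integralClosure A (FractionRing A)))
      θ.symm (fun a => by
        show θ.symm (algebraMap (CAlg2.red A) (CAlg2.normRed A)
          (Ideal.Quotient.mk (nilradical A) a)) = _
        rw [← hθ, θ.symm_apply_apply])
      (M.comap (θ.symm : CAlg2.normRed A →+* integralClosure A (FractionRing A))) M
      (fun x => Iff.rfl) (h ⟨_, hm⟩)

end Core

end Groth.Agent.Lib.Helper8.PInsep
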