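import Mathlib
import Groth.Agent.Lib.Helper8.NormalSmooth

/-!
# Local rings of smooth algebras over normal domains are normal domains
-/

set_option autoImplicit false
universe u
open IsLocalRing

namespace Groth.Agent.Lib.Helper8.SmoothNormal

/-- Polynomial rings in finitely many variables over a normal domain are integrally closed. -/
theorem isIntegrallyClosed_mvPolynomial (R : Type u) [CommRing R] [IsDomain R]
    [IsIntegrallyClosed R] : ∀ n : ℕ, IsIntegrallyClosed (MvPolynomial (Fin n) R)
  | 0 => IsIntegrallyClosed.of_equiv (MvPolynomial.isEmptyAlgEquiv R (Fin 0)).symm.toRingEquiv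
  | n + 1 => by
    haveI := isIntegrallyClosed_mvPolynomial R n
    exact IsIntegrallyClosed.of_equiv (MvPolynomial.finSuccEquiv R n).symm.toRingEquiv

/-- A local ring of a smooth algebra over a normal domain is a normal domain. -/
theorem isDomain_isIntegrallyClosed_of_smooth (R : Type u) [CommRing R] [IsDomain R]
    [IsIntegrallyClosed R] (S : Type u) [CommRing S] [Algebra R S] [Algebra.Smooth R S]
    (Q : Ideal S) [Q.IsPrime] (T : Type u) [CommRing T] [Algebra S T] [IsLocalization.AtPrime T Q] :
    IsDomain T ∧ IsIntegrallyClosed T := by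
  obtain ⟨f, hfQ, n, alg, htower, hse⟩ :=
    Algebra.IsSmoothAt.exists_isStandardEtale_mvPolynomial (R := R) (p := Q)
  letI := alg
  haveI := htower
  haveI := hse
  haveI := isIntegrallyClosed_mvPolynomial R n
  have hdisj : Disjoint (Submonoid.powers f : Set S) (Q : Set S) :=
    (Ideal.disjoint_powers_iff_notMem_of_isPrime f).mpr hfQ
  haveI hq₁ : (Q.map (algebraMap S (Localization.Away f))).IsPrime :=
    IsLocalization.isPrime_of_isPrime_disjoint (Submonoid.powers f) _ Q ‹_› hdisj
  have hcomap : (Q.map (algebraMap S (Localization.Away f))).comap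
      (algebraMap S (Localization.Away f)) = Q :=
    IsLocalization.under_map_of_isPrime_disjoint (Submonoid.powers f) _ ‹Q.IsPrime› hdisj
  obtain ⟨hd, hic⟩ := NormalSmooth.isDomain_isIntegrallyClosed_of_etale
    (MvPolynomial (Fin n) R) (Localization.Away f) (Q.map (algebraMap S (Localization.Away f)))
  haveI h1 : IsLocalization.AtPrime
      (Localization.AtPrime (Q.map (algebraMap S (Localization.Away f))))
      ((Q.map (algebraMap S (Localization.Away f))).comap
        (algebraMap S (Localization (Submonoid.powers f)))) := inferInstance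
  have hpc : ((Q.map (algebraMap S (Localization.Away f))).comap
      (algebraMap S (Localization (Submonoid.powers f)))).primeCompl = Q.primeCompl := by
    ext x
    rw [Ideal.mem_primeCompl_iff, Ideal.mem_primeCompl_iff]
    exact not_congr (by rw [hcomap])
  haveI h2 : IsLocalization Q.primeCompl
      (Localization.AtPrime (Q.map (algebraMap S (Localization.Away f)))) := by
    rw [← hpc]
    exact h1
  let e : Localization.AtPrime (Q.map (algebraMap S (Localization.Away f))) ≃ₐ[S] T :=
    IsLocalization.algEquiv Q.primeCompl _ _
  haveI := hd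
  haveI := hic
  exact ⟨MulEquiv.isDomain _ e.symm.toRingEquiv.toMulEquiv,
    IsIntegrallyClosed.of_equiv e.toRingEquiv⟩

end Groth.Agent.Lib.Helper8.SmoothNormal
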