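import Mathlib
import Groth.Prelude
import Groth.Agent.Lib.Helper8.SmoothNormal
import Groth.Agent.Lib.Helper8.UnibranchHens
import Groth.Agent.Lib.Helper8.UnibranchMain
import Groth.Agent.Lib.Helper8.EtaleUnibranch
import Groth.Agent.Lib.Helper8.NormFibreRing
import Groth.Agent.Lib.Helper8.PInsepBranches
import Groth.Agent.Lib.Helper8.BranchFibre

/-!
# Local rings of smooth algebras over (geometrically) unibranch local domains

* `isGeomUnibranch_of_strictlyHenselian_domain`
* `isGeomUnibranch_of_ringEquiv`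
* `isGeomUnibranch_of_normalization`, `isUnibranch_of_normalization`
* `isGeomUnibranch_of_smooth`: if `A` is a geometrically unibranch local domain, `S` a smooth
  `A`-algebra and `B` the local ring of `S` at a prime with `A → B` local, then `B` is a
  geometrically unibranch domain.
* `isUnibranch_of_smooth`: the unibranch version, for purely inseparable residue extension.
-/

set_option autoImplicit false
universe u
open IsLocalRing TensorProduct
open Groth.Agent.Lib.Helper12.KAExt (Bir)

namespace Groth.Agent.Lib.Helper8.SmoothUnibranch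

open Groth.Agent.Lib.Helper8 Groth.Agent.Lib.Helper8.UnibranchHens

attribute [local instance] Algebra.TensorProduct.rightAlgebra

section Self

/-- A strictly henselian local ring is its own strict henselization. -/
theorem isStrictHenselization_self (R : Type u) [CommRing R] [HenselianLocalRing R]
    [IsSepClosed (ResidueField R)] [IsLocalHom (algebraMap R R)] :
    Hensel.IsStrictHenselization R R where
  henselian := inferInstance
  isSepClosure := by
    letI alg : Algebra (ResidueField R) (ResidueField R) := ResidueField.instAlgebra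
    show @IsSepClosure (ResidueField R) _ (ResidueField R) _ alg
    refine ⟨inferInstance, ⟨fun x => ?_⟩⟩
    obtain ⟨r, rfl⟩ := residue_surjective x
    have h : algebraMap (ResidueField R) (ResidueField R) (residue R r) = residue R r := rfl
    rw [← h]
    exact isSeparable_algebraMap _
  universal T _ _ f _ τ hτ := by
    refine ⟨f, ⟨RingHom.ext fun _ => rfl, fun x => ?_⟩, fun g hg => ?_⟩
    · exact (RingHom.congr_fun hτ (residue R x)).symm
    · exact RingHom.ext fun x => RingHom.congr_fun hg.1 x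

theorem isGeomUnibranch_of_strictlyHenselian_domain (R : Type u) [CommRing R] [IsDomain R]
    [HenselianLocalRing R] [IsSepClosed (ResidueField R)] : CAlg2.IsGeomUnibranch R := by
  haveI hloc : IsLocalHom (algebraMap R R) := ⟨fun _ h => h⟩
  haveI := isStrictHenselization_self R
  rw [EtaleUnibranch.isGeomUnibranch_iff_hasUniqueMinimalPrime (A := R) (Ash := R)]
  refine ⟨⊥, ?_, ?_⟩
  · show (⊥ : Ideal R) ∈ minimalPrimes R
    rw [IsDomain.minimalPrimes_eq_singleton_bot]
    rfl
  · intro Q hQ
    have hQ' : Q ∈ minimalPrimes R := hQ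
    rw [IsDomain.minimalPrimes_eq_singleton_bot] at hQ'
    exact hQ'

/-- Geometric unibranchness is invariant under ring isomorphisms. -/
theorem isGeomUnibranch_of_ringEquiv {R R' : Type u} [CommRing R] [IsLocalRing R] [CommRing R']
    [IsLocalRing R'] (e : R ≃+* R') (h : CAlg2.IsGeomUnibranch R') : CAlg2.IsGeomUnibranch R := by
  haveI := Hzl.isStrictHenselization R'
  haveI : IsLocalHom (e : R →+* R') := BranchFibre.isLocalHom_ringEquiv e
  letI : Algebra R (Hzl.SHens R') := ((algebraMap R' (Hzl.SHens R')).comp (e : R →+* R')).toAlgebra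
  haveI : IsLocalHom (algebraMap R (Hzl.SHens R')) :=
    (RingHom.isLocalHom_comp _ _ : IsLocalHom ((algebraMap R' (Hzl.SHens R')).comp (e : R →+* R')))
  haveI := BranchFibre.isStrictHenselization_of_ringEquiv (S := Hzl.SHens R') e rfl
  rw [EtaleUnibranch.isGeomUnibranch_iff_hasUniqueMinimalPrime (A := R) (Ash := Hzl.SHens R')]
  exact (EtaleUnibranch.isGeomUnibranch_iff_hasUniqueMinimalPrime (A := R')
    (Ash := Hzl.SHens R')).mp h

/-- A local localization is the localization at the contraction of the maximal ideal. -/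
theorem isLocalization_atPrime_comap_maximalIdeal {S' : Type u} [CommRing S'] (M : Submonoid S')
    (T : Type u) [CommRing T] [IsLocalRing T] [Algebra S' T] [IsLocalization M T] :
    IsLocalization.AtPrime T ((maximalIdeal T).comap (algebraMap S' T)) := by
  refine IsLocalization.of_le (M := M) _ ?_ ?_
  · intro m hm
    show m ∉ (maximalIdeal T).comap (algebraMap S' T)
    intro hmem
    have hu : IsUnit (algebraMap S' T m) := IsLocalization.map_units T (⟨m, hm⟩ : M)
    exact (mem_maximalIdeal _).mp hmem hu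
  · intro r hr
    by_contra hnu
    exact hr ((mem_maximalIdeal _).mpr hnu)

end Self

section Pair

variable (B B' : Type u) [CommRing B] [IsLocalRing B] [IsDomain B]
  [CommRing B'] [IsDomain B'] [Algebra B B'] [Algebra.IsIntegral B B'] [IsIntegrallyClosed B']

/-- An integral, birational, integrally closed extension of a local domain is its normalization. -/
theorem exists_equiv_normRed (hinj : Function.Injective (algebraMap B B')) (hbir : Bir B B') :
    ∃ θ : B' ≃+* CAlg2.normRed B, ∀ b : B, θ (algebraMap B B' b) =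
      algebraMap (CAlg2.red B) (CAlg2.normRed B) (Ideal.Quotient.mk (nilradical B) b) := by
  haveI : IsLocalization.AtPrime B (maximalIdeal B) :=
    IsLocalization.of_le_isUnit (fun x hx => by
      have h : x ∉ maximalIdeal B := hx
      rw [mem_maximalIdeal, mem_nonunits_iff, not_not] at h
      exact h)
  obtain ⟨β, h1, h2, h3⟩ := NormFibre.exists_beta B B' B (maximalIdeal B) hinj hbir
  have hsurj : Function.Surjective β := by
    intro z
    obtain ⟨s, hs, b, hb⟩ := h3 z
    have hu : IsUnit s := by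
      by_contra h
      exact hs ((mem_maximalIdeal s).mpr h)
    obtain ⟨u, rfl⟩ := hu
    refine ⟨b * algebraMap B B' (↑u⁻¹ : B), ?_⟩
    rw [map_mul, ← hb, mul_assoc, ← map_mul, ← map_mul, Units.mul_inv, map_one, map_one, mul_one]
  exact ⟨RingEquiv.ofBijective β ⟨h2, hsurj⟩, fun b => h1 b⟩

variable [IsLocalRing B']

theorem isUnibranch_of_normalization (hinj : Function.Injective (algebraMap B B'))
    (hbir : Bir B B') : CAlg2.IsUnibranch B := by
  obtain ⟨θ, -⟩ := exists_equiv_normRed B B' hinj hbir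
  have hnil : nilradical B = ⊥ := by rw [nilradical_eq_zero, Ideal.zero_eq_bot]
  haveI : (nilradical B).IsPrime := by rw [hnil]; exact Ideal.isPrime_bot
  exact ⟨Ideal.Quotient.isDomain _, θ.isLocalRing⟩

theorem isGeomUnibranch_of_normalization (hinj : Function.Injective (algebraMap B B'))
    (hbir : Bir B B')
    (hpi : ∀ x : B' ⧸ maximalIdeal B', ∃ n : ℕ, x ^ (ringExpChar (B' ⧸ maximalIdeal B')) ^ n ∈
      ((Ideal.Quotient.mk (maximalIdeal B')).comp (algebraMap B B')).range) :
    CAlg2.IsGeomUnibranch B := by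
  obtain ⟨θ, hθ⟩ := exists_equiv_normRed B B' hinj hbir
  have hnil : nilradical B = ⊥ := by rw [nilradical_eq_zero, Ideal.zero_eq_bot]
  haveI : (nilradical B).IsPrime := by rw [hnil]; exact Ideal.isPrime_bot
  have hdom : IsDomain (CAlg2.red B) := Ideal.Quotient.isDomain _
  have hloc : IsLocalRing (CAlg2.normRed B) := θ.isLocalRing
  refine ⟨⟨hdom, hloc⟩, ?_⟩
  intro m' hm'
  haveI := hloc
  have hm : m' = maximalIdeal (CAlg2.normRed B) := IsLocalRing.eq_maximalIdeal hm'
  subst hm
  refine PInsep.pow_mem_range_transfer (algebraMap B B')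
    ((algebraMap (CAlg2.red B) (CAlg2.normRed B)).comp (Ideal.Quotient.mk (nilradical B))) θ hθ
    (maximalIdeal B') (maximalIdeal (CAlg2.normRed B)) (fun x => ?_) hpi
  rw [mem_maximalIdeal, mem_maximalIdeal, mem_nonunits_iff, mem_nonunits_iff, not_iff_not]
  exact ⟨fun h => h.map θ, fun h => by simpa using h.map θ.symm⟩

end Pair

section FromGU

variable (A : Type u) [CommRing A] [IsLocalRing A] [IsDomain A]

theorem bir_normRed [IsDomain (CAlg2.red A)] : Bir A (CAlg2.normRed A) := by
  intro z
  obtain ⟨⟨a, b⟩, hab⟩ := IsLocalization.surj (nonZeroDivisors (CAlg2.red A))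
    (z : FractionRing (CAlg2.red A))
  obtain ⟨a₀, rfl⟩ := Ideal.Quotient.mk_surjective a
  obtain ⟨b₀, hb₀⟩ := Ideal.Quotient.mk_surjective (b : CAlg2.red A)
  refine ⟨b₀, a₀, ?_, ?_⟩
  · rintro rfl
    rw [map_zero] at hb₀
    exact nonZeroDivisors.coe_ne_zero b hb₀.symm
  · apply Subtype.ext
    show algebraMap (CAlg2.red A) (FractionRing (CAlg2.red A)) (Ideal.Quotient.mk _ b₀) *
      (z : FractionRing (CAlg2.red A)) =
      algebraMap (CAlg2.red A) (FractionRing (CAlg2.red A)) (Ideal.Quotient.mk _ a₀)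
    rw [hb₀, mul_comm]
    exact hab

end FromGU

section RightPI

variable (R R' S : Type u) [CommRing R] [IsLocalRing R]
  [CommRing R'] [IsLocalRing R'] [Algebra R R'] [Algebra.IsIntegral R R']
  [CommRing S] [IsLocalRing S] [Algebra R S] [IsLocalHom (algebraMap R S)]

/-- Variant of `isLocalRing_tensor_of_purelyInseparable` with the purely inseparable residue
extension on the side of `S`. -/
theorem isLocalRing_tensor_of_purelyInseparable_right [Nontrivial (R' ⊗[R] S)]
    (hpi : ∀ x : S ⧸ maximalIdeal S,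
      ∃ n : ℕ, x ^ (ringExpChar (S ⧸ maximalIdeal S)) ^ n ∈
        ((Ideal.Quotient.mk (maximalIdeal S)).comp (algebraMap R S)).range) :
    IsLocalRing (R' ⊗[R] S) := by
  let J : Ideal (R' ⊗[R] S) := (maximalIdeal R').map (algebraMap R' (R' ⊗[R] S)) ⊔
    (maximalIdeal S).map (algebraMap S (R' ⊗[R] S))
  have hJle : ∀ M : Ideal (R' ⊗[R] S), M.IsMaximal → J ≤ M := fun M hM =>
    sup_le (Ideal.map_le_iff_le_comap.mpr (comap_left_eq R R' S M).ge)
      (Ideal.map_le_iff_le_comap.mpr (comap_right_eq R R' S M).ge)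
  obtain ⟨M₀, hM₀⟩ := Ideal.exists_maximal (R' ⊗[R] S)
  have hJne : J ≠ ⊤ := fun h => hM₀.ne_top (top_le_iff.mp (h ▸ hJle M₀ hM₀))
  haveI : Nontrivial ((R' ⊗[R] S) ⧸ J) := Ideal.Quotient.nontrivial_iff.mpr hJne
  letI : Field (S ⧸ maximalIdeal S) := Ideal.Quotient.field _
  let φ : S ⧸ maximalIdeal S →+* (R' ⊗[R] S) ⧸ J :=
    Ideal.Quotient.lift _ ((Ideal.Quotient.mk J).comp (algebraMap S (R' ⊗[R] S)))
      (fun a ha => by
        rw [RingHom.comp_apply, Ideal.Quotient.eq_zero_iff_mem]
        exact Ideal.mem_sup_right (Ideal.mem_map_of_mem _ ha))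
  set q := ringExpChar (S ⧸ maximalIdeal S) with hq
  haveI : ExpChar (S ⧸ maximalIdeal S) q := ringExpChar.expChar _
  haveI : ExpChar ((R' ⊗[R] S) ⧸ J) q := expChar_of_injective_ringHom φ.injective q
  let mkR' : R' →+* (R' ⊗[R] S) ⧸ J := (Ideal.Quotient.mk J).comp (algebraMap R' (R' ⊗[R] S))
  have key : ∀ t : R' ⊗[R] S, ∃ (n : ℕ) (σ : R'), (Ideal.Quotient.mk J t) ^ q ^ n = mkR' σ := by
    intro t
    induction t using TensorProduct.induction_on with
    | zero => exact ⟨0, 0, by simp⟩
    | tmul a s =>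
      obtain ⟨n, r, hr⟩ := hpi (Ideal.Quotient.mk _ s)
      refine ⟨n, a ^ q ^ n * algebraMap R R' r, ?_⟩
      have e1 : a ⊗ₜ[R] s = algebraMap R' (R' ⊗[R] S) a * algebraMap S (R' ⊗[R] S) s := by
        rw [Algebra.TensorProduct.algebraMap_apply, Algebra.TensorProduct.right_algebraMap_apply]
        simp
      have e2 : (Ideal.Quotient.mk J (algebraMap S (R' ⊗[R] S) s)) ^ q ^ n =
          mkR' (algebraMap R R' r) := by
        have h := congrArg φ hr
        rw [map_pow] at h
        change φ (Ideal.Quotient.mk _ (algebraMap R S r)) = (φ (Ideal.Quotient.mk _ s)) ^ q ^ n at h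
        rw [Ideal.Quotient.lift_mk, Ideal.Quotient.lift_mk] at h
        rw [RingHom.comp_apply, RingHom.comp_apply] at h
        rw [← h]
        change _ = Ideal.Quotient.mk J (algebraMap R' (R' ⊗[R] S) (algebraMap R R' r))
        rw [← IsScalarTower.algebraMap_apply R R' (R' ⊗[R] S),
          ← IsScalarTower.algebraMap_apply R S (R' ⊗[R] S)]
      rw [e1, map_mul, mul_pow, e2, map_mul, map_pow]
      rfl
    | add x y hx hy =>
      obtain ⟨n, σ, h1⟩ := hx
      obtain ⟨m, τ, h2⟩ := hy
      refine ⟨n + m, σ ^ q ^ m + τ ^ q ^ n, ?_⟩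
      rw [map_add, add_pow_expChar_pow, pow_add, pow_mul, h1, mul_comm (q ^ n) (q ^ m), pow_mul, h2,
        map_add, map_pow, map_pow]
  have hmem : ∀ (M : Ideal (R' ⊗[R] S)) (hM : M.IsMaximal) (t : R' ⊗[R] S) (n : ℕ) (σ : R'),
      (Ideal.Quotient.mk J t) ^ q ^ n = mkR' σ → (t ∈ M ↔ σ ∈ maximalIdeal R') := by
    intro M hM t n σ h
    have h1 : t ^ q ^ n - algebraMap R' (R' ⊗[R] S) σ ∈ M := by
      apply hJle M hM
      rw [← Ideal.Quotient.eq_zero_iff_mem, map_sub, map_pow, h]
      exact sub_self _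
    have hqpos : q ^ n ≠ 0 := (pow_pos (expChar_pos (S ⧸ maximalIdeal S) q) n).ne'
    constructor
    · intro ht
      have h2 : algebraMap R' (R' ⊗[R] S) σ ∈ M := by
        have := M.sub_mem (M.pow_mem_of_mem ht _ (Nat.pos_of_ne_zero hqpos)) h1
        simpa using this
      rw [← comap_left_eq R R' S M]
      exact h2
    · intro hσ
      have h2 : algebraMap R' (R' ⊗[R] S) σ ∈ M := by
        rw [← comap_left_eq R R' S M] at hσ
        exact hσ
      have h3 : t ^ q ^ n ∈ M := by
        have := M.add_mem h1 h2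
        simpa using this
      exact hM.isPrime.mem_of_pow_mem _ h3
  refine IsLocalRing.of_unique_max_ideal ⟨M₀, hM₀, fun M hM => ?_⟩
  ext t
  obtain ⟨n, σ, h⟩ := key t
  rw [hmem M hM t n σ h, hmem M₀ hM₀ t n σ h]

end RightPI

section Core

variable (A A' : Type u) [CommRing A] [IsLocalRing A] [IsDomain A]
  [CommRing A'] [IsDomain A'] [IsLocalRing A'] [IsIntegrallyClosed A'] [Algebra A A']
  [Algebra.IsIntegral A A']
  (S : Type u) [CommRing S] [Algebra A S] [Algebra.Smooth A S] (q : Ideal S) [q.IsPrime]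
  (B : Type u) [CommRing B] [IsLocalRing B] [Algebra S B] [IsLocalization.AtPrime B q]
  [Algebra A B] [IsScalarTower A S B] [IsLocalHom (algebraMap A B)]

include S q in
theorem flat_base : Module.Flat A B := by
  haveI : Module.Flat S B := IsLocalization.flat B q.primeCompl
  exact Module.Flat.trans A S B

include q in
theorem normal_tensor [IsLocalRing (A' ⊗[A] B)] :
    IsDomain (A' ⊗[A] B) ∧ IsIntegrallyClosed (A' ⊗[A] B) := by
  letI algS'B' : Algebra (A' ⊗[A] S) (A' ⊗[A] B) :=
    (Algebra.TensorProduct.map (AlgHom.id A A') (IsScalarTower.toAlgHom A S B)).toAlgebra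
  haveI : IsScalarTower A' (A' ⊗[A] S) (A' ⊗[A] B) :=
    .of_algebraMap_eq <| by intro; simp [RingHom.algebraMap_toAlgebra]
  haveI hloc : IsLocalization
      (q.primeCompl.map (Algebra.TensorProduct.includeRight (R := A) (A := A'))) (A' ⊗[A] B) :=
    IsLocalization.tensorProduct_tensorProduct_right A A' q.primeCompl B
      (by ext; simp [RingHom.algebraMap_toAlgebra])
  haveI := isLocalization_atPrime_comap_maximalIdeal
    (q.primeCompl.map (Algebra.TensorProduct.includeRight (R := A) (A := A'))) (A' ⊗[A] B)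
  exact SmoothNormal.isDomain_isIntegrallyClosed_of_smooth A' (A' ⊗[A] S)
    ((maximalIdeal (A' ⊗[A] B)).comap (algebraMap (A' ⊗[A] S) (A' ⊗[A] B))) (A' ⊗[A] B)

include S q in
theorem tensor_facts (hinj : Function.Injective (algebraMap A A')) (hbir : Bir A A') :
    Function.Injective (algebraMap B (A' ⊗[A] B)) ∧ Bir B (A' ⊗[A] B) := by
  haveI : Module.Flat A B := flat_base A S q B
  haveI : Module.FaithfullyFlat A B := Module.FaithfullyFlat.of_flat_of_isLocalHom
  have hinjAB : Function.Injective (algebraMap A B) := FaithfulSMul.algebraMap_injective A B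
  have hinjB : Function.Injective (algebraMap B (A' ⊗[A] B)) := fun x y hxy =>
    Algebra.TensorProduct.includeRight_injective (R := A) (A := A') (B := B) hinj hxy
  refine ⟨hinjB, ?_⟩
  have key : ∀ t : A' ⊗[A] B, ∃ a : A, a ≠ 0 ∧ ∃ b' : B, a • t = (1 : A') ⊗ₜ[A] b' := by
    intro t
    induction t using TensorProduct.induction_on with
    | zero => exact ⟨1, one_ne_zero, 0, by simp⟩
    | tmul a' b =>
      obtain ⟨a, a₁, ha, h⟩ := hbir a'
      refine ⟨a, ha, a₁ • b, ?_⟩
      rw [TensorProduct.smul_tmul', Algebra.smul_def, h, Algebra.algebraMap_eq_smul_one,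
        TensorProduct.smul_tmul]
    | add x y hx hy =>
      obtain ⟨a, ha, b₁, h1⟩ := hx
      obtain ⟨c, hc, b₂, h2⟩ := hy
      refine ⟨a * c, mul_ne_zero ha hc, c • b₁ + a • b₂, ?_⟩
      rw [smul_add, mul_smul a c y, h2, mul_comm a c, mul_smul c a x, h1, TensorProduct.tmul_add,
        TensorProduct.tmul_smul, TensorProduct.tmul_smul]
  intro t
  obtain ⟨a, ha, b', h⟩ := key t
  refine ⟨algebraMap A B a, b', fun h0 => ha (hinjAB (by rw [h0, map_zero])), ?_⟩
  rw [← IsScalarTower.algebraMap_apply A B (A' ⊗[A] B), ← Algebra.smul_def, h]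
  rfl

include A in
theorem hpi_tensor [IsLocalRing (A' ⊗[A] B)]
    (hpi : ∀ x : A' ⧸ maximalIdeal A', ∃ n : ℕ, x ^ (ringExpChar (A' ⧸ maximalIdeal A')) ^ n ∈
        ((Ideal.Quotient.mk (maximalIdeal A')).comp (algebraMap A A')).range) :
    ∀ x : (A' ⊗[A] B) ⧸ maximalIdeal (A' ⊗[A] B), ∃ n : ℕ,
      x ^ (ringExpChar ((A' ⊗[A] B) ⧸ maximalIdeal (A' ⊗[A] B))) ^ n ∈
        ((Ideal.Quotient.mk (maximalIdeal (A' ⊗[A] B))).comp
          (algebraMap B (A' ⊗[A] B))).range := by
  letI : Field (A' ⧸ maximalIdeal A') := Ideal.Quotient.field _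
  have hcomap : (maximalIdeal (A' ⊗[A] B)).comap (algebraMap A' (A' ⊗[A] B)) = maximalIdeal A' :=
    comap_left_eq A A' B (maximalIdeal (A' ⊗[A] B))
  let φ : A' ⧸ maximalIdeal A' →+* (A' ⊗[A] B) ⧸ maximalIdeal (A' ⊗[A] B) :=
    Ideal.Quotient.lift _ ((Ideal.Quotient.mk (maximalIdeal (A' ⊗[A] B))).comp
      (algebraMap A' (A' ⊗[A] B)))
      (fun a ha => by
        rw [RingHom.comp_apply, Ideal.Quotient.eq_zero_iff_mem, ← Ideal.mem_comap, hcomap]
        exact ha)
  set p := ringExpChar (A' ⧸ maximalIdeal A') with hp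
  haveI : ExpChar (A' ⧸ maximalIdeal A') p := ringExpChar.expChar _
  haveI : Nontrivial ((A' ⊗[A] B) ⧸ maximalIdeal (A' ⊗[A] B)) :=
    Ideal.Quotient.nontrivial_iff.mpr (Ideal.IsPrime.ne_top inferInstance)
  haveI : ExpChar ((A' ⊗[A] B) ⧸ maximalIdeal (A' ⊗[A] B)) p :=
    expChar_of_injective_ringHom φ.injective p
  have hpq : ringExpChar ((A' ⊗[A] B) ⧸ maximalIdeal (A' ⊗[A] B)) = p := ringExpChar.eq _ p
  let mkB : B →+* (A' ⊗[A] B) ⧸ maximalIdeal (A' ⊗[A] B) :=
    (Ideal.Quotient.mk (maximalIdeal (A' ⊗[A] B))).comp (algebraMap B (A' ⊗[A] B))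
  have key : ∀ t : A' ⊗[A] B, ∃ (n : ℕ) (σ : B),
      (Ideal.Quotient.mk (maximalIdeal (A' ⊗[A] B)) t) ^ p ^ n = mkB σ := by
    intro t
    induction t using TensorProduct.induction_on with
    | zero => exact ⟨0, 0, by simp⟩
    | tmul a s =>
      obtain ⟨n, r, hr⟩ := hpi (Ideal.Quotient.mk _ a)
      refine ⟨n, algebraMap A B r * s ^ p ^ n, ?_⟩
      have e1 : a ⊗ₜ[A] s = algebraMap A' (A' ⊗[A] B) a * algebraMap B (A' ⊗[A] B) s := by
        rw [Algebra.TensorProduct.algebraMap_apply, Algebra.TensorProduct.right_algebraMap_apply]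
        simp
      have e2 : (Ideal.Quotient.mk (maximalIdeal (A' ⊗[A] B)) (algebraMap A' (A' ⊗[A] B) a)) ^ p ^ n =
          mkB (algebraMap A B r) := by
        have h := congrArg φ hr
        rw [map_pow] at h
        change φ (Ideal.Quotient.mk _ (algebraMap A A' r)) = (φ (Ideal.Quotient.mk _ a)) ^ p ^ n at h
        rw [Ideal.Quotient.lift_mk, Ideal.Quotient.lift_mk] at h
        rw [RingHom.comp_apply, RingHom.comp_apply] at h
        rw [← h]
        change _ = Ideal.Quotient.mk (maximalIdeal (A' ⊗[A] B))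
          (algebraMap B (A' ⊗[A] B) (algebraMap A B r))
        rw [← IsScalarTower.algebraMap_apply A B (A' ⊗[A] B),
          ← IsScalarTower.algebraMap_apply A A' (A' ⊗[A] B)]
      rw [e1, map_mul, mul_pow, e2, map_mul, map_pow]
      rfl
    | add x y hx hy =>
      obtain ⟨n, σ, h1⟩ := hx
      obtain ⟨m, τ, h2⟩ := hy
      refine ⟨n + m, σ ^ p ^ m + τ ^ p ^ n, ?_⟩
      rw [map_add, add_pow_expChar_pow, pow_add, pow_mul, h1, mul_comm (p ^ n) (p ^ m), pow_mul, h2,
        map_add, map_pow, map_pow]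
  intro x
  obtain ⟨t, rfl⟩ := Ideal.Quotient.mk_surjective x
  obtain ⟨n, σ, h⟩ := key t
  exact ⟨n, RingHom.mem_range.mpr ⟨σ, by rw [hpq]; exact h.symm⟩⟩

include S q in
/-- Core statement, geometric version. -/
theorem core_geom (hinj : Function.Injective (algebraMap A A')) (hbir : Bir A A')
    (hpi : ∀ x : A' ⧸ maximalIdeal A', ∃ n : ℕ, x ^ (ringExpChar (A' ⧸ maximalIdeal A')) ^ n ∈
        ((Ideal.Quotient.mk (maximalIdeal A')).comp (algebraMap A A')).range) :
    IsDomain B ∧ CAlg2.IsGeomUnibranch B := by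
  haveI : Module.Flat A B := flat_base A S q B
  have hinjB0 : Function.Injective (algebraMap B (A' ⊗[A] B)) := fun x y hxy =>
    Algebra.TensorProduct.includeRight_injective (R := A) (A := A') (B := B) hinj hxy
  haveI : Nontrivial (A' ⊗[A] B) := hinjB0.nontrivial
  haveI hloc : IsLocalRing (A' ⊗[A] B) := isLocalRing_tensor_of_purelyInseparable A A' B hpi
  obtain ⟨hdom, hic⟩ := normal_tensor A A' S q B
  haveI := hdom
  haveI := hic
  obtain ⟨hinjB, hbirB⟩ := tensor_facts A A' S q B hinj hbir
  haveI : IsDomain B := Function.Injective.isDomain (algebraMap B (A' ⊗[A] B)) hinjB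
  haveI : Algebra.IsIntegral B (A' ⊗[A] B) := isIntegral_right' A A' B
  exact ⟨inferInstance, isGeomUnibranch_of_normalization B (A' ⊗[A] B) hinjB hbirB
    (hpi_tensor A A' B hpi)⟩

include S q in
/-- Core statement, unibranch version: the residue field of `B` is purely inseparable over that
of `A`. -/
theorem core_unibranch (hinj : Function.Injective (algebraMap A A')) (hbir : Bir A A')
    (hpi : ∀ x : B ⧸ maximalIdeal B, ∃ n : ℕ, x ^ (ringExpChar (B ⧸ maximalIdeal B)) ^ n ∈
        ((Ideal.Quotient.mk (maximalIdeal B)).comp (algebraMap A B)).range) :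
    IsDomain B ∧ CAlg2.IsUnibranch B := by
  haveI : Module.Flat A B := flat_base A S q B
  have hinjB0 : Function.Injective (algebraMap B (A' ⊗[A] B)) := fun x y hxy =>
    Algebra.TensorProduct.includeRight_injective (R := A) (A := A') (B := B) hinj hxy
  haveI : Nontrivial (A' ⊗[A] B) := hinjB0.nontrivial
  haveI hloc : IsLocalRing (A' ⊗[A] B) := isLocalRing_tensor_of_purelyInseparable_right A A' B hpi
  obtain ⟨hdom, hic⟩ := normal_tensor A A' S q B
  haveI := hdom
  haveI := hic
  obtain ⟨hinjB, hbirB⟩ := tensor_facts A A' S q B hinj hbir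
  haveI : IsDomain B := Function.Injective.isDomain (algebraMap B (A' ⊗[A] B)) hinjB
  haveI : Algebra.IsIntegral B (A' ⊗[A] B) := isIntegral_right' A A' B
  exact ⟨inferInstance, isUnibranch_of_normalization B (A' ⊗[A] B) hinjB hbirB⟩

end Core

section Main

variable (A : Type u) [CommRing A] [IsLocalRing A] [IsDomain A]
  (S : Type u) [CommRing S] [Algebra A S] [Algebra.Smooth A S] (q : Ideal S) [q.IsPrime]
  (B : Type u) [CommRing B] [IsLocalRing B] [Algebra S B] [IsLocalization.AtPrime B q]
  [Algebra A B] [IsScalarTower A S B] [IsLocalHom (algebraMap A B)]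

include S q in
/-- The local ring of a smooth algebra over a geometrically unibranch local domain, at a prime
over the maximal ideal, is a geometrically unibranch local domain. -/
theorem isGeomUnibranch_of_smooth (hA : CAlg2.IsGeomUnibranch A) :
    IsDomain B ∧ CAlg2.IsGeomUnibranch B := by
  obtain ⟨⟨hdom, hloc⟩, hpi⟩ := hA
  haveI := hdom
  haveI := hloc
  haveI := isIntegrallyClosed_normRed A
  have hnil : nilradical A = ⊥ := by rw [nilradical_eq_zero, Ideal.zero_eq_bot]
  exact core_geom A (CAlg2.normRed A) S q B (algebraMap_normRed_injective A hnil) (bir_normRed A)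
    (hpi (maximalIdeal _))

include S q in
/-- The local ring of a smooth algebra over a unibranch local domain, at a prime over the
maximal ideal with purely inseparable residue field extension, is a unibranch local domain. -/
theorem isUnibranch_of_smooth (hA : CAlg2.IsUnibranch A)
    (hpi : ∀ x : B ⧸ maximalIdeal B, ∃ n : ℕ, x ^ (ringExpChar (B ⧸ maximalIdeal B)) ^ n ∈
        ((Ideal.Quotient.mk (maximalIdeal B)).comp (algebraMap A B)).range) :
    IsDomain B ∧ CAlg2.IsUnibranch B := by
  obtain ⟨hdom, hloc⟩ := hA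
  haveI := hdom
  haveI := hloc
  haveI := isIntegrallyClosed_normRed A
  have hnil : nilradical A = ⊥ := by rw [nilradical_eq_zero, Ideal.zero_eq_bot]
  exact core_unibranch A (CAlg2.normRed A) S q B (algebraMap_normRed_injective A hnil)
    (bir_normRed A) hpi

end Main

end Groth.Agent.Lib.Helper8.SmoothUnibranch
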