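import Mathlib
import Groth.Prelude
import Groth.Agent.Lib.Helper8.BranchCount

/-!
# Counting minimal primes of a strict henselization via geometric branches
-/

set_option autoImplicit false
universe u
open TensorProduct IsLocalRing

namespace Groth.Agent.Lib.Helper8.BranchCountGeom

open Groth.Agent.Lib.Helper8.Hzl Groth.Agent.Lib.Helper8.UnibranchHens
  Groth.Agent.Lib.Helper8.NormRedTensor Groth.Agent.Lib.Helper8.BranchCount

theorem existsUnique_extension {K L Ω : Type u} [Field K] [IsSepClosed K] [Field L] [Field Ω]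
    [IsAlgClosed Ω] (i : K →+* L) (hi : i.IsIntegral) (τ : K →+* Ω) :
    ∃! σ : L →+* Ω, σ.comp i = τ := by
  letI := i.toAlgebra
  letI := τ.toAlgebra
  haveI : Algebra.IsAlgebraic K L := ⟨fun x => (show IsIntegral K x from hi x).isAlgebraic⟩
  haveI : IsPurelyInseparable K L := inferInstance
  let σ : L →ₐ[K] Ω := IsAlgClosed.lift
  refine ⟨σ.toRingHom, RingHom.ext (fun k => σ.commutes k), fun σ' hσ' => ?_⟩
  apply IsPurelyInseparable.injective_comp_algebraMap K L Ω
  show σ'.comp i = σ.toRingHom.comp i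
  rw [hσ']
  exact (RingHom.ext (fun k => σ.commutes k)).symm

section M

variable (S C Ω : Type u) [CommRing S] [IsLocalRing S] [IsSepClosed (ResidueField S)]
  [CommRing C] [Algebra S C] [Algebra.IsIntegral S C] [Field Ω] [IsAlgClosed Ω]
  (τ' : S →+* Ω) (hτ' : ∀ s, τ' s = 0 ↔ s ∈ maximalIdeal S)

/-- Ring homomorphisms `C → Ω` restricting to `τ'` on `S`. -/
def HomOver : Type u := {φ : C →+* Ω // φ.comp (algebraMap S C) = τ'}

include hτ' in
theorem comap_ker_eq (φ : HomOver S C Ω τ') :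
    (RingHom.ker φ.1).comap (algebraMap S C) = maximalIdeal S := by
  ext s
  rw [Ideal.mem_comap, RingHom.mem_ker, ← hτ' s]
  have := congr($(φ.2) s)
  rw [RingHom.comp_apply] at this
  rw [this]

include hτ' in
theorem isMaximal_ker (φ : HomOver S C Ω τ') : (RingHom.ker φ.1).IsMaximal := by
  haveI : (RingHom.ker φ.1).IsPrime := RingHom.ker_isPrime _
  apply Ideal.isMaximal_of_isIntegral_of_isMaximal_comap (R := S)
  rw [comap_ker_eq S C Ω τ' hτ' φ]; infer_instance

theorem comap_eq_maximalIdeal (m : Ideal C) [m.IsMaximal] :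
    m.comap (algebraMap S C) = maximalIdeal S :=
  eq_maximalIdeal (Ideal.isMaximal_comap_of_isIntegral_of_isMaximal m)

/-- The residue field of `S` maps to the residue field of a maximal ideal of `C`. -/
noncomputable def resToQuot (m : Ideal C) [m.IsMaximal] : ResidueField S →+* C ⧸ m :=
  Ideal.Quotient.lift (maximalIdeal S) ((Ideal.Quotient.mk m).comp (algebraMap S C))
    (fun s hs => by
      rw [RingHom.comp_apply, Ideal.Quotient.eq_zero_iff_mem, ← Ideal.mem_comap,
        comap_eq_maximalIdeal S C m]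
      exact hs)

theorem resToQuot_isIntegral (m : Ideal C) [m.IsMaximal] : (resToQuot S C m).IsIntegral := by
  intro x
  obtain ⟨c, rfl⟩ := Ideal.Quotient.mk_surjective x
  letI := (resToQuot S C m).toAlgebra
  exact IsIntegral.map_of_comp_eq (residue S) (Ideal.Quotient.mk m) (RingHom.ext fun s => rfl)
    (Algebra.IsIntegral.isIntegral (R := S) c)

/-- `τ'` factors through the residue field. -/
noncomputable def tauRes : ResidueField S →+* Ω :=
  Ideal.Quotient.lift (maximalIdeal S) τ' (fun s hs => (hτ' s).mpr hs)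

include hτ' in
theorem ker_injective (φ₁ φ₂ : HomOver S C Ω τ') (hk : RingHom.ker φ₁.1 = RingHom.ker φ₂.1) :
    φ₁ = φ₂ := by
  haveI hm : (RingHom.ker φ₁.1).IsMaximal := isMaximal_ker S C Ω τ' hτ' φ₁
  letI := Ideal.Quotient.field (RingHom.ker φ₁.1)
  let ψ₁ : C ⧸ RingHom.ker φ₁.1 →+* Ω :=
    Ideal.Quotient.lift (RingHom.ker φ₁.1) φ₁.1 (fun a ha => ha)
  let ψ₂ : C ⧸ RingHom.ker φ₁.1 →+* Ω :=
    Ideal.Quotient.lift (RingHom.ker φ₁.1) φ₂.1 (fun a ha => by rw [hk] at ha; exact ha)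
  have h1 : ψ₁.comp (resToQuot S C (RingHom.ker φ₁.1)) = tauRes S Ω τ' hτ' :=
    Ideal.Quotient.ringHom_ext (RingHom.ext fun s => congr($(φ₁.2) s))
  have h2 : ψ₂.comp (resToQuot S C (RingHom.ker φ₁.1)) = tauRes S Ω τ' hτ' :=
    Ideal.Quotient.ringHom_ext (RingHom.ext fun s => congr($(φ₂.2) s))
  have h := (existsUnique_extension (resToQuot S C (RingHom.ker φ₁.1))
    (resToQuot_isIntegral S C (RingHom.ker φ₁.1)) (tauRes S Ω τ' hτ')).unique h1 h2
  apply Subtype.ext
  refine RingHom.ext fun c => ?_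
  exact congr($h (Ideal.Quotient.mk (RingHom.ker φ₁.1) c))

include hτ' in
theorem exists_homOver_ker_eq (m : Ideal C) [m.IsMaximal] :
    ∃ φ : HomOver S C Ω τ', RingHom.ker φ.1 = m := by
  letI := Ideal.Quotient.field m
  obtain ⟨σ, hσ, -⟩ := existsUnique_extension (resToQuot S C m) (resToQuot_isIntegral S C m)
    (tauRes S Ω τ' hτ')
  refine ⟨⟨σ.comp (Ideal.Quotient.mk m), ?_⟩, ?_⟩
  · refine RingHom.ext fun s => ?_
    exact congr($hσ (residue S s))
  · ext c
    rw [RingHom.mem_ker, RingHom.comp_apply, map_eq_zero_iff σ σ.injective,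
      Ideal.Quotient.eq_zero_iff_mem]

/-- The kernel map to the maximal spectrum. -/
noncomputable def kerMax (φ : HomOver S C Ω τ') : MaximalSpectrum C :=
  ⟨RingHom.ker φ.1, isMaximal_ker S C Ω τ' hτ' φ⟩

theorem kerMax_bijective : Function.Bijective (kerMax S C Ω τ' hτ') := by
  constructor
  · intro φ₁ φ₂ h
    exact ker_injective S C Ω τ' hτ' φ₁ φ₂ (congrArg MaximalSpectrum.asIdeal h)
  · intro m
    haveI := m.isMaximal
    obtain ⟨φ, hφ⟩ := exists_homOver_ker_eq S C Ω τ' hτ' m.asIdeal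
    exact ⟨φ, MaximalSpectrum.ext hφ⟩

end M

section T

attribute [local instance] Algebra.TensorProduct.rightAlgebra

variable (A A' B Ω : Type u) [CommRing A] [CommRing A'] [Algebra A A'] [CommRing B] [Algebra A B]
  [Field Ω] (τ' : B →+* Ω) (ρ : A →+* Ω) (hρ : τ'.comp (algebraMap A B) = ρ)

theorem algebraMap_comp_eq' :
    (algebraMap A' (A' ⊗[A] B)).comp (algebraMap A A') =
      (algebraMap B (A' ⊗[A] B)).comp (algebraMap A B) := by
  ext a
  change algebraMap A A' a ⊗ₜ[A] (1 : B) = (1 : A') ⊗ₜ[A] algebraMap A B a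
  rw [Algebra.algebraMap_eq_smul_one, Algebra.algebraMap_eq_smul_one, TensorProduct.smul_tmul]

/-- Restriction to the left factor. -/
def restrictLeft (φ : HomOver B (A' ⊗[A] B) Ω τ') :
    {ψ : A' →+* Ω // ψ.comp (algebraMap A A') = ρ} :=
  ⟨φ.1.comp (algebraMap A' (A' ⊗[A] B)), by
    rw [RingHom.comp_assoc, algebraMap_comp_eq' A A' B, ← RingHom.comp_assoc, φ.2, hρ]⟩

theorem restrictLeft_injective : Function.Injective (restrictLeft A A' B Ω τ' ρ hρ) := by
  intro φ₁ φ₂ h
  have hA : ∀ x : A', φ₁.1 (x ⊗ₜ[A] (1 : B)) = φ₂.1 (x ⊗ₜ[A] (1 : B)) := fun x =>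
    congr($(congrArg Subtype.val h) x)
  have hB : ∀ b : B, φ₁.1 ((1 : A') ⊗ₜ[A] b) = φ₂.1 ((1 : A') ⊗ₜ[A] b) := fun b => by
    have e1 : φ₁.1 ((1 : A') ⊗ₜ[A] b) = τ' b := congr($(φ₁.2) b)
    have e2 : φ₂.1 ((1 : A') ⊗ₜ[A] b) = τ' b := congr($(φ₂.2) b)
    exact e1.trans e2.symm
  apply Subtype.ext
  refine RingHom.ext fun c => ?_
  induction c using TensorProduct.induction_on with
  | zero => rw [map_zero, map_zero]
  | tmul x b =>
    have : x ⊗ₜ[A] b = (x ⊗ₜ[A] (1 : B)) * ((1 : A') ⊗ₜ[A] b) := by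
      rw [Algebra.TensorProduct.tmul_mul_tmul, mul_one, one_mul]
    rw [this, map_mul, map_mul, hA, hB]
  | add c₁ c₂ h₁ h₂ => rw [map_add, map_add, h₁, h₂]

theorem restrictLeft_surjective : Function.Surjective (restrictLeft A A' B Ω τ' ρ hρ) := by
  rintro ⟨ψ, hψ⟩
  letI : Algebra A Ω := ρ.toAlgebra
  let ψA : A' →ₐ[A] Ω := { ψ with commutes' := fun a => congr($hψ a) }
  let τA : B →ₐ[A] Ω := { τ' with commutes' := fun a => congr($hρ a) }
  let φ : A' ⊗[A] B →ₐ[A] Ω := Algebra.TensorProduct.lift ψA τA (fun _ _ => Commute.all _ _)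
  refine ⟨⟨φ.toRingHom, ?_⟩, ?_⟩
  · refine RingHom.ext fun b => ?_
    show φ ((1 : A') ⊗ₜ[A] b) = τ' b
    rw [Algebra.TensorProduct.lift_tmul, map_one, one_mul]; rfl
  · apply Subtype.ext
    refine RingHom.ext fun x => ?_
    show φ (x ⊗ₜ[A] (1 : B)) = ψ x
    rw [Algebra.TensorProduct.lift_tmul, map_one, mul_one]; rfl

end T

section E

variable (A : Type u) [CommRing A] [IsLocalRing A]

theorem toResidue_eq (m' : MaximalSpectrum (CAlg2.normRed A)) :
    Brnch.toResidue A m' =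
      (Ideal.Quotient.mk m'.asIdeal).comp (algebraMap A (CAlg2.normRed A)) := by
  refine RingHom.ext fun a => ?_
  simp only [Brnch.toResidue, RingHom.comp_apply]
  rw [IsScalarTower.algebraMap_apply A (CAlg2.red A) (CAlg2.normRed A)]
  rfl

theorem toClosure_eq_zero_iff (a : A) : Brnch.toClosure A a = 0 ↔ a ∈ maximalIdeal A := by
  unfold Brnch.toClosure
  rw [RingHom.comp_apply, map_eq_zero_iff _ (RingHom.injective _), residue_eq_zero_iff]

/-- `(m', σ) ↦ σ ∘ mk`. -/
noncomputable def embToHom (p : Σ m' : MaximalSpectrum (CAlg2.normRed A), Brnch.Emb A m') :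
    {ψ : CAlg2.normRed A →+* AlgebraicClosure (ResidueField A) //
      ψ.comp (algebraMap A (CAlg2.normRed A)) = Brnch.toClosure A} :=
  ⟨p.2.1.comp (Ideal.Quotient.mk p.1.asIdeal), by
    rw [RingHom.comp_assoc, ← toResidue_eq]; exact p.2.2⟩

theorem embToHom_injective : Function.Injective (embToHom A) := by
  rintro ⟨m₁, σ₁⟩ ⟨m₂, σ₂⟩ h
  have h' : σ₁.1.comp (Ideal.Quotient.mk m₁.asIdeal) =
      σ₂.1.comp (Ideal.Quotient.mk m₂.asIdeal) := congrArg Subtype.val h
  have hker : ∀ (m : MaximalSpectrum (CAlg2.normRed A)) (σ : Brnch.Emb A m),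
      RingHom.ker (σ.1.comp (Ideal.Quotient.mk m.asIdeal)) = m.asIdeal := by
    intro m σ
    haveI := m.isMaximal
    letI := Ideal.Quotient.field m.asIdeal
    ext x
    rw [RingHom.mem_ker, RingHom.comp_apply, map_eq_zero_iff _ (RingHom.injective σ.1),
      Ideal.Quotient.eq_zero_iff_mem]
  have hm : m₁ = m₂ := MaximalSpectrum.ext (by rw [← hker m₁ σ₁, ← hker m₂ σ₂, h'])
  subst hm
  have : σ₁ = σ₂ := Subtype.ext (Ideal.Quotient.ringHom_ext h')
  rw [this]

theorem embToHom_surjective : Function.Surjective (embToHom A) := by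
  rintro ⟨ψ, hψ⟩
  haveI hprime : (RingHom.ker ψ).IsPrime := RingHom.ker_isPrime ψ
  have hmax : (RingHom.ker ψ).IsMaximal := by
    apply Ideal.isMaximal_of_isIntegral_of_isMaximal_comap (R := A)
    have : (RingHom.ker ψ).comap (algebraMap A (CAlg2.normRed A)) = maximalIdeal A := by
      ext a
      rw [Ideal.mem_comap, RingHom.mem_ker, ← toClosure_eq_zero_iff A a, ← hψ]; rfl
    rw [this]; infer_instance
  let m' : MaximalSpectrum (CAlg2.normRed A) := ⟨RingHom.ker ψ, hmax⟩
  let σ : CAlg2.normRed A ⧸ m'.asIdeal →+* AlgebraicClosure (ResidueField A) :=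
    Ideal.Quotient.lift (RingHom.ker ψ) ψ (fun a ha => ha)
  have hσ : σ.comp (Brnch.toResidue A m') = Brnch.toClosure A := by
    rw [toResidue_eq, ← RingHom.comp_assoc]
    have : σ.comp (Ideal.Quotient.mk m'.asIdeal) = ψ := RingHom.ext fun x => rfl
    rw [this, hψ]
  exact ⟨⟨m', ⟨σ, hσ⟩⟩, Subtype.ext (RingHom.ext fun x => rfl)⟩

end E

section main

attribute [local instance] Algebra.TensorProduct.rightAlgebra

theorem card_minimalPrimes_eq_geom (A B : Type u) [CommRing A] [IsLocalRing A] [CommRing B]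
    [HenselianLocalRing B] [Algebra A B] [IsLocalHom (algebraMap A B)] [Module.Flat A B]
    [IsSepClosed (ResidueField B)]
    (hfin : (minimalPrimes A).Finite) (hind : IndEtaleLike A B)
    (τ' : B →+* AlgebraicClosure (ResidueField A)) (hτ' : ∀ s, τ' s = 0 ↔ s ∈ maximalIdeal B)
    (hρ : τ'.comp (algebraMap A B) = Brnch.toClosure A) :
    ENat.card (minimalPrimes B) =
      ENat.card (Σ m' : MaximalSpectrum (CAlg2.normRed A), Brnch.Emb A m') := by
  haveI : Algebra.IsIntegral B (CAlg2.normRed A ⊗[A] B) :=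
    isIntegral_right' A (CAlg2.normRed A) B
  have e1 : minimalPrimes (CAlg2.normRed A ⊗[A] B) ≃ minimalPrimes B :=
    Set.BijOn.equiv _ (MinPrimeNorm.bijOn_normRed A B)
  have e2 : minimalPrimes (CAlg2.normRed A ⊗[A] B) ≃
      MaximalSpectrum (CAlg2.normRed A ⊗[A] B) :=
    Equiv.ofBijective _ (minToMax_bijective A B hfin hind)
  have e3 : HomOver B (CAlg2.normRed A ⊗[A] B) (AlgebraicClosure (ResidueField A)) τ' ≃
      MaximalSpectrum (CAlg2.normRed A ⊗[A] B) :=
    Equiv.ofBijective _ (kerMax_bijective B (CAlg2.normRed A ⊗[A] B)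
      (AlgebraicClosure (ResidueField A)) τ' hτ')
  have e4 : HomOver B (CAlg2.normRed A ⊗[A] B) (AlgebraicClosure (ResidueField A)) τ' ≃
      {ψ : CAlg2.normRed A →+* AlgebraicClosure (ResidueField A) //
        ψ.comp (algebraMap A (CAlg2.normRed A)) = Brnch.toClosure A} :=
    Equiv.ofBijective _ ⟨restrictLeft_injective A (CAlg2.normRed A) B _ τ' _ hρ,
      restrictLeft_surjective A (CAlg2.normRed A) B _ τ' _ hρ⟩
  have e5 : (Σ m' : MaximalSpectrum (CAlg2.normRed A), Brnch.Emb A m') ≃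
      {ψ : CAlg2.normRed A →+* AlgebraicClosure (ResidueField A) //
        ψ.comp (algebraMap A (CAlg2.normRed A)) = Brnch.toClosure A} :=
    Equiv.ofBijective _ ⟨embToHom_injective A, embToHom_surjective A⟩
  exact (ENat.card_congr e1).symm.trans ((ENat.card_congr e2).trans
    ((ENat.card_congr e3).symm.trans ((ENat.card_congr e4).trans (ENat.card_congr e5).symm)))

end main

end Groth.Agent.Lib.Helper8.BranchCountGeom
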