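import Mathlib
import Groth.Prelude
import Groth.Agent.S9238
import Groth.Agent.Lib.Helper8.SmoothUnibranch
import Groth.Agent.Lib.Helper8.Hzl.TensorSHens
import Groth.Agent.Lib.Helper8.BranchSumGeom
import Groth.Agent.Lib.Helper8.BranchFibre

/-!
# Geometric branches and smooth ring maps

For `R → S` smooth, `q` a prime of `S` over `p`: the strict henselizations of `R_p` and `S_q`
have the same number of minimal primes; in particular `S_q` is geometrically unibranch iff `R_p`
is.
-/

set_option autoImplicit false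
universe u
open IsLocalRing TensorProduct

namespace Groth.Agent.Lib.Helper8.SmoothBranches

open Groth.Agent.Lib.Helper8 Groth.Agent.Lib.Helper8.Hzl

section counting

variable (A H : Type u) [CommRing A] [CommRing H] [Algebra A H] [Module.Flat A H]

/-- If over every minimal prime of `A` there is exactly one minimal prime of the extended ideal
in the flat `A`-algebra `H`, then `A` and `H` have the same number of minimal primes. -/
theorem encard_minimalPrimes_eq_of_fibres
    (h1 : ∀ p ∈ minimalPrimes A, (p.map (algebraMap A H)).minimalPrimes.encard = 1) :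
    (minimalPrimes H).encard = (minimalPrimes A).encard := by
  let F : minimalPrimes H → minimalPrimes A := fun Q =>
    ⟨Q.1.comap (algebraMap A H), BranchSum.comap_mem_minimalPrimes A H Q.2⟩
  have hinj : Function.Injective F := by
    rintro ⟨Q₁, h₁⟩ ⟨Q₂, h₂⟩ h
    have hc : Q₁.comap (algebraMap A H) = Q₂.comap (algebraMap A H) := congrArg Subtype.val h
    have hp := BranchSum.comap_mem_minimalPrimes A H h₁
    obtain ⟨x, hx⟩ := Set.encard_eq_one.mp (h1 _ hp)
    rw [BranchSum.minimalPrimes_map_eq A H hp] at hx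
    have m1 : Q₁ ∈ {Q | Q ∈ minimalPrimes H ∧
        Q.comap (algebraMap A H) = Q₁.comap (algebraMap A H)} := ⟨h₁, rfl⟩
    have m2 : Q₂ ∈ {Q | Q ∈ minimalPrimes H ∧
        Q.comap (algebraMap A H) = Q₁.comap (algebraMap A H)} := ⟨h₂, hc.symm⟩
    rw [hx] at m1 m2
    exact Subtype.ext ((Set.mem_singleton_iff.mp m1).trans (Set.mem_singleton_iff.mp m2).symm)
  have hsurj : Function.Surjective F := by
    rintro ⟨p, hp⟩
    obtain ⟨x, hx⟩ := Set.encard_eq_one.mp (h1 p hp)
    rw [BranchSum.minimalPrimes_map_eq A H hp] at hx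
    have m : x ∈ {Q | Q ∈ minimalPrimes H ∧ Q.comap (algebraMap A H) = p} := by
      rw [hx]
      exact Set.mem_singleton x
    exact ⟨⟨x, m.1⟩, Subtype.ext m.2⟩
  rw [← ENat.card_coe_set_eq, ← ENat.card_coe_set_eq]
  exact ENat.card_congr (Equiv.ofBijective F ⟨hinj, hsurj⟩)

theorem hasUniqueMinimalPrime_iff_encard (T : Type u) [CommRing T] :
    CAlgX.HasUniqueMinimalPrime T ↔ (minimalPrimes T).encard = 1 := by
  rw [Set.encard_eq_one]
  constructor
  · rintro ⟨P, hP, hPu⟩
    exact ⟨P, Set.eq_singleton_iff_unique_mem.mpr ⟨hP, fun Q hQ => hPu Q hQ⟩⟩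
  · rintro ⟨P, hP⟩
    refine ⟨P, ?_, ?_⟩
    · show P ∈ minimalPrimes T
      rw [hP]
      exact Set.mem_singleton P
    · intro Q hQ
      have hQ' : Q ∈ minimalPrimes T := hQ
      rw [hP] at hQ'
      exact hQ'

end counting

section main

variable (R : Type u) [CommRing R] (S : Type u) [CommRing S] [Algebra R S] [Algebra.Smooth R S]
  (p : Ideal R) [p.IsPrime] (q : Ideal S) [q.IsPrime] [q.LiesOver p]
  (Rh : Type u) [CommRing Rh] [IsLocalRing Rh] [Algebra (Localization.AtPrime p) Rh]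
  [IsLocalHom (algebraMap (Localization.AtPrime p) Rh)]
  [Algebra R Rh] [IsScalarTower R (Localization.AtPrime p) Rh]
  (Sh : Type u) [CommRing Sh] [IsLocalRing Sh] [Algebra (Localization.AtPrime q) Sh]
  [IsLocalHom (algebraMap (Localization.AtPrime q) Sh)]
  [Algebra S Sh] [IsScalarTower S (Localization.AtPrime q) Sh] [Algebra R Sh] [IsScalarTower R S Sh]
  [Algebra Rh Sh] [IsScalarTower R Rh Sh]
  [hR : Hensel.IsStrictHenselization (Localization.AtPrime p) Rh]
  [hS : Hensel.IsStrictHenselization (Localization.AtPrime q) Sh]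

include p q hR hS in
theorem flat_shens : Module.Flat Rh Sh := by
  haveI hlocRS : IsLocalHom (algebraMap Rh Sh) := isLocalHom_of_strict R S p q Rh Sh
  letI algCQSh : Algebra (Localization.AtPrime (tensorPrime R S Rh Sh)) Sh := (locTo R S Rh Sh).toAlgebra
  haveI hlocCQ : IsLocalHom (algebraMap (Localization.AtPrime (tensorPrime R S Rh Sh)) Sh) := isLocalHom_locTo R S Rh Sh
  letI algBCQ : Algebra (Localization.AtPrime q) (Localization.AtPrime (tensorPrime R S Rh Sh)) := (fromLoc R S q Rh Sh).toAlgebra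
  haveI hlocBCQ : IsLocalHom (algebraMap (Localization.AtPrime q) (Localization.AtPrime (tensorPrime R S Rh Sh))) :=
    isLocalHom_fromLoc R S q Rh Sh
  haveI htowBCQ : IsScalarTower (Localization.AtPrime q) (Localization.AtPrime (tensorPrime R S Rh Sh)) Sh :=
    IsScalarTower.of_algebraMap_eq' (locTo_comp_fromLoc R S q Rh Sh).symm
  haveI hSH : Hensel.IsStrictHenselization (Localization.AtPrime (tensorPrime R S Rh Sh)) Sh :=
    isStrictHenselization_of_factor (Localization.AtPrime q) Sh _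
      (fun T _ _ g hg τ hτ h hh hres =>
        comp_locTo_eq_strict R S p q Rh Sh T g hg τ
          (fun d => DFunLike.congr_fun hτ (residue _ d)) h hh hres)
  have hcomp : ∀ y : Rh, algebraMap (Localization.AtPrime (tensorPrime R S Rh Sh)) Sh (algebraMap (Rh ⊗[R] S) (Localization.AtPrime (tensorPrime R S Rh Sh)) (algebraMap Rh (Rh ⊗[R] S) y)) =
      algebraMap Rh Sh y := by
    intro y
    have h1 : algebraMap Rh (Rh ⊗[R] S) y = y ⊗ₜ[R] (1 : S) := by
      rw [Algebra.TensorProduct.algebraMap_apply]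
      rfl
    rw [h1]
    show locTo R S Rh Sh (algebraMap _ _ (y ⊗ₜ[R] (1 : S))) = _
    rw [locTo_algebraMap, tensorTo_tmul, map_one, mul_one]
  haveI : Module.Flat (Localization.AtPrime (tensorPrime R S Rh Sh)) Sh := strictHenselization_flat (Localization.AtPrime (tensorPrime R S Rh Sh)) Sh
  haveI : IsScalarTower Rh (Localization.AtPrime (tensorPrime R S Rh Sh)) Sh := IsScalarTower.of_algebraMap_eq (fun y => by
    rw [IsScalarTower.algebraMap_apply Rh (Rh ⊗[R] S) (Localization.AtPrime (tensorPrime R S Rh Sh))]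
    exact (hcomp y).symm)
  haveI : Module.Flat (Rh ⊗[R] S) (Localization.AtPrime (tensorPrime R S Rh Sh)) := IsLocalization.flat (Localization.AtPrime (tensorPrime R S Rh Sh)) (tensorPrime R S Rh Sh).primeCompl
  haveI : Module.Flat Rh (Localization.AtPrime (tensorPrime R S Rh Sh)) := Module.Flat.trans Rh (Rh ⊗[R] S) (Localization.AtPrime (tensorPrime R S Rh Sh))
  exact Module.Flat.trans Rh (Localization.AtPrime (tensorPrime R S Rh Sh)) Sh

include p q hR hS in
theorem fibre_encard_eq_one (𝔭 : Ideal Rh) (h𝔭 : 𝔭 ∈ minimalPrimes Rh) :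
    (𝔭.map (algebraMap Rh Sh)).minimalPrimes.encard = 1 := by
  haveI h𝔭p : 𝔭.IsPrime := h𝔭.1.1
  haveI hlocRS : IsLocalHom (algebraMap Rh Sh) := isLocalHom_of_strict R S p q Rh Sh
  letI algCQSh : Algebra (Localization.AtPrime (tensorPrime R S Rh Sh)) Sh := (locTo R S Rh Sh).toAlgebra
  haveI hlocCQ : IsLocalHom (algebraMap (Localization.AtPrime (tensorPrime R S Rh Sh)) Sh) := isLocalHom_locTo R S Rh Sh
  letI algBCQ : Algebra (Localization.AtPrime q) (Localization.AtPrime (tensorPrime R S Rh Sh)) := (fromLoc R S q Rh Sh).toAlgebra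
  haveI hlocBCQ : IsLocalHom (algebraMap (Localization.AtPrime q) (Localization.AtPrime (tensorPrime R S Rh Sh))) :=
    isLocalHom_fromLoc R S q Rh Sh
  haveI htowBCQ : IsScalarTower (Localization.AtPrime q) (Localization.AtPrime (tensorPrime R S Rh Sh)) Sh :=
    IsScalarTower.of_algebraMap_eq' (locTo_comp_fromLoc R S q Rh Sh).symm
  haveI hSH : Hensel.IsStrictHenselization (Localization.AtPrime (tensorPrime R S Rh Sh)) Sh :=
    isStrictHenselization_of_factor (Localization.AtPrime q) Sh _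
      (fun T _ _ g hg τ hτ h hh hres =>
        comp_locTo_eq_strict R S p q Rh Sh T g hg τ
          (fun d => DFunLike.congr_fun hτ (residue _ d)) h hh hres)
  have hcomp : ∀ y : Rh, algebraMap (Localization.AtPrime (tensorPrime R S Rh Sh)) Sh (algebraMap (Rh ⊗[R] S) (Localization.AtPrime (tensorPrime R S Rh Sh)) (algebraMap Rh (Rh ⊗[R] S) y)) =
      algebraMap Rh Sh y := by
    intro y
    have h1 : algebraMap Rh (Rh ⊗[R] S) y = y ⊗ₜ[R] (1 : S) := by
      rw [Algebra.TensorProduct.algebraMap_apply]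
      rfl
    rw [h1]
    show locTo R S Rh Sh (algebraMap _ _ (y ⊗ₜ[R] (1 : S))) = _
    rw [locTo_algebraMap, tensorTo_tmul, map_one, mul_one]
  have hJ : (Ideal.map (algebraMap (Localization.AtPrime (tensorPrime R S Rh Sh)) Sh) (Ideal.map (algebraMap (Rh ⊗[R] S) (Localization.AtPrime (tensorPrime R S Rh Sh))) (Ideal.map (algebraMap Rh (Rh ⊗[R] S)) 𝔭))) = 𝔭.map (algebraMap Rh Sh) := by
    rw [Ideal.map_map, Ideal.map_map]
    congr 1
    ext y
    exact hcomp y
  have hJne : 𝔭.map (algebraMap Rh Sh) ≠ ⊤ :=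
    BranchSumGeom.map_ne_top Rh Sh 𝔭 (Ideal.IsPrime.ne_top h𝔭p)
  have hIQne : (Ideal.map (algebraMap (Rh ⊗[R] S) (Localization.AtPrime (tensorPrime R S Rh Sh))) (Ideal.map (algebraMap Rh (Rh ⊗[R] S)) 𝔭)) ≠ ⊤ := by
    intro h
    rw [h, Ideal.map_top] at hJ
    exact hJne hJ.symm
  haveI : Nontrivial ((Localization.AtPrime (tensorPrime R S Rh Sh)) ⧸ (Ideal.map (algebraMap (Rh ⊗[R] S) (Localization.AtPrime (tensorPrime R S Rh Sh))) (Ideal.map (algebraMap Rh (Rh ⊗[R] S)) 𝔭))) := Ideal.Quotient.nontrivial_iff.mpr hIQne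
  haveI hDloc : IsLocalRing ((Localization.AtPrime (tensorPrime R S Rh Sh)) ⧸ (Ideal.map (algebraMap (Rh ⊗[R] S) (Localization.AtPrime (tensorPrime R S Rh Sh))) (Ideal.map (algebraMap Rh (Rh ⊗[R] S)) 𝔭))) :=
    IsLocalRing.of_surjective' (Ideal.Quotient.mk _) Ideal.Quotient.mk_surjective
  haveI : Nontrivial (Sh ⧸ (Ideal.map (algebraMap (Localization.AtPrime (tensorPrime R S Rh Sh)) Sh) (Ideal.map (algebraMap (Rh ⊗[R] S) (Localization.AtPrime (tensorPrime R S Rh Sh))) (Ideal.map (algebraMap Rh (Rh ⊗[R] S)) 𝔭)))) := Ideal.Quotient.nontrivial_iff.mpr (by rw [hJ]; exact hJne)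
  haveI hTloc : IsLocalRing (Sh ⧸ (Ideal.map (algebraMap (Localization.AtPrime (tensorPrime R S Rh Sh)) Sh) (Ideal.map (algebraMap (Rh ⊗[R] S) (Localization.AtPrime (tensorPrime R S Rh Sh))) (Ideal.map (algebraMap Rh (Rh ⊗[R] S)) 𝔭)))) :=
    IsLocalRing.of_surjective' (Ideal.Quotient.mk _) Ideal.Quotient.mk_surjective
  haveI := BranchSumGeom.isLocalHom_quotientMap (Localization.AtPrime (tensorPrime R S Rh Sh)) Sh (Ideal.map (algebraMap (Rh ⊗[R] S) (Localization.AtPrime (tensorPrime R S Rh Sh))) (Ideal.map (algebraMap Rh (Rh ⊗[R] S)) 𝔭))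
  haveI := BranchSumGeom.isStrictHenselization_quotient (Localization.AtPrime (tensorPrime R S Rh Sh)) Sh (Ideal.map (algebraMap (Rh ⊗[R] S) (Localization.AtPrime (tensorPrime R S Rh Sh))) (Ideal.map (algebraMap Rh (Rh ⊗[R] S)) 𝔭))
  -- the base `Rh ⧸ 𝔭`
  haveI hAdom : IsDomain (Rh ⧸ 𝔭) := Ideal.Quotient.isDomain 𝔭
  haveI hAloc : IsLocalRing (Rh ⧸ 𝔭) :=
    IsLocalRing.of_surjective' (Ideal.Quotient.mk 𝔭) Ideal.Quotient.mk_surjective
  haveI : HenselianLocalRing Rh := hR.henselian
  haveI : Algebra.IsIntegral Rh (Rh ⧸ 𝔭) :=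
    Algebra.isIntegral_of_surjective Ideal.Quotient.mk_surjective
  haveI hAhens : HenselianLocalRing (Rh ⧸ 𝔭) := henselianLocalRing_of_isIntegral Rh (Rh ⧸ 𝔭)
  haveI : IsLocalHom (Ideal.Quotient.mk 𝔭) :=
    BranchSumGeom.isLocalHom_mk 𝔭 (Ideal.IsPrime.ne_top h𝔭p)
  haveI : IsSepClosed (ResidueField Rh) := hR.isSepClosure.sep_closed
  haveI hAsc : IsSepClosed (ResidueField (Rh ⧸ 𝔭)) :=
    isSepClosed_of_ringEquiv (RingEquiv.ofBijective _
      (BranchSumGeom.residueMap_bijective (Ideal.Quotient.mk 𝔭) Ideal.Quotient.mk_surjective))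
  have hAGU : CAlg2.IsGeomUnibranch (Rh ⧸ 𝔭) :=
    SmoothUnibranch.isGeomUnibranch_of_strictlyHenselian_domain (Rh ⧸ 𝔭)
  -- the smooth algebra
  haveI hSmooth : Algebra.Smooth (Rh ⧸ 𝔭) ((Rh ⊗[R] S) ⧸ (Ideal.map (algebraMap Rh (Rh ⊗[R] S)) 𝔭)) :=
    Algebra.Smooth.of_equiv (Algebra.TensorProduct.quotIdealMapEquivQuotTensor (Rh ⊗[R] S) 𝔭).symm
  haveI hlocD : IsLocalization (Algebra.algebraMapSubmonoid ((Rh ⊗[R] S) ⧸ (Ideal.map (algebraMap Rh (Rh ⊗[R] S)) 𝔭)) (tensorPrime R S Rh Sh).primeCompl) ((Localization.AtPrime (tensorPrime R S Rh Sh)) ⧸ (Ideal.map (algebraMap (Rh ⊗[R] S) (Localization.AtPrime (tensorPrime R S Rh Sh))) (Ideal.map (algebraMap Rh (Rh ⊗[R] S)) 𝔭))) :=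
    inferInstance
  haveI hAtPrime := SmoothUnibranch.isLocalization_atPrime_comap_maximalIdeal
    (Algebra.algebraMapSubmonoid ((Rh ⊗[R] S) ⧸ (Ideal.map (algebraMap Rh (Rh ⊗[R] S)) 𝔭)) (tensorPrime R S Rh Sh).primeCompl) ((Localization.AtPrime (tensorPrime R S Rh Sh)) ⧸ (Ideal.map (algebraMap (Rh ⊗[R] S) (Localization.AtPrime (tensorPrime R S Rh Sh))) (Ideal.map (algebraMap Rh (Rh ⊗[R] S)) 𝔭)))
  have hle𝔭 : 𝔭 ≤ Ideal.comap (algebraMap Rh (Localization.AtPrime (tensorPrime R S Rh Sh))) (Ideal.map (algebraMap (Rh ⊗[R] S) (Localization.AtPrime (tensorPrime R S Rh Sh))) (Ideal.map (algebraMap Rh (Rh ⊗[R] S)) 𝔭)) := by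
    intro a ha
    rw [Ideal.mem_comap, IsScalarTower.algebraMap_apply Rh (Rh ⊗[R] S) (Localization.AtPrime (tensorPrime R S Rh Sh))]
    exact Ideal.mem_map_of_mem _ (Ideal.mem_map_of_mem _ ha)
  letI algAD : Algebra (Rh ⧸ 𝔭) ((Localization.AtPrime (tensorPrime R S Rh Sh)) ⧸ (Ideal.map (algebraMap (Rh ⊗[R] S) (Localization.AtPrime (tensorPrime R S Rh Sh))) (Ideal.map (algebraMap Rh (Rh ⊗[R] S)) 𝔭))) := Ideal.Quotient.algebraQuotientOfLEComap hle𝔭
  haveI : IsScalarTower (Rh ⧸ 𝔭) ((Rh ⊗[R] S) ⧸ (Ideal.map (algebraMap Rh (Rh ⊗[R] S)) 𝔭)) ((Localization.AtPrime (tensorPrime R S Rh Sh)) ⧸ (Ideal.map (algebraMap (Rh ⊗[R] S) (Localization.AtPrime (tensorPrime R S Rh Sh))) (Ideal.map (algebraMap Rh (Rh ⊗[R] S)) 𝔭))) := IsScalarTower.of_algebraMap_eq (fun x => by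
    obtain ⟨a, rfl⟩ := Ideal.Quotient.mk_surjective x
    show Ideal.Quotient.mk (Ideal.map (algebraMap (Rh ⊗[R] S) (Localization.AtPrime (tensorPrime R S Rh Sh))) (Ideal.map (algebraMap Rh (Rh ⊗[R] S)) 𝔭)) (algebraMap Rh (Localization.AtPrime (tensorPrime R S Rh Sh)) a) =
      Ideal.Quotient.mk (Ideal.map (algebraMap (Rh ⊗[R] S) (Localization.AtPrime (tensorPrime R S Rh Sh))) (Ideal.map (algebraMap Rh (Rh ⊗[R] S)) 𝔭)) (algebraMap (Rh ⊗[R] S) (Localization.AtPrime (tensorPrime R S Rh Sh)) (algebraMap Rh (Rh ⊗[R] S) a))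
    rw [IsScalarTower.algebraMap_apply Rh (Rh ⊗[R] S) (Localization.AtPrime (tensorPrime R S Rh Sh))])
  haveI : IsLocalHom (algebraMap (Rh ⧸ 𝔭) ((Localization.AtPrime (tensorPrime R S Rh Sh)) ⧸ (Ideal.map (algebraMap (Rh ⊗[R] S) (Localization.AtPrime (tensorPrime R S Rh Sh))) (Ideal.map (algebraMap Rh (Rh ⊗[R] S)) 𝔭)))) := ⟨fun ā hā => by
    obtain ⟨a, rfl⟩ := Ideal.Quotient.mk_surjective ā
    have h1 : IsUnit (Ideal.Quotient.mk (Ideal.map (algebraMap (Rh ⊗[R] S) (Localization.AtPrime (tensorPrime R S Rh Sh))) (Ideal.map (algebraMap Rh (Rh ⊗[R] S)) 𝔭)) (algebraMap Rh (Localization.AtPrime (tensorPrime R S Rh Sh)) a)) := hā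
    rw [IsScalarTower.algebraMap_apply Rh (Rh ⊗[R] S) (Localization.AtPrime (tensorPrime R S Rh Sh))] at h1
    haveI : IsLocalHom (Ideal.Quotient.mk (Ideal.map (algebraMap (Rh ⊗[R] S) (Localization.AtPrime (tensorPrime R S Rh Sh))) (Ideal.map (algebraMap Rh (Rh ⊗[R] S)) 𝔭))) := BranchSumGeom.isLocalHom_mk _ hIQne
    have h2 : IsUnit (algebraMap (Rh ⊗[R] S) (Localization.AtPrime (tensorPrime R S Rh Sh)) (algebraMap Rh (Rh ⊗[R] S) a)) :=
      isUnit_of_map_unit (Ideal.Quotient.mk (Ideal.map (algebraMap (Rh ⊗[R] S) (Localization.AtPrime (tensorPrime R S Rh Sh))) (Ideal.map (algebraMap Rh (Rh ⊗[R] S)) 𝔭))) _ h1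
    have h3 : IsUnit (algebraMap Rh Sh a) := by
      rw [← hcomp a]
      exact h2.map (algebraMap (Localization.AtPrime (tensorPrime R S Rh Sh)) Sh)
    have h4 : IsUnit a := isUnit_of_map_unit (algebraMap Rh Sh) a h3
    exact h4.map _⟩
  obtain ⟨-, hGU⟩ := SmoothUnibranch.isGeomUnibranch_of_smooth (Rh ⧸ 𝔭) ((Rh ⊗[R] S) ⧸ (Ideal.map (algebraMap Rh (Rh ⊗[R] S)) 𝔭))
    ((maximalIdeal ((Localization.AtPrime (tensorPrime R S Rh Sh)) ⧸ (Ideal.map (algebraMap (Rh ⊗[R] S) (Localization.AtPrime (tensorPrime R S Rh Sh))) (Ideal.map (algebraMap Rh (Rh ⊗[R] S)) 𝔭)))).comap (algebraMap ((Rh ⊗[R] S) ⧸ (Ideal.map (algebraMap Rh (Rh ⊗[R] S)) 𝔭)) ((Localization.AtPrime (tensorPrime R S Rh Sh)) ⧸ (Ideal.map (algebraMap (Rh ⊗[R] S) (Localization.AtPrime (tensorPrime R S Rh Sh))) (Ideal.map (algebraMap Rh (Rh ⊗[R] S)) 𝔭))))) ((Localization.AtPrime (tensorPrime R S Rh Sh)) ⧸ (Ideal.map (algebraMap (Rh ⊗[R] S) (Localization.AtPrime (tensorPrime R S Rh Sh))) (Ideal.map (algebraMap Rh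 (Rh ⊗[R] S)) 𝔭))) hAGU
  have huniq : CAlgX.HasUniqueMinimalPrime (Sh ⧸ (Ideal.map (algebraMap (Localization.AtPrime (tensorPrime R S Rh Sh)) Sh) (Ideal.map (algebraMap (Rh ⊗[R] S) (Localization.AtPrime (tensorPrime R S Rh Sh))) (Ideal.map (algebraMap Rh (Rh ⊗[R] S)) 𝔭)))) :=
    (EtaleUnibranch.isGeomUnibranch_iff_hasUniqueMinimalPrime (A := ((Localization.AtPrime (tensorPrime R S Rh Sh)) ⧸ (Ideal.map (algebraMap (Rh ⊗[R] S) (Localization.AtPrime (tensorPrime R S Rh Sh))) (Ideal.map (algebraMap Rh (Rh ⊗[R] S)) 𝔭)))) (Ash := (Sh ⧸ (Ideal.map (algebraMap (Localization.AtPrime (tensorPrime R S Rh Sh)) Sh) (Ideal.map (algebraMap (Rh ⊗[R] S) (Localization.AtPrime (tensorPrime R S Rh Sh))) (Ideal.map (algebraMap Rh (Rh ⊗[R] S)) 𝔭)))))).mp hGU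
  have h1 := (hasUniqueMinimalPrime_iff_encard (Sh ⧸ (Ideal.map (algebraMap (Localization.AtPrime (tensorPrime R S Rh Sh)) Sh) (Ideal.map (algebraMap (Rh ⊗[R] S) (Localization.AtPrime (tensorPrime R S Rh Sh))) (Ideal.map (algebraMap Rh (Rh ⊗[R] S)) 𝔭))))).mp huniq
  rw [BranchSum.encard_minimalPrimes_quotient, hJ] at h1
  exact h1

include p q hR hS in
/-- Compatible strict henselizations of `R_p` and `S_q`, `R → S` smooth, have the same number of
minimal primes. -/
theorem encard_minimalPrimes_eq : (minimalPrimes Sh).encard = (minimalPrimes Rh).encard := by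
  haveI := flat_shens R S p q Rh Sh
  exact encard_minimalPrimes_eq_of_fibres Rh Sh
    (fun 𝔭 h𝔭 => fibre_encard_eq_one R S p q Rh Sh 𝔭 h𝔭)

end main

section canonical

variable (R : Type u) [CommRing R] (S : Type u) [CommRing S] [Algebra R S] [Algebra.Smooth R S]
  (p : Ideal R) [p.IsPrime] (q : Ideal S) [q.IsPrime] [q.LiesOver p]

/-- For `R → S` smooth and `q` over `p`, the local rings `R_p` and `S_q` have the same number of
geometric branches. -/
theorem numGeomBranches_eq_of_smooth :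
    Brnch.numGeomBranches (Localization.AtPrime p) = Brnch.numGeomBranches (Localization.AtPrime q) := by
  haveI hR := Hzl.isStrictHenselization (Localization.AtPrime p)
  haveI hS := Hzl.isStrictHenselization (Localization.AtPrime q)
  letI : Algebra R (SHens (Localization.AtPrime p)) := ((algebraMap (Localization.AtPrime p) (SHens (Localization.AtPrime p))).comp (algebraMap R (Localization.AtPrime p))).toAlgebra
  haveI : IsScalarTower R (Localization.AtPrime p) (SHens (Localization.AtPrime p)) := IsScalarTower.of_algebraMap_eq (fun _ => rfl)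
  letI : Algebra S (SHens (Localization.AtPrime q)) := ((algebraMap (Localization.AtPrime q) (SHens (Localization.AtPrime q))).comp (algebraMap S (Localization.AtPrime q))).toAlgebra
  haveI : IsScalarTower S (Localization.AtPrime q) (SHens (Localization.AtPrime q)) := IsScalarTower.of_algebraMap_eq (fun _ => rfl)
  letI : Algebra R (SHens (Localization.AtPrime q)) := ((algebraMap S (SHens (Localization.AtPrime q))).comp (algebraMap R S)).toAlgebra
  haveI : IsScalarTower R S (SHens (Localization.AtPrime q)) := IsScalarTower.of_algebraMap_eq (fun _ => rfl)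
  let f₀ : (Localization.AtPrime p) →+* (Localization.AtPrime q) := Localization.localRingHom p q (algebraMap R S) (q.over_def p)
  haveI : IsLocalHom f₀ := Localization.isLocalHom_localRingHom p q _ (q.over_def p)
  let f : (Localization.AtPrime p) →+* SHens (Localization.AtPrime q) := (algebraMap (Localization.AtPrime q) (SHens (Localization.AtPrime q))).comp f₀
  haveI : IsLocalHom f := RingHom.isLocalHom_comp _ _
  haveI : HenselianLocalRing (SHens (Localization.AtPrime q)) := hS.henselian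
  haveI : IsSepClosed (ResidueField (SHens (Localization.AtPrime q))) := hS.isSepClosure.sep_closed
  haveI : Algebra.IsSeparable (ResidueField (Localization.AtPrime p)) (ResidueField (SHens (Localization.AtPrime p))) :=
    hR.isSepClosure.separable
  letI algres : Algebra (ResidueField (Localization.AtPrime p)) (ResidueField (SHens (Localization.AtPrime q))) :=
    (ResidueField.map f).toAlgebra
  let σ : ResidueField (SHens (Localization.AtPrime p)) →ₐ[ResidueField (Localization.AtPrime p)] ResidueField (SHens (Localization.AtPrime q)) :=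
    IsSepClosed.lift
  obtain ⟨g, ⟨hg1, hg2⟩, -⟩ := hR.universal (SHens (Localization.AtPrime q)) f
    (σ : ResidueField (SHens (Localization.AtPrime p)) →+* ResidueField (SHens (Localization.AtPrime q))) (by
      apply Ideal.Quotient.ringHom_ext
      ext a
      exact σ.commutes (residue (Localization.AtPrime p) a))
  letI algRhSh : Algebra (SHens (Localization.AtPrime p)) (SHens (Localization.AtPrime q)) := g.toAlgebra
  haveI : IsScalarTower R (SHens (Localization.AtPrime p)) (SHens (Localization.AtPrime q)) := IsScalarTower.of_algebraMap_eq (fun r => by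
    show algebraMap (Localization.AtPrime q) (SHens (Localization.AtPrime q)) (algebraMap S (Localization.AtPrime q) (algebraMap R S r)) =
      g (algebraMap (Localization.AtPrime p) (SHens (Localization.AtPrime p)) (algebraMap R (Localization.AtPrime p) r))
    have h1 := RingHom.congr_fun hg1 (algebraMap R (Localization.AtPrime p) r)
    rw [RingHom.comp_apply] at h1
    rw [h1]
    show _ = algebraMap (Localization.AtPrime q) (SHens (Localization.AtPrime q)) (f₀ (algebraMap R (Localization.AtPrime p) r))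
    rw [Localization.localRingHom_to_map])
  have key := encard_minimalPrimes_eq R S p q (SHens (Localization.AtPrime p)) (SHens (Localization.AtPrime q))
  rw [← Groth.Agent.S9238.result (Localization.AtPrime p) (SHens (Localization.AtPrime p)), ← Groth.Agent.S9238.result (Localization.AtPrime q) (SHens (Localization.AtPrime q)),
    ENat.card_coe_set_eq, ENat.card_coe_set_eq]
  exact key.symm

theorem isGeomUnibranch_iff_numGeomBranches (X : Type u) [CommRing X] [IsLocalRing X] :
    CAlg2.IsGeomUnibranch X ↔ Brnch.numGeomBranches X = 1 := by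
  haveI := Hzl.isStrictHenselization X
  rw [EtaleUnibranch.isGeomUnibranch_iff_hasUniqueMinimalPrime (A := X) (Ash := SHens X),
    hasUniqueMinimalPrime_iff_encard, ← Groth.Agent.S9238.result X (SHens X),
    ENat.card_coe_set_eq]

/-- For `R → S` smooth and `q` over `p`: if `R_p` is geometrically unibranch then so is `S_q`. -/
theorem isGeomUnibranch_localization_of_smooth (hA : CAlg2.IsGeomUnibranch (Localization.AtPrime p)) :
    CAlg2.IsGeomUnibranch (Localization.AtPrime q) := by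
  rw [isGeomUnibranch_iff_numGeomBranches] at hA ⊢
  rw [← numGeomBranches_eq_of_smooth R S p q]
  exact hA

end canonical

/-- Abstract version: `A = (A₀)_p`, `B = (C₀)_q` with `A₀ → C₀` smooth and `A → B` local. -/
theorem isGeomUnibranch_of_smooth_isLocalization {A₀ C₀ : Type u} [CommRing A₀] [CommRing C₀]
    [Algebra A₀ C₀] [Algebra.Smooth A₀ C₀]
    (p : Ideal A₀) [p.IsPrime] (q : Ideal C₀) [q.IsPrime]
    (A : Type u) [CommRing A] [IsLocalRing A] [Algebra A₀ A] [IsLocalization.AtPrime A p]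
    (B : Type u) [CommRing B] [IsLocalRing B] [Algebra C₀ B] [IsLocalization.AtPrime B q]
    [Algebra A₀ B] [IsScalarTower A₀ C₀ B] [Algebra A B] [IsScalarTower A₀ A B]
    [IsLocalHom (algebraMap A B)] (hA : CAlg2.IsGeomUnibranch A) : CAlg2.IsGeomUnibranch B := by
  haveI : q.LiesOver p := ⟨by
    ext x
    rw [Ideal.under_def, Ideal.mem_comap, ← IsLocalization.AtPrime.to_map_mem_maximal_iff A p x,
      ← IsLocalization.AtPrime.to_map_mem_maximal_iff B q (algebraMap A₀ C₀ x),
      ← IsScalarTower.algebraMap_apply A₀ C₀ B, IsScalarTower.algebraMap_apply A₀ A B]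
    constructor
    · intro h
      exact map_nonunit (algebraMap A B) _ h
    · intro h
      by_contra hn
      have hu : IsUnit (algebraMap A₀ A x) := by
        rwa [mem_maximalIdeal, mem_nonunits_iff, not_not] at hn
      exact (mem_maximalIdeal _).mp h (hu.map _)⟩
  let eA : A ≃ₐ[A₀] Localization.AtPrime p := IsLocalization.algEquiv p.primeCompl _ _
  let eB : B ≃ₐ[C₀] Localization.AtPrime q := IsLocalization.algEquiv q.primeCompl _ _
  have h1 : CAlg2.IsGeomUnibranch (Localization.AtPrime p) :=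
    SmoothUnibranch.isGeomUnibranch_of_ringEquiv eA.symm.toRingEquiv hA
  have h2 := isGeomUnibranch_localization_of_smooth A₀ C₀ p q h1
  exact SmoothUnibranch.isGeomUnibranch_of_ringEquiv eB.toRingEquiv h2

end Groth.Agent.Lib.Helper8.SmoothBranches
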