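import Mathlib
import Groth.Prelude
import Groth.Agent.Lib.Helper8.SmoothBranches
import Groth.Agent.Lib.Helper8.Hzl.Reduced

/-!
# Prime ideals extend to prime ideals along strict henselizations of smooth ring maps
-/

set_option autoImplicit false
universe u
open IsLocalRing TensorProduct

namespace Groth.Agent.Lib.Helper8.SmoothBranchesPrime

open Groth.Agent.Lib.Helper8 Groth.Agent.Lib.Helper8.Hzl Groth.Agent.Lib.Helper8.SmoothBranches

section main

variable (R : Type u) [CommRing R] (S : Type u) [CommRing S] [Algebra R S] [Algebra.Smooth R S]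
  (p : Ideal R) [p.IsPrime] (q : Ideal S) [q.IsPrime] [q.LiesOver p]
  (Rh : Type u) [CommRing Rh] [IsLocalRing Rh] [Algebra (Localization.AtPrime p) Rh]
  [IsLocalHom (algebraMap (Localization.AtPrime p) Rh)]
  [Algebra R Rh] [IsScalarTower R (Localization.AtPrime p) Rh]
  (Sh : Type u) [CommRing Sh] [IsLocalRing Sh] [Algebra (Localization.AtPrime q) Sh]
  [IsLocalHom (algebraMap (Localization.AtPrime q) Sh)]
  [Algebra S Sh] [IsScalarTower S (Localization.AtPrime q) Sh] [Algebra R Sh] [IsScalarTower R S Sh]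
  [Algebra Rh Sh] [IsScalarTower R Rh Sh]
  [hR : Hensel.IsStrictHenselization (Localization.AtPrime p) Rh]
  [hS : Hensel.IsStrictHenselization (Localization.AtPrime q) Sh]

include p q hR hS in
/-- For compatible strict henselizations `Rh → Sh` of `R_p → S_q` with `R → S` smooth, the
extension of a prime ideal of `Rh` is a prime ideal of `Sh`. -/
theorem map_isPrime_of_isPrime (𝔭 : Ideal Rh) [h𝔭p : 𝔭.IsPrime] :
    (𝔭.map (algebraMap Rh Sh)).IsPrime := by
  haveI hlocRS : IsLocalHom (algebraMap Rh Sh) := isLocalHom_of_strict R S p q Rh Sh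
  letI algCQSh : Algebra (Localization.AtPrime (tensorPrime R S Rh Sh)) Sh := (locTo R S Rh Sh).toAlgebra
  haveI hlocCQ : IsLocalHom (algebraMap (Localization.AtPrime (tensorPrime R S Rh Sh)) Sh) := isLocalHom_locTo R S Rh Sh
  letI algBCQ : Algebra (Localization.AtPrime q) (Localization.AtPrime (tensorPrime R S Rh Sh)) := (fromLoc R S q Rh Sh).toAlgebra
  haveI hlocBCQ : IsLocalHom (algebraMap (Localization.AtPrime q) (Localization.AtPrime (tensorPrime R S Rh Sh))) :=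
    isLocalHom_fromLoc R S q Rh Sh
  haveI htowBCQ : IsScalarTower (Localization.AtPrime q) (Localization.AtPrime (tensorPrime R S Rh Sh)) Sh :=
    IsScalarTower.of_algebraMap_eq' (locTo_comp_fromLoc R S q Rh Sh).symm
  haveI hSH : Hensel.IsStrictHenselization (Localization.AtPrime (tensorPrime R S Rh Sh)) Sh :=
    isStrictHenselization_of_factor (Localization.AtPrime q) Sh _
      (fun T _ _ g hg τ hτ h hh hres =>
        comp_locTo_eq_strict R S p q Rh Sh T g hg τ
          (fun d => DFunLike.congr_fun hτ (residue _ d)) h hh hres)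
  have hcomp : ∀ y : Rh, algebraMap (Localization.AtPrime (tensorPrime R S Rh Sh)) Sh (algebraMap (Rh ⊗[R] S) (Localization.AtPrime (tensorPrime R S Rh Sh)) (algebraMap Rh (Rh ⊗[R] S) y)) =
      algebraMap Rh Sh y := by
    intro y
    have h1 : algebraMap Rh (Rh ⊗[R] S) y = y ⊗ₜ[R] (1 : S) := by
      rw [Algebra.TensorProduct.algebraMap_apply]
      rfl
    rw [h1]
    show locTo R S Rh Sh (algebraMap _ _ (y ⊗ₜ[R] (1 : S))) = _
    rw [locTo_algebraMap, tensorTo_tmul, map_one, mul_one]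
  have hJ : (Ideal.map (algebraMap (Localization.AtPrime (tensorPrime R S Rh Sh)) Sh) (Ideal.map (algebraMap (Rh ⊗[R] S) (Localization.AtPrime (tensorPrime R S Rh Sh))) (Ideal.map (algebraMap Rh (Rh ⊗[R] S)) 𝔭))) = 𝔭.map (algebraMap Rh Sh) := by
    rw [Ideal.map_map, Ideal.map_map]
    congr 1
    ext y
    exact hcomp y
  have hJne : 𝔭.map (algebraMap Rh Sh) ≠ ⊤ :=
    BranchSumGeom.map_ne_top Rh Sh 𝔭 (Ideal.IsPrime.ne_top h𝔭p)
  have hIQne : (Ideal.map (algebraMap (Rh ⊗[R] S) (Localization.AtPrime (tensorPrime R S Rh Sh))) (Ideal.map (algebraMap Rh (Rh ⊗[R] S)) 𝔭)) ≠ ⊤ := by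
    intro h
    rw [h, Ideal.map_top] at hJ
    exact hJne hJ.symm
  haveI : Nontrivial ((Localization.AtPrime (tensorPrime R S Rh Sh)) ⧸ (Ideal.map (algebraMap (Rh ⊗[R] S) (Localization.AtPrime (tensorPrime R S Rh Sh))) (Ideal.map (algebraMap Rh (Rh ⊗[R] S)) 𝔭))) := Ideal.Quotient.nontrivial_iff.mpr hIQne
  haveI hDloc : IsLocalRing ((Localization.AtPrime (tensorPrime R S Rh Sh)) ⧸ (Ideal.map (algebraMap (Rh ⊗[R] S) (Localization.AtPrime (tensorPrime R S Rh Sh))) (Ideal.map (algebraMap Rh (Rh ⊗[R] S)) 𝔭))) :=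
    IsLocalRing.of_surjective' (Ideal.Quotient.mk _) Ideal.Quotient.mk_surjective
  haveI : Nontrivial (Sh ⧸ (Ideal.map (algebraMap (Localization.AtPrime (tensorPrime R S Rh Sh)) Sh) (Ideal.map (algebraMap (Rh ⊗[R] S) (Localization.AtPrime (tensorPrime R S Rh Sh))) (Ideal.map (algebraMap Rh (Rh ⊗[R] S)) 𝔭)))) := Ideal.Quotient.nontrivial_iff.mpr (by rw [hJ]; exact hJne)
  haveI hTloc : IsLocalRing (Sh ⧸ (Ideal.map (algebraMap (Localization.AtPrime (tensorPrime R S Rh Sh)) Sh) (Ideal.map (algebraMap (Rh ⊗[R] S) (Localization.AtPrime (tensorPrime R S Rh Sh))) (Ideal.map (algebraMap Rh (Rh ⊗[R] S)) 𝔭)))) :=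
    IsLocalRing.of_surjective' (Ideal.Quotient.mk _) Ideal.Quotient.mk_surjective
  haveI := BranchSumGeom.isLocalHom_quotientMap (Localization.AtPrime (tensorPrime R S Rh Sh)) Sh (Ideal.map (algebraMap (Rh ⊗[R] S) (Localization.AtPrime (tensorPrime R S Rh Sh))) (Ideal.map (algebraMap Rh (Rh ⊗[R] S)) 𝔭))
  haveI := BranchSumGeom.isStrictHenselization_quotient (Localization.AtPrime (tensorPrime R S Rh Sh)) Sh (Ideal.map (algebraMap (Rh ⊗[R] S) (Localization.AtPrime (tensorPrime R S Rh Sh))) (Ideal.map (algebraMap Rh (Rh ⊗[R] S)) 𝔭))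
  -- the base `Rh ⧸ 𝔭`
  haveI hAdom : IsDomain (Rh ⧸ 𝔭) := Ideal.Quotient.isDomain 𝔭
  haveI hAloc : IsLocalRing (Rh ⧸ 𝔭) :=
    IsLocalRing.of_surjective' (Ideal.Quotient.mk 𝔭) Ideal.Quotient.mk_surjective
  haveI : HenselianLocalRing Rh := hR.henselian
  haveI : Algebra.IsIntegral Rh (Rh ⧸ 𝔭) :=
    Algebra.isIntegral_of_surjective Ideal.Quotient.mk_surjective
  haveI hAhens : HenselianLocalRing (Rh ⧸ 𝔭) := henselianLocalRing_of_isIntegral Rh (Rh ⧸ 𝔭)
  haveI : IsLocalHom (Ideal.Quotient.mk 𝔭) :=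
    BranchSumGeom.isLocalHom_mk 𝔭 (Ideal.IsPrime.ne_top h𝔭p)
  haveI : IsSepClosed (ResidueField Rh) := hR.isSepClosure.sep_closed
  haveI hAsc : IsSepClosed (ResidueField (Rh ⧸ 𝔭)) :=
    isSepClosed_of_ringEquiv (RingEquiv.ofBijective _
      (BranchSumGeom.residueMap_bijective (Ideal.Quotient.mk 𝔭) Ideal.Quotient.mk_surjective))
  have hAGU : CAlg2.IsGeomUnibranch (Rh ⧸ 𝔭) :=
    SmoothUnibranch.isGeomUnibranch_of_strictlyHenselian_domain (Rh ⧸ 𝔭)
  -- the smooth algebra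
  haveI hSmooth : Algebra.Smooth (Rh ⧸ 𝔭) ((Rh ⊗[R] S) ⧸ (Ideal.map (algebraMap Rh (Rh ⊗[R] S)) 𝔭)) :=
    Algebra.Smooth.of_equiv (Algebra.TensorProduct.quotIdealMapEquivQuotTensor (Rh ⊗[R] S) 𝔭).symm
  haveI hlocD : IsLocalization (Algebra.algebraMapSubmonoid ((Rh ⊗[R] S) ⧸ (Ideal.map (algebraMap Rh (Rh ⊗[R] S)) 𝔭)) (tensorPrime R S Rh Sh).primeCompl) ((Localization.AtPrime (tensorPrime R S Rh Sh)) ⧸ (Ideal.map (algebraMap (Rh ⊗[R] S) (Localization.AtPrime (tensorPrime R S Rh Sh))) (Ideal.map (algebraMap Rh (Rh ⊗[R] S)) 𝔭))) :=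
    inferInstance
  haveI hAtPrime := SmoothUnibranch.isLocalization_atPrime_comap_maximalIdeal
    (Algebra.algebraMapSubmonoid ((Rh ⊗[R] S) ⧸ (Ideal.map (algebraMap Rh (Rh ⊗[R] S)) 𝔭)) (tensorPrime R S Rh Sh).primeCompl) ((Localization.AtPrime (tensorPrime R S Rh Sh)) ⧸ (Ideal.map (algebraMap (Rh ⊗[R] S) (Localization.AtPrime (tensorPrime R S Rh Sh))) (Ideal.map (algebraMap Rh (Rh ⊗[R] S)) 𝔭)))
  have hle𝔭 : 𝔭 ≤ Ideal.comap (algebraMap Rh (Localization.AtPrime (tensorPrime R S Rh Sh))) (Ideal.map (algebraMap (Rh ⊗[R] S) (Localization.AtPrime (tensorPrime R S Rh Sh))) (Ideal.map (algebraMap Rh (Rh ⊗[R] S)) 𝔭)) := by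
    intro a ha
    rw [Ideal.mem_comap, IsScalarTower.algebraMap_apply Rh (Rh ⊗[R] S) (Localization.AtPrime (tensorPrime R S Rh Sh))]
    exact Ideal.mem_map_of_mem _ (Ideal.mem_map_of_mem _ ha)
  letI algAD : Algebra (Rh ⧸ 𝔭) ((Localization.AtPrime (tensorPrime R S Rh Sh)) ⧸ (Ideal.map (algebraMap (Rh ⊗[R] S) (Localization.AtPrime (tensorPrime R S Rh Sh))) (Ideal.map (algebraMap Rh (Rh ⊗[R] S)) 𝔭))) := Ideal.Quotient.algebraQuotientOfLEComap hle𝔭
  haveI : IsScalarTower (Rh ⧸ 𝔭) ((Rh ⊗[R] S) ⧸ (Ideal.map (algebraMap Rh (Rh ⊗[R] S)) 𝔭)) ((Localization.AtPrime (tensorPrime R S Rh Sh)) ⧸ (Ideal.map (algebraMap (Rh ⊗[R] S) (Localization.AtPrime (tensorPrime R S Rh Sh))) (Ideal.map (algebraMap Rh (Rh ⊗[R] S)) 𝔭))) := IsScalarTower.of_algebraMap_eq (fun x => by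
    obtain ⟨a, rfl⟩ := Ideal.Quotient.mk_surjective x
    show Ideal.Quotient.mk (Ideal.map (algebraMap (Rh ⊗[R] S) (Localization.AtPrime (tensorPrime R S Rh Sh))) (Ideal.map (algebraMap Rh (Rh ⊗[R] S)) 𝔭)) (algebraMap Rh (Localization.AtPrime (tensorPrime R S Rh Sh)) a) =
      Ideal.Quotient.mk (Ideal.map (algebraMap (Rh ⊗[R] S) (Localization.AtPrime (tensorPrime R S Rh Sh))) (Ideal.map (algebraMap Rh (Rh ⊗[R] S)) 𝔭)) (algebraMap (Rh ⊗[R] S) (Localization.AtPrime (tensorPrime R S Rh Sh)) (algebraMap Rh (Rh ⊗[R] S) a))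
    rw [IsScalarTower.algebraMap_apply Rh (Rh ⊗[R] S) (Localization.AtPrime (tensorPrime R S Rh Sh))])
  haveI : IsLocalHom (algebraMap (Rh ⧸ 𝔭) ((Localization.AtPrime (tensorPrime R S Rh Sh)) ⧸ (Ideal.map (algebraMap (Rh ⊗[R] S) (Localization.AtPrime (tensorPrime R S Rh Sh))) (Ideal.map (algebraMap Rh (Rh ⊗[R] S)) 𝔭)))) := ⟨fun ā hā => by
    obtain ⟨a, rfl⟩ := Ideal.Quotient.mk_surjective ā
    have h1 : IsUnit (Ideal.Quotient.mk (Ideal.map (algebraMap (Rh ⊗[R] S) (Localization.AtPrime (tensorPrime R S Rh Sh))) (Ideal.map (algebraMap Rh (Rh ⊗[R] S)) 𝔭)) (algebraMap Rh (Localization.AtPrime (tensorPrime R S Rh Sh)) a)) := hā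
    rw [IsScalarTower.algebraMap_apply Rh (Rh ⊗[R] S) (Localization.AtPrime (tensorPrime R S Rh Sh))] at h1
    haveI : IsLocalHom (Ideal.Quotient.mk (Ideal.map (algebraMap (Rh ⊗[R] S) (Localization.AtPrime (tensorPrime R S Rh Sh))) (Ideal.map (algebraMap Rh (Rh ⊗[R] S)) 𝔭))) := BranchSumGeom.isLocalHom_mk _ hIQne
    have h2 : IsUnit (algebraMap (Rh ⊗[R] S) (Localization.AtPrime (tensorPrime R S Rh Sh)) (algebraMap Rh (Rh ⊗[R] S) a)) :=
      isUnit_of_map_unit (Ideal.Quotient.mk (Ideal.map (algebraMap (Rh ⊗[R] S) (Localization.AtPrime (tensorPrime R S Rh Sh))) (Ideal.map (algebraMap Rh (Rh ⊗[R] S)) 𝔭))) _ h1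
    have h3 : IsUnit (algebraMap Rh Sh a) := by
      rw [← hcomp a]
      exact h2.map (algebraMap (Localization.AtPrime (tensorPrime R S Rh Sh)) Sh)
    have h4 : IsUnit a := isUnit_of_map_unit (algebraMap Rh Sh) a h3
    exact h4.map _⟩
  obtain ⟨hDdom, hGU⟩ := SmoothUnibranch.isGeomUnibranch_of_smooth (Rh ⧸ 𝔭) ((Rh ⊗[R] S) ⧸ (Ideal.map (algebraMap Rh (Rh ⊗[R] S)) 𝔭))
    ((maximalIdeal ((Localization.AtPrime (tensorPrime R S Rh Sh)) ⧸ (Ideal.map (algebraMap (Rh ⊗[R] S) (Localization.AtPrime (tensorPrime R S Rh Sh))) (Ideal.map (algebraMap Rh (Rh ⊗[R] S)) 𝔭)))).comap (algebraMap ((Rh ⊗[R] S) ⧸ (Ideal.map (algebraMap Rh (Rh ⊗[R] S)) 𝔭)) ((Localization.AtPrime (tensorPrime R S Rh Sh)) ⧸ (Ideal.map (algebraMap (Rh ⊗[R] S) (Localization.AtPrime (tensorPrime R S Rh Sh))) (Ideal.map (algebraMap Rh (Rh ⊗[R] S)) 𝔭))))) ((Localization.AtPrime (tensorPrime R S Rh Sh)) ⧸ (Ideal.map (algebraMap (Rh ⊗[R] S) (Localization.AtPrime (tensorPrime R S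 Rh Sh))) (Ideal.map (algebraMap Rh (Rh ⊗[R] S)) 𝔭))) hAGU
  have huniq : CAlgX.HasUniqueMinimalPrime (Sh ⧸ (Ideal.map (algebraMap (Localization.AtPrime (tensorPrime R S Rh Sh)) Sh) (Ideal.map (algebraMap (Rh ⊗[R] S) (Localization.AtPrime (tensorPrime R S Rh Sh))) (Ideal.map (algebraMap Rh (Rh ⊗[R] S)) 𝔭)))) :=
    (EtaleUnibranch.isGeomUnibranch_iff_hasUniqueMinimalPrime (A := ((Localization.AtPrime (tensorPrime R S Rh Sh)) ⧸ (Ideal.map (algebraMap (Rh ⊗[R] S) (Localization.AtPrime (tensorPrime R S Rh Sh))) (Ideal.map (algebraMap Rh (Rh ⊗[R] S)) 𝔭)))) (Ash := (Sh ⧸ (Ideal.map (algebraMap (Localization.AtPrime (tensorPrime R S Rh Sh)) Sh) (Ideal.map (algebraMap (Rh ⊗[R] S) (Localization.AtPrime (tensorPrime R S Rh Sh))) (Ideal.map (algebraMap Rh (Rh ⊗[R] S)) 𝔭)))))).mp hGU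
  haveI := hDdom
  haveI hTred : IsReduced (Sh ⧸ (Ideal.map (algebraMap (Localization.AtPrime (tensorPrime R S Rh Sh)) Sh) (Ideal.map (algebraMap (Rh ⊗[R] S) (Localization.AtPrime (tensorPrime R S Rh Sh))) (Ideal.map (algebraMap Rh (Rh ⊗[R] S)) 𝔭)))) := (strictHenselization_isReduced_iff ((Localization.AtPrime (tensorPrime R S Rh Sh)) ⧸ (Ideal.map (algebraMap (Rh ⊗[R] S) (Localization.AtPrime (tensorPrime R S Rh Sh))) (Ideal.map (algebraMap Rh (Rh ⊗[R] S)) 𝔭))) (Sh ⧸ (Ideal.map (algebraMap (Localization.AtPrime (tensorPrime R S Rh Sh)) Sh) (Ideal.map (algebraMap (Rh ⊗[R] S) (Localization.AtPrime (tensorPrime R S Rh Sh))) (Ideal.map (algebraMap Rh (Rh ⊗[R] S)) 𝔭))))).mp inferInstance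
  have hnil : nilradical (Sh ⧸ (Ideal.map (algebraMap (Localization.AtPrime (tensorPrime R S Rh Sh)) Sh) (Ideal.map (algebraMap (Rh ⊗[R] S) (Localization.AtPrime (tensorPrime R S Rh Sh))) (Ideal.map (algebraMap Rh (Rh ⊗[R] S)) 𝔭)))) = ⊥ := by rw [nilradical_eq_zero, Ideal.zero_eq_bot]
  obtain ⟨P, hP, hPuniq⟩ := huniq
  have hPbot : P = ⊥ := by
    rw [← hnil, nilradical_eq_sInf]
    apply le_antisymm
    · apply le_sInf
      intro J₀ hJ₀
      haveI : J₀.IsPrime := hJ₀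
      obtain ⟨Q₀, hQ₀, hQJ⟩ := Ideal.exists_minimalPrimes_le (I := ⊥) (J := J₀) bot_le
      rw [hPuniq Q₀ hQ₀] at hQJ
      exact hQJ
    · exact sInf_le hP.1.1
  haveI : (⊥ : Ideal (Sh ⧸ (Ideal.map (algebraMap (Localization.AtPrime (tensorPrime R S Rh Sh)) Sh) (Ideal.map (algebraMap (Rh ⊗[R] S) (Localization.AtPrime (tensorPrime R S Rh Sh))) (Ideal.map (algebraMap Rh (Rh ⊗[R] S)) 𝔭))))).IsPrime := hPbot ▸ hP.1.1
  haveI : IsDomain (Sh ⧸ (Ideal.map (algebraMap (Localization.AtPrime (tensorPrime R S Rh Sh)) Sh) (Ideal.map (algebraMap (Rh ⊗[R] S) (Localization.AtPrime (tensorPrime R S Rh Sh))) (Ideal.map (algebraMap Rh (Rh ⊗[R] S)) 𝔭)))) := IsDomain.of_bot_isPrime _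
  have hJprime : (Ideal.map (algebraMap (Localization.AtPrime (tensorPrime R S Rh Sh)) Sh) (Ideal.map (algebraMap (Rh ⊗[R] S) (Localization.AtPrime (tensorPrime R S Rh Sh))) (Ideal.map (algebraMap Rh (Rh ⊗[R] S)) 𝔭))).IsPrime := (Ideal.Quotient.isDomain_iff_prime _).mp inferInstance
  rw [← hJ]
  exact hJprime

end main

section canonical

variable (R : Type u) [CommRing R] (S : Type u) [CommRing S] [Algebra R S]
  (p : Ideal R) [p.IsPrime] (q : Ideal S) [q.IsPrime] [q.LiesOver p]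
  (Rh : Type u) [CommRing Rh] [IsLocalRing Rh] [Algebra (Localization.AtPrime p) Rh]
  [IsLocalHom (algebraMap (Localization.AtPrime p) Rh)] [hR : Hensel.IsStrictHenselization (Localization.AtPrime p) Rh]
  (Sh : Type u) [CommRing Sh] [IsLocalRing Sh] [Algebra (Localization.AtPrime q) Sh]
  [IsLocalHom (algebraMap (Localization.AtPrime q) Sh)] [hS : Hensel.IsStrictHenselization (Localization.AtPrime q) Sh]

/-- Any two strict henselizations of `R_p` and `S_q` are connected by a map over `R_p → S_q`. -/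
theorem exists_compat : ∃ g : Rh →+* Sh, g.comp (algebraMap (Localization.AtPrime p) Rh) =
    (algebraMap (Localization.AtPrime q) Sh).comp (Localization.localRingHom p q (algebraMap R S) (q.over_def p)) := by
  let f₀ : (Localization.AtPrime p) →+* (Localization.AtPrime q) := Localization.localRingHom p q (algebraMap R S) (q.over_def p)
  haveI : IsLocalHom f₀ := Localization.isLocalHom_localRingHom p q _ (q.over_def p)
  let f : (Localization.AtPrime p) →+* Sh := (algebraMap (Localization.AtPrime q) Sh).comp f₀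
  haveI : IsLocalHom f := RingHom.isLocalHom_comp _ _
  haveI : HenselianLocalRing Sh := hS.henselian
  haveI : IsSepClosed (ResidueField Sh) := hS.isSepClosure.sep_closed
  haveI : Algebra.IsSeparable (ResidueField (Localization.AtPrime p)) (ResidueField Rh) := hR.isSepClosure.separable
  letI algres : Algebra (ResidueField (Localization.AtPrime p)) (ResidueField Sh) := (ResidueField.map f).toAlgebra
  let σ : ResidueField Rh →ₐ[ResidueField (Localization.AtPrime p)] ResidueField Sh := IsSepClosed.lift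
  obtain ⟨g, ⟨hg1, hg2⟩, -⟩ := hR.universal Sh f
    (σ : ResidueField Rh →+* ResidueField Sh) (by
      apply Ideal.Quotient.ringHom_ext
      ext a
      exact σ.commutes (residue (Localization.AtPrime p) a))
  exact ⟨g, hg1⟩

variable [Algebra.Smooth R S]

include hR hS in
/-- Prime elements of a strict henselization of `R_p` stay prime in a strict henselization of
`S_q`, for `R → S` smooth. -/
theorem prime_map_of_prime (g : Rh →+* Sh) (hg : g.comp (algebraMap (Localization.AtPrime p) Rh) =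
      (algebraMap (Localization.AtPrime q) Sh).comp (Localization.localRingHom p q (algebraMap R S) (q.over_def p)))
    (x : Rh) (hx : Prime x) : Prime (g x) := by
  letI : Algebra R Rh := ((algebraMap (Localization.AtPrime p) Rh).comp (algebraMap R (Localization.AtPrime p))).toAlgebra
  haveI : IsScalarTower R (Localization.AtPrime p) Rh := IsScalarTower.of_algebraMap_eq (fun _ => rfl)
  letI : Algebra S Sh := ((algebraMap (Localization.AtPrime q) Sh).comp (algebraMap S (Localization.AtPrime q))).toAlgebra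
  haveI : IsScalarTower S (Localization.AtPrime q) Sh := IsScalarTower.of_algebraMap_eq (fun _ => rfl)
  letI : Algebra R Sh := ((algebraMap S Sh).comp (algebraMap R S)).toAlgebra
  haveI : IsScalarTower R S Sh := IsScalarTower.of_algebraMap_eq (fun _ => rfl)
  letI algRhSh : Algebra Rh Sh := g.toAlgebra
  haveI : IsScalarTower R Rh Sh := IsScalarTower.of_algebraMap_eq (fun r => by
    show algebraMap (Localization.AtPrime q) Sh (algebraMap S (Localization.AtPrime q) (algebraMap R S r)) =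
      g (algebraMap (Localization.AtPrime p) Rh (algebraMap R (Localization.AtPrime p) r))
    have h1 := RingHom.congr_fun hg (algebraMap R (Localization.AtPrime p) r)
    rw [RingHom.comp_apply] at h1
    rw [h1, RingHom.comp_apply, Localization.localRingHom_to_map])
  haveI hx' : (Ideal.span {x}).IsPrime := (Ideal.span_singleton_prime hx.ne_zero).mpr hx
  have h1 := map_isPrime_of_isPrime R S p q Rh Sh (Ideal.span {x})
  rw [Ideal.map_span, Set.image_singleton] at h1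
  haveI := flat_shens R S p q Rh Sh
  haveI : IsLocalHom (algebraMap Rh Sh) := isLocalHom_of_strict R S p q Rh Sh
  haveI : Module.FaithfullyFlat Rh Sh := Module.FaithfullyFlat.of_flat_of_isLocalHom
  have hinj : Function.Injective (algebraMap Rh Sh) := FaithfulSMul.algebraMap_injective Rh Sh
  have hne : algebraMap Rh Sh x ≠ 0 := fun h0 => hx.ne_zero (hinj (by rw [h0, map_zero]))
  exact (Ideal.span_singleton_prime hne).mp h1

end canonical

end Groth.Agent.Lib.Helper8.SmoothBranchesPrime
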