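import Mathlib
import Groth.Prelude
import Groth.Agent.Lib.Helper8.Hzl.QuasiFiniteHens
import Groth.Agent.Lib.Helper8.Hzl.TensorSHens
import Groth.Agent.Lib.Helper8.Hzl.Dim
import Groth.Agent.Lib.Helper8.UnibranchMinPrime
import Groth.Agent.Lib.Helper8.UnibranchHens
import Groth.Agent.Lib.Helper8.SmoothBranchesPrime
import Groth.Agent.S2135

/-!
# Universal going-down for quasi-finite algebras over geometrically unibranch bases

Let `R → S` be of finite type and quasi-finite, all local rings of `R` geometrically unibranch,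
and every minimal prime of `S` lying over a minimal prime of `R`. Then for every `R`-algebra `C`,
going-down holds for `C → C ⊗[R] S` (`hasGoingDown_tensor`).
-/

set_option autoImplicit false
universe u
open IsLocalRing TensorProduct AlgebraicGeometry CategoryTheory CategoryTheory.Limits

namespace Groth.Agent.Lib.Helper8.QFGoingDown

open Groth.Agent.Lib.Helper8 Groth.Agent.Lib.Helper8.Hzl Groth.Agent.Lib.Helper8.UnibranchHens

section PrimeTensor

/-- Two primes with the same contraction to the base come from a prime of the tensor product. -/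
theorem exists_prime_tensor {R R₁ R₂ : Type u} [CommRing R] [CommRing R₁] [CommRing R₂]
    [Algebra R R₁] [Algebra R R₂] (P₁ : Ideal R₁) [P₁.IsPrime] (P₂ : Ideal R₂) [P₂.IsPrime]
    (h : P₁.comap (algebraMap R R₁) = P₂.comap (algebraMap R R₂)) :
    ∃ P : Ideal (R₁ ⊗[R] R₂), P.IsPrime ∧ P.comap (algebraMap R₁ (R₁ ⊗[R] R₂)) = P₁ ∧
      P.comap (Algebra.TensorProduct.includeRight : R₂ →ₐ[R] R₁ ⊗[R] R₂).toRingHom = P₂ := by
  let x₁ : Spec (CommRingCat.of R₁) := (⟨P₁, inferInstance⟩ : PrimeSpectrum R₁)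
  let x₂ : Spec (CommRingCat.of R₂) := (⟨P₂, inferInstance⟩ : PrimeSpectrum R₂)
  have hx : Spec.map (CommRingCat.ofHom (algebraMap R R₁)) x₁ =
      Spec.map (CommRingCat.ofHom (algebraMap R R₂)) x₂ := PrimeSpectrum.ext h
  obtain ⟨z, hz1, hz2⟩ := Scheme.Pullback.exists_preimage_pullback x₁ x₂ hx
  let w : Spec (CommRingCat.of (R₁ ⊗[R] R₂)) := (pullbackSpecIso R R₁ R₂).hom z
  have hw1 : Spec.map (CommRingCat.ofHom (algebraMap R₁ (R₁ ⊗[R] R₂))) w = x₁ := by
    rw [← hz1, ← pullbackSpecIso_hom_fst' R R₁ R₂, Scheme.Hom.comp_apply]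
  have hw2 : Spec.map (CommRingCat.ofHom
      (Algebra.TensorProduct.includeRight : R₂ →ₐ[R] R₁ ⊗[R] R₂).toRingHom) w = x₂ := by
    rw [← hz2, ← pullbackSpecIso_hom_snd R R₁ R₂, Scheme.Hom.comp_apply]
    rfl
  refine ⟨w.asIdeal, w.isPrime, ?_, ?_⟩
  · exact congrArg PrimeSpectrum.asIdeal hw1
  · exact congrArg PrimeSpectrum.asIdeal hw2

/-- Going-down for the flat map `C → A ⊗[R] C`. -/
theorem goingDown_includeRight (R A C : Type u) [CommRing R] [CommRing A] [CommRing C]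
    [Algebra R A] [Algebra R C] [Module.Flat R A]
    (P : Ideal (A ⊗[R] C)) [P.IsPrime] (c : Ideal C) [c.IsPrime]
    (hc : c ≤ P.comap (Algebra.TensorProduct.includeRight : C →ₐ[R] A ⊗[R] C).toRingHom) :
    ∃ P' : Ideal (A ⊗[R] C), P'.IsPrime ∧ P' ≤ P ∧
      P'.comap (Algebra.TensorProduct.includeRight : C →ₐ[R] A ⊗[R] C).toRingHom = c := by
  let e : C ⊗[R] A ≃ₐ[R] A ⊗[R] C := Algebra.TensorProduct.comm R C A
  have he : ∀ x : C, e (algebraMap C (C ⊗[R] A) x) = (1 : A) ⊗ₜ[R] x := fun x => by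
    rw [Algebra.TensorProduct.algebraMap_apply]
    exact Algebra.TensorProduct.comm_tmul R _ _
  let P₀ : Ideal (C ⊗[R] A) := P.comap (e : C ⊗[R] A →+* A ⊗[R] C)
  haveI : P₀.IsPrime := Ideal.comap_isPrime _ _
  have hle : c ≤ P₀.under C := by
    intro x hx
    have h1 := hc hx
    rw [Ideal.mem_comap] at h1
    rw [Ideal.under_def, Ideal.mem_comap, Ideal.mem_comap]
    change e (algebraMap C (C ⊗[R] A) x) ∈ P
    rw [he]
    exact h1
  obtain ⟨P₁, hP₁le, hP₁p, hP₁o⟩ := Ideal.exists_ideal_le_liesOver_of_le (p := c) (q := P₀.under C) P₀ hle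
  refine ⟨P₁.comap (e.symm : A ⊗[R] C →+* C ⊗[R] A), Ideal.comap_isPrime _ _, ?_, ?_⟩
  · intro x hx
    rw [Ideal.mem_comap] at hx
    have h1 := hP₁le hx
    rw [Ideal.mem_comap] at h1
    change e (e.symm x) ∈ P at h1
    rwa [e.apply_symm_apply] at h1
  · rw [hP₁o.over]
    ext x
    rw [Ideal.mem_comap, Ideal.mem_comap, Ideal.under_def, Ideal.mem_comap]
    change e.symm ((1 : A) ⊗ₜ[R] x) ∈ P₁ ↔ _
    rw [← he, e.symm_apply_apply]

end PrimeTensor

section Unique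

attribute [local instance] Algebra.TensorProduct.rightAlgebra

/-- If `R'` is local with residue field purely inseparable over the image of `R`, then a prime of
`R' ⊗[R] S` containing the image of the maximal ideal of `R'` is determined by its contraction
to `S`. -/
theorem prime_eq_of_pi (R R' S : Type u) [CommRing R] [CommRing R'] [IsLocalRing R'] [Algebra R R']
    [CommRing S] [Algebra R S]
    (hpi : ∀ t : R', ∃ (n : ℕ) (y : R),
      t ^ (ringExpChar (R' ⧸ maximalIdeal R')) ^ n - algebraMap R R' y ∈ maximalIdeal R')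
    (P₁ P₂ : Ideal (R' ⊗[R] S)) [hP₁ : P₁.IsPrime] [hP₂ : P₂.IsPrime]
    (h₁ : maximalIdeal R' ≤ P₁.comap (algebraMap R' (R' ⊗[R] S)))
    (h₂ : maximalIdeal R' ≤ P₂.comap (algebraMap R' (R' ⊗[R] S)))
    (h : P₁.comap (algebraMap S (R' ⊗[R] S)) = P₂.comap (algebraMap S (R' ⊗[R] S))) :
    P₁ = P₂ := by
  let J : Ideal (R' ⊗[R] S) := (maximalIdeal R').map (algebraMap R' (R' ⊗[R] S))
  have hJ₁ : J ≤ P₁ := Ideal.map_le_iff_le_comap.mpr h₁
  have hJ₂ : J ≤ P₂ := Ideal.map_le_iff_le_comap.mpr h₂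
  have hJne : J ≠ ⊤ := fun h' => hP₁.ne_top (top_le_iff.mp (h' ▸ hJ₁))
  haveI : Nontrivial ((R' ⊗[R] S) ⧸ J) := Ideal.Quotient.nontrivial_iff.mpr hJne
  letI : Field (R' ⧸ maximalIdeal R') := Ideal.Quotient.field _
  let φ : R' ⧸ maximalIdeal R' →+* (R' ⊗[R] S) ⧸ J :=
    Ideal.Quotient.lift _ ((Ideal.Quotient.mk J).comp (algebraMap R' (R' ⊗[R] S)))
      (fun a ha => by
        rw [RingHom.comp_apply, Ideal.Quotient.eq_zero_iff_mem]
        exact Ideal.mem_map_of_mem _ ha)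
  set q := ringExpChar (R' ⧸ maximalIdeal R') with hq
  haveI : ExpChar (R' ⧸ maximalIdeal R') q := ringExpChar.expChar _
  haveI : ExpChar ((R' ⊗[R] S) ⧸ J) q := expChar_of_injective_ringHom φ.injective q
  let mkS : S →+* (R' ⊗[R] S) ⧸ J := (Ideal.Quotient.mk J).comp (algebraMap S (R' ⊗[R] S))
  have key : ∀ t : R' ⊗[R] S, ∃ (n : ℕ) (σ : S), (Ideal.Quotient.mk J t) ^ q ^ n = mkS σ := by
    intro t
    induction t using TensorProduct.induction_on with
    | zero => exact ⟨0, 0, by simp⟩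
    | tmul a s =>
      obtain ⟨n, r, hr⟩ := hpi a
      refine ⟨n, algebraMap R S r * s ^ q ^ n, ?_⟩
      have e1 : a ⊗ₜ[R] s = algebraMap R' (R' ⊗[R] S) a * algebraMap S (R' ⊗[R] S) s := by
        rw [Algebra.TensorProduct.algebraMap_apply, Algebra.TensorProduct.right_algebraMap_apply]
        simp
      have e2 : (Ideal.Quotient.mk J (algebraMap R' (R' ⊗[R] S) a)) ^ q ^ n =
          mkS (algebraMap R S r) := by
        rw [← map_pow, ← map_pow]
        change Ideal.Quotient.mk J _ = Ideal.Quotient.mk J (algebraMap S (R' ⊗[R] S) (algebraMap R S r))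
        rw [Ideal.Quotient.eq, ← IsScalarTower.algebraMap_apply R S (R' ⊗[R] S),
          IsScalarTower.algebraMap_apply R R' (R' ⊗[R] S), ← map_sub]
        exact Ideal.mem_map_of_mem _ hr
      rw [e1, map_mul, mul_pow, e2, map_mul, map_pow]
      rfl
    | add x y hx hy =>
      obtain ⟨n, σ, h1⟩ := hx
      obtain ⟨m, τ, h2⟩ := hy
      refine ⟨n + m, σ ^ q ^ m + τ ^ q ^ n, ?_⟩
      rw [map_add, add_pow_expChar_pow, pow_add, pow_mul, h1, mul_comm (q ^ n) (q ^ m), pow_mul, h2,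
        map_add, map_pow, map_pow]
  have hmem : ∀ (P : Ideal (R' ⊗[R] S)), P.IsPrime → J ≤ P → ∀ (t : R' ⊗[R] S) (n : ℕ) (σ : S),
      (Ideal.Quotient.mk J t) ^ q ^ n = mkS σ →
        (t ∈ P ↔ σ ∈ P.comap (algebraMap S (R' ⊗[R] S))) := by
    intro P hP hJP t n σ h'
    have h1 : t ^ q ^ n - algebraMap S (R' ⊗[R] S) σ ∈ P := by
      apply hJP
      rw [← Ideal.Quotient.eq_zero_iff_mem, map_sub, map_pow, h']
      exact sub_self _
    have hqpos : q ^ n ≠ 0 := (pow_pos (expChar_pos (R' ⧸ maximalIdeal R') q) n).ne'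
    constructor
    · intro ht
      have h2 := P.sub_mem (P.pow_mem_of_mem ht _ (Nat.pos_of_ne_zero hqpos)) h1
      rw [Ideal.mem_comap]
      simpa using h2
    · intro hσ
      have h3 : t ^ q ^ n ∈ P := by
        have h2 := P.add_mem h1 (Ideal.mem_comap.mp hσ)
        simpa using h2
      exact hP.mem_of_pow_mem _ h3
  ext t
  obtain ⟨n, σ, hk⟩ := key t
  rw [hmem P₁ hP₁ hJ₁ t n σ hk, hmem P₂ hP₂ hJ₂ t n σ hk, h]

/-- Universal lifting of generizations at the closed point for an integral local extension with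
purely inseparable residue field extension which is surjective on spectra. -/
theorem exists_le_of_pi (R R' S : Type u) [CommRing R] [IsLocalRing R] [CommRing R'] [IsLocalRing R']
    [Algebra R R'] [Algebra.IsIntegral R R'] [CommRing S] [Algebra R S]
    (hpi : ∀ t : R', ∃ (n : ℕ) (y : R),
      t ^ (ringExpChar (R' ⧸ maximalIdeal R')) ^ n - algebraMap R R' y ∈ maximalIdeal R')
    (hsurj : ∀ P : Ideal R, P.IsPrime → ∃ Q : Ideal R', Q.IsPrime ∧ Q.comap (algebraMap R R') = P)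
    (M : Ideal (R' ⊗[R] S)) [hM : M.IsPrime]
    (hM1 : maximalIdeal R' ≤ M.comap (algebraMap R' (R' ⊗[R] S)))
    (c : Ideal S) [hcp : c.IsPrime] (hc : c ≤ M.comap (algebraMap S (R' ⊗[R] S))) :
    ∃ P : Ideal (R' ⊗[R] S), P.IsPrime ∧ P ≤ M ∧ P.comap (algebraMap S (R' ⊗[R] S)) = c := by
  haveI := isIntegral_right' R R' S
  obtain ⟨P₀, hP₀, hP₀c⟩ := hsurj (c.comap (algebraMap R S)) (Ideal.comap_isPrime _ _)
  obtain ⟨P, hP, -, hP2⟩ := exists_prime_tensor (R := R) P₀ c hP₀c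
  have hP2' : P.comap (algebraMap S (R' ⊗[R] S)) = c := hP2
  haveI : (M.comap (algebraMap S (R' ⊗[R] S))).IsPrime := Ideal.comap_isPrime _ _
  obtain ⟨P', hP'le, hP'prime, hP'c⟩ := Ideal.exists_ideal_over_prime_of_isIntegral_of_isPrime
    (M.comap (algebraMap S (R' ⊗[R] S))) P (by rw [hP2']; exact hc)
  -- the contraction of `M` to `R'` is the maximal ideal
  have hMR' : M.comap (algebraMap R' (R' ⊗[R] S)) = maximalIdeal R' :=
    le_antisymm (le_maximalIdeal (Ideal.comap_ne_top _ hM.ne_top)) hM1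
  -- the maximal ideal of `R'` lies over the maximal ideal of `R`
  have hmm : (maximalIdeal R').comap (algebraMap R R') = maximalIdeal R :=
    eq_maximalIdeal (Ideal.isMaximal_comap_of_isIntegral_of_isMaximal (maximalIdeal R'))
  have hP'M : P' = M := by
    refine prime_eq_of_pi R R' S hpi P' M ?_ hM1 hP'c
    haveI hprime : (P'.comap (algebraMap R' (R' ⊗[R] S))).IsPrime := Ideal.comap_isPrime _ _
    have h1 : (P'.comap (algebraMap R' (R' ⊗[R] S))).comap (algebraMap R R') = maximalIdeal R := by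
      rw [Ideal.comap_comap, ← IsScalarTower.algebraMap_eq R R' (R' ⊗[R] S),
        IsScalarTower.algebraMap_eq R S (R' ⊗[R] S), ← Ideal.comap_comap, hP'c, Ideal.comap_comap,
        ← IsScalarTower.algebraMap_eq R S (R' ⊗[R] S), IsScalarTower.algebraMap_eq R R' (R' ⊗[R] S),
        ← Ideal.comap_comap, hMR', hmm]
    have hmax : (P'.comap (algebraMap R' (R' ⊗[R] S))).IsMaximal := by
      apply Ideal.isMaximal_of_isIntegral_of_isMaximal_comap (R := R)
      rw [h1]
      infer_instance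
    exact (eq_maximalIdeal hmax).ge
  exact ⟨P, hP, hP'M ▸ hP'le, hP2'⟩

end Unique

section Incomparable

/-- Incomparability for a strict henselization. -/
theorem incomparable_shens (A Ah : Type u) [CommRing A] [IsLocalRing A] [CommRing Ah] [IsLocalRing Ah]
    [Algebra A Ah] [IsLocalHom (algebraMap A Ah)] [Hensel.IsStrictHenselization A Ah]
    (P Q : Ideal Ah) [P.IsPrime] [Q.IsPrime] (h : P ≤ Q)
    (h₂ : P.comap (algebraMap A Ah) = Q.comap (algebraMap A Ah)) : P = Q := by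
  obtain ⟨e⟩ := nonempty_algEquiv_shens A Ah
  have hu : ∀ I : Ideal Ah, (I.comap (e.symm : SHens A →+* Ah)).under A =
      I.comap (algebraMap A Ah) := fun I => by
    ext a
    simp only [Ideal.under_def, Ideal.mem_comap]
    rw [show (e.symm : SHens A →+* Ah) (algebraMap A (SHens A) a) = algebraMap A Ah a from
      e.symm.commutes a]
  haveI : (P.comap (e.symm : SHens A →+* Ah)).IsPrime := Ideal.comap_isPrime _ _
  haveI : (Q.comap (e.symm : SHens A →+* Ah)).IsPrime := Ideal.comap_isPrime _ _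
  have key := eq_of_le_of_under_eq (P.comap (e.symm : SHens A →+* Ah))
    (Q.comap (e.symm : SHens A →+* Ah)) (Ideal.comap_mono h) (by rw [hu, hu, h₂])
  ext x
  have h3 := Ideal.ext_iff.mp key (e x)
  simp only [Ideal.mem_comap] at h3
  have h4 : (e.symm : SHens A →+* Ah) (e x) = x := e.symm_apply_apply x
  rwa [h4] at h3

end Incomparable

section compat

variable (R : Type u) [CommRing R] (S : Type u) [CommRing S] [Algebra R S]
  (p : Ideal R) [p.IsPrime] (q : Ideal S) [q.IsPrime] [q.LiesOver p]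
  (Rh : Type u) [CommRing Rh] [IsLocalRing Rh] [Algebra (Localization.AtPrime p) Rh]
  [IsLocalHom (algebraMap (Localization.AtPrime p) Rh)]
  [Algebra R Rh] [IsScalarTower R (Localization.AtPrime p) Rh]
  (Sh : Type u) [CommRing Sh] [IsLocalRing Sh] [Algebra (Localization.AtPrime q) Sh]
  [IsLocalHom (algebraMap (Localization.AtPrime q) Sh)]
  [Algebra S Sh] [IsScalarTower S (Localization.AtPrime q) Sh] [Algebra R Sh] [IsScalarTower R S Sh]
  [Algebra Rh Sh] [IsScalarTower R Rh Sh]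
  [hR : Hensel.IsStrictHenselization (Localization.AtPrime p) Rh]
  [hS : Hensel.IsStrictHenselization (Localization.AtPrime q) Sh]

include p q hR hS in
/-- If `R^sh` has a unique minimal prime and minimal primes of `S` lie over minimal primes of
`R`, then `Spec S^sh → Spec R^sh` is surjective (for `R^sh → S^sh` integral). -/
theorem comap_surjective_shens [Algebra.IsIntegral Rh Sh]
    (hU : CAlgX.HasUniqueMinimalPrime Rh)
    (hmin : ∀ 𝔮 ∈ minimalPrimes S, 𝔮.comap (algebraMap R S) ∈ minimalPrimes R)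
    (P : Ideal Rh) (hP : P.IsPrime) :
    ∃ Q : Ideal Sh, Q.IsPrime ∧ Q.comap (algebraMap Rh Sh) = P := by
  haveI hnil : (nilradical Rh).IsPrime := nilradical_isPrime_of_hasUniqueMinimalPrime hU
  suffices hker : RingHom.ker (algebraMap Rh Sh) ≤ nilradical Rh by
    obtain ⟨Q, -, hQ, hQc⟩ := Ideal.exists_ideal_over_prime_of_isIntegral P (⊥ : Ideal Sh) (by
      rw [← RingHom.ker_eq_comap_bot]
      exact hker.trans (nilradical_le_prime P))
    exact ⟨Q, hQ, hQc⟩
  obtain ⟨Q₀, hQ₀min, -⟩ :=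
    Ideal.exists_minimalPrimes_le (bot_le : (⊥ : Ideal Sh) ≤ maximalIdeal Sh)
  haveI hQ₀p : Q₀.IsPrime := hQ₀min.1.1
  haveI : Module.Flat (Localization.AtPrime q) Sh :=
    strictHenselization_flat (Localization.AtPrime q) Sh
  haveI : Module.Flat S Sh := Module.Flat.trans S (Localization.AtPrime q) Sh
  have h𝔮min : Q₀.comap (algebraMap S Sh) ∈ minimalPrimes S := by
    refine ⟨⟨Ideal.comap_isPrime _ _, bot_le⟩, fun 𝔮' h𝔮' hle => ?_⟩
    haveI := h𝔮'.1
    obtain ⟨Q₁, hQ₁le, hQ₁p, hQ₁o⟩ :=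
      Ideal.exists_ideal_le_liesOver_of_le (p := 𝔮') (q := Q₀.under S) Q₀ hle
    have h1 : Q₁ = Q₀ := le_antisymm hQ₁le (hQ₀min.2 ⟨hQ₁p, bot_le⟩ hQ₁le)
    have h2 : 𝔮' = Q₀.comap (algebraMap S Sh) := by
      calc 𝔮' = Q₁.under S := hQ₁o.over
        _ = Q₀.under S := by rw [h1]
    exact h2.ge
  have h𝔭min := hmin _ h𝔮min
  have hcomm : (Q₀.comap (algebraMap Rh Sh)).comap (algebraMap R Rh) =
      (Q₀.comap (algebraMap S Sh)).comap (algebraMap R S) := by
    rw [Ideal.comap_comap, Ideal.comap_comap, ← IsScalarTower.algebraMap_eq R Rh Sh,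
      ← IsScalarTower.algebraMap_eq R S Sh]
  haveI hP₁p : (Q₀.comap (algebraMap Rh Sh)).IsPrime := Ideal.comap_isPrime _ _
  have hNle : nilradical Rh ≤ Q₀.comap (algebraMap Rh Sh) := nilradical_le_prime _
  have hNR : (nilradical Rh).comap (algebraMap R Rh) =
      (Q₀.comap (algebraMap Rh Sh)).comap (algebraMap R Rh) := by
    apply le_antisymm (Ideal.comap_mono hNle)
    rw [hcomm]
    exact h𝔭min.2 ⟨Ideal.comap_isPrime _ _, bot_le⟩ (by
      rw [← hcomm]; exact Ideal.comap_mono hNle)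
  have hNA : (nilradical Rh).comap (algebraMap (Localization.AtPrime p) Rh) =
      (Q₀.comap (algebraMap Rh Sh)).comap (algebraMap (Localization.AtPrime p) Rh) := by
    rw [← IsLocalization.map_under p.primeCompl (Localization.AtPrime p)
        ((nilradical Rh).comap (algebraMap (Localization.AtPrime p) Rh)),
      ← IsLocalization.map_under p.primeCompl (Localization.AtPrime p)
        ((Q₀.comap (algebraMap Rh Sh)).comap (algebraMap (Localization.AtPrime p) Rh)),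
      Ideal.under_def, Ideal.under_def, Ideal.comap_comap, Ideal.comap_comap,
      ← IsScalarTower.algebraMap_eq R (Localization.AtPrime p) Rh, hNR]
  have heq : nilradical Rh = Q₀.comap (algebraMap Rh Sh) :=
    incomparable_shens (Localization.AtPrime p) Rh _ _ hNle hNA
  rw [heq]
  intro x hx
  rw [Ideal.mem_comap, (RingHom.mem_ker).mp hx]
  exact zero_mem _

end compat

section compat2

attribute [local instance] Algebra.TensorProduct.rightAlgebra

variable (R : Type u) [CommRing R] (S : Type u) [CommRing S] [Algebra R S]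
  (p : Ideal R) [p.IsPrime] (q : Ideal S) [q.IsPrime] [q.LiesOver p]
  (Rh : Type u) [CommRing Rh] [IsLocalRing Rh] [Algebra (Localization.AtPrime p) Rh]
  [IsLocalHom (algebraMap (Localization.AtPrime p) Rh)]
  [Algebra R Rh] [IsScalarTower R (Localization.AtPrime p) Rh]
  (Sh : Type u) [CommRing Sh] [IsLocalRing Sh] [Algebra (Localization.AtPrime q) Sh]
  [IsLocalHom (algebraMap (Localization.AtPrime q) Sh)]
  [Algebra S Sh] [IsScalarTower S (Localization.AtPrime q) Sh] [Algebra R Sh] [IsScalarTower R S Sh]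
  [Algebra Rh Sh] [IsScalarTower R Rh Sh]
  [hR : Hensel.IsStrictHenselization (Localization.AtPrime p) Rh]
  [hS : Hensel.IsStrictHenselization (Localization.AtPrime q) Sh]
  (C : Type u) [CommRing C] [Algebra R C]

include p q hR hS in
/-- Descent of the universal lifting of generizations from `R^sh → S^sh` to `R → S`. -/
theorem goingDown_tensor_compat [Algebra.IsIntegral Rh Sh]
    (hpi : ∀ t : Sh, ∃ (n : ℕ) (y : Rh),
      t ^ (ringExpChar (Sh ⧸ maximalIdeal Sh)) ^ n - algebraMap Rh Sh y ∈ maximalIdeal Sh)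
    (hsurj : ∀ P : Ideal Rh, P.IsPrime → ∃ Q : Ideal Sh, Q.IsPrime ∧ Q.comap (algebraMap Rh Sh) = P)
    (Q' : Ideal (S ⊗[R] C)) [Q'.IsPrime] (hQ' : Q'.comap (algebraMap S (S ⊗[R] C)) = q)
    (c : Ideal C) [c.IsPrime]
    (hc : c ≤ Q'.comap (Algebra.TensorProduct.includeRight : C →ₐ[R] S ⊗[R] C).toRingHom) :
    ∃ Q'' : Ideal (S ⊗[R] C), Q''.IsPrime ∧ Q'' ≤ Q' ∧
      Q''.comap (Algebra.TensorProduct.includeRight : C →ₐ[R] S ⊗[R] C).toRingHom = c := by
  have hm : (maximalIdeal Sh).comap (algebraMap S Sh) = Q'.comap (algebraMap S (S ⊗[R] C)) := by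
    rw [hQ']
    ext s
    rw [Ideal.mem_comap]
    exact mem_maximalIdeal_algebraMap_iff S q Sh s
  obtain ⟨M₀, hM₀, hM₀1, hM₀2⟩ := exists_prime_tensor (R := S) (maximalIdeal Sh) Q' hm
  let e₁ := Algebra.TensorProduct.cancelBaseChange R S Sh Sh C
  let e₂ := Algebra.TensorProduct.cancelBaseChange R Rh Sh Sh C
  let Φ : Sh ⊗[S] (S ⊗[R] C) ≃ₐ[Sh] Sh ⊗[Rh] (Rh ⊗[R] C) := e₁.trans e₂.symm
  have hΦC : ∀ x : C, Φ ((1 : Sh) ⊗ₜ[S] ((1 : S) ⊗ₜ[R] x)) =
      (1 : Sh) ⊗ₜ[Rh] ((1 : Rh) ⊗ₜ[R] x) := by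
    intro x
    change e₂.symm (e₁ _) = _
    rw [Algebra.TensorProduct.cancelBaseChange_tmul, one_smul,
      Algebra.TensorProduct.cancelBaseChange_symm_tmul]
  let M : Ideal (Sh ⊗[Rh] (Rh ⊗[R] C)) :=
    M₀.comap (Φ.symm : Sh ⊗[Rh] (Rh ⊗[R] C) →+* Sh ⊗[S] (S ⊗[R] C))
  haveI hMp : M.IsPrime := Ideal.comap_isPrime _ _
  have hM1 : maximalIdeal Sh ≤ M.comap (algebraMap Sh (Sh ⊗[Rh] (Rh ⊗[R] C))) := by
    intro s hs
    rw [Ideal.mem_comap, Ideal.mem_comap]
    have h1 : (Φ.symm : Sh ⊗[Rh] (Rh ⊗[R] C) →+* Sh ⊗[S] (S ⊗[R] C))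
        (algebraMap Sh (Sh ⊗[Rh] (Rh ⊗[R] C)) s) = algebraMap Sh (Sh ⊗[S] (S ⊗[R] C)) s :=
      Φ.symm.commutes s
    rw [h1]
    rw [← hM₀1] at hs
    exact hs
  have hcc : c ≤ (M.comap (algebraMap (Rh ⊗[R] C) (Sh ⊗[Rh] (Rh ⊗[R] C)))).comap
      (Algebra.TensorProduct.includeRight : C →ₐ[R] Rh ⊗[R] C).toRingHom := by
    intro x hx
    have h1 := hc hx
    rw [← hM₀2] at h1
    rw [Ideal.mem_comap, Ideal.mem_comap, Ideal.mem_comap]
    change (Φ.symm : Sh ⊗[Rh] (Rh ⊗[R] C) →+* Sh ⊗[S] (S ⊗[R] C))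
      ((1 : Sh) ⊗ₜ[Rh] ((1 : Rh) ⊗ₜ[R] x)) ∈ M₀
    rw [← hΦC x]
    have h2 : (Φ.symm : Sh ⊗[Rh] (Rh ⊗[R] C) →+* Sh ⊗[S] (S ⊗[R] C))
        (Φ ((1 : Sh) ⊗ₜ[S] ((1 : S) ⊗ₜ[R] x))) = (1 : Sh) ⊗ₜ[S] ((1 : S) ⊗ₜ[R] x) :=
      Φ.symm_apply_apply _
    rw [h2]
    exact h1
  haveI : Module.Flat R Rh := by
    haveI : Module.Flat (Localization.AtPrime p) Rh :=
      strictHenselization_flat (Localization.AtPrime p) Rh
    exact Module.Flat.trans R (Localization.AtPrime p) Rh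
  haveI : (M.comap (algebraMap (Rh ⊗[R] C) (Sh ⊗[Rh] (Rh ⊗[R] C)))).IsPrime :=
    Ideal.comap_isPrime _ _
  obtain ⟨c₁, hc₁p, hc₁le, hc₁c⟩ := goingDown_includeRight R Rh C
    (M.comap (algebraMap (Rh ⊗[R] C) (Sh ⊗[Rh] (Rh ⊗[R] C)))) c hcc
  haveI := hc₁p
  obtain ⟨P, hPp, hPM, hPc⟩ := exists_le_of_pi Rh Sh (Rh ⊗[R] C) hpi hsurj M hM1 c₁ hc₁le
  haveI : (P.comap (Φ : Sh ⊗[S] (S ⊗[R] C) →+* Sh ⊗[Rh] (Rh ⊗[R] C))).IsPrime :=
    Ideal.comap_isPrime _ _
  refine ⟨(P.comap (Φ : Sh ⊗[S] (S ⊗[R] C) →+* Sh ⊗[Rh] (Rh ⊗[R] C))).comap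
    (Algebra.TensorProduct.includeRight : S ⊗[R] C →ₐ[S] Sh ⊗[S] (S ⊗[R] C)).toRingHom,
    Ideal.comap_isPrime _ _, ?_, ?_⟩
  · intro t ht
    rw [Ideal.mem_comap, Ideal.mem_comap] at ht
    have h1 := hPM ht
    rw [Ideal.mem_comap] at h1
    have h2 : (Φ.symm : Sh ⊗[Rh] (Rh ⊗[R] C) →+* Sh ⊗[S] (S ⊗[R] C))
        ((Φ : Sh ⊗[S] (S ⊗[R] C) →+* Sh ⊗[Rh] (Rh ⊗[R] C))
          ((Algebra.TensorProduct.includeRight : S ⊗[R] C →ₐ[S] Sh ⊗[S] (S ⊗[R] C)).toRingHom t)) =
        (Algebra.TensorProduct.includeRight : S ⊗[R] C →ₐ[S] Sh ⊗[S] (S ⊗[R] C)).toRingHom t :=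
      Φ.symm_apply_apply _
    rw [h2] at h1
    rw [← hM₀2]
    exact h1
  · ext x
    rw [Ideal.mem_comap, Ideal.mem_comap, Ideal.mem_comap]
    change (Φ : Sh ⊗[S] (S ⊗[R] C) →+* Sh ⊗[Rh] (Rh ⊗[R] C))
      ((1 : Sh) ⊗ₜ[S] ((1 : S) ⊗ₜ[R] x)) ∈ P ↔ _
    have h1 : (Φ : Sh ⊗[S] (S ⊗[R] C) →+* Sh ⊗[Rh] (Rh ⊗[R] C))
        ((1 : Sh) ⊗ₜ[S] ((1 : S) ⊗ₜ[R] x)) = (1 : Sh) ⊗ₜ[Rh] ((1 : Rh) ⊗ₜ[R] x) := hΦC x
    rw [h1, ← hc₁c, ← hPc]
    rfl

end compat2

section final

/-- The power form of pure inseparability of the residue field extension. -/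
theorem hpi_of_isPurelyInseparable (Rh Sh : Type u) [CommRing Rh] [IsLocalRing Rh] [CommRing Sh]
    [IsLocalRing Sh] [Algebra Rh Sh] [IsLocalHom (algebraMap Rh Sh)]
    [IsPurelyInseparable (ResidueField Rh) (ResidueField Sh)] :
    ∀ t : Sh, ∃ (n : ℕ) (y : Rh),
      t ^ (ringExpChar (Sh ⧸ maximalIdeal Sh)) ^ n - algebraMap Rh Sh y ∈ maximalIdeal Sh := by
  intro t
  obtain ⟨q, hq⟩ : ∃ q, q = ringExpChar (ResidueField Rh) := ⟨_, rfl⟩
  haveI : ExpChar (ResidueField Rh) q := hq ▸ ringExpChar.expChar _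
  haveI : ExpChar (ResidueField Sh) q :=
    expChar_of_injective_algebraMap (algebraMap (ResidueField Rh) (ResidueField Sh)).injective q
  have hqq : ringExpChar (Sh ⧸ maximalIdeal Sh) = q := ringExpChar.eq (ResidueField Sh) q
  rw [hqq]
  obtain ⟨n, w, hw⟩ := IsPurelyInseparable.pow_mem (ResidueField Rh) q (residue Sh t)
  obtain ⟨y, rfl⟩ := residue_surjective w
  refine ⟨n, y, ?_⟩
  rw [← residue_eq_zero_iff, map_sub, map_pow, ← hw, sub_eq_zero]
  rfl

variable (R : Type u) [CommRing R] (S : Type u) [CommRing S] [Algebra R S]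
  [Algebra.FiniteType R S]
  (p : Ideal R) [p.IsPrime] (q : Ideal S) [q.IsPrime] [q.LiesOver p] [Algebra.QuasiFiniteAt R q]
  (Rh : Type u) [CommRing Rh] [IsLocalRing Rh] [Algebra (Localization.AtPrime p) Rh]
  [IsLocalHom (algebraMap (Localization.AtPrime p) Rh)]
  [hR : Hensel.IsStrictHenselization (Localization.AtPrime p) Rh]
  (Sh : Type u) [CommRing Sh] [IsLocalRing Sh] [Algebra (Localization.AtPrime q) Sh]
  [IsLocalHom (algebraMap (Localization.AtPrime q) Sh)]
  [hS : Hensel.IsStrictHenselization (Localization.AtPrime q) Sh]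

include hR hS in
theorem goingDown_tensor_aux (g : Rh →+* Sh)
    (hg : g.comp (algebraMap (Localization.AtPrime p) Rh) =
      (algebraMap (Localization.AtPrime q) Sh).comp
        (Localization.localRingHom p q (algebraMap R S) (q.over_def p)))
    (hgu : CAlg2.IsGeomUnibranch (Localization.AtPrime p))
    (hmin : ∀ 𝔮 ∈ minimalPrimes S, 𝔮.comap (algebraMap R S) ∈ minimalPrimes R)
    (C : Type u) [CommRing C] [Algebra R C]
    (Q' : Ideal (S ⊗[R] C)) [Q'.IsPrime] (hQ' : Q'.comap (algebraMap S (S ⊗[R] C)) = q)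
    (c : Ideal C) [c.IsPrime]
    (hc : c ≤ Q'.comap (Algebra.TensorProduct.includeRight : C →ₐ[R] S ⊗[R] C).toRingHom) :
    ∃ Q'' : Ideal (S ⊗[R] C), Q''.IsPrime ∧ Q'' ≤ Q' ∧
      Q''.comap (Algebra.TensorProduct.includeRight : C →ₐ[R] S ⊗[R] C).toRingHom = c := by
  letI : Algebra R Rh := ((algebraMap (Localization.AtPrime p) Rh).comp (algebraMap R (Localization.AtPrime p))).toAlgebra
  haveI : IsScalarTower R (Localization.AtPrime p) Rh := IsScalarTower.of_algebraMap_eq (fun _ => rfl)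
  letI : Algebra S Sh := ((algebraMap (Localization.AtPrime q) Sh).comp (algebraMap S (Localization.AtPrime q))).toAlgebra
  haveI : IsScalarTower S (Localization.AtPrime q) Sh := IsScalarTower.of_algebraMap_eq (fun _ => rfl)
  letI : Algebra R Sh := ((algebraMap S Sh).comp (algebraMap R S)).toAlgebra
  haveI : IsScalarTower R S Sh := IsScalarTower.of_algebraMap_eq (fun _ => rfl)
  letI algRhSh : Algebra Rh Sh := g.toAlgebra
  haveI : IsScalarTower R Rh Sh := IsScalarTower.of_algebraMap_eq (fun r => by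
    show algebraMap (Localization.AtPrime q) Sh (algebraMap S (Localization.AtPrime q) (algebraMap R S r)) =
      g (algebraMap (Localization.AtPrime p) Rh (algebraMap R (Localization.AtPrime p) r))
    have h1 := RingHom.congr_fun hg (algebraMap R (Localization.AtPrime p) r)
    rw [RingHom.comp_apply] at h1
    rw [h1, RingHom.comp_apply, Localization.localRingHom_to_map])
  haveI : IsLocalHom (algebraMap Rh Sh) := isLocalHom_of_strict R S p q Rh Sh
  obtain ⟨hfin, -, hpiF⟩ := finite_shens_of_quasiFiniteAt R S p q Rh Sh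
  haveI : Algebra.IsIntegral Rh Sh := Algebra.IsIntegral.of_finite Rh Sh
  have hU : CAlgX.HasUniqueMinimalPrime Rh :=
    (Groth.Agent.S2135.result (A := Localization.AtPrime p) (Ash := Rh)).mp hgu
  have hsurj := comap_surjective_shens R S p q Rh Sh hU hmin
  have hpi := hpi_of_isPurelyInseparable Rh Sh
  exact goingDown_tensor_compat R S p q Rh Sh C hpi hsurj Q' hQ' c hc

end final

section main

variable (R : Type u) [CommRing R] (S : Type u) [CommRing S] [Algebra R S]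
  [Algebra.FiniteType R S] [Algebra.QuasiFinite R S]

/-- **Universal lifting of generizations** for a quasi-finite algebra over a geometrically
unibranch base, all of whose minimal primes lie over minimal primes. -/
theorem goingDown_tensor
    (hgu : ∀ (p : Ideal R) [p.IsPrime], CAlg2.IsGeomUnibranch (Localization.AtPrime p))
    (hmin : ∀ 𝔮 ∈ minimalPrimes S, 𝔮.comap (algebraMap R S) ∈ minimalPrimes R)
    (C : Type u) [CommRing C] [Algebra R C]
    (Q' : Ideal (S ⊗[R] C)) [Q'.IsPrime] (c : Ideal C) [c.IsPrime]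
    (hc : c ≤ Q'.comap (Algebra.TensorProduct.includeRight : C →ₐ[R] S ⊗[R] C).toRingHom) :
    ∃ Q'' : Ideal (S ⊗[R] C), Q''.IsPrime ∧ Q'' ≤ Q' ∧
      Q''.comap (Algebra.TensorProduct.includeRight : C →ₐ[R] S ⊗[R] C).toRingHom = c := by
  obtain ⟨q, hqdef⟩ : ∃ q : Ideal S, q = Q'.comap (algebraMap S (S ⊗[R] C)) := ⟨_, rfl⟩
  haveI hqp : q.IsPrime := hqdef ▸ Ideal.comap_isPrime _ _
  obtain ⟨p, hpdef⟩ : ∃ p : Ideal R, p = q.comap (algebraMap R S) := ⟨_, rfl⟩
  haveI hpp : p.IsPrime := hpdef ▸ Ideal.comap_isPrime _ _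
  haveI : q.LiesOver p := ⟨hpdef⟩
  haveI : Algebra.QuasiFiniteAt R q := inferInstance
  haveI hR := Hzl.isStrictHenselization (Localization.AtPrime p)
  haveI hS := Hzl.isStrictHenselization (Localization.AtPrime q)
  obtain ⟨g, hg⟩ := SmoothBranchesPrime.exists_compat R S p q
    (SHens (Localization.AtPrime p)) (SHens (Localization.AtPrime q))
  exact goingDown_tensor_aux R S p q (SHens (Localization.AtPrime p))
    (SHens (Localization.AtPrime q)) g hg (hgu p) hmin C Q' hqdef.symm c hc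

/-- Going-down for `C → C ⊗[R] S`. -/
theorem hasGoingDown_tensor
    (hgu : ∀ (p : Ideal R) [p.IsPrime], CAlg2.IsGeomUnibranch (Localization.AtPrime p))
    (hmin : ∀ 𝔮 ∈ minimalPrimes S, 𝔮.comap (algebraMap R S) ∈ minimalPrimes R)
    (C : Type u) [CommRing C] [Algebra R C] : Algebra.HasGoingDown C (C ⊗[R] S) := by
  refine ⟨fun {c} _ Q _ hlt => ?_⟩
  let e : C ⊗[R] S ≃ₐ[R] S ⊗[R] C := Algebra.TensorProduct.comm R C S
  have he : ∀ x : C, e (algebraMap C (C ⊗[R] S) x) = (1 : S) ⊗ₜ[R] x := fun x => by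
    rw [Algebra.TensorProduct.algebraMap_apply]
    exact Algebra.TensorProduct.comm_tmul R _ _
  let Q' : Ideal (S ⊗[R] C) := Q.comap (e.symm : S ⊗[R] C →+* C ⊗[R] S)
  haveI : Q'.IsPrime := Ideal.comap_isPrime _ _
  have hc : c ≤ Q'.comap (Algebra.TensorProduct.includeRight : C →ₐ[R] S ⊗[R] C).toRingHom := by
    intro x hx
    have h1 := hlt.le hx
    rw [Ideal.under_def, Ideal.mem_comap] at h1
    rw [Ideal.mem_comap, Ideal.mem_comap]
    change e.symm ((1 : S) ⊗ₜ[R] x) ∈ Q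
    rw [← he, e.symm_apply_apply]
    exact h1
  obtain ⟨Q'', hQ''p, hQ''le, hQ''c⟩ := goingDown_tensor R S hgu hmin C Q' c hc
  refine ⟨Q''.comap (e : C ⊗[R] S →+* S ⊗[R] C), ?_, Ideal.comap_isPrime _ _, ⟨?_⟩⟩
  · intro t ht
    rw [Ideal.mem_comap] at ht
    have h1 := hQ''le ht
    rw [Ideal.mem_comap] at h1
    change e.symm (e t) ∈ Q at h1
    rwa [e.symm_apply_apply] at h1
  · rw [← hQ''c]
    ext x
    rw [Ideal.under_def, Ideal.mem_comap, Ideal.mem_comap, Ideal.mem_comap]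
    change _ ↔ e (algebraMap C (C ⊗[R] S) x) ∈ Q''
    rw [he]
    rfl

end main

end Groth.Agent.Lib.Helper8.QFGoingDown
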