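import Mathlib
import Groth.Prelude
import Groth.Agent.Lib.Helper8.QFGoingDown
import Groth.Agent.Lib.Helper8.SmoothUnibranch

/-!
# Quasi-finite morphisms over geometrically unibranch bases are universally open

`universallyOpen_of_max`: a locally quasi-finite morphism locally of finite type to a locally
Noetherian scheme with geometrically unibranch local rings which maps maximal points to maximal
points is universally open.
-/

set_option autoImplicit false
universe u
open AlgebraicGeometry CategoryTheory CategoryTheory.Limits TensorProduct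

namespace Groth.Agent.Lib.Helper8.QFUnivOpen

open Groth.Agent.Lib.Helper8

section Top

/-- The closure of a maximal point is an irreducible component. -/
theorem closure_singleton_mem_irreducibleComponents {X : Type*} [TopologicalSpace X] [QuasiSober X]
    (ξ : X) (hξ : ∀ ξ' : X, ξ' ⤳ ξ → ξ' = ξ) : closure {ξ} ∈ irreducibleComponents X := by
  refine ⟨isIrreducible_singleton.closure, fun s hs hle => ?_⟩
  have hcl : IsIrreducible (closure s) := hs.closure
  obtain ⟨ζ, hζ⟩ := QuasiSober.sober hcl isClosed_closure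
  have h1 : ξ ∈ closure s := subset_closure (hle (subset_closure rfl))
  have h2 : ζ ⤳ ξ := by
    rw [specializes_iff_mem_closure, hζ.def]
    exact h1
  have h3 := hξ ζ h2
  intro x hx
  have : x ∈ closure s := subset_closure hx
  rwa [← hζ.def, h3] at this

/-- The generic point of an irreducible component is a maximal point. -/
theorem eq_of_specializes_genericPoint {Y : Type*} [TopologicalSpace Y] [T0Space Y] {W : Set Y}
    (hW : W ∈ irreducibleComponents Y) {η : Y} (hη : IsGenericPoint η W) (η' : Y) (h : η' ⤳ η) :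
    η' = η := by
  have h1 : W ≤ closure {η'} := by
    rw [← hη.def]
    exact specializes_iff_closure_subset.mp h
  have h2 : closure {η'} ≤ W := hW.2 isIrreducible_singleton.closure h1
  have h3 : η ⤳ η' := by
    rw [specializes_iff_closure_subset, hη.def]
    exact h2
  exact (h.antisymm h3).eq

/-- Open embeddings preserve maximal points. -/
theorem max_of_isOpenEmbedding {A B : Type*} [TopologicalSpace A] [TopologicalSpace B] (j : A → B)
    (hj : Topology.IsOpenEmbedding j) (a : A) (ha : ∀ a' : A, a' ⤳ a → a' = a) (b : B)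
    (hb : b ⤳ j a) : b = j a := by
  have h1 : b ∈ Set.range j := hb.mem_open hj.isOpen_range ⟨a, rfl⟩
  obtain ⟨a', rfl⟩ := h1
  rw [ha a' (hj.isInducing.specializes_iff.mp hb)]

end Top

section Affine

/-- Lifting of generizations for `Spec (C ⊗[R] S) → Spec C`. -/
theorem generalizingMap_fst_Spec (R C S : Type u) [CommRing R] [CommRing C] [CommRing S]
    [Algebra R C] [Algebra R S] [Algebra.HasGoingDown C (C ⊗[R] S)] :
    GeneralizingMap (pullback.fst (Spec.map (CommRingCat.ofHom (algebraMap R C)))
      (Spec.map (CommRingCat.ofHom (algebraMap R S)))) := by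
  change topologically GeneralizingMap _
  rw [← pullbackSpecIso_hom_fst' R C S,
    MorphismProperty.cancel_left_of_respectsIso (P := topologically GeneralizingMap)]
  exact Algebra.HasGoingDown.iff_generalizingMap_primeSpectrumComap.mp inferInstance

/-- Lifting of generizations for a base change can be checked on affine test schemes. -/
theorem generalizingMap_fst_of_affine {X Y : Scheme.{u}} (f : X ⟶ Y)
    (H : ∀ (C : CommRingCat.{u}) (t : Spec C ⟶ Y), GeneralizingMap (pullback.fst t f))
    {T : Scheme.{u}} (t : T ⟶ Y) : GeneralizingMap (pullback.fst t f) := by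
  change topologically GeneralizingMap (pullback.fst t f)
  rw [IsZariskiLocalAtTarget.iff_of_openCover (P := topologically GeneralizingMap) T.affineCover]
  intro i
  dsimp only [Scheme.Cover.pullbackHom]
  have e : pullback.snd (pullback.fst t f) (T.affineCover.f i) =
      (pullbackSymmetry _ _).hom ≫ (pullbackRightPullbackFstIso t f (T.affineCover.f i)).hom ≫
        pullback.fst (T.affineCover.f i ≫ t) f := by
    rw [pullbackRightPullbackFstIso_hom_fst, pullbackSymmetry_hom_comp_fst]
  rw [e]
  refine (MorphismProperty.cancel_left_of_respectsIso (topologically GeneralizingMap) _ _).mpr ?_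
  refine (MorphismProperty.cancel_left_of_respectsIso (topologically GeneralizingMap) _ _).mpr ?_
  exact H _ _

theorem universallyOpen_SpecMap {R S : CommRingCat.{u}} (φ : R ⟶ S)
    [LocallyQuasiFinite (Spec.map φ)] [LocallyOfFiniteType (Spec.map φ)]
    [IsLocallyNoetherian (Spec R)]
    (hY : ∀ y : Spec R, CAlg2.IsGeomUnibranch ((Spec R).presheaf.stalk y))
    (hmax : ∀ ξ : Spec S, (∀ ξ' : Spec S, ξ' ⤳ ξ → ξ' = ξ) →
      ∀ η' : Spec R, η' ⤳ Spec.map φ ξ → η' = Spec.map φ ξ) :
    UniversallyOpen (Spec.map φ) := by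
  have h1 : φ.hom.FiniteType :=
    (HasRingHomProperty.Spec_iff (P := @LocallyOfFiniteType)).mp inferInstance
  have h2 : φ.hom.QuasiFinite :=
    (HasRingHomProperty.Spec_iff (P := @LocallyQuasiFinite)).mp inferInstance
  algebraize [φ.hom]
  have hgu : ∀ (p : Ideal R) [p.IsPrime], CAlg2.IsGeomUnibranch (Localization.AtPrime p) := by
    intro p hp
    have h3 := hY (⟨p, hp⟩ : PrimeSpectrum R)
    let e : (Spec R).presheaf.stalk (⟨p, hp⟩ : PrimeSpectrum R) ≃+* Localization.AtPrime p :=
      (Spec.stalkIso R ⟨p, hp⟩).commRingCatIsoToRingEquiv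
    exact SmoothUnibranch.isGeomUnibranch_of_ringEquiv e.symm h3
  have hmin : ∀ 𝔮 ∈ minimalPrimes S, 𝔮.comap (algebraMap R S) ∈ minimalPrimes R := by
    intro 𝔮 h𝔮
    haveI h𝔮p : 𝔮.IsPrime := h𝔮.1.1
    have hξ : ∀ ξ' : Spec S, ξ' ⤳ (⟨𝔮, h𝔮p⟩ : PrimeSpectrum S) → ξ' = (⟨𝔮, h𝔮p⟩ : PrimeSpectrum S) := by
      intro ξ' h
      have hle : ξ'.asIdeal ≤ 𝔮 := (PrimeSpectrum.le_iff_specializes ξ' ⟨𝔮, h𝔮p⟩).mpr h
      exact PrimeSpectrum.ext (le_antisymm hle (h𝔮.2 ⟨ξ'.isPrime, bot_le⟩ hle))
    have h3 := hmax (⟨𝔮, h𝔮p⟩ : PrimeSpectrum S) hξ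
    refine ⟨⟨Ideal.comap_isPrime _ _, bot_le⟩, fun p' hp' hle => ?_⟩
    have h4 := h3 (⟨p', hp'.1⟩ : PrimeSpectrum R)
      ((PrimeSpectrum.le_iff_specializes (⟨p', hp'.1⟩ : PrimeSpectrum R) _).mp hle)
    have h5 := congrArg PrimeSpectrum.asIdeal h4
    exact h5.ge
  haveI : LocallyOfFinitePresentation (Spec.map φ) := inferInstance
  refine ⟨MorphismProperty.universally_mk' _ _ fun {T} t _ => ?_⟩
  refine isOpenMap_of_generalizingMap _ (generalizingMap_fst_of_affine (Spec.map φ) (fun C t' => ?_) t)
  obtain ⟨γ, rfl⟩ := Spec.map_surjective t'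
  algebraize [γ.hom]
  haveI : Algebra.HasGoingDown C (C ⊗[R] S) := QFGoingDown.hasGoingDown_tensor R S hgu hmin C
  exact generalizingMap_fst_Spec R C S

end Affine

section Main

/-- A locally quasi-finite morphism to a locally Noetherian scheme with geometrically unibranch
local rings which maps maximal points to maximal points is universally open. -/
theorem universallyOpen_of_max {X Y : Scheme.{u}} (f : X ⟶ Y) [LocallyQuasiFinite f]
    [LocallyOfFiniteType f] [IsLocallyNoetherian Y]
    (hY : ∀ y : Y, CAlg2.IsGeomUnibranch (Y.presheaf.stalk y))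
    (hmax : ∀ ξ : X, (∀ ξ' : X, ξ' ⤳ ξ → ξ' = ξ) → ∀ η' : Y, η' ⤳ f ξ → η' = f ξ) :
    UniversallyOpen f := by
  wlog hYaff : ∃ R, Y = Spec R
  · rw [IsZariskiLocalAtTarget.iff_of_openCover (P := @UniversallyOpen) Y.affineCover]
    intro i
    dsimp only [Scheme.Cover.pullbackHom]
    refine this (pullback.snd f (Y.affineCover.f i)) ?_ ?_ ⟨_, rfl⟩
    · intro y'
      let e : Y.presheaf.stalk ((Y.affineCover.f i) y') ≃+* (Y.affineCover.X i).presheaf.stalk y' :=
        (asIso ((Y.affineCover.f i).stalkMap y')).commRingCatIsoToRingEquiv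
      exact SmoothUnibranch.isGeomUnibranch_of_ringEquiv e.symm (hY _)
    · intro ξ hξ η' h
      have h1 : ∀ x₀ : X, x₀ ⤳ (pullback.fst f (Y.affineCover.f i)) ξ →
          x₀ = (pullback.fst f (Y.affineCover.f i)) ξ :=
        max_of_isOpenEmbedding _ (pullback.fst f (Y.affineCover.f i)).isOpenEmbedding ξ hξ
      have h2 := hmax _ h1 ((Y.affineCover.f i) η')
      have hcond : f ((pullback.fst f (Y.affineCover.f i)) ξ) =
          (Y.affineCover.f i) ((pullback.snd f (Y.affineCover.f i)) ξ) := by
        rw [← Scheme.Hom.comp_apply, ← Scheme.Hom.comp_apply, pullback.condition]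
      rw [hcond] at h2
      exact (Y.affineCover.f i).isOpenEmbedding.injective
        (h2 (h.map (Y.affineCover.f i).continuous))
  obtain ⟨R, rfl⟩ := hYaff
  wlog hXaff : ∃ S, X = Spec S
  · rw [IsZariskiLocalAtSource.iff_of_openCover (P := @UniversallyOpen) X.affineCover]
    intro i
    refine this R (X.affineCover.f i ≫ f) hY ?_ ⟨_, rfl⟩
    intro ξ hξ η' h
    have h1 : ∀ x₀ : X, x₀ ⤳ (X.affineCover.f i) ξ → x₀ = (X.affineCover.f i) ξ :=
      max_of_isOpenEmbedding _ (X.affineCover.f i).isOpenEmbedding ξ hξ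
    rw [Scheme.Hom.comp_apply] at h ⊢
    exact hmax _ h1 η' h
  obtain ⟨S, rfl⟩ := hXaff
  obtain ⟨φ, rfl⟩ := Spec.map_surjective f
  exact universallyOpen_SpecMap φ hY hmax

end Main

end Groth.Agent.Lib.Helper8.QFUnivOpen
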