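import Mathlib

/-!
# Pointwise descent of unramifiedness along arbitrary base change (ring level)

* `mem_support_baseChange`: for a finite `A`-module `M`, `P` over `p`, `p ∈ Supp M → P ∈ Supp (B ⊗ M)`.
* `isUnramifiedAt_of_isPushout`: if `B = S ⊗[R] A` is unramified over `S` at `P`, then `A` is
  unramified over `R` at `P ∩ A` (for `A` of finite type over `R`).
* `flat_of_faithfullyFlat_of_flat`: `R → A' → B'` with `B'` faithfully flat over `A'` and flat
  over `R` implies `A'` flat over `R`.
-/

set_option autoImplicit false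

open TensorProduct

namespace Groth.Agent.Lib.Helper8

universe u v w

theorem mem_support_baseChange {A B : Type*} [CommRing A] [CommRing B] [Algebra A B]
    (M : Type*) [AddCommGroup M] [Module A M] [Module.Finite A M]
    (p : Ideal A) [p.IsPrime] (P : Ideal B) [P.IsPrime] [P.LiesOver p]
    (h : (⟨p, inferInstance⟩ : PrimeSpectrum A) ∈ Module.support A M) :
    (⟨P, inferInstance⟩ : PrimeSpectrum B) ∈ Module.support B (B ⊗[A] M) := by
  rw [Module.mem_support_iff_nontrivial_residueField_tensorProduct] at h ⊢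
  let _ := Localization.AtPrime.algebraOfLiesOver p P
  let e1 : P.ResidueField ⊗[B] (B ⊗[A] M) ≃ₗ[P.ResidueField] P.ResidueField ⊗[A] M :=
    AlgebraTensorModule.cancelBaseChange A B P.ResidueField P.ResidueField M
  let e2 : P.ResidueField ⊗[p.ResidueField] (p.ResidueField ⊗[A] M) ≃ₗ[P.ResidueField]
      P.ResidueField ⊗[A] M :=
    AlgebraTensorModule.cancelBaseChange A p.ResidueField P.ResidueField P.ResidueField M
  have : Nontrivial (p.ResidueField ⊗[A] M) := h
  exact (e1.trans e2.symm).toEquiv.nontrivial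

theorem isUnramifiedAt_of_isPushout {R S A B : Type*} [CommRing R] [CommRing S] [CommRing A]
    [CommRing B] [Algebra R S] [Algebra R A] [Algebra R B] [Algebra S B] [Algebra A B]
    [IsScalarTower R S B] [IsScalarTower R A B] [Algebra.IsPushout R S A B]
    [Algebra.FiniteType R A]
    (p : Ideal A) [p.IsPrime] (P : Ideal B) [P.IsPrime] [P.LiesOver p]
    [Algebra.IsUnramifiedAt S P] : Algebra.IsUnramifiedAt R p := by
  change (⟨p, inferInstance⟩ : PrimeSpectrum A) ∈ Algebra.unramifiedLocus R A
  rw [Algebra.unramifiedLocus_eq_compl_support, Set.mem_compl_iff]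
  intro hp
  have hP : (⟨P, inferInstance⟩ : PrimeSpectrum B) ∈ Algebra.unramifiedLocus S B :=
    (inferInstance : Algebra.IsUnramifiedAt S P)
  rw [Algebra.unramifiedLocus_eq_compl_support] at hP
  apply hP
  have e : B ⊗[A] Ω[A⁄R] ≃ₗ[B] Ω[B⁄S] := KaehlerDifferential.tensorKaehlerEquiv R S A B
  rw [← e.support_eq]
  exact mem_support_baseChange _ p P hp

theorem flat_of_faithfullyFlat_of_flat (R A' B' : Type*) [CommRing R] [CommRing A'] [CommRing B']
    [Algebra R A'] [Algebra A' B'] [Algebra R B'] [IsScalarTower R A' B']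
    [Module.FaithfullyFlat A' B'] [Module.Flat R B'] : Module.Flat R A' := by
  rw [Module.Flat.iff_lTensor_preserves_injective_linearMap]
  intro N P _ _ _ _ f hf
  let g : A' ⊗[R] N →ₗ[A'] A' ⊗[R] P := AlgebraTensorModule.lTensor A' A' f
  have hg : ⇑g = ⇑(LinearMap.lTensor A' f) := rfl
  rw [← hg, ← Module.FaithfullyFlat.lTensor_injective_iff_injective A' B' g]
  let eN : B' ⊗[A'] (A' ⊗[R] N) ≃ₗ[B'] B' ⊗[R] N :=
    AlgebraTensorModule.cancelBaseChange R A' B' B' N
  let eP : B' ⊗[A'] (A' ⊗[R] P) ≃ₗ[B'] B' ⊗[R] P :=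
    AlgebraTensorModule.cancelBaseChange R A' B' B' P
  have hcomm : ∀ t, eP (LinearMap.lTensor B' g t) = LinearMap.lTensor B' f (eN t) := by
    intro t
    induction t with
    | zero => simp
    | add x y hx hy => simp only [map_add, hx, hy]
    | tmul b t =>
      induction t with
      | zero => simp
      | add x y hx hy => simp only [tmul_add, map_add, hx, hy]
      | tmul a n => simp [eN, eP, g]
  have hinj : Function.Injective (LinearMap.lTensor B' f) :=
    Module.Flat.lTensor_preserves_injective_linearMap f hf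
  intro t₁ t₂ h
  apply eN.injective
  apply hinj
  rw [← hcomm, ← hcomm, h]

end Groth.Agent.Lib.Helper8
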