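import Mathlib
import Groth.Agent.Lib.Helper8.SmoothLocusBC

/-!
# Fibre criterion for the smooth locus of a morphism of schemes
-/

set_option autoImplicit false
universe u
open AlgebraicGeometry CategoryTheory Limits TensorProduct

namespace Groth.Agent.Lib.Helper8.SmoothFiberSch

/-- Affine chart of a pullback square for prescribed affine opens. -/
theorem affine_chart_of_opens {X S X' S' : Scheme.{u}} (f : X ⟶ S) (g : S' ⟶ S) (f' : X' ⟶ S')
    (g' : X' ⟶ X) (h : IsPullback g' f' f g)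
    (W : S.Opens) (hW : IsAffineOpen W) (V : X.Opens) (hV : IsAffineOpen V)
    (W' : S'.Opens) (hW' : IsAffineOpen W') (hVW : V ≤ f ⁻¹ᵁ W) (hW'W : W' ≤ g ⁻¹ᵁ W) :
    ∃ (hV' : IsAffineOpen (g' ⁻¹ᵁ V ⊓ f' ⁻¹ᵁ W')),
      IsPushout (f.appLE W V hVW) (g.appLE W W' hW'W)
        (g'.appLE V (g' ⁻¹ᵁ V ⊓ f' ⁻¹ᵁ W') inf_le_left)
        (f'.appLE W' (g' ⁻¹ᵁ V ⊓ f' ⁻¹ᵁ W') inf_le_right) := by
  have hUY : g' ⁻¹ᵁ V ⊓ f' ⁻¹ᵁ W' = g' ⁻¹ᵁ V ⊓ f' ⁻¹ᵁ W' := rfl
  have : IsAffine (W : Scheme) := hW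
  have : IsAffine (V : Scheme) := hV
  have : IsAffine (W' : Scheme) := hW'
  have hV' : IsAffineOpen (g' ⁻¹ᵁ V ⊓ f' ⁻¹ᵁ W') :=
    .of_isIso (Scheme.Hom.isPullback_resLE h hW'W hVW hUY).isoPullback.hom
  have hiso := isIso_pushoutSection_of_isAffineOpen h hW'W hVW hUY hW hW' hV
  exact ⟨hV', (isIso_pushoutSection_iff h hW'W hVW hUY).mp hiso⟩

/-- Flatness of the stalk map in terms of an affine chart. -/
lemma flat_stalkMap_iff {X Y : Scheme.{u}} {f : X ⟶ Y} {x : X} (U : Y.Opens)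
      (hU : IsAffineOpen U) (V : X.Opens) (hV : IsAffineOpen V) (hVU : V ≤ f ⁻¹ᵁ U)
      (hx : x ∈ V) :
    letI := (f.appLE U V hVU).hom.toAlgebra
    (f.stalkMap x).hom.Flat ↔
      Module.Flat Γ(Y, U) (Localization.AtPrime (hV.primeIdealOf ⟨x, hx⟩).asIdeal) := by
  let := (f.appLE U V hVU).hom.toAlgebra
  let p := (hU.primeIdealOf ⟨f x, hVU hx⟩).asIdeal
  let q := (hV.primeIdealOf ⟨x, hx⟩).asIdeal
  have : q.LiesOver p :=
    ⟨congr($(IsAffineOpen.comap_primeIdealOf_appLE U hU V hV hVU hx).1).symm⟩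
  let := Localization.AtPrime.algebraOfLiesOver p q
  trans Module.Flat (Localization.AtPrime p) (Localization.AtPrime q)
  · rw [← RingHom.flat_algebraMap_iff]
    exact RingHom.Flat.respectsIso.arrow_mk_iso_iff
      (IsAffineOpen.arrowStalkMapIso f U hU V hV hVU hx)
  · exact Module.flat_iff_of_isLocalization (Localization.AtPrime p) p.primeCompl _


set_option maxHeartbeats 1600000 in
/-- Fibre criterion for smoothness at a point of a scheme. -/
theorem mem_smoothLocus_iff_flat_and_fiber {X S : Scheme.{u}} (f : X ⟶ S)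
    [LocallyOfFinitePresentation f] (x : X)
    [LocallyOfFinitePresentation (f.fiberToSpecResidueField (f x))] :
    x ∈ f.smoothLocus ↔
      (f.stalkMap x).hom.Flat ∧ f.asFiber x ∈ (f.fiberToSpecResidueField (f x)).smoothLocus := by
  let g := S.fromSpecResidueField (f x)
  let f' := f.fiberToSpecResidueField (f x)
  let g' := f.fiberι (f x)
  have h : IsPullback g' f' f g := IsPullback.of_hasPullback f g
  let x' := f.asFiber x
  have hx'x : g' x' = x := f.fiberι_asFiber x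
  obtain ⟨_, ⟨W, hW, rfl⟩, hxW, -⟩ :=
    S.isBasis_affineOpens.exists_subset_of_mem_open (Set.mem_univ (f x)) isOpen_univ
  obtain ⟨_, ⟨V, hV, rfl⟩, hxV, hVW⟩ :=
    X.isBasis_affineOpens.exists_subset_of_mem_open hxW (W.2.preimage f.continuous)
  replace hVW : V ≤ f ⁻¹ᵁ W := hVW
  have hW : IsAffineOpen W := hW
  have hV : IsAffineOpen V := hV
  have hxV : x ∈ V := hxV
  have hW' : IsAffineOpen (⊤ : (Spec (S.residueField (f x))).Opens) := isAffineOpen_top _
  have hW'W : (⊤ : (Spec (S.residueField (f x))).Opens) ≤ g ⁻¹ᵁ W := by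
    intro y _
    show g y ∈ W
    rw [Scheme.fromSpecResidueField_apply]
    exact hxW
  obtain ⟨hV', hpo⟩ := affine_chart_of_opens f g f' g' h W hW V hV ⊤ hW' hVW hW'W
  set V' := g' ⁻¹ᵁ V ⊓ f' ⁻¹ᵁ ⊤ with hV'def
  have hx' : x' ∈ V' := ⟨by show g' x' ∈ V; rw [hx'x]; exact hxV, trivial⟩
  have hV'V : V' ≤ g' ⁻¹ᵁ V := inf_le_left
  have hV'W' : V' ≤ f' ⁻¹ᵁ ⊤ := inf_le_right
  have hfp : (f.appLE W V hVW).hom.FinitePresentation := f.finitePresentation_appLE hW hV hVW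
  letI algRA : Algebra Γ(S, W) Γ(X, V) := (f.appLE W V hVW).hom.toAlgebra
  letI algRT : Algebra Γ(S, W) Γ(Spec (S.residueField (f x)), ⊤) :=
    (g.appLE W ⊤ hW'W).hom.toAlgebra
  letI algAB : Algebra Γ(X, V) Γ(f.fiber (f x), V') := (g'.appLE V V' hV'V).hom.toAlgebra
  letI algTB : Algebra Γ(Spec (S.residueField (f x)), ⊤) Γ(f.fiber (f x), V') :=
    (f'.appLE ⊤ V' hV'W').hom.toAlgebra
  letI algRB : Algebra Γ(S, W) Γ(f.fiber (f x), V') :=
    ((f'.appLE ⊤ V' hV'W').hom.comp (g.appLE W ⊤ hW'W).hom).toAlgebra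
  haveI : IsScalarTower Γ(S, W) Γ(Spec (S.residueField (f x)), ⊤) Γ(f.fiber (f x), V') :=
    IsScalarTower.of_algebraMap_eq (fun _ => rfl)
  haveI : IsScalarTower Γ(S, W) Γ(X, V) Γ(f.fiber (f x), V') :=
    IsScalarTower.of_algebraMap_eq (fun r => by
      have := congrArg (fun φ => φ.hom r) hpo.w
      exact this.symm)
  haveI hfpA : Algebra.FinitePresentation Γ(S, W) Γ(X, V) := hfp
  have hpo' : Algebra.IsPushout Γ(S, W) Γ(X, V) Γ(Spec (S.residueField (f x)), ⊤)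
      Γ(f.fiber (f x), V') := CommRingCat.isPushout_iff_isPushout.mp hpo
  haveI hpo'' : Algebra.IsPushout Γ(S, W) Γ(Spec (S.residueField (f x)), ⊤) Γ(X, V)
      Γ(f.fiber (f x), V') := hpo'.symm
  -- the field
  have hK' : IsField Γ(Spec (S.residueField (f x)), ⊤) :=
    MulEquiv.isField (Field.toIsField (S.residueField (f x)))
      (Scheme.ΓSpecIso (CommRingCat.of (S.residueField (f x)))).commRingCatIsoToRingEquiv.toMulEquiv
  rw [Scheme.Hom.mem_smoothLocus, Scheme.Hom.mem_smoothLocus,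
    formallySmooth_stalkMap_iff ⊤ hW' V' hV' hV'W' hx',
    formallySmooth_stalkMap_iff W hW V hV hVW hxV, flat_stalkMap_iff W hW V hV hVW hxV]
  set P := hV'.primeIdealOf ⟨x', hx'⟩ with hP
  set q := hV.primeIdealOf ⟨x, hxV⟩ with hq
  haveI hlies : P.asIdeal.LiesOver q.asIdeal := by
    constructor
    have h1 := congr($(IsAffineOpen.comap_primeIdealOf_appLE V hV V' hV' hV'V hx').1)
    have h2 : hV.primeIdealOf ⟨g' x', hV'V hx'⟩ = q := by
      rw [hq]; congr 1; exact Subtype.ext hx'x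
    rw [h2] at h1
    exact h1.symm
  have hker : RingHom.ker (algebraMap Γ(S, W) Γ(Spec (S.residueField (f x)), ⊤)) =
      q.asIdeal.under Γ(S, W) := by
    have h1 := congr($(IsAffineOpen.comap_primeIdealOf_appLE W hW V hV hVW hxV).1)
    have hy : f' x' ∈ (⊤ : (Spec (S.residueField (f x))).Opens) := trivial
    have h2 := congr($(IsAffineOpen.comap_primeIdealOf_appLE W hW ⊤ hW' hW'W hy).1)
    have h3 : hW.primeIdealOf ⟨g (f' x'), hW'W hy⟩ = hW.primeIdealOf ⟨f x, hVW hxV⟩ := by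
      congr 1; exact Subtype.ext (Scheme.fromSpecResidueField_apply _ _)
    have h4 : (hW'.primeIdealOf ⟨f' x', hy⟩).asIdeal = ⊥ := by
      letI := hK'.toField
      exact Ideal.eq_bot_of_prime _
    show RingHom.ker (g.appLE W ⊤ hW'W).hom = Ideal.comap (f.appLE W V hVW).hom q.asIdeal
    rw [← hq] at h1
    rw [show Ideal.comap (f.appLE W V hVW).hom q.asIdeal = (hW.primeIdealOf ⟨f x, hVW hxV⟩).asIdeal
      from h1, ← h3, ← h2]
    show _ = Ideal.comap (g.appLE W ⊤ hW'W).hom (hW'.primeIdealOf ⟨f' x', hy⟩).asIdeal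
    rw [h4, RingHom.ker_eq_comap_bot]
  constructor
  · intro hsm
    haveI : Algebra.IsSmoothAt Γ(S, W) q.asIdeal := hsm
    refine ⟨Groth.Agent.Lib.Helper8.SmoothFiber.flat_of_isSmoothAt Γ(S, W) Γ(X, V) q.asIdeal, ?_⟩
    exact Groth.Agent.Lib.Helper8.SmoothFiber.isSmoothAt_baseChange
      (R := Γ(S, W)) (T := Γ(Spec (S.residueField (f x)), ⊤)) (A := Γ(X, V))
      (B := Γ(f.fiber (f x), V')) q.asIdeal P.asIdeal
  · rintro ⟨hfl, hsm⟩
    haveI : Module.Flat Γ(S, W) (Localization.AtPrime q.asIdeal) := hfl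
    haveI : Algebra.IsSmoothAt Γ(Spec (S.residueField (f x)), ⊤) P.asIdeal := hsm
    exact Groth.Agent.Lib.Helper8.SmoothFiber.isSmoothAt_of_fiber_gen
      (R := Γ(S, W)) (A := Γ(X, V)) (K' := Γ(Spec (S.residueField (f x)), ⊤))
      (B' := Γ(f.fiber (f x), V')) q.asIdeal hK' hker P.asIdeal

end Groth.Agent.Lib.Helper8.SmoothFiberSch
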