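import Mathlib
import Groth.Prelude.Def_EGA43

set_option autoImplicit false
universe u

open CategoryTheory AlgebraicGeometry CategoryTheory.Limits EGA43

namespace Groth.Agent.Lib.Helper8

section Top

variable {α β γ : Type*} [TopologicalSpace α] [TopologicalSpace β] [TopologicalSpace γ]

theorem isOpenAt_comp (φ : α → β) (ψ : β → γ) (a : α) (h₁ : IsOpenAt φ a)
    (h₂ : IsOpenAt ψ (φ a)) : IsOpenAt (ψ ∘ φ) a := by
  intro U hU
  rw [Set.image_comp]
  exact h₂ _ (h₁ U hU)

theorem isOpenAt_of_comp_right (φ : α → β) (hφ : Continuous φ) (ψ : β → γ) (a : α)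
    (h : IsOpenAt (ψ ∘ φ) a) : IsOpenAt ψ (φ a) := by
  intro U hU
  have h1 : φ ⁻¹' U ∈ nhds a := hφ.continuousAt hU
  refine Filter.mem_of_superset (h _ h1) ?_
  rintro _ ⟨b, hb, rfl⟩
  exact ⟨φ b, hb, rfl⟩

theorem isOpenAt_of_isOpenMap {φ : α → β} (h : IsOpenMap φ) (a : α) : IsOpenAt φ a :=
  fun _ hU => h.image_mem_nhds hU

end Top

section Sch

theorem coe_comp_base {X Y Z : Scheme.{u}} (a : X ⟶ Y) (b : Y ⟶ Z) :
    (⇑(a ≫ b).base : X → Z) = ⇑b.base ∘ ⇑a.base := by
  funext x; exact Scheme.Hom.comp_apply a b x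

/-- openness at a point of the second projection of any pullback square over a universally
open-at-`x` morphism. -/
theorem isOpenAt_of_isPullback {P X Y Y' : Scheme.{u}} {a : P ⟶ X} {b : P ⟶ Y'} {f : X ⟶ Y}
    {g : Y' ⟶ Y} (sq : IsPullback a b f g) (x : X) (h : IsUnivOpenAt f x) (p : P)
    (hp : a.base p = x) : IsOpenAt b.base p := by
  have h1 : IsOpenAt (pullback.snd f g).base (sq.isoPullback.hom.base p) := by
    apply h Y' g
    rw [← Scheme.Hom.comp_apply, sq.isoPullback_hom_fst]; exact hp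
  have h2 : IsOpenAt sq.isoPullback.hom.base p :=
    isOpenAt_of_isOpenMap (Scheme.homeoOfIso sq.isoPullback).isOpenMap p
  have h3 := isOpenAt_comp _ _ p h2 h1
  rw [← coe_comp_base, sq.isoPullback_hom_snd] at h3
  exact h3

/-- universal openness at a point is stable under base change. -/
theorem isUnivOpenAt_of_isPullback {X Y X' Y' : Scheme.{u}} {f : X ⟶ Y} {f' : X' ⟶ Y'}
    {gX : X' ⟶ X} {gY : Y' ⟶ Y} (sq : IsPullback gX f' f gY) (x : X) (h : IsUnivOpenAt f x)
    (x' : X') (hx' : gX.base x' = x) : IsUnivOpenAt f' x' := by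
  intro T t z hz
  have big := (IsPullback.of_hasPullback f' t).paste_horiz sq
  apply isOpenAt_of_isPullback big x h z
  rw [Scheme.Hom.comp_apply, hz, hx']

/-- the comparison square for a composite. -/
theorem exists_isPullback_comp {X Y Z Z' : Scheme.{u}} (f : X ⟶ Y) (g : Y ⟶ Z) (t : Z' ⟶ Z) :
    ∃ c : pullback (f ≫ g) t ⟶ pullback g t,
      c ≫ pullback.fst g t = pullback.fst (f ≫ g) t ≫ f ∧
      c ≫ pullback.snd g t = pullback.snd (f ≫ g) t ∧
      IsPullback (pullback.fst (f ≫ g) t) c f (pullback.fst g t) := by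
  have hc1 : pullback.lift (pullback.fst (f ≫ g) t ≫ f) (pullback.snd (f ≫ g) t)
      (by rw [Category.assoc]; exact pullback.condition) ≫ pullback.fst g t =
      pullback.fst (f ≫ g) t ≫ f := pullback.lift_fst _ _ _
  have hc2 : pullback.lift (pullback.fst (f ≫ g) t ≫ f) (pullback.snd (f ≫ g) t)
      (by rw [Category.assoc]; exact pullback.condition) ≫ pullback.snd g t =
      pullback.snd (f ≫ g) t := pullback.lift_snd _ _ _
  refine ⟨_, hc1, hc2, ?_⟩
  have outer : IsPullback (pullback.lift (pullback.fst (f ≫ g) t ≫ f) (pullback.snd (f ≫ g) t)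
      (by rw [Category.assoc]; exact pullback.condition) ≫ pullback.snd g t)
      (pullback.fst (f ≫ g) t) t (f ≫ g) := by
    rw [hc2]; exact (IsPullback.of_hasPullback (f ≫ g) t).flip
  exact (IsPullback.of_right outer hc1 (IsPullback.of_hasPullback g t).flip).flip

end Sch

end Groth.Agent.Lib.Helper8
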