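import Mathlib
import Groth.Agent.Lib.Helper8.EtLift

/-!
# Étale base change for `H¹` of the naive cotangent complex
-/

set_option autoImplicit false

open TensorProduct

universe u

namespace Groth.Agent.Lib.Helper8.H1CotEtale

/-- An étale algebra over a quotient lifts to an étale algebra, presented as a surjection with
kernel the extended ideal. -/
theorem exists_etale_lift_surjective (A S T : Type u) [CommRing A] [CommRing S] [CommRing T]
    [Algebra A S] [Algebra S T] [Algebra A T] [IsScalarTower A S T] [Algebra.Etale S T]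
    (hsurj : Function.Surjective (algebraMap A S)) :
    ∃ (E' : Type u) (_ : CommRing E') (_ : Algebra A E') (_ : Algebra.Etale A E')
      (π : E' →ₐ[A] T), Function.Surjective π ∧
        RingHom.ker π.toRingHom = (RingHom.ker (algebraMap A S)).map (algebraMap A E') := by
  classical
  obtain ⟨I, hI⟩ : ∃ I : Ideal A, I = RingHom.ker (algebraMap A S) := ⟨_, rfl⟩
  let φ : A ⧸ I →+* S := Ideal.Quotient.lift I (algebraMap A S) (fun a ha => by
    rw [hI] at ha; exact ha)
  have hφbij : Function.Bijective φ := by
    constructor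
    · rw [injective_iff_map_eq_zero]
      intro x hx
      obtain ⟨a, rfl⟩ := Ideal.Quotient.mk_surjective x
      rw [Ideal.Quotient.eq_zero_iff_mem, hI]
      exact hx
    · intro s
      obtain ⟨a, rfl⟩ := hsurj s
      exact ⟨Ideal.Quotient.mk I a, rfl⟩
  letI algQS : Algebra (A ⧸ I) S := φ.toAlgebra
  letI algQT : Algebra (A ⧸ I) T := ((algebraMap S T).comp φ).toAlgebra
  haveI : IsScalarTower (A ⧸ I) S T := IsScalarTower.of_algebraMap_eq (fun _ => rfl)
  haveI : IsScalarTower A (A ⧸ I) T := IsScalarTower.of_algebraMap_eq (fun a => by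
    rw [IsScalarTower.algebraMap_apply A S T]; rfl)
  let eQS : (A ⧸ I) ≃ₐ[A ⧸ I] S := AlgEquiv.ofBijective (Algebra.ofId (A ⧸ I) S) hφbij
  haveI : Algebra.Etale (A ⧸ I) S := Algebra.Etale.of_equiv eQS
  haveI : Algebra.Etale (A ⧸ I) T := Algebra.Etale.comp (A ⧸ I) S T
  obtain ⟨E', _, _, hE', ⟨e'⟩⟩ := Groth.Agent.Lib.Helper8.EtLift.exists_lift A I T
  let π : E' →ₐ[A] T := (e'.toAlgHom.restrictScalars A).comp Algebra.TensorProduct.includeRight
  have hπ : ∀ x : E', π x = e' ((1 : A ⧸ I) ⊗ₜ[A] x) := fun x => rfl
  refine ⟨E', inferInstance, inferInstance, hE', π, ?_, ?_⟩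
  · intro y
    obtain ⟨z, hz⟩ := e'.surjective y
    obtain ⟨v, rfl⟩ := TensorProduct.mk_surjective A E' (A ⧸ I) Ideal.Quotient.mk_surjective z
    exact ⟨v, hz⟩
  · rw [← hI]
    ext x
    rw [RingHom.mem_ker]
    change π x = 0 ↔ _
    rw [hπ, map_eq_zero_iff _ e'.injective]
    have h2 : Algebra.TensorProduct.quotIdealMapEquivQuotTensor E' I
        (Ideal.Quotient.mk _ x) = (1 : A ⧸ I) ⊗ₜ[A] x := rfl
    rw [← h2, map_eq_zero_iff _ (AlgEquiv.injective _), Ideal.Quotient.eq_zero_iff_mem]

open Algebra in
/-- Étale base change for `H¹` of the naive cotangent complex. -/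
theorem bijective_of_etale (R S T : Type u) [CommRing R] [CommRing S] [CommRing T]
    [Algebra R S] [Algebra R T] [Algebra S T] [IsScalarTower R S T] [Algebra.Etale S T] :
    Function.Bijective ((Algebra.H1Cotangent.map R R S T).liftBaseChange T) := by
  classical
  let P : Extension.{u} R S := (Generators.self R S).toExtension
  letI algAT : Algebra P.Ring T := ((algebraMap S T).comp (algebraMap P.Ring S)).toAlgebra
  haveI : IsScalarTower P.Ring S T := IsScalarTower.of_algebraMap_eq (fun _ => rfl)
  obtain ⟨E', _, _, hE', π, hπsurj, hπker⟩ :=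
    exists_etale_lift_surjective P.Ring S T P.algebraMap_surjective
  letI algRE : Algebra R E' := ((algebraMap P.Ring E').comp (algebraMap R P.Ring)).toAlgebra
  haveI : IsScalarTower R P.Ring E' := IsScalarTower.of_algebraMap_eq (fun _ => rfl)
  haveI : IsScalarTower R P.Ring T := IsScalarTower.of_algebraMap_eq (fun r => by
    rw [IsScalarTower.algebraMap_apply R S T, IsScalarTower.algebraMap_apply R P.Ring S,
      ← IsScalarTower.algebraMap_apply P.Ring S T])
  let Q : Extension.{u} R T := Extension.ofSurjective (π.restrictScalars R) hπsurj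
  let f : P.Hom Q :=
    { toRingHom := algebraMap P.Ring E'
      toRingHom_algebraMap := fun x => rfl
      algebraMap_toRingHom := fun x => by
        change π (algebraMap P.Ring E' x) = algebraMap S T (algebraMap P.Ring S x)
        rw [AlgHom.commutes]; rfl }
  letI algPQ : Algebra P.Ring Q.Ring := (inferInstance : Algebra P.Ring E')
  have halg : algebraMap P.Ring Q.Ring = f.toRingHom := rfl
  have H₁ : f.toRingHom.FormallyEtale := by
    change (algebraMap P.Ring E').FormallyEtale
    rw [RingHom.formallyEtale_algebraMap]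
    infer_instance
  have hlift : ∀ (x : Q.Ring) (i : P.ker),
      ((f.mapKer halg).liftBaseChange Q.Ring (x ⊗ₜ[P.Ring] i)).1 =
        x * algebraMap P.Ring Q.Ring i := fun x i => by
    rw [LinearMap.liftBaseChange_tmul]
    rfl
  have H₂ : Function.Bijective ((f.mapKer halg).liftBaseChange Q.Ring) := by
    constructor
    · haveI : Module.Flat P.Ring Q.Ring := (inferInstance : Module.Flat P.Ring E')
      have h1 : Function.Injective (LinearMap.lTensor Q.Ring (Submodule.subtype P.ker)) :=
        Module.Flat.lTensor_preserves_injective_linearMap _ Subtype.val_injective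
      let L1 : Q.Ring ⊗[P.Ring] P.ker →ₗ[P.Ring] Q.Ring :=
        (TensorProduct.rid P.Ring Q.Ring).toLinearMap ∘ₗ
          LinearMap.lTensor Q.Ring (Submodule.subtype P.ker)
      let L2 : Q.Ring ⊗[P.Ring] P.ker →ₗ[P.Ring] Q.Ring :=
        ((Submodule.subtype Q.ker).restrictScalars P.Ring) ∘ₗ
          (((f.mapKer halg).liftBaseChange Q.Ring).restrictScalars P.Ring)
      have h12 : L1 = L2 := by
        apply TensorProduct.ext'
        intro x i
        change (TensorProduct.rid P.Ring Q.Ring) (x ⊗ₜ[P.Ring] (i : P.Ring)) =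
          ((f.mapKer halg).liftBaseChange Q.Ring (x ⊗ₜ[P.Ring] i)).1
        rw [hlift, TensorProduct.rid_tmul, Algebra.smul_def, mul_comm]
      have hL1 : Function.Injective L1 := (TensorProduct.rid P.Ring Q.Ring).injective.comp h1
      intro z w hzw
      apply hL1
      rw [h12]
      change ((f.mapKer halg).liftBaseChange Q.Ring z).1 =
        ((f.mapKer halg).liftBaseChange Q.Ring w).1
      rw [hzw]
    · rintro ⟨y, hy⟩
      have hy' : y ∈ Ideal.span ((algebraMap P.Ring Q.Ring) '' (P.ker : Set P.Ring)) := by
        have h0 : y ∈ RingHom.ker π.toRingHom := hy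
        rw [hπker] at h0
        exact h0
      suffices h : ∃ z, ((f.mapKer halg).liftBaseChange Q.Ring z).1 = y by
        obtain ⟨z, hz⟩ := h
        exact ⟨z, Subtype.ext hz⟩
      refine Submodule.span_induction (p := fun y _ => ∃ z,
        ((f.mapKer halg).liftBaseChange Q.Ring z).1 = y) ?_ ?_ ?_ ?_ hy'
      · rintro _ ⟨i, hi, rfl⟩
        exact ⟨(1 : Q.Ring) ⊗ₜ[P.Ring] (⟨i, hi⟩ : P.ker), by rw [hlift, one_mul]⟩
      · exact ⟨0, by rw [map_zero]; rfl⟩
      · rintro a b - - ⟨za, hza⟩ ⟨zb, hzb⟩
        exact ⟨za + zb, by rw [map_add, ← hza, ← hzb]; rfl⟩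
      · rintro c a - ⟨za, hza⟩
        exact ⟨c • za, by rw [map_smul, ← hza]; rfl⟩
  haveI : Module.Flat S T := inferInstance
  have key : Function.Bijective ((Extension.H1Cotangent.map f).liftBaseChange T) :=
    (Extension.tensorH1CotangentOfFormallyEtale f halg H₁ H₂).bijective
  -- compare with the standard extension of `T`
  let PT : Extension.{u} R T := (Generators.self R T).toExtension
  let h₀ : P.Hom PT := (Generators.defaultHom (Generators.self R S) (Generators.self R T)).toExtensionHom
  let gQ : PT.Hom Q := Extension.defaultHom R T Q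
  haveI : FormallySmooth R P.Ring := (inferInstance : FormallySmooth R (MvPolynomial S R))
  haveI : FormallySmooth R PT.Ring := (inferInstance : FormallySmooth R (MvPolynomial T R))
  haveI : FormallySmooth P.Ring E' := inferInstance
  haveI : FormallySmooth R Q.Ring := FormallySmooth.comp R P.Ring E'
  have hg : Function.Bijective (Extension.H1Cotangent.map gQ) := by
    have := (Extension.H1Cotangent.equivOfFormallySmooth PT Q).bijective
    rw [← LinearEquiv.coe_toLinearMap, Extension.H1Cotangent.equivOfFormallySmooth_toLinearMap gQ]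
      at this
    exact this
  have hcomp : Extension.H1Cotangent.map f =
      (Extension.H1Cotangent.map gQ).restrictScalars S ∘ₗ Extension.H1Cotangent.map h₀ := by
    rw [← Extension.H1Cotangent.map_comp]
    exact Extension.H1Cotangent.map_eq _ _
  have hm₀ : Algebra.H1Cotangent.map R R S T = Extension.H1Cotangent.map h₀ := rfl
  have hfac : ((Extension.H1Cotangent.map f).liftBaseChange T) =
      (Extension.H1Cotangent.map gQ) ∘ₗ ((Algebra.H1Cotangent.map R R S T).liftBaseChange T) := by
    apply TensorProduct.AlgebraTensorModule.ext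
    intro t x
    rw [LinearMap.liftBaseChange_tmul, LinearMap.comp_apply, LinearMap.liftBaseChange_tmul,
      map_smul, hcomp, hm₀]
    rfl
  rw [hfac] at key
  have h1 : ⇑((Extension.H1Cotangent.map gQ) ∘ₗ
      ((Algebra.H1Cotangent.map R R S T).liftBaseChange T)) =
      ⇑(Extension.H1Cotangent.map gQ) ∘ ⇑((Algebra.H1Cotangent.map R R S T).liftBaseChange T) :=
    rfl
  rw [h1] at key
  exact (Function.Bijective.of_comp_iff' hg _).mp key

end Groth.Agent.Lib.Helper8.H1CotEtale
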