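import Groth.Agent.Lib.Helper12.NagataCrit2
import Groth.Agent.Lib.Helper14.NJapanese
import Groth.Agent.Lib.Helper14.NorLocus
import Groth.Agent.Lib.Helper21.CohenStructH
import Groth.Agent.Lib.Helper26.RegularNormal
import Groth.Agent.Lib.Helper4.NagRed
import Mathlib
import Groth.Prelude

/-!
# Quasi-excellent rings are Nagata (copied from other seats' landed proofs S9392, S4710, S12125,
S2654, so that it can be used from this library)
-/

set_option autoImplicit false
universe u
open EGA4 CAlg

namespace Groth.Agent.Lib.Helper8.NagataExc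


/-- A localization of an N-2 (Japanese) domain which is again a domain is N-2. -/
theorem isN2_of_isLocalization (R : Type u) [CommRing R] [IsDomain R] (M : Submonoid R)
    (S : Type u) [CommRing S] [IsDomain S] [Algebra R S] [IsLocalization M S]
    (h : CAlg.IsN2 R) : CAlg.IsN2 S := by
  intro L _ _ _ _ hfd
  have hM : ∀ m : M, IsUnit (algebraMap R (FractionRing R) m) := by
    intro m
    have hm0 : (m : R) ≠ 0 := by
      intro h0
      have := IsLocalization.map_units S m
      rw [h0, map_zero] at this
      exact not_isUnit_zero this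
    exact IsUnit.mk0 _ (by simpa using hm0)
  letI : Algebra S (FractionRing R) := (IsLocalization.lift hM).toAlgebra
  haveI : IsScalarTower R S (FractionRing R) :=
    IsScalarTower.of_algebraMap_eq fun r => (IsLocalization.lift_eq hM r).symm
  haveI : IsFractionRing S (FractionRing R) :=
    IsFractionRing.isFractionRing_of_isDomain_of_isLocalization M S (FractionRing R)
  let e : FractionRing R ≃ₐ[S] FractionRing S := (FractionRing.algEquiv S (FractionRing R)).symm
  letI : Algebra R L := ((algebraMap S L).comp (algebraMap R S)).toAlgebra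
  haveI : IsScalarTower R S L := IsScalarTower.of_algebraMap_eq fun _ => rfl
  letI : Algebra (FractionRing R) L :=
    ((algebraMap (FractionRing S) L).comp (e : FractionRing R →+* FractionRing S)).toAlgebra
  have hKL : ∀ x : FractionRing R, algebraMap (FractionRing R) L x =
      algebraMap (FractionRing S) L (e x) := fun _ => rfl
  haveI : IsScalarTower R (FractionRing R) L := IsScalarTower.of_algebraMap_eq fun r => by
    rw [hKL, IsScalarTower.algebraMap_apply R S (FractionRing R), AlgEquiv.commutes,
      ← IsScalarTower.algebraMap_apply S (FractionRing S) L, IsScalarTower.algebraMap_apply R S L]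
  have hfd' : FiniteDimensional (FractionRing R) L :=
    Module.Finite.of_equiv_equiv (e.symm : FractionRing S ≃+* FractionRing R) (RingEquiv.refl L)
      (by
        ext x
        simp only [RingHom.coe_comp, RingHom.coe_coe, Function.comp_apply, RingEquiv.coe_ringHom_refl,
          RingHom.id_apply]
        rw [hKL]
        simp)
  have h1 : Module.Finite R (integralClosure R L) := h L hfd'
  exact Groth.Agent.Lib.Helper14.finite_integralClosure_of_isLocalization M h1




/-- Last assertion, case of rings of fractions: if A is a Noetherian ring all of whose quotient domains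
are Japanese (a Nagata ring), then so is every ring of fractions S⁻¹A. -/
theorem isNagata_localization (A : Type u) [CommRing A] (hA : CAlg.IsNagata A) (S : Submonoid A) :
    CAlg.IsNagata (Localization S) := by
  obtain ⟨hN, hJ⟩ := hA
  haveI := hN
  refine ⟨IsLocalization.isNoetherianRing S (Localization S) hN, ?_⟩
  intro p' hp'
  set p : Ideal A := p'.comap (algebraMap A (Localization S)) with hp
  haveI : p.IsPrime := Ideal.comap_isPrime _ _
  have hmap : p.map (algebraMap A (Localization S)) = p' :=
    IsLocalization.map_comap S (Localization S) p'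
  have key : ∀ (q : Ideal (Localization S)) [q.IsPrime],
      q = p.map (algebraMap A (Localization S)) → CAlg.IsN2 (Localization S ⧸ q) := by
    intro q hq hqe
    subst hqe
    exact Groth.Agent.Lib.Helper8.NagataExc.isN2_of_isLocalization (A ⧸ p) (Algebra.algebraMapSubmonoid (A ⧸ p) S)
      (Localization S ⧸ p.map (algebraMap A (Localization S))) (hJ p)
  exact key p' hmap.symm




private theorem isN1_of_N2' (R : Type u) [CommRing R] [IsDomain R]
    (h : Groth.Agent.Lib.Helper12.N2.N2' R) : CAlg.IsN1 R :=
  Groth.Agent.Lib.Helper12.N2.isN2_of_N2' R h (FractionRing R)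


/-- Let A be a Noetherian ring. Then every quotient of A by a prime ideal is N-2 (i.e. A is a Nagata
ring) if and only if (1) for every maximal ideal m of A every quotient of A_m by a prime ideal is
N-2, and (2) for every prime p of A, writing B = A/p with fraction field K, for every finite purely
inseparable field extension K' of K and every sub-B-algebra B' of K' which is a finite B-module and
has K' as its fraction field, there is a nonzero element f of B' such that B'_f is an integrally
closed domain. -/
theorem isNagata_iff (A : Type u) [CommRing A] [IsNoetherianRing A] :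
    CAlg.IsNagata A ↔
      ((∀ (m : Ideal A) [m.IsMaximal] (P : Ideal (Localization.AtPrime m)) [P.IsPrime],
          CAlg.IsN2 (Localization.AtPrime m ⧸ P)) ∧
        ∀ (p : Ideal A) [p.IsPrime] (K' : Type u) [Field K'] [Algebra (A ⧸ p) K']
          [Algebra (FractionRing (A ⧸ p)) K'] [IsScalarTower (A ⧸ p) (FractionRing (A ⧸ p)) K']
          [FiniteDimensional (FractionRing (A ⧸ p)) K'] [IsPurelyInseparable (FractionRing (A ⧸ p)) K']
          (B' : Subalgebra (A ⧸ p) K'), Module.Finite (A ⧸ p) B' → IsFractionRing B' K' →
            ∃ f : B', f ≠ 0 ∧ IsIntegrallyClosed (Localization.Away f)) := by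
  classical
  constructor
  · intro hN
    haveI := hN.1
    refine ⟨fun m _ P _ => (Groth.Agent.Lib.Helper8.NagataExc.isNagata_localization A hN m.primeCompl).2 P, ?_⟩
    intro p _ K' _ _ _ _ _ _ B' hfin hfr
    haveI := hfin
    haveI := hfr
    have h1 : Module.Finite (A ⧸ p) (integralClosure (A ⧸ p) K') := hN.2 p K' inferInstance
    have h2 : Module.Finite B' (integralClosure B' K') :=
      Groth.Agent.Lib.Helper12.NagataCrit.finite_integralClosure_of_finite_base (A ⧸ p) B' K' h1
    exact Groth.Agent.Lib.Helper12.N1Crit.exists_away_of_isN1 B' K' h2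
  · rintro ⟨h1, h2⟩
    refine ⟨inferInstance, fun p _ => (Groth.Agent.Lib.Helper12.NagataLoc.isN2_iff_N2' _).2
      (Groth.Agent.Lib.Helper12.N2Insep.N2'_of_purelyInseparable (A ⧸ p) ?_)⟩
    intro K' _ _ _ _ _ _
    obtain ⟨B', hfg, hle, hfrac⟩ :=
      Groth.Agent.Lib.Helper12.NagataCrit.exists_finite_subalgebra (A ⧸ p)
        (FractionRing (A ⧸ p)) K'
    haveI hfin : Module.Finite (A ⧸ p) B' := Module.Finite.iff_fg.2 hfg
    have hinjK' : Function.Injective (algebraMap (A ⧸ p) K') := by
      rw [IsScalarTower.algebraMap_eq (A ⧸ p) (FractionRing (A ⧸ p)) K']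
      exact (algebraMap (FractionRing (A ⧸ p)) K').injective.comp
        (IsFractionRing.injective (A ⧸ p) (FractionRing (A ⧸ p)))
    haveI hfr : IsFractionRing B' K' := by
      refine IsFractionRing.of_field B' K' ?_
      intro z
      obtain ⟨d, hd0, hd⟩ := hfrac z
      refine ⟨⟨d • z, hd⟩, algebraMap (A ⧸ p) B' d, ?_⟩
      have hdK : algebraMap (A ⧸ p) K' d ≠ 0 := by
        rwa [Ne, map_eq_zero_iff _ hinjK']
      have e1 : algebraMap B' K' (algebraMap (A ⧸ p) B' d) = algebraMap (A ⧸ p) K' d := rfl
      have e2 : algebraMap B' K' ⟨d • z, hd⟩ = d • z := rfl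
      rw [e1, e2, Algebra.smul_def, mul_div_cancel_left₀ _ hdK]
    obtain ⟨f, hf, hn⟩ := h2 p K' B' hfin hfr
    haveI : IsNoetherianRing B' := IsNoetherianRing.of_finite (A ⧸ p) B'
    letI algAB : Algebra A B' := ((algebraMap (A ⧸ p) B').comp (Ideal.Quotient.mk p)).toAlgebra
    haveI : IsScalarTower A (A ⧸ p) B' := IsScalarTower.of_algebraMap_eq (fun _ => rfl)
    haveI : Module.Finite A B' := Module.Finite.trans (A ⧸ p) B'
    have hlocN1 : ∀ (m' : Ideal B') [m'.IsMaximal], CAlg.IsN1 (Localization.AtPrime m') := by
      intro m' _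
      exact isN1_of_N2' _
        (Groth.Agent.Lib.Helper12.NagataCrit.N2'_atPrime_of_local_nagata A h1 B' m')
    have h3 : Module.Finite B' (integralClosure B' K') :=
      Groth.Agent.Lib.Helper12.N1Crit.finite_integralClosure_of_local B' K' f hf hn hlocN1
    exact Groth.Agent.Lib.Helper12.N2Insep.finite_integralClosure_trans (A ⧸ p) B' K' h3




/-- A quasi-excellent ring (a Noetherian G-ring that is J-2) is a Nagata ring (Noetherian with A/𝔭 N-2
for every prime 𝔭; equivalently, universally Japanese). -/
theorem isNagata_of_isQuasiExcellent (A : Type u) [CommRing A] (hA : EGA4.IsQuasiExcellent A) : CAlg.IsNagata A := by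
  obtain ⟨hN, hG, hJ⟩ := hA
  haveI := hN
  rw [Groth.Agent.Lib.Helper8.NagataExc.isNagata_iff A]
  refine ⟨?_, ?_⟩
  · intro m hm P hP
    haveI := hm
    haveI := hP
    haveI : IsNoetherianRing (Localization.AtPrime m) :=
      IsLocalization.isNoetherianRing m.primeCompl _ inferInstance
    apply Groth.Agent.Lib.Helper4.NagRed.isN2_quotient_of_reduced (Localization.AtPrime m) P
    intro L' _ _ hfin
    have hreg := (hG.2 m).2 P
    have hR : IsRegularRing (TensorProduct P.ResidueField L'
        (P.Fiber (AdicCompletion (IsLocalRing.maximalIdeal (Localization.AtPrime m))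
          (Localization.AtPrime m)))) := hreg.2 L' hfin
    exact @Groth.Agent.Lib.Helper21.CohenStruct.isReduced_of_isRegularRing _ _ hR
  · intro p hp K' _ _ _ _ _ _ B' hB'fin hB'frac
    haveI := hp
    haveI := hB'fin
    haveI := hB'frac
    letI algAB' : Algebra A B' := ((algebraMap (A ⧸ p) B').comp (Ideal.Quotient.mk p)).toAlgebra
    haveI : IsScalarTower A (A ⧸ p) B' := IsScalarTower.of_algebraMap_eq (fun _ => rfl)
    haveI hft1 : Algebra.FiniteType A (A ⧸ p) :=
      Algebra.FiniteType.of_surjective (Ideal.Quotient.mkₐ A p) Ideal.Quotient.mk_surjective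
    haveI hft : Algebra.FiniteType A B' :=
      Algebra.FiniteType.trans hft1 (inferInstance : Algebra.FiniteType (A ⧸ p) B')
    have hopen : IsOpen (EGA4.regLocus B') := hJ B' hft
    obtain ⟨g, hg0, hg⟩ := Groth.Agent.Lib.Helper14.NorLocus.exists_basicOpen_of_bot_mem B' _ hopen
      (Groth.Agent.Lib.Helper14.NorLocus.bot_mem_regLocus B')
    refine ⟨g, hg0, ?_⟩
    haveI : IsDomain (Localization.Away g) :=
      IsLocalization.isDomain_localization (powers_le_nonZeroDivisors_of_noZeroDivisors hg0)
    apply IsIntegrallyClosed.of_localization_maximal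
    intro q _ hq
    haveI := hq
    have hmem : (⟨q, inferInstance⟩ : PrimeSpectrum (Localization.Away g)) ∈
        EGA4.regLocus (Localization.Away g) := by
      rw [Groth.Agent.Lib.Helper14.NorLocus.mem_regLocus_away_iff B' g]
      apply hg
      intro hgq
      have h1 : algebraMap B' (Localization.Away g) g ∈ q := hgq
      exact hq.ne_top (Ideal.eq_top_of_isUnit_mem _ h1 (IsLocalization.Away.algebraMap_isUnit g))
    haveI : IsRegularLocalRing (Localization.AtPrime q) := hmem
    exact Groth.Agent.Lib.Helper26.RegularNormal.isIntegrallyClosed_of_isRegularLocalRing _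


theorem isNagata_of_isExcellent (A : Type u) [CommRing A] (hA : EGA4.IsExcellent A) :
    CAlg.IsNagata A :=
  isNagata_of_isQuasiExcellent A ⟨hA.1, hA.2.2.1, hA.2.2.2⟩

end Groth.Agent.Lib.Helper8.NagataExc
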