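import Mathlib

/-!
# Purely inseparable étale localization: field theory and residue field lemmas (helper8)
-/

set_option autoImplicit false
universe u
open AlgebraicGeometry CategoryTheory Limits

namespace Groth.Agent.Lib.Helper8.EtLocPI

section FT
open IntermediateField Polynomial

theorem exists_sep_ext {k : Type u} [Field k] {ι : Type*} [Finite ι] (K : ι → Type u)
    [∀ i, Field (K i)] (φ : ∀ i, k →+* K i) (hfin : ∀ i, (φ i).Finite) (q : ℕ) [ExpChar k q] :
    ∃ (k' : Type u) (_ : Field k') (_ : Algebra k k') (_ : FiniteDimensional k k')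
      (_ : Algebra.IsSeparable k k'),
      ∀ (i : ι) (L : Type u) [Field L] (α : K i →+* L) (β : k' →+* L),
        α.comp (φ i) = β.comp (algebraMap k k') → ∀ z : K i, ∃ n : ℕ, α z ^ q ^ n ∈ β.range := by
  classical
  letI alg : ∀ i, Algebra k (K i) := fun i => (φ i).toAlgebra
  haveI : ∀ i, Module.Finite k (K i) := fun i => hfin i
  let Ω := AlgebraicClosure k
  let F : ∀ i, IntermediateField k (K i) := fun i => separableClosure k (K i)
  let N : ι → IntermediateField k Ω := fun i => normalClosure k (F i) Ω
  let M : IntermediateField k Ω := ⨆ i, N i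
  haveI : ∀ i, FiniteDimensional k (N i) := fun i => normalClosure.is_finiteDimensional k (F i) Ω
  haveI : FiniteDimensional k M := IntermediateField.finiteDimensional_iSup_of_finite
  haveI : ∀ i, Algebra.IsSeparable k (N i) := fun i => by
    show Algebra.IsSeparable k ↥(⨆ σ : (F i) →ₐ[k] Ω, σ.fieldRange)
    haveI : ∀ σ : (F i) →ₐ[k] Ω, Algebra.IsSeparable k σ.fieldRange := fun σ =>
      AlgEquiv.Algebra.isSeparable (AlgEquiv.ofInjectiveField σ)
    exact IntermediateField.isSeparable_iSup _ _
  haveI : Algebra.IsSeparable k M := IntermediateField.isSeparable_iSup _ _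
  haveI : ∀ i, Normal k (N i) := fun i => normalClosure.normal k (F i) Ω
  haveI : Normal k M := IntermediateField.normal_iSup k Ω N
  refine ⟨M, inferInstance, inferInstance, inferInstance, inferInstance, ?_⟩
  intro i L _ α β hαβ z
  haveI : Algebra.IsAlgebraic k (K i) := Algebra.IsAlgebraic.of_finite k (K i)
  haveI : ExpChar (F i) q := expChar_of_injective_algebraMap (algebraMap k (F i)).injective q
  haveI : IsPurelyInseparable (F i) (K i) := separableClosure.isPurelyInseparable k (K i)
  obtain ⟨n, w, hw⟩ := IsPurelyInseparable.pow_mem (F i) q z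
  refine ⟨n, ?_⟩
  let σ : (F i) →ₐ[k] Ω := IsAlgClosed.lift
  have hσN : σ w ∈ N i := AlgHom.fieldRange_le_normalClosure σ ⟨w, rfl⟩
  have hσM : σ w ∈ M := (le_iSup N i) hσN
  let y : M := ⟨σ w, hσM⟩
  have hmin : minpoly k y = minpoly k (w : K i) := by
    rw [IntermediateField.minpoly_eq y]
    show minpoly k (σ w) = _
    rw [minpoly.algHom_eq σ σ.injective w]
    exact IntermediateField.minpoly_eq w
  have hsplit : ((minpoly k (w : K i)).map (algebraMap k M)).Splits := by
    rw [← hmin]; exact Normal.splits inferInstance y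
  have hne : (minpoly k (w : K i)).map (algebraMap k M) ≠ 0 :=
    Polynomial.map_ne_zero (minpoly.ne_zero (Algebra.IsIntegral.isIntegral _))
  have hroot : (((minpoly k (w : K i)).map (algebraMap k M)).map β).IsRoot (α (w : K i)) := by
    rw [Polynomial.map_map, ← hαβ, Polynomial.IsRoot.def, Polynomial.eval_map,
      ← Polynomial.hom_eval₂]
    have h0 : Polynomial.eval₂ (φ i) (w : K i) (minpoly k (w : K i)) = 0 :=
      minpoly.aeval k (w : K i)
    rw [h0, map_zero]
  have hmem := hsplit.mem_range_of_isRoot hne hroot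
  rw [← map_pow, ← hw]
  exact hmem

end FT

section PI
open Scheme.Pullback

theorem epi_ofPointTensor {X S U : Scheme.{u}} (f : X ⟶ S) (g : U ⟶ S) (v : ↥(pullback f g)) :
    Epi (ofPointTensor v) := by
  haveI h1 : Mono (Spec.map (ofPointTensor v) ≫ (Triplet.ofPoint v).SpecTensorTo) := by
    rw [ofPointTensor_SpecTensorTo]; infer_instance
  haveI h2 : Mono (Spec.map (ofPointTensor v)) := mono_of_mono _ (Triplet.ofPoint v).SpecTensorTo
  have h3 : Mono (Scheme.Spec.map (ofPointTensor v).op) := h2
  have h4 : Mono (ofPointTensor v).op := Scheme.Spec.mono_of_mono_map h3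
  exact unop_epi_of_mono (ofPointTensor v).op

theorem residueFieldMap_snd_isPurelyInseparable {X S U : Scheme.{u}} (f : X ⟶ S) (g : U ⟶ S)
    (v : ↥(pullback f g)) (q : ℕ) [ExpChar ((pullback f g).residueField v) q]
    (h : ∀ z : X.residueField (pullback.fst f g v), ∃ n : ℕ,
      ((pullback.fst f g).residueFieldMap v).hom z ^ q ^ n ∈
        ((pullback.snd f g).residueFieldMap v).hom.range) :
    ((pullback.snd f g).residueFieldMap v).hom.IsPurelyInseparable := by
  letI := ((pullback.snd f g).residueFieldMap v).hom.toAlgebra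
  show IsPurelyInseparable (U.residueField (pullback.snd f g v)) ((pullback f g).residueField v)
  let L := AlgebraicClosure ((pullback f g).residueField v)
  haveI : ExpChar L q :=
    expChar_of_injective_algebraMap (algebraMap ((pullback f g).residueField v) L).injective q
  haveI : Nonempty (((pullback f g).residueField v) →+* L) := ⟨algebraMap _ _⟩
  refine IsPurelyInseparable.of_injective_comp_algebraMap _ _ L ?_
  intro σ₁ σ₂ hσ
  haveI := epi_ofPointTensor f g v
  have hdesc : ofPointTensor v = pushout.desc ((pullback.fst f g).residueFieldMap v)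
      ((pullback.snd f g).residueFieldMap v)
      (residueFieldCongr_inv_residueFieldMap_ofPoint v) := rfl
  have key : ofPointTensor v ≫ CommRingCat.ofHom σ₁ = ofPointTensor v ≫ CommRingCat.ofHom σ₂ := by
    rw [hdesc]
    apply pushout.hom_ext
    · erw [pushout.inl_desc_assoc, pushout.inl_desc_assoc]
      ext z
      obtain ⟨n, c, hc⟩ := h z
      apply iterateFrobenius_inj L q n
      simp only [iterateFrobenius_def]
      show σ₁ (((pullback.fst f g).residueFieldMap v).hom z) ^ q ^ n =
        σ₂ (((pullback.fst f g).residueFieldMap v).hom z) ^ q ^ n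
      rw [← map_pow σ₁, ← map_pow σ₂, ← hc]
      exact RingHom.congr_fun hσ c
    · erw [pushout.inr_desc_assoc, pushout.inr_desc_assoc]
      ext c
      exact RingHom.congr_fun hσ c
  have h5 := (cancel_epi _).mp key
  ext z
  exact congr($(h5).hom z)

theorem quasiFiniteAt_pullback_snd {X S U : Scheme.{u}} (f : X ⟶ S) [LocallyOfFiniteType f]
    (g : U ⟶ S) (y : ↥(pullback f g)) (h : f.QuasiFiniteAt (pullback.fst f g y)) :
    (pullback.snd f g).QuasiFiniteAt y := by
  have hx₀ : pullback.fst f g y ∈ f.quasiFiniteLocus := h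
  haveI : LocallyQuasiFinite (f.quasiFiniteLocus.ι ≫ f) := by
    rw [← Scheme.Hom.quasiFiniteLocus_eq_top_iff, Scheme.Hom.quasiFiniteLocus_comp]
    simp
  have hy : y ∈ Set.range (pullback.snd f.quasiFiniteLocus.ι (pullback.fst f g)) := by
    rw [Scheme.Pullback.range_snd]
    simpa using hx₀
  obtain ⟨y', rfl⟩ := hy
  rw [← Scheme.Hom.quasiFiniteAt_comp_iff_of_isOpenImmersion]
  have e : pullback.snd f.quasiFiniteLocus.ι (pullback.fst f g) ≫ pullback.snd f g =
      (pullbackRightPullbackFstIso f g f.quasiFiniteLocus.ι).hom ≫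
        pullback.snd (f.quasiFiniteLocus.ι ≫ f) g := by
    simp
  rw [e]
  exact Scheme.Hom.quasiFiniteAt _ _

theorem finite_residueFieldMap_of_quasiFiniteAt {X Y : Scheme.{u}} (f : X ⟶ Y) (x : X)
    (h : f.QuasiFiniteAt x) : (f.residueFieldMap x).hom.Finite := by
  have h' : (f.stalkMap x).hom.QuasiFinite := h
  algebraize [(f.stalkMap x).hom]
  haveI : IsLocalHom (algebraMap (Y.presheaf.stalk (f x)) (X.presheaf.stalk x)) :=
    (inferInstance : IsLocalHom (f.stalkMap x).hom)
  haveI : Algebra.QuasiFinite (Y.presheaf.stalk (f x))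
      (IsLocalRing.ResidueField (X.presheaf.stalk x)) :=
    Algebra.QuasiFinite.trans _ (X.presheaf.stalk x) _
  haveI : Algebra.QuasiFinite (IsLocalRing.ResidueField (Y.presheaf.stalk (f x)))
      (IsLocalRing.ResidueField (X.presheaf.stalk x)) :=
    Algebra.QuasiFinite.of_restrictScalars (Y.presheaf.stalk (f x)) _ _
  have : Module.Finite (IsLocalRing.ResidueField (Y.presheaf.stalk (f x)))
      (IsLocalRing.ResidueField (X.presheaf.stalk x)) := Module.Finite.of_quasiFinite
  exact RingHom.finite_algebraMap.mpr this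


end PI

end Groth.Agent.Lib.Helper8.EtLocPI
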