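import Mathlib
import Groth.Agent.Lib.Helper8.EtLocPI
import Groth.Agent.Lib.Helper8.EtLocSch
import Groth.Agent.Lib.Helper6.EtaleNbhdResidue

set_option autoImplicit false
universe u
open AlgebraicGeometry CategoryTheory Limits

namespace Groth.Agent.Lib.Helper8.EtLocPI2

open Groth.Agent.Lib.Helper8.EtLocPI Scheme.Pullback

theorem pi_of_sep_ext {X S U : Scheme.{u}} (f : X ⟶ S) (g : U ⟶ S) (v : ↥(pullback f g))
    (x : X) (hxv : pullback.fst f g v = x) (u : U) (huv : pullback.snd f g v = u) (s : S)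
    (hxs : f x = s) (hus : g u = s)
    (q : ℕ) [ExpChar (S.residueField s) q]
    (k' : Type u) [Field k'] [Algebra (S.residueField s) k']
    (β₀ : k' →+* U.residueField u)
    (hβ₀ : β₀.comp (algebraMap (S.residueField s) k') =
      ((S.residueFieldCongr hus).inv ≫ g.residueFieldMap u).hom)
    (hFT : ∀ (L : Type u) [Field L] (α : X.residueField x →+* L) (β : k' →+* L),
        α.comp ((S.residueFieldCongr hxs).inv ≫ f.residueFieldMap x).hom =
          β.comp (algebraMap (S.residueField s) k') →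
        ∀ z, ∃ n : ℕ, α z ^ q ^ n ∈ β.range) :
    ((pullback.snd f g).residueFieldMap v).hom.IsPurelyInseparable := by
  subst hxv huv hus
  haveI : ExpChar ((pullback f g).residueField v) q :=
    expChar_of_injective_ringHom
      ((g.residueFieldMap _ ≫ (pullback.snd f g).residueFieldMap v).hom.injective) q
  apply residueFieldMap_snd_isPurelyInseparable f g v q
  intro z
  have compat : ((pullback.fst f g).residueFieldMap v).hom.comp
      ((S.residueFieldCongr hxs).inv ≫ f.residueFieldMap (pullback.fst f g v)).hom =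
      ((((pullback.snd f g).residueFieldMap v).hom.comp β₀)).comp (algebraMap _ k') := by
    rw [RingHom.comp_assoc, hβ₀, ← CommRingCat.hom_comp, ← CommRingCat.hom_comp]
    congr 1
    simp only [Category.assoc, ← Scheme.residueFieldMap_comp]
    rw [Scheme.Hom.residueFieldMap_congr pullback.condition]
    simp [Scheme.residueFieldCongr_inv]
  obtain ⟨n, c, hc⟩ := hFT _ _ _ compat z
  exact ⟨n, β₀ c, hc⟩

theorem compat_comp {S U₁ U₂ : Scheme.{u}} (g₁ : U₁ ⟶ S) (g₂ : U₂ ⟶ U₁) (u₂ : U₂) (u₁ : U₁)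
    (h : g₂ u₂ = u₁) (h' : (g₂ ≫ g₁) u₂ = g₁ u₁) :
    g₁.residueFieldMap u₁ ≫ (U₁.residueFieldCongr h).inv ≫ g₂.residueFieldMap u₂ =
      (S.residueFieldCongr h').inv ≫ (g₂ ≫ g₁).residueFieldMap u₂ := by
  subst h
  simp [Scheme.residueFieldMap_comp]

theorem finite_points_over {X S U : Scheme.{u}} (f : X ⟶ S) (g : U ⟶ S) (x : X) (u : U)
    (hxu : f x = g u) (hfin : (g.residueFieldMap u).hom.Finite) :
    {t : ↥(pullback f g) | pullback.fst f g t = x ∧ pullback.snd f g t = u}.Finite := by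
  let T : Triplet f g := Triplet.mk' x u hxu
  haveI : Finite (Spec T.tensor) := by
    have h1 : (T.tensorInl).hom.Finite := by
      refine RingHom.IsStableUnderBaseChange.pushout_inl RingHom.finite_isStableUnderBaseChange
        RingHom.finite_respectsIso _ _ ?_
      rw [CommRingCat.hom_comp]
      exact RingHom.Finite.comp hfin (RingHom.Finite.of_surjective _
        (ConcreteCategory.bijective_of_isIso (S.residueFieldCongr T.hy).inv).2)
    algebraize [T.tensorInl.hom]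
    haveI : IsArtinianRing T.tensor := IsArtinianRing.of_finite (X.residueField T.x) T.tensor
    exact inferInstanceAs (Finite (PrimeSpectrum T.tensor))
  refine (Set.finite_range T.SpecTensorTo).subset ?_
  rintro t ⟨h1, h2⟩
  have e : Triplet.ofPoint t = T := Triplet.ext h1 h2
  refine ⟨Spec.map (Triplet.tensorCongr e).inv (SpecOfPoint t), ?_⟩
  have h3 : Spec.map (Triplet.tensorCongr e).hom
      (Spec.map (Triplet.tensorCongr e).inv (SpecOfPoint t)) = SpecOfPoint t := by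
    rw [← Scheme.Hom.comp_apply, ← Spec.map_comp, Iso.hom_inv_id, Spec.map_id]
    rfl
  rw [← tensorCongr_SpecTensorTo e, Scheme.Hom.comp_apply, h3]
  exact SpecTensorTo_SpecOfPoint t

set_option maxHeartbeats 1000000 in
theorem exists_split_of_sep_ext {X S U₁ : Scheme.{u}} (f : X ⟶ S) [LocallyOfFiniteType f]
    (g₁ : U₁ ⟶ S) [Etale g₁] (u₁ : U₁) {ι : Type*} [Finite ι] (x : ι → X)
    (hs : ∀ i, f (x i) = g₁ u₁) (hx : ∀ i, f.QuasiFiniteAt (x i))
    (q : ℕ) [ExpChar (S.residueField (g₁ u₁)) q]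
    (k' : Type u) [Field k'] [Algebra (S.residueField (g₁ u₁)) k']
    (β₀ : k' →+* U₁.residueField u₁)
    (hβ₀ : β₀.comp (algebraMap (S.residueField (g₁ u₁)) k') = (g₁.residueFieldMap u₁).hom)
    (hfin : (g₁.residueFieldMap u₁).hom.Finite)
    (hFT : ∀ (i : ι) (L : Type u) [Field L] (α : X.residueField (x i) →+* L) (β : k' →+* L),
        α.comp ((S.residueFieldCongr (hs i)).inv ≫ f.residueFieldMap (x i)).hom =
          β.comp (algebraMap (S.residueField (g₁ u₁)) k') →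
        ∀ z, ∃ n : ℕ, α z ^ q ^ n ∈ β.range) :
    ∃ (U : Scheme.{u}) (g : U ⟶ S) (u : U), Etale g ∧ g u = g₁ u₁ ∧
      ∃ (n : ι → ℕ) (V : ∀ i, Fin (n i) → (pullback f g).Opens)
        (v : ∀ i, Fin (n i) → ↥(pullback f g)),
        (∀ i j, v i j ∈ V i j ∧ IsFinite ((V i j).ι ≫ pullback.snd f g) ∧
          pullback.snd f g (v i j) = u ∧
          (∀ w ∈ V i j, pullback.snd f g w = u → w = v i j) ∧
          ((pullback.snd f g).residueFieldMap (v i j)).hom.Finite ∧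
          ((pullback.snd f g).residueFieldMap (v i j)).hom.IsPurelyInseparable ∧
          pullback.fst f g (v i j) = x i) ∧
        (∀ i, Function.Injective (v i)) ∧
        (∀ w i, pullback.snd f g w = u → pullback.fst f g w = x i → ∃ j, w = v i j) := by
  classical
  let A : ι → Set ↥(pullback f g₁) := fun i =>
    {t | pullback.fst f g₁ t = x i ∧ pullback.snd f g₁ t = u₁}
  have hAfin : ∀ i, (A i).Finite := fun i => finite_points_over f g₁ (x i) u₁ (hs i) hfin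
  haveI : ∀ i, Finite ↥(A i) := fun i => (hAfin i).to_subtype
  have hqf₁ : ∀ a : Σ i, ↥(A i), (pullback.snd f g₁).QuasiFiniteAt (a.2 : ↥(pullback f g₁)) :=
    fun a => quasiFiniteAt_pullback_snd f g₁ _ (by rw [a.2.2.1]; exact hx a.1)
  obtain ⟨U₂, g₂, u₂, hg₂, hgu₂, hres₂, V', v', hV'⟩ :=
    Groth.Agent.Lib.Helper8.EtLocSch.exists_etale_nbhd_split (pullback.snd f g₁) u₁
      (fun a : Σ i, ↥(A i) => (a.2 : ↥(pullback f g₁))) (fun a => a.2.2.2) hqf₁
  haveI := hg₂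
  let Φ := pullbackLeftPullbackSndIso f g₁ g₂
  have hΦfst : Φ.hom ≫ pullback.fst f (g₂ ≫ g₁) =
      pullback.fst (pullback.snd f g₁) g₂ ≫ pullback.fst f g₁ :=
    pullbackLeftPullbackSndIso_hom_fst f g₁ g₂
  have hΦsnd : Φ.hom ≫ pullback.snd f (g₂ ≫ g₁) = pullback.snd (pullback.snd f g₁) g₂ :=
    pullbackLeftPullbackSndIso_hom_snd f g₁ g₂
  have hΦinvsnd : Φ.inv ≫ pullback.snd (pullback.snd f g₁) g₂ = pullback.snd f (g₂ ≫ g₁) :=
    pullbackLeftPullbackSndIso_inv_snd_snd f g₁ g₂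
  have hΦinvfst : Φ.inv ≫ pullback.fst (pullback.snd f g₁) g₂ ≫ pullback.fst f g₁ =
      pullback.fst f (g₂ ≫ g₁) := pullbackLeftPullbackSndIso_inv_fst f g₁ g₂
  have hΦid : ∀ w, Φ.hom (Φ.inv w) = w := fun w => by
    rw [← Scheme.Hom.comp_apply, Iso.inv_hom_id]; rfl
  have hΦid' : ∀ w, Φ.inv (Φ.hom w) = w := fun w => by
    rw [← Scheme.Hom.comp_apply, Iso.hom_inv_id]; rfl
  let e : ∀ i, ↥(A i) ≃ Fin (Nat.card ↥(A i)) := fun i => Finite.equivFin _
  have hgu : (g₂ ≫ g₁) u₂ = g₁ u₁ := by rw [Scheme.Hom.comp_apply, hgu₂]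
  refine ⟨U₂, g₂ ≫ g₁, u₂, inferInstance, hgu, fun i => Nat.card ↥(A i),
    fun i j => Φ.inv ⁻¹ᵁ V' ⟨i, (e i).symm j⟩, fun i j => Φ.hom (v' ⟨i, (e i).symm j⟩),
    ?_, ?_, ?_⟩
  · intro i j
    obtain ⟨h1, h2, h3, h4, h5, h6, h7⟩ := hV' ⟨i, (e i).symm j⟩
    have hmem : Φ.hom (v' ⟨i, (e i).symm j⟩) ∈ Φ.inv ⁻¹ᵁ V' ⟨i, (e i).symm j⟩ := by
      show Φ.inv (Φ.hom (v' ⟨i, (e i).symm j⟩)) ∈ V' ⟨i, (e i).symm j⟩
      rw [hΦid']; exact h1
    have hfinV : IsFinite ((Φ.inv ⁻¹ᵁ V' ⟨i, (e i).symm j⟩).ι ≫ pullback.snd f (g₂ ≫ g₁)) := by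
      have e1 : (Φ.inv ⁻¹ᵁ V' ⟨i, (e i).symm j⟩).ι ≫ pullback.snd f (g₂ ≫ g₁) =
          (Φ.inv ∣_ V' ⟨i, (e i).symm j⟩) ≫
            ((V' ⟨i, (e i).symm j⟩).ι ≫ pullback.snd (pullback.snd f g₁) g₂) := by
        rw [← hΦinvsnd, ← Category.assoc, ← Category.assoc, morphismRestrict_ι]
      rw [e1]
      haveI := h2
      infer_instance
    have hsnd : pullback.snd f (g₂ ≫ g₁) (Φ.hom (v' ⟨i, (e i).symm j⟩)) = u₂ := by
      rw [← Scheme.Hom.comp_apply, hΦsnd]; exact h3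
    have hfst : pullback.fst f (g₂ ≫ g₁) (Φ.hom (v' ⟨i, (e i).symm j⟩)) = x i := by
      rw [← Scheme.Hom.comp_apply, hΦfst, Scheme.Hom.comp_apply, h4]
      exact ((e i).symm j).2.1
    have hqfv : (pullback.snd f (g₂ ≫ g₁)).QuasiFiniteAt (Φ.hom (v' ⟨i, (e i).symm j⟩)) := by
      haveI := hfinV
      have hq1 := Scheme.Hom.quasiFiniteAt
        ((Φ.inv ⁻¹ᵁ V' ⟨i, (e i).symm j⟩).ι ≫ pullback.snd f (g₂ ≫ g₁)) ⟨_, hmem⟩
      rwa [Scheme.Hom.quasiFiniteAt_comp_iff_of_isOpenImmersion] at hq1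
    refine ⟨hmem, hfinV, hsnd, ?_, finite_residueFieldMap_of_quasiFiniteAt _ _ hqfv, ?_, hfst⟩
    · intro w hw hwu
      have hw' : Φ.inv w ∈ V' ⟨i, (e i).symm j⟩ := hw
      have h8 := h5 (Φ.inv w) hw' (by rw [← Scheme.Hom.comp_apply, hΦinvsnd]; exact hwu)
      show w = Φ.hom (v' ⟨i, (e i).symm j⟩)
      rw [← h8, hΦid]
    · refine pi_of_sep_ext f (g₂ ≫ g₁) _ (x i) hfst u₂ hsnd (g₁ u₁) (hs i) hgu q k'
        (((U₁.residueFieldCongr hgu₂).inv ≫ g₂.residueFieldMap u₂).hom.comp β₀) ?_ (hFT i)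
      rw [RingHom.comp_assoc, hβ₀, ← CommRingCat.hom_comp]
      congr 1
      exact compat_comp g₁ g₂ u₂ u₁ hgu₂ hgu
  · intro i j j' hjj'
    have h9 : v' ⟨i, (e i).symm j⟩ = v' ⟨i, (e i).symm j'⟩ := by
      have := congrArg (fun z => Φ.inv z) hjj'
      simpa only [hΦid'] using this
    have h10 : (((e i).symm j : ↥(A i)) : ↥(pullback f g₁)) = ((e i).symm j' : ↥(A i)) := by
      rw [← (hV' ⟨i, (e i).symm j⟩).2.2.2.1, ← (hV' ⟨i, (e i).symm j'⟩).2.2.2.1, h9]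
    exact (e i).symm.injective (Subtype.ext h10)
  · intro w i hwu hwx
    have hw'u : pullback.snd (pullback.snd f g₁) g₂ (Φ.inv w) = u₂ := by
      rw [← Scheme.Hom.comp_apply, hΦinvsnd]; exact hwu
    have ht1 : pullback.fst f g₁ (pullback.fst (pullback.snd f g₁) g₂ (Φ.inv w)) = x i := by
      rw [← Scheme.Hom.comp_apply, ← Scheme.Hom.comp_apply, hΦinvfst]; exact hwx
    have ht2 : pullback.snd f g₁ (pullback.fst (pullback.snd f g₁) g₂ (Φ.inv w)) = u₁ := by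
      rw [← Scheme.Hom.comp_apply, pullback.condition, Scheme.Hom.comp_apply, hw'u, hgu₂]
    obtain ⟨h1, h2, h3, h4, h5, h6, h7⟩ :=
      hV' ⟨i, ⟨pullback.fst (pullback.snd f g₁) g₂ (Φ.inv w), ht1, ht2⟩⟩
    have h8 := h6 (Φ.inv w) hw'u rfl
    refine ⟨e i ⟨pullback.fst (pullback.snd f g₁) g₂ (Φ.inv w), ht1, ht2⟩, ?_⟩
    show w = Φ.hom (v' ⟨i, (e i).symm
      (e i ⟨pullback.fst (pullback.snd f g₁) g₂ (Φ.inv w), ht1, ht2⟩)⟩)
    rw [Equiv.symm_apply_apply, ← h8, hΦid]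

theorem exists_etale_nbhd' (S : Scheme.{u}) (s : S) (k' : Type u) [Field k']
    [Algebra (S.residueField s) k'] [FiniteDimensional (S.residueField s) k']
    [Algebra.IsSeparable (S.residueField s) k'] :
    ∃ (U : Scheme.{u}) (g : U ⟶ S) (u : U) (hu : g u = s), Etale g ∧
      ∃ β₀ : k' →+* U.residueField u, Function.Bijective β₀ ∧
        β₀.comp (algebraMap (S.residueField s) k') =
          ((S.residueFieldCongr hu).inv ≫ g.residueFieldMap u).hom := by
  obtain ⟨U, g, u, hu, hg, hne⟩ := Groth.Agent.Lib.Helper6.EtaleNbhd.exists_etale_nbhd S s k'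
  letI := ((S.residueFieldCongr hu).inv ≫ g.residueFieldMap u).hom.toAlgebra
  obtain ⟨e⟩ := hne
  refine ⟨U, g, u, hu, hg, e.toRingEquiv.toRingHom, e.bijective, ?_⟩
  ext r
  exact e.commutes r

theorem exists_etale_nbhd_split_pi {X S : Scheme.{u}} (f : X ⟶ S) [LocallyOfFiniteType f] (s : S)
    {ι : Type*} [Finite ι] (x : ι → X) (hs : ∀ i, f (x i) = s)
    (hx : ∀ i, f.QuasiFiniteAt (x i)) :
    ∃ (U : Scheme.{u}) (g : U ⟶ S) (u : U), Etale g ∧ g u = s ∧
      ∃ (n : ι → ℕ) (V : ∀ i, Fin (n i) → (pullback f g).Opens)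
        (v : ∀ i, Fin (n i) → ↥(pullback f g)),
        (∀ i j, v i j ∈ V i j ∧ IsFinite ((V i j).ι ≫ pullback.snd f g) ∧
          pullback.snd f g (v i j) = u ∧
          (∀ w ∈ V i j, pullback.snd f g w = u → w = v i j) ∧
          ((pullback.snd f g).residueFieldMap (v i j)).hom.Finite ∧
          ((pullback.snd f g).residueFieldMap (v i j)).hom.IsPurelyInseparable ∧
          pullback.fst f g (v i j) = x i) ∧
        (∀ i, Function.Injective (v i)) ∧
        (∀ w i, pullback.snd f g w = u → pullback.fst f g w = x i → ∃ j, w = v i j) := by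
  obtain ⟨q, hq⟩ := ExpChar.exists (S.residueField s)
  have hfinφ : ∀ i, ((S.residueFieldCongr (hs i)).inv ≫ f.residueFieldMap (x i)).hom.Finite := by
    intro i
    rw [CommRingCat.hom_comp]
    exact RingHom.Finite.comp (finite_residueFieldMap_of_quasiFiniteAt f (x i) (hx i))
      (RingHom.Finite.of_surjective _
        (ConcreteCategory.bijective_of_isIso (S.residueFieldCongr (hs i)).inv).2)
  obtain ⟨k', _, _, _, _, hFT⟩ := exists_sep_ext (fun i => X.residueField (x i))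
    (fun i => ((S.residueFieldCongr (hs i)).inv ≫ f.residueFieldMap (x i)).hom) hfinφ q
  obtain ⟨U₁, g₁, u₁, hu₁, hg₁, β₀, hβbij, hβ₀'⟩ := exists_etale_nbhd' S s k'
  subst hu₁
  haveI := hg₁
  have hβ₀ : β₀.comp (algebraMap (S.residueField (g₁ u₁)) k') = (g₁.residueFieldMap u₁).hom := by
    rw [hβ₀']
    simp
  have hfin : (g₁.residueFieldMap u₁).hom.Finite := by
    rw [← hβ₀]
    exact RingHom.Finite.comp (RingHom.Finite.of_surjective _ hβbij.2)
      (RingHom.finite_algebraMap.mpr inferInstance)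
  exact exists_split_of_sep_ext f g₁ u₁ x hs hx q k' β₀ hβ₀ hfin hFT

theorem isFinite_of_le_of_isClosed {X S : Scheme.{u}} (f : X ⟶ S) (W W' : X.Opens) (hle : W' ≤ W)
    (hcl : IsClosed (W' : Set X)) (h : IsFinite (W.ι ≫ f)) : IsFinite (W'.ι ≫ f) := by
  haveI : IsClosedImmersion W'.ι := .of_isPreimmersion _ (by simpa using hcl)
  have e : W'.ι = X.homOfLE hle ≫ W.ι := (X.homOfLE_ι hle).symm
  haveI : IsClosedImmersion (X.homOfLE hle ≫ W.ι) := e ▸ inferInstance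
  haveI : IsClosedImmersion (X.homOfLE hle) := IsClosedImmersion.of_comp (X.homOfLE hle) W.ι
  rw [e, Category.assoc]
  infer_instance

theorem exists_etale_nbhd_split_pi_clopen {X S : Scheme.{u}} (f : X ⟶ S) [LocallyOfFiniteType f]
    [IsSeparated f] (s : S) {ι : Type*} [Finite ι] (x : ι → X) (hinj : Function.Injective x)
    (hs : ∀ i, f (x i) = s) (hx : ∀ i, f.QuasiFiniteAt (x i)) :
    ∃ (U : Scheme.{u}) (g : U ⟶ S) (u : U), Etale g ∧ g u = s ∧
      ∃ (n : ι → ℕ) (V : ∀ i, Fin (n i) → (pullback f g).Opens)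
        (v : ∀ i, Fin (n i) → ↥(pullback f g)),
        (∀ i j, IsClopen ((V i j : (pullback f g).Opens) : Set ↥(pullback f g))) ∧
        (∀ a b : Σ i, Fin (n i), (((V a.1 a.2 : (pullback f g).Opens) : Set ↥(pullback f g)) ∩
          (V b.1 b.2 : (pullback f g).Opens)).Nonempty → a = b) ∧
        (∀ i j, v i j ∈ V i j ∧ IsFinite ((V i j).ι ≫ pullback.snd f g) ∧
          pullback.snd f g (v i j) = u ∧
          (∀ w ∈ V i j, pullback.snd f g w = u → w = v i j) ∧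
          ((pullback.snd f g).residueFieldMap (v i j)).hom.IsPurelyInseparable ∧
          pullback.fst f g (v i j) = x i) ∧
        (∀ w i, pullback.snd f g w = u → pullback.fst f g w = x i → ∃ j, w ∈ V i j) := by
  classical
  obtain ⟨U, g, u, hg, hgu, n, V, v, hV, hinjv, hex⟩ := exists_etale_nbhd_split_pi f s x hs hx
  have hdist : ∀ a b : Σ i, Fin (n i), v a.1 a.2 = v b.1 b.2 → a = b := by
    rintro ⟨i, j⟩ ⟨i', j'⟩ hvv
    have hii : i = i' := hinj (by
      rw [← (hV i j).2.2.2.2.2.2, ← (hV i' j').2.2.2.2.2.2]; exact congrArg _ hvv)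
    subst hii
    have hjj : j = j' := hinjv i hvv
    rw [hjj]
  have hcl : ∀ a : Σ i, Fin (n i),
      IsClosed ((V a.1 a.2 : (pullback f g).Opens) : Set ↥(pullback f g)) := fun a =>
    Groth.Agent.Lib.Helper8.EtLocSch.isClosed_of_isFinite (pullback.snd f g) _ (hV a.1 a.2).2.1
  let ε : (Σ i, Fin (n i)) ≃ Fin (Nat.card (Σ i, Fin (n i))) := Finite.equivFin _
  let B : (Σ i, Fin (n i)) → Set ↥(pullback f g) := fun a =>
    ⋃ b ∈ {b : Σ i, Fin (n i) | ε b < ε a}, ((V b.1 b.2 : (pullback f g).Opens) : Set _)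
  have hBcl : ∀ a, IsClosed (B a) := fun a =>
    Set.Finite.isClosed_biUnion (Set.toFinite _) (fun b _ => hcl b)
  have hBop : ∀ a, IsOpen (B a) := fun a => isOpen_biUnion (fun b _ => (V b.1 b.2).isOpen)
  let V' : ∀ i, Fin (n i) → (pullback f g).Opens := fun i j =>
    V i j ⊓ ⟨(B ⟨i, j⟩)ᶜ, (hBcl ⟨i, j⟩).isOpen_compl⟩
  have hmemV' : ∀ i j z, z ∈ V' i j ↔ z ∈ V i j ∧ z ∉ B ⟨i, j⟩ := fun i j z => Iff.rfl
  have hvB : ∀ a : Σ i, Fin (n i), v a.1 a.2 ∉ B a := by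
    intro a hmem
    simp only [B, Set.mem_iUnion, Set.mem_setOf_eq] at hmem
    obtain ⟨b, hb, hvb⟩ := hmem
    have h1 := (hV b.1 b.2).2.2.2.1 _ hvb (hV a.1 a.2).2.2.1
    have hab := hdist a b h1
    subst hab
    exact lt_irrefl _ hb
  have hclopen : ∀ i j, IsClopen ((V' i j : (pullback f g).Opens) : Set ↥(pullback f g)) := by
    intro i j
    exact IsClopen.inter ⟨hcl ⟨i, j⟩, (V i j).isOpen⟩
      ⟨(hBop _).isClosed_compl, (hBcl _).isOpen_compl⟩
  refine ⟨U, g, u, hg, hgu, n, V', v, hclopen, ?_, ?_, ?_⟩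
  · rintro a b ⟨z, hza, hzb⟩
    have hza' : z ∈ V a.1 a.2 ∧ z ∉ B a := hza
    have hzb' : z ∈ V b.1 b.2 ∧ z ∉ B b := hzb
    by_contra hne
    rcases lt_trichotomy (ε a) (ε b) with h | h | h
    · exact hzb'.2 (Set.mem_biUnion (show a ∈ {c : Σ i, Fin (n i) | ε c < ε b} from h) hza'.1)
    · exact hne (ε.injective h)
    · exact hza'.2 (Set.mem_biUnion (show b ∈ {c : Σ i, Fin (n i) | ε c < ε a} from h) hzb'.1)
  · intro i j
    obtain ⟨h1, h2, h3, h4, h5, h6, h7⟩ := hV i j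
    refine ⟨(hmemV' i j _).mpr ⟨h1, hvB ⟨i, j⟩⟩, ?_, h3,
      fun w hw => h4 w ((hmemV' i j w).mp hw).1, h6, h7⟩
    exact isFinite_of_le_of_isClosed (pullback.snd f g) (V i j) (V' i j) inf_le_left
      (hclopen i j).1 h2
  · intro w i hwu hwx
    obtain ⟨j, rfl⟩ := hex w i hwu hwx
    exact ⟨j, (hmemV' i j _).mpr ⟨(hV i j).1, hvB ⟨i, j⟩⟩⟩

end Groth.Agent.Lib.Helper8.EtLocPI2
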