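import Mathlib
import Groth.Agent.Lib.Helper8.EtLocPI2

set_option autoImplicit false
universe u
open AlgebraicGeometry CategoryTheory Limits

namespace Groth.Agent.Lib.Helper8.EtLocUnr

open Scheme.Pullback

section Shrink

variable {X S U : Scheme.{u}} (f : X ⟶ S) (g : U ⟶ S) (U' : U.Opens)

/-- The canonical open immersion `X ×_S U' ⟶ X ×_S U`. -/
noncomputable def shrinkMap : pullback f (U'.ι ≫ g) ⟶ pullback f g :=
  pullback.map f (U'.ι ≫ g) f g (𝟙 X) U'.ι (𝟙 S) (by simp) (by simp)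

lemma shrinkMap_fst : shrinkMap f g U' ≫ pullback.fst f g = pullback.fst f (U'.ι ≫ g) := by
  dsimp only [shrinkMap, pullback.map]
  rw [pullback.lift_fst, Category.comp_id]

lemma shrinkMap_snd :
    shrinkMap f g U' ≫ pullback.snd f g = pullback.snd f (U'.ι ≫ g) ≫ U'.ι := by
  dsimp only [shrinkMap, pullback.map]
  rw [pullback.lift_snd]

lemma isPullback_shrinkMap :
    IsPullback (shrinkMap f g U') (pullback.snd f (U'.ι ≫ g)) (pullback.snd f g) U'.ι := by
  refine IsPullback.of_right ?_ (shrinkMap_snd f g U') (IsPullback.of_hasPullback f g)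
  rw [shrinkMap_fst]
  exact IsPullback.of_hasPullback f (U'.ι ≫ g)

instance : IsOpenImmersion (shrinkMap f g U') :=
  MorphismProperty.of_isPullback (P := @IsOpenImmersion) (isPullback_shrinkMap f g U').flip
    inferInstance

lemma shrinkMap_injective : Function.Injective (shrinkMap f g U') :=
  (shrinkMap f g U').isOpenEmbedding.injective

lemma exists_shrinkMap_eq (v : ↥(pullback f g)) (hv : pullback.snd f g v ∈ U') :
    ∃ v' : ↥(pullback f (U'.ι ≫ g)), shrinkMap f g U' v' = v ∧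
      pullback.snd f (U'.ι ≫ g) v' = ⟨pullback.snd f g v, hv⟩ := by
  obtain ⟨p, hp1, hp2⟩ := Scheme.exists_preimage_of_isPullback
    (isPullback_shrinkMap f g U') v ⟨_, hv⟩ rfl
  exact ⟨p, hp1, hp2⟩

lemma shrink_arrow (V : (pullback f g).Opens) :
    ∃ e : ((shrinkMap f g U' ⁻¹ᵁ V : (pullback f (U'.ι ≫ g)).Opens) : Scheme.{u}) ≅
        (((V.ι ≫ pullback.snd f g) ⁻¹ᵁ U' : (V : Scheme.{u}).Opens) : Scheme.{u}),
      e.hom ≫ ((V.ι ≫ pullback.snd f g) ∣_ U') =
        (shrinkMap f g U' ⁻¹ᵁ V).ι ≫ pullback.snd f (U'.ι ≫ g) := by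
  have sqA := (isPullback_morphismRestrict (shrinkMap f g U') V).paste_vert
    (isPullback_shrinkMap f g U')
  have sqB := (isPullback_morphismRestrict (V.ι ≫ pullback.snd f g) U').flip
  exact ⟨sqA.isoIsPullback _ _ sqB, sqA.isoIsPullback_hom_snd _ _ sqB⟩

lemma shrink_property (P : MorphismProperty Scheme.{u}) [P.RespectsIso]
    (V : (pullback f g).Opens) (h : P ((V.ι ≫ pullback.snd f g) ∣_ U')) :
    P ((shrinkMap f g U' ⁻¹ᵁ V).ι ≫ pullback.snd f (U'.ι ≫ g)) := by
  obtain ⟨e, he⟩ := shrink_arrow f g U' V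
  rw [← he]
  exact (P.cancel_left_of_respectsIso e.hom _).mpr h

lemma shrinkMap_fst_apply (w : ↥(pullback f (U'.ι ≫ g))) :
    pullback.fst f g (shrinkMap f g U' w) = pullback.fst f (U'.ι ≫ g) w := by
  rw [← Scheme.Hom.comp_apply, shrinkMap_fst]

lemma shrinkMap_snd_apply (w : ↥(pullback f (U'.ι ≫ g))) :
    pullback.snd f g (shrinkMap f g U' w) = (pullback.snd f (U'.ι ≫ g) w).1 := by
  rw [← Scheme.Hom.comp_apply, shrinkMap_snd, Scheme.Hom.comp_apply, Scheme.Opens.ι_apply]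

end Shrink

section Src

variable {X' X S U : Scheme.{u}} (j : X' ⟶ X) (f : X ⟶ S) (g : U ⟶ S)

/-- The canonical map `X' ×_S U ⟶ X ×_S U` induced by `j : X' ⟶ X`. -/
noncomputable def srcMap : pullback (j ≫ f) g ⟶ pullback f g :=
  pullback.map (j ≫ f) g f g j (𝟙 U) (𝟙 S) (by simp) (by simp)

lemma srcMap_fst : srcMap j f g ≫ pullback.fst f g = pullback.fst (j ≫ f) g ≫ j := by
  dsimp only [srcMap, pullback.map]
  rw [pullback.lift_fst]

lemma srcMap_snd : srcMap j f g ≫ pullback.snd f g = pullback.snd (j ≫ f) g := by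
  dsimp only [srcMap, pullback.map]
  rw [pullback.lift_snd, Category.comp_id]

lemma isPullback_srcMap :
    IsPullback (srcMap j f g) (pullback.fst (j ≫ f) g) (pullback.fst f g) j := by
  refine IsPullback.of_right ?_ (srcMap_fst j f g) (IsPullback.of_hasPullback f g).flip
  rw [srcMap_snd]
  exact (IsPullback.of_hasPullback (j ≫ f) g).flip

instance [IsOpenImmersion j] : IsOpenImmersion (srcMap j f g) :=
  MorphismProperty.of_isPullback (P := @IsOpenImmersion) (isPullback_srcMap j f g).flip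
    inferInstance

lemma srcMap_fst_apply (w : ↥(pullback (j ≫ f) g)) :
    pullback.fst f g (srcMap j f g w) = j (pullback.fst (j ≫ f) g w) := by
  rw [← Scheme.Hom.comp_apply, srcMap_fst, Scheme.Hom.comp_apply]

lemma srcMap_snd_apply (w : ↥(pullback (j ≫ f) g)) :
    pullback.snd f g (srcMap j f g w) = pullback.snd (j ≫ f) g w := by
  rw [← Scheme.Hom.comp_apply, srcMap_snd]

lemma exists_srcMap_eq (w : ↥(pullback f g)) (x' : X') (h : pullback.fst f g w = j x') :
    ∃ w' : ↥(pullback (j ≫ f) g), srcMap j f g w' = w ∧ pullback.fst (j ≫ f) g w' = x' := by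
  obtain ⟨p, hp1, hp2⟩ := Scheme.exists_preimage_of_isPullback (isPullback_srcMap j f g) w x' h
  exact ⟨p, hp1, hp2⟩

lemma src_property [IsOpenImmersion j] (P : MorphismProperty Scheme.{u}) [P.RespectsIso]
    (V' : (pullback (j ≫ f) g).Opens) (h : P (V'.ι ≫ pullback.snd (j ≫ f) g)) :
    P ((srcMap j f g ''ᵁ V').ι ≫ pullback.snd f g) := by
  have e : V'.ι ≫ pullback.snd (j ≫ f) g =
      ((srcMap j f g).isoImage V').hom ≫ (srcMap j f g ''ᵁ V').ι ≫ pullback.snd f g := by
    rw [Scheme.Hom.isoImage_hom_ι_assoc, srcMap_snd]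
  rw [e] at h
  exact (P.cancel_left_of_respectsIso _ _).mp h

lemma of_iSup_source (P : MorphismProperty Scheme.{u}) [IsZariskiLocalAtSource P]
    {ι : Type*} (W : ι → X.Opens) (h : ∀ i, P ((W i).ι ≫ f)) :
    P ((⨆ i, W i).ι ≫ f) := by
  refine IsZariskiLocalAtSource.of_iSup_eq_top (fun i => (⨆ i, W i).ι ⁻¹ᵁ W i) ?_ fun i => ?_
  · rw [eq_top_iff]
    rintro ⟨x, hx⟩ -
    obtain ⟨i, hi⟩ := TopologicalSpace.Opens.mem_iSup.mp hx
    exact TopologicalSpace.Opens.mem_iSup.mpr ⟨i, hi⟩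
  · rw [← Category.assoc, ← Scheme.Opens.isoOfLE_hom_ι (le_iSup W i), Category.assoc]
    exact (P.cancel_left_of_respectsIso _ _).mpr (h i)

end Src

section Restrict

lemma restrict_le (P : MorphismProperty Scheme.{u}) [IsZariskiLocalAtTarget P]
    {V U : Scheme.{u}} (π : V ⟶ U) {U' U'' : U.Opens} (hle : U'' ≤ U') (h : P (π ∣_ U')) :
    P (π ∣_ U'') := by
  have h1 : P ((π ∣_ U') ∣_ (U'.ι ⁻¹ᵁ U'')) := IsZariskiLocalAtTarget.restrict h _
  have e1 := morphismRestrictRestrict π U' (U'.ι ⁻¹ᵁ U'')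
  have e2 : U'.ι ''ᵁ (U'.ι ⁻¹ᵁ U'') = U'' := by
    rw [Scheme.Hom.image_preimage_eq_opensRange_inf, Scheme.Opens.opensRange_ι]
    exact inf_eq_right.mpr hle
  have e3 := morphismRestrictEq π e2
  exact (P.arrow_mk_iso_iff (e1 ≪≫ e3)).mp h1

end Restrict

section CI

lemma mem_range_specTensorTo {X Y S : Scheme.{u}} (f : X ⟶ S) (g : Y ⟶ S) (x : X) (y : Y)
    (hxy : f x = g y) (t : ↥(pullback f g)) (h1 : pullback.fst f g t = x)
    (h2 : pullback.snd f g t = y) :
    t ∈ Set.range (Triplet.mk' x y hxy).SpecTensorTo := by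
  have e : Triplet.ofPoint t = Triplet.mk' x y hxy := Triplet.ext h1 h2
  refine ⟨Spec.map (Triplet.tensorCongr e).inv (SpecOfPoint t), ?_⟩
  have h3 : Spec.map (Triplet.tensorCongr e).hom
      (Spec.map (Triplet.tensorCongr e).inv (SpecOfPoint t)) = SpecOfPoint t := by
    rw [← Scheme.Hom.comp_apply, ← Spec.map_comp, Iso.hom_inv_id, Spec.map_id]
    rfl
  rw [← tensorCongr_SpecTensorTo e, Scheme.Hom.comp_apply, h3]
  exact SpecTensorTo_SpecOfPoint t

lemma eq_of_residue_surjective {X Y S : Scheme.{u}} (f : X ⟶ S) (g : Y ⟶ S) (x : X) (y : Y)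
    (hxy : f x = g y) (hsurj : Function.Surjective (g.residueFieldMap y).hom)
    (t t' : ↥(pullback f g)) (h1 : pullback.fst f g t = x) (h2 : pullback.snd f g t = y)
    (h1' : pullback.fst f g t' = x) (h2' : pullback.snd f g t' = y) : t = t' := by
  let T : Triplet f g := Triplet.mk' x y hxy
  have hinl : Function.Surjective T.tensorInl.hom := by
    refine RingHom.IsStableUnderBaseChange.pushout_inl RingHom.surjective_isStableUnderBaseChange
      RingHom.surjective_respectsIso _ _ ?_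
    rw [CommRingCat.hom_comp]
    exact hsurj.comp (ConcreteCategory.bijective_of_isIso (S.residueFieldCongr T.hy).inv).2
  haveI : Subsingleton (PrimeSpectrum T.tensor) :=
    (PrimeSpectrum.comap_injective_of_surjective _ hinl).subsingleton
  haveI : Subsingleton ↥(Spec T.tensor) := inferInstanceAs (Subsingleton (PrimeSpectrum T.tensor))
  obtain ⟨p, rfl⟩ := mem_range_specTensorTo f g x y hxy t h1 h2
  obtain ⟨p', rfl⟩ := mem_range_specTensorTo f g x y hxy t' h1' h2'
  rw [Subsingleton.elim p p']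

theorem exists_isClosedImmersion_restrict {V U : Scheme.{u}} (π : V ⟶ U) [IsFinite π]
    [FormallyUnramified π] (u : U) (v : V) (huniq : ∀ w, π w = u → w = v)
    (hres : Function.Surjective (π.residueFieldMap v).hom) :
    ∃ U' : U.Opens, u ∈ U' ∧ IsClosedImmersion (π ∣_ U') := by
  haveI : IsOpenImmersion (pullback.diagonal π) := inferInstance
  haveI : IsFinite (pullback.fst π π ≫ π) := inferInstance
  let C : Set U := (pullback.fst π π ≫ π) '' (Set.range (pullback.diagonal π))ᶜ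
  have hC : IsClosed C := (pullback.fst π π ≫ π).isClosedMap _
    ((pullback.diagonal π).isOpenEmbedding.isOpen_range.isClosed_compl)
  have huC : u ∉ C := by
    rintro ⟨z, hz, hzu⟩
    apply hz
    have hzu' : π (pullback.fst π π z) = u := hzu
    have h1 : pullback.fst π π z = v := huniq _ hzu'
    have h2 : pullback.snd π π z = v := by
      apply huniq
      rw [← hzu', ← Scheme.Hom.comp_apply, ← Scheme.Hom.comp_apply, pullback.condition]
    have h3 : pullback.fst π π (pullback.diagonal π v) = v := by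
      rw [← Scheme.Hom.comp_apply, pullback.diagonal_fst]; rfl
    have h4 : pullback.snd π π (pullback.diagonal π v) = v := by
      rw [← Scheme.Hom.comp_apply, pullback.diagonal_snd]; rfl
    exact ⟨v, (eq_of_residue_surjective π π v v rfl hres z _ h1 h2 h3 h4).symm⟩
  obtain ⟨U', hU'⟩ : ∃ U' : U.Opens, (U' : Set U) = Cᶜ := ⟨⟨Cᶜ, hC.isOpen_compl⟩, rfl⟩
  have huU' : u ∈ U' := by
    show u ∈ (U' : Set U)
    rw [hU']; exact huC
  refine ⟨U', huU', ?_⟩
  rw [IsClosedImmersion.iff_isFinite_and_mono]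
  refine ⟨IsZariskiLocalAtTarget.restrict (P := @IsFinite) inferInstance _, ⟨?_⟩⟩
  intro T a b hab
  have hab' : (a ≫ (π ⁻¹ᵁ U').ι) ≫ π = (b ≫ (π ⁻¹ᵁ U').ι) ≫ π := by
    simp only [Category.assoc, ← morphismRestrict_ι]
    rw [← Category.assoc, hab, Category.assoc]
  have hw : Set.range (pullback.lift _ _ hab') ⊆ Set.range (pullback.diagonal π) := by
    rintro _ ⟨t, rfl⟩
    by_contra hnot
    have h5 : (pullback.fst π π ≫ π) (pullback.lift _ _ hab' t) ∈ C := ⟨_, hnot, rfl⟩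
    have h7 : pullback.lift _ _ hab' ≫ pullback.fst π π ≫ π = a ≫ (π ∣_ U') ≫ U'.ι := by
      rw [pullback.lift_fst_assoc, Category.assoc, morphismRestrict_ι]
    have h6 : (pullback.fst π π ≫ π) (pullback.lift _ _ hab' t) = U'.ι ((π ∣_ U') (a t)) := by
      have := congrArg (fun h : T ⟶ U => h t) h7
      simpa only [Scheme.Hom.comp_apply] using this
    rw [h6] at h5
    have h8 : U'.ι ((π ∣_ U') (a t)) ∈ (U' : Set U) := ((π ∣_ U') (a t)).2
    rw [hU'] at h8
    exact h8 h5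
  have hw₀ : IsOpenImmersion.lift (pullback.diagonal π) (pullback.lift _ _ hab') hw ≫
      pullback.diagonal π = pullback.lift _ _ hab' := IsOpenImmersion.lift_fac _ _ _
  have ha : a ≫ (π ⁻¹ᵁ U').ι =
      IsOpenImmersion.lift (pullback.diagonal π) (pullback.lift _ _ hab') hw := by
    have := congrArg (fun h => h ≫ pullback.fst π π) hw₀
    simp only [Category.assoc, pullback.diagonal_fst, Category.comp_id, pullback.lift_fst] at this
    exact this.symm
  have hb : b ≫ (π ⁻¹ᵁ U').ι =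
      IsOpenImmersion.lift (pullback.diagonal π) (pullback.lift _ _ hab') hw := by
    have := congrArg (fun h => h ≫ pullback.snd π π) hw₀
    simp only [Category.assoc, pullback.diagonal_snd, Category.comp_id, pullback.lift_snd] at this
    exact this.symm
  exact (cancel_mono (π ⁻¹ᵁ U').ι).mp (ha.trans hb.symm)

end CI

section Unr

lemma quasiFiniteAt_of_unramified {X S : Scheme.{u}} (f : X ⟶ S) [LocallyOfFiniteType f]
    [FormallyUnramified f] (x : X) : f.QuasiFiniteAt x := by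
  show (f.stalkMap x).hom.QuasiFinite
  algebraize [(f.stalkMap x).hom]
  have h1 : Algebra.EssFiniteType (S.presheaf.stalk (f x)) (X.presheaf.stalk x) := by
    rw [← RingHom.essFiniteType_algebraMap, RingHom.algebraMap_toAlgebra]
    exact LocallyOfFiniteType.stalkMap f x
  have h2 : Algebra.FormallyUnramified (S.presheaf.stalk (f x)) (X.presheaf.stalk x) := by
    rw [← RingHom.formallyUnramified_algebraMap, RingHom.algebraMap_toAlgebra]
    exact FormallyUnramified.stalkMap f x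
  have h3 : Algebra.QuasiFinite (S.presheaf.stalk (f x)) (X.presheaf.stalk x) := inferInstance
  rw [← RingHom.quasiFinite_algebraMap] at h3
  rwa [RingHom.algebraMap_toAlgebra] at h3

lemma surjective_residueFieldMap_of_pi {X S : Scheme.{u}} (f : X ⟶ S) [FormallyUnramified f]
    [LocallyOfFiniteType f] (x : X) (h : (f.residueFieldMap x).hom.IsPurelyInseparable) :
    Function.Surjective (f.residueFieldMap x).hom := by
  letI : Algebra (S.residueField (f x)) (X.residueField x) := (f.residueFieldMap x).hom.toAlgebra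
  haveI : IsPurelyInseparable (S.residueField (f x)) (X.residueField x) := h
  haveI : Algebra.IsSeparable (S.residueField (f x)) (X.residueField x) := inferInstance
  exact IsPurelyInseparable.surjective_algebraMap_of_isSeparable _ _

lemma surjective_residueFieldMap_comp {V X U : Scheme.{u}} (j : V ⟶ X) [IsOpenImmersion j]
    (p : X ⟶ U) (pt : V) (w : X) (hw : j pt = w)
    (h : Function.Surjective (p.residueFieldMap w).hom) :
    Function.Surjective ((j ≫ p).residueFieldMap pt).hom := by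
  subst hw
  have key : ∀ z, ((j ≫ p).residueFieldMap pt).hom z =
      (j.residueFieldMap pt).hom ((p.residueFieldMap (j pt)).hom z) := by
    intro z
    rw [Scheme.residueFieldMap_comp]
    rfl
  intro y
  obtain ⟨y', hy'⟩ := (ConcreteCategory.bijective_of_isIso (j.residueFieldMap pt)).2 y
  obtain ⟨z, hz⟩ := h y'
  refine ⟨z, ?_⟩
  rw [key, hz]
  exact hy'

theorem exists_isIso_restrict {V U : Scheme.{u}} (π : V ⟶ U) [IsFinite π] [Etale π] (u : U)
    (v : V) (hvu : π v = u) (huniq : ∀ w, π w = u → w = v)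
    (hres : Function.Surjective (π.residueFieldMap v).hom) :
    ∃ U' : U.Opens, u ∈ U' ∧ IsIso (π ∣_ U') := by
  obtain ⟨U₁, hu₁, hCI⟩ := exists_isClosedImmersion_restrict π u v huniq hres
  haveI : Etale (π ∣_ U₁) := IsZariskiLocalAtTarget.restrict (P := @Etale) inferInstance U₁
  haveI : IsOpenImmersion (π ∣_ U₁) := IsOpenImmersion.of_flat_of_mono _
  let R : U.Opens := ⟨Set.range π, π.isOpenMap.isOpen_range⟩
  refine ⟨U₁ ⊓ R, ⟨hu₁, v, hvu⟩, ?_⟩
  haveI : IsOpenImmersion (π ∣_ (U₁ ⊓ R)) :=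
    restrict_le @IsOpenImmersion π (inf_le_left : U₁ ⊓ R ≤ U₁) ‹_›
  rw [isIso_iff_isOpenImmersion_and_surjective]
  refine ⟨inferInstance, ⟨?_⟩⟩
  rintro ⟨y, hy₁, x₀, rfl⟩
  exact ⟨⟨x₀, ⟨hy₁, x₀, rfl⟩⟩, Subtype.ext (morphismRestrict_base_coe π _ _)⟩

end Unr

section Split

/-- The output data of the étale localization theorems. -/
structure Split (Q : MorphismProperty Scheme.{u}) {X S U : Scheme.{u}} (f : X ⟶ S) (g : U ⟶ S)
    (u : U) {ι : Type} (x : ι → X) {K : Type} (lab : K → ι) (V : K → (pullback f g).Opens)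
    (v : K → ↥(pullback f g)) : Prop where
  mem : ∀ k, v k ∈ V k
  prop : ∀ k, Q ((V k).ι ≫ pullback.snd f g)
  fin : ∀ k, IsFinite ((V k).ι ≫ pullback.snd f g)
  snd_eq : ∀ k, pullback.snd f g (v k) = u
  uniq : ∀ k, ∀ w ∈ V k, pullback.snd f g w = u → w = v k
  fst_eq : ∀ k, pullback.fst f g (v k) = x (lab k)
  inj : Function.Injective v
  exh : ∀ w i, pullback.snd f g w = u → pullback.fst f g w = x i → ∃ k, lab k = i ∧ w = v k
  disj : IsSeparated f → ∀ k k', k ≠ k' → Disjoint (V k) (V k')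

theorem Split.shrink {Q₀ Q : MorphismProperty Scheme.{u}} [Q.RespectsIso] {X S U : Scheme.{u}}
    {f : X ⟶ S} {g : U ⟶ S} {u : U} {ι : Type} {x : ι → X} {K : Type} {lab : K → ι}
    {V : K → (pullback f g).Opens} {v : K → ↥(pullback f g)} (h : Split Q₀ f g u x lab V v)
    (U' : U.Opens) (hu : u ∈ U') (hQ : ∀ k, Q (((V k).ι ≫ pullback.snd f g) ∣_ U')) :
    ∃ v' : K → ↥(pullback f (U'.ι ≫ g)),
      Split Q f (U'.ι ≫ g) ⟨u, hu⟩ x lab (fun k => shrinkMap f g U' ⁻¹ᵁ V k) v' := by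
  have hv : ∀ k, pullback.snd f g (v k) ∈ U' := fun k => by rw [h.snd_eq k]; exact hu
  choose v' hv'1 hv'2 using fun k => exists_shrinkMap_eq f g U' (v k) (hv k)
  refine ⟨v', ⟨?_, ?_, ?_, ?_, ?_, ?_, ?_, ?_, ?_⟩⟩
  · intro k
    show shrinkMap f g U' (v' k) ∈ V k
    rw [hv'1]; exact h.mem k
  · intro k; exact shrink_property f g U' Q (V k) (hQ k)
  · intro k
    exact shrink_property f g U' @IsFinite (V k)
      (IsZariskiLocalAtTarget.restrict (P := @IsFinite) (h.fin k) U')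
  · intro k; rw [hv'2]; exact Subtype.ext (h.snd_eq k)
  · intro k w hw hwu
    apply shrinkMap_injective f g U'
    rw [hv'1]
    refine h.uniq k _ hw ?_
    rw [shrinkMap_snd_apply, hwu]
  · intro k; rw [← shrinkMap_fst_apply, hv'1]; exact h.fst_eq k
  · intro a b hab
    apply h.inj
    rw [← hv'1 a, ← hv'1 b, hab]
  · intro w i hwu hwx
    obtain ⟨k, hk, hwk⟩ := h.exh (shrinkMap f g U' w) i (by rw [shrinkMap_snd_apply, hwu])
      (by rw [shrinkMap_fst_apply, hwx])
    refine ⟨k, hk, shrinkMap_injective f g U' ?_⟩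
    rw [hwk, hv'1]
  · intro hsep k k' hkk'
    have hd := h.disj hsep k k' hkk'
    rw [← TopologicalSpace.Opens.coe_disjoint, Set.disjoint_left] at hd ⊢
    intro w hw hw'
    exact hd hw hw'

theorem Split.src {Q : MorphismProperty Scheme.{u}} [Q.RespectsIso] {X' X S U : Scheme.{u}}
    (j : X' ⟶ X) [IsOpenImmersion j] {f : X ⟶ S} {g : U ⟶ S} {u : U} {ι : Type} {x' : ι → X'}
    {K : Type} {lab : K → ι} {V' : K → (pullback (j ≫ f) g).Opens}
    {v' : K → ↥(pullback (j ≫ f) g)} (h : Split Q (j ≫ f) g u x' lab V' v') :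
    Split Q f g u (fun i => j (x' i)) lab (fun k => srcMap j f g ''ᵁ V' k)
      (fun k => srcMap j f g (v' k)) := by
  refine ⟨?_, ?_, ?_, ?_, ?_, ?_, ?_, ?_, ?_⟩
  · intro k; exact (Scheme.Hom.apply_mem_image_iff _).mpr (h.mem k)
  · intro k; exact src_property j f g Q (V' k) (h.prop k)
  · intro k; exact src_property j f g @IsFinite (V' k) (h.fin k)
  · intro k; rw [srcMap_snd_apply]; exact h.snd_eq k
  · intro k w hw hwu
    obtain ⟨w', hw', rfl⟩ := (show w ∈ (srcMap j f g '' ((V' k : (pullback (j ≫ f) g).Opens) :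
      Set ↥(pullback (j ≫ f) g))) from hw)
    rw [srcMap_snd_apply] at hwu
    rw [h.uniq k w' hw' hwu]
  · intro k; rw [srcMap_fst_apply, h.fst_eq k]
  · intro a b hab
    exact h.inj ((srcMap j f g).isOpenEmbedding.injective hab)
  · intro w i hwu hwx
    obtain ⟨w', rfl, hw'x⟩ := exists_srcMap_eq j f g w (x' i) hwx
    rw [srcMap_snd_apply] at hwu
    obtain ⟨k, hk, hwk⟩ := h.exh w' i hwu hw'x
    exact ⟨k, hk, by rw [hwk]⟩
  · intro hsep k k' hkk'
    haveI := hsep
    have hd := h.disj inferInstance k k' hkk'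
    rw [← TopologicalSpace.Opens.coe_disjoint, Set.disjoint_left] at hd ⊢
    intro w hw hw'
    obtain ⟨a, ha, rfl⟩ := (show w ∈ (srcMap j f g '' ((V' k : (pullback (j ≫ f) g).Opens) :
      Set ↥(pullback (j ≫ f) g))) from hw)
    obtain ⟨b, hb, hab⟩ := (show srcMap j f g a ∈ (srcMap j f g ''
      ((V' k' : (pullback (j ≫ f) g).Opens) : Set ↥(pullback (j ≫ f) g))) from hw')
    have hba := (srcMap j f g).isOpenEmbedding.injective hab
    subst hba
    exact hd ha hb

theorem master_common {X S : Scheme.{u}} (f : X ⟶ S) [LocallyOfFiniteType f] (s : S) {ι : Type}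
    [Finite ι] (x : ι → X) (hinj : Function.Injective x) (hs : ∀ i, f (x i) = s)
    (hx : ∀ i, f.QuasiFiniteAt (x i)) :
    ∃ (U : Scheme.{u}) (g : U ⟶ S) (u : U), Etale g ∧ g u = s ∧
      ∃ (K : Type) (_ : Finite K) (lab : K → ι) (V : K → (pullback f g).Opens)
        (v : K → ↥(pullback f g)), Split ⊤ f g u x lab V v ∧
        ∀ k, ((pullback.snd f g).residueFieldMap (v k)).hom.IsPurelyInseparable := by
  by_cases hsep : IsSeparated f
  · obtain ⟨U, g, u, hg, hgu, n, V, v, hclopen, hdisj, hV, hexh⟩ :=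
      EtLocPI2.exists_etale_nbhd_split_pi_clopen f s x hinj hs hx
    refine ⟨U, g, u, hg, hgu, Σ i, Fin (n i), inferInstance, Sigma.fst, fun k => V k.1 k.2,
      fun k => v k.1 k.2, ⟨?_, ?_, ?_, ?_, ?_, ?_, ?_, ?_, ?_⟩, ?_⟩
    · exact fun k => (hV k.1 k.2).1
    · exact fun k => trivial
    · exact fun k => (hV k.1 k.2).2.1
    · exact fun k => (hV k.1 k.2).2.2.1
    · exact fun k => (hV k.1 k.2).2.2.2.1
    · exact fun k => (hV k.1 k.2).2.2.2.2.2
    · intro a b hab
      have hab' : v a.1 a.2 = v b.1 b.2 := hab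
      exact hdisj a b ⟨v a.1 a.2, (hV a.1 a.2).1, by rw [hab']; exact (hV b.1 b.2).1⟩
    · intro w i hwu hwx
      obtain ⟨j, hj⟩ := hexh w i hwu hwx
      exact ⟨⟨i, j⟩, rfl, (hV i j).2.2.2.1 w hj hwu⟩
    · intro _ a b hab
      rw [← TopologicalSpace.Opens.coe_disjoint, Set.disjoint_left]
      intro w hw hw'
      exact hab (hdisj a b ⟨w, hw, hw'⟩)
    · exact fun k => (hV k.1 k.2).2.2.2.2.1
  · obtain ⟨U, g, u, hg, hgu, n, V, v, hV, hvinj, hexh⟩ :=
      EtLocPI2.exists_etale_nbhd_split_pi f s x hs hx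
    refine ⟨U, g, u, hg, hgu, Σ i, Fin (n i), inferInstance, Sigma.fst, fun k => V k.1 k.2,
      fun k => v k.1 k.2, ⟨?_, ?_, ?_, ?_, ?_, ?_, ?_, ?_, ?_⟩, ?_⟩
    · exact fun k => (hV k.1 k.2).1
    · exact fun k => trivial
    · exact fun k => (hV k.1 k.2).2.1
    · exact fun k => (hV k.1 k.2).2.2.1
    · exact fun k => (hV k.1 k.2).2.2.2.1
    · exact fun k => (hV k.1 k.2).2.2.2.2.2.2
    · rintro ⟨i, j⟩ ⟨i', j'⟩ hab
      have hab' : v i j = v i' j' := hab
      have hii : i = i' := hinj (by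
        rw [← (hV i j).2.2.2.2.2.2, ← (hV i' j').2.2.2.2.2.2, hab'])
      subst hii
      rw [hvinj i hab']
    · intro w i hwu hwx
      obtain ⟨j, hj⟩ := hexh w i hwu hwx
      exact ⟨⟨i, j⟩, rfl, hj⟩
    · intro h; exact absurd h hsep
    · exact fun k => (hV k.1 k.2).2.2.2.2.2.1

variable (P Q : MorphismProperty Scheme.{u}) [IsZariskiLocalAtSource P]
  [P.IsStableUnderBaseChange] [IsZariskiLocalAtTarget Q]

theorem main_global
    (hP : ∀ {X S : Scheme.{u}} (f : X ⟶ S), P f → LocallyOfFiniteType f ∧ FormallyUnramified f)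
    (hloc : ∀ {V U : Scheme.{u}} (π : V ⟶ U), IsFinite π → P π → ∀ (u : U) (v : V), π v = u →
      (∀ w, π w = u → w = v) → Function.Surjective (π.residueFieldMap v).hom →
      ∃ U' : U.Opens, u ∈ U' ∧ Q (π ∣_ U'))
    {X S : Scheme.{u}} (f : X ⟶ S) (hPf : P f) (s : S) {ι : Type} [Finite ι] (x : ι → X)
    (hinj : Function.Injective x) (hs : ∀ i, f (x i) = s) :
    ∃ (U : Scheme.{u}) (g : U ⟶ S) (u : U), Etale g ∧ g u = s ∧
      ∃ (K : Type) (_ : Finite K) (lab : K → ι) (V : K → (pullback f g).Opens)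
        (v : K → ↥(pullback f g)), Split Q f g u x lab V v := by
  obtain ⟨hlft, hunr⟩ := hP f hPf
  obtain ⟨U, g, u, hg, hgu, K, hK, lab, V, v, hsp, hpi⟩ :=
    master_common f s x hinj hs (fun i => quasiFiniteAt_of_unramified f (x i))
  have hPsnd : P (pullback.snd f g) := P.pullback_snd f g hPf
  obtain ⟨hlft', hunr'⟩ := hP _ hPsnd
  have key : ∀ k, ∃ U' : U.Opens, u ∈ U' ∧ Q (((V k).ι ≫ pullback.snd f g) ∣_ U') := by
    intro k
    refine hloc ((V k).ι ≫ pullback.snd f g) (hsp.fin k) (IsZariskiLocalAtSource.comp hPsnd _) u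
      ⟨v k, hsp.mem k⟩ ?_ ?_ ?_
    · rw [Scheme.Hom.comp_apply, Scheme.Opens.ι_apply]; exact hsp.snd_eq k
    · intro w hw
      rw [Scheme.Hom.comp_apply, Scheme.Opens.ι_apply] at hw
      exact Subtype.ext (hsp.uniq k w.1 w.2 hw)
    · exact surjective_residueFieldMap_comp (V k).ι (pullback.snd f g) ⟨v k, hsp.mem k⟩ (v k) rfl
        (surjective_residueFieldMap_of_pi (pullback.snd f g) (v k) (hpi k))
  choose U' hU'u hU'Q using key
  haveI := hK
  let U'' : U.Opens := ⟨⋂ k, (U' k : Set U), isOpen_iInter_of_finite fun k => (U' k).2⟩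
  have hu'' : u ∈ U'' := Set.mem_iInter.mpr hU'u
  have hle : ∀ k, U'' ≤ U' k := fun k => Set.iInter_subset _ k
  obtain ⟨v', hsp'⟩ := hsp.shrink (Q := Q) U'' hu''
    (fun k => restrict_le Q _ (hle k) (hU'Q k))
  haveI := hg
  exact ⟨U'', U''.ι ≫ g, ⟨u, hu''⟩, inferInstance,
    by rw [Scheme.Hom.comp_apply, Scheme.Opens.ι_apply]; exact hgu, K, hK, lab, _, v', hsp'⟩

theorem main
    (hP : ∀ {X S : Scheme.{u}} (f : X ⟶ S), P f → LocallyOfFiniteType f ∧ FormallyUnramified f)
    (hloc : ∀ {V U : Scheme.{u}} (π : V ⟶ U), IsFinite π → P π → ∀ (u : U) (v : V), π v = u →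
      (∀ w, π w = u → w = v) → Function.Surjective (π.residueFieldMap v).hom →
      ∃ U' : U.Opens, u ∈ U' ∧ Q (π ∣_ U'))
    {X S : Scheme.{u}} (f : X ⟶ S) (s : S) {ι : Type} [Finite ι] (x : ι → X)
    (hinj : Function.Injective x) (hs : ∀ i, f (x i) = s)
    (hx : ∀ i, ∃ W : X.Opens, x i ∈ W ∧ P (W.ι ≫ f)) :
    ∃ (U : Scheme.{u}) (g : U ⟶ S) (u : U), Etale g ∧ g u = s ∧
      ∃ (K : Type) (_ : Finite K) (lab : K → ι) (V : K → (pullback f g).Opens)
        (v : K → ↥(pullback f g)), Split Q f g u x lab V v ∧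
        (IsSeparated f → ∀ k, IsClosed ((V k : (pullback f g).Opens) : Set ↥(pullback f g))) := by
  choose W hxW hPW using hx
  have hx₀ : ∀ i, x i ∈ (⨆ i, W i : X.Opens) :=
    fun i => TopologicalSpace.Opens.mem_iSup.mpr ⟨i, hxW i⟩
  have hP₀ : P ((⨆ i, W i).ι ≫ f) := of_iSup_source f P W hPW
  have hinj₀ : Function.Injective (fun i => (⟨x i, hx₀ i⟩ : ↥(⨆ i, W i : X.Opens))) :=
    fun a b hab => hinj (congrArg Subtype.val hab)
  have hs₀ : ∀ i, ((⨆ i, W i).ι ≫ f) (⟨x i, hx₀ i⟩ : ↥(⨆ i, W i : X.Opens)) = s := fun i => by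
    rw [Scheme.Hom.comp_apply, Scheme.Opens.ι_apply]; exact hs i
  obtain ⟨U, g, u, hg, hgu, K, hK, lab, V', v', hsp'⟩ :=
    main_global P Q hP hloc ((⨆ i, W i).ι ≫ f) hP₀ s _ hinj₀ hs₀
  have hsp : Split Q f g u x lab _ _ := hsp'.src (⨆ i, W i).ι
  refine ⟨U, g, u, hg, hgu, K, hK, lab, _, _, hsp, ?_⟩
  intro hsep k
  haveI := hsep
  exact EtLocSch.isClosed_of_isFinite (pullback.snd f g) _ (hsp.fin k)

end Split

section Final

theorem main_unramified {X S : Scheme.{u}} (f : X ⟶ S) (s : S) {ι : Type} [Finite ι] (x : ι → X)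
    (hinj : Function.Injective x) (hs : ∀ i, f (x i) = s)
    (hx : ∀ i, ∃ W : X.Opens, x i ∈ W ∧ LocallyOfFiniteType (W.ι ≫ f) ∧
      FormallyUnramified (W.ι ≫ f)) :
    ∃ (U : Scheme.{u}) (g : U ⟶ S) (u : U), Etale g ∧ g u = s ∧
      ∃ (K : Type) (_ : Finite K) (lab : K → ι) (V : K → (pullback f g).Opens)
        (v : K → ↥(pullback f g)), Split @IsClosedImmersion f g u x lab V v ∧
        (IsSeparated f → ∀ k, IsClosed ((V k : (pullback f g).Opens) : Set ↥(pullback f g))) :=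
  main (@LocallyOfFiniteType ⊓ @FormallyUnramified) @IsClosedImmersion (fun f h => h)
    (fun π hfin hP u v _ hu hr => by
      haveI := hfin
      haveI := hP.2
      exact exists_isClosedImmersion_restrict π u v hu hr) f s x hinj hs hx

theorem main_etale {X S : Scheme.{u}} (f : X ⟶ S) (s : S) {ι : Type} [Finite ι] (x : ι → X)
    (hinj : Function.Injective x) (hs : ∀ i, f (x i) = s)
    (hx : ∀ i, ∃ W : X.Opens, x i ∈ W ∧ Etale (W.ι ≫ f)) :
    ∃ (U : Scheme.{u}) (g : U ⟶ S) (u : U), Etale g ∧ g u = s ∧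
      ∃ (K : Type) (_ : Finite K) (lab : K → ι) (V : K → (pullback f g).Opens)
        (v : K → ↥(pullback f g)), Split (MorphismProperty.isomorphisms Scheme.{u}) f g u x lab V v ∧
        (IsSeparated f → ∀ k, IsClosed ((V k : (pullback f g).Opens) : Set ↥(pullback f g))) :=
  main @Etale (MorphismProperty.isomorphisms Scheme.{u})
    (fun f h => by haveI := h; exact ⟨inferInstance, inferInstance⟩)
    (fun π hfin hP u v hvu hu hr => by
      haveI := hfin
      haveI := hP
      exact exists_isIso_restrict π u v hvu hu hr) f s x hinj hs hx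

lemma decomposition {X : Scheme.{u}} {K : Type} [Finite K] (V : K → X.Opens)
    (hcl : ∀ k, IsClosed ((V k : X.Opens) : Set X)) :
    ∃ W : X.Opens, W ⊔ (⨆ k, V k) = ⊤ ∧ (∀ k, Disjoint W (V k)) ∧
      ∀ w, w ∈ W → ∀ k, w ∉ V k := by
  have hclU : IsClosed (⋃ k, ((V k : X.Opens) : Set X)) := isClosed_iUnion_of_finite hcl
  refine ⟨⟨(⋃ k, ((V k : X.Opens) : Set X))ᶜ, hclU.isOpen_compl⟩, ?_, ?_, ?_⟩
  · rw [eq_top_iff]
    intro w _
    show w ∈ ((_ ⊔ ⨆ k, V k : X.Opens) : Set X)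
    rw [TopologicalSpace.Opens.coe_sup, TopologicalSpace.Opens.coe_iSup]
    by_cases hw : w ∈ ⋃ k, ((V k : X.Opens) : Set X)
    · exact Or.inr hw
    · exact Or.inl hw
  · intro k
    rw [← TopologicalSpace.Opens.coe_disjoint, Set.disjoint_left]
    intro w hw hwk
    exact hw (Set.mem_iUnion.mpr ⟨k, hwk⟩)
  · intro w hw k hwk
    exact hw (Set.mem_iUnion.mpr ⟨k, hwk⟩)

end Final

end Groth.Agent.Lib.Helper8.EtLocUnr
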