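import Mathlib
import Groth.Prelude.Def_MoreMor
import Groth.Agent.Lib.Helper8.EtLocUnr

set_option autoImplicit false
universe u
open AlgebraicGeometry CategoryTheory Limits

namespace Groth.Agent.Lib.Helper8.FibInt

open Groth.Agent.Lib.Helper8.EtLocUnr Groth.Agent.Lib.Helper8.EtLocPI

section Basic

variable {U V : Scheme.{u}}

/-- The separable degree of the residue field extension of `π` at `u`. -/
noncomputable def sepDeg (π : U ⟶ V) (u : U) : ℕ :=
  letI := (π.residueFieldMap u).hom.toAlgebra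
  Field.finSepDegree (V.residueField (π u)) (U.residueField u)

lemma fibreIntegral_eq' (π : U ⟶ V) (w : U → ℤ) (v : V) :
    MoreMor.fibreIntegral π w v = ∑ᶠ u : {u : U // π u = v}, w u.1 * (sepDeg π u.1 : ℤ) := rfl

lemma sepDeg_pos (π : U ⟶ V) (u : U) (h : (π.residueFieldMap u).hom.Finite) : 0 < sepDeg π u := by
  letI := (π.residueFieldMap u).hom.toAlgebra
  haveI : FiniteDimensional (V.residueField (π u)) (U.residueField u) := h
  exact Nat.pos_of_ne_zero
    (NeZero.ne (Field.finSepDegree (V.residueField (π u)) (U.residueField u)))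

lemma sepDeg_pos' (π : U ⟶ V) [LocallyQuasiFinite π] [LocallyOfFiniteType π] (u : U) :
    0 < sepDeg π u :=
  sepDeg_pos π u (finite_residueFieldMap_of_quasiFiniteAt π u (π.quasiFiniteAt u))

lemma sepDeg_eq_one_of_pi (π : U ⟶ V) (u : U)
    (h : (π.residueFieldMap u).hom.IsPurelyInseparable) : sepDeg π u = 1 := by
  letI := (π.residueFieldMap u).hom.toAlgebra
  haveI : IsPurelyInseparable (V.residueField (π u)) (U.residueField u) := h
  exact IsPurelyInseparable.finSepDegree_eq_one _ _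

lemma sepDeg_comp_openImmersion {O X : Scheme.{u}} (j : O ⟶ X) [IsOpenImmersion j] (p : X ⟶ V)
    (pt : O) : sepDeg (j ≫ p) pt = sepDeg p (j pt) := by
  letI : Algebra (V.residueField (p (j pt))) (X.residueField (j pt)) :=
    (p.residueFieldMap (j pt)).hom.toAlgebra
  letI : Algebra (V.residueField (p (j pt))) (O.residueField pt) :=
    ((j ≫ p).residueFieldMap pt).hom.toAlgebra
  let e₀ : X.residueField (j pt) ≃+* O.residueField pt :=
    (asIso (j.residueFieldMap pt)).commRingCatIsoToRingEquiv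
  let e : X.residueField (j pt) ≃ₐ[V.residueField (p (j pt))] O.residueField pt :=
    { e₀ with
      commutes' := fun c => by
        show (j.residueFieldMap pt).hom ((p.residueFieldMap (j pt)).hom c) =
          ((j ≫ p).residueFieldMap pt).hom c
        rw [Scheme.residueFieldMap_comp]
        rfl }
  exact (Field.finSepDegree_eq_of_equiv _ _ _ e).symm

lemma fibreIntegral_single (π : U ⟶ V) (w : U → ℤ) (v : V) (u : U) (hu : π u = v)
    (huniq : ∀ t, π t = v → t = u) (hpi : (π.residueFieldMap u).hom.IsPurelyInseparable) :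
    MoreMor.fibreIntegral π w v = w u := by
  rw [fibreIntegral_eq', finsum_eq_single _ (⟨u, hu⟩ : {t : U // π t = v})]
  · show w u * (sepDeg π u : ℤ) = w u
    rw [sepDeg_eq_one_of_pi π u hpi]
    simp
  · rintro ⟨t, ht⟩ hne
    exact absurd (Subtype.ext (huniq t ht)) hne

lemma term_le_fibreIntegral (π : U ⟶ V) (w : U → ℤ) (v : V) (hfin : (π ⁻¹' {v}).Finite)
    (hnn : ∀ t, π t = v → 0 ≤ w t) (u : U) (hu : π u = v) :
    w u * (sepDeg π u : ℤ) ≤ MoreMor.fibreIntegral π w v := by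
  haveI : Finite {t : U // π t = v} := hfin.to_subtype
  haveI := Fintype.ofFinite {t : U // π t = v}
  rw [fibreIntegral_eq', finsum_eq_sum_of_fintype]
  exact Finset.single_le_sum (f := fun t : {t : U // π t = v} => w t.1 * (sepDeg π t.1 : ℤ))
    (fun t _ => mul_nonneg (hnn t.1 t.2) (Int.natCast_nonneg _)) (Finset.mem_univ ⟨u, hu⟩)

lemma exists_of_fibreIntegral_ne_zero (π : U ⟶ V) (w : U → ℤ) (v : V)
    (h : MoreMor.fibreIntegral π w v ≠ 0) : ∃ u, π u = v := by
  by_contra hne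
  push Not at hne
  haveI : IsEmpty {t : U // π t = v} := ⟨fun t => hne t.1 t.2⟩
  exact h (by rw [fibreIntegral_eq', finsum_of_isEmpty])

lemma fibreIntegral_comp_iso {U' : Scheme.{u}} (φ : U ⟶ U') [IsIso φ] (π' : U' ⟶ V)
    (w' : U' → ℤ) (v : V) :
    MoreMor.fibreIntegral (φ ≫ π') (fun u => w' (φ u)) v = MoreMor.fibreIntegral π' w' v := by
  rw [fibreIntegral_eq', fibreIntegral_eq']
  have h1 : ∀ t : U, (inv φ) (φ t) = t := fun t => by
    rw [← Scheme.Hom.comp_apply, IsIso.hom_inv_id]; rfl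
  have h2 : ∀ t : U', φ ((inv φ) t) = t := fun t => by
    rw [← Scheme.Hom.comp_apply, IsIso.inv_hom_id]; rfl
  let e : {u : U // (φ ≫ π') u = v} ≃ {u' : U' // π' u' = v} :=
    { toFun := fun u => ⟨φ u.1, by rw [← Scheme.Hom.comp_apply]; exact u.2⟩
      invFun := fun u' => ⟨(inv φ) u'.1, by rw [Scheme.Hom.comp_apply, h2]; exact u'.2⟩
      left_inv := fun u => Subtype.ext (h1 u.1)
      right_inv := fun u' => Subtype.ext (h2 u'.1) }
  rw [← finsum_comp_equiv e]
  refine finsum_congr fun t => ?_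
  show w' (φ t.1) * (sepDeg (φ ≫ π') t.1 : ℤ) = w' (φ t.1) * (sepDeg π' (φ t.1) : ℤ)
  rw [sepDeg_comp_openImmersion]

end Basic

section Weighting

variable {X Y : Scheme.{u}}

theorem isWeighting_restrict_open (f : X ⟶ Y) (w : X → ℤ) (hw : MoreMor.IsWeighting f w)
    (X₀ : X.Opens) : MoreMor.IsWeighting (X₀.ι ≫ f) (fun x => w (X₀.ι x)) := by
  intro E g _ O hfin
  have hfin' : IsFinite ((srcMap X₀.ι f g ''ᵁ O).ι ≫ pullback.snd f g) :=
    src_property X₀.ι f g @IsFinite O hfin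
  have h := hw E g (srcMap X₀.ι f g ''ᵁ O) hfin'
  have e : O.ι ≫ pullback.snd (X₀.ι ≫ f) g = ((srcMap X₀.ι f g).isoImage O).hom ≫
      (srcMap X₀.ι f g ''ᵁ O).ι ≫ pullback.snd f g := by
    rw [Scheme.Hom.isoImage_hom_ι_assoc, srcMap_snd]
  have hpt : ∀ t : ↥O, (srcMap X₀.ι f g ''ᵁ O).ι (((srcMap X₀.ι f g).isoImage O).hom t) =
      srcMap X₀.ι f g (O.ι t) := fun t => by
    rw [← Scheme.Hom.comp_apply, Scheme.Hom.isoImage_hom_ι, Scheme.Hom.comp_apply]
  have key : (MoreMor.fibreIntegral (O.ι ≫ pullback.snd (X₀.ι ≫ f) g)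
      fun u => w (X₀.ι (pullback.fst (X₀.ι ≫ f) g (O.ι u)))) =
      MoreMor.fibreIntegral ((srcMap X₀.ι f g ''ᵁ O).ι ≫ pullback.snd f g)
        (fun u => w (pullback.fst f g ((srcMap X₀.ι f g ''ᵁ O).ι u))) := by
    funext v
    rw [← fibreIntegral_comp_iso ((srcMap X₀.ι f g).isoImage O).hom, e]
    congr 1
    funext t
    rw [hpt, srcMap_fst_apply]
  rw [key]
  exact h

theorem exists_etale_nbhd_single (f : X ⟶ Y) [LocallyQuasiFinite f] [LocallyOfFiniteType f]
    (x : X) :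
    ∃ (E : Scheme.{u}) (g : E ⟶ Y) (e : E), Etale g ∧ g e = f x ∧
      ∃ (O : (pullback f g).Opens) (pt : ↥(pullback f g)), pt ∈ O ∧
        IsFinite (O.ι ≫ pullback.snd f g) ∧ pullback.snd f g pt = e ∧
        (∀ t ∈ O, pullback.snd f g t = e → t = pt) ∧
        ((pullback.snd f g).residueFieldMap pt).hom.IsPurelyInseparable ∧
        pullback.fst f g pt = x := by
  obtain ⟨E, g, e, hg, hge, n, V, v, hV, -, hexh⟩ :=
    EtLocPI2.exists_etale_nbhd_split_pi f (f x) (fun _ : Unit => x) (fun _ => rfl)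
      (fun _ => f.quasiFiniteAt x)
  obtain ⟨t, ht1, ht2⟩ := Scheme.Pullback.exists_preimage_pullback x e hge.symm
  obtain ⟨j, hj⟩ := hexh t () ht2 ht1
  obtain ⟨h1, h2, h3, h4, -, h6, h7⟩ := hV () j
  exact ⟨E, g, e, hg, hge, V () j, v () j, h1, h2, h3, h4, h6, h7⟩

/-- The single-point étale localization, packaged for the composite `O ⟶ E`. -/
theorem exists_etale_nbhd_single' (f : X ⟶ Y) [LocallyQuasiFinite f] [LocallyOfFiniteType f]
    (x : X) :
    ∃ (E : Scheme.{u}) (g : E ⟶ Y) (e : E), Etale g ∧ g e = f x ∧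
      ∃ (O : (pullback f g).Opens) (pt : ↥O), IsFinite (O.ι ≫ pullback.snd f g) ∧
        (O.ι ≫ pullback.snd f g) pt = e ∧
        (∀ t : ↥O, (O.ι ≫ pullback.snd f g) t = e → t = pt) ∧
        ((O.ι ≫ pullback.snd f g).residueFieldMap pt).hom.IsPurelyInseparable ∧
        pullback.fst f g (O.ι pt) = x := by
  obtain ⟨E, g, e, hg, hge, O, pt, h1, h2, h3, h4, h6, h7⟩ := exists_etale_nbhd_single f x
  refine ⟨E, g, e, hg, hge, O, ⟨pt, h1⟩, h2, h3, ?_, ?_, h7⟩
  · intro t ht
    exact Subtype.ext (h4 t.1 t.2 ht)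
  · have hs : sepDeg (O.ι ≫ pullback.snd f g) ⟨pt, h1⟩ = 1 := by
      rw [sepDeg_comp_openImmersion]
      exact sepDeg_eq_one_of_pi _ _ h6
    letI := ((O.ι ≫ pullback.snd f g).residueFieldMap ⟨pt, h1⟩).hom.toAlgebra
    exact isPurelyInseparable_of_finSepDegree_eq_one hs

theorem upperSemicontinuous_of_weighting (f : X ⟶ Y) [LocallyQuasiFinite f]
    [LocallyOfFiniteType f] (w : X → ℤ) (hw : MoreMor.IsWeighting f w) (hpos : ∀ x, 0 < w x) :
    UpperSemicontinuous w := by
  intro x c hc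
  obtain ⟨E, g, e, hg, hge, O, pt, hfin, hpte, huniq, hpi, hptx⟩ := exists_etale_nbhd_single' f x
  haveI := hg
  haveI := hfin
  have hlc := hw E g O hfin
  have hval : MoreMor.fibreIntegral (O.ι ≫ pullback.snd f g)
      (fun u => w (pullback.fst f g (O.ι u))) e = w x := by
    rw [fibreIntegral_single (O.ι ≫ pullback.snd f g)
      (fun u => w (pullback.fst f g (O.ι u))) e pt hpte huniq hpi]
    exact congrArg w hptx
  have hN : IsOpen {v : E | MoreMor.fibreIntegral (O.ι ≫ pullback.snd f g)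
      (fun u => w (pullback.fst f g (O.ι u))) v = w x} := by
    rw [← hval]
    exact hlc.isOpen_fiber _
  haveI : Etale (pullback.fst f g) := MorphismProperty.pullback_fst (P := @Etale) f g hg
  haveI : UniversallyOpen (pullback.fst f g) := UniversallyOpen.of_flat _
  have hGopen : IsOpen (pullback.fst f g '' (O.ι '' ((O.ι ≫ pullback.snd f g) ⁻¹'
      {v : E | MoreMor.fibreIntegral (O.ι ≫ pullback.snd f g)
      (fun u => w (pullback.fst f g (O.ι u))) v = w x}))) :=
    (pullback.fst f g).isOpenMap _ (O.ι.isOpenEmbedding.isOpenMap _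
      (hN.preimage (O.ι ≫ pullback.snd f g).continuous))
  have hxG : x ∈ (pullback.fst f g '' (O.ι '' ((O.ι ≫ pullback.snd f g) ⁻¹'
      {v : E | MoreMor.fibreIntegral (O.ι ≫ pullback.snd f g)
      (fun u => w (pullback.fst f g (O.ι u))) v = w x}))) := by
    refine ⟨O.ι pt, ⟨pt, ?_, rfl⟩, hptx⟩
    show MoreMor.fibreIntegral _ _ ((O.ι ≫ pullback.snd f g) pt) = w x
    rw [hpte, hval]
  refine Filter.eventually_of_mem (hGopen.mem_nhds hxG) ?_
  rintro _ ⟨_, ⟨t, ht, rfl⟩, rfl⟩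
  refine lt_of_le_of_lt ?_ hc
  have h1 := term_le_fibreIntegral (O.ι ≫ pullback.snd f g)
    (fun u => w (pullback.fst f g (O.ι u))) ((O.ι ≫ pullback.snd f g) t)
    ((O.ι ≫ pullback.snd f g).finite_preimage_singleton _) (fun t' _ => (hpos _).le) t rfl
  have h2 : (1 : ℤ) ≤ (sepDeg (O.ι ≫ pullback.snd f g) t : ℤ) := by
    exact_mod_cast sepDeg_pos' (O.ι ≫ pullback.snd f g) t
  have h3 : MoreMor.fibreIntegral (O.ι ≫ pullback.snd f g)
      (fun u => w (pullback.fst f g (O.ι u))) ((O.ι ≫ pullback.snd f g) t) = w x := ht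
  calc w (pullback.fst f g (O.ι t))
      ≤ w (pullback.fst f g (O.ι t)) * (sepDeg (O.ι ≫ pullback.snd f g) t : ℤ) :=
        le_mul_of_one_le_right (hpos _).le h2
    _ ≤ _ := h1
    _ = w x := h3

theorem isOpen_range_of_weighting (f : X ⟶ Y) [LocallyQuasiFinite f]
    [LocallyOfFiniteType f] (w : X → ℤ) (hw : MoreMor.IsWeighting f w) (hpos : ∀ x, 0 < w x) :
    IsOpen (Set.range f) := by
  rw [isOpen_iff_mem_nhds]
  rintro _ ⟨x, rfl⟩
  obtain ⟨E, g, e, hg, hge, O, pt, hfin, hpte, huniq, hpi, hptx⟩ := exists_etale_nbhd_single' f x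
  haveI := hg
  haveI := hfin
  have hlc := hw E g O hfin
  have hval : MoreMor.fibreIntegral (O.ι ≫ pullback.snd f g)
      (fun u => w (pullback.fst f g (O.ι u))) e = w x := by
    rw [fibreIntegral_single (O.ι ≫ pullback.snd f g)
      (fun u => w (pullback.fst f g (O.ι u))) e pt hpte huniq hpi]
    exact congrArg w hptx
  have hN : IsOpen {v : E | MoreMor.fibreIntegral (O.ι ≫ pullback.snd f g)
      (fun u => w (pullback.fst f g (O.ι u))) v = w x} := by
    rw [← hval]
    exact hlc.isOpen_fiber _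
  haveI : UniversallyOpen g := UniversallyOpen.of_flat _
  have hgN := g.isOpenMap _ hN
  refine Filter.mem_of_superset (hgN.mem_nhds ⟨e, hval, hge⟩) ?_
  rintro _ ⟨v, hv, rfl⟩
  have hv' : MoreMor.fibreIntegral (O.ι ≫ pullback.snd f g)
      (fun u => w (pullback.fst f g (O.ι u))) v = w x := hv
  obtain ⟨t, ht⟩ := exists_of_fibreIntegral_ne_zero _ _ v (by rw [hv']; exact (hpos x).ne')
  refine ⟨pullback.fst f g (O.ι t), ?_⟩
  rw [← ht, ← Scheme.Hom.comp_apply, pullback.condition, Scheme.Hom.comp_apply,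
    Scheme.Hom.comp_apply]

theorem isOpenMap_of_weighting (f : X ⟶ Y) [LocallyQuasiFinite f]
    [LocallyOfFiniteType f] (w : X → ℤ) (hw : MoreMor.IsWeighting f w) (hpos : ∀ x, 0 < w x) :
    IsOpenMap f := by
  intro s hs
  let X₀ : X.Opens := ⟨s, hs⟩
  have h := isOpen_range_of_weighting (X₀.ι ≫ f) _
    (isWeighting_restrict_open f w hw X₀) (fun x => hpos _)
  rwa [Scheme.Hom.comp_base, TopCat.coe_comp, Set.range_comp, Scheme.Opens.range_ι] at h

end Weighting

end Groth.Agent.Lib.Helper8.FibInt
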