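import Mathlib
import Groth.Prelude.Def_MoreMor
import Groth.Agent.Lib.Helper8.FibInt

set_option autoImplicit false
universe u
open AlgebraicGeometry CategoryTheory Limits

namespace Groth.Agent.Lib.Helper8.FibIntGP

open Groth.Agent.Lib.Helper8.FibInt Groth.Agent.Lib.Helper8.EtLocPI

section GP

variable {Ω : Type u} [Field Ω] {U V : Scheme.{u}}

/-- The image point of a geometric point. -/
noncomputable abbrev gpt (b : Spec (.of Ω) ⟶ U) : U := b (IsLocalRing.closedPoint Ω)

/-- The residue field map of a geometric point. -/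
noncomputable def gφ (b : Spec (.of Ω) ⟶ U) : U.residueField (gpt b) ⟶ .of Ω :=
  Scheme.descResidueField (Scheme.stalkClosedPointTo b)

lemma spec_gφ (b : Spec (.of Ω) ⟶ U) :
    Spec.map (gφ b) ≫ U.fromSpecResidueField (gpt b) = b :=
  Scheme.descResidueField_stalkClosedPointTo_fromSpecResidueField Ω U b

lemma gpt_comp (b : Spec (.of Ω) ⟶ U) (π : U ⟶ V) : gpt (b ≫ π) = π (gpt b) := rfl

lemma gφ_comp (b : Spec (.of Ω) ⟶ U) (π : U ⟶ V) :
    gφ (b ≫ π) = π.residueFieldMap (gpt b) ≫ gφ b :=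
  Scheme.descResidueField_stalkClosedPointTo_comp π b

lemma gφ_compat (b : Spec (.of Ω) ⟶ U) (π : U ⟶ V) (a : Spec (.of Ω) ⟶ V) (hb : b ≫ π = a)
    (hu : π (gpt b) = gpt a) :
    π.residueFieldMap (gpt b) ≫ gφ b = (V.residueFieldCongr hu).hom ≫ gφ a := by
  subst hb
  rw [gφ_comp]
  show _ = (V.residueFieldCongr (rfl : π (gpt b) = π (gpt b))).hom ≫ _
  rw [Scheme.residueFieldCongr_refl, Iso.refl_hom, Category.id_comp]

theorem card_geomPoints_over [IsAlgClosed Ω] (π : U ⟶ V) (a : Spec (.of Ω) ⟶ V) (u : U)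
    (hu : π u = gpt a) (halg : (π.residueFieldMap u).hom.Finite) :
    Nat.card {b : Spec (.of Ω) ⟶ U // b ≫ π = a ∧ gpt b = u} = sepDeg π u := by
  letI : Algebra (V.residueField (π u)) (U.residueField u) := (π.residueFieldMap u).hom.toAlgebra
  letI : Algebra (V.residueField (π u)) Ω := ((V.residueFieldCongr hu).hom ≫ gφ a).hom.toAlgebra
  haveI : Algebra.IsAlgebraic (V.residueField (π u)) (U.residueField u) := by
    haveI : Module.Finite (V.residueField (π u)) (U.residueField u) := halg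
    exact Algebra.IsAlgebraic.of_finite _ _
  show _ = Field.finSepDegree (V.residueField (π u)) (U.residueField u)
  rw [Field.finSepDegree_eq_of_isAlgClosed (V.residueField (π u)) (U.residueField u) Ω]
  symm
  refine Nat.card_congr (Equiv.ofBijective
    (fun ψ => ⟨Spec.map (CommRingCat.ofHom ψ.toRingHom) ≫ U.fromSpecResidueField u, ?_, ?_⟩)
    ⟨?_, ?_⟩)
  · have hψ : π.residueFieldMap u ≫ CommRingCat.ofHom ψ.toRingHom =
        (V.residueFieldCongr hu).hom ≫ gφ a := by
      ext c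
      exact ψ.commutes c
    have e1 : (Spec.map (CommRingCat.ofHom ψ.toRingHom) ≫ U.fromSpecResidueField u) ≫ π =
        Spec.map (π.residueFieldMap u ≫ CommRingCat.ofHom ψ.toRingHom) ≫
          V.fromSpecResidueField (π u) := by
      rw [Category.assoc, ← Scheme.Hom.SpecMap_residueFieldMap_fromSpecResidueField,
        ← Spec.map_comp_assoc]
      rfl
    rw [e1, hψ, Spec.map_comp, Category.assoc,
      Scheme.residueFieldCongr_fromSpecResidueField, spec_gφ]
  · exact Scheme.fromSpecResidueField_apply u _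
  · intro ψ ψ' h
    have h' : (Scheme.SpecToEquivOfField Ω U).symm ⟨u, CommRingCat.ofHom ψ.toRingHom⟩ =
        (Scheme.SpecToEquivOfField Ω U).symm ⟨u, CommRingCat.ofHom ψ'.toRingHom⟩ :=
      congrArg Subtype.val h
    have h'' := (Scheme.SpecToEquivOfField Ω U).symm.injective h'
    rw [Sigma.mk.inj_iff] at h''
    have h3 : CommRingCat.ofHom ψ.toRingHom = CommRingCat.ofHom ψ'.toRingHom := eq_of_heq h''.2
    have h4 : ψ.toRingHom = ψ'.toRingHom := congrArg CommRingCat.Hom.hom h3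
    exact AlgHom.ext fun z => RingHom.congr_fun h4 z
  · rintro ⟨b, hb, rfl⟩
    have key := gφ_compat b π a hb hu
    refine ⟨{ (gφ b).hom with commutes' := fun c => ?_ }, Subtype.ext ?_⟩
    · exact congrArg (fun φ => φ.hom c) key
    · exact spec_gφ b

lemma exists_geomPoint [IsAlgClosed Ω] (π : U ⟶ V) (a : Spec (.of Ω) ⟶ V) (u : U)
    (hu : π u = gpt a) (halg : (π.residueFieldMap u).hom.Finite) :
    ∃ b : Spec (.of Ω) ⟶ U, b ≫ π = a ∧ gpt b = u := by
  have h := card_geomPoints_over π a u hu halg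
  have hpos := sepDeg_pos π u halg
  rw [← h] at hpos
  haveI := (Nat.card_pos_iff.mp hpos).1
  obtain ⟨b, hb⟩ := (inferInstance : Nonempty {b : Spec (.of Ω) ⟶ U // b ≫ π = a ∧ gpt b = u})
  exact ⟨b, hb⟩

variable [IsAlgClosed Ω] (π : U ⟶ V) [LocallyQuasiFinite π] [LocallyOfFiniteType π]
  (a : Spec (.of Ω) ⟶ V)

/-- The map from geometric points to points of the fibre. -/
noncomputable def toFibre (b : {b : Spec (.of Ω) ⟶ U // b ≫ π = a}) : {u : U // π u = gpt a} :=
  ⟨gpt b.1, by rw [← gpt_comp, b.2]⟩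

lemma card_toFibre (y : {u : U // π u = gpt a}) :
    Nat.card {b : {b : Spec (.of Ω) ⟶ U // b ≫ π = a} // toFibre π a b = y} = sepDeg π y.1 := by
  rw [← card_geomPoints_over π a y.1 y.2
    (finite_residueFieldMap_of_quasiFiniteAt π y.1 (π.quasiFiniteAt y.1))]
  exact Nat.card_congr
    { toFun := fun x => ⟨x.1.1, x.1.2, congrArg Subtype.val x.2⟩
      invFun := fun z => ⟨⟨z.1, z.2.1⟩, Subtype.ext z.2.2⟩
      left_inv := fun _ => rfl
      right_inv := fun _ => rfl }

lemma finite_toFibre (y : {u : U // π u = gpt a}) :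
    Finite {b : {b : Spec (.of Ω) ⟶ U // b ≫ π = a} // toFibre π a b = y} := by
  apply Nat.finite_of_card_ne_zero
  rw [card_toFibre]
  exact (sepDeg_pos' π y.1).ne'

lemma finite_geomPoints (hfin : (π ⁻¹' {gpt a}).Finite) :
    Finite {b : Spec (.of Ω) ⟶ U // b ≫ π = a} := by
  haveI : Finite {u : U // π u = gpt a} := hfin.to_subtype
  haveI := finite_toFibre π a
  exact Finite.of_equiv _ (Equiv.sigmaFiberEquiv (toFibre π a))

theorem fibreIntegral_eq_geom (w : U → ℤ) (hfin : (π ⁻¹' {gpt a}).Finite) :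
    MoreMor.fibreIntegral π w (gpt a) =
      ∑ᶠ b : {b : Spec (.of Ω) ⟶ U // b ≫ π = a}, w (gpt b.1) := by
  classical
  haveI : Finite {u : U // π u = gpt a} := hfin.to_subtype
  haveI := finite_geomPoints π a hfin
  haveI := Fintype.ofFinite {u : U // π u = gpt a}
  haveI := Fintype.ofFinite {b : Spec (.of Ω) ⟶ U // b ≫ π = a}
  rw [fibreIntegral_eq', finsum_eq_sum_of_fintype, finsum_eq_sum_of_fintype,
    ← Finset.sum_fiberwise Finset.univ (toFibre π a) (fun b => w (gpt b.1))]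
  refine Finset.sum_congr rfl fun y _ => ?_
  have h1 : ∀ b ∈ Finset.univ.filter (fun b => toFibre π a b = y), w (gpt b.1) = w y.1 := by
    intro b hb
    rw [Finset.mem_filter] at hb
    exact congrArg w (congrArg Subtype.val hb.2)
  rw [Finset.sum_congr rfl h1, Finset.sum_const, nsmul_eq_mul, mul_comm]
  congr 1
  rw [← card_toFibre π a y, Nat.card_eq_fintype_card, Fintype.card_subtype]

end GP

section BaseChange

variable {Ω : Type u} [Field Ω] {U V U' V' : Scheme.{u}} {π : U ⟶ V} {π' : U' ⟶ V'}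
  {h : U' ⟶ U} {g : V' ⟶ V}

/-- Geometric points of a base change. -/
noncomputable def geomEquiv (hc : IsPullback h π' π g) (a' : Spec (.of Ω) ⟶ V') :
    {b' : Spec (.of Ω) ⟶ U' // b' ≫ π' = a'} ≃ {b : Spec (.of Ω) ⟶ U // b ≫ π = a' ≫ g} where
  toFun b' := ⟨b'.1 ≫ h, by rw [Category.assoc, hc.w, ← Category.assoc, b'.2]⟩
  invFun b := ⟨hc.lift b.1 a' b.2, hc.lift_snd _ _ _⟩
  left_inv b' := Subtype.ext (hc.hom_ext (by simp) (by simp [b'.2]))
  right_inv b := Subtype.ext (hc.lift_fst _ _ _)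

end BaseChange

theorem exists_geomPoint_at {V : Scheme.{u}} (v : V) :
    ∃ (Ω : Type u) (_ : Field Ω) (_ : IsAlgClosed Ω) (a : Spec (.of Ω) ⟶ V), gpt a = v :=
  ⟨AlgebraicClosure (V.residueField v), inferInstance, inferInstance,
    Spec.map (CommRingCat.ofHom (algebraMap (V.residueField v)
      (AlgebraicClosure (V.residueField v)))) ≫ V.fromSpecResidueField v,
    Scheme.fromSpecResidueField_apply v _⟩

theorem fibreIntegral_baseChange {U V U' V' : Scheme.{u}} (π : U ⟶ V) [LocallyQuasiFinite π]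
    [LocallyOfFiniteType π] (π' : U' ⟶ V') (h : U' ⟶ U) (g : V' ⟶ V)
    (hc : IsPullback h π' π g) (w : U → ℤ) (v' : V') (hfin : (π ⁻¹' {g v'}).Finite) :
    MoreMor.fibreIntegral π' (w ∘ ⇑h) v' = MoreMor.fibreIntegral π w (g v') ∧
      (π' ⁻¹' {v'}).Finite := by
  obtain ⟨Ω, _, _, a', rfl⟩ := exists_geomPoint_at v'
  haveI : LocallyQuasiFinite π' :=
    MorphismProperty.of_isPullback (P := @LocallyQuasiFinite) hc inferInstance
  haveI : LocallyOfFiniteType π' :=
    MorphismProperty.of_isPullback (P := @LocallyOfFiniteType) hc inferInstance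
  have hfin0 : (π ⁻¹' {gpt (a' ≫ g)}).Finite := hfin
  haveI := finite_geomPoints π (a' ≫ g) hfin0
  haveI : Finite {b' : Spec (.of Ω) ⟶ U' // b' ≫ π' = a'} :=
    Finite.of_equiv _ (geomEquiv hc a').symm
  have hfin' : (π' ⁻¹' {gpt a'}).Finite := by
    refine Set.Finite.subset
      (Set.finite_range (fun b' : {b' : Spec (.of Ω) ⟶ U' // b' ≫ π' = a'} => gpt b'.1)) ?_
    intro u' hu'
    obtain ⟨b', hb', hbu⟩ := exists_geomPoint π' a' u' hu'
      (finite_residueFieldMap_of_quasiFiniteAt π' u' (π'.quasiFiniteAt u'))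
    exact ⟨⟨b', hb'⟩, hbu⟩
  refine ⟨?_, hfin'⟩
  rw [fibreIntegral_eq_geom π' a' (w ∘ ⇑h) hfin']
  show _ = MoreMor.fibreIntegral π w (gpt (a' ≫ g))
  rw [fibreIntegral_eq_geom π (a' ≫ g) w hfin0, ← finsum_comp_equiv (geomEquiv hc a')]
  rfl

end Groth.Agent.Lib.Helper8.FibIntGP
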