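import Mathlib
import Groth.Prelude.Def_MoreMor
import Groth.Agent.Lib.Helper8.FibIntGP

set_option autoImplicit false
universe u
open AlgebraicGeometry CategoryTheory Limits

namespace Groth.Agent.Lib.Helper8.FibIntW

open Groth.Agent.Lib.Helper8.FibInt Groth.Agent.Lib.Helper8.FibIntGP
  Groth.Agent.Lib.Helper8.EtLocUnr Groth.Agent.Lib.Helper8.EtLocPI

section BC

variable {X Y V V₂ : Scheme.{u}} (f : X ⟶ Y) (g : V ⟶ Y) (g₂ : V₂ ⟶ Y) (k : V₂ ⟶ V)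
  (hk : k ≫ g = g₂)

/-- The base change map `X ×_Y V₂ ⟶ X ×_Y V` induced by `k : V₂ ⟶ V`. -/
noncomputable def bcMap : pullback f g₂ ⟶ pullback f g :=
  pullback.map f g₂ f g (𝟙 X) k (𝟙 Y) (by simp) (by simp [hk])

lemma bcMap_fst : bcMap f g g₂ k hk ≫ pullback.fst f g = pullback.fst f g₂ := by
  dsimp only [bcMap, pullback.map]
  rw [pullback.lift_fst, Category.comp_id]

lemma bcMap_snd : bcMap f g g₂ k hk ≫ pullback.snd f g = pullback.snd f g₂ ≫ k := by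
  dsimp only [bcMap, pullback.map]
  rw [pullback.lift_snd]

lemma isPullback_bcMap :
    IsPullback (bcMap f g g₂ k hk) (pullback.snd f g₂) (pullback.snd f g) k := by
  subst hk
  refine IsPullback.of_right ?_ (bcMap_snd f g (k ≫ g) k rfl) (IsPullback.of_hasPullback f g)
  rw [bcMap_fst]
  exact IsPullback.of_hasPullback f (k ≫ g)

lemma bcMap_fst_apply (t : ↥(pullback f g₂)) :
    pullback.fst f g (bcMap f g g₂ k hk t) = pullback.fst f g₂ t := by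
  rw [← Scheme.Hom.comp_apply, bcMap_fst]

lemma bcMap_snd_apply (t : ↥(pullback f g₂)) :
    pullback.snd f g (bcMap f g g₂ k hk t) = k (pullback.snd f g₂ t) := by
  rw [← Scheme.Hom.comp_apply, bcMap_snd, Scheme.Hom.comp_apply]

lemma isPullback_bcMap_restrict (A : (pullback f g).Opens) :
    IsPullback (bcMap f g g₂ k hk ∣_ A) ((bcMap f g g₂ k hk ⁻¹ᵁ A).ι ≫ pullback.snd f g₂)
      (A.ι ≫ pullback.snd f g) k :=
  (isPullback_morphismRestrict (bcMap f g g₂ k hk) A).paste_vert (isPullback_bcMap f g g₂ k hk)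

lemma bc_isFinite (A : (pullback f g).Opens) (hA : IsFinite (A.ι ≫ pullback.snd f g)) :
    IsFinite ((bcMap f g g₂ k hk ⁻¹ᵁ A).ι ≫ pullback.snd f g₂) :=
  MorphismProperty.of_isPullback (P := @IsFinite) (isPullback_bcMap_restrict f g g₂ k hk A) hA

/-- The fibre integral of `w` along an open `A` of `X ×_Y V`. -/
noncomputable def IA (w : X → ℤ) (A : (pullback f g).Opens) : V → ℤ :=
  MoreMor.fibreIntegral (A.ι ≫ pullback.snd f g) (fun u => w (pullback.fst f g (A.ι u)))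

lemma bc_IA (w : X → ℤ) (A : (pullback f g).Opens) (hA : IsFinite (A.ι ≫ pullback.snd f g))
    (v₂ : V₂) : IA f g₂ w (bcMap f g g₂ k hk ⁻¹ᵁ A) v₂ = IA f g w A (k v₂) := by
  haveI := hA
  have h := (fibreIntegral_baseChange (A.ι ≫ pullback.snd f g)
    ((bcMap f g g₂ k hk ⁻¹ᵁ A).ι ≫ pullback.snd f g₂) (bcMap f g g₂ k hk ∣_ A) k
    (isPullback_bcMap_restrict f g g₂ k hk A) (fun u => w (pullback.fst f g (A.ι u))) v₂
    ((A.ι ≫ pullback.snd f g).finite_preimage_singleton _)).1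
  rw [IA, IA, ← h]
  congr 1
  funext u₂
  show w (pullback.fst f g₂ ((bcMap f g g₂ k hk ⁻¹ᵁ A).ι u₂)) =
    w (pullback.fst f g (A.ι ((bcMap f g g₂ k hk ∣_ A) u₂)))
  rw [← bcMap_fst_apply f g g₂ k hk, ← Scheme.Hom.comp_apply, ← Scheme.Hom.comp_apply _ A.ι,
    morphismRestrict_ι]
  rfl

end BC

section Points

variable {T V : Scheme.{u}} (ρ : T ⟶ V)

lemma fibreIntegral_open (A : T.Opens) (w' : T → ℤ) (v : V) :
    MoreMor.fibreIntegral (A.ι ≫ ρ) (fun u => w' (A.ι u)) v =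
      ∑ᶠ t ∈ {t : T | ρ t = v ∧ t ∈ A}, w' t * (sepDeg ρ t : ℤ) := by
  rw [fibreIntegral_eq', ← finsum_set_coe_eq_finsum_mem]
  let e : {u : ↥A // (A.ι ≫ ρ) u = v} ≃ ↥{t : T | ρ t = v ∧ t ∈ A} :=
    { toFun := fun u => ⟨u.1.1, u.2, u.1.2⟩
      invFun := fun t => ⟨⟨t.1, t.2.2⟩, t.2.1⟩
      left_inv := fun _ => rfl
      right_inv := fun _ => rfl }
  rw [← finsum_comp_equiv e]
  refine finsum_congr fun u => ?_
  show w' (A.ι u.1) * (sepDeg (A.ι ≫ ρ) u.1 : ℤ) = w' u.1.1 * (sepDeg ρ u.1.1 : ℤ)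
  rw [sepDeg_comp_openImmersion]
  rfl

lemma finite_fibre_open (A : T.Opens) (hA : IsFinite (A.ι ≫ ρ)) (v : V) :
    {t : T | ρ t = v ∧ t ∈ A}.Finite := by
  haveI := hA
  refine Set.Finite.subset (((A.ι ≫ ρ).finite_preimage_singleton v).image A.ι) ?_
  rintro t ⟨h1, hk⟩
  exact ⟨⟨t, hk⟩, h1, rfl⟩

lemma fibreIntegral_open_eq_sum (w' : T → ℤ) (A : T.Opens) {K : Type*} [Finite K]
    (B : K → T.Opens) (hB : ∀ k, IsFinite ((B k).ι ≫ ρ)) (v : V)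
    (h : ∀ t, ρ t = v → ((t ∈ A ↔ ∃ k, t ∈ B k) ∧ ∀ k k', t ∈ B k → t ∈ B k' → k = k')) :
    MoreMor.fibreIntegral (A.ι ≫ ρ) (fun u => w' (A.ι u)) v =
      ∑ᶠ k, MoreMor.fibreIntegral ((B k).ι ≫ ρ) (fun u => w' ((B k).ι u)) v := by
  simp_rw [fibreIntegral_open]
  have hset : {t : T | ρ t = v ∧ t ∈ A} = ⋃ k, {t : T | ρ t = v ∧ t ∈ B k} := by
    ext t
    simp only [Set.mem_ofPred_eq, Set.mem_iUnion]
    constructor
    · rintro ⟨h1, h2⟩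
      obtain ⟨k, hk⟩ := ((h t h1).1).mp h2
      exact ⟨k, h1, hk⟩
    · rintro ⟨k, h1, hk⟩
      exact ⟨h1, ((h t h1).1).mpr ⟨k, hk⟩⟩
  rw [hset, finsum_mem_iUnion]
  · intro k k' hkk'
    rw [Function.onFun, Set.disjoint_left]
    rintro t ⟨h1, hk⟩ ⟨_, hk'⟩
    exact hkk' ((h t h1).2 k k' hk hk')
  · intro k
    exact finite_fibre_open ρ (B k) (hB k) v

lemma fibreIntegral_single_open (O : T.Opens) (w' : T → ℤ) (v : V) (pt : T) (hpt : pt ∈ O)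
    (hv : ρ pt = v) (huniq : ∀ t ∈ O, ρ t = v → t = pt)
    (hpi : (ρ.residueFieldMap pt).hom.IsPurelyInseparable) :
    MoreMor.fibreIntegral (O.ι ≫ ρ) (fun u => w' (O.ι u)) v = w' pt := by
  rw [fibreIntegral_open]
  have hset : {t : T | ρ t = v ∧ t ∈ O} = {pt} := by
    ext t
    simp only [Set.mem_ofPred_eq, Set.mem_singleton_iff]
    constructor
    · rintro ⟨h1, h2⟩
      exact huniq t h2 h1
    · rintro rfl
      exact ⟨hv, hpt⟩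
  rw [hset, finsum_mem_singleton, sepDeg_eq_one_of_pi ρ pt hpi]
  simp

lemma exists_isClosed_of_le (A B : T.Opens) [IsSeparated (A.ι ≫ ρ)]
    (hB : IsFinite (B.ι ≫ ρ)) (N : V.Opens) (hBA : ∀ t ∈ B, ρ t ∈ N → t ∈ A) :
    ∃ Z : Set ↥A, IsClosed Z ∧ ∀ a : ↥A, ρ a.1 ∈ N → (a ∈ Z ↔ a.1 ∈ B) := by
  have hrange : Set.range (((B.ι ≫ ρ) ⁻¹ᵁ N).ι ≫ B.ι) ⊆ Set.range (((A.ι ≫ ρ) ⁻¹ᵁ N).ι ≫ A.ι) := by
    rintro _ ⟨b, rfl⟩
    have hb1 : b.1.1 ∈ B := b.1.2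
    have hb2 : ρ b.1.1 ∈ N := b.2
    exact ⟨⟨⟨b.1.1, hBA _ hb1 hb2⟩, hb2⟩, rfl⟩
  have hj : IsOpenImmersion.lift (((A.ι ≫ ρ) ⁻¹ᵁ N).ι ≫ A.ι) (((B.ι ≫ ρ) ⁻¹ᵁ N).ι ≫ B.ι) hrange ≫
      ((A.ι ≫ ρ) ⁻¹ᵁ N).ι ≫ A.ι = ((B.ι ≫ ρ) ⁻¹ᵁ N).ι ≫ B.ι := IsOpenImmersion.lift_fac _ _ _
  have hjρ : IsOpenImmersion.lift (((A.ι ≫ ρ) ⁻¹ᵁ N).ι ≫ A.ι) (((B.ι ≫ ρ) ⁻¹ᵁ N).ι ≫ B.ι) hrange ≫
      ((A.ι ≫ ρ) ∣_ N) = (B.ι ≫ ρ) ∣_ N := by
    rw [← cancel_mono N.ι, Category.assoc, morphismRestrict_ι, morphismRestrict_ι,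
      ← Category.assoc, ← Category.assoc, ← Category.assoc, Category.assoc _ _ A.ι, hj,
      Category.assoc]
  haveI : IsFinite ((B.ι ≫ ρ) ∣_ N) := IsZariskiLocalAtTarget.restrict (P := @IsFinite) hB N
  haveI : IsSeparated ((A.ι ≫ ρ) ∣_ N) :=
    IsZariskiLocalAtTarget.restrict (P := @IsSeparated) inferInstance N
  haveI : IsFinite (IsOpenImmersion.lift (((A.ι ≫ ρ) ⁻¹ᵁ N).ι ≫ A.ι)
      (((B.ι ≫ ρ) ⁻¹ᵁ N).ι ≫ B.ι) hrange ≫ ((A.ι ≫ ρ) ∣_ N)) := by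
    rw [hjρ]; infer_instance
  haveI : IsFinite (IsOpenImmersion.lift (((A.ι ≫ ρ) ⁻¹ᵁ N).ι ≫ A.ι)
      (((B.ι ≫ ρ) ⁻¹ᵁ N).ι ≫ B.ι) hrange) := IsFinite.of_comp _ ((A.ι ≫ ρ) ∣_ N)
  have hZ₀ : IsClosed (Set.range (IsOpenImmersion.lift (((A.ι ≫ ρ) ⁻¹ᵁ N).ι ≫ A.ι)
      (((B.ι ≫ ρ) ⁻¹ᵁ N).ι ≫ B.ι) hrange)) := (Scheme.Hom.isClosedMap _).isClosed_range
  refine ⟨(((A.ι ≫ ρ) ⁻¹ᵁ N).ι '' (Set.range (IsOpenImmersion.lift (((A.ι ≫ ρ) ⁻¹ᵁ N).ι ≫ A.ι)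
      (((B.ι ≫ ρ) ⁻¹ᵁ N).ι ≫ B.ι) hrange))ᶜ)ᶜ,
    (((A.ι ≫ ρ) ⁻¹ᵁ N).ι.isOpenEmbedding.isOpenMap _ hZ₀.isOpen_compl).isClosed_compl, ?_⟩
  intro a ha
  constructor
  · intro haZ
    by_contra hnB
    apply haZ
    refine ⟨⟨a, ha⟩, ?_, rfl⟩
    rintro ⟨b, hb⟩
    apply hnB
    have h1 := congrArg (fun z => (((A.ι ≫ ρ) ⁻¹ᵁ N).ι ≫ A.ι) z) hb
    simp only [← Scheme.Hom.comp_apply, hj] at h1
    have h2 : (((B.ι ≫ ρ) ⁻¹ᵁ N).ι ≫ B.ι) b = a.1 := h1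
    rw [← h2]
    exact b.1.2
  · rintro haB ⟨a', ha', haa'⟩
    apply ha'
    refine ⟨⟨⟨a.1, haB⟩, ha⟩, ?_⟩
    apply (((A.ι ≫ ρ) ⁻¹ᵁ N).ι ≫ A.ι).isOpenEmbedding.injective
    rw [← Scheme.Hom.comp_apply, hj]
    show a.1 = A.ι (((A.ι ≫ ρ) ⁻¹ᵁ N).ι a')
    rw [haa']
    rfl

end Points

section Shrink

variable {T V : Scheme.{u}} (ρ : T ⟶ V)

theorem exists_nbhd_split (v : V) (A : T.Opens) {K : Type*} [Finite K] (B : K → T.Opens)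
    (hA : IsFinite (A.ι ≫ ρ)) (hB : ∀ k, IsFinite ((B k).ι ≫ ρ))
    (h1 : ∀ t, ρ t = v → t ∈ A → ∃ k, t ∈ B k)
    (h2 : ∀ k t, ρ t = v → t ∈ B k → t ∈ A)
    (h3 : ∀ k k' t, ρ t = v → t ∈ B k → t ∈ B k' → k = k') :
    ∃ N : V.Opens, v ∈ N ∧ ∀ t, ρ t ∈ N →
      ((t ∈ A ↔ ∃ k, t ∈ B k) ∧ ∀ k k', t ∈ B k → t ∈ B k' → k = k') := by
  haveI := hA
  have hC₁ : IsClosed ((A.ι ≫ ρ) '' (A.ι ⁻¹' (⋃ k, ((B k : T.Opens) : Set T))ᶜ)) :=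
    (A.ι ≫ ρ).isClosedMap _ (IsClosed.preimage A.ι.continuous
      (isOpen_iUnion fun k => (B k).2).isClosed_compl)
  have hvC₁ : v ∉ (A.ι ≫ ρ) '' (A.ι ⁻¹' (⋃ k, ((B k : T.Opens) : Set T))ᶜ) := by
    rintro ⟨a, ha, hav⟩
    obtain ⟨k, hk⟩ := h1 a.1 hav a.2
    exact ha (Set.mem_iUnion.mpr ⟨k, hk⟩)
  have hC₂ : ∀ k, IsClosed (((B k).ι ≫ ρ) '' ((B k).ι ⁻¹' ((A : T.Opens) : Set T)ᶜ)) := fun k => by
    haveI := hB k
    exact ((B k).ι ≫ ρ).isClosedMap _ (IsClosed.preimage (B k).ι.continuous A.2.isClosed_compl)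
  have hvC₂ : ∀ k, v ∉ ((B k).ι ≫ ρ) '' ((B k).ι ⁻¹' ((A : T.Opens) : Set T)ᶜ) := by
    rintro k ⟨b, hb, hbv⟩
    exact hb (h2 k b.1 hbv b.2)
  have hCl : IsClosed (((A.ι ≫ ρ) '' (A.ι ⁻¹' (⋃ k, ((B k : T.Opens) : Set T))ᶜ)) ∪
      ⋃ k, ((B k).ι ≫ ρ) '' ((B k).ι ⁻¹' ((A : T.Opens) : Set T)ᶜ)) :=
    hC₁.union (isClosed_iUnion_of_finite hC₂)
  obtain ⟨N₁, hN₁def⟩ : ∃ N₁ : V.Opens, (N₁ : Set V) =
      (((A.ι ≫ ρ) '' (A.ι ⁻¹' (⋃ k, ((B k : T.Opens) : Set T))ᶜ)) ∪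
      ⋃ k, ((B k).ι ≫ ρ) '' ((B k).ι ⁻¹' ((A : T.Opens) : Set T)ᶜ))ᶜ :=
    ⟨⟨_, hCl.isOpen_compl⟩, rfl⟩
  have hmemN₁ : ∀ z : V, z ∈ N₁ ↔ z ∉ (((A.ι ≫ ρ) '' (A.ι ⁻¹' (⋃ k, ((B k : T.Opens) : Set T))ᶜ)) ∪
      ⋃ k, ((B k).ι ≫ ρ) '' ((B k).ι ⁻¹' ((A : T.Opens) : Set T)ᶜ)) := fun z => by
    rw [← SetLike.mem_coe, hN₁def]; rfl
  have hvN₁ : v ∈ N₁ := by
    rw [hmemN₁]
    rintro (h | h)
    · exact hvC₁ h
    · obtain ⟨k, hk⟩ := Set.mem_iUnion.mp h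
      exact hvC₂ k hk
  have hN₁ : ∀ t, ρ t ∈ N₁ → (t ∈ A ↔ ∃ k, t ∈ B k) := by
    intro t ht
    rw [hmemN₁] at ht
    constructor
    · intro htA
      by_contra hne
      apply ht
      left
      exact ⟨⟨t, htA⟩, fun hmem => hne (Set.mem_iUnion.mp hmem), rfl⟩
    · rintro ⟨k, hk⟩
      by_contra hnA
      apply ht
      right
      exact Set.mem_iUnion.mpr ⟨k, ⟨t, hk⟩, hnA, rfl⟩
  have hZ : ∀ k, ∃ Z : Set ↥A, IsClosed Z ∧ ∀ a : ↥A, ρ a.1 ∈ N₁ → (a ∈ Z ↔ a.1 ∈ B k) := fun k =>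
    exists_isClosed_of_le ρ A (B k) (hB k) N₁ (fun t htB htN => (hN₁ t htN).mpr ⟨k, htB⟩)
  choose Z hZcl hZmem using hZ
  have hC₃ : ∀ p : K × K, IsClosed ((A.ι ≫ ρ) '' (Z p.1 ∩ Z p.2)) := fun p =>
    (A.ι ≫ ρ).isClosedMap _ ((hZcl p.1).inter (hZcl p.2))
  have hvC₃ : ∀ p : K × K, p.1 ≠ p.2 → v ∉ (A.ι ≫ ρ) '' (Z p.1 ∩ Z p.2) := by
    rintro p hp ⟨a, ⟨ha1, ha2⟩, hav⟩
    have hav' : ρ a.1 = v := hav
    have hN : ρ a.1 ∈ N₁ := by rw [hav']; exact hvN₁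
    exact hp (h3 p.1 p.2 a.1 hav' ((hZmem p.1 a hN).mp ha1) ((hZmem p.2 a hN).mp ha2))
  have hCl₃ : IsClosed (⋃ p : {p : K × K // p.1 ≠ p.2}, (A.ι ≫ ρ) '' (Z p.1.1 ∩ Z p.1.2)) :=
    isClosed_iUnion_of_finite fun p => hC₃ p.1
  obtain ⟨N, hNdef⟩ : ∃ N : V.Opens, (N : Set V) =
      ((N₁ : Set V)ᶜ ∪ ⋃ p : {p : K × K // p.1 ≠ p.2}, (A.ι ≫ ρ) '' (Z p.1.1 ∩ Z p.1.2))ᶜ :=
    ⟨⟨_, (N₁.2.isClosed_compl.union hCl₃).isOpen_compl⟩, rfl⟩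
  have hmemN : ∀ z : V, z ∈ N ↔ z ∉ ((N₁ : Set V)ᶜ ∪
      ⋃ p : {p : K × K // p.1 ≠ p.2}, (A.ι ≫ ρ) '' (Z p.1.1 ∩ Z p.1.2)) := fun z => by
    rw [← SetLike.mem_coe, hNdef]; rfl
  refine ⟨N, ?_, ?_⟩
  · rw [hmemN]
    rintro (h | h)
    · exact h hvN₁
    · obtain ⟨p, hp⟩ := Set.mem_iUnion.mp h
      exact hvC₃ p.1 p.2 hp
  · intro t ht
    rw [hmemN] at ht
    have htN₁ : ρ t ∈ N₁ := by
      by_contra hnot
      exact ht (Or.inl hnot)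
    refine ⟨hN₁ t htN₁, ?_⟩
    intro k k' hk hk'
    by_contra hne
    apply ht
    right
    have htA : t ∈ A := (hN₁ t htN₁).mpr ⟨k, hk⟩
    exact Set.mem_iUnion.mpr ⟨⟨(k, k'), hne⟩, ⟨t, htA⟩,
      ⟨(hZmem k ⟨t, htA⟩ htN₁).mpr hk, (hZmem k' ⟨t, htA⟩ htN₁).mpr hk'⟩, rfl⟩

lemma eq_of_sum_sepDeg_eq_one [LocallyQuasiFinite ρ] [LocallyOfFiniteType ρ] (O : T.Opens)
    (hO : IsFinite (O.ι ≫ ρ)) (v : V)
    (hone : ∑ᶠ t ∈ {t : T | ρ t = v ∧ t ∈ O}, (1 : ℤ) * (sepDeg ρ t : ℤ) = 1) (t t' : T)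
    (ht : ρ t = v) (htO : t ∈ O) (ht' : ρ t' = v) (htO' : t' ∈ O) : t = t' := by
  classical
  by_contra hne
  have hfin := finite_fibre_open ρ O hO v
  rw [finsum_mem_eq_finite_toFinset_sum _ hfin] at hone
  have hsub : ({t, t'} : Finset T) ⊆ hfin.toFinset := by
    intro z hz
    rw [Finset.mem_insert, Finset.mem_singleton] at hz
    rw [Set.Finite.mem_toFinset]
    rcases hz with rfl | rfl
    · exact ⟨ht, htO⟩
    · exact ⟨ht', htO'⟩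
  have hle := Finset.sum_le_sum_of_subset_of_nonneg (f := fun t => (1 : ℤ) * (sepDeg ρ t : ℤ)) hsub
    (fun z _ _ => mul_nonneg zero_le_one (Int.natCast_nonneg _))
  rw [Finset.sum_pair hne, hone] at hle
  have p1 : (1 : ℤ) ≤ (sepDeg ρ t : ℤ) := by exact_mod_cast sepDeg_pos' ρ t
  have p2 : (1 : ℤ) ≤ (sepDeg ρ t' : ℤ) := by exact_mod_cast sepDeg_pos' ρ t'
  linarith

end Shrink

section Main

variable {X Y : Scheme.{u}} (f : X ⟶ Y)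

lemma IA_eq_points {V : Scheme.{u}} (g : V ⟶ Y) (w : X → ℤ) (A : (pullback f g).Opens) (v : V) :
    IA f g w A v = ∑ᶠ t ∈ {t : ↥(pullback f g) | pullback.snd f g t = v ∧ t ∈ A},
      w (pullback.fst f g t) * (sepDeg (pullback.snd f g) t : ℤ) :=
  fibreIntegral_open (pullback.snd f g) A (fun t => w (pullback.fst f g t)) v

lemma IA_single {V : Scheme.{u}} (g : V ⟶ Y) (w : X → ℤ) (O : (pullback f g).Opens) (v : V)
    (pt : ↥(pullback f g)) (hpt : pt ∈ O) (hv : pullback.snd f g pt = v)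
    (huniq : ∀ t ∈ O, pullback.snd f g t = v → t = pt)
    (hpi : ((pullback.snd f g).residueFieldMap pt).hom.IsPurelyInseparable) :
    IA f g w O v = w (pullback.fst f g pt) :=
  fibreIntegral_single_open (pullback.snd f g) O (fun t => w (pullback.fst f g t)) v pt hpt hv
    huniq hpi

lemma IA_eq_sum {V : Scheme.{u}} (g : V ⟶ Y) (w : X → ℤ) (A : (pullback f g).Opens)
    {K : Type*} [Finite K] (B : K → (pullback f g).Opens)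
    (hB : ∀ k, IsFinite ((B k).ι ≫ pullback.snd f g)) (v : V)
    (h : ∀ t, pullback.snd f g t = v →
      ((t ∈ A ↔ ∃ k, t ∈ B k) ∧ ∀ k k', t ∈ B k → t ∈ B k' → k = k')) :
    IA f g w A v = ∑ᶠ k, IA f g w (B k) v :=
  fibreIntegral_open_eq_sum (pullback.snd f g) (fun t => w (pullback.fst f g t)) A B hB v h

theorem exists_open_IA_const_core (w : X → ℤ) {V₂ : Scheme.{u}} (g₂ : V₂ ⟶ Y) (v₂ : V₂)
    (A₂ : (pullback f g₂).Opens) (hA₂ : IsFinite (A₂.ι ≫ pullback.snd f g₂))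
    {K : Type*} [Finite K] (B : K → (pullback f g₂).Opens)
    (hBfin : ∀ k, IsFinite ((B k).ι ≫ pullback.snd f g₂))
    (hIB : ∀ k, IsLocallyConstant (IA f g₂ w (B k)))
    (huniqB : ∀ k t t', pullback.snd f g₂ t = v₂ → t ∈ B k → pullback.snd f g₂ t' = v₂ →
      t' ∈ B k → t = t')
    (hcov : ∀ t, pullback.snd f g₂ t = v₂ → t ∈ A₂ → ∃ k, t ∈ B k)
    (hdisj : ∀ k k' t, pullback.snd f g₂ t = v₂ → t ∈ B k → t ∈ B k' → k = k') :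
    ∃ U : Set V₂, IsOpen U ∧ v₂ ∈ U ∧ ∀ v' ∈ U, IA f g₂ w A₂ v' = IA f g₂ w A₂ v₂ := by
  have h1 : ∀ t, pullback.snd f g₂ t = v₂ → t ∈ A₂ →
      ∃ k : {k : K // ∃ t, pullback.snd f g₂ t = v₂ ∧ t ∈ B k ∧ t ∈ A₂}, t ∈ B k.1 := by
    intro t ht htA
    obtain ⟨k, hk⟩ := hcov t ht htA
    exact ⟨⟨k, t, ht, hk, htA⟩, hk⟩
  have h2 : ∀ (k : {k : K // ∃ t, pullback.snd f g₂ t = v₂ ∧ t ∈ B k ∧ t ∈ A₂}) t,
      pullback.snd f g₂ t = v₂ → t ∈ B k.1 → t ∈ A₂ := by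
    rintro ⟨k, t₀, ht₀, ht₀B, ht₀A⟩ t ht htB
    rw [huniqB k t t₀ ht htB ht₀ ht₀B]
    exact ht₀A
  have h3 : ∀ (k k' : {k : K // ∃ t, pullback.snd f g₂ t = v₂ ∧ t ∈ B k ∧ t ∈ A₂}) t,
      pullback.snd f g₂ t = v₂ → t ∈ B k.1 → t ∈ B k'.1 → k = k' :=
    fun k k' t ht hk hk' => Subtype.ext (hdisj k.1 k'.1 t ht hk hk')
  obtain ⟨N, hvN, hN⟩ := exists_nbhd_split (pullback.snd f g₂) v₂ A₂
    (fun k : {k : K // ∃ t, pullback.snd f g₂ t = v₂ ∧ t ∈ B k ∧ t ∈ A₂} => B k.1)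
    hA₂ (fun k => hBfin k.1) h1 h2 h3
  have hsum : ∀ v' ∈ N, IA f g₂ w A₂ v' =
      ∑ᶠ k : {k : K // ∃ t, pullback.snd f g₂ t = v₂ ∧ t ∈ B k ∧ t ∈ A₂}, IA f g₂ w (B k.1) v' :=
    by
    intro v' hv'
    refine IA_eq_sum f g₂ w A₂
      (fun k : {k : K // ∃ t, pullback.snd f g₂ t = v₂ ∧ t ∈ B k ∧ t ∈ A₂} => B k.1)
      (fun k => hBfin k.1) v' ?_
    intro t ht
    have ht' : pullback.snd f g₂ t ∈ N := by rw [ht]; exact hv'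
    exact hN t ht'
  have hconst : ∀ k : {k : K // ∃ t, pullback.snd f g₂ t = v₂ ∧ t ∈ B k ∧ t ∈ A₂},
      ∃ Nk : Set V₂, IsOpen Nk ∧ v₂ ∈ Nk ∧ ∀ v' ∈ Nk,
        IA f g₂ w (B k.1) v' = IA f g₂ w (B k.1) v₂ :=
    fun k => (IsLocallyConstant.iff_exists_open _).mp (hIB k.1) v₂
  choose Nk hNko hNkv hNkc using hconst
  refine ⟨(N : Set V₂) ∩ ⋂ k, Nk k, N.2.inter (isOpen_iInter_of_finite hNko),
    ⟨hvN, Set.mem_iInter.mpr hNkv⟩, ?_⟩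
  rintro v' ⟨hv'N, hv'k⟩
  rw [hsum v' hv'N, hsum v₂ hvN]
  exact finsum_congr fun k => hNkc k v' (Set.mem_iInter.mp hv'k k)

theorem exists_open_IA_const [LocallyQuasiFinite f] [LocallyOfFiniteType f] (w : X → ℤ)
    (hw : MoreMor.IsWeighting f w) {V : Scheme.{u}} (g : V ⟶ Y) (A : (pullback f g).Opens)
    (hA : IsFinite (A.ι ≫ pullback.snd f g)) (v : V) {ι : Type*} [Finite ι] (x : ι → X)
    (hinj : Function.Injective x) (hs : ∀ i, f (x i) = g v)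
    (hcover : ∀ t, pullback.snd f g t = v → t ∈ A → ∃ i, pullback.fst f g t = x i) :
    ∃ U : Set V, IsOpen U ∧ v ∈ U ∧ ∀ v' ∈ U, IA f g w A v' = IA f g w A v := by
  obtain ⟨E, e, e₀, he, hee₀, n, VV, vv, hV, hvinj, hexh⟩ :=
    EtLocPI2.exists_etale_nbhd_split_pi f (g v) x hs (fun i => f.quasiFiniteAt (x i))
  haveI := he
  obtain ⟨v₂, hv₂1, hv₂2⟩ :=
    Scheme.Pullback.exists_preimage_pullback (f := g) (g := e) v e₀ hee₀.symm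
  have hk₂ : pullback.snd g e ≫ e = pullback.fst g e ≫ g := pullback.condition.symm
  have hIA₂ : ∀ v', IA f (pullback.fst g e ≫ g) w
      (bcMap f g (pullback.fst g e ≫ g) (pullback.fst g e) rfl ⁻¹ᵁ A) v' =
      IA f g w A (pullback.fst g e v') := fun v' => bc_IA f g _ _ rfl w A hA v'
  have hBfin : ∀ k : Σ i, Fin (n i),
      IsFinite ((bcMap f e (pullback.fst g e ≫ g) (pullback.snd g e) hk₂ ⁻¹ᵁ VV k.1 k.2).ι ≫
        pullback.snd f (pullback.fst g e ≫ g)) :=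
    fun k => bc_isFinite f e _ _ hk₂ _ (hV k.1 k.2).2.1
  have hIB : ∀ k : Σ i, Fin (n i), IsLocallyConstant (IA f (pullback.fst g e ≫ g) w
      (bcMap f e (pullback.fst g e ≫ g) (pullback.snd g e) hk₂ ⁻¹ᵁ VV k.1 k.2)) := by
    intro k
    have h1 : IsLocallyConstant (IA f e w (VV k.1 k.2)) := hw E e (VV k.1 k.2) (hV k.1 k.2).2.1
    have h2 : IA f (pullback.fst g e ≫ g) w
        (bcMap f e (pullback.fst g e ≫ g) (pullback.snd g e) hk₂ ⁻¹ᵁ VV k.1 k.2) =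
        IA f e w (VV k.1 k.2) ∘ ⇑(pullback.snd g e) :=
      funext fun v' => bc_IA f e _ _ hk₂ w _ (hV k.1 k.2).2.1 v'
    rw [h2]
    exact h1.comp_continuous (pullback.snd g e).continuous
  have huniqB : ∀ (k : Σ i, Fin (n i)) (t t' : ↥(pullback f (pullback.fst g e ≫ g))),
      pullback.snd f (pullback.fst g e ≫ g) t = v₂ →
      t ∈ bcMap f e (pullback.fst g e ≫ g) (pullback.snd g e) hk₂ ⁻¹ᵁ VV k.1 k.2 →
      pullback.snd f (pullback.fst g e ≫ g) t' = v₂ →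
      t' ∈ bcMap f e (pullback.fst g e ≫ g) (pullback.snd g e) hk₂ ⁻¹ᵁ VV k.1 k.2 → t = t' := by
    intro k t t' ht htB ht' htB'
    have hone : IA f (pullback.fst g e ≫ g) (fun _ => 1)
        (bcMap f e (pullback.fst g e ≫ g) (pullback.snd g e) hk₂ ⁻¹ᵁ VV k.1 k.2) v₂ = 1 := by
      rw [bc_IA f e _ _ hk₂ (fun _ => 1) _ (hV k.1 k.2).2.1 v₂, hv₂2]
      exact IA_single f e (fun _ => 1) (VV k.1 k.2) e₀ (vv k.1 k.2) (hV k.1 k.2).1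
        (hV k.1 k.2).2.2.1 (hV k.1 k.2).2.2.2.1 (hV k.1 k.2).2.2.2.2.2.1
    rw [IA_eq_points] at hone
    exact eq_of_sum_sepDeg_eq_one (pullback.snd f (pullback.fst g e ≫ g)) _ (hBfin k) v₂ hone
      t t' ht htB ht' htB'
  have hinjK : ∀ k k' : Σ i, Fin (n i), vv k.1 k.2 = vv k'.1 k'.2 → k = k' := by
    rintro ⟨i, j⟩ ⟨i', j'⟩ hkk
    have hkk' : vv i j = vv i' j' := hkk
    have hii : i = i' := hinj (by
      rw [← (hV i j).2.2.2.2.2.2, ← (hV i' j').2.2.2.2.2.2, hkk'])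
    subst hii
    rw [hvinj i hkk']
  have hcov : ∀ t : ↥(pullback f (pullback.fst g e ≫ g)),
      pullback.snd f (pullback.fst g e ≫ g) t = v₂ →
      t ∈ bcMap f g (pullback.fst g e ≫ g) (pullback.fst g e) rfl ⁻¹ᵁ A →
      ∃ k : Σ i, Fin (n i),
      t ∈ bcMap f e (pullback.fst g e ≫ g) (pullback.snd g e) hk₂ ⁻¹ᵁ VV k.1 k.2 := by
    intro t ht htA
    have hbc₁v : pullback.snd f g
        (bcMap f g (pullback.fst g e ≫ g) (pullback.fst g e) rfl t) = v := by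
      rw [bcMap_snd_apply, ht, hv₂1]
    obtain ⟨i, hi⟩ := hcover _ hbc₁v htA
    rw [bcMap_fst_apply] at hi
    have hbc₂e : pullback.snd f e
        (bcMap f e (pullback.fst g e ≫ g) (pullback.snd g e) hk₂ t) = e₀ := by
      rw [bcMap_snd_apply, ht, hv₂2]
    have hbc₂x : pullback.fst f e
        (bcMap f e (pullback.fst g e ≫ g) (pullback.snd g e) hk₂ t) = x i := by
      rw [bcMap_fst_apply, hi]
    obtain ⟨j, hj⟩ := hexh _ i hbc₂e hbc₂x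
    refine ⟨⟨i, j⟩, ?_⟩
    show bcMap f e (pullback.fst g e ≫ g) (pullback.snd g e) hk₂ t ∈ VV i j
    rw [hj]
    exact (hV i j).1
  have hdisj : ∀ (k k' : Σ i, Fin (n i)) (t : ↥(pullback f (pullback.fst g e ≫ g))),
      pullback.snd f (pullback.fst g e ≫ g) t = v₂ →
      t ∈ bcMap f e (pullback.fst g e ≫ g) (pullback.snd g e) hk₂ ⁻¹ᵁ VV k.1 k.2 →
      t ∈ bcMap f e (pullback.fst g e ≫ g) (pullback.snd g e) hk₂ ⁻¹ᵁ VV k'.1 k'.2 →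
      k = k' := by
    intro k k' t ht hk hk'
    have hbc₂e : pullback.snd f e
        (bcMap f e (pullback.fst g e ≫ g) (pullback.snd g e) hk₂ t) = e₀ := by
      rw [bcMap_snd_apply, ht, hv₂2]
    have e1 := (hV k.1 k.2).2.2.2.1 _ hk hbc₂e
    have e2 := (hV k'.1 k'.2).2.2.2.1 _ hk' hbc₂e
    exact hinjK _ _ (e1.symm.trans e2)
  obtain ⟨U, hUo, hvU, hUc⟩ := exists_open_IA_const_core f w (pullback.fst g e ≫ g) v₂
    (bcMap f g (pullback.fst g e ≫ g) (pullback.fst g e) rfl ⁻¹ᵁ A)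
    (bc_isFinite f g _ _ rfl A hA)
    (fun k : Σ i, Fin (n i) =>
      bcMap f e (pullback.fst g e ≫ g) (pullback.snd g e) hk₂ ⁻¹ᵁ VV k.1 k.2)
    hBfin hIB huniqB hcov hdisj
  haveI : Etale (pullback.fst g e) := MorphismProperty.pullback_fst (P := @Etale) g e he
  haveI : UniversallyOpen (pullback.fst g e) := UniversallyOpen.of_flat _
  refine ⟨pullback.fst g e '' U, (pullback.fst g e).isOpenMap _ hUo, ⟨v₂, hvU, hv₂1⟩, ?_⟩
  rintro _ ⟨v', hv', rfl⟩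
  rw [← hIA₂, hUc v' hv', hIA₂, hv₂1]

theorem isLocallyConstant_IA [LocallyQuasiFinite f] [LocallyOfFiniteType f] (w : X → ℤ)
    (hw : MoreMor.IsWeighting f w) {V : Scheme.{u}} (g : V ⟶ Y) (A : (pullback f g).Opens)
    (hA : IsFinite (A.ι ≫ pullback.snd f g)) : IsLocallyConstant (IA f g w A) := by
  rw [IsLocallyConstant.iff_exists_open]
  intro v
  have hF := finite_fibre_open (pullback.snd f g) A hA v
  haveI : Finite ↥(pullback.fst f g '' {t | pullback.snd f g t = v ∧ t ∈ A}) :=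
    (hF.image _).to_subtype
  refine exists_open_IA_const f w hw g A hA v
    (fun i : ↥(pullback.fst f g '' {t | pullback.snd f g t = v ∧ t ∈ A}) => i.1)
    Subtype.val_injective ?_ ?_
  · rintro ⟨_, t, ⟨ht1, _⟩, rfl⟩
    show f (pullback.fst f g t) = g v
    rw [← ht1, ← Scheme.Hom.comp_apply, pullback.condition, Scheme.Hom.comp_apply]
  · intro t ht htA
    exact ⟨⟨_, t, ⟨ht, htA⟩, rfl⟩, rfl⟩

theorem isWeighting_baseChange [LocallyQuasiFinite f] [LocallyOfFiniteType f] (w : X → ℤ)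
    (hw : MoreMor.IsWeighting f w) {X' Y' : Scheme.{u}} (f' : X' ⟶ Y') (h : X' ⟶ X) (g : Y' ⟶ Y)
    (hc : IsPullback h f' f g) : MoreMor.IsWeighting f' (w ∘ ⇑h) := by
  intro V' g' _ O' hO'
  have big : IsPullback (pullback.fst f' g' ≫ h) (pullback.snd f' g') f (g' ≫ g) :=
    (IsPullback.of_hasPullback f' g').paste_horiz hc
  have hΦ1 : big.isoPullback.hom ≫ pullback.fst f (g' ≫ g) = pullback.fst f' g' ≫ h :=
    big.isoPullback_hom_fst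
  have hΦ2 : big.isoPullback.hom ≫ pullback.snd f (g' ≫ g) = pullback.snd f' g' :=
    big.isoPullback_hom_snd
  have e : O'.ι ≫ pullback.snd f' g' = (big.isoPullback.hom.isoImage O').hom ≫
      (big.isoPullback.hom ''ᵁ O').ι ≫ pullback.snd f (g' ≫ g) := by
    rw [Scheme.Hom.isoImage_hom_ι_assoc, hΦ2]
  have hA : IsFinite ((big.isoPullback.hom ''ᵁ O').ι ≫ pullback.snd f (g' ≫ g)) := by
    rw [e] at hO'
    exact (MorphismProperty.cancel_left_of_respectsIso @IsFinite _ _).mp hO'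
  have hW := isLocallyConstant_IA f w hw (g' ≫ g) (big.isoPullback.hom ''ᵁ O') hA
  have hpt : ∀ t : ↥O', (big.isoPullback.hom ''ᵁ O').ι ((big.isoPullback.hom.isoImage O').hom t) =
      big.isoPullback.hom (O'.ι t) := fun t => by
    rw [← Scheme.Hom.comp_apply, Scheme.Hom.isoImage_hom_ι, Scheme.Hom.comp_apply]
  have key : (MoreMor.fibreIntegral (O'.ι ≫ pullback.snd f' g')
      fun u => (w ∘ ⇑h) (pullback.fst f' g' (O'.ι u))) =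
      IA f (g' ≫ g) w (big.isoPullback.hom ''ᵁ O') := by
    funext v
    rw [IA, ← fibreIntegral_comp_iso (big.isoPullback.hom.isoImage O').hom, e]
    congr 1
    funext t
    rw [hpt]
    have h5 : (big.isoPullback.hom ≫ pullback.fst f (g' ≫ g)) (O'.ι t) =
        (pullback.fst f' g' ≫ h) (O'.ι t) := by rw [hΦ1]
    exact (congrArg w h5).symm
  rw [key]
  exact hW

theorem universallyOpen_of_weighting [LocallyQuasiFinite f] [LocallyOfFiniteType f] (w : X → ℤ)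
    (hw : MoreMor.IsWeighting f w) (hpos : ∀ x, 0 < w x) : UniversallyOpen f := by
  refine ⟨fun X' Y' i₁ i₂ f' hsq => ?_⟩
  haveI : LocallyQuasiFinite f' :=
    MorphismProperty.of_isPullback (P := @LocallyQuasiFinite) hsq.flip inferInstance
  haveI : LocallyOfFiniteType f' :=
    MorphismProperty.of_isPullback (P := @LocallyOfFiniteType) hsq.flip inferInstance
  exact isOpenMap_of_weighting f' (w ∘ ⇑i₁) (isWeighting_baseChange f w hw f' i₁ i₂ hsq.flip)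
    (fun x => hpos _)

end Main

end Groth.Agent.Lib.Helper8.FibIntW
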