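import Mathlib
import Groth.Prelude.Def_MoreMor
import Groth.Agent.Lib.Helper8.FibIntW

set_option autoImplicit false
universe u
open AlgebraicGeometry CategoryTheory Limits

namespace Groth.Agent.Lib.Helper8.FibIntS

open Groth.Agent.Lib.Helper8.FibInt Groth.Agent.Lib.Helper8.FibIntGP
  Groth.Agent.Lib.Helper8.FibIntW Groth.Agent.Lib.Helper8.EtLocUnr Groth.Agent.Lib.Helper8.EtLocPI

section Sums

variable {T V : Scheme.{u}} (ρ : T ⟶ V)

lemma fibreIntegral_eq_mem (w' : T → ℤ) (v : V) :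
    MoreMor.fibreIntegral ρ w' v = ∑ᶠ t ∈ {t : T | ρ t = v}, w' t * (sepDeg ρ t : ℤ) := by
  rw [fibreIntegral_eq']
  exact finsum_set_coe_eq_finsum_mem (f := fun t => w' t * (sepDeg ρ t : ℤ)) {t : T | ρ t = v}

lemma sum_eq_iUnion (w' : T → ℤ) {K : Type*} [Finite K] (B : K → T.Opens)
    (hB : ∀ k, IsFinite ((B k).ι ≫ ρ)) (hdisj : ∀ k k' t, t ∈ B k → t ∈ B k' → k = k') (v : V) :
    ∑ᶠ k, MoreMor.fibreIntegral ((B k).ι ≫ ρ) (fun u => w' ((B k).ι u)) v =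
      ∑ᶠ t ∈ ⋃ k, {t : T | ρ t = v ∧ t ∈ B k}, w' t * (sepDeg ρ t : ℤ) := by
  simp_rw [fibreIntegral_open]
  have hpd : Pairwise (Function.onFun Disjoint fun k => {t : T | ρ t = v ∧ t ∈ B k}) := by
    intro k k' hkk'
    rw [Function.onFun, Set.disjoint_left]
    rintro t ⟨_, hk⟩ ⟨_, hk'⟩
    exact hkk' (hdisj k k' t hk hk')
  rw [← finsum_mem_iUnion hpd (fun k => finite_fibre_open ρ (B k) (hB k) v)]

lemma sum_eq_fibreIntegral_of_cover (w' : T → ℤ) {K : Type*} [Finite K] (B : K → T.Opens)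
    (hB : ∀ k, IsFinite ((B k).ι ≫ ρ)) (hdisj : ∀ k k' t, t ∈ B k → t ∈ B k' → k = k') (v : V)
    (hcov : ∀ t, ρ t = v → ∃ k, t ∈ B k) :
    ∑ᶠ k, MoreMor.fibreIntegral ((B k).ι ≫ ρ) (fun u => w' ((B k).ι u)) v =
      MoreMor.fibreIntegral ρ w' v := by
  have hset : (⋃ k, {t : T | ρ t = v ∧ t ∈ B k}) = {t : T | ρ t = v} := by
    ext t
    constructor
    · intro ht
      obtain ⟨k, hk⟩ := Set.mem_iUnion.mp ht
      exact hk.1
    · intro ht
      obtain ⟨k, hk⟩ := hcov t ht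
      exact Set.mem_iUnion.mpr ⟨k, ht, hk⟩
  rw [sum_eq_iUnion ρ w' B hB hdisj v, fibreIntegral_eq_mem, hset]

lemma sum_le_fibreIntegral [LocallyQuasiFinite ρ] [LocallyOfFiniteType ρ] (w' : T → ℤ)
    (hpos : ∀ t, 0 < w' t) {K : Type*} [Finite K] (B : K → T.Opens)
    (hB : ∀ k, IsFinite ((B k).ι ≫ ρ)) (hdisj : ∀ k k' t, t ∈ B k → t ∈ B k' → k = k') (v : V)
    (hfin : {t : T | ρ t = v}.Finite) :
    ∑ᶠ k, MoreMor.fibreIntegral ((B k).ι ≫ ρ) (fun u => w' ((B k).ι u)) v ≤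
        MoreMor.fibreIntegral ρ w' v ∧
      (∑ᶠ k, MoreMor.fibreIntegral ((B k).ι ≫ ρ) (fun u => w' ((B k).ι u)) v =
        MoreMor.fibreIntegral ρ w' v → ∀ t, ρ t = v → ∃ k, t ∈ B k) := by
  classical
  rw [sum_eq_iUnion ρ w' B hB hdisj v, fibreIntegral_eq_mem]
  have hsub : (⋃ k, {t : T | ρ t = v ∧ t ∈ B k}) ⊆ {t : T | ρ t = v} := by
    intro t ht
    obtain ⟨k, hk⟩ := Set.mem_iUnion.mp ht
    exact hk.1
  have hfinU : (⋃ k, {t : T | ρ t = v ∧ t ∈ B k}).Finite := hfin.subset hsub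
  rw [finsum_mem_eq_finite_toFinset_sum _ hfinU, finsum_mem_eq_finite_toFinset_sum _ hfin]
  have hsubF : hfinU.toFinset ⊆ hfin.toFinset := Set.Finite.toFinset_subset_toFinset.mpr hsub
  have hterm : ∀ t, 0 < w' t * (sepDeg ρ t : ℤ) := fun t =>
    mul_pos (hpos t) (by exact_mod_cast sepDeg_pos' ρ t)
  refine ⟨Finset.sum_le_sum_of_subset_of_nonneg hsubF (fun t _ _ => (hterm t).le), ?_⟩
  intro heq t ht
  by_contra hne
  have hlt := Finset.sum_lt_sum_of_subset (f := fun t => w' t * (sepDeg ρ t : ℤ)) hsubF (i := t)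
    ((Set.Finite.mem_toFinset hfin).mpr ht)
    (fun hmem => by
      rw [Set.Finite.mem_toFinset] at hmem
      obtain ⟨k, hk⟩ := Set.mem_iUnion.mp hmem
      exact hne ⟨k, hk.2⟩)
    (hterm t) (fun j _ _ => (hterm j).le)
  exact absurd heq hlt.ne

end Sums

section Main

variable {X Y : Scheme.{u}} (f : X ⟶ Y) [LocallyQuasiFinite f] [LocallyOfFiniteType f]
  [IsSeparated f]

/-- The common étale localization used for lower semicontinuity and finiteness over the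
maximal locus. -/
theorem exists_etale_nbhd_sum (hfin : ∀ y : Y, (f ⁻¹' {y}).Finite) (w : X → ℤ)
    (hw : MoreMor.IsWeighting f w) (y : Y) :
    ∃ (E : Scheme.{u}) (e : E ⟶ Y) (e₀ : E) (N : E.Opens), Etale e ∧ e e₀ = y ∧ e₀ ∈ N ∧
      ∃ (K : Type u) (_ : Finite K) (B : K → (pullback f e).Opens),
        (∀ k, IsFinite ((B k).ι ≫ pullback.snd f e)) ∧
        (∀ k k' t, t ∈ B k → t ∈ B k' → k = k') ∧
        ∀ e' ∈ N, ∑ᶠ k, IA f e w (B k) e' = MoreMor.fibreIntegral f w y := by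
  haveI : Finite ↥(f ⁻¹' {y}) := (hfin y).to_subtype
  obtain ⟨E, e, e₀, he, hee₀, n, VV, vv, -, hdisj, hV, hexh⟩ :=
    EtLocPI2.exists_etale_nbhd_split_pi_clopen f y (fun i : ↥(f ⁻¹' {y}) => i.1)
      Subtype.val_injective (fun i => i.2) (fun i => f.quasiFiniteAt i.1)
  haveI := he
  have hBfin : ∀ k : Σ i, Fin (n i), IsFinite ((VV k.1 k.2).ι ≫ pullback.snd f e) :=
    fun k => (hV k.1 k.2).2.1
  have hdisj' : ∀ (k k' : Σ i, Fin (n i)) (t : ↥(pullback f e)),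
      t ∈ VV k.1 k.2 → t ∈ VV k'.1 k'.2 → k = k' := fun k k' t hk hk' => hdisj k k' ⟨t, hk, hk'⟩
  have hIB : ∀ k : Σ i, Fin (n i), IsLocallyConstant (IA f e w (VV k.1 k.2)) :=
    fun k => hw E e (VV k.1 k.2) (hBfin k)
  have hconst : ∀ k : Σ i, Fin (n i), ∃ Nk : Set E, IsOpen Nk ∧ e₀ ∈ Nk ∧ ∀ e' ∈ Nk,
      IA f e w (VV k.1 k.2) e' = IA f e w (VV k.1 k.2) e₀ :=
    fun k => (IsLocallyConstant.iff_exists_open _).mp (hIB k) e₀
  choose Nk hNko hNkv hNkc using hconst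
  have hbc := fibreIntegral_baseChange f (pullback.snd f e) (pullback.fst f e) e
    (IsPullback.of_hasPullback f e) w e₀ (hfin _)
  have hcov : ∀ t : ↥(pullback f e), pullback.snd f e t = e₀ →
      ∃ k : Σ i, Fin (n i), t ∈ VV k.1 k.2 := by
    intro t ht
    have hft : f (pullback.fst f e t) = y := by
      rw [← Scheme.Hom.comp_apply, pullback.condition, Scheme.Hom.comp_apply, ht, hee₀]
    obtain ⟨j, hj⟩ := hexh t ⟨pullback.fst f e t, hft⟩ ht rfl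
    exact ⟨⟨_, j⟩, hj⟩
  have hy : MoreMor.fibreIntegral f w y = MoreMor.fibreIntegral f w (e e₀) := by rw [hee₀]
  have hval : ∑ᶠ k : Σ i, Fin (n i), IA f e w (VV k.1 k.2) e₀ = MoreMor.fibreIntegral f w y := by
    rw [hy, ← hbc.1]
    exact sum_eq_fibreIntegral_of_cover (pullback.snd f e) (fun t => w (pullback.fst f e t))
      (fun k : Σ i, Fin (n i) => VV k.1 k.2) hBfin hdisj' e₀ hcov
  refine ⟨E, e, e₀, ⟨⋂ k, Nk k, isOpen_iInter_of_finite hNko⟩, he, hee₀,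
    Set.mem_iInter.mpr hNkv, (Σ i : ↥(f ⁻¹' {y}), Fin (n i)), inferInstance,
    fun k => VV k.1 k.2, hBfin, hdisj', ?_⟩
  intro e' he'
  rw [← hval]
  exact finsum_congr fun k => hNkc k e' (Set.mem_iInter.mp he' k)

theorem sum_le_of_mem (hfin : ∀ y : Y, (f ⁻¹' {y}).Finite) (w : X → ℤ) (hpos : ∀ x, 0 < w x)
    {E : Scheme.{u}} (e : E ⟶ Y) {K : Type u} [Finite K] (B : K → (pullback f e).Opens)
    (hBfin : ∀ k, IsFinite ((B k).ι ≫ pullback.snd f e))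
    (hdisj : ∀ k k' t, t ∈ B k → t ∈ B k' → k = k') (e' : E) :
    ∑ᶠ k, IA f e w (B k) e' ≤ MoreMor.fibreIntegral f w (e e') ∧
      (∑ᶠ k, IA f e w (B k) e' = MoreMor.fibreIntegral f w (e e') →
        ∀ t, pullback.snd f e t = e' → ∃ k, t ∈ B k) := by
  have hbc := fibreIntegral_baseChange f (pullback.snd f e) (pullback.fst f e) e
    (IsPullback.of_hasPullback f e) w e' (hfin _)
  rw [← hbc.1]
  exact sum_le_fibreIntegral (pullback.snd f e) (fun t => w (pullback.fst f e t))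
    (fun t => hpos _) B hBfin hdisj e' hbc.2

theorem lowerSemicontinuous_fibreIntegral (hfin : ∀ y : Y, (f ⁻¹' {y}).Finite) (w : X → ℤ)
    (hw : MoreMor.IsWeighting f w) (hpos : ∀ x, 0 < w x) :
    LowerSemicontinuous (MoreMor.fibreIntegral f w) := by
  intro y c hc
  obtain ⟨E, e, e₀, N, he, hee₀, he₀N, K, hK, B, hBfin, hdisj, hsum⟩ :=
    exists_etale_nbhd_sum f hfin w hw y
  haveI := he
  haveI := hK
  haveI : UniversallyOpen e := UniversallyOpen.of_flat _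
  have hopen : IsOpen (e '' (N : Set E)) := e.isOpenMap _ N.2
  refine Filter.eventually_of_mem (hopen.mem_nhds ⟨e₀, he₀N, hee₀⟩) ?_
  rintro _ ⟨e', he', rfl⟩
  have hle := (sum_le_of_mem f hfin w hpos e B hBfin hdisj e').1
  rw [hsum e' he'] at hle
  exact lt_of_lt_of_le hc hle

end Main

end Groth.Agent.Lib.Helper8.FibIntS
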