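import Mathlib
import Groth.Prelude.Def_MoreMor
import Groth.Agent.Lib.Helper8.FibIntS

set_option autoImplicit false
universe u
open AlgebraicGeometry CategoryTheory Limits

namespace Groth.Agent.Lib.Helper8.FibIntS2

open Groth.Agent.Lib.Helper8.FibInt Groth.Agent.Lib.Helper8.FibIntGP
  Groth.Agent.Lib.Helper8.FibIntW Groth.Agent.Lib.Helper8.FibIntS
  Groth.Agent.Lib.Helper8.EtLocUnr Groth.Agent.Lib.Helper8.EtLocPI

lemma of_local_le (P : MorphismProperty Scheme.{u}) [IsZariskiLocalAtTarget P]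
    {X Y : Scheme.{u}} (f : X ⟶ Y) (W : Y.Opens)
    (H : ∀ y ∈ W, ∃ O : Y.Opens, y ∈ O ∧ O ≤ W ∧ P (f ∣_ O)) : P (f ∣_ W) := by
  refine IsZariskiLocalAtTarget.of_forall_exists_morphismRestrict (fun y => ?_)
  obtain ⟨O, hyO, hOW, hP⟩ := H y.1 y.2
  refine ⟨W.ι ⁻¹ᵁ O, hyO, ?_⟩
  have e1 := morphismRestrictRestrict f W (W.ι ⁻¹ᵁ O)
  have e2 : W.ι ''ᵁ (W.ι ⁻¹ᵁ O) = O := by
    rw [Scheme.Hom.image_preimage_eq_opensRange_inf, Scheme.Opens.opensRange_ι]
    exact inf_eq_right.mpr hOW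
  have e3 := morphismRestrictEq f e2
  exact (P.arrow_mk_iso_iff (e1 ≪≫ e3)).mpr hP

/-- If `X ×_Y N ⟶ N` is finite for an open `N` of an étale `E ⟶ Y`, then `f` is universally
closed over the (open) image of `N`. -/
theorem universallyClosed_restrict_of_etale {X Y E : Scheme.{u}} (f : X ⟶ Y) (e : E ⟶ Y) [Etale e]
    (N : E.Opens) (O : Y.Opens) (hO : (O : Set Y) = e '' (N : Set E))
    (hfin : IsFinite (pullback.snd f (N.ι ≫ e))) : UniversallyClosed (f ∣_ O) := by
  have hrange : Set.range (N.ι ≫ e) ⊆ Set.range O.ι := by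
    rintro _ ⟨z, rfl⟩
    rw [Scheme.Opens.range_ι, hO]
    exact ⟨z.1, z.2, rfl⟩
  have hc : IsOpenImmersion.lift O.ι (N.ι ≫ e) hrange ≫ O.ι = N.ι ≫ e :=
    IsOpenImmersion.lift_fac _ _ _
  have hrange' : Set.range (pullback.fst f (N.ι ≫ e)) ⊆ Set.range (f ⁻¹ᵁ O).ι := by
    rintro _ ⟨t, rfl⟩
    rw [Scheme.Opens.range_ι]
    show f (pullback.fst f (N.ι ≫ e) t) ∈ (O : Set Y)
    rw [← Scheme.Hom.comp_apply, pullback.condition, Scheme.Hom.comp_apply]
    exact Scheme.Opens.range_ι O ▸ hrange ⟨_, rfl⟩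
  have hb : IsOpenImmersion.lift (f ⁻¹ᵁ O).ι (pullback.fst f (N.ι ≫ e)) hrange' ≫ (f ⁻¹ᵁ O).ι =
      pullback.fst f (N.ι ≫ e) := IsOpenImmersion.lift_fac _ _ _
  have hcomm : pullback.snd f (N.ι ≫ e) ≫ IsOpenImmersion.lift O.ι (N.ι ≫ e) hrange =
      IsOpenImmersion.lift (f ⁻¹ᵁ O).ι (pullback.fst f (N.ι ≫ e)) hrange' ≫ (f ∣_ O) := by
    rw [← cancel_mono O.ι, Category.assoc, Category.assoc, hc, morphismRestrict_ι,
      ← Category.assoc _ _ f, hb, pullback.condition]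
  have hsq : IsPullback (pullback.snd f (N.ι ≫ e))
      (IsOpenImmersion.lift (f ⁻¹ᵁ O).ι (pullback.fst f (N.ι ≫ e)) hrange')
      (IsOpenImmersion.lift O.ι (N.ι ≫ e) hrange) (f ∣_ O) := by
    refine IsPullback.of_bot ?_ hcomm (isPullback_morphismRestrict f O)
    rw [hb, hc]
    exact (IsPullback.of_hasPullback f (N.ι ≫ e)).flip
  have hflat : Flat (IsOpenImmersion.lift O.ι (N.ι ≫ e) hrange) :=
    MorphismProperty.of_postcomp (W := @Flat) _ O.ι (inferInstance : IsOpenImmersion O.ι)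
      (by rw [hc]; infer_instance)
  have hlfp : LocallyOfFinitePresentation (IsOpenImmersion.lift O.ι (N.ι ≫ e) hrange) :=
    MorphismProperty.of_postcomp (W := @LocallyOfFinitePresentation) _ O.ι
      (inferInstance : IsOpenImmersion O.ι) (by rw [hc]; infer_instance)
  have hsurj : Surjective (IsOpenImmersion.lift O.ι (N.ι ≫ e) hrange) := by
    refine ⟨fun o => ?_⟩
    have ho : o.1 ∈ e '' (N : Set E) := hO ▸ o.2
    obtain ⟨z, hz, hzo⟩ := ho
    refine ⟨⟨z, hz⟩, ?_⟩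
    apply O.ι.isOpenEmbedding.injective
    rw [← Scheme.Hom.comp_apply, hc]
    exact hzo
  haveI := hfin
  exact MorphismProperty.of_isPullback_of_descendsAlong (P := @UniversallyClosed)
    (Q := @Surjective ⊓ @Flat ⊓ @LocallyOfFinitePresentation) hsq ⟨⟨hsurj, hflat⟩, hlfp⟩
    inferInstance

section Main

variable {X Y : Scheme.{u}} (f : X ⟶ Y) [LocallyQuasiFinite f] [LocallyOfFiniteType f]
  [IsSeparated f]

theorem isFinite_snd_of_cover {E : Scheme.{u}} (e : E ⟶ Y) (N : E.Opens) {K : Type u} [Finite K]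
    (B : K → (pullback f e).Opens) (hBfin : ∀ k, IsFinite ((B k).ι ≫ pullback.snd f e))
    (hcov : ∀ t, pullback.snd f e t ∈ N → ∃ k, t ∈ B k) :
    IsFinite (pullback.snd f (N.ι ≫ e)) := by
  classical
  haveI := Fintype.ofFinite K
  have h1 : ∀ k ∈ (Finset.univ : Finset K),
      IsFinite ((shrinkMap f e N ⁻¹ᵁ B k).ι ≫ pullback.snd f (N.ι ≫ e)) := fun k _ =>
    shrink_property f e N @IsFinite (B k)
      (IsZariskiLocalAtTarget.restrict (P := @IsFinite) (hBfin k) N)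
  have h2 := EtLocSch.isFinite_finset_sup' (pullback.snd f (N.ι ≫ e)) Finset.univ
    (fun k => shrinkMap f e N ⁻¹ᵁ B k) h1
  have h3 : (Finset.univ : Finset K).sup (fun k => shrinkMap f e N ⁻¹ᵁ B k) = ⊤ := by
    rw [eq_top_iff]
    intro t _
    have ht : pullback.snd f e (shrinkMap f e N t) ∈ N := by
      rw [shrinkMap_snd_apply]
      exact (pullback.snd f (N.ι ≫ e) t).2
    obtain ⟨k, hk⟩ := hcov _ ht
    rw [Finset.sup_univ_eq_iSup]
    exact TopologicalSpace.Opens.mem_iSup.mpr ⟨k, hk⟩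
  rw [h3] at h2
  have h4 : (⊤ : (pullback f (N.ι ≫ e)).Opens).ι = (Scheme.topIso _).hom := rfl
  rw [h4] at h2
  exact (MorphismProperty.cancel_left_of_respectsIso @IsFinite _ _).mp h2

theorem finite_over_max_locus (hfin : ∀ y : Y, (f ⁻¹' {y}).Finite) (w : X → ℤ)
    (hw : MoreMor.IsWeighting f w) (hpos : ∀ x, 0 < w x) (d : ℤ)
    (hmax : ∀ y : Y, MoreMor.fibreIntegral f w y ≤ d) :
    ∃ hYd : IsOpen {y : ↑Y | MoreMor.fibreIntegral f w y = d},
      IsFinite (f ∣_ ⟨{y : ↑Y | MoreMor.fibreIntegral f w y = d}, hYd⟩) := by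
  have hlsc := lowerSemicontinuous_fibreIntegral f hfin w hw hpos
  have hset : {y : ↑Y | MoreMor.fibreIntegral f w y = d} =
      MoreMor.fibreIntegral f w ⁻¹' Set.Ioi (d - 1) := by
    ext y
    simp only [Set.mem_ofPred_eq, Set.mem_preimage, Set.mem_Ioi]
    constructor
    · intro h; rw [h]; exact sub_one_lt d
    · intro h; exact le_antisymm (hmax y) (by linarith [Int.add_one_le_iff.mpr h])
  have hYd : IsOpen {y : ↑Y | MoreMor.fibreIntegral f w y = d} := by
    rw [hset]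
    exact hlsc.isOpen_preimage _
  refine ⟨hYd, ?_⟩
  have huc : UniversallyClosed (f ∣_ ⟨{y : ↑Y | MoreMor.fibreIntegral f w y = d}, hYd⟩) := by
    refine of_local_le @UniversallyClosed f _ ?_
    intro y hy
    have hy' : MoreMor.fibreIntegral f w y = d := hy
    obtain ⟨E, e, e₀, N, he, hee₀, he₀N, K, hK, B, hBfin, hdisj, hsum⟩ :=
      exists_etale_nbhd_sum f hfin w hw y
    haveI := he
    haveI := hK
    haveI : UniversallyOpen e := UniversallyOpen.of_flat _
    have hkey : ∀ e' ∈ N, MoreMor.fibreIntegral f w (e e') = d ∧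
        ∀ t, pullback.snd f e t = e' → ∃ k, t ∈ B k := by
      intro e' he'
      have h1 := sum_le_of_mem f hfin w hpos e B hBfin hdisj e'
      have h2 := hsum e' he'
      rw [h2, hy'] at h1
      have h3 : MoreMor.fibreIntegral f w (e e') = d := le_antisymm (hmax _) h1.1
      exact ⟨h3, h1.2 h3.symm⟩
    refine ⟨⟨e '' (N : Set E), e.isOpenMap _ N.2⟩, ⟨e₀, he₀N, hee₀⟩, ?_, ?_⟩
    · rintro _ ⟨e', he', rfl⟩
      exact (hkey e' he').1
    · refine universallyClosed_restrict_of_etale f e N _ rfl ?_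
      exact isFinite_snd_of_cover f e N B hBfin (fun t ht => (hkey _ ht).2 t rfl)
  haveI : IsProper (f ∣_ ⟨{y : ↑Y | MoreMor.fibreIntegral f w y = d}, hYd⟩) :=
    { toIsSeparated := inferInstance
      toUniversallyClosed := huc
      toLocallyOfFiniteType := inferInstance }
  exact IsFinite.of_isProper_of_locallyQuasiFinite _

end Main

end Groth.Agent.Lib.Helper8.FibIntS2
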