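import Mathlib
import Groth.Prelude.Def_MoreMor
import Groth.Prelude.Def_EGA43
import Groth.Agent.Lib.Helper8.FibIntS2

set_option autoImplicit false
universe u
open AlgebraicGeometry CategoryTheory Limits

namespace Groth.Agent.Lib.Helper8.FibIntN

open Groth.Agent.Lib.Helper8.FibInt Groth.Agent.Lib.Helper8.FibIntGP
  Groth.Agent.Lib.Helper8.FibIntW Groth.Agent.Lib.Helper8.FibIntS Groth.Agent.Lib.Helper8.FibIntS2
  Groth.Agent.Lib.Helper8.EtLocUnr Groth.Agent.Lib.Helper8.EtLocPI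

section GeomCount

lemma isSepClosed_of_surjective {F E : Type*} [Field F] [Field E] [IsSepClosed F] (φ : F →+* E)
    (hφ : Function.Surjective φ) : IsSepClosed E := by
  letI := φ.toAlgebra
  haveI : Algebra.IsIntegral F E := Algebra.isIntegral_of_surjective hφ
  exact Algebra.IsAlgebraic.isSepClosed (F := F) (E := E)

lemma isSepClosed_residueField_Spec (K : Type u) [Field K] [IsSepClosed K]
    (q : ↥(Spec (CommRingCat.of K))) :
    IsSepClosed ((Spec (CommRingCat.of K)).residueField q) := by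
  haveI := q.isPrime
  haveI : q.asIdeal.IsMaximal := by
    rw [Ideal.eq_bot_of_prime q.asIdeal]
    exact Ideal.bot_isMaximal
  have hsurj1 : Function.Surjective (algebraMap K q.asIdeal.ResidueField) :=
    Ideal.algebraMap_residueField_surjective q.asIdeal
  have hsurj2 : Function.Surjective
      ⇑(Scheme.Spec.residueFieldIso (CommRingCat.of K) q).inv.hom :=
    (ConcreteCategory.bijective_of_isIso (Scheme.Spec.residueFieldIso (CommRingCat.of K) q).inv).2
  exact isSepClosed_of_surjective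
    ((Scheme.Spec.residueFieldIso (CommRingCat.of K) q).inv.hom.comp
      (algebraMap K q.asIdeal.ResidueField))
    (hsurj2.comp hsurj1)

lemma sepDeg_eq_one_of_sepClosed_target {G : Scheme.{u}} (K : Type u) [Field K] [IsSepClosed K]
    (γ : G ⟶ Spec (CommRingCat.of K)) [LocallyQuasiFinite γ] [LocallyOfFiniteType γ] (p : G) :
    sepDeg γ p = 1 := by
  apply sepDeg_eq_one_of_pi
  haveI := isSepClosed_residueField_Spec K (γ p)
  letI := (γ.residueFieldMap p).hom.toAlgebra
  show IsPurelyInseparable ((Spec (CommRingCat.of K)).residueField (γ p)) (G.residueField p)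
  haveI : Module.Finite ((Spec (CommRingCat.of K)).residueField (γ p)) (G.residueField p) :=
    finite_residueFieldMap_of_quasiFiniteAt γ p (γ.quasiFiniteAt p)
  haveI : Algebra.IsAlgebraic ((Spec (CommRingCat.of K)).residueField (γ p))
      (G.residueField p) := Algebra.IsAlgebraic.of_finite _ _
  infer_instance

variable {X Y : Scheme.{u}} (f : X ⟶ Y)

lemma card_eq_fibreIntegral_of_isPullback [LocallyQuasiFinite f] [LocallyOfFiniteType f]
    {G : Scheme.{u}} (K : Type u) [Field K] [IsSepClosed K]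
    (γ : G ⟶ Spec (CommRingCat.of K)) (h : G ⟶ X) (g : Spec (CommRingCat.of K) ⟶ Y)
    (hc : IsPullback h γ f g) (pt : ↥(Spec (CommRingCat.of K))) (y : Y) (hy : g pt = y)
    (hfin : (f ⁻¹' {y}).Finite) :
    Finite G ∧ (Nat.card G : ℤ) = MoreMor.fibreIntegral f (fun _ => 1) y ∧
      DiscreteTopology G := by
  subst hy
  haveI : LocallyQuasiFinite γ :=
    MorphismProperty.of_isPullback (P := @LocallyQuasiFinite) hc inferInstance
  haveI : LocallyOfFiniteType γ :=
    MorphismProperty.of_isPullback (P := @LocallyOfFiniteType) hc inferInstance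
  obtain ⟨hbc1, hbc2⟩ := fibreIntegral_baseChange f γ h g hc (fun _ => 1) pt hfin
  haveI : Subsingleton ↥(Spec (CommRingCat.of K)) :=
    inferInstanceAs (Subsingleton (PrimeSpectrum K))
  have hall : ∀ p : G, γ p = pt := fun p => Subsingleton.elim _ _
  have hGfin : Finite G := by
    have hu : (Set.univ : Set G) = γ ⁻¹' {pt} := by
      ext p
      constructor
      · intro _; exact hall p
      · intro _; exact Set.mem_univ p
    exact Set.finite_univ_iff.mp (hu ▸ hbc2)
  haveI := hGfin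
  refine ⟨hGfin, ?_, ?_⟩
  · have hterm : ∀ u : {u : G // γ u = pt},
        ((fun _ => (1 : ℤ)) ∘ ⇑h) u.1 * (sepDeg γ u.1 : ℤ) = 1 := by
      intro u
      rw [sepDeg_eq_one_of_sepClosed_target K γ u.1]
      simp
    haveI := Fintype.ofFinite {u : G // γ u = pt}
    rw [← hbc1, fibreIntegral_eq', finsum_congr hterm, finsum_eq_sum_of_fintype, Finset.sum_const,
      Finset.card_univ, nsmul_eq_mul, mul_one, ← Nat.card_eq_fintype_card,
      Nat.card_congr (Equiv.subtypeUnivEquiv hall)]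
  · haveI : DiscreteTopology ↥(γ.fiber pt) := inferInstance
    exact DiscreteTopology.of_continuous_injective
      ((γ.fiberHomeo pt).symm.continuous.comp (continuous_id.subtype_mk hall))
      ((γ.fiberHomeo pt).symm.injective.comp (fun a b hab => congrArg Subtype.val hab))

theorem nGeomConnComp_eq [LocallyQuasiFinite f] [LocallyOfFiniteType f] (y : Y)
    (hfin : (f ⁻¹' {y}).Finite) :
    MoreMor.nGeomConnComp f y = ((MoreMor.fibreIntegral f (fun _ => 1) y).toNat : ℕ∞) := by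
  have hsq1 : IsPullback (f.fiberι y) (f.fiberToSpecResidueField y) f
      (Y.fromSpecResidueField y) := IsPullback.of_hasPullback f (Y.fromSpecResidueField y)
  have hc := (IsPullback.of_hasPullback (f.fiberToSpecResidueField y)
    (Spec.map (CommRingCat.ofHom (algebraMap (Y.residueField y)
      (SeparableClosure (Y.residueField y)))))).paste_horiz hsq1
  have hgpt : (Spec.map (CommRingCat.ofHom (algebraMap (Y.residueField y)
      (SeparableClosure (Y.residueField y)))) ≫ Y.fromSpecResidueField y)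
      (IsLocalRing.closedPoint (SeparableClosure (Y.residueField y))) = y := by
    rw [Scheme.Hom.comp_apply, Scheme.fromSpecResidueField_apply]
  obtain ⟨hGfin, hcard, hdisc⟩ := card_eq_fibreIntegral_of_isPullback f
    (SeparableClosure (Y.residueField y)) _ _ _ hc
    (IsLocalRing.closedPoint (SeparableClosure (Y.residueField y))) y hgpt hfin
  haveI := hGfin
  haveI := hdisc
  have hinj : Function.Injective (_root_.ConnectedComponents.mk :
      ↥(pullback (f.fiberToSpecResidueField y) (Spec.map (CommRingCat.ofHom (algebraMap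
        (Y.residueField y) (SeparableClosure (Y.residueField y)))))) → _) := by
    intro a b hab
    have h1 := _root_.ConnectedComponents.coe_eq_coe'.mp hab
    rw [connectedComponent_eq_singleton] at h1
    exact h1
  have e1 : ENat.card (_root_.ConnectedComponents ↥(pullback (f.fiberToSpecResidueField y)
      (Spec.map (CommRingCat.ofHom (algebraMap (Y.residueField y)
        (SeparableClosure (Y.residueField y))))))) =
      ENat.card ↥(pullback (f.fiberToSpecResidueField y) (Spec.map (CommRingCat.ofHom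
        (algebraMap (Y.residueField y) (SeparableClosure (Y.residueField y)))))) :=
    (ENat.card_congr (Equiv.ofBijective _ ⟨hinj, _root_.ConnectedComponents.surjective_coe⟩)).symm
  show ENat.card (_root_.ConnectedComponents ↥(pullback (f.fiberToSpecResidueField y)
      (Spec.map (CommRingCat.ofHom (algebraMap (Y.residueField y)
        (SeparableClosure (Y.residueField y))))))) = _
  rw [e1, ENat.card_eq_coe_natCard, ← hcard, Int.toNat_natCast]

end GeomCount

section UnivOpenAt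

variable {X Y : Scheme.{u}} (f : X ⟶ Y)

lemma isUnivOpenAt_of_universallyOpen [UniversallyOpen f] (x : X) : EGA43.IsUnivOpenAt f x := by
  intro Y' g x' _ U hU
  haveI : UniversallyOpen (pullback.snd f g) :=
    MorphismProperty.pullback_snd (P := @UniversallyOpen) f g inferInstance
  exact (pullback.snd f g).isOpenMap.image_mem_nhds hU

lemma fibreIntegral_one_nonneg (z : Y) : 0 ≤ MoreMor.fibreIntegral f (fun _ => 1) z := by
  rw [fibreIntegral_eq']
  exact finsum_nonneg fun u => mul_nonneg zero_le_one (Int.natCast_nonneg _)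

variable [LocallyQuasiFinite f] [LocallyOfFiniteType f] [IsSeparated f]

theorem exists_etale_nbhd_sum_one (hfin : ∀ y : Y, (f ⁻¹' {y}).Finite) (y : Y)
    (hopen : ∀ x, f x = y → EGA43.IsUnivOpenAt f x) :
    ∃ (E : Scheme.{u}) (e : E ⟶ Y) (e₀ : E) (N : E.Opens), Etale e ∧ e e₀ = y ∧ e₀ ∈ N ∧
      ∃ (K : Type u) (_ : Finite K) (B : K → (pullback f e).Opens),
        (∀ k, IsFinite ((B k).ι ≫ pullback.snd f e)) ∧
        (∀ k k' t, t ∈ B k → t ∈ B k' → k = k') ∧
        ∀ e' ∈ N, MoreMor.fibreIntegral f (fun _ => 1) y ≤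
          ∑ᶠ k, IA f e (fun _ => 1) (B k) e' := by
  haveI : Finite ↥(f ⁻¹' {y}) := (hfin y).to_subtype
  obtain ⟨E, e, e₀, he, hee₀, n, VV, vv, -, hdisj, hV, hexh⟩ :=
    EtLocPI2.exists_etale_nbhd_split_pi_clopen f y (fun i : ↥(f ⁻¹' {y}) => i.1)
      Subtype.val_injective (fun i => i.2) (fun i => f.quasiFiniteAt i.1)
  haveI := he
  have hBfin : ∀ k : Σ i, Fin (n i), IsFinite ((VV k.1 k.2).ι ≫ pullback.snd f e) :=
    fun k => (hV k.1 k.2).2.1
  have hdisj' : ∀ (k k' : Σ i, Fin (n i)) (t : ↥(pullback f e)),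
      t ∈ VV k.1 k.2 → t ∈ VV k'.1 k'.2 → k = k' := fun k k' t hk hk' => hdisj k k' ⟨t, hk, hk'⟩
  have hnb : ∀ k : Σ i, Fin (n i), ∃ Nk : Set E, IsOpen Nk ∧ e₀ ∈ Nk ∧ ∀ e' ∈ Nk,
      (1 : ℤ) ≤ IA f e (fun _ => 1) (VV k.1 k.2) e' := by
    intro k
    have h1 := hopen k.1.1 k.1.2 E e (vv k.1 k.2) (hV k.1 k.2).2.2.2.2.2
    have h2 : (pullback.snd f e).base ''
        ((VV k.1 k.2 : (pullback f e).Opens) : Set ↥(pullback f e)) ∈
        nhds ((pullback.snd f e).base (vv k.1 k.2)) :=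
      h1 _ ((VV k.1 k.2).2.mem_nhds (hV k.1 k.2).1)
    have h3 : (pullback.snd f e).base (vv k.1 k.2) = e₀ := (hV k.1 k.2).2.2.1
    rw [h3] at h2
    obtain ⟨Nk, hNk, hNko, he₀⟩ := mem_nhds_iff.mp h2
    refine ⟨Nk, hNko, he₀, ?_⟩
    intro e' he'
    obtain ⟨t, ht, hte'⟩ := hNk he'
    haveI := hBfin k
    have h4 := term_le_fibreIntegral ((VV k.1 k.2).ι ≫ pullback.snd f e)
      (fun u => (fun _ => (1 : ℤ)) (pullback.fst f e ((VV k.1 k.2).ι u))) e'
      (((VV k.1 k.2).ι ≫ pullback.snd f e).finite_preimage_singleton e')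
      (fun _ _ => zero_le_one) ⟨t, ht⟩ hte'
    have h5 : (1 : ℤ) ≤ (sepDeg ((VV k.1 k.2).ι ≫ pullback.snd f e) ⟨t, ht⟩ : ℤ) := by
      exact_mod_cast sepDeg_pos' ((VV k.1 k.2).ι ≫ pullback.snd f e) ⟨t, ht⟩
    calc (1 : ℤ) ≤ 1 * (sepDeg ((VV k.1 k.2).ι ≫ pullback.snd f e) ⟨t, ht⟩ : ℤ) := by
          rw [one_mul]; exact h5
      _ ≤ _ := h4
  choose Nk hNko hNkv hNkc using hnb
  have hbc := fibreIntegral_baseChange f (pullback.snd f e) (pullback.fst f e) e
    (IsPullback.of_hasPullback f e) (fun _ => 1) e₀ (hfin _)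
  have hcov : ∀ t : ↥(pullback f e), pullback.snd f e t = e₀ →
      ∃ k : Σ i, Fin (n i), t ∈ VV k.1 k.2 := by
    intro t ht
    have hft : f (pullback.fst f e t) = y := by
      rw [← Scheme.Hom.comp_apply, pullback.condition, Scheme.Hom.comp_apply, ht, hee₀]
    obtain ⟨j, hj⟩ := hexh t ⟨pullback.fst f e t, hft⟩ ht rfl
    exact ⟨⟨_, j⟩, hj⟩
  have hy : MoreMor.fibreIntegral f (fun _ => 1) y =
      MoreMor.fibreIntegral f (fun _ => 1) (e e₀) := by rw [hee₀]
  have hval : ∑ᶠ k : Σ i, Fin (n i), IA f e (fun _ => 1) (VV k.1 k.2) e₀ =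
      MoreMor.fibreIntegral f (fun _ => 1) y := by
    rw [hy, ← hbc.1]
    exact sum_eq_fibreIntegral_of_cover (pullback.snd f e)
      (fun t => (fun _ => (1 : ℤ)) (pullback.fst f e t))
      (fun k : Σ i, Fin (n i) => VV k.1 k.2) hBfin hdisj' e₀ hcov
  have hone : ∀ k : Σ i, Fin (n i), IA f e (fun _ => 1) (VV k.1 k.2) e₀ = 1 := fun k =>
    IA_single f e (fun _ => 1) (VV k.1 k.2) e₀ (vv k.1 k.2) (hV k.1 k.2).1 (hV k.1 k.2).2.2.1
      (hV k.1 k.2).2.2.2.1 (hV k.1 k.2).2.2.2.2.1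
  refine ⟨E, e, e₀, ⟨⋂ k, Nk k, isOpen_iInter_of_finite hNko⟩, he, hee₀,
    Set.mem_iInter.mpr hNkv, (Σ i : ↥(f ⁻¹' {y}), Fin (n i)), inferInstance,
    fun k => VV k.1 k.2, hBfin, hdisj', ?_⟩
  intro e' he'
  rw [← hval]
  haveI := Fintype.ofFinite (Σ i : ↥(f ⁻¹' {y}), Fin (n i))
  rw [finsum_eq_sum_of_fintype, finsum_eq_sum_of_fintype]
  refine Finset.sum_le_sum fun k _ => ?_
  rw [hone k]
  exact hNkc k e' (Set.mem_iInter.mp he' k)

theorem fibreIntegral_one_ge_nhds (hfin : ∀ y : Y, (f ⁻¹' {y}).Finite) (y : Y)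
    (hopen : ∀ x, f x = y → EGA43.IsUnivOpenAt f x) :
    ∃ U : Set Y, IsOpen U ∧ y ∈ U ∧ ∀ y' ∈ U,
      MoreMor.fibreIntegral f (fun _ => 1) y ≤ MoreMor.fibreIntegral f (fun _ => 1) y' := by
  obtain ⟨E, e, e₀, N, he, hee₀, he₀N, K, hK, B, hBfin, hdisj, hsum⟩ :=
    exists_etale_nbhd_sum_one f hfin y hopen
  haveI := he
  haveI := hK
  haveI : UniversallyOpen e := UniversallyOpen.of_flat _
  refine ⟨e '' (N : Set E), e.isOpenMap _ N.2, ⟨e₀, he₀N, hee₀⟩, ?_⟩
  rintro _ ⟨e', he', rfl⟩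
  exact (hsum e' he').trans
    (sum_le_of_mem f hfin (fun _ => 1) (fun _ => one_pos) e B hBfin hdisj e').1

theorem proper_nhds_of_const (hfin : ∀ y : Y, (f ⁻¹' {y}).Finite) (y : Y)
    (hopen : ∀ x, f x = y → EGA43.IsUnivOpenAt f x)
    (hc : ∃ V ∈ nhds y, ∀ z ∈ V, MoreMor.fibreIntegral f (fun _ => 1) z =
      MoreMor.fibreIntegral f (fun _ => 1) y) :
    ∃ U : Y.Opens, y ∈ U ∧ IsProper (f ∣_ U) := by
  obtain ⟨V, hV, hVc⟩ := hc
  obtain ⟨V₀, hV₀V, hV₀o, hyV₀⟩ := mem_nhds_iff.mp hV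
  obtain ⟨E, e, e₀, N, he, hee₀, he₀N, K, hK, B, hBfin, hdisj, hsum⟩ :=
    exists_etale_nbhd_sum_one f hfin y hopen
  haveI := he
  haveI := hK
  haveI : UniversallyOpen e := UniversallyOpen.of_flat _
  obtain ⟨N', hN'def⟩ : ∃ N' : E.Opens, (N' : Set E) = (N : Set E) ∩ e ⁻¹' V₀ :=
    ⟨⟨_, N.2.inter (hV₀o.preimage e.continuous)⟩, rfl⟩
  have hmem : ∀ z : E, z ∈ N' ↔ z ∈ N ∧ e z ∈ V₀ := fun z => by
    rw [← SetLike.mem_coe, hN'def]; rfl
  have hkey : ∀ e' ∈ N', ∀ t, pullback.snd f e t = e' → ∃ k, t ∈ B k := by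
    intro e' he'
    obtain ⟨he'N, he'V⟩ := (hmem e').mp he'
    have h1 := sum_le_of_mem f hfin (fun _ => 1) (fun _ => one_pos) e B hBfin hdisj e'
    have h2 := hsum e' he'N
    have h3 : MoreMor.fibreIntegral f (fun _ => 1) (e e') =
        MoreMor.fibreIntegral f (fun _ => 1) y := hVc _ (hV₀V he'V)
    exact h1.2 (le_antisymm h1.1 (by rw [h3]; exact h2))
  have hopenU : IsOpen (e '' (N' : Set E)) := e.isOpenMap _ N'.2
  refine ⟨⟨e '' (N' : Set E), hopenU⟩, ⟨e₀, (hmem e₀).mpr ⟨he₀N, by rw [hee₀]; exact hyV₀⟩, hee₀⟩, ?_⟩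
  have huc : UniversallyClosed (f ∣_ ⟨e '' (N' : Set E), hopenU⟩) :=
    universallyClosed_restrict_of_etale f e N' _ rfl
      (isFinite_snd_of_cover f e N' B hBfin (fun t ht => hkey _ ht t rfl))
  exact { toIsSeparated := inferInstance
          toUniversallyClosed := huc
          toLocallyOfFiniteType := inferInstance }

end UnivOpenAt

end Groth.Agent.Lib.Helper8.FibIntN
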