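import Mathlib
import Groth.Prelude
import Groth.Agent.Lib.Helper8.QFGoingDown
import Groth.Agent.S2052

/-!
# Lifting of generizations at a quasi-finite point over a unibranch point

`exists_le_comap_eq_of_unibranch`: for `R → S` of finite type, quasi-finite at `q` over `p`, with
`R_p` unibranch and minimal primes of `S` over minimal primes of `R`, every prime `p'' ≤ p` is the
contraction of a prime `q'' ≤ q`.
-/

set_option autoImplicit false
universe u
open IsLocalRing TensorProduct

namespace Groth.Agent.Lib.Helper8.QFGoingDownHens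

open Groth.Agent.Lib.Helper8 Groth.Agent.Lib.Helper8.Hzl Groth.Agent.Lib.Helper8.QFGoingDown Groth.Agent.Lib.Helper8.UnibranchHens

/-- Incomparability for a henselization. -/
theorem incomparable_hens (A Ah : Type u) [CommRing A] [IsLocalRing A] [CommRing Ah] [IsLocalRing Ah]
    [Algebra A Ah] [IsLocalHom (algebraMap A Ah)] [Hensel.IsHenselization A Ah]
    (P Q : Ideal Ah) [P.IsPrime] [Q.IsPrime] (h : P ≤ Q)
    (h₂ : P.comap (algebraMap A Ah) = Q.comap (algebraMap A Ah)) : P = Q := by
  obtain ⟨e⟩ := nonempty_algEquiv_hens A Ah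
  have hu : ∀ I : Ideal Ah, (I.comap (e.symm : Hens A →+* Ah)).under A =
      I.comap (algebraMap A Ah) := fun I => by
    ext a
    simp only [Ideal.under_def, Ideal.mem_comap]
    rw [show (e.symm : Hens A →+* Ah) (algebraMap A (Hens A) a) = algebraMap A Ah a from
      e.symm.commutes a]
  haveI : (P.comap (e.symm : Hens A →+* Ah)).IsPrime := Ideal.comap_isPrime _ _
  haveI : (Q.comap (e.symm : Hens A →+* Ah)).IsPrime := Ideal.comap_isPrime _ _
  have key := eq_of_le_of_under_eq (P.comap (e.symm : Hens A →+* Ah))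
    (Q.comap (e.symm : Hens A →+* Ah)) (Ideal.comap_mono h) (by rw [hu, hu, h₂])
  ext x
  have h3 := Ideal.ext_iff.mp key (e x)
  simp only [Ideal.mem_comap] at h3
  have h4 : (e.symm : Hens A →+* Ah) (e x) = x := e.symm_apply_apply x
  rwa [h4] at h3

section compat

variable (R : Type u) [CommRing R] (S : Type u) [CommRing S] [Algebra R S]
  (p : Ideal R) [p.IsPrime] (q : Ideal S) [q.IsPrime] [q.LiesOver p]
  (Rh : Type u) [CommRing Rh] [IsLocalRing Rh] [Algebra (Localization.AtPrime p) Rh]
  [IsLocalHom (algebraMap (Localization.AtPrime p) Rh)]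
  [Algebra R Rh] [IsScalarTower R (Localization.AtPrime p) Rh]
  (Sh : Type u) [CommRing Sh] [IsLocalRing Sh] [Algebra (Localization.AtPrime q) Sh]
  [IsLocalHom (algebraMap (Localization.AtPrime q) Sh)]
  [Algebra S Sh] [IsScalarTower S (Localization.AtPrime q) Sh] [Algebra R Sh] [IsScalarTower R S Sh]
  [Algebra Rh Sh] [IsScalarTower R Rh Sh]
  [hR : Hensel.IsHenselization (Localization.AtPrime p) Rh]
  [hS : Hensel.IsHenselization (Localization.AtPrime q) Sh]

include p q hR hS in
theorem comap_surjective_hens [Algebra.IsIntegral Rh Sh]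
    (hU : CAlgX.HasUniqueMinimalPrime Rh)
    (hmin : ∀ 𝔮 ∈ minimalPrimes S, 𝔮.comap (algebraMap R S) ∈ minimalPrimes R)
    (P : Ideal Rh) (hP : P.IsPrime) :
    ∃ Q : Ideal Sh, Q.IsPrime ∧ Q.comap (algebraMap Rh Sh) = P := by
  haveI hnil : (nilradical Rh).IsPrime := nilradical_isPrime_of_hasUniqueMinimalPrime hU
  suffices hker : RingHom.ker (algebraMap Rh Sh) ≤ nilradical Rh by
    obtain ⟨Q, -, hQ, hQc⟩ := Ideal.exists_ideal_over_prime_of_isIntegral P (⊥ : Ideal Sh) (by
      rw [← RingHom.ker_eq_comap_bot]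
      exact hker.trans (nilradical_le_prime P))
    exact ⟨Q, hQ, hQc⟩
  obtain ⟨Q₀, hQ₀min, -⟩ :=
    Ideal.exists_minimalPrimes_le (bot_le : (⊥ : Ideal Sh) ≤ maximalIdeal Sh)
  haveI hQ₀p : Q₀.IsPrime := hQ₀min.1.1
  haveI : Module.Flat (Localization.AtPrime q) Sh :=
    henselization_flat (Localization.AtPrime q) Sh
  haveI : Module.Flat S Sh := Module.Flat.trans S (Localization.AtPrime q) Sh
  have h𝔮min : Q₀.comap (algebraMap S Sh) ∈ minimalPrimes S := by
    refine ⟨⟨Ideal.comap_isPrime _ _, bot_le⟩, fun 𝔮' h𝔮' hle => ?_⟩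
    haveI := h𝔮'.1
    obtain ⟨Q₁, hQ₁le, hQ₁p, hQ₁o⟩ :=
      Ideal.exists_ideal_le_liesOver_of_le (p := 𝔮') (q := Q₀.under S) Q₀ hle
    have h1 : Q₁ = Q₀ := le_antisymm hQ₁le (hQ₀min.2 ⟨hQ₁p, bot_le⟩ hQ₁le)
    have h2 : 𝔮' = Q₀.comap (algebraMap S Sh) := by
      calc 𝔮' = Q₁.under S := hQ₁o.over
        _ = Q₀.under S := by rw [h1]
    exact h2.ge
  have h𝔭min := hmin _ h𝔮min
  have hcomm : (Q₀.comap (algebraMap Rh Sh)).comap (algebraMap R Rh) =
      (Q₀.comap (algebraMap S Sh)).comap (algebraMap R S) := by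
    rw [Ideal.comap_comap, Ideal.comap_comap, ← IsScalarTower.algebraMap_eq R Rh Sh,
      ← IsScalarTower.algebraMap_eq R S Sh]
  haveI hP₁p : (Q₀.comap (algebraMap Rh Sh)).IsPrime := Ideal.comap_isPrime _ _
  have hNle : nilradical Rh ≤ Q₀.comap (algebraMap Rh Sh) := nilradical_le_prime _
  have hNR : (nilradical Rh).comap (algebraMap R Rh) =
      (Q₀.comap (algebraMap Rh Sh)).comap (algebraMap R Rh) := by
    apply le_antisymm (Ideal.comap_mono hNle)
    rw [hcomm]
    exact h𝔭min.2 ⟨Ideal.comap_isPrime _ _, bot_le⟩ (by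
      rw [← hcomm]; exact Ideal.comap_mono hNle)
  have hNA : (nilradical Rh).comap (algebraMap (Localization.AtPrime p) Rh) =
      (Q₀.comap (algebraMap Rh Sh)).comap (algebraMap (Localization.AtPrime p) Rh) := by
    rw [← IsLocalization.map_under p.primeCompl (Localization.AtPrime p)
        ((nilradical Rh).comap (algebraMap (Localization.AtPrime p) Rh)),
      ← IsLocalization.map_under p.primeCompl (Localization.AtPrime p)
        ((Q₀.comap (algebraMap Rh Sh)).comap (algebraMap (Localization.AtPrime p) Rh)),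
      Ideal.under_def, Ideal.under_def, Ideal.comap_comap, Ideal.comap_comap,
      ← IsScalarTower.algebraMap_eq R (Localization.AtPrime p) Rh, hNR]
  have heq : nilradical Rh = Q₀.comap (algebraMap Rh Sh) :=
    incomparable_hens (Localization.AtPrime p) Rh _ _ hNle hNA
  rw [heq]
  intro x hx
  rw [Ideal.mem_comap, (RingHom.mem_ker).mp hx]
  exact zero_mem _

end compat

section final

variable (R : Type u) [CommRing R] (S : Type u) [CommRing S] [Algebra R S]
  (p : Ideal R) [p.IsPrime] (q : Ideal S) [q.IsPrime] [q.LiesOver p]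
  (Rh : Type u) [CommRing Rh] [IsLocalRing Rh] [Algebra (Localization.AtPrime p) Rh]
  [IsLocalHom (algebraMap (Localization.AtPrime p) Rh)]
  [hR : Hensel.IsHenselization (Localization.AtPrime p) Rh]
  (Sh : Type u) [CommRing Sh] [IsLocalRing Sh] [Algebra (Localization.AtPrime q) Sh]
  [IsLocalHom (algebraMap (Localization.AtPrime q) Sh)]
  [hS : Hensel.IsHenselization (Localization.AtPrime q) Sh]

theorem exists_compat_hens : ∃ g : Rh →+* Sh, g.comp (algebraMap (Localization.AtPrime p) Rh) =
    (algebraMap (Localization.AtPrime q) Sh).comp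
      (Localization.localRingHom p q (algebraMap R S) (q.over_def p)) := by
  let f₀ : (Localization.AtPrime p) →+* (Localization.AtPrime q) :=
    Localization.localRingHom p q (algebraMap R S) (q.over_def p)
  haveI : IsLocalHom f₀ := Localization.isLocalHom_localRingHom p q _ (q.over_def p)
  let f : (Localization.AtPrime p) →+* Sh := (algebraMap (Localization.AtPrime q) Sh).comp f₀
  haveI : IsLocalHom f := RingHom.isLocalHom_comp _ _
  haveI : HenselianLocalRing Sh := hS.henselian
  obtain ⟨g, hg, -⟩ := hR.universal Sh f inferInstance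
  exact ⟨g, hg⟩

variable [Algebra.FiniteType R S] [Algebra.QuasiFiniteAt R q]

include hR hS in
theorem exists_le_aux (g : Rh →+* Sh)
    (hg : g.comp (algebraMap (Localization.AtPrime p) Rh) =
      (algebraMap (Localization.AtPrime q) Sh).comp
        (Localization.localRingHom p q (algebraMap R S) (q.over_def p)))
    (hub : CAlg2.IsUnibranch (Localization.AtPrime p))
    (hmin : ∀ 𝔮 ∈ minimalPrimes S, 𝔮.comap (algebraMap R S) ∈ minimalPrimes R)
    (p'' : Ideal R) [p''.IsPrime] (hle : p'' ≤ p) :
    ∃ q'' : Ideal S, q''.IsPrime ∧ q'' ≤ q ∧ q''.comap (algebraMap R S) = p'' := by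
  letI : Algebra R Rh := ((algebraMap (Localization.AtPrime p) Rh).comp (algebraMap R (Localization.AtPrime p))).toAlgebra
  haveI : IsScalarTower R (Localization.AtPrime p) Rh := IsScalarTower.of_algebraMap_eq (fun _ => rfl)
  letI : Algebra S Sh := ((algebraMap (Localization.AtPrime q) Sh).comp (algebraMap S (Localization.AtPrime q))).toAlgebra
  haveI : IsScalarTower S (Localization.AtPrime q) Sh := IsScalarTower.of_algebraMap_eq (fun _ => rfl)
  letI : Algebra R Sh := ((algebraMap S Sh).comp (algebraMap R S)).toAlgebra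
  haveI : IsScalarTower R S Sh := IsScalarTower.of_algebraMap_eq (fun _ => rfl)
  letI algRhSh : Algebra Rh Sh := g.toAlgebra
  haveI : IsScalarTower R Rh Sh := IsScalarTower.of_algebraMap_eq (fun r => by
    show algebraMap (Localization.AtPrime q) Sh (algebraMap S (Localization.AtPrime q) (algebraMap R S r)) =
      g (algebraMap (Localization.AtPrime p) Rh (algebraMap R (Localization.AtPrime p) r))
    have h1 := RingHom.congr_fun hg (algebraMap R (Localization.AtPrime p) r)
    rw [RingHom.comp_apply] at h1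
    rw [h1, RingHom.comp_apply, Localization.localRingHom_to_map])
  haveI : Module.Finite Rh Sh := finite_hens_of_quasiFiniteAt R S p q Rh Sh
  haveI : Algebra.IsIntegral Rh Sh := Algebra.IsIntegral.of_finite Rh Sh
  have hU : CAlgX.HasUniqueMinimalPrime Rh :=
    (Groth.Agent.S2052.result (A := Localization.AtPrime p) (Ah := Rh)).mp hub
  have hsurj := comap_surjective_hens R S p q Rh Sh hU hmin
  haveI hPA : (p''.map (algebraMap R (Localization.AtPrime p))).IsPrime :=
    Ideal.isPrime_map_of_isLocalizationAtPrime p hle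
  have hPAu : (p''.map (algebraMap R (Localization.AtPrime p))).under R = p'' :=
    Ideal.under_map_of_isLocalizationAtPrime p hle
  haveI : Module.FaithfullyFlat (Localization.AtPrime p) Rh :=
    henselization_faithfullyFlat (Localization.AtPrime p) Rh
  obtain ⟨P'', hP''⟩ := PrimeSpectrum.comap_surjective_of_faithfullyFlat
    (A := Localization.AtPrime p) (B := Rh) ⟨p''.map (algebraMap R (Localization.AtPrime p)), hPA⟩
  obtain ⟨Q'', hQ''p, hQ''c⟩ := hsurj P''.asIdeal P''.isPrime
  refine ⟨Q''.comap (algebraMap S Sh), Ideal.comap_isPrime _ _, ?_, ?_⟩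
  · intro s hs
    rw [← mem_maximalIdeal_algebraMap_iff S q Sh s]
    exact le_maximalIdeal hQ''p.ne_top hs
  · have h5 : P''.asIdeal.comap (algebraMap (Localization.AtPrime p) Rh) =
        p''.map (algebraMap R (Localization.AtPrime p)) := congrArg PrimeSpectrum.asIdeal hP''
    rw [Ideal.comap_comap, ← IsScalarTower.algebraMap_eq R S Sh,
      IsScalarTower.algebraMap_eq R Rh Sh, ← Ideal.comap_comap, hQ''c,
      IsScalarTower.algebraMap_eq R (Localization.AtPrime p) Rh, ← Ideal.comap_comap, h5]
    exact hPAu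

end final

section main

variable (R : Type u) [CommRing R] (S : Type u) [CommRing S] [Algebra R S]
  [Algebra.FiniteType R S]
  (p : Ideal R) [p.IsPrime] (q : Ideal S) [q.IsPrime] [q.LiesOver p] [Algebra.QuasiFiniteAt R q]

/-- Generizations lift at a quasi-finite point over a unibranch point. -/
theorem exists_le_comap_eq_of_unibranch
    (hub : CAlg2.IsUnibranch (Localization.AtPrime p))
    (hmin : ∀ 𝔮 ∈ minimalPrimes S, 𝔮.comap (algebraMap R S) ∈ minimalPrimes R)
    (p'' : Ideal R) [p''.IsPrime] (hle : p'' ≤ p) :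
    ∃ q'' : Ideal S, q''.IsPrime ∧ q'' ≤ q ∧ q''.comap (algebraMap R S) = p'' := by
  haveI hR := Hzl.isHenselization (Localization.AtPrime p)
  haveI hS := Hzl.isHenselization (Localization.AtPrime q)
  obtain ⟨g, hg⟩ := exists_compat_hens R S p q (Hens (Localization.AtPrime p))
    (Hens (Localization.AtPrime q))
  exact exists_le_aux R S p q (Hens (Localization.AtPrime p)) (Hens (Localization.AtPrime q))
    g hg hub hmin p'' hle

end main

end Groth.Agent.Lib.Helper8.QFGoingDownHens
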