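import Mathlib
import Groth.Prelude
import Groth.Agent.Lib.Helper8.QFGoingDownHens
import Groth.Agent.Lib.Helper8.QFUnivOpen
import Groth.Agent.Lib.Helper8.BranchFibre

/-!
# Openness at a quasi-finite point over a unibranch point

`isOpenAt_of_unibranch`: a morphism locally of finite presentation, locally quasi-finite, mapping
maximal points to maximal points, is open at every point whose image is a unibranch point.
-/

set_option autoImplicit false
universe u
open AlgebraicGeometry CategoryTheory CategoryTheory.Limits TensorProduct TopologicalSpace Topology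

namespace Groth.Agent.Lib.Helper8.QFOpenAt

open Groth.Agent.Lib.Helper8 Groth.Agent.Lib.Helper8.QFUnivOpen

/-- A constructible subset of a prime spectrum containing all generizations of a point is a
neighbourhood of this point. -/
theorem mem_nhds_of_isConstructible {A : Type u} [CommRing A] (E : Set (PrimeSpectrum A))
    (hE : IsConstructible E) (y : PrimeSpectrum A) (h : ∀ z : PrimeSpectrum A, z ⤳ y → z ∈ E) :
    E ∈ nhds y := by
  by_contra hn
  have h1 : y ∈ closure Eᶜ := by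
    rw [closure_compl]
    intro hi
    exact hn (mem_interior_iff_mem_nhds.mp hi)
  obtain ⟨B, _, g, hg⟩ := PrimeSpectrum.exists_range_eq_of_isConstructible hE.compl
  rw [← hg, PrimeSpectrum.closure_range_comap, PrimeSpectrum.mem_zeroLocus] at h1
  have hdisj : Disjoint ((⊥ : Ideal B) : Set B) (y.asIdeal.primeCompl.map g : Submonoid B) := by
    rw [Set.disjoint_left]
    rintro b hb ⟨s, hs, rfl⟩
    have hb0 : g s = 0 := hb
    exact hs (h1 (RingHom.mem_ker.mpr hb0))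
  obtain ⟨P, hPp, -, hPd⟩ := Ideal.exists_le_prime_disjoint (⊥ : Ideal B) _ hdisj
  let z : PrimeSpectrum A := PrimeSpectrum.comap g ⟨P, hPp⟩
  have hz : z ∈ Eᶜ := by rw [← hg]; exact ⟨⟨P, hPp⟩, rfl⟩
  have hzy : z ⤳ y := by
    rw [← PrimeSpectrum.le_iff_specializes]
    intro a ha
    by_contra hay
    exact Set.disjoint_left.mp hPd ha ⟨a, hay, rfl⟩
  exact hz (h z hzy)

/-- Pointwise openness of `Spec` of a finitely presented ring map from lifting of generizations. -/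
theorem isOpenAt_comap {R S : Type u} [CommRing R] [CommRing S] (φ : R →+* S)
    (hφ : φ.FinitePresentation) (x : PrimeSpectrum S)
    (G : ∀ y'' : PrimeSpectrum R, y'' ⤳ PrimeSpectrum.comap φ x →
      ∃ x'' : PrimeSpectrum S, x'' ⤳ x ∧ PrimeSpectrum.comap φ x'' = y'') :
    EGA43.IsOpenAt (PrimeSpectrum.comap φ) x := by
  intro N hN
  obtain ⟨t, htN, ht, hxt⟩ := mem_nhds_iff.mp hN
  obtain ⟨_, ⟨s, rfl⟩, hxs, hst⟩ :=
    PrimeSpectrum.isTopologicalBasis_basic_opens.exists_subset_of_mem_open hxt ht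
  have hE : IsConstructible (PrimeSpectrum.comap φ '' (PrimeSpectrum.basicOpen s : Set (PrimeSpectrum S))) :=
    PrimeSpectrum.isConstructible_comap_image hφ PrimeSpectrum.isConstructible_basicOpen
  have hnh := mem_nhds_of_isConstructible _ hE (PrimeSpectrum.comap φ x) (by
    intro z hz
    obtain ⟨x'', hx'', rfl⟩ := G z hz
    exact ⟨x'', hx''.mem_open (PrimeSpectrum.basicOpen s).2 hxs, rfl⟩)
  exact Filter.mem_of_superset hnh (Set.image_mono (hst.trans htN))

theorem isOpenAt_comap_of_unibranch {R S : Type u} [CommRing R] [CommRing S] (φ : R →+* S)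
    (hfp : φ.FinitePresentation) (hqf : φ.QuasiFinite) (x : PrimeSpectrum S)
    (hub : CAlg2.IsUnibranch (Localization.AtPrime (x.asIdeal.comap φ)))
    (hmin : ∀ 𝔮 ∈ minimalPrimes S, 𝔮.comap φ ∈ minimalPrimes R) :
    EGA43.IsOpenAt (PrimeSpectrum.comap φ) x := by
  algebraize [φ]
  apply isOpenAt_comap φ hfp x
  intro y'' hy''
  have hle : y''.asIdeal ≤ x.asIdeal.comap (algebraMap R S) :=
    (PrimeSpectrum.le_iff_specializes y'' (PrimeSpectrum.comap φ x)).mpr hy''
  haveI : x.asIdeal.LiesOver (x.asIdeal.comap (algebraMap R S)) := ⟨rfl⟩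
  obtain ⟨q'', hq''p, hq''le, hq''c⟩ := QFGoingDownHens.exists_le_comap_eq_of_unibranch R S
    (x.asIdeal.comap (algebraMap R S)) x.asIdeal hub hmin y''.asIdeal hle
  exact ⟨⟨q'', hq''p⟩, (PrimeSpectrum.le_iff_specializes (⟨q'', hq''p⟩ : PrimeSpectrum S) x).mp hq''le,
    PrimeSpectrum.ext hq''c⟩

/-- Unibranchness is invariant under ring isomorphisms. -/
theorem isUnibranch_of_ringEquiv {R R' : Type u} [CommRing R] [IsLocalRing R] [CommRing R']
    [IsLocalRing R'] (e : R ≃+* R') (h : CAlg2.IsUnibranch R') : CAlg2.IsUnibranch R := by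
  haveI := Hzl.isHenselization R'
  haveI : IsLocalHom (e : R →+* R') := BranchFibre.isLocalHom_ringEquiv e
  letI : Algebra R (Hzl.Hens R') := ((algebraMap R' (Hzl.Hens R')).comp (e : R →+* R')).toAlgebra
  haveI : IsLocalHom (algebraMap R (Hzl.Hens R')) :=
    (RingHom.isLocalHom_comp _ _ : IsLocalHom ((algebraMap R' (Hzl.Hens R')).comp (e : R →+* R')))
  haveI := BranchFibre.isHenselization_of_ringEquiv (S := Hzl.Hens R') e rfl
  rw [Groth.Agent.S2052.result (A := R) (Ah := Hzl.Hens R')]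
  exact (Groth.Agent.S2052.result (A := R') (Ah := Hzl.Hens R')).mp h

/-- A morphism locally of finite presentation and locally quasi-finite which maps maximal points
to maximal points is open at every point over a unibranch point. -/
theorem isOpenAt_of_unibranch {X Y : Scheme.{u}} (f : X ⟶ Y) [LocallyOfFinitePresentation f]
    [LocallyQuasiFinite f] (x : X)
    (hy : CAlg2.IsUnibranch (Y.presheaf.stalk (f x)))
    (hmax : ∀ ξ : X, (∀ ξ' : X, ξ' ⤳ ξ → ξ' = ξ) → ∀ η' : Y, η' ⤳ f ξ → η' = f ξ) :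
    EGA43.IsOpenAt f.base x := by
  obtain ⟨V, hV, hyV, -⟩ := (Opens.isBasis_iff_nbhd.mp Y.isBasis_affineOpens)
    (show f x ∈ (⊤ : Y.Opens) from trivial)
  obtain ⟨U, hU, hxU, hUV⟩ := (Opens.isBasis_iff_nbhd.mp X.isBasis_affineOpens)
    (show x ∈ f ⁻¹ᵁ V from hyV)
  have hV' : IsAffineOpen V := hV
  have hU' : IsAffineOpen U := hU
  have hψfp : (f.appLE V U hUV).hom.FinitePresentation :=
    HasRingHomProperty.appLE @LocallyOfFinitePresentation f inferInstance ⟨V, hV⟩ ⟨U, hU⟩ hUV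
  have hψqf : (f.appLE V U hUV).hom.QuasiFinite :=
    HasRingHomProperty.appLE @LocallyQuasiFinite f inferInstance ⟨V, hV⟩ ⟨U, hU⟩ hUV
  have hnat : Spec.map (f.appLE V U hUV) ≫ hV'.fromSpec = hU'.fromSpec ≫ f :=
    IsAffineOpen.SpecMap_appLE_fromSpec f hV' hU' hUV
  have hnat' : ∀ z : Spec Γ(X, U),
      hV'.fromSpec (Spec.map (f.appLE V U hUV) z) = f (hU'.fromSpec z) := fun z => by
    rw [← Scheme.Hom.comp_apply, ← Scheme.Hom.comp_apply, hnat]
  obtain ⟨x₀, rfl⟩ : ∃ x₀ : Spec Γ(X, U), hU'.fromSpec x₀ = x := by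
    have h1 : x ∈ Set.range hU'.fromSpec := by rw [hU'.range_fromSpec]; exact hxU
    exact h1
  have hub : CAlg2.IsUnibranch
      (Localization.AtPrime (x₀.asIdeal.comap (f.appLE V U hUV).hom)) := by
    have h1 : CAlg2.IsUnibranch
        (Y.presheaf.stalk (hV'.fromSpec (Spec.map (f.appLE V U hUV) x₀))) := by
      rw [hnat']; exact hy
    let e₁ : Y.presheaf.stalk (hV'.fromSpec (Spec.map (f.appLE V U hUV) x₀)) ≃+*
        (Spec Γ(Y, V)).presheaf.stalk (Spec.map (f.appLE V U hUV) x₀) :=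
      (asIso (hV'.fromSpec.stalkMap (Spec.map (f.appLE V U hUV) x₀))).commRingCatIsoToRingEquiv
    let e₂ : (Spec Γ(Y, V)).presheaf.stalk (Spec.map (f.appLE V U hUV) x₀) ≃+*
        Localization.AtPrime (x₀.asIdeal.comap (f.appLE V U hUV).hom) :=
      (Spec.stalkIso Γ(Y, V) (Spec.map (f.appLE V U hUV) x₀)).commRingCatIsoToRingEquiv
    exact isUnibranch_of_ringEquiv (e₁.trans e₂).symm h1
  have hmin : ∀ 𝔮 ∈ minimalPrimes Γ(X, U),
      𝔮.comap (f.appLE V U hUV).hom ∈ minimalPrimes Γ(Y, V) := by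
    intro 𝔮 h𝔮
    haveI h𝔮p : 𝔮.IsPrime := h𝔮.1.1
    have hξ₀ : ∀ ξ' : Spec Γ(X, U), ξ' ⤳ (⟨𝔮, h𝔮p⟩ : PrimeSpectrum Γ(X, U)) →
        ξ' = (⟨𝔮, h𝔮p⟩ : PrimeSpectrum Γ(X, U)) := by
      intro ξ' h
      have hle : ξ'.asIdeal ≤ 𝔮 := (PrimeSpectrum.le_iff_specializes ξ' ⟨𝔮, h𝔮p⟩).mpr h
      exact PrimeSpectrum.ext (le_antisymm hle (h𝔮.2 ⟨ξ'.isPrime, bot_le⟩ hle))
    have h1 := max_of_isOpenEmbedding _ hU'.fromSpec.isOpenEmbedding
      (⟨𝔮, h𝔮p⟩ : PrimeSpectrum Γ(X, U)) hξ₀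
    have h2 := hmax _ h1
    rw [← hnat'] at h2
    refine ⟨⟨Ideal.comap_isPrime _ _, bot_le⟩, fun p' hp' hle => ?_⟩
    have h3 : (⟨p', hp'.1⟩ : PrimeSpectrum Γ(Y, V)) ⤳
        Spec.map (f.appLE V U hUV) (⟨𝔮, h𝔮p⟩ : PrimeSpectrum Γ(X, U)) :=
      (PrimeSpectrum.le_iff_specializes (⟨p', hp'.1⟩ : PrimeSpectrum Γ(Y, V)) _).mp hle
    have h4 := h2 (hV'.fromSpec (⟨p', hp'.1⟩ : PrimeSpectrum Γ(Y, V)))
      (h3.map hV'.fromSpec.continuous)
    have h5 := hV'.fromSpec.isOpenEmbedding.injective h4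
    exact (congrArg PrimeSpectrum.asIdeal h5).ge
  have key := isOpenAt_comap_of_unibranch (f.appLE V U hUV).hom hψfp hψqf x₀ hub hmin
  intro N hN
  have h1 : hU'.fromSpec ⁻¹' N ∈ nhds x₀ :=
    hU'.fromSpec.continuous.continuousAt.preimage_mem_nhds hN
  have h2 := key _ h1
  have h3 := hV'.fromSpec.isOpenEmbedding.isOpenMap.image_mem_nhds h2
  have h4 : hV'.fromSpec (PrimeSpectrum.comap (f.appLE V U hUV).hom x₀) = f (hU'.fromSpec x₀) :=
    hnat' x₀
  rw [h4] at h3
  refine Filter.mem_of_superset h3 ?_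
  rintro _ ⟨_, ⟨z, hz, rfl⟩, rfl⟩
  exact ⟨hU'.fromSpec z, hz, (hnat' z).symm⟩

end Groth.Agent.Lib.Helper8.QFOpenAt
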