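import Mathlib
import Groth.Prelude
import Groth.Agent.Lib.Helper8.QFGoingDown
import Groth.Agent.Lib.Helper8.QFOpenAt
import Groth.Agent.Lib.Helper8.QFUnivOpen
import Groth.Agent.Lib.Helper8.SmoothUnibranch
import Groth.Agent.Lib.Helper12.UnivOpenFT
import Groth.Agent.Lib.Helper8.UnivOpen

/-!
# Universal openness at a quasi-finite point over a geometrically unibranch point

`isUnivOpenAt_of_geomUnibranch`: a morphism locally of finite presentation, locally quasi-finite,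
mapping maximal points to maximal points, is universally open at every point whose image is a
geometrically unibranch point.
-/

set_option autoImplicit false
universe u
open IsLocalRing TensorProduct AlgebraicGeometry CategoryTheory CategoryTheory.Limits

namespace Groth.Agent.Lib.Helper8.QFUnivOpenAt

open Groth.Agent.Lib.Helper8 Groth.Agent.Lib.Helper8.Hzl Groth.Agent.Lib.Helper8.QFGoingDown
open Groth.Agent.Lib.Helper8.QFUnivOpen Groth.Agent.Lib.Helper12.UnivOpenFT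

section Ring

variable (R : Type u) [CommRing R] (S : Type u) [CommRing S] [Algebra R S]
  [Algebra.FiniteType R S]

/-- Pointwise universal lifting of generizations at a quasi-finite prime over a geometrically
unibranch prime. -/
theorem goingDown_tensor_at (p : Ideal R) [p.IsPrime] (q : Ideal S) [q.IsPrime] [q.LiesOver p]
    [Algebra.QuasiFiniteAt R q]
    (hgu : CAlg2.IsGeomUnibranch (Localization.AtPrime p))
    (hmin : ∀ 𝔮 ∈ minimalPrimes S, 𝔮.comap (algebraMap R S) ∈ minimalPrimes R)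
    (C : Type u) [CommRing C] [Algebra R C]
    (Q' : Ideal (S ⊗[R] C)) [Q'.IsPrime] (hQ' : Q'.comap (algebraMap S (S ⊗[R] C)) = q)
    (c : Ideal C) [c.IsPrime]
    (hc : c ≤ Q'.comap (Algebra.TensorProduct.includeRight : C →ₐ[R] S ⊗[R] C).toRingHom) :
    ∃ Q'' : Ideal (S ⊗[R] C), Q''.IsPrime ∧ Q'' ≤ Q' ∧
      Q''.comap (Algebra.TensorProduct.includeRight : C →ₐ[R] S ⊗[R] C).toRingHom = c := by
  haveI hR := Hzl.isStrictHenselization (Localization.AtPrime p)
  haveI hS := Hzl.isStrictHenselization (Localization.AtPrime q)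
  obtain ⟨g, hg⟩ := SmoothBranchesPrime.exists_compat R S p q
    (SHens (Localization.AtPrime p)) (SHens (Localization.AtPrime q))
  exact goingDown_tensor_aux R S p q (SHens (Localization.AtPrime p))
    (SHens (Localization.AtPrime q)) g hg hgu hmin C Q' hQ' c hc

/-- Ring-level form of universal openness at a quasi-finite prime over a geometrically unibranch
prime. -/
theorem isOpenAt_includeRight_of_geomUnibranch [Algebra.FinitePresentation R S]
    (p : Ideal R) [p.IsPrime] (q : Ideal S) [q.IsPrime] [q.LiesOver p]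
    [Algebra.QuasiFiniteAt R q]
    (hgu : CAlg2.IsGeomUnibranch (Localization.AtPrime p))
    (hmin : ∀ 𝔮 ∈ minimalPrimes S, 𝔮.comap (algebraMap R S) ∈ minimalPrimes R)
    (C : Type u) [CommRing C] [Algebra R C]
    (P : PrimeSpectrum (S ⊗[R] C)) (hP : P.asIdeal.comap (algebraMap S (S ⊗[R] C)) = q) :
    EGA43.IsOpenAt (PrimeSpectrum.comap
      (Algebra.TensorProduct.includeRight : C →ₐ[R] S ⊗[R] C).toRingHom) P := by
  have hφ : ((Algebra.TensorProduct.includeRight : C →ₐ[R] S ⊗[R] C).toRingHom).FinitePresentation := by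
    have h1 : (algebraMap C (C ⊗[R] S)).FinitePresentation :=
      RingHom.finitePresentation_algebraMap.mpr inferInstance
    have h2 := h1.comp_surjective
      (g := ((Algebra.TensorProduct.comm R C S : C ⊗[R] S ≃ₐ[R] S ⊗[R] C) : C ⊗[R] S →+* S ⊗[R] C))
      (Algebra.TensorProduct.comm R C S).surjective (by
        have : RingHom.ker
            ((Algebra.TensorProduct.comm R C S : C ⊗[R] S ≃ₐ[R] S ⊗[R] C) : C ⊗[R] S →+* S ⊗[R] C)
            = ⊥ :=
          (RingHom.injective_iff_ker_eq_bot _).mp (Algebra.TensorProduct.comm R C S).injective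
        rw [this]; exact Submodule.fg_bot)
    convert h2 using 1
    ext x
    simp only [AlgHom.toRingHom_eq_coe, RingHom.coe_coe, Algebra.TensorProduct.includeRight_apply,
      RingHom.comp_apply, Algebra.TensorProduct.algebraMap_apply]
    exact (Algebra.TensorProduct.comm_tmul R _ _).symm
  refine QFOpenAt.isOpenAt_comap _ hφ P ?_
  intro y'' hy''
  have hle : y''.asIdeal ≤
      P.asIdeal.comap (Algebra.TensorProduct.includeRight : C →ₐ[R] S ⊗[R] C).toRingHom :=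
    (PrimeSpectrum.le_iff_specializes y'' (PrimeSpectrum.comap _ P)).mpr hy''
  obtain ⟨Q'', hQ''p, hQ''le, hQ''c⟩ :=
    goingDown_tensor_at R S p q hgu hmin C P.asIdeal hP y''.asIdeal hle
  exact ⟨⟨Q'', hQ''p⟩,
    (PrimeSpectrum.le_iff_specializes (⟨Q'', hQ''p⟩ : PrimeSpectrum (S ⊗[R] C)) P).mp hQ''le,
    PrimeSpectrum.ext hQ''c⟩

end Ring

section Sch

/-- A universally open morphism is universally open at every point. -/
theorem isUnivOpenAt_of_universallyOpen {X Y : Scheme.{u}} (f : X ⟶ Y) [UniversallyOpen f]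
    (x : X) : EGA43.IsUnivOpenAt f x := by
  intro Y' g x' _
  exact isOpenAt_of_isOpenMap (pullback.snd f g).isOpenMap x'

/-- A morphism locally of finite presentation and locally quasi-finite which maps maximal points
to maximal points is universally open at every point over a geometrically unibranch point. -/
theorem isUnivOpenAt_of_geomUnibranch {X Y : Scheme.{u}} (f : X ⟶ Y)
    [LocallyOfFinitePresentation f] [LocallyQuasiFinite f] (x : X)
    (hy : CAlg2.IsGeomUnibranch (Y.presheaf.stalk (f.base x)))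
    (hmax : ∀ ξ : X, (∀ ξ' : X, ξ' ⤳ ξ → ξ' = ξ) → ∀ η' : Y, η' ⤳ f ξ → η' = f ξ) :
    EGA43.IsUnivOpenAt f x := by
  intro Y' g x' hx'
  set y' := (pullback.snd f g).base x' with hy'
  have hcond : f.base x = g.base y' := by
    rw [← hx', hy', ← Scheme.Hom.comp_apply, ← Scheme.Hom.comp_apply, pullback.condition]
  -- affine charts
  obtain ⟨_, ⟨V, hV, rfl⟩, hxV, -⟩ := Y.isBasis_affineOpens.exists_subset_of_mem_open
    (Set.mem_univ (f.base x)) isOpen_univ
  obtain ⟨_, ⟨U, hU, rfl⟩, hxU, hUV⟩ := X.isBasis_affineOpens.exists_subset_of_mem_open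
    (show x ∈ ((f ⁻¹ᵁ V : X.Opens) : Set X) from hxV) (f ⁻¹ᵁ V).2
  obtain ⟨_, ⟨V', hV', rfl⟩, hyV', hV'V⟩ := Y'.isBasis_affineOpens.exists_subset_of_mem_open
    (show y' ∈ ((g ⁻¹ᵁ V : Y'.Opens) : Set Y') from by
      show g.base y' ∈ (V : Set Y)
      rw [← hcond]; exact hxV) (g ⁻¹ᵁ V).2
  have eU : U ≤ f ⁻¹ᵁ V := hUV
  have eV' : V' ≤ g ⁻¹ᵁ V := hV'V
  have hψfp : (f.appLE V U eU).hom.FinitePresentation :=
    HasRingHomProperty.appLE @LocallyOfFinitePresentation f inferInstance ⟨V, hV⟩ ⟨U, hU⟩ eU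
  have hψqf : (f.appLE V U eU).hom.QuasiFinite :=
    HasRingHomProperty.appLE @LocallyQuasiFinite f inferInstance ⟨V, hV⟩ ⟨U, hU⟩ eU
  letI algS : Algebra Γ(Y, V) Γ(X, U) := (f.appLE V U eU).hom.toAlgebra
  letI algT : Algebra Γ(Y, V) Γ(Y', V') := (g.appLE V V' eV').hom.toAlgebra
  haveI : Algebra.FinitePresentation Γ(Y, V) Γ(X, U) := hψfp
  haveI : Algebra.QuasiFinite Γ(Y, V) Γ(X, U) := hψqf
  have e₁ : Spec.map (CommRingCat.ofHom (algebraMap Γ(Y, V) Γ(X, U))) ≫ hV.fromSpec =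
      hU.fromSpec ≫ f := IsAffineOpen.SpecMap_appLE_fromSpec f hV hU eU
  have e₂ : Spec.map (CommRingCat.ofHom (algebraMap Γ(Y, V) Γ(Y', V'))) ≫ hV.fromSpec =
      hV'.fromSpec ≫ g := IsAffineOpen.SpecMap_appLE_fromSpec g hV hV' eV'
  obtain ⟨c, hcO, hc1, hc2, hcr⟩ := exists_chart f g Γ(Y, V) Γ(X, U) Γ(Y', V')
    hU.fromSpec hV.fromSpec hV'.fromSpec e₁ e₂
  obtain ⟨P, hP⟩ : x' ∈ Set.range c.base := by
    rw [hcr]
    refine ⟨?_, ?_⟩
    · show (pullback.fst f g).base x' ∈ Set.range hU.fromSpec.base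
      rw [hU.range_fromSpec, hx']; exact hxU
    · show (pullback.snd f g).base x' ∈ Set.range hV'.fromSpec.base
      rw [hV'.range_fromSpec]; exact hyV'
  -- the point of `Spec Γ(X, U)` under `P`
  obtain ⟨x₀, hx₀⟩ : ∃ x₀ : Spec Γ(X, U), x₀ = (specInl Γ(Y, V) Γ(X, U) Γ(Y', V')).base P :=
    ⟨_, rfl⟩
  have hx₀x : hU.fromSpec.base x₀ = x := by
    rw [hx₀, ← Scheme.Hom.comp_apply, ← hc1, Scheme.Hom.comp_apply, hP, hx']
  have hnat' : ∀ z : Spec Γ(X, U),
      hV.fromSpec (Spec.map (f.appLE V U eU) z) = f (hU.fromSpec z) := fun z => by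
    rw [← Scheme.Hom.comp_apply, ← Scheme.Hom.comp_apply]
    exact congrArg (fun φ : Spec Γ(X, U) ⟶ Y => φ.base z) e₁
  have hgu : CAlg2.IsGeomUnibranch
      (Localization.AtPrime (x₀.asIdeal.comap (f.appLE V U eU).hom)) := by
    have h1 : CAlg2.IsGeomUnibranch
        (Y.presheaf.stalk (hV.fromSpec (Spec.map (f.appLE V U eU) x₀))) := by
      rw [hnat', hx₀x]; exact hy
    let e₁' : Y.presheaf.stalk (hV.fromSpec (Spec.map (f.appLE V U eU) x₀)) ≃+*
        (Spec Γ(Y, V)).presheaf.stalk (Spec.map (f.appLE V U eU) x₀) :=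
      (asIso (hV.fromSpec.stalkMap (Spec.map (f.appLE V U eU) x₀))).commRingCatIsoToRingEquiv
    let e₂' : (Spec Γ(Y, V)).presheaf.stalk (Spec.map (f.appLE V U eU) x₀) ≃+*
        Localization.AtPrime (x₀.asIdeal.comap (f.appLE V U eU).hom) :=
      (Spec.stalkIso Γ(Y, V) (Spec.map (f.appLE V U eU) x₀)).commRingCatIsoToRingEquiv
    exact SmoothUnibranch.isGeomUnibranch_of_ringEquiv (e₁'.trans e₂').symm h1
  have hmin : ∀ 𝔮 ∈ minimalPrimes Γ(X, U),
      𝔮.comap (f.appLE V U eU).hom ∈ minimalPrimes Γ(Y, V) := by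
    intro 𝔮 h𝔮
    haveI h𝔮p : 𝔮.IsPrime := h𝔮.1.1
    have hξ₀ : ∀ ξ' : Spec Γ(X, U), ξ' ⤳ (⟨𝔮, h𝔮p⟩ : PrimeSpectrum Γ(X, U)) →
        ξ' = (⟨𝔮, h𝔮p⟩ : PrimeSpectrum Γ(X, U)) := by
      intro ξ' h
      have hle : ξ'.asIdeal ≤ 𝔮 := (PrimeSpectrum.le_iff_specializes ξ' ⟨𝔮, h𝔮p⟩).mpr h
      exact PrimeSpectrum.ext (le_antisymm hle (h𝔮.2 ⟨ξ'.isPrime, bot_le⟩ hle))
    have h1 := max_of_isOpenEmbedding _ hU.fromSpec.isOpenEmbedding
      (⟨𝔮, h𝔮p⟩ : PrimeSpectrum Γ(X, U)) hξ₀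
    have h2 := hmax _ h1
    rw [← hnat'] at h2
    refine ⟨⟨Ideal.comap_isPrime _ _, bot_le⟩, fun p' hp' hle => ?_⟩
    have h3 : (⟨p', hp'.1⟩ : PrimeSpectrum Γ(Y, V)) ⤳
        Spec.map (f.appLE V U eU) (⟨𝔮, h𝔮p⟩ : PrimeSpectrum Γ(X, U)) :=
      (PrimeSpectrum.le_iff_specializes (⟨p', hp'.1⟩ : PrimeSpectrum Γ(Y, V)) _).mp hle
    have h4 := h2 (hV.fromSpec (⟨p', hp'.1⟩ : PrimeSpectrum Γ(Y, V)))
      (h3.map hV.fromSpec.continuous)
    have h5 := hV.fromSpec.isOpenEmbedding.injective h4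
    exact (congrArg PrimeSpectrum.asIdeal h5).ge
  haveI hqp : (x₀.asIdeal).IsPrime := x₀.isPrime
  haveI : (x₀.asIdeal).LiesOver (x₀.asIdeal.comap (f.appLE V U eU).hom) := ⟨rfl⟩
  haveI : Algebra.QuasiFiniteAt Γ(Y, V) x₀.asIdeal := inferInstance
  have key : EGA43.IsOpenAt (specInr Γ(Y, V) Γ(X, U) Γ(Y', V')).base P := by
    have hPq : (P : PrimeSpectrum (Γ(X, U) ⊗[Γ(Y, V)] Γ(Y', V'))).asIdeal.comap
        (algebraMap Γ(X, U) (Γ(X, U) ⊗[Γ(Y, V)] Γ(Y', V'))) = x₀.asIdeal := by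
      rw [hx₀]; rfl
    exact isOpenAt_includeRight_of_geomUnibranch Γ(Y, V) Γ(X, U)
      (x₀.asIdeal.comap (f.appLE V U eU).hom) x₀.asIdeal hgu hmin Γ(Y', V') P hPq
  have := isOpenAt_of_square c.base c.continuous (specInr Γ(Y, V) Γ(X, U) Γ(Y', V')).base
    (pullback.snd f g).base hV'.fromSpec.base hV'.fromSpec.isOpenEmbedding.isOpenMap
    (fun a => by rw [← Scheme.Hom.comp_apply, hc2, Scheme.Hom.comp_apply]) P key
  rw [hP] at this
  exact this

end Sch

end Groth.Agent.Lib.Helper8.QFUnivOpenAt
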