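import Mathlib
import Groth.Prelude.Def_MoreMor
import Groth.Prelude.Def_EGA43
import Groth.Agent.Lib.Helper8.FibIntN

set_option autoImplicit false
universe u
open AlgebraicGeometry CategoryTheory Limits

namespace Groth.Agent.Lib.Helper8.FibIntN2

open Groth.Agent.Lib.Helper8.FibInt Groth.Agent.Lib.Helper8.FibIntGP
  Groth.Agent.Lib.Helper8.FibIntW Groth.Agent.Lib.Helper8.FibIntS Groth.Agent.Lib.Helper8.FibIntS2
  Groth.Agent.Lib.Helper8.FibIntN
  Groth.Agent.Lib.Helper8.EtLocUnr Groth.Agent.Lib.Helper8.EtLocPI

variable {X Y : Scheme.{u}} (f : X ⟶ Y)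

theorem card_geomFiber_eq [LocallyQuasiFinite f] [LocallyOfFiniteType f] (y : Y)
    (hfin : (f ⁻¹' {y}).Finite) :
    ENat.card ↥(MoreMor.geomFiber f y) =
      ((MoreMor.fibreIntegral f (fun _ => 1) y).toNat : ℕ∞) := by
  have hsq1 : IsPullback (f.fiberι y) (f.fiberToSpecResidueField y) f
      (Y.fromSpecResidueField y) := IsPullback.of_hasPullback f (Y.fromSpecResidueField y)
  have hc := (IsPullback.of_hasPullback (f.fiberToSpecResidueField y)
    (Spec.map (CommRingCat.ofHom (algebraMap (Y.residueField y)
      (SeparableClosure (Y.residueField y)))))).paste_horiz hsq1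
  have hgpt : (Spec.map (CommRingCat.ofHom (algebraMap (Y.residueField y)
      (SeparableClosure (Y.residueField y)))) ≫ Y.fromSpecResidueField y)
      (IsLocalRing.closedPoint (SeparableClosure (Y.residueField y))) = y := by
    rw [Scheme.Hom.comp_apply, Scheme.fromSpecResidueField_apply]
  obtain ⟨hGfin, hcard, -⟩ := card_eq_fibreIntegral_of_isPullback f
    (SeparableClosure (Y.residueField y)) _ _ _ hc
    (IsLocalRing.closedPoint (SeparableClosure (Y.residueField y))) y hgpt hfin
  haveI := hGfin
  show ENat.card ↥(pullback (f.fiberToSpecResidueField y)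
      (Spec.map (CommRingCat.ofHom (algebraMap (Y.residueField y)
        (SeparableClosure (Y.residueField y)))))) = _
  rw [ENat.card_eq_coe_natCard, ← hcard, Int.toNat_natCast]

lemma locallyQuasiFinite_of_unramified [LocallyOfFiniteType f] [FormallyUnramified f] :
    LocallyQuasiFinite f :=
  (Scheme.Hom.quasiFiniteLocus_eq_top_iff (f := f)).mp
    (top_le_iff.mp fun x _ => quasiFiniteAt_of_unramified f x)

end Groth.Agent.Lib.Helper8.FibIntN2
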