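import Mathlib
import Groth.Prelude.Def_MoreMor
import Groth.Prelude.Def_EGA43
import Groth.Agent.Lib.Helper8.FibIntN2
import Groth.Agent.Lib.Helper7.ValSpecDvr

set_option autoImplicit false
universe u
open AlgebraicGeometry CategoryTheory Limits

namespace Groth.Agent.Lib.Helper8.FibIntD

open Groth.Agent.Lib.Helper8.FibInt Groth.Agent.Lib.Helper8.FibIntGP
  Groth.Agent.Lib.Helper8.FibIntW Groth.Agent.Lib.Helper8.FibIntS Groth.Agent.Lib.Helper8.FibIntS2
  Groth.Agent.Lib.Helper8.FibIntN Groth.Agent.Lib.Helper8.FibIntN2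
  Groth.Agent.Lib.Helper8.EtLocUnr Groth.Agent.Lib.Helper8.EtLocPI

section SD

variable {U V U' V' : Scheme.{u}}

/-- Separable residue degree one is preserved by base change. -/
lemma sepDeg_eq_one_of_isPullback (π : U ⟶ V) [LocallyQuasiFinite π] [LocallyOfFiniteType π]
    (π' : U' ⟶ V') (h : U' ⟶ U) (g : V' ⟶ V) (hc : IsPullback h π' π g) (t : U')
    (hfin : (π ⁻¹' {g (π' t)}).Finite) (h1 : sepDeg π (h t) = 1) : sepDeg π' t = 1 := by
  classical
  haveI : LocallyQuasiFinite π' :=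
    MorphismProperty.of_isPullback (P := @LocallyQuasiFinite) hc inferInstance
  haveI : LocallyOfFiniteType π' :=
    MorphismProperty.of_isPullback (P := @LocallyOfFiniteType) hc inferInstance
  let w : U → ℤ := fun u => if u = h t then 1 else 0
  have hbc := fibreIntegral_baseChange π π' h g hc w (π' t) hfin
  have hπ : π (h t) = g (π' t) := by
    rw [← Scheme.Hom.comp_apply, hc.w, Scheme.Hom.comp_apply]
  have hR : MoreMor.fibreIntegral π w (g (π' t)) = 1 := by
    rw [fibreIntegral_eq', finsum_eq_single _ (⟨h t, hπ⟩ : {u : U // π u = g (π' t)})]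
    · show w (h t) * (sepDeg π (h t) : ℤ) = 1
      rw [h1]; simp [w]
    · rintro ⟨u, hu⟩ hne
      have hne' : u ≠ h t := fun e => hne (Subtype.ext e)
      show w u * _ = 0
      simp [w, hne']
  have hL := term_le_fibreIntegral π' (w ∘ ⇑h) (π' t) hbc.2
    (fun u _ => by
      show 0 ≤ w (h u)
      simp only [w]
      split_ifs <;> norm_num) t rfl
  rw [hbc.1, hR] at hL
  have h2 : (w ∘ ⇑h) t = 1 := by simp [w]
  rw [h2, one_mul] at hL
  have h3 := sepDeg_pos' π' t
  have h4 : sepDeg π' t ≤ 1 := by exact_mod_cast hL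
  omega

end SD

section P1

variable {X Y : Scheme.{u}} (f : X ⟶ Y) [LocallyQuasiFinite f] [LocallyOfFiniteType f]
  [IsSeparated f]

theorem exists_etale_nbhd_sepDeg_one (y : Y) (hfin : (f ⁻¹' {y}).Finite) :
    ∃ (E : Scheme.{u}) (e : E ⟶ Y) (e₀ : E), Etale e ∧ e e₀ = y ∧
      ∀ t : ↥(pullback f e), pullback.snd f e t = e₀ → sepDeg (pullback.snd f e) t = 1 := by
  haveI : Finite ↥(f ⁻¹' {y}) := hfin.to_subtype
  obtain ⟨E, e, e₀, he, hee₀, n, VV, vv, -, -, hV, hexh⟩ :=
    EtLocPI2.exists_etale_nbhd_split_pi_clopen f y (fun i : ↥(f ⁻¹' {y}) => i.1)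
      Subtype.val_injective (fun i => i.2) (fun i => f.quasiFiniteAt i.1)
  refine ⟨E, e, e₀, he, hee₀, ?_⟩
  intro t ht
  have hft : f (pullback.fst f e t) = y := by
    rw [← Scheme.Hom.comp_apply, pullback.condition, Scheme.Hom.comp_apply, ht, hee₀]
  obtain ⟨j, hj⟩ := hexh t ⟨pullback.fst f e t, hft⟩ ht rfl
  have h1 := (hV _ j).2.2.2.1 t hj ht
  rw [h1]
  exact sepDeg_eq_one_of_pi _ _ (hV _ j).2.2.2.2.1

end P1

section Count

theorem card_eq_of_point {X Y E T XE XT : Scheme.{u}} (f : X ⟶ Y) [LocallyQuasiFinite f]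
    [LocallyOfFiniteType f] (e : E ⟶ Y) (πE : XE ⟶ E) (a : XE ⟶ X) (sq1 : IsPullback a πE f e)
    (r : T ⟶ E) (πT : XT ⟶ T) (b : XT ⟶ XE) (sq2 : IsPullback b πT πE r)
    [Subsingleton T] (pt : T) (hfin : (f ⁻¹' {e (r pt)}).Finite)
    (hpi : ∀ u : XE, πE u = r pt → sepDeg πE u = 1) :
    Finite XT ∧ (Nat.card XT : ℤ) = MoreMor.fibreIntegral f (fun _ => 1) (e (r pt)) := by
  haveI : LocallyQuasiFinite πE :=
    MorphismProperty.of_isPullback (P := @LocallyQuasiFinite) sq1 inferInstance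
  haveI : LocallyOfFiniteType πE :=
    MorphismProperty.of_isPullback (P := @LocallyOfFiniteType) sq1 inferInstance
  haveI : LocallyQuasiFinite πT :=
    MorphismProperty.of_isPullback (P := @LocallyQuasiFinite) sq2 inferInstance
  haveI : LocallyOfFiniteType πT :=
    MorphismProperty.of_isPullback (P := @LocallyOfFiniteType) sq2 inferInstance
  have h1 := fibreIntegral_baseChange f πE a e sq1 (fun _ => 1) (r pt) hfin
  have h2 := fibreIntegral_baseChange πE πT b r sq2 ((fun _ => (1 : ℤ)) ∘ ⇑a) pt h1.2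
  have hall : ∀ t : XT, πT t = pt := fun t => Subsingleton.elim _ _
  have hfinT : Finite XT := by
    have hu : (Set.univ : Set XT) = πT ⁻¹' {pt} := by
      ext p
      constructor
      · intro _; exact hall p
      · intro _; exact Set.mem_univ p
    exact Set.finite_univ_iff.mp (hu ▸ h2.2)
  haveI := hfinT
  refine ⟨hfinT, ?_⟩
  have hterm : ∀ u : {u : XT // πT u = pt},
      (((fun _ => (1 : ℤ)) ∘ ⇑a) ∘ ⇑b) u.1 * (sepDeg πT u.1 : ℤ) = 1 := by
    intro u
    have hb : πE (b u.1) = r (πT u.1) := by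
      rw [← Scheme.Hom.comp_apply, sq2.w, Scheme.Hom.comp_apply]
    have h3 : sepDeg πT u.1 = 1 :=
      sepDeg_eq_one_of_isPullback πE πT b r sq2 u.1 (by rw [u.2]; exact h1.2)
        (hpi _ (by rw [hb, u.2]))
    rw [h3]
    simp
  haveI := Fintype.ofFinite {u : XT // πT u = pt}
  rw [← h1.1, ← h2.1, fibreIntegral_eq', finsum_congr hterm, finsum_eq_sum_of_fintype,
    Finset.sum_const, Finset.card_univ, nsmul_eq_mul, mul_one, ← Nat.card_eq_fintype_card,
    Nat.card_congr (Equiv.subtypeUnivEquiv hall)]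

end Count

end Groth.Agent.Lib.Helper8.FibIntD
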