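import Mathlib
import Groth.Prelude.Def_MoreMor
import Groth.Prelude.Def_EGA43
import Groth.Agent.Lib.Helper8.FibIntD

set_option autoImplicit false
universe u
open AlgebraicGeometry CategoryTheory Limits

namespace Groth.Agent.Lib.Helper8.FibIntD

open Groth.Agent.Lib.Helper8.FibInt Groth.Agent.Lib.Helper8.FibIntGP
  Groth.Agent.Lib.Helper8.FibIntW Groth.Agent.Lib.Helper8.FibIntS Groth.Agent.Lib.Helper8.FibIntS2
  Groth.Agent.Lib.Helper8.FibIntN Groth.Agent.Lib.Helper8.FibIntN2
  Groth.Agent.Lib.Helper8.EtLocUnr Groth.Agent.Lib.Helper8.EtLocPI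

theorem exists_dvr_realizing {X Y : Scheme.{u}} [IsLocallyNoetherian Y] (f : X ⟶ Y)
    [IsSeparated f] [LocallyQuasiFinite f] [LocallyOfFiniteType f] [QuasiCompact f] (y y' : Y)
    (hne : y' ≠ y) (hgen : y' ⤳ y) :
    ∃ (A : Type u) (_ : CommRing A) (_ : IsDomain A) (_ : IsDiscreteValuationRing A)
      (g : Spec (CommRingCat.of A) ⟶ Y),
      g.base (IsLocalRing.closedPoint A) = y ∧
      g.base (genericPoint (Spec (CommRingCat.of A))) = y' ∧
      MoreMor.nGeomConnComp f y =
        ENat.card ↥((pullback.snd f g).fiber (IsLocalRing.closedPoint A)) ∧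
      MoreMor.nGeomConnComp f y' =
        ENat.card ↥((pullback.snd f g).fiber (genericPoint (Spec (CommRingCat.of A)))) := by
  classical
  have hfin : ∀ z : Y, (f ⁻¹' {z}).Finite := fun z => f.finite_preimage_singleton z
  obtain ⟨E', e', e₀', he', he'e₀, hP1⟩ := exists_etale_nbhd_sepDeg_one f y (hfin y)
  haveI := he'
  have hgenE : GeneralizingMap ⇑e' := Flat.generalizingMap e'
  obtain ⟨e₁', he₁sp, he₁y'⟩ := hgenE (show y' ⤳ e' e₀' by rw [he'e₀]; exact hgen)
  have hfin' : ∀ z : E', ((pullback.snd f e') ⁻¹' {z}).Finite := fun z =>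
    (pullback.snd f e').finite_preimage_singleton z
  obtain ⟨E'', e'', e₁'', he'', he''e₁, hP1''⟩ :=
    exists_etale_nbhd_sepDeg_one (pullback.snd f e') e₁' (hfin' e₁')
  haveI := he''
  haveI : IsLocallyNoetherian E' := LocallyOfFiniteType.isLocallyNoetherian e'
  have hne' : e₀' ≠ e''.base e₁'' := by
    intro h
    apply hne
    have h2 : e''.base e₁'' = e₁' := he''e₁
    have h3 : e₀' = e₁' := h.trans h2
    rw [← he₁y', ← h3, he'e₀]
  have hsp' : e''.base e₁'' ⤳ e₀' := by
    have h2 : e''.base e₁'' = e₁' := he''e₁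
    rw [h2]; exact he₁sp
  obtain ⟨A, h, hdvr, hcl, hgenA⟩ :=
    Groth.Agent.Lib.Helper7.exists_dvr_through_specialization e'' e₁'' e₀' hsp' hne'
  obtain ⟨j, hjdef⟩ : ∃ j : Spec (CommRingCat.of ↑(E''.residueField e₁'')) ⟶
      Spec (CommRingCat.of ↥A), j = Spec.map (CommRingCat.ofHom A.subtype) := ⟨_, rfl⟩
  rw [← hjdef] at hgenA
  haveI : Subsingleton ↥(Spec (CommRingCat.of ↑(E''.residueField e₁''))) :=
    inferInstanceAs (Subsingleton (PrimeSpectrum ↑(E''.residueField e₁'')))
  let pt : ↥(Spec (CommRingCat.of ↑(E''.residueField e₁''))) :=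
    IsLocalRing.closedPoint ↑(E''.residueField e₁'')
  have hj : j pt = genericPoint (Spec (CommRingCat.of ↥A)) := by
    rw [genericPoint_eq_bot_of_affine (CommRingCat.of ↥A), hjdef]
    apply PrimeSpectrum.ext
    have hpt : pt.asIdeal = ⊥ := (Ideal.eq_bot_or_top pt.asIdeal).resolve_right pt.2.ne_top
    show Ideal.comap A.subtype pt.asIdeal = ⊥
    rw [hpt]
    exact Ideal.comap_bot_of_injective _ Subtype.val_injective
  have hjh : h (j pt) = e₁' := by
    rw [← Scheme.Hom.comp_apply, hgenA, Scheme.Hom.comp_apply,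
      Scheme.fromSpecResidueField_apply]
    exact he''e₁
  have c1 : (h ≫ e').base (IsLocalRing.closedPoint ↥A) = y :=
    (congrArg (fun z => e'.base z) hcl).trans he'e₀
  have c2 : (h ≫ e').base (genericPoint (Spec (CommRingCat.of ↥A))) = y' := by
    rw [← hj]
    exact (congrArg (fun z => e'.base z) hjh).trans he₁y'
  refine ⟨↥A, inferInstance, inferInstance, hdvr, h ≫ e', c1, c2, ?_, ?_⟩
  · -- closed point
    haveI : Subsingleton ↥(Spec ((Spec (CommRingCat.of ↥A)).residueField
        (IsLocalRing.closedPoint ↥A))) :=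
      inferInstanceAs (Subsingleton (PrimeSpectrum
        ↑((Spec (CommRingCat.of ↥A)).residueField (IsLocalRing.closedPoint ↥A))))
    have sq2 := (IsPullback.of_hasPullback (pullback.snd f (h ≫ e'))
      ((Spec (CommRingCat.of ↥A)).fromSpecResidueField (IsLocalRing.closedPoint ↥A))).paste_horiz
      (isPullback_bcMap f e' (h ≫ e') h rfl)
    let ptT : ↥(Spec ((Spec (CommRingCat.of ↥A)).residueField (IsLocalRing.closedPoint ↥A))) :=
      IsLocalRing.closedPoint _
    have hr : ((Spec (CommRingCat.of ↥A)).fromSpecResidueField (IsLocalRing.closedPoint ↥A) ≫ h)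
        ptT = e₀' := by
      rw [Scheme.Hom.comp_apply, Scheme.fromSpecResidueField_apply]
      exact hcl
    obtain ⟨hF, hcard⟩ := card_eq_of_point f e' (pullback.snd f e') (pullback.fst f e')
      (IsPullback.of_hasPullback f e')
      ((Spec (CommRingCat.of ↥A)).fromSpecResidueField (IsLocalRing.closedPoint ↥A) ≫ h) _ _ sq2
      ptT (hfin _) (fun u hu => hP1 u (by rw [hu, hr]))
    rw [hr, he'e₀] at hcard
    haveI : Finite ↥((pullback.snd f (h ≫ e')).fiber (IsLocalRing.closedPoint ↥A)) := hF
    rw [nGeomConnComp_eq f y (hfin y), ENat.card_eq_coe_natCard, ← hcard, Int.toNat_natCast]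
    rfl
  · -- generic point
    have hcompat : (pullback.fst (pullback.snd f (h ≫ e')) j ≫ bcMap f e' (h ≫ e') h rfl) ≫
        pullback.snd f e' =
        (pullback.snd (pullback.snd f (h ≫ e')) j ≫ E''.fromSpecResidueField e₁'') ≫ e'' := by
      rw [Category.assoc, bcMap_snd, ← Category.assoc, pullback.condition, Category.assoc,
        Category.assoc, hgenA]
    have big := (IsPullback.of_hasPullback (pullback.snd f (h ≫ e')) j).paste_horiz
      (isPullback_bcMap f e' (h ≫ e') h rfl)
    rw [hgenA] at big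
    have sq2 : IsPullback (pullback.lift _ _ hcompat)
        (pullback.snd (pullback.snd f (h ≫ e')) j)
        (pullback.snd (pullback.snd f e') e'') (E''.fromSpecResidueField e₁'') := by
      refine IsPullback.of_right ?_ (pullback.lift_snd _ _ _)
        (IsPullback.of_hasPullback (pullback.snd f e') e'')
      rw [pullback.lift_fst]
      exact big
    have hr : e'' ((E''.fromSpecResidueField e₁'') pt) = e₁' := by
      rw [Scheme.fromSpecResidueField_apply]; exact he''e₁
    obtain ⟨hF, hcard⟩ := card_eq_of_point (pullback.snd f e') e''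
      (pullback.snd (pullback.snd f e') e'') (pullback.fst (pullback.snd f e') e'')
      (IsPullback.of_hasPullback _ _) (E''.fromSpecResidueField e₁'') _ _ sq2 pt (hfin' _)
      (fun u hu => hP1'' u (by rw [hu, Scheme.fromSpecResidueField_apply]))
    rw [hr] at hcard
    have hb : MoreMor.fibreIntegral (pullback.snd f e') (fun _ => 1) e₁' =
        MoreMor.fibreIntegral f (fun _ => 1) (e' e₁') :=
      (fibreIntegral_baseChange f (pullback.snd f e') (pullback.fst f e') e'
        (IsPullback.of_hasPullback f e') (fun _ => 1) e₁' (hfin _)).1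
    rw [hb, he₁y'] at hcard
    haveI : IsPreimmersion j := by
      rw [hjdef]
      exact IsPreimmersion.of_isLocalization (nonZeroDivisors ↥A)
    haveI : IsPreimmersion (pullback.fst (pullback.snd f (h ≫ e')) j) :=
      MorphismProperty.pullback_fst (P := @IsPreimmersion) _ _ inferInstance
    have hinj : Function.Injective (pullback.fst (pullback.snd f (h ≫ e')) j) :=
      (pullback.fst (pullback.snd f (h ≫ e')) j).isEmbedding.injective
    have hrange : Set.range (pullback.fst (pullback.snd f (h ≫ e')) j) =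
        (pullback.snd f (h ≫ e')) ⁻¹' {genericPoint (Spec (CommRingCat.of ↥A))} := by
      rw [Scheme.Pullback.range_fst]
      congr 1
      ext z
      constructor
      · rintro ⟨p, rfl⟩
        rw [Subsingleton.elim p pt]; exact hj
      · intro hz
        exact ⟨pt, hj.trans (Eq.symm hz)⟩
    haveI := hF
    have e1 : ENat.card ↥((pullback.snd f (h ≫ e')).fiber
        (genericPoint (Spec (CommRingCat.of ↥A)))) =
        ENat.card ↥(pullback (pullback.snd f (h ≫ e')) j) := by
      rw [ENat.card_congr ((pullback.snd f (h ≫ e')).fiberHomeo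
        (genericPoint (Spec (CommRingCat.of ↥A)))).toEquiv, ← hrange]
      exact (ENat.card_congr (Equiv.ofInjective _ hinj)).symm
    rw [e1, nGeomConnComp_eq f y' (hfin y'), ENat.card_eq_coe_natCard, ← hcard, Int.toNat_natCast]

end Groth.Agent.Lib.Helper8.FibIntD
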