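import Mathlib

/-!
# `B[X]/(f)` for `f` monic with irreducible separable reduction over a local ring `B`

The algebra `AdjoinRoot f` is then a local ring, finite free and étale over `B`.
-/

set_option autoImplicit false

open IsLocalRing Polynomial

universe u

namespace Groth.Agent.Lib.Helper8.AdjoinRootLocal

variable (B : Type u) [CommRing B] [IsLocalRing B] (f : B[X])

/-- The extended maximal ideal of `AdjoinRoot f` is maximal when the reduction of `f` is
irreducible. -/
theorem isMaximal_map (hirr : Irreducible (f.map (Ideal.Quotient.mk (maximalIdeal B)))) :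
    ((maximalIdeal B).map (AdjoinRoot.of f)).IsMaximal := by
  letI : Field (B ⧸ maximalIdeal B) := Ideal.Quotient.field _
  have hmax : (Ideal.span ({f.map (Ideal.Quotient.mk (maximalIdeal B))} :
      Set (B ⧸ maximalIdeal B)[X])).IsMaximal := PrincipalIdealRing.isMaximal_of_irreducible hirr
  have hF : IsField ((B ⧸ maximalIdeal B)[X] ⧸
      Ideal.span ({f.map (Ideal.Quotient.mk (maximalIdeal B))} : Set (B ⧸ maximalIdeal B)[X])) :=
    (Ideal.Quotient.maximal_ideal_iff_isField_quotient _).mp hmax
  have hF' : IsField (AdjoinRoot f ⧸ (maximalIdeal B).map (AdjoinRoot.of f)) :=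
    MulEquiv.isField hF
      (AdjoinRoot.quotAdjoinRootEquivQuotPolynomialQuot (maximalIdeal B) f).toMulEquiv
  exact Ideal.Quotient.maximal_of_isField _ hF'

theorem isLocalRing (hf : f.Monic)
    (hirr : Irreducible (f.map (Ideal.Quotient.mk (maximalIdeal B)))) :
    IsLocalRing (AdjoinRoot f) := by
  have := hf.finite_adjoinRoot
  have hI := isMaximal_map B f hirr
  refine IsLocalRing.of_unique_max_ideal ⟨_, hI, fun M hM => ?_⟩
  have : M.IsMaximal := hM
  have h1 : (M.comap (algebraMap B (AdjoinRoot f))).IsMaximal :=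
    Ideal.isMaximal_comap_of_isIntegral_of_isMaximal M
  have h2 : M.comap (algebraMap B (AdjoinRoot f)) = maximalIdeal B := eq_maximalIdeal h1
  have h3 : (maximalIdeal B).map (AdjoinRoot.of f) ≤ M := by
    rw [Ideal.map_le_iff_le_comap]
    exact h2.ge
  exact (hI.eq_of_le hM.ne_top h3).symm

theorem maximalIdeal_eq (hf : f.Monic)
    (hirr : Irreducible (f.map (Ideal.Quotient.mk (maximalIdeal B))))
    [IsLocalRing (AdjoinRoot f)] :
    maximalIdeal (AdjoinRoot f) = (maximalIdeal B).map (AdjoinRoot.of f) :=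
  (eq_maximalIdeal (isMaximal_map B f hirr)).symm

theorem isUnit_derivative (hf : f.Monic)
    (hirr : Irreducible (f.map (Ideal.Quotient.mk (maximalIdeal B))))
    (hsep : (f.map (Ideal.Quotient.mk (maximalIdeal B))).Separable)
    [IsLocalRing (AdjoinRoot f)] :
    IsUnit (aeval (AdjoinRoot.root f) (derivative f)) := by
  rw [AdjoinRoot.aeval_eq]
  by_contra hnu
  have hmem : AdjoinRoot.mk f (derivative f) ∈ maximalIdeal (AdjoinRoot f) := hnu
  rw [maximalIdeal_eq B f hf hirr, ← Ideal.Quotient.eq_zero_iff_mem] at hmem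
  have h2 := congrArg (AdjoinRoot.quotAdjoinRootEquivQuotPolynomialQuot (maximalIdeal B) f) hmem
  rw [AdjoinRoot.quotAdjoinRootEquivQuotPolynomialQuot_mk_of, map_zero,
    Ideal.Quotient.eq_zero_iff_mem, Ideal.mem_span_singleton, ← derivative_map] at h2
  -- `f̄ ∣ f̄'` and coprime ⇒ `f̄` unit
  have hcop : IsCoprime (f.map (Ideal.Quotient.mk (maximalIdeal B)))
      (derivative (f.map (Ideal.Quotient.mk (maximalIdeal B)))) := hsep
  have hu : IsUnit (f.map (Ideal.Quotient.mk (maximalIdeal B))) :=
    hcop.isUnit_of_dvd' dvd_rfl h2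
  exact hirr.not_isUnit hu

/-- `AdjoinRoot f` is étale when `f` is monic and `f'` is invertible in it. -/
theorem etale_of_isUnit_derivative (R : Type u) [CommRing R] (f : R[X]) (hf : f.Monic)
    (hu : IsUnit (aeval (AdjoinRoot.root f) (derivative f))) :
    Algebra.Etale R (AdjoinRoot f) := by
  let P : StandardEtalePair R :=
    { f := f, monic_f := hf, g := derivative f, cond := ⟨1, 0, 1, by simp⟩ }
  have hmap : P.HasMap (AdjoinRoot.root f) := ⟨by
    change aeval (AdjoinRoot.root f) f = 0
    rw [AdjoinRoot.aeval_eq, AdjoinRoot.mk_self], hu⟩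
  let ψ : P.Ring →ₐ[R] AdjoinRoot f := P.lift (AdjoinRoot.root f) hmap
  let χ : AdjoinRoot f →ₐ[R] P.Ring :=
    AdjoinRoot.liftAlgHom f (Algebra.ofId R P.Ring) P.X (by
      have := (StandardEtalePair.hasMap_X (P := P)).1
      simpa [aeval_def] using this)
  have h1 : ψ.comp χ = AlgHom.id R _ := by
    apply AdjoinRoot.algHom_ext
    simp [ψ, χ]
  have h2 : χ.comp ψ = AlgHom.id R _ := by
    apply StandardEtalePair.hom_ext
    simp [ψ, χ]
  let e : P.Ring ≃ₐ[R] AdjoinRoot f := AlgEquiv.ofAlgHom ψ χ h1 h2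
  exact Algebra.Etale.of_equiv e

theorem etale (hf : f.Monic)
    (hirr : Irreducible (f.map (Ideal.Quotient.mk (maximalIdeal B))))
    (hsep : (f.map (Ideal.Quotient.mk (maximalIdeal B))).Separable) :
    Algebra.Etale B (AdjoinRoot f) := by
  have := isLocalRing B f hf hirr
  exact etale_of_isUnit_derivative B f hf (isUnit_derivative B f hf hirr hsep)

end Groth.Agent.Lib.Helper8.AdjoinRootLocal
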