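import Mathlib
import Groth.Agent.Lib.Helper8.AdjoinRootLocal
import Groth.Agent.Lib.Helper8.Hzl.IntegralHens
import Groth.Agent.Lib.Helper8.Hzl.QuasiFiniteLoc

/-!
# Finite étale local algebras over a henselian local ring descend along residually trivial maps
-/

set_option autoImplicit false

open IsLocalRing Polynomial TensorProduct

universe u

namespace Groth.Agent.Lib.Helper8.EssEtComplete

open Groth.Agent.Lib.Helper8

/-- A complete local ring is henselian. -/
theorem henselianLocalRing_of_isAdicComplete (A : Type u) [CommRing A] [IsLocalRing A]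
    [IsAdicComplete (maximalIdeal A) A] : HenselianLocalRing A where
  is_henselian f hf a₀ h₁ h₂ :=
    HenselianRing.is_henselian (I := maximalIdeal A) f hf a₀ h₁ (h₂.map _)

section main

variable (R A E : Type u) [CommRing R] [IsLocalRing R]
  [CommRing A] [HenselianLocalRing A]
  [Algebra R A] [IsLocalHom (algebraMap R A)]
  [CommRing E] [IsLocalRing E] [Algebra A E] [IsLocalHom (algebraMap A E)]
  [Module.Finite A E] [Algebra.Etale A E]
  [Algebra R E] [IsScalarTower R A E]

theorem exists_adjoinRoot_equiv
    (hres : Function.Bijective (ResidueField.map (algebraMap R A))) :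
    ∃ f : R[X], f.Monic ∧ IsLocalRing (AdjoinRoot f) ∧ Algebra.Etale R (AdjoinRoot f) ∧
      Nonempty (E ≃ₐ[A] A ⊗[R] AdjoinRoot f) := by
  classical
  have hflat : Module.Flat A E := inferInstance
  have hff : Module.FaithfullyFlat A E := Module.FaithfullyFlat.of_flat_of_isLocalHom
  haveI : FaithfulSMul A E :=
    (faithfulSMul_iff_algebraMap_injective A E).mpr
      (FaithfulSMul.algebraMap_injective A E)
  haveI : Module.Free A E := Module.free_of_flat_of_isLocalRing
  have hHE : HenselianLocalRing E := Hzl.henselianLocalRing_of_isIntegral A E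
  -- primitive element of the residue extension
  obtain ⟨β₀, hβ₀⟩ := Field.exists_primitive_element (ResidueField A) (ResidueField E)
  have hadj₀ : Algebra.adjoin (ResidueField A) {β₀} = ⊤ := by
    rw [← IntermediateField.adjoin_simple_toSubalgebra_of_isAlgebraic (IsAlgebraic.of_finite _ _),
      hβ₀, IntermediateField.top_toSubalgebra]
  set g : (ResidueField A)[X] := minpoly (ResidueField A) β₀ with hg
  have hgmonic : g.Monic := minpoly.monic (Algebra.IsIntegral.isIntegral β₀)
  have hgirr : Irreducible g := minpoly.irreducible (Algebra.IsIntegral.isIntegral β₀)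
  have hgsep : g.Separable := Algebra.IsSeparable.isSeparable (ResidueField A) β₀
  -- the surjection `R → κ(A)`
  let π : R →+* ResidueField A := (residue A).comp (algebraMap R A)
  have hπ : π = (ResidueField.map (algebraMap R A)).comp (residue R) := by
    ext r; rfl
  have hπsurj : Function.Surjective π := by
    rw [hπ]
    exact hres.2.comp residue_surjective
  obtain ⟨f, hfmap, hfdeg, hfmonic⟩ := Polynomial.lifts_and_natDegree_eq_and_monic
    ((Polynomial.mem_lifts _).mpr (Polynomial.map_surjective π hπsurj g)) hgmonic
  -- reduction of `f` over `κ(R)`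
  let ι : ResidueField R ≃+* ResidueField A := RingEquiv.ofBijective _ hres
  have hfred : (f.map (residue R)).map (ResidueField.map (algebraMap R A)) = g := by
    rw [Polynomial.map_map, ← hfmap, hπ]
  have hirr₀ : Irreducible (f.map (residue R)) := by
    have h1 : Irreducible ((Polynomial.mapEquiv ι) (f.map (residue R))) := by
      change Irreducible ((f.map (residue R)).map (ResidueField.map (algebraMap R A)))
      rw [hfred]; exact hgirr
    exact (MulEquiv.irreducible_iff (Polynomial.mapEquiv ι).toMulEquiv).mp h1
  have hsep₀ : (f.map (residue R)).Separable := by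
    have h1 : ((f.map (residue R)).map (ResidueField.map (algebraMap R A))).Separable := by
      rw [hfred]; exact hgsep
    exact (Polynomial.separable_map (ResidueField.map (algebraMap R A))).mp h1
  have hirr : Irreducible (f.map (Ideal.Quotient.mk (maximalIdeal R))) := hirr₀
  have hsep : (f.map (Ideal.Quotient.mk (maximalIdeal R))).Separable := hsep₀
  have hSloc : IsLocalRing (AdjoinRoot f) := AdjoinRootLocal.isLocalRing R f hfmonic hirr
  have hSet : Algebra.Etale R (AdjoinRoot f) := AdjoinRootLocal.etale R f hfmonic hirr hsep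
  refine ⟨f, hfmonic, hSloc, hSet, ?_⟩
  -- a root of `f` in `E` lifting `β₀`
  have hcomp : (algebraMap E (ResidueField E)).comp (algebraMap R E) =
      (algebraMap (ResidueField A) (ResidueField E)).comp π := by
    ext r
    simp only [RingHom.comp_apply, π]
    rw [IsScalarTower.algebraMap_apply R A E]
    rfl
  have hev : ∀ p : R[X], aeval β₀ (p.map (algebraMap R E)) = aeval β₀ (p.map π) := by
    intro p
    rw [aeval_def, aeval_def, Polynomial.eval₂_map, Polynomial.eval₂_map, hcomp]
  have hroot : ∃ a : E, (f.map (algebraMap R E)).IsRoot a ∧ residue E a = β₀ := by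
    have hT : ∀ f : E[X], f.Monic → ∀ a₀ : ResidueField E, aeval a₀ f = 0 →
        aeval a₀ (derivative f) ≠ 0 → ∃ a : E, f.IsRoot a ∧ residue E a = a₀ :=
      ((HenselianLocalRing.TFAE E).out 0 1).mp hHE
    refine hT (f.map (algebraMap R E)) (hfmonic.map _) β₀ ?_ ?_
    · rw [hev, hfmap]; exact minpoly.aeval _ _
    · rw [Polynomial.derivative_map, hev, ← Polynomial.derivative_map, hfmap]
      exact hgsep.aeval_derivative_ne_zero (minpoly.aeval _ _)
  obtain ⟨a, ha, hares⟩ := hroot
  have hadj : Algebra.adjoin A {a} = ⊤ :=
    (IsLocalRing.adjoin_residue_eq_top_iff_adjoin_eq_top a).mp (by rw [hares]; exact hadj₀)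
  -- the comparison map
  let ψ : AdjoinRoot f →ₐ[R] E := AdjoinRoot.liftAlgHom f (Algebra.ofId R E) a (by
    have := ha
    rw [Polynomial.IsRoot.def, Polynomial.eval_map] at this
    exact this)
  let φ : A ⊗[R] AdjoinRoot f →ₐ[A] E :=
    Algebra.TensorProduct.lift (Algebra.ofId A E) ψ (fun _ _ => Commute.all _ _)
  have hφroot : φ (1 ⊗ₜ AdjoinRoot.root f) = a := by
    simp [φ, ψ]
  have hsurj : Function.Surjective φ := by
    rw [← AlgHom.range_eq_top, eq_top_iff, ← hadj]
    refine Algebra.adjoin_le ?_
    rintro _ rfl
    exact ⟨_, hφroot⟩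
  have := hfmonic.free_adjoinRoot
  have := hfmonic.finite_adjoinRoot
  have hrank1 : Module.finrank A (A ⊗[R] AdjoinRoot f) = f.natDegree := by
    rw [Module.finrank_baseChange]
    exact finrank_quotient_span_eq_natDegree' hfmonic
  have hrank2 : Module.finrank A E = g.natDegree := by
    rw [IsLocalRing.finrank_eq_finrank_residueField]
    exact (IsAdjoinRootMonic.mkOfAdjoinEqTop' hadj₀).finrank
  have hbij : Function.Bijective φ :=
    OrzechProperty.bijective_of_surjective_of_finrank_le φ.toLinearMap hsurj
      (by rw [hrank1, hrank2, hfdeg])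
  exact ⟨(AlgEquiv.ofBijective φ hbij).symm⟩

end main

end Groth.Agent.Lib.Helper8.EssEtComplete
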