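import Mathlib

/-!
# Quotients of henselian local rings are henselian
-/

open IsLocalRing Polynomial

namespace Groth.Agent.Lib.Helper8

lemma isLocalHom_quotient_mk (S : Type*) [CommRing S] [IsLocalRing S] (J : Ideal S) (hJ : J ≠ ⊤) :
    IsLocalHom (Ideal.Quotient.mk J) := by
  refine ⟨fun y hy => ?_⟩
  obtain ⟨z, hz⟩ := hy.exists_right_inv
  obtain ⟨z, rfl⟩ := Ideal.Quotient.mk_surjective z
  rw [← map_mul, ← map_one (Ideal.Quotient.mk J), Ideal.Quotient.eq] at hz
  have h1 : y * z - 1 ∈ maximalIdeal S := IsLocalRing.le_maximalIdeal hJ hz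
  have h2 : IsUnit (y * z) := by
    by_contra h
    have h3 : y * z ∈ maximalIdeal S := h
    have h4 : (1 : S) ∈ maximalIdeal S := by
      have := sub_mem h3 h1
      rwa [sub_sub_cancel] at this
    exact (Ideal.ne_top_iff_one _).mp (maximalIdeal.isMaximal S).ne_top h4
  exact isUnit_of_mul_isUnit_left h2

theorem henselianLocalRing_quotient (S : Type*) [CommRing S] [HenselianLocalRing S] (J : Ideal S)
    (hJ : J ≠ ⊤) : HenselianLocalRing (S ⧸ J) := by
  have hnt : Nontrivial (S ⧸ J) := Ideal.Quotient.nontrivial_iff.mpr hJ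
  have hloc : IsLocalRing (S ⧸ J) :=
    IsLocalRing.of_surjective' (Ideal.Quotient.mk J) Ideal.Quotient.mk_surjective
  have hlh : IsLocalHom (Ideal.Quotient.mk J) := isLocalHom_quotient_mk S J hJ
  refine { hloc with is_henselian := ?_ }
  intro F hF a₀ h₁ h₂
  obtain ⟨G, hG, -, hGm⟩ := Polynomial.lifts_and_natDegree_eq_and_monic
    (Polynomial.mem_lifts_of_surjective Ideal.Quotient.mk_surjective F) hF
  obtain ⟨b₀, rfl⟩ := Ideal.Quotient.mk_surjective a₀
  have e1 : ∀ p : S[X], (p.map (Ideal.Quotient.mk J)).eval (Ideal.Quotient.mk J b₀) =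
      Ideal.Quotient.mk J (p.eval b₀) := fun p => by
    rw [Polynomial.eval_map, Polynomial.eval₂_at_apply]
  have h₁' : G.eval b₀ ∈ maximalIdeal S := by
    rw [mem_maximalIdeal, mem_nonunits_iff]
    intro hu
    have := hu.map (Ideal.Quotient.mk J)
    rw [← e1, hG] at this
    exact h₁ this
  have h₂' : IsUnit (G.derivative.eval b₀) := by
    apply isUnit_of_map_unit (Ideal.Quotient.mk J)
    rw [← e1, ← Polynomial.derivative_map, hG]
    exact h₂
  obtain ⟨b, hb, hb'⟩ := HenselianLocalRing.is_henselian G hGm b₀ h₁' h₂'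
  refine ⟨Ideal.Quotient.mk J b, ?_, ?_⟩
  · rw [Polynomial.IsRoot.def, ← hG, Polynomial.eval_map, Polynomial.eval₂_at_apply, hb, map_zero]
  · rw [← map_sub, mem_maximalIdeal, mem_nonunits_iff]
    intro hu
    exact hb' (isUnit_of_map_unit (Ideal.Quotient.mk J) _ hu)

end Groth.Agent.Lib.Helper8
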