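import Mathlib
import Groth.Agent.Lib.Helper8.EtaleReduced

/-!
# Étale morphisms preserve and reflect reducedness of local rings
-/

set_option autoImplicit false
open CategoryTheory AlgebraicGeometry
universe u

namespace Groth.Agent.Lib.Helper8.EtaleReducedLoc

open Groth.Agent.Lib.Helper8

/-- The nilradical of a standard étale algebra is generated by the nilradical of the base. -/
theorem nilradical_le_map_of_isStandardEtale {R T : Type*} [CommRing R] [CommRing T] [Algebra R T]
    [Algebra.IsStandardEtale R T] :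
    nilradical T ≤ (nilradical R).map (algebraMap R T) :=
  let P := (Algebra.IsStandardEtale.nonempty_standardEtalePresentation (R := R) (S := T)).some
  nilradical_le_map_of_algEquiv P.equivRing (nilradical_standardEtalePair_le P.P)

/-- If `S` is étale over `R`, `Q` is a prime of `S` over `p` and `R_p` is reduced, then `S_Q` is
reduced. -/
theorem isReduced_atPrime_of_etale {R S : Type u} [CommRing R] [CommRing S] [Algebra R S]
    [Algebra.Etale R S] (Q : Ideal S) [Q.IsPrime] (p : Ideal R) [p.IsPrime] [Q.LiesOver p]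
    (Rp : Type*) [CommRing Rp] [Algebra R Rp] [IsLocalization.AtPrime Rp p] [IsReduced Rp]
    (SQ : Type*) [CommRing SQ] [Algebra S SQ] [IsLocalization.AtPrime SQ Q] : IsReduced SQ := by
  have h0 : ∀ r ∈ nilradical R, algebraMap S SQ (algebraMap R S r) = 0 := by
    intro r hr
    have hr' : IsNilpotent r := (mem_nilradical).mp hr
    have h1 : algebraMap R Rp r = 0 := (hr'.map (algebraMap R Rp)).eq_zero
    obtain ⟨u, hu⟩ := (IsLocalization.map_eq_zero_iff p.primeCompl Rp r).mp h1
    have huQ : algebraMap R S u ∈ Q.primeCompl := by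
      intro hmem
      exact u.2 ((Ideal.mem_of_liesOver Q p _).mpr hmem)
    have hunit : IsUnit (algebraMap S SQ (algebraMap R S u)) :=
      IsLocalization.map_units SQ (⟨algebraMap R S u, huQ⟩ : Q.primeCompl)
    have h2 : algebraMap S SQ (algebraMap R S u) * algebraMap S SQ (algebraMap R S r) = 0 := by
      rw [← map_mul, ← map_mul, hu, map_zero, map_zero]
    exact (hunit.mul_right_eq_zero).mp h2
  constructor
  intro y hy
  obtain ⟨a, s, rfl⟩ := IsLocalization.exists_mk'_eq Q.primeCompl y
  have ha : IsNilpotent (algebraMap S SQ a) := by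
    rw [← IsLocalization.mk'_spec SQ a s]
    exact Commute.isNilpotent_mul_right (Commute.all _ _) hy
  obtain ⟨n, hn⟩ := ha
  rw [← map_pow, IsLocalization.map_eq_zero_iff Q.primeCompl] at hn
  obtain ⟨t, ht⟩ := hn
  have hnil : IsNilpotent ((t : S) * a) := by
    refine ⟨n + 1, ?_⟩
    rw [mul_pow, pow_succ a, pow_succ (t : S)]
    calc (t : S) ^ n * t * (a ^ n * a) = (t : S) ^ n * a * (t * a ^ n) := by ring
      _ = 0 := by rw [ht, mul_zero]
  haveI : Algebra.IsEtaleAt R Q := by
    show Algebra.FormallyEtale R (Localization.AtPrime Q)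
    haveI : Algebra.FormallyEtale S (Localization.AtPrime Q) :=
      Algebra.FormallyEtale.of_isLocalization Q.primeCompl
    exact Algebra.FormallyEtale.comp R S _
  obtain ⟨f, hfQ, hf⟩ := Algebra.IsEtaleAt.exists_isStandardEtale (R := R) Q
  have h1 : algebraMap S (Localization.Away f) (t * a) ∈
      (nilradical R).map (algebraMap R (Localization.Away f)) :=
    nilradical_le_map_of_isStandardEtale (mem_nilradical.mpr (hnil.map _))
  have hfunit : IsUnit (algebraMap S SQ f) :=
    IsLocalization.map_units SQ (⟨f, hfQ⟩ : Q.primeCompl)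
  let ψ : Localization.Away f →+* SQ := IsLocalization.Away.lift f hfunit
  have hψ : ∀ b : S, ψ (algebraMap S (Localization.Away f) b) = algebraMap S SQ b := fun b =>
    IsLocalization.Away.lift_eq f hfunit b
  have h2 : (nilradical R).map (algebraMap R (Localization.Away f)) ≤ RingHom.ker ψ := by
    rw [Ideal.map_le_iff_le_comap]
    intro r hr
    rw [Ideal.mem_comap, RingHom.mem_ker, IsScalarTower.algebraMap_apply R S (Localization.Away f),
      hψ]
    exact h0 r hr
  have h3 : algebraMap S SQ (t * a) = 0 := by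
    rw [← hψ]; exact h2 h1
  have htunit : IsUnit (algebraMap S SQ t) := IsLocalization.map_units SQ t
  rw [map_mul] at h3
  have h4 : algebraMap S SQ a = 0 := (htunit.mul_right_eq_zero).mp h3
  rw [IsLocalization.mk'_eq_zero_iff]
  exact (IsLocalization.map_eq_zero_iff Q.primeCompl SQ a).mp h4

/-- For an étale morphism, the local ring at `x` is reduced iff the local ring at `f x` is. -/
theorem isReduced_stalk_iff_of_etale {X Y : Scheme.{u}} (f : X ⟶ Y) [Etale f] (x : X) :
    _root_.IsReduced (X.presheaf.stalk x) ↔ _root_.IsReduced (Y.presheaf.stalk (f x)) := by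
  constructor
  · intro hX
    have hfl : (f.stalkMap x).hom.Flat := Flat.stalkMap f x
    algebraize [(f.stalkMap x).hom]
    haveI : IsLocalHom (algebraMap (Y.presheaf.stalk (f x)) (X.presheaf.stalk x)) :=
      inferInstanceAs (IsLocalHom (f.stalkMap x).hom)
    haveI : Module.FaithfullyFlat (Y.presheaf.stalk (f x)) (X.presheaf.stalk x) :=
      Module.FaithfullyFlat.of_flat_of_isLocalHom
    have hinj : Function.Injective (algebraMap (Y.presheaf.stalk (f x)) (X.presheaf.stalk x)) :=
      FaithfulSMul.algebraMap_injective _ _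
    exact isReduced_of_injective _ hinj
  · intro hY
    obtain ⟨_, ⟨W, hW, rfl⟩, hxW, -⟩ :=
      Y.isBasis_affineOpens.exists_subset_of_mem_open (Set.mem_univ (f x)) isOpen_univ
    obtain ⟨_, ⟨V, hV, rfl⟩, hxV, hVW⟩ :=
      X.isBasis_affineOpens.exists_subset_of_mem_open hxW (W.2.preimage f.continuous)
    replace hVW : V ≤ f ⁻¹ᵁ W := hVW
    have hW : IsAffineOpen W := hW
    have hV : IsAffineOpen V := hV
    have hxV : x ∈ V := hxV
    have hxW : f x ∈ W := hxW
    have het : (f.appLE W V hVW).hom.Etale :=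
      HasRingHomProperty.appLE @Etale f ‹_› ⟨W, hW⟩ ⟨V, hV⟩ hVW
    letI algRA : Algebra Γ(Y, W) Γ(X, V) := (f.appLE W V hVW).hom.toAlgebra
    haveI hetA : Algebra.Etale Γ(Y, W) Γ(X, V) := RingHom.etale_algebraMap.mp het
    let q := (hV.primeIdealOf ⟨x, hxV⟩).asIdeal
    let p := (hW.primeIdealOf ⟨f x, hxW⟩).asIdeal
    haveI : q.LiesOver p :=
      ⟨congr($(IsAffineOpen.comap_primeIdealOf_appLE W hW V hV hVW hxV).1).symm⟩
    letI : Algebra Γ(Y, W) (Y.presheaf.stalk (f x)) := (Y.presheaf.germ W (f x) hxW).hom.toAlgebra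
    letI : Algebra Γ(X, V) (X.presheaf.stalk x) := (X.presheaf.germ V x hxV).hom.toAlgebra
    haveI : IsLocalization.AtPrime (Y.presheaf.stalk (f x)) p := hW.isLocalization_stalk ⟨f x, hxW⟩
    haveI : IsLocalization.AtPrime (X.presheaf.stalk x) q := hV.isLocalization_stalk ⟨x, hxV⟩
    exact isReduced_atPrime_of_etale (R := Γ(Y, W)) (S := Γ(X, V)) q p (Y.presheaf.stalk (f x))
      (X.presheaf.stalk x)

end Groth.Agent.Lib.Helper8.EtaleReducedLoc
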