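import Mathlib
import Groth.Agent.Lib.Helper5.HenselLift

open MvPolynomial Algebra

universe u

namespace Groth.Agent.Lib.Helper8.MvHensel

variable {A : Type u} [CommRing A] {n : ℕ} (P : Fin n → MvPolynomial (Fin n) A)

/-- The quotient `A[T]/(P)`. -/
abbrev Quot : Type u := MvPolynomial (Fin n) A ⧸ Ideal.span (Set.range P)

/-- The Jacobian determinant in the polynomial ring. -/
noncomputable def jac : MvPolynomial (Fin n) A :=
  (Matrix.of (fun i j => MvPolynomial.pderiv j (P i))).det

/-- The image of the Jacobian determinant in the quotient. -/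
noncomputable def jacQ : Quot P := Ideal.Quotient.mk _ (jac P)

/-- The naive pre-submersive presentation. -/
noncomputable def pre : PreSubmersivePresentation A (Quot P) (Fin n) (Fin n) :=
  PreSubmersivePresentation.naive (v := P) id Function.injective_id

lemma pre_jacobian : (pre P).jacobian = jacQ P := by
  classical
  rw [PreSubmersivePresentation.jacobian_eq_jacobiMatrix_det]
  have : (pre P).jacobiMatrix = (Matrix.of (fun i j => MvPolynomial.pderiv j (P i))).transpose := by
    ext i j
    simp [pre]
  rw [this, Matrix.det_transpose]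
  rfl

/-- `(A[T]/(P))[1/det(∂P_i/∂T_j)]` is étale over `A`. -/
instance etale : Algebra.Etale A (Localization.Away (jacQ P)) := by
  let L := PreSubmersivePresentation.localizationAway (Localization.Away (jacQ P)) (jacQ P)
  let C := L.comp (pre P)
  have hC : IsUnit C.jacobian := by
    rw [PreSubmersivePresentation.comp_jacobian_eq_jacobian_smul_jacobian, pre_jacobian,
      PreSubmersivePresentation.localizationAway_jacobian, Algebra.smul_def]
    exact (IsLocalization.Away.algebraMap_isUnit _).mul (IsLocalization.Away.algebraMap_isUnit _)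
  let SP : SubmersivePresentation A (Localization.Away (jacQ P)) (Unit ⊕ Fin n) (Unit ⊕ Fin n) :=
    { C with jacobian_isUnit := hC }
  have : IsStandardSmoothOfRelativeDimension 0 A (Localization.Away (jacQ P)) :=
    SP.isStandardSmoothOfRelativeDimension (by simp [Presentation.dimension])
  infer_instance

open IsLocalRing in
/-- Multivariate Hensel's lemma over a henselian local ring. -/
theorem exists_lift [HenselianLocalRing A] (a₀ : Fin n → A)
    (h₀ : ∀ i, MvPolynomial.eval a₀ (P i) ∈ maximalIdeal A)
    (hJ : IsUnit (Matrix.of (fun i j => MvPolynomial.eval a₀ (MvPolynomial.pderiv j (P i)))).det) :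
    ∃ a : Fin n → A, (∀ i, MvPolynomial.eval a (P i) = 0) ∧
      ∀ j, a j - a₀ j ∈ maximalIdeal A := by
  classical
  let κ := ResidueField A
  let φ₀ : MvPolynomial (Fin n) A →ₐ[A] κ := MvPolynomial.aeval (fun j => residue A (a₀ j))
  have hφ₀ : ∀ p, φ₀ p = residue A (MvPolynomial.eval a₀ p) := by
    intro p
    exact MvPolynomial.aeval_algebraMap_apply (A := A) (B := κ) a₀ p
  have hker : ∀ p ∈ Ideal.span (Set.range P), φ₀ p = 0 := by
    intro p hp
    have : Ideal.span (Set.range P) ≤ RingHom.ker φ₀.toRingHom := by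
      rw [Ideal.span_le]
      rintro _ ⟨i, rfl⟩
      show φ₀ (P i) = 0
      rw [hφ₀]
      exact (residue_eq_zero_iff _).mpr (h₀ i)
    exact this hp
  let φ₁ : Quot P →ₐ[A] κ := Ideal.Quotient.liftₐ _ φ₀ hker
  have hφ₁ : ∀ p, φ₁ (Ideal.Quotient.mk _ p) = φ₀ p := fun p => rfl
  have hjac : φ₁ (jacQ P) = residue A
      (Matrix.of (fun i j => MvPolynomial.eval a₀ (MvPolynomial.pderiv j (P i)))).det := by
    rw [jacQ, hφ₁, hφ₀, jac, RingHom.map_det]
    rfl
  have hunit : ∀ y : Submonoid.powers (jacQ P), IsUnit (φ₁ y) := by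
    rintro ⟨_, m, rfl⟩
    rw [map_pow, hjac]
    exact (hJ.map (residue A)).pow m
  let χ : Localization.Away (jacQ P) →ₐ[A] κ :=
    IsLocalization.liftAlgHom (M := Submonoid.powers (jacQ P)) (f := φ₁) hunit
  have hχ : ∀ c : Quot P, χ (algebraMap _ (Localization.Away (jacQ P)) c) = φ₁ c := fun c => by
    simp [χ, IsLocalization.lift_eq]
  let q : Ideal (Localization.Away (jacQ P)) := RingHom.ker χ.toRingHom
  have : q.IsPrime := RingHom.ker_isPrime _
  obtain ⟨φ, hφ⟩ := Groth.Agent.Lib.Helper5.exists_algHom_localization_of_etale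
    (A := A) (C := Localization.Away (jacQ P)) (B := A) q χ (fun c hc h0 => hc h0)
  let σ : MvPolynomial (Fin n) A →ₐ[A] A :=
    (φ.comp (IsScalarTower.toAlgHom A (Localization.Away (jacQ P)) (Localization.AtPrime q))).comp
      ((IsScalarTower.toAlgHom A (Quot P) (Localization.Away (jacQ P))).comp
        (Ideal.Quotient.mkₐ A (Ideal.span (Set.range P))))
  have hσ : ∀ p, residue A (σ p) = φ₀ p := by
    intro p
    have := hφ (algebraMap (Quot P) (Localization.Away (jacQ P)) (Ideal.Quotient.mk _ p))
    rw [hχ, hφ₁] at this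
    exact this
  have hσeval : ∀ p, σ p = MvPolynomial.eval (fun j => σ (MvPolynomial.X j)) p := by
    intro p
    have : σ = MvPolynomial.aeval (fun j => σ (MvPolynomial.X j)) := by
      apply MvPolynomial.algHom_ext
      intro j
      simp
    conv_lhs => rw [this]
    rfl
  refine ⟨fun j => σ (MvPolynomial.X j), fun i => ?_, fun j => ?_⟩
  · rw [← hσeval]
    have : Ideal.Quotient.mkₐ A (Ideal.span (Set.range P)) (P i) = 0 :=
      Ideal.Quotient.eq_zero_iff_mem.mpr (Ideal.subset_span ⟨i, rfl⟩)
    simp only [σ, AlgHom.comp_apply]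
    rw [this, map_zero, map_zero, map_zero]
  · rw [← residue_eq_zero_iff, map_sub, hσ, sub_eq_zero]
    simp [φ₀]

end Groth.Agent.Lib.Helper8.MvHensel
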