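import Mathlib
import Groth.Agent.Lib.Helper8.HenselFactor2

/-!
# Lifting finite étale algebras from the residue field of a local ring
-/

open IsLocalRing Polynomial TensorProduct

universe u

namespace Groth.Agent.Lib.Helper8

/-- A standard étale pair whose `g` is a unit modulo `f` gives the algebra `R[X]/(f)`. -/
theorem StandardEtalePair.nonempty_equiv_adjoinRoot {R : Type*} [CommRing R]
    (Q : StandardEtalePair R) (h : IsUnit (AdjoinRoot.mk Q.f Q.g)) :
    Nonempty (Q.Ring ≃ₐ[R] AdjoinRoot Q.f) := by
  have H : Submonoid.powers (AdjoinRoot.mk Q.f Q.g) ≤ IsUnit.submonoid (AdjoinRoot Q.f) := by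
    rintro _ ⟨n, rfl⟩
    exact h.pow n
  let e1 : AdjoinRoot Q.f ≃ₐ[AdjoinRoot Q.f] Localization.Away (AdjoinRoot.mk Q.f Q.g) :=
    IsLocalization.atUnits (AdjoinRoot Q.f) (Submonoid.powers (AdjoinRoot.mk Q.f Q.g)) H
  exact ⟨Q.equivAwayAdjoinRoot.trans (e1.symm.restrictScalars R)⟩

/-- A monic polynomial over a local ring with separable reduction is separable. -/
theorem separable_of_map_residue_separable {R : Type*} [CommRing R] [IsLocalRing R] (P : R[X])
    (hP : P.Monic) (hsep : (P.map (residue R)).Separable) :
    ∃ c d : R[X], derivative P * c + P * d = 1 := by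
  obtain ⟨a₀, b₀, hab⟩ := hsep
  obtain ⟨a, rfl⟩ := map_surjective (residue R) residue_surjective a₀
  obtain ⟨b, rfl⟩ := map_surjective (residue R) residue_surjective b₀
  have hfin : Module.Finite R (AdjoinRoot P) := hP.finite_adjoinRoot
  have : Algebra.IsIntegral R (AdjoinRoot P) := Algebra.IsIntegral.of_finite R _
  have hk : (b * derivative P + a * P - 1).map (residue R) = 0 := by
    simp only [Polynomial.map_sub, Polynomial.map_add, Polynomial.map_mul, Polynomial.map_one,
      ← derivative_map]
    rw [← hab]; ring
  have h1 := mk_mem_map_of_map_eq_zero P _ hk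
  rw [map_sub, map_add, map_mul (AdjoinRoot.mk P) a P, AdjoinRoot.mk_self, mul_zero, add_zero,
    map_one] at h1
  have h2 := Ideal.mem_jacobson_bot.mp (map_maximalIdeal_le_jacobson R (AdjoinRoot P) h1) 1
  rw [mul_one, sub_add_cancel, map_mul] at h2
  obtain ⟨c', hc'⟩ := (isUnit_of_mul_isUnit_right h2).exists_right_inv
  obtain ⟨c, rfl⟩ := AdjoinRoot.mk_surjective c'
  rw [← map_mul, ← map_one (AdjoinRoot.mk P), AdjoinRoot.mk_eq_mk] at hc'
  obtain ⟨d, hd⟩ := hc'
  exact ⟨c, -d, by linear_combination hd⟩

/-- Every finite étale algebra over the residue field of a local ring lifts to a finite étale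
algebra over the ring. -/
theorem exists_finite_etale_lift (R : Type u) [CommRing R] [IsLocalRing R]
    (A : Type u) [CommRing A] [Algebra (ResidueField R) A] [Module.Finite (ResidueField R) A]
    [Algebra.Etale (ResidueField R) A] :
    ∃ (S : Type u) (_ : CommRing S) (_ : Algebra R S), Module.Finite R S ∧ Algebra.Etale R S ∧
      Nonempty (ResidueField R ⊗[R] S ≃ₐ[ResidueField R] A) := by
  classical
  obtain ⟨I, hI, L, hLfield, hLalg, e, hL⟩ :=
    (Algebra.Etale.iff_exists_algEquiv_prod (K := ResidueField R) (A := A)).mp inferInstance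
  have hfinL : ∀ i, Module.Finite (ResidueField R) (L i) := fun i => (hL i).1
  have hsepL : ∀ i, Algebra.IsSeparable (ResidueField R) (L i) := fun i => (hL i).2
  have hprim : ∀ i, ∃ α : L i, IntermediateField.adjoin (ResidueField R) {α} = ⊤ :=
    fun i => Field.exists_primitive_element (ResidueField R) (L i)
  choose α hα using hprim
  have hint : ∀ i, IsIntegral (ResidueField R) (α i) :=
    fun i => Algebra.IsIntegral.isIntegral (α i)
  have hlift : ∀ i, ∃ P : R[X], P.map (residue R) = minpoly (ResidueField R) (α i) ∧ P.Monic := by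
    intro i
    obtain ⟨P, h1, -, h3⟩ := lifts_and_natDegree_eq_and_monic
      (mem_lifts_of_surjective (f := residue R) residue_surjective _) (minpoly.monic (hint i))
    exact ⟨P, h1, h3⟩
  choose P hPmap hPmonic using hlift
  have hsep : ∀ i, ∃ c d : R[X], derivative (P i) * c + P i * d = 1 := by
    intro i
    apply separable_of_map_residue_separable (P i) (hPmonic i)
    rw [hPmap]
    exact Algebra.IsSeparable.isSeparable (ResidueField R) (α i)
  choose c d hcd using hsep
  let Q : I → StandardEtalePair R := fun i =>
    ⟨P i, hPmonic i, 1, ⟨c i, d i, 0, by rw [pow_zero]; exact hcd i⟩⟩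
  have hfin : ∀ i, Module.Finite R (Q i).Ring := by
    intro i
    obtain ⟨e1⟩ := StandardEtalePair.nonempty_equiv_adjoinRoot (Q i)
      (by change IsUnit (AdjoinRoot.mk (P i) 1); rw [map_one]; exact isUnit_one)
    have : Module.Finite R (AdjoinRoot (Q i).f) := (hPmonic i).finite_adjoinRoot
    exact Module.Finite.of_surjective e1.symm.toLinearMap e1.symm.surjective
  have : Fintype I := Fintype.ofFinite I
  refine ⟨∀ i, (Q i).Ring, inferInstance, inferInstance, inferInstance, inferInstance, ?_⟩
  -- the isomorphism
  have hiso : ∀ i, Nonempty (ResidueField R ⊗[R] (Q i).Ring ≃ₐ[ResidueField R] L i) := by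
    intro i
    let pres : StandardEtalePresentation R (Q i).Ring :=
      ⟨Q i, (Q i).X, (Q i).hasMap_X, by
        simpa [StandardEtalePair.lift_X_left] using Function.bijective_id⟩
    let e1 : ResidueField R ⊗[R] (Q i).Ring ≃ₐ[ResidueField R]
        ((Q i).map (algebraMap R (ResidueField R))).Ring :=
      (pres.baseChange (T := ResidueField R)).equivRing
    obtain ⟨e2⟩ := StandardEtalePair.nonempty_equiv_adjoinRoot
      ((Q i).map (algebraMap R (ResidueField R)))
      (by
        change IsUnit (AdjoinRoot.mk _ (Polynomial.map _ 1))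
        rw [Polynomial.map_one, map_one]; exact isUnit_one)
    have hpeq : ((Q i).map (algebraMap R (ResidueField R))).f =
        minpoly (ResidueField R) (α i) := hPmap i
    let e3 := AdjoinRoot.algEquivOfEq (ResidueField R) _ _ hpeq
    let e4 := IntermediateField.adjoinRootEquivAdjoin (ResidueField R) (hint i)
    let e5 : IntermediateField.adjoin (ResidueField R) {α i} ≃ₐ[ResidueField R] L i :=
      (IntermediateField.equivOfEq (hα i)).trans IntermediateField.topEquiv
    exact ⟨(((e1.trans e2).trans e3).trans e4).trans e5⟩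
  exact ⟨((Algebra.TensorProduct.piRight R (ResidueField R) (ResidueField R)
    (fun i => (Q i).Ring)).trans (AlgEquiv.piCongrRight fun i => (hiso i).some)).trans e.symm⟩

end Groth.Agent.Lib.Helper8
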