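import Mathlib
import Groth.Agent.Lib.Helper8.FiniteEtaleLift

/-!
# Finite unramified algebras over a local ring are monogenic (residue field infinite, or local)

* `exists_algHoms`: a finite unramified algebra `E` over a field `κ` has `dim E` distinct algebra
  maps to an algebraic closure.
* `exists_adjoin_eq_top_of_infinite`, `exists_adjoin_eq_top_of_isLocalRing`: monogenicity.
* `separable_of_adjoin_eq_top`: the defining polynomial of a generator is separable.
* `exists_monic_separable_surjective`: a finite unramified algebra `B` over a local ring `A`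
  (with infinite residue field, or with `B` local) is a quotient of `A[X]/(F)`, `F` monic
  separable of degree `dim (κ ⊗ B)`.
-/

set_option autoImplicit false
universe u
open TensorProduct Polynomial IsLocalRing

namespace Groth.Agent.Lib.Helper8.MonogenicUnram


section
variable (κ E : Type u) [Field κ] [CommRing E] [Algebra κ E] [Module.Finite κ E]
  [Algebra.FormallyUnramified κ E]

/-- A finite unramified algebra over a field `κ` has exactly `dim E` algebra maps to an algebraic
closure of `κ`. -/
theorem exists_algHoms : ∃ (I : Type u) (_ : Fintype I)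
    (σ : I → (E →ₐ[κ] AlgebraicClosure κ)), Function.Injective σ ∧
      Fintype.card I = Module.finrank κ E := by
  classical
  haveI : Algebra.FormallyEtale κ E := Algebra.FormallyEtale.of_formallyUnramified_of_field κ E
  let Ω := AlgebraicClosure κ
  let e := Algebra.FormallyEtale.equivPiOfIsSepClosed Ω (Ω ⊗[κ] E)
  haveI : IsArtinianRing (Ω ⊗[κ] E) := IsArtinianRing.of_finite Ω _
  haveI : Fintype (PrimeSpectrum (Ω ⊗[κ] E)) := Fintype.ofFinite _
  let σ : PrimeSpectrum (Ω ⊗[κ] E) → (E →ₐ[κ] Ω) := fun p =>
    ((Pi.evalAlgHom Ω (fun _ => Ω) p).restrictScalars κ).comp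
      ((e.toAlgHom.restrictScalars κ).comp Algebra.TensorProduct.includeRight)
  have hσ : ∀ p (x : E), σ p x = e (1 ⊗ₜ x) p := fun p x => rfl
  have hz : ∀ (z : Ω ⊗[κ] E) (p p' : PrimeSpectrum (Ω ⊗[κ] E)), σ p = σ p' → e z p = e z p' := by
    intro z p p' h
    induction z using TensorProduct.induction_on with
    | zero => simp
    | tmul ω x =>
      have h1 : ω ⊗ₜ[κ] x = ω • ((1 : Ω) ⊗ₜ[κ] x) := by
        rw [TensorProduct.smul_tmul', smul_eq_mul, mul_one]
      rw [h1, map_smul, Pi.smul_apply, Pi.smul_apply, ← hσ, ← hσ, h]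
    | add a b ha hb => rw [map_add, Pi.add_apply, Pi.add_apply, ha, hb]
  refine ⟨PrimeSpectrum (Ω ⊗[κ] E), inferInstance, σ, ?_, ?_⟩
  · intro p p' h
    by_contra hne
    have := hz (e.symm (Pi.single p 1)) p p' h
    rw [e.apply_symm_apply, Pi.single_eq_same, Pi.single_eq_of_ne (Ne.symm hne)] at this
    exact one_ne_zero this
  · rw [← Module.finrank_baseChange (R := Ω) (M' := E) (S := κ), e.toLinearEquiv.finrank_eq,
      Module.finrank_fintype_fun_eq_card]

end


section
variable (κ E : Type u) [Field κ] [CommRing E] [Algebra κ E] [Module.Finite κ E]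

/-- If `n = dim E` algebra maps to a field take pairwise distinct values at `β`, then `β`
generates `E`. -/
theorem adjoin_eq_top_of_injective {Ω : Type u} [Field Ω] [Algebra κ Ω] {I : Type u} [Fintype I]
    (σ : I → (E →ₐ[κ] Ω)) (hcard : Fintype.card I = Module.finrank κ E) (β : E)
    (hβ : Function.Injective (fun i => σ i β)) : Algebra.adjoin κ {β} = ⊤ := by
  have hint : IsIntegral κ β := Algebra.IsIntegral.isIntegral β
  set m := minpoly κ β with hm
  have hm0 : m ≠ 0 := minpoly.ne_zero hint
  have hdeg : Fintype.card I ≤ m.natDegree := by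
    by_contra hlt
    push_neg at hlt
    have h0 : m.map (algebraMap κ Ω) = 0 := by
      apply Polynomial.eq_zero_of_natDegree_lt_card_of_eval_eq_zero _ hβ
      · intro i
        rw [eval_map, ← aeval_def, aeval_algHom_apply, minpoly.aeval, map_zero]
      · rwa [natDegree_map]
    exact hm0 ((Polynomial.map_eq_zero _).mp h0)
  have hfr : Module.finrank κ (Algebra.adjoin κ {β}) = m.natDegree := by
    rw [(Algebra.adjoin.powerBasis hint).finrank]
    rfl
  have h2 : Module.finrank κ (Subalgebra.toSubmodule (Algebra.adjoin κ {β})) =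
      Module.finrank κ E := by
    apply le_antisymm (Submodule.finrank_le _)
    change _ ≤ Module.finrank κ (Algebra.adjoin κ {β})
    rw [hfr, ← hcard]
    exact hdeg
  have h3 := Submodule.eq_top_of_finrank_eq h2
  exact Subalgebra.toSubmodule_injective (by rw [h3]; rfl)

end

section
variable (κ E : Type u) [Field κ] [CommRing E] [Algebra κ E] [Module.Finite κ E]
  [Algebra.FormallyUnramified κ E]

/-- A finite unramified algebra over an infinite field is monogenic. -/
theorem exists_adjoin_eq_top_of_infinite [Infinite κ] : ∃ β : E, Algebra.adjoin κ {β} = ⊤ := by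
  classical
  obtain ⟨I, _, σ, hσ, hcard⟩ := exists_algHoms κ E
  let p : {ij : I × I // ij.1 ≠ ij.2} → Submodule κ E := fun ij =>
    LinearMap.ker ((σ ij.1.1).toLinearMap - (σ ij.1.2).toLinearMap)
  have hp : ∀ ij, p ij ≠ ⊤ := by
    intro ij htop
    apply ij.2
    apply hσ
    ext x
    have hx : x ∈ p ij := htop ▸ Submodule.mem_top
    rw [LinearMap.mem_ker, LinearMap.sub_apply, sub_eq_zero] at hx
    exact hx
  obtain ⟨β, hβ⟩ := Submodule.exists_forall_notMem_of_forall_ne_top p hp
  refine ⟨β, adjoin_eq_top_of_injective κ E σ hcard β ?_⟩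
  intro i j hij
  by_contra hne
  apply hβ ⟨(i, j), hne⟩
  rw [LinearMap.mem_ker, LinearMap.sub_apply, sub_eq_zero]
  exact hij

/-- A finite unramified local algebra over a field is monogenic. -/
theorem exists_adjoin_eq_top_of_isLocalRing [IsLocalRing E] :
    ∃ β : E, Algebra.adjoin κ {β} = ⊤ := by
  haveI : IsReduced E := Algebra.FormallyUnramified.isReduced_of_field κ E
  haveI : IsArtinianRing E := IsArtinianRing.of_finite κ E
  have hf : IsField E := IsArtinianRing.isField_of_isReduced_of_isLocalRing E
  letI : Field E := hf.toField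
  haveI : Algebra.IsSeparable κ E := Algebra.FormallyUnramified.isSeparable κ E
  obtain ⟨α, hα⟩ := Field.exists_primitive_element κ E
  refine ⟨α, ?_⟩
  have h1 := IntermediateField.adjoin_simple_toSubalgebra_of_isAlgebraic
    (Algebra.IsIntegral.isIntegral (R := κ) α).isAlgebraic
  rw [← h1, hα]
  rfl

/-- A monic polynomial of degree `dim E` killing a generator of a finite unramified algebra over a
field is separable. -/
theorem separable_of_adjoin_eq_top (β : E) (hβ : Algebra.adjoin κ {β} = ⊤) (G : κ[X])
    (hG : G.Monic) (hdeg : G.natDegree = Module.finrank κ E) (h0 : aeval β G = 0) :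
    G.Separable := by
  classical
  obtain ⟨I, _, σ, hσ, hcard⟩ := exists_algHoms κ E
  have hinj : Function.Injective (fun i => σ i β) := by
    intro i j hij
    apply hσ
    apply AlgHom.ext_of_adjoin_eq_top hβ
    intro x hx
    rw [Set.mem_singleton_iff] at hx
    subst hx
    exact hij
  rw [← Polynomial.separable_map (algebraMap κ (AlgebraicClosure κ))]
  set g := G.map (algebraMap κ (AlgebraicClosure κ)) with hg
  have hgm : g.Monic := hG.map _
  set P : (AlgebraicClosure κ)[X] := ∏ i, (X - C (σ i β)) with hP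
  have hPm : P.Monic := monic_prod_of_monic _ _ (fun i _ => monic_X_sub_C _)
  have hPdeg : P.natDegree = Fintype.card I := by
    rw [hP, natDegree_prod_of_monic _ _ (fun i _ => monic_X_sub_C _)]
    simp
  have hdvd : P ∣ g := by
    apply Finset.prod_dvd_of_coprime
    · intro i _ j _ hij
      exact isCoprime_X_sub_C_of_isUnit_sub (sub_ne_zero.mpr (fun h => hij (hinj h))).isUnit
    · intro i _
      rw [dvd_iff_isRoot, IsRoot.def, hg, eval_map, ← aeval_def, aeval_algHom_apply, h0, map_zero]
  have hPg : g = P := by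
    apply eq_of_monic_of_dvd_of_natDegree_le hPm hgm hdvd
    rw [hPdeg, hg, natDegree_map, hdeg, hcard]
  rw [hPg, hP]
  exact (separable_prod_X_sub_C_iff).mpr hinj

end


section
variable (A B : Type u) [CommRing A] [IsLocalRing A] [CommRing B] [Algebra A B]

theorem includeRight_surjective :
    Function.Surjective (Algebra.TensorProduct.includeRight : B →ₐ[A] ResidueField A ⊗[A] B) := by
  intro z
  induction z using TensorProduct.induction_on with
  | zero => exact ⟨0, map_zero _⟩
  | tmul k b =>
    obtain ⟨a, rfl⟩ := residue_surjective k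
    refine ⟨a • b, ?_⟩
    rw [Algebra.TensorProduct.includeRight_apply, TensorProduct.tmul_smul,
      TensorProduct.smul_tmul', Algebra.smul_def, mul_one]
    rfl
  | add x y hx hy =>
    obtain ⟨x', rfl⟩ := hx
    obtain ⟨y', rfl⟩ := hy
    exact ⟨x' + y', map_add _ _ _⟩

variable [Module.Finite A B] [Algebra.FormallyUnramified A B]

theorem exists_monic_separable_surjective (h : Infinite (ResidueField A) ∨ IsLocalRing B) :
    ∃ F : A[X], F.Monic ∧ F.Separable ∧
      F.natDegree = Module.finrank (ResidueField A) (ResidueField A ⊗[A] B) ∧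
      ∃ φ : (A[X] ⧸ Ideal.span {F}) →ₐ[A] B, Function.Surjective φ := by
  classical
  obtain ⟨β, hβ⟩ : ∃ β : ResidueField A ⊗[A] B, Algebra.adjoin (ResidueField A) {β} = ⊤ := by
    rcases h with h | h
    · exact exists_adjoin_eq_top_of_infinite _ _
    · haveI : Nontrivial (ResidueField A ⊗[A] B) := by
        rw [← not_subsingleton_iff_nontrivial, IsLocalRing.subsingleton_tensorProduct]
        exact not_subsingleton B
      haveI : IsLocalRing (ResidueField A ⊗[A] B) :=
        IsLocalRing.of_surjective'
          (Algebra.TensorProduct.includeRight : B →ₐ[A] ResidueField A ⊗[A] B).toRingHom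
          (includeRight_surjective A B)
      exact exists_adjoin_eq_top_of_isLocalRing _ _
  obtain ⟨b, rfl⟩ := includeRight_surjective A B β
  have hint : IsIntegral (ResidueField A)
      ((Algebra.TensorProduct.includeRight : B →ₐ[A] ResidueField A ⊗[A] B) b) :=
    Algebra.IsIntegral.isIntegral _
  let pb := PowerBasis.ofAdjoinEqTop hint hβ
  have hdim : pb.dim = Module.finrank (ResidueField A) (ResidueField A ⊗[A] B) := pb.finrank.symm
  have hspan : Submodule.span A (Set.range fun i : Fin pb.dim => b ^ (i : ℕ)) = ⊤ := by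
    refine IsLocalRing.span_eq_top_of_tmul_eq_basis _ pb.basis (fun i => ?_)
    rw [pb.basis_eq_pow]
    change _ = ((1 : ResidueField A) ⊗ₜ[A] b) ^ (i : ℕ)
    rw [Algebra.TensorProduct.tmul_pow, one_pow]
  have hmem : b ^ pb.dim ∈ Submodule.span A (Set.range fun i : Fin pb.dim => b ^ (i : ℕ)) := by
    rw [hspan]; exact Submodule.mem_top
  obtain ⟨c, hc⟩ := (Submodule.mem_span_range_iff_exists_fun A).mp hmem
  set q : A[X] := ∑ i : Fin pb.dim, C (c i) * X ^ (i : ℕ) with hq
  have hqdeg : q.degree < pb.dim := Polynomial.degree_sum_fin_lt c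
  set F : A[X] := X ^ pb.dim - q with hF
  have hFm : F.Monic := monic_X_pow_sub hqdeg
  have hFdeg : F.natDegree = pb.dim := by
    have h1 : F.degree = pb.dim := by
      rw [hF, degree_sub_eq_left_of_degree_lt (by rwa [degree_X_pow]), degree_X_pow]
    exact natDegree_eq_of_degree_eq_some h1
  have hFb : aeval b F = 0 := by
    rw [hF, map_sub, map_pow, aeval_X, hq, map_sum, ← hc, sub_eq_zero]
    refine Finset.sum_congr rfl fun i _ => ?_
    rw [map_mul, aeval_C, map_pow, aeval_X, Algebra.smul_def]
  let φ : (A[X] ⧸ Ideal.span {F}) →ₐ[A] B :=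
    Ideal.Quotient.liftₐ (Ideal.span {F}) (aeval b) (fun x hx => by
      obtain ⟨y, rfl⟩ := Ideal.mem_span_singleton.mp hx
      rw [map_mul, hFb, zero_mul])
  have hφ : Function.Surjective φ := by
    rw [← AlgHom.coe_toLinearMap, ← LinearMap.range_eq_top, eq_top_iff, ← hspan, Submodule.span_le]
    rintro _ ⟨i, rfl⟩
    refine ⟨Ideal.Quotient.mk _ (X ^ (i : ℕ)), ?_⟩
    change φ (Ideal.Quotient.mk _ (X ^ (i : ℕ))) = _
    have : φ (Ideal.Quotient.mk _ (X ^ (i : ℕ))) = aeval b (X ^ (i : ℕ)) := rfl
    rw [this, map_pow, aeval_X]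
  refine ⟨F, hFm, ?_, hFdeg.trans hdim, φ, hφ⟩
  have hGsep : (F.map (residue A)).Separable := by
    apply separable_of_adjoin_eq_top (ResidueField A) (ResidueField A ⊗[A] B) _ hβ
    · exact hFm.map _
    · rw [hFm.natDegree_map, hFdeg, hdim]
    · have : residue A = algebraMap A (ResidueField A) := rfl
      rw [this, aeval_map_algebraMap, aeval_algHom_apply, hFb, map_zero]
  obtain ⟨c', d', hcd⟩ := separable_of_map_residue_separable F hFm hGsep
  exact ⟨d', c', by linear_combination hcd⟩

end


/-- `A[X]/(F)` is étale over `A` for `F` monic and separable. -/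
theorem etale_quotient_of_separable {A : Type u} [CommRing A] (F : A[X]) (hF : F.Monic)
    (hsep : F.Separable) : Algebra.Etale A (A[X] ⧸ Ideal.span {F}) := by
  obtain ⟨a, b, hab⟩ := hsep
  let Q : StandardEtalePair A := ⟨F, hF, 1, ⟨b, a, 0, by rw [pow_zero, ← hab]; ring⟩⟩
  obtain ⟨e⟩ := StandardEtalePair.nonempty_equiv_adjoinRoot Q (by
    change IsUnit (AdjoinRoot.mk F 1)
    rw [map_one]; exact isUnit_one)
  exact Algebra.Etale.of_equiv (e : Q.Ring ≃ₐ[A] (A[X] ⧸ Ideal.span {F}))

/-- `A[X]/(F)` is free of rank `deg F` for `F` monic. -/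
theorem finrank_quotient_of_monic {A : Type u} [CommRing A] [Nontrivial A] (F : A[X]) (hF : F.Monic) :
    Module.Free A (A[X] ⧸ Ideal.span {F}) ∧ Module.Finite A (A[X] ⧸ Ideal.span {F}) ∧
      Module.finrank A (A[X] ⧸ Ideal.span {F}) = F.natDegree := by
  let pb : PowerBasis A (AdjoinRoot F) := AdjoinRoot.powerBasis' hF
  refine ⟨Module.Free.of_basis pb.basis, Module.Finite.of_basis pb.basis, ?_⟩
  have := pb.finrank
  rw [AdjoinRoot.powerBasis'_dim] at this
  exact this

/-- A finite étale algebra over a local ring (with infinite residue field, or local) is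
`A[X]/(F)` for a monic separable `F`. -/
theorem exists_monic_separable_equiv (A B : Type u) [CommRing A] [IsLocalRing A] [CommRing B]
    [Algebra A B] [Module.Finite A B] [Algebra.Etale A B]
    (h : Infinite (ResidueField A) ∨ IsLocalRing B) :
    ∃ F : A[X], F.Monic ∧ F.Separable ∧
      F.natDegree = Module.finrank (ResidueField A) (ResidueField A ⊗[A] B) ∧
      Nonempty ((A[X] ⧸ Ideal.span {F}) ≃ₐ[A] B) := by
  obtain ⟨F, hFm, hsep, hdeg, φ, hφ⟩ := exists_monic_separable_surjective A B h
  refine ⟨F, hFm, hsep, hdeg, ?_⟩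
  obtain ⟨hfree, hfin, hrank⟩ := finrank_quotient_of_monic F hFm
  haveI : Module.Flat A B := inferInstance
  haveI : Module.Free A B := Module.free_of_flat_of_isLocalRing
  have hrB : Module.finrank A B = Module.finrank (ResidueField A) (ResidueField A ⊗[A] B) :=
    (Module.finrank_baseChange (R := ResidueField A) (S := A) (M' := B)).symm
  have hcond : Module.finrank A (A[X] ⧸ Ideal.span {F}) = Module.finrank A B := by
    rw [hrank, hdeg, hrB]
  let i : (A[X] ⧸ Ideal.span {F}) ≃ₗ[A] B := LinearEquiv.ofFinrankEq _ _ hcond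
  have hinj : Function.Injective φ :=
    OrzechProperty.injective_of_surjective_of_injective i.toLinearMap φ.toLinearMap
      i.injective hφ
  exact ⟨AlgEquiv.ofBijective φ ⟨hinj, hφ⟩⟩

end Groth.Agent.Lib.Helper8.MonogenicUnram
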