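import Mathlib
import Groth.Agent.Lib.Helper1.WeaklyEtaleLib
import Groth.Agent.Lib.Helper8.Hzl.IndEtaleWE
import Groth.Agent.Lib.Helper8.MonogenicUnram
import Groth.Prelude.Def_EtAlgD
import Groth.Agent.Lib.Helper8.HenselNil

/-!
# Weakly étale algebras over a field

A commutative algebra `B` over a field `K` is weakly étale iff every element of `B` is a root of a
separable polynomial over `K`.
-/

set_option autoImplicit false
universe u
open TensorProduct Polynomial

namespace Groth.Agent.Lib.Helper8.WEField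

open Groth.Agent.Lib.Helper1.WeaklyEtale

section general

/-- A surjective ring hom with pure kernel is flat. -/
theorem flat_of_surjective_of_pure {A C : Type*} [CommRing A] [CommRing C] (f : A →+* C)
    (hf : Function.Surjective f) (hp : (RingHom.ker f).Pure) : f.Flat := by
  algebraize [f]
  let e : (A ⧸ RingHom.ker f) ≃ₐ[A] C :=
    Ideal.quotientKerAlgEquivOfSurjective (f := Algebra.ofId A C) hf
  haveI : Module.Flat A (A ⧸ RingHom.ker f) := hp
  exact Module.Flat.of_linearEquiv e.symm.toLinearEquiv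

/-- Elementwise criterion for purity. -/
theorem pure_of_forall_exists {A : Type*} [CommRing A] (I : Ideal A)
    (h : ∀ z ∈ I, ∃ w ∈ I, z = z * w) : I.Pure := by
  apply Ideal.Pure.of_inf_eq_mul
  intro J _
  apply le_antisymm
  · rintro z ⟨hzI, hzJ⟩
    obtain ⟨w, hw, hzw⟩ := h z hzI
    have h1 : w * z ∈ I * J := Ideal.mul_mem_mul hw hzJ
    rwa [mul_comm w z, ← hzw] at h1
  · exact Ideal.mul_le_inf

end general

variable {K : Type u} [Field K] {B : Type u} [CommRing B] [Algebra K B]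

/-- The kernel of the multiplication map of a weakly étale algebra is pure. -/
theorem pure_ker_lmul' [Algebra.WeaklyEtale K B] :
    (RingHom.ker (Algebra.TensorProduct.lmul' K (S := B)).toRingHom).Pure :=
  pure_ker_of_flat_of_surjective _ (fun y ↦ ⟨1 ⊗ₜ y, by simp⟩)
    (Algebra.WeaklyEtale.flat_lmul' K B)

/-- A weakly étale algebra over a field is von Neumann regular. -/
theorem exists_eq_sq_mul [Algebra.WeaklyEtale K B] (x : B) : ∃ h : B, x = x * x * h := by
  classical
  have hp := pure_ker_lmul' (K := K) (B := B)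
  let z : B ⊗[K] B := x ⊗ₜ 1 - 1 ⊗ₜ x
  have hz : z ∈ RingHom.ker (Algebra.TensorProduct.lmul' K (S := B)).toRingHom := by
    simp [z, RingHom.mem_ker]
  obtain ⟨w, hw, hzw⟩ := Ideal.exists_eq_mul_of_pure hz
  have hw0 : Algebra.TensorProduct.lmul' K (S := B) w = 0 := hw
  let J : Ideal B := Ideal.span {x}
  let π : B ⊗[K] B →ₐ[K] B ⊗[K] (B ⧸ J) :=
    Algebra.TensorProduct.map (AlgHom.id K B) (Ideal.Quotient.mkₐ K J)
  let μ' : B ⊗[K] (B ⧸ J) →ₐ[K] B ⧸ J :=
    Algebra.TensorProduct.lift (Ideal.Quotient.mkₐ K J) (AlgHom.id K (B ⧸ J))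
      (fun _ _ => Commute.all _ _)
  have hμ : ∀ t, μ' (π t) = Ideal.Quotient.mk J (Algebra.TensorProduct.lmul' K (S := B) t) := by
    intro t
    induction t using TensorProduct.induction_on with
    | zero => simp
    | tmul a b => simp [π, μ']
    | add a b ha hb => simp only [map_add, ha, hb]
  let ē := π (1 - w)
  have h1 : μ' ē = 1 := by
    rw [hμ, map_sub, map_one, hw0, sub_zero, map_one]
  have hπz : π z = x ⊗ₜ 1 := by
    have hx0 : Ideal.Quotient.mk J x = 0 :=
      Ideal.Quotient.eq_zero_iff_mem.mpr (Ideal.subset_span rfl)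
    simp [z, π, hx0]
  have h2 : (x ⊗ₜ 1 : B ⊗[K] (B ⧸ J)) * ē = 0 := by
    rw [← hπz, ← map_mul, mul_sub, mul_one, ← hzw, sub_self, map_zero]
  let β := Module.Free.chooseBasis K (B ⧸ J)
  let T := Algebra.TensorProduct.basis B β
  have hc : ∀ j, T.repr ē j * x = 0 := by
    intro j
    have h3 : x • ē = 0 := (Algebra.smul_def x ē).trans h2
    have h4 := congrArg (fun v => T.repr v j) h3
    simp only [map_smul, Finsupp.smul_apply, smul_eq_mul, map_zero, Finsupp.zero_apply] at h4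
    rw [mul_comm]; exact h4
  let N : Ideal B := (Ideal.span {x}).annihilator
  have hN : ∀ j, T.repr ē j ∈ N := fun j =>
    (Submodule.mem_annihilator_span_singleton _ _).mpr (hc j)
  have h5 : μ' ē ∈ N.map (Ideal.Quotient.mk J) := by
    have h6 : ē = (T.repr ē).sum fun j c => c • T j := (T.linearCombination_repr ē).symm
    rw [h6, Finsupp.sum, map_sum]
    refine Ideal.sum_mem _ fun j _ => ?_
    have h7 : μ' (T.repr ē j • T j) = Ideal.Quotient.mk J (T.repr ē j) * β j := by
      rw [Algebra.TensorProduct.basis_apply, TensorProduct.smul_tmul', smul_eq_mul, mul_one]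
      simp [μ']
    rw [h7]
    exact Ideal.mul_mem_right _ _ (Ideal.mem_map_of_mem _ (hN j))
  rw [h1] at h5
  obtain ⟨n, hn, hn1⟩ := (Ideal.mem_map_iff_of_surjective _ Ideal.Quotient.mk_surjective).mp h5
  have h8 : (1 : B) - n ∈ J := by
    rw [← Ideal.Quotient.eq_zero_iff_mem, map_sub, map_one, hn1, sub_self]
  obtain ⟨h, hh⟩ := Ideal.mem_span_singleton'.mp h8
  have hnx : n * x = 0 := (Submodule.mem_annihilator_span_singleton _ _).mp hn
  refine ⟨h, ?_⟩
  have h9 : x = x * n + x * (h * x) := by rw [hh]; ring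
  calc x = x * n + x * (h * x) := h9
    _ = n * x + x * (h * x) := by ring
    _ = x * x * h := by rw [hnx]; ring

/-- A von Neumann regular ring is reduced. -/
theorem isReduced_of_vnr {R : Type*} [CommRing R] (h : ∀ x : R, ∃ y, x = x * x * y) :
    IsReduced R := by
  constructor
  intro x hx
  obtain ⟨y, hy⟩ := h x
  obtain ⟨n, hn⟩ := hx
  have h1 : ∀ m : ℕ, x = x ^ (m + 1) * y ^ m := by
    intro m
    induction m with
    | zero => simp
    | succ m ih =>
      calc x = x * x * y := hy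
        _ = (x ^ (m + 1) * y ^ m) * x * y := by rw [← ih]
        _ = x ^ (m + 1 + 1) * y ^ (m + 1) := by ring
  rw [h1 n, pow_succ, hn]; ring

variable (K) in
theorem isReduced [Algebra.WeaklyEtale K B] : IsReduced B :=
  isReduced_of_vnr (exists_eq_sq_mul (K := K))

/-- Quotients of weakly étale algebras over a field are weakly étale. -/
theorem weaklyEtale_quotient [Algebra.WeaklyEtale K B] (I : Ideal B) :
    Algebra.WeaklyEtale K (B ⧸ I) := by
  refine ⟨inferInstance, ?_⟩
  have hp := pure_ker_lmul' (K := K) (B := B)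
  have hsurj : Function.Surjective (Algebra.TensorProduct.lmul' K (S := B ⧸ I)).toRingHom :=
    fun y ↦ ⟨1 ⊗ₜ y, by simp⟩
  refine flat_of_surjective_of_pure _ hsurj (pure_of_forall_exists _ ?_)
  let π : B ⊗[K] B →ₐ[K] (B ⧸ I) ⊗[K] (B ⧸ I) :=
    Algebra.TensorProduct.map (Ideal.Quotient.mkₐ K I) (Ideal.Quotient.mkₐ K I)
  have hπsurj : Function.Surjective π :=
    TensorProduct.map_surjective (Ideal.Quotient.mkₐ_surjective K I)
      (Ideal.Quotient.mkₐ_surjective K I)
  have hμ : ∀ t, Algebra.TensorProduct.lmul' K (S := B ⧸ I) (π t) =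
      Ideal.Quotient.mk I (Algebra.TensorProduct.lmul' K (S := B) t) := by
    intro t
    induction t using TensorProduct.induction_on with
    | zero => simp
    | tmul a b => simp [π]
    | add a b ha hb => simp only [map_add, ha, hb]
  intro z' hz'
  obtain ⟨z₀, rfl⟩ := hπsurj z'
  have h0 : Algebra.TensorProduct.lmul' K (S := B ⧸ I) (π z₀) = 0 := hz'
  rw [hμ] at h0
  let z₁ : B ⊗[K] B := z₀ - (Algebra.TensorProduct.lmul' K (S := B) z₀) ⊗ₜ 1
  have hz₁ : z₁ ∈ RingHom.ker (Algebra.TensorProduct.lmul' K (S := B)).toRingHom := by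
    simp [z₁, RingHom.mem_ker]
  have hπz₁ : π z₁ = π z₀ := by
    simp only [z₁, map_sub, π, Algebra.TensorProduct.map_tmul, Ideal.Quotient.mkₐ_eq_mk, h0,
      TensorProduct.zero_tmul, sub_zero]
  obtain ⟨w, hw, hzw⟩ := Ideal.exists_eq_mul_of_pure hz₁
  refine ⟨π w, ?_, ?_⟩
  · have hw0 : Algebra.TensorProduct.lmul' K (S := B) w = 0 := hw
    show Algebra.TensorProduct.lmul' K (S := B ⧸ I) (π w) = 0
    rw [hμ, hw0, map_zero]
  · rw [← hπz₁, ← map_mul, ← hzw]


/-! ### Separable elements -/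

/-- `x` is a root of a separable polynomial over `K`. -/
def IsSepElem (K : Type*) [Field K] {B : Type*} [CommRing B] [Algebra K B] (x : B) : Prop :=
  ∃ Q : K[X], Q.Separable ∧ aeval x Q = 0

theorem isSepElem_iff_isSeparable (x : B) : IsSepElem K x ↔ IsSeparable K x := by
  constructor
  · rintro ⟨Q, hQ, h0⟩
    exact hQ.of_dvd (minpoly.dvd K x h0)
  · intro h
    exact ⟨minpoly K x, h, minpoly.aeval K x⟩

theorem IsSepElem.map {C : Type*} [CommRing C] [Algebra K C] (f : B →ₐ[K] C) {x : B}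
    (h : IsSepElem K x) : IsSepElem K (f x) := by
  obtain ⟨Q, hQ, h0⟩ := h
  exact ⟨Q, hQ, by rw [aeval_algHom_apply, h0, map_zero]⟩

theorem IsSepElem.of_map {C : Type*} [CommRing C] [Algebra K C] (f : B →ₐ[K] C)
    (hf : Function.Injective f) {x : B} (h : IsSepElem K (f x)) : IsSepElem K x := by
  obtain ⟨Q, hQ, h0⟩ := h
  refine ⟨Q, hQ, hf ?_⟩
  rw [← aeval_algHom_apply, h0, map_zero]

/-- Two separable polynomials have a common separable multiple. -/
theorem exists_separable_dvd_dvd {P Q : K[X]} (hP : P.Separable) (hQ : Q.Separable) :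
    ∃ R : K[X], R.Separable ∧ P ∣ R ∧ Q ∣ R := by
  classical
  letI := EuclideanDomain.gcdMonoid K[X]
  have hQ0 : Q ≠ 0 := hQ.ne_zero
  have hg0 : GCDMonoid.gcd P Q ≠ 0 := gcd_ne_zero_of_right hQ0
  have hP' : GCDMonoid.gcd P Q * (P / GCDMonoid.gcd P Q) = P :=
    EuclideanDomain.mul_div_cancel' hg0 (gcd_dvd_left _ _)
  have hQ' : GCDMonoid.gcd P Q * (Q / GCDMonoid.gcd P Q) = Q :=
    EuclideanDomain.mul_div_cancel' hg0 (gcd_dvd_right _ _)
  have hcop1 : IsCoprime (P / GCDMonoid.gcd P Q) (Q / GCDMonoid.gcd P Q) :=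
    isCoprime_div_gcd_div_gcd hQ0
  have hcop2 : IsCoprime (GCDMonoid.gcd P Q) (Q / GCDMonoid.gcd P Q) := by
    apply Polynomial.Separable.isCoprime
    rw [hQ']; exact hQ
  have hcop : IsCoprime P (Q / GCDMonoid.gcd P Q) := by
    have h3 := IsCoprime.mul_left hcop2 hcop1
    rwa [hP'] at h3
  refine ⟨P * (Q / GCDMonoid.gcd P Q), hP.mul (hQ.of_dvd ⟨GCDMonoid.gcd P Q, ?_⟩) hcop,
    dvd_mul_right _ _, ?_⟩
  · rw [mul_comm]; exact hQ'.symm
  · conv_lhs => rw [← hQ']
    exact mul_dvd_mul_right (gcd_dvd_left _ _) _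

/-- Every element of a weakly étale algebra over a field is a root of a separable polynomial. -/
theorem isSepElem_of_weaklyEtale [Algebra.WeaklyEtale K B] (x : B) : IsSepElem K x := by
  classical
  have hvnr := exists_eq_sq_mul (K := K) (B := B)
  haveI hred := isReduced K (B := B)
  have hmax : ∀ 𝔫 : Ideal B, 𝔫.IsPrime → 𝔫.IsMaximal := by
    intro 𝔫 h𝔫
    apply Ideal.Quotient.maximal_of_isField
    refine ⟨exists_pair_ne _, mul_comm, fun {a} ha => ?_⟩
    obtain ⟨a, rfl⟩ := Ideal.Quotient.mk_surjective a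
    obtain ⟨h, hh⟩ := hvnr a
    refine ⟨Ideal.Quotient.mk 𝔫 h, ?_⟩
    have h1 : Ideal.Quotient.mk 𝔫 a * (Ideal.Quotient.mk 𝔫 a * Ideal.Quotient.mk 𝔫 h - 1) = 0 := by
      rw [mul_sub, mul_one, ← mul_assoc, ← map_mul, ← map_mul, ← hh, sub_self]
    rcases mul_eq_zero.mp h1 with h2 | h2
    · exact absurd h2 ha
    · exact sub_eq_zero.mp h2
  have hloc : ∀ 𝔫 : Ideal B, 𝔫.IsPrime → ∃ Q : K[X], Q.Separable ∧ aeval x Q ∈ 𝔫 := by
    intro 𝔫 h𝔫
    haveI := hmax 𝔫 h𝔫
    letI := Ideal.Quotient.field 𝔫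
    haveI : Algebra.WeaklyEtale K (B ⧸ 𝔫) := weaklyEtale_quotient 𝔫
    have hs : Algebra.IsSeparable K (B ⧸ 𝔫) := isSeparable_of_weaklyEtale_field
    have h1 : IsSeparable K (Ideal.Quotient.mk 𝔫 x) := Algebra.IsSeparable.isSeparable K _
    refine ⟨minpoly K (Ideal.Quotient.mk 𝔫 x), h1, ?_⟩
    rw [← Ideal.Quotient.eq_zero_iff_mem, ← Ideal.Quotient.mkₐ_eq_mk K, ← aeval_algHom_apply]
    exact minpoly.aeval K _
  by_contra hcon
  let M : Submonoid B :=
    { carrier := {b | ∃ Q : K[X], Q.Separable ∧ aeval x Q ∈ (Ideal.span {b}).radical}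
      one_mem' := ⟨1, separable_one, by
        rw [Ideal.span_singleton_one, Ideal.radical_top]; trivial⟩
      mul_mem' := by
        rintro a b ⟨P, hP, hPa⟩ ⟨Q, hQ, hQb⟩
        obtain ⟨R, hR, ⟨P', rfl⟩, ⟨Q', hQ'⟩⟩ := exists_separable_dvd_dvd hP hQ
        refine ⟨P * P', hR, ?_⟩
        rw [← Ideal.span_singleton_mul_span_singleton, Ideal.radical_mul]
        refine ⟨?_, ?_⟩
        · rw [map_mul]
          exact Ideal.mul_mem_right _ _ hPa
        · rw [hQ', map_mul]
          exact Ideal.mul_mem_right _ _ hQb }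
  have h0 : (0 : B) ∉ M := by
    rintro ⟨Q, hQ, hmem⟩
    have h1 : (Ideal.span {(0 : B)}).radical = ⊥ := by
      rw [Ideal.span_singleton_eq_bot.mpr rfl]
      exact nilradical_eq_zero B
    rw [h1, Ideal.mem_bot] at hmem
    exact hcon ⟨Q, hQ, hmem⟩
  obtain ⟨𝔫, h𝔫, -, hdisj⟩ := Ideal.exists_le_prime_disjoint (⊥ : Ideal B) M (by
    rw [Set.disjoint_left]
    intro b hb hbM
    rw [SetLike.mem_coe, Ideal.mem_bot] at hb
    exact h0 (hb ▸ hbM))
  obtain ⟨Q, hQ, hQ𝔫⟩ := hloc 𝔫 h𝔫
  exact Set.disjoint_left.mp hdisj hQ𝔫 ⟨Q, hQ, Ideal.le_radical (Ideal.subset_span rfl)⟩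

/-- An algebra over a field all of whose elements are roots of separable polynomials is weakly
étale. -/
theorem weaklyEtale_of_forall_isSepElem (h : ∀ x : B, IsSepElem K x) : Algebra.WeaklyEtale K B := by
  refine Groth.Agent.Lib.Helper8.Hzl.IndEtaleLike.weaklyEtale ?_
  intro x
  have hx : IsSeparable K x := (isSepElem_iff_isSeparable x).mp (h x)
  have hint : IsIntegral K x := hx.isIntegral
  haveI : Algebra.Etale K (K[X] ⧸ Ideal.span {minpoly K x}) :=
    Groth.Agent.Lib.Helper8.MonogenicUnram.etale_quotient_of_separable _ (minpoly.monic hint) hx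
  let ι : (K[X] ⧸ Ideal.span {minpoly K x}) →ₐ[K] B :=
    Ideal.Quotient.liftₐ _ (aeval x) (by
      intro a ha
      obtain ⟨c, rfl⟩ := Ideal.mem_span_singleton'.mp ha
      rw [map_mul, minpoly.aeval, mul_zero])
  refine ⟨K[X] ⧸ Ideal.span {minpoly K x}, inferInstance, inferInstance, inferInstance, ι,
    Ideal.Quotient.mk _ X, 1, ?_, ?_⟩
  · rw [map_one]; exact isUnit_one
  · rw [map_one, mul_one]
    show x = aeval x X
    rw [aeval_X]

theorem weaklyEtale_iff_forall_isSepElem :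
    Algebra.WeaklyEtale K B ↔ ∀ x : B, IsSepElem K x :=
  ⟨fun _ => isSepElem_of_weaklyEtale, weaklyEtale_of_forall_isSepElem⟩


/-! ### The subalgebra of separable elements -/

section sepSubalgebra

variable {A : Type u} [CommRing A] [Algebra K A]

theorem isSepElem_of_two {x y : A} (hx : IsSepElem K x) (hy : IsSepElem K y) :
    ∃ (E : Type u) (_ : CommRing E) (_ : Algebra K E) (_ : Algebra.WeaklyEtale K E)
      (φ : E →ₐ[K] A), x ∈ φ.range ∧ y ∈ φ.range := by
  have hx' : IsSeparable K x := (isSepElem_iff_isSeparable x).mp hx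
  have hy' : IsSeparable K y := (isSepElem_iff_isSeparable y).mp hy
  haveI : Algebra.Etale K (K[X] ⧸ Ideal.span {minpoly K x}) :=
    Groth.Agent.Lib.Helper8.MonogenicUnram.etale_quotient_of_separable _
      (minpoly.monic hx'.isIntegral) hx'
  haveI : Algebra.Etale K (K[X] ⧸ Ideal.span {minpoly K y}) :=
    Groth.Agent.Lib.Helper8.MonogenicUnram.etale_quotient_of_separable _
      (minpoly.monic hy'.isIntegral) hy'
  let ιx : (K[X] ⧸ Ideal.span {minpoly K x}) →ₐ[K] A :=
    Ideal.Quotient.liftₐ _ (aeval x) (by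
      intro a ha
      obtain ⟨c, rfl⟩ := Ideal.mem_span_singleton'.mp ha
      rw [map_mul, minpoly.aeval, mul_zero])
  let ιy : (K[X] ⧸ Ideal.span {minpoly K y}) →ₐ[K] A :=
    Ideal.Quotient.liftₐ _ (aeval y) (by
      intro a ha
      obtain ⟨c, rfl⟩ := Ideal.mem_span_singleton'.mp ha
      rw [map_mul, minpoly.aeval, mul_zero])
  haveI : Algebra.Etale K
      ((K[X] ⧸ Ideal.span {minpoly K x}) ⊗[K] (K[X] ⧸ Ideal.span {minpoly K y})) :=
    Algebra.Etale.comp K (K[X] ⧸ Ideal.span {minpoly K x}) _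
  refine ⟨(K[X] ⧸ Ideal.span {minpoly K x}) ⊗[K] (K[X] ⧸ Ideal.span {minpoly K y}),
    inferInstance, inferInstance, inferInstance,
    Algebra.TensorProduct.lift ιx ιy (fun _ _ => Commute.all _ _), ?_, ?_⟩
  · refine ⟨Ideal.Quotient.mk _ X ⊗ₜ 1, ?_⟩
    show Algebra.TensorProduct.lift ιx ιy _ _ = x
    rw [Algebra.TensorProduct.lift_tmul, map_one, mul_one]
    show aeval x X = x
    rw [aeval_X]
  · refine ⟨1 ⊗ₜ Ideal.Quotient.mk _ X, ?_⟩
    show Algebra.TensorProduct.lift ιx ιy _ _ = y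
    rw [Algebra.TensorProduct.lift_tmul, map_one, one_mul]
    show aeval y X = y
    rw [aeval_X]

theorem IsSepElem.add {x y : A} (hx : IsSepElem K x) (hy : IsSepElem K y) :
    IsSepElem K (x + y) := by
  obtain ⟨E, _, _, _, φ, ⟨a, rfl⟩, ⟨b, rfl⟩⟩ := isSepElem_of_two hx hy
  rw [← map_add]
  exact (isSepElem_of_weaklyEtale (a + b)).map φ

theorem IsSepElem.mul {x y : A} (hx : IsSepElem K x) (hy : IsSepElem K y) :
    IsSepElem K (x * y) := by
  obtain ⟨E, _, _, _, φ, ⟨a, rfl⟩, ⟨b, rfl⟩⟩ := isSepElem_of_two hx hy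
  rw [← map_mul]
  exact (isSepElem_of_weaklyEtale (a * b)).map φ

theorem isSepElem_algebraMap (a : K) : IsSepElem K (algebraMap K A a) :=
  ⟨X - C a, separable_X_sub_C, by simp⟩

variable (K A) in
/-- The subalgebra of elements that are roots of separable polynomials. -/
def sepSubalgebra : Subalgebra K A where
  carrier := {x | IsSepElem K x}
  mul_mem' := IsSepElem.mul
  add_mem' := IsSepElem.add
  algebraMap_mem' := isSepElem_algebraMap

theorem mem_sepSubalgebra {x : A} : x ∈ sepSubalgebra K A ↔ IsSepElem K x := Iff.rfl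

/-- A subalgebra consisting of separable elements is weakly étale. -/
theorem weaklyEtale_of_le_sepSubalgebra (S : Subalgebra K A) (h : S ≤ sepSubalgebra K A) :
    Algebra.WeaklyEtale K S :=
  weaklyEtale_of_forall_isSepElem fun s =>
    IsSepElem.of_map S.val Subtype.val_injective (h s.2)

theorem le_sepSubalgebra_of_weaklyEtale (S : Subalgebra K A) [Algebra.WeaklyEtale K S] :
    S ≤ sepSubalgebra K A := fun x hx =>
  (isSepElem_of_weaklyEtale (K := K) (⟨x, hx⟩ : S)).map S.val

theorem maxWeaklyEtale_eq : EtAlgD.maxWeaklyEtale K A = sepSubalgebra K A := by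
  apply le_antisymm
  · apply sSup_le
    intro S hS
    haveI : Algebra.WeaklyEtale K S := hS
    exact le_sepSubalgebra_of_weaklyEtale S
  · apply le_sSup
    exact weaklyEtale_of_le_sepSubalgebra _ le_rfl

/-- Subalgebras of weakly étale algebras over a field are weakly étale. -/
theorem weaklyEtale_subalgebra [Algebra.WeaklyEtale K A] (S : Subalgebra K A) :
    Algebra.WeaklyEtale K S :=
  weaklyEtale_of_le_sepSubalgebra S fun x _ => isSepElem_of_weaklyEtale x

end sepSubalgebra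


/-! ### Lifting separable elements through nilpotents -/

section lifting

variable {A : Type u} [CommRing A] [Algebra K A]

/-- A near-root of a separable polynomial lifts to a root modulo nilpotents. -/
theorem exists_root_of_separable_of_isNilpotent (Q : K[X]) (hQ : Q.Separable) (y : A)
    (hy : IsNilpotent (aeval y Q)) : ∃ y' : A, aeval y' Q = 0 ∧ IsNilpotent (y' - y) := by
  have hQ0 : Q ≠ 0 := hQ.ne_zero
  have hlc : Q.leadingCoeff ≠ 0 := leadingCoeff_ne_zero.mpr hQ0
  obtain ⟨Q₁, hQ₁def⟩ : ∃ Q₁ : K[X], Q₁ = Q * C Q.leadingCoeff⁻¹ := ⟨_, rfl⟩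
  have hQ₁mon : Q₁.Monic := hQ₁def ▸ monic_mul_leadingCoeff_inv hQ0
  have hQ₁sep : Q₁.Separable :=
    hQ₁def ▸ hQ.mul_unit (isUnit_C.mpr (IsUnit.mk0 _ (inv_ne_zero hlc)))
  have hQ₁ : ∀ t : A, aeval t Q₁ = aeval t Q * algebraMap K A Q.leadingCoeff⁻¹ := by
    intro t; rw [hQ₁def, map_mul, aeval_C]
  obtain ⟨f, hfdef⟩ : ∃ f : A[X], f = Q₁.map (algebraMap K A) := ⟨_, rfl⟩
  have hf : f.Monic := hfdef ▸ hQ₁mon.map _
  have hfeval : ∀ t : A, f.eval t = aeval t Q₁ := fun t => by
    rw [hfdef, eval_map_algebraMap]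
  have hnil : IsNilpotent (f.eval y) := by
    rw [hfeval, hQ₁]
    exact (Commute.all _ _).isNilpotent_mul_right hy
  obtain ⟨N, hN⟩ := hnil
  let I : Ideal A := Ideal.span {f.eval y}
  have hI : I ^ N = ⊥ := by
    rw [Ideal.span_singleton_pow, hN]; simp
  have hcomp : IsAdicComplete I A := Groth.Agent.Lib.Helper8.isAdicComplete_of_pow_eq_bot I N hI
  have hH : HenselianRing A I := inferInstance
  obtain ⟨a, b, hab⟩ := hQ₁sep
  have hunit : IsUnit (Ideal.Quotient.mk I (f.derivative.eval y)) := by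
    have h1 := congrArg (fun P : K[X] => aeval y P) hab
    simp only [map_add, map_mul, map_one] at h1
    have h2 : f.derivative.eval y = aeval y (derivative Q₁) := by
      rw [hfdef, derivative_map, eval_map_algebraMap]
    have h3 : Ideal.Quotient.mk I (aeval y Q₁) = 0 := by
      rw [← hfeval]
      exact Ideal.Quotient.eq_zero_iff_mem.mpr (Ideal.subset_span rfl)
    have h4 := congrArg (Ideal.Quotient.mk I) h1
    rw [map_add, map_mul, map_mul, h3, mul_zero, zero_add, map_one] at h4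
    rw [h2]
    exact IsUnit.of_mul_eq_one _ (by rw [mul_comm]; exact h4)
  obtain ⟨y', hy', hy'I⟩ := hH.is_henselian f hf y (Ideal.subset_span rfl) hunit
  refine ⟨y', ?_, ?_⟩
  · have h5 : aeval y' Q₁ = 0 := by rw [← hfeval]; exact hy'
    rw [hQ₁] at h5
    have h6 : IsUnit (algebraMap K A Q.leadingCoeff⁻¹) :=
      (IsUnit.mk0 _ (inv_ne_zero hlc)).map _
    exact (h6.mul_left_eq_zero).mp h5
  · obtain ⟨c, hc⟩ := Ideal.mem_span_singleton'.mp hy'I
    rw [← hc]
    exact (Commute.all _ _).isNilpotent_mul_left ⟨N, hN⟩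

end lifting

end Groth.Agent.Lib.Helper8.WEField
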