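import Mathlib
import Groth.Prelude
import Groth.Agent.Lib.Helper8.BranchNbhd
import Groth.Agent.Lib.Helper8.UnibranchMinPrime
import Groth.Agent.Lib.Helper8.Hzl.IntegralHens
import Groth.Agent.Lib.Helper8.Hzl.IndEtaleLike
import Groth.Agent.Lib.Helper8.Hzl.Nilradical

/-!
# Branches of a scheme at a point via étale neighbourhoods: main statements
-/

set_option autoImplicit false
universe u

open AlgebraicGeometry CategoryTheory Limits IsLocalRing

namespace Groth.Agent.Lib.Helper8.BranchNbhd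

open Groth.Agent.Lib.Helper8.Hzl

variable (X : Scheme.{u}) (x : X)

theorem numGeomBranchesAt_eq_iSup
    (hbr : ∀ (R S : Type u) [CommRing R] [IsLocalRing R] [CommRing S] [IsLocalRing S]
      [Algebra R S] [IsLocalHom (algebraMap R S)] [Hensel.IsStrictHenselization R S],
      ENat.card (minimalPrimes S) = Brnch.numGeomBranches R) :
    Brnch.numGeomBranchesAt X x = ⨆ (U : Scheme.{u}) (g : U ⟶ X) (u : U) (_ : Etale g ∧ g u = x),
      {Z : Set ↑U | Z ∈ irreducibleComponents ↑U ∧ u ∈ Z}.encard := by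
  apply le_antisymm
  · obtain ⟨_, ⟨V, hV, rfl⟩, hxV, -⟩ :=
      X.isBasis_affineOpens.exists_subset_of_mem_open (Set.mem_univ x) isOpen_univ
    letI algA : Algebra Γ(X, V) (X.presheaf.stalk x) :=
      X.presheaf.algebra_section_stalk ⟨x, hxV⟩
    haveI := hV.isLocalization_stalk ⟨x, hxV⟩
    letI algΩ : Algebra Γ(X, V) (Ωs (X.presheaf.stalk x)) :=
      ((algebraMap (X.presheaf.stalk x) (Ωs (X.presheaf.stalk x))).comp
        (algebraMap Γ(X, V) (X.presheaf.stalk x))).toAlgebra
    haveI : IsScalarTower Γ(X, V) (X.presheaf.stalk x) (Ωs (X.presheaf.stalk x)) :=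
      IsScalarTower.of_algebraMap_eq (fun _ => rfl)
    letI algAH := AtPrimeGen.algebraHz Γ(X, V) (hV.primeIdealOf ⟨x, hxV⟩).asIdeal
      (X.presheaf.stalk x) (Ωs (X.presheaf.stalk x))
    haveI := AtPrimeGen.isScalarTower_algebraHz Γ(X, V) (hV.primeIdealOf ⟨x, hxV⟩).asIdeal
      (X.presheaf.stalk x) (Ωs (X.presheaf.stalk x))
    haveI := AtPrimeGen.isLocalHom_algebraMap Γ(X, V) (hV.primeIdealOf ⟨x, hxV⟩).asIdeal
      (X.presheaf.stalk x) (Ωs (X.presheaf.stalk x))
    haveI := AtPrimeGen.isStrictHenselization Γ(X, V) (hV.primeIdealOf ⟨x, hxV⟩).asIdeal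
      (X.presheaf.stalk x)
    have hN : Brnch.numGeomBranchesAt X x =
        (minimalPrimes (Hz Γ(X, V) (Ωs (X.presheaf.stalk x)))).encard :=
      (hbr (X.presheaf.stalk x) (Hz Γ(X, V) (Ωs (X.presheaf.stalk x)))).symm
    rw [hN]
    refine ENat.forall_natCast_le_iff_le.mp fun n hn => ?_
    obtain ⟨k, hk⟩ := AtPrimeGen.exists_idx_natCast_le_encard n hn
    obtain ⟨U, g, u, hg, hgu, hcard, -⟩ := exists_etale_nbhd_of_idx X x hV hxV
      (Ωs (X.presheaf.stalk x))
      (fun r => AtPrimeGen.algebraMap_eq_zero_iff Γ(X, V) _ (X.presheaf.stalk x) _ r) k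
    refine le_trans ?_ (le_iSup_of_le U (le_iSup_of_le g (le_iSup_of_le u
      (le_iSup_of_le ⟨hg, hgu⟩ le_rfl))))
    rw [encard_irreducibleComponents_mem, hcard]
    exact hk
  · refine iSup_le fun U => iSup_le fun g => iSup_le fun u => iSup_le fun h => ?_
    obtain ⟨hg, hgu⟩ := h
    subst hgu
    haveI := hg
    rw [encard_irreducibleComponents_mem]
    haveI := isStrictHenselization (X.presheaf.stalk (g u))
    have h1 := (encard_minimalPrimes_stalk_le g u).1
    have h2 := hbr (X.presheaf.stalk (g u)) (SHens (X.presheaf.stalk (g u)))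
    exact h1.trans (le_of_eq h2)

theorem numBranchesAt_eq_iSup
    (hbr : ∀ (R S : Type u) [CommRing R] [IsLocalRing R] [CommRing S] [IsLocalRing S]
      [Algebra R S] [IsLocalHom (algebraMap R S)] [Hensel.IsHenselization R S],
      ENat.card (minimalPrimes S) = Brnch.numBranches R) :
    Brnch.numBranchesAt X x = ⨆ (U : Scheme.{u}) (g : U ⟶ X) (u : U)
      (_ : Hens2.IsEtaleNbhd g u x),
      {Z : Set ↑U | Z ∈ irreducibleComponents ↑U ∧ u ∈ Z}.encard := by
  apply le_antisymm
  · obtain ⟨_, ⟨V, hV, rfl⟩, hxV, -⟩ :=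
      X.isBasis_affineOpens.exists_subset_of_mem_open (Set.mem_univ x) isOpen_univ
    letI algA : Algebra Γ(X, V) (X.presheaf.stalk x) :=
      X.presheaf.algebra_section_stalk ⟨x, hxV⟩
    haveI := hV.isLocalization_stalk ⟨x, hxV⟩
    letI algΩ : Algebra Γ(X, V) (ResidueField (X.presheaf.stalk x)) :=
      ((algebraMap (X.presheaf.stalk x) (ResidueField (X.presheaf.stalk x))).comp
        (algebraMap Γ(X, V) (X.presheaf.stalk x))).toAlgebra
    haveI : IsScalarTower Γ(X, V) (X.presheaf.stalk x) (ResidueField (X.presheaf.stalk x)) :=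
      IsScalarTower.of_algebraMap_eq (fun _ => rfl)
    letI algAH := AtPrimeGen.algebraHz Γ(X, V) (hV.primeIdealOf ⟨x, hxV⟩).asIdeal
      (X.presheaf.stalk x) (ResidueField (X.presheaf.stalk x))
    haveI := AtPrimeGen.isScalarTower_algebraHz Γ(X, V) (hV.primeIdealOf ⟨x, hxV⟩).asIdeal
      (X.presheaf.stalk x) (ResidueField (X.presheaf.stalk x))
    haveI := AtPrimeGen.isLocalHom_algebraMap Γ(X, V) (hV.primeIdealOf ⟨x, hxV⟩).asIdeal
      (X.presheaf.stalk x) (ResidueField (X.presheaf.stalk x))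
    haveI := AtPrimeGen.isHenselization Γ(X, V) (hV.primeIdealOf ⟨x, hxV⟩).asIdeal
      (X.presheaf.stalk x)
    have hN : Brnch.numBranchesAt X x =
        (minimalPrimes (Hz Γ(X, V) (ResidueField (X.presheaf.stalk x)))).encard :=
      (hbr (X.presheaf.stalk x) (Hz Γ(X, V) (ResidueField (X.presheaf.stalk x)))).symm
    rw [hN]
    refine ENat.forall_natCast_le_iff_le.mp fun n hn => ?_
    obtain ⟨k, hk⟩ := AtPrimeGen.exists_idx_natCast_le_encard n hn
    obtain ⟨U, g, u, hg, hgu, hcard, hres⟩ := exists_etale_nbhd_of_idx X x hV hxV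
      (ResidueField (X.presheaf.stalk x))
      (fun r => AtPrimeGen.algebraMap_eq_zero_iff Γ(X, V) _ (X.presheaf.stalk x) _ r) k
    have hnb : Hens2.IsEtaleNbhd g u x :=
      ⟨hg, hgu, hres (AtPrimeGen.exists_frac Γ(X, V) (hV.primeIdealOf ⟨x, hxV⟩).asIdeal
        (X.presheaf.stalk x))⟩
    refine le_trans ?_ (le_iSup_of_le U (le_iSup_of_le g (le_iSup_of_le u
      (le_iSup_of_le hnb le_rfl))))
    rw [encard_irreducibleComponents_mem, hcard]
    exact hk
  · refine iSup_le fun U => iSup_le fun g => iSup_le fun u => iSup_le fun h => ?_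
    obtain ⟨hg, hgu, hres⟩ := h
    subst hgu
    haveI := hg
    rw [encard_irreducibleComponents_mem]
    haveI := isHenselization (X.presheaf.stalk (g u))
    have h1 := (encard_minimalPrimes_stalk_le g u).2 hres
    have h2 := hbr (X.presheaf.stalk (g u)) (Hens (X.presheaf.stalk (g u)))
    exact h1.trans (le_of_eq h2)

theorem one_le_encard_irreducibleComponents_mem (U : Scheme.{u}) (u : U) :
    1 ≤ {Z : Set ↑U | Z ∈ irreducibleComponents ↑U ∧ u ∈ Z}.encard := by
  rw [encard_irreducibleComponents_mem, Set.one_le_encard_iff_nonempty]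
  obtain ⟨P, hP, -⟩ := Ideal.exists_minimalPrimes_le (I := ⊥)
    (J := IsLocalRing.maximalIdeal (U.presheaf.stalk u)) bot_le
  exact ⟨P, hP⟩

theorem isGeomUnibranch_stalk_iff
    (hbr : ∀ (R S : Type u) [CommRing R] [IsLocalRing R] [CommRing S] [IsLocalRing S]
      [Algebra R S] [IsLocalHom (algebraMap R S)] [Hensel.IsStrictHenselization R S],
      ENat.card (minimalPrimes S) = Brnch.numGeomBranches R) :
    CAlg2.IsGeomUnibranch ↑(X.presheaf.stalk x) ↔
      ∀ (U : Scheme.{u}) (g : U ⟶ X) (u : U), Etale g → g u = x →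
        {Z : Set ↑U | Z ∈ irreducibleComponents ↑U ∧ u ∈ Z}.encard = 1 := by
  haveI := isStrictHenselization (X.presheaf.stalk x)
  have hiff : CAlg2.IsGeomUnibranch (X.presheaf.stalk x) ↔ Brnch.numGeomBranchesAt X x = 1 := by
    rw [EtaleUnibranch.isGeomUnibranch_iff_hasUniqueMinimalPrime (A := X.presheaf.stalk x)
      (Ash := SHens (X.presheaf.stalk x))]
    have := hbr (X.presheaf.stalk x) (SHens (X.presheaf.stalk x))
    change _ ↔ Brnch.numGeomBranches (X.presheaf.stalk x) = 1
    rw [← this]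
    exact hasUniqueMinimalPrime_iff_encard_eq_one _
  rw [hiff, numGeomBranchesAt_eq_iSup X x hbr]
  constructor
  · intro h U g u hg hgu
    apply le_antisymm
    · rw [← h]
      exact le_iSup_of_le U (le_iSup_of_le g (le_iSup_of_le u
        (le_iSup_of_le ⟨hg, hgu⟩ le_rfl)))
    · exact one_le_encard_irreducibleComponents_mem U u
  · intro h
    apply le_antisymm
    · refine iSup_le fun U => iSup_le fun g => iSup_le fun u => iSup_le fun hh => ?_
      rw [h U g u hh.1 hh.2]
    · have h1 := h X (𝟙 X) x inferInstance rfl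
      rw [← h1]
      exact le_iSup_of_le X (le_iSup_of_le (𝟙 X) (le_iSup_of_le x
        (le_iSup_of_le ⟨inferInstance, rfl⟩ le_rfl)))

theorem isUnibranch_iff_hasUniqueMinimalPrime {A Ah : Type u} [CommRing A] [IsLocalRing A]
    [CommRing Ah] [IsLocalRing Ah] [Algebra A Ah] [IsLocalHom (algebraMap A Ah)]
    [Hensel.IsHenselization A Ah] :
    CAlg2.IsUnibranch A ↔ CAlgX.HasUniqueMinimalPrime Ah := by
  haveI hh : HenselianLocalRing Ah := Hensel.IsHenselization.henselian (R := A)
  haveI := henselization_faithfullyFlat A Ah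
  constructor
  · rintro ⟨hdom, hloc⟩
    haveI := hdom
    haveI := hloc
    haveI : IsLocalHom (algebraMap A (CAlg2.normRed A)) :=
      Groth.Agent.Lib.Helper8.HenselSplitConv.isLocalHom_of_isIntegral A _
    have hl : IsLocalRing (TensorProduct A (CAlg2.normRed A) Ah) :=
      isLocalRing_tensor A (CAlg2.normRed A) Ah
    exact Groth.Agent.Lib.Helper8.UnibranchHens.hasUniqueMinimalPrime_of_isLocalRing_tensor A Ah
      (henselization_indEtaleLike A Ah) hdom hl
  · intro hS
    obtain ⟨h2, h3, -⟩ := Groth.Agent.Lib.Helper8.UnibranchHens.unibranch_of_hasUniqueMinimalPrime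
      A Ah (henselization_nilradical A Ah) hS
    exact ⟨h2, h3⟩

theorem isUnibranch_stalk_iff
    (hbr : ∀ (R S : Type u) [CommRing R] [IsLocalRing R] [CommRing S] [IsLocalRing S]
      [Algebra R S] [IsLocalHom (algebraMap R S)] [Hensel.IsHenselization R S],
      ENat.card (minimalPrimes S) = Brnch.numBranches R) :
    CAlg2.IsUnibranch ↑(X.presheaf.stalk x) ↔
      ∀ (U : Scheme.{u}) (g : U ⟶ X) (u : U), Hens2.IsEtaleNbhd g u x →
        {Z : Set ↑U | Z ∈ irreducibleComponents ↑U ∧ u ∈ Z}.encard = 1 := by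
  haveI := isHenselization (X.presheaf.stalk x)
  have hiff : CAlg2.IsUnibranch (X.presheaf.stalk x) ↔ Brnch.numBranchesAt X x = 1 := by
    rw [isUnibranch_iff_hasUniqueMinimalPrime (A := X.presheaf.stalk x)
      (Ah := Hens (X.presheaf.stalk x))]
    have := hbr (X.presheaf.stalk x) (Hens (X.presheaf.stalk x))
    change _ ↔ Brnch.numBranches (X.presheaf.stalk x) = 1
    rw [← this]
    exact hasUniqueMinimalPrime_iff_encard_eq_one _
  rw [hiff, numBranchesAt_eq_iSup X x hbr]
  constructor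
  · intro h U g u hnb
    apply le_antisymm
    · rw [← h]
      exact le_iSup_of_le U (le_iSup_of_le g (le_iSup_of_le u (le_iSup_of_le hnb le_rfl)))
    · exact one_le_encard_irreducibleComponents_mem U u
  · intro h
    have hid : Hens2.IsEtaleNbhd (𝟙 X) x x :=
      ⟨inferInstance, rfl, ConcreteCategory.bijective_of_isIso _⟩
    apply le_antisymm
    · refine iSup_le fun U => iSup_le fun g => iSup_le fun u => iSup_le fun hh => ?_
      rw [h U g u hh]
    · have h1 := h X (𝟙 X) x hid
      rw [← h1]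
      exact le_iSup_of_le X (le_iSup_of_le (𝟙 X) (le_iSup_of_le x (le_iSup_of_le hid le_rfl)))

end Groth.Agent.Lib.Helper8.BranchNbhd
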