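/-
Helper8 library: the local rings of an affine space over (the spectrum of) a valuation ring are
geometrically unibranch (they are normal local domains).
-/
import Mathlib
import Groth.Prelude.Def_CAlg2
import Groth.Agent.Lib.Helper8.SmoothUnibranch

set_option autoImplicit false
set_option linter.style.haveILetI false
universe u
open CategoryTheory CategoryTheory.Limits AlgebraicGeometry Opposite

namespace Groth.Agent.Lib.Helper8.AffSpaceNormal

/-- A normal local domain is geometrically unibranch. -/
theorem isGeomUnibranch_of_isIntegrallyClosed (B : Type u) [CommRing B] [IsLocalRing B]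
    [IsDomain B] [IsIntegrallyClosed B] : CAlg2.IsGeomUnibranch B := by
  refine SmoothUnibranch.isGeomUnibranch_of_normalization B B (fun a b h => by simpa using h)
    (fun b => ⟨1, b, one_ne_zero, by simp⟩) (fun x => ⟨0, ?_⟩)
  obtain ⟨b, rfl⟩ := Ideal.Quotient.mk_surjective x
  exact ⟨b, by simp⟩

theorem isIntegrallyClosed_of_valuationRing (V : Type u) [CommRing V] [IsDomain V]
    [ValuationRing V] : IsIntegrallyClosed V := by
  classical
  letI := IsBezout.toGCDDomain V
  infer_instance

theorem isIntegrallyClosed_mvPolynomial_fin (R : Type u) [CommRing R] [IsDomain R]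
    [IsIntegrallyClosed R] : ∀ n : ℕ, IsIntegrallyClosed (MvPolynomial (Fin n) R)
  | 0 => IsIntegrallyClosed.of_equiv (MvPolynomial.isEmptyAlgEquiv R (Fin 0)).symm.toRingEquiv
  | n + 1 => by
    haveI := isIntegrallyClosed_mvPolynomial_fin R n
    exact IsIntegrallyClosed.of_equiv (MvPolynomial.finSuccEquiv R n).symm.toRingEquiv

theorem isIntegrallyClosed_mvPolynomial_ulift (R : Type u) [CommRing R] [IsDomain R]
    [IsIntegrallyClosed R] (n : ℕ) : IsIntegrallyClosed (MvPolynomial (ULift.{u} (Fin n)) R) := by
  haveI := isIntegrallyClosed_mvPolynomial_fin R n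
  exact IsIntegrallyClosed.of_equiv
    (MvPolynomial.renameEquiv R (Equiv.ulift : ULift.{u} (Fin n) ≃ Fin n)).symm.toRingEquiv

/-- The local rings of `𝔸ⁿ` over a valuation ring are geometrically unibranch. -/
theorem isGeomUnibranch_stalk_affineSpace (V : Type u) [CommRing V] [IsDomain V] [ValuationRing V]
    (n : ℕ) (w : 𝔸(ULift.{u} (Fin n); Spec (CommRingCat.of V))) :
    CAlg2.IsGeomUnibranch
      ((𝔸(ULift.{u} (Fin n); Spec (CommRingCat.of V))).presheaf.stalk w) := by
  haveI := isIntegrallyClosed_of_valuationRing V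
  haveI := isIntegrallyClosed_mvPolynomial_ulift V n
  let e := AffineSpace.SpecIso (ULift.{u} (Fin n)) (CommRingCat.of V)
  let p : Spec (CommRingCat.of (MvPolynomial (ULift.{u} (Fin n)) V)) := e.hom w
  let e₁ : (Spec (CommRingCat.of (MvPolynomial (ULift.{u} (Fin n)) V))).presheaf.stalk p ≃+*
      (𝔸(ULift.{u} (Fin n); Spec (CommRingCat.of V))).presheaf.stalk w :=
    (asIso (e.hom.stalkMap w)).commRingCatIsoToRingEquiv
  let e₂ : (Spec (CommRingCat.of (MvPolynomial (ULift.{u} (Fin n)) V))).presheaf.stalk p ≃+*
      Localization.AtPrime p.asIdeal :=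
    (Spec.stalkIso (CommRingCat.of (MvPolynomial (ULift.{u} (Fin n)) V)) p).commRingCatIsoToRingEquiv
  haveI : IsIntegrallyClosed (Localization.AtPrime p.asIdeal) :=
    isIntegrallyClosed_of_isLocalization (Localization.AtPrime p.asIdeal) p.asIdeal.primeCompl
      p.asIdeal.primeCompl_le_nonZeroDivisors
  have h := isGeomUnibranch_of_isIntegrallyClosed (Localization.AtPrime p.asIdeal)
  exact SmoothUnibranch.isGeomUnibranch_of_ringEquiv (e₁.symm.trans e₂) h

end Groth.Agent.Lib.Helper8.AffSpaceNormal
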