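import Mathlib

/-!
# Points of pullbacks and generic points

* `pullback_point_ext`: two points of `X ×[S] Y` with the same projections are equal as soon as the
  residue field extension of `g` at the second projection is bijective.
* `eq_genericPoint_of_map_eq_genericPoint`: for an unramified morphism of integral schemes, the only
  point over the generic point of the target is the generic point.
-/

set_option autoImplicit false

open AlgebraicGeometry CategoryTheory Limits

namespace Groth.Agent.Lib.Helper8

universe u

theorem subsingleton_primeSpectrum_of_isField {R : Type*} [CommRing R] (h : IsField R) :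
    Subsingleton (PrimeSpectrum R) := by
  refine ⟨fun p q => ?_⟩
  have key : ∀ I : Ideal R, I.IsPrime → I = ⊥ := by
    intro I hI
    let _ := h.toField
    exact (Ideal.eq_bot_or_top I).resolve_right hI.ne_top
  ext1
  rw [key p.asIdeal p.2, key q.asIdeal q.2]

theorem pullback_point_ext {X Y S : Scheme.{u}} {f : X ⟶ S} {g : Y ⟶ S}
    (t₁ t₂ : ↑(pullback f g))
    (h₁ : pullback.fst f g t₁ = pullback.fst f g t₂)
    (h₂ : pullback.snd f g t₁ = pullback.snd f g t₂)
    (hbij : Function.Bijective (g.residueFieldMap (pullback.snd f g t₂)).hom) : t₁ = t₂ := by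
  apply Scheme.Pullback.carrierEquiv.injective
  rw [Scheme.Pullback.carrierEquiv_eq_iff]
  have e : Scheme.Pullback.Triplet.ofPoint t₁ = Scheme.Pullback.Triplet.ofPoint t₂ :=
    Scheme.Pullback.Triplet.ext h₁ h₂
  refine ⟨e, ?_⟩
  have hiso : IsIso (g.residueFieldMap (pullback.snd f g t₂)) :=
    (ConcreteCategory.isIso_iff_bijective _).mpr hbij
  have hinl : IsIso (Scheme.Pullback.Triplet.ofPoint t₂).tensorInl := by
    unfold Scheme.Pullback.Triplet.tensorInl
    have : IsIso ((S.residueFieldCongr (Scheme.Pullback.Triplet.ofPoint t₂).hy).inv ≫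
        g.residueFieldMap (Scheme.Pullback.Triplet.ofPoint t₂).y) := by
      have : IsIso (g.residueFieldMap (Scheme.Pullback.Triplet.ofPoint t₂).y) := hiso
      infer_instance
    exact (IsPushout.of_hasPushout _ _).isIso_inl_of_isIso this
  have hsub : Subsingleton (Spec (Scheme.Pullback.Triplet.ofPoint t₂).tensor) := by
    let e' := (asIso (Scheme.Pullback.Triplet.ofPoint t₂).tensorInl).commRingCatIsoToRingEquiv
    have : Subsingleton (PrimeSpectrum (X.residueField (Scheme.Pullback.Triplet.ofPoint t₂).x)) :=
      inferInstance
    exact (PrimeSpectrum.comapEquiv e').toEquiv.symm.subsingleton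
  exact @Subsingleton.elim _ hsub _ _

theorem eq_genericPoint_of_map_eq_genericPoint {X Y : Scheme.{u}} [IsIntegral X] [IsIntegral Y]
    (f : X ⟶ Y) [LocallyOfFiniteType f] [FormallyUnramified f] (x : X)
    (hx : f x = genericPoint Y) : x = genericPoint X := by
  have hfld : ∀ y : Y, y = genericPoint Y → IsField (Y.presheaf.stalk y) := by
    rintro _ rfl
    exact Field.toIsField Y.functionField
  have hR := hfld (f x) hx
  algebraize [(f.stalkMap x).hom]
  have : IsLocalHom (algebraMap (Y.presheaf.stalk (f x)) (X.presheaf.stalk x)) :=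
    inferInstanceAs <| IsLocalHom (f.stalkMap x).hom
  have : Algebra.EssFiniteType (Y.presheaf.stalk (f x)) (X.presheaf.stalk x) := by
    rw [← RingHom.essFiniteType_algebraMap, RingHom.algebraMap_toAlgebra]
    exact LocallyOfFiniteType.stalkMap f x
  have : Algebra.FormallyUnramified (Y.presheaf.stalk (f x)) (X.presheaf.stalk x) := by
    rw [← RingHom.formallyUnramified_algebraMap, RingHom.algebraMap_toAlgebra]
    exact FormallyUnramified.stalkMap f x
  have hm := Algebra.FormallyUnramified.map_maximalIdeal
    (R := Y.presheaf.stalk (f x)) (S := X.presheaf.stalk x)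
  rw [IsLocalRing.isField_iff_maximalIdeal_eq.mp hR, Ideal.map_bot] at hm
  have hS : IsField (X.presheaf.stalk x) := IsLocalRing.isField_iff_maximalIdeal_eq.mpr hm.symm
  have hgen : genericPoint X ∈ Set.range (X.fromSpecStalk x) := by
    rw [Scheme.range_fromSpecStalk]; exact genericPoint_specializes x
  have hx' : x ∈ Set.range (X.fromSpecStalk x) := by
    rw [Scheme.range_fromSpecStalk]; exact specializes_rfl
  obtain ⟨a, ha⟩ := hgen
  obtain ⟨b, hb⟩ := hx'
  have : Subsingleton (PrimeSpectrum (X.presheaf.stalk x)) :=
    subsingleton_primeSpectrum_of_isField hS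
  calc x = X.fromSpecStalk x b := hb.symm
    _ = X.fromSpecStalk x a :=
      congrArg _ (Subsingleton.elim (α := PrimeSpectrum (X.presheaf.stalk x)) b a)
    _ = genericPoint X := ha

end Groth.Agent.Lib.Helper8
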