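import Mathlib
import Groth.Agent.Lib.Helper1.WeaklyEtaleLib
import Groth.Agent.Lib.Helper8.FlatEtale
import Groth.Agent.Lib.Helper8.EtaleReduced

/-!
# Flat + unramified + finite type over a reduced ring with finitely many minimal primes is étale
-/

set_option autoImplicit false
universe u

namespace Groth.Agent.Lib.Helper8.FlatUnramEtale

/-- Minimal primes of a flat algebra lie over minimal primes. -/
theorem under_mem_minimalPrimes {A C : Type*} [CommRing A] [CommRing C] [Algebra A C]
    [Algebra.HasGoingDown A C] {Q : Ideal C} (hQ : Q ∈ minimalPrimes C) :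
    Q.under A ∈ minimalPrimes A := by
  haveI : Q.IsPrime := hQ.1.1
  refine ⟨⟨inferInstance, bot_le⟩, ?_⟩
  rintro p ⟨hp, -⟩ hle
  haveI := hp
  obtain ⟨P, hPQ, hP, hPp⟩ := Ideal.exists_ideal_le_liesOver_of_le (p := p) (q := Q.under A) Q hle
  have : Q ≤ P := hQ.2 ⟨hP, bot_le⟩ hPQ
  have hPeq : P = Q := le_antisymm hPQ this
  rw [← hPeq, ← hPp.over]

/-- A flat quasi-finite algebra over a ring with finitely many minimal primes has finitely many
minimal primes. -/
theorem finite_minimalPrimes {A C : Type*} [CommRing A] [CommRing C] [Algebra A C]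
    [Algebra.HasGoingDown A C] [Algebra.QuasiFinite A C] (h : (minimalPrimes A).Finite) :
    (minimalPrimes C).Finite := by
  have h1 : minimalPrimes C ⊆ ⋃ p ∈ minimalPrimes A, p.primesOver C := by
    intro Q hQ
    simp only [Set.mem_iUnion]
    exact ⟨Q.under A, under_mem_minimalPrimes hQ, hQ.1.1, ⟨rfl⟩⟩
  exact (h.biUnion fun p _ => Algebra.QuasiFinite.finite_primesOver p).subset h1

/-- The zero locus of a pure ideal is stable under generization. -/
theorem le_of_le_of_pure {C : Type*} [CommRing C] (I : Ideal C) [I.Pure] {x y : Ideal C}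
    [x.IsPrime] [y.IsPrime] (hyx : y ≤ x) (hI : I ≤ x) : I ≤ y := by
  intro a ha
  obtain ⟨b, hb, hab⟩ := Ideal.exists_eq_mul_of_pure ha
  have h1 : a * (1 - b) = 0 := by rw [mul_sub, mul_one, ← hab, sub_self]
  have h2 : (1 - b) ∉ y := by
    intro h
    have : (1 : C) ∈ x := by
      have := x.add_mem (hyx h) (hI hb)
      rwa [sub_add_cancel] at this
    exact (Ideal.IsPrime.ne_top inferInstance) ((Ideal.eq_top_iff_one x).mpr this)
  have h3 : a * (1 - b) ∈ y := by rw [h1]; exact y.zero_mem
  exact ((Ideal.IsPrime.mem_or_mem inferInstance h3).resolve_right h2)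

/-- A pure ideal in a ring with finitely many minimal primes is generated by an idempotent. -/
theorem fg_of_pure_of_finite_minimalPrimes {C : Type*} [CommRing C] (I : Ideal C) [I.Pure]
    (h : (minimalPrimes C).Finite) : I.FG := by
  classical
  -- the zero locus of `I` is clopen
  have hclosed : IsClosed (PrimeSpectrum.zeroLocus (I : Set C)) :=
    PrimeSpectrum.isClosed_zeroLocus _
  have hcompl : (PrimeSpectrum.zeroLocus (I : Set C))ᶜ =
      ⋃ P ∈ {P ∈ minimalPrimes C | ¬ I ≤ P}, PrimeSpectrum.zeroLocus (P : Set C) := by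
    ext x
    simp only [Set.mem_compl_iff, PrimeSpectrum.mem_zeroLocus, SetLike.coe_subset_coe,
      Set.mem_setOf_eq, Set.mem_iUnion, exists_prop]
    constructor
    · intro hx
      obtain ⟨P, hP, hPx⟩ := Ideal.exists_minimalPrimes_le (I := (⊥ : Ideal C)) (J := x.asIdeal)
        bot_le
      exact ⟨P, ⟨hP, fun hIP => hx (hIP.trans hPx)⟩, hPx⟩
    · rintro ⟨P, ⟨hP, hIP⟩, hPx⟩ hIx
      haveI : P.IsPrime := hP.1.1
      exact hIP (le_of_le_of_pure I hPx hIx)
  have hopen : IsOpen (PrimeSpectrum.zeroLocus (I : Set C)) := by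
    rw [← isClosed_compl_iff, hcompl]
    exact (h.subset (Set.sep_subset _ _)).isClosed_biUnion
      fun P _ => PrimeSpectrum.isClosed_zeroLocus _
  obtain ⟨e, he, hee⟩ := PrimeSpectrum.isClopen_iff.mp ⟨hclosed, hopen⟩
  -- `V(I) = D(e) = V(1 - e)`
  have hJpure : (Ideal.span {1 - e}).Pure :=
    Ideal.Pure.of_isIdempotentElem ⟨{1 - e}, by simp⟩ (by
      rw [IsIdempotentElem, Ideal.span_singleton_mul_span_singleton, he.one_sub.eq])
  have hzero : PrimeSpectrum.zeroLocus (I : Set C) =
      PrimeSpectrum.zeroLocus ((Ideal.span {1 - e} : Ideal C) : Set C) := by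
    rw [hee, PrimeSpectrum.zeroLocus_span]
    ext x
    simp only [PrimeSpectrum.basicOpen, TopologicalSpace.Opens.coe_mk, Set.mem_setOf_eq,
      PrimeSpectrum.mem_zeroLocus, Set.singleton_subset_iff, SetLike.mem_coe]
    constructor
    · intro hx
      have h0 : e * (1 - e) ∈ x.asIdeal := by
        rw [mul_sub, mul_one, he.eq, sub_self]; exact x.asIdeal.zero_mem
      exact (x.2.mem_or_mem h0).resolve_left hx
    · intro hx hex
      have : (1 : C) ∈ x.asIdeal := by
        have := x.asIdeal.add_mem hex hx
        rwa [add_sub_cancel] at this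
      exact x.2.ne_top ((Ideal.eq_top_iff_one _).mpr this)
  have := Ideal.zeroLocus_inj_of_pure.mp hzero
  rw [this]
  exact ⟨{1 - e}, by simp⟩


/-- A flat, formally unramified algebra of finite type over a reduced ring with finitely many
minimal primes is étale (in particular finitely presented). -/
theorem etale_of_flat_of_unramified (A B : Type u) [CommRing A] [CommRing B] [Algebra A B]
    [IsReduced A] (hA : (minimalPrimes A).Finite) [Algebra.FiniteType A B] [Module.Flat A B]
    [Algebra.FormallyUnramified A B] : Algebra.Etale A B := by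
  suffices h : Algebra.FinitePresentation A B from Algebra.Etale.of_formallyUnramified_of_flat
  refine Algebra.FinitePresentation.of_span_eq_top_target
    {f : B | HasStandardEtaleSurjectionOn A f} ?_ ?_
  · by_contra hne
    obtain ⟨Q, hQ, hle⟩ := Ideal.exists_le_maximal _ hne
    haveI : Q.IsPrime := hQ.isPrime
    obtain ⟨f, hfQ, hf⟩ := Algebra.IsUnramifiedAt.exists_hasStandardEtaleSurjectionOn (R := A) Q
    exact hfQ (hle (Ideal.subset_span hf))
  · rintro f ⟨P, φ, hφ⟩
    letI : Algebra P.Ring (Localization.Away f) := φ.toRingHom.toAlgebra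
    haveI : IsScalarTower A P.Ring (Localization.Away f) :=
      IsScalarTower.of_algebraMap_eq (fun a => (φ.commutes a).symm)
    haveI : Module.Flat A (Localization.Away f) := Module.Flat.trans A B (Localization.Away f)
    haveI : Module.Flat P.Ring (Localization.Away f) :=
      Groth.Agent.Lib.Helper8.flat_of_flat_of_unramified A P.Ring (Localization.Away f)
    have hflat : φ.toRingHom.Flat := ‹Module.Flat P.Ring (Localization.Away f)›
    haveI hpure : (RingHom.ker φ.toRingHom).Pure :=
      Groth.Agent.Lib.Helper1.WeaklyEtale.pure_ker_of_flat_of_surjective _ hφ hflat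
    haveI : IsReduced P.Ring := Groth.Agent.Lib.Helper8.isReduced_standardEtalePair P
    have hmin : (minimalPrimes P.Ring).Finite := finite_minimalPrimes (A := A) hA
    have hfg : (RingHom.ker φ.toRingHom).FG := fg_of_pure_of_finite_minimalPrimes _ hmin
    exact Algebra.FinitePresentation.of_surjective hφ hfg

end Groth.Agent.Lib.Helper8.FlatUnramEtale
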