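import Mathlib
import Groth.Agent.Lib.Helper8.FlatUnramEtale

/-!
# Irreducible components of a scheme étale over an irreducible scheme: local finiteness
-/

set_option autoImplicit false
open CategoryTheory CategoryTheory.Limits AlgebraicGeometry Opposite
universe u

namespace Groth.Agent.Lib.Helper8.EtaleIrredSch

theorem locallyQuasiFinite_of_etale {X Y : Scheme.{u}} (f : X ⟶ Y) [Etale f] :
    LocallyQuasiFinite f := by
  rw [HasRingHomProperty.iff_appLE (P := @LocallyQuasiFinite)]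
  intro U V e
  have h1 := HasRingHomProperty.appLE (P := @Etale) f inferInstance U V e
  algebraize [(f.appLE U V e).hom]
  change Algebra.QuasiFinite _ _
  haveI : Algebra.Etale Γ(Y, U.1) Γ(X, V.1) := h1
  infer_instance

/-- Local finiteness of irreducible components for a scheme étale over an irreducible scheme. -/
theorem exists_open_finite_cover {X Y : Scheme.{u}} (f : X ⟶ Y) [Etale f] [IrreducibleSpace Y]
    (z : X) : ∃ W : Set X, IsOpen W ∧ z ∈ W ∧ ∃ S : Set (Set X), S.Finite ∧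
      S ⊆ irreducibleComponents X ∧ W ⊆ ⋃₀ S := by
  obtain ⟨_, ⟨U, hU, rfl⟩, hzU, -⟩ :=
    Y.isBasis_affineOpens.exists_subset_of_mem_open (Set.mem_univ (f.base z)) isOpen_univ
  obtain ⟨_, ⟨V, hV, rfl⟩, hzV, hVU⟩ :=
    X.isBasis_affineOpens.exists_subset_of_mem_open (show z ∈ (f ⁻¹ᵁ U : Set X) from hzU)
      (f ⁻¹ᵁ U).2
  replace hVU : V ≤ f ⁻¹ᵁ U := hVU
  have het : (f.appLE U V hVU).hom.Etale :=
    HasRingHomProperty.appLE @Etale f ‹_› ⟨U, hU⟩ ⟨V, hV⟩ hVU
  algebraize [(f.appLE U V hVU).hom]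
  haveI : Algebra.Etale Γ(Y, U) Γ(X, V) := het
  -- `Γ(Y, U)` has finitely many minimal primes
  have hminA : (minimalPrimes Γ(Y, U)).Finite := by
    haveI : IsOpenImmersion hU.fromSpec := hU.isOpenImmersion_fromSpec
    have hemb : Topology.IsOpenEmbedding (hU.fromSpec.base : Spec Γ(Y, U) → Y) :=
      hU.fromSpec.isOpenEmbedding
    haveI : Nonempty (Spec Γ(Y, U)) := ⟨hU.primeIdealOf ⟨f.base z, hzU⟩⟩
    haveI : PreirreducibleSpace (Spec Γ(Y, U)) := by
      constructor
      have := (PreirreducibleSpace.isPreirreducible_univ (X := Y)).preimage hemb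
      simpa using this
    haveI : IrreducibleSpace (Spec Γ(Y, U)) := { toPreirreducibleSpace := inferInstance, toNonempty := inferInstance }
    have hfin : (irreducibleComponents (Spec Γ(Y, U))).Finite := by
      rw [irreducibleComponents_eq_singleton]
      exact Set.finite_singleton _
    have := PrimeSpectrum.vanishingIdeal_irreducibleComponents Γ(Y, U)
    rw [← this]
    exact hfin.image _
  have hminC : (minimalPrimes Γ(X, V)).Finite :=
    Groth.Agent.Lib.Helper8.FlatUnramEtale.finite_minimalPrimes (A := Γ(Y, U)) hminA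
  have hfinP : {P : PrimeSpectrum Γ(X, V) | P.asIdeal ∈ minimalPrimes Γ(X, V)}.Finite :=
    hminC.preimage (fun a _ b _ h => PrimeSpectrum.ext h)
  refine ⟨(V : Set X), V.2, hzV,
    (fun P : PrimeSpectrum Γ(X, V) => irreducibleComponent (hV.fromSpec.base P)) ''
      {P : PrimeSpectrum Γ(X, V) | P.asIdeal ∈ minimalPrimes Γ(X, V)}, hfinP.image _, ?_, ?_⟩
  · rintro _ ⟨P, -, rfl⟩
    exact irreducibleComponent_mem_irreducibleComponents _
  · intro w hw
    have : w ∈ Set.range hV.fromSpec.base := by rw [hV.range_fromSpec]; exact hw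
    obtain ⟨P, rfl⟩ := this
    let P' : PrimeSpectrum Γ(X, V) := P
    haveI : P'.asIdeal.IsPrime := P'.2
    obtain ⟨P₀, hP₀, hP₀P⟩ := Ideal.exists_minimalPrimes_le (I := (⊥ : Ideal Γ(X, V)))
      (J := P'.asIdeal) bot_le
    refine ⟨_, ⟨⟨P₀, hP₀.1.1⟩, hP₀, rfl⟩, ?_⟩
    have hsp : (⟨P₀, hP₀.1.1⟩ : PrimeSpectrum Γ(X, V)) ⤳ P' :=
      (PrimeSpectrum.le_iff_specializes _ _).mp hP₀P
    have hsp' : hV.fromSpec.base ⟨P₀, hP₀.1.1⟩ ⤳ hV.fromSpec.base P' :=
      hsp.map hV.fromSpec.base.hom.continuous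
    exact hsp'.mem_closed isClosed_irreducibleComponent mem_irreducibleComponent


end Groth.Agent.Lib.Helper8.EtaleIrredSch
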