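import Mathlib
import Groth.Agent.Lib.Helper8.EtaleUnibranch
import Groth.Agent.Lib.Helper8.EtaleAffineNhd

/-!
# Local rings of a scheme étale over a geometrically unibranch point
-/

set_option autoImplicit false
open CategoryTheory CategoryTheory.Limits AlgebraicGeometry Opposite
universe u

namespace Groth.Agent.Lib.Helper8.EtaleUnibranchSch

/-- If `f` is étale near `x` and the local ring of `Y` at `f x` is geometrically unibranch, then so
is the local ring of `X` at `x`; it is a domain if the local ring at `f x` is. -/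
theorem stalk_isGeomUnibranch_of_etale_nhd {X Y : Scheme.{u}} (f : X ⟶ Y) (x : X)
    (hY' : CAlg2.IsGeomUnibranch (Y.presheaf.stalk (f.base x)))
    (hf : ∃ U : X.Opens, x ∈ U ∧ Etale (U.ι ≫ f)) :
    CAlg2.IsGeomUnibranch (X.presheaf.stalk x) ∧
      (IsDomain (Y.presheaf.stalk (f.base x)) → IsDomain (X.presheaf.stalk x)) := by
  obtain ⟨W, V, hW, hV, hVW, hxV, het⟩ := Groth.Agent.Lib.Helper8.EtaleAffineNhd.exists_affine_etale_appLE f x hf
  have hyW : f.base x ∈ W := hVW hxV
  have hcomm : Y.presheaf.germ W (f.base x) hyW ≫ f.stalkMap x =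
      f.appLE W V hVW ≫ X.presheaf.germ V x hxV := by
    rw [Scheme.Hom.germ_stalkMap, Scheme.Hom.appLE, Category.assoc, TopCat.Presheaf.germ_res]
  letI algAC : Algebra Γ(Y, W) Γ(X, V) := (f.appLE W V hVW).hom.toAlgebra
  haveI : Algebra.Etale Γ(Y, W) Γ(X, V) := het
  letI algA : Algebra Γ(Y, W) (Y.presheaf.stalk (f.base x)) :=
    Y.presheaf.algebra_section_stalk ⟨f.base x, hyW⟩
  letI algB : Algebra Γ(X, V) (X.presheaf.stalk x) := X.presheaf.algebra_section_stalk ⟨x, hxV⟩
  letI algAB : Algebra (Y.presheaf.stalk (f.base x)) (X.presheaf.stalk x) :=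
    (f.stalkMap x).hom.toAlgebra
  letI algA₀B : Algebra Γ(Y, W) (X.presheaf.stalk x) :=
    ((X.presheaf.germ V x hxV).hom.comp (f.appLE W V hVW).hom).toAlgebra
  haveI : IsScalarTower Γ(Y, W) Γ(X, V) (X.presheaf.stalk x) :=
    IsScalarTower.of_algebraMap_eq (fun _ => rfl)
  haveI : IsScalarTower Γ(Y, W) (Y.presheaf.stalk (f.base x)) (X.presheaf.stalk x) := by
    refine IsScalarTower.of_algebraMap_eq (fun a => ?_)
    have := congrArg (fun φ => φ.hom a) hcomm
    exact this.symm
  haveI : IsLocalHom (algebraMap (Y.presheaf.stalk (f.base x)) (X.presheaf.stalk x)) :=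
    (inferInstance : IsLocalHom (f.stalkMap x).hom)
  haveI := hW.isLocalization_stalk ⟨f.base x, hyW⟩
  haveI := hV.isLocalization_stalk ⟨x, hxV⟩
  obtain ⟨h1, h2⟩ := Groth.Agent.Lib.Helper8.EtaleUnibranch.isGeomUnibranch_and_isDomain_of_etale
    (hW.primeIdealOf ⟨f.base x, hyW⟩).asIdeal (hV.primeIdealOf ⟨x, hxV⟩).asIdeal
    (Y.presheaf.stalk (f.base x)) (X.presheaf.stalk x) hY'
  exact ⟨h1, h2⟩


end Groth.Agent.Lib.Helper8.EtaleUnibranchSch
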