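import Mathlib
import Groth.Agent.Lib.Helper8.AffSpaceNormal
import Groth.Agent.Lib.Helper8.PullbackPoint
import Groth.Agent.S2787

/-!
# Étale separated schemes over a normal integral scheme with separably closed function field

Such a scheme is a disjoint union of open subschemes of the base.
-/

set_option autoImplicit false
universe u
open CategoryTheory CategoryTheory.Limits AlgebraicGeometry

namespace Groth.Agent.Lib.Helper8.EtSepNormal

lemma isSepClosed_of_ringEquiv {K L : Type*} [Field K] [Field L] (e : K ≃+* L) [IsSepClosed K] :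
    IsSepClosed L := by
  refine ⟨fun p hp => ?_⟩
  have h1 : (p.map (e.symm : L →+* K)).Separable := hp.map
  have h2 := (IsSepClosed.splits_of_separable _ h1).map (e : K →+* L)
  rwa [Polynomial.map_map, show (e : K →+* L).comp (e.symm : L →+* K) = RingHom.id L from
    RingHom.ext fun x => e.apply_symm_apply x, Polynomial.map_id] at h2

theorem isSepClosed_residueField_genericPoint (X : Scheme.{u}) [IsIntegral X]
    [IsSepClosed X.functionField] (y : X) (hy : y = genericPoint X) :
    IsSepClosed (X.residueField y) := by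
  subst hy
  have hinj : Function.Injective
      ((X.residue (genericPoint X)).hom : X.functionField →+* X.residueField (genericPoint X)) :=
    RingHom.injective _
  exact isSepClosed_of_ringEquiv
    (RingEquiv.ofBijective _ ⟨hinj, X.residue_surjective (genericPoint X)⟩)

theorem surjective_residueFieldMap_of_isSepClosed {X S : Scheme.{u}} (f : X ⟶ S)
    [FormallyUnramified f] [LocallyOfFiniteType f] (x : X)
    [IsSepClosed (S.residueField (f x))] :
    Function.Surjective (f.residueFieldMap x).hom := by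
  letI : Algebra (S.residueField (f x)) (X.residueField x) := (f.residueFieldMap x).hom.toAlgebra
  haveI : Algebra.IsSeparable (S.residueField (f x)) (X.residueField x) := inferInstance
  exact IsSepClosed.algebraMap_surjective _ _

theorem isOpenImmersion_of_diagonal_surjective {Y S : Scheme.{u}} (p : Y ⟶ S) [Etale p]
    (hΔ : Set.range (pullback.diagonal p).base = Set.univ) : IsOpenImmersion p := by
  have : IsIso (pullback.diagonal p) :=
    isIso_of_isOpenImmersion_of_opensRange_eq_top _ (TopologicalSpace.Opens.ext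
      ((Scheme.Hom.coe_opensRange _).trans (hΔ.trans TopologicalSpace.Opens.coe_top.symm)))
  have hfs : pullback.fst p p = pullback.snd p p := by
    rw [← cancel_epi (pullback.diagonal p), pullback.diagonal_fst, pullback.diagonal_snd]
  have : Mono p := ⟨fun u v h => by
    calc u = pullback.lift u v h ≫ pullback.fst p p := (pullback.lift_fst u v h).symm
      _ = pullback.lift u v h ≫ pullback.snd p p := by rw [hfs]
      _ = v := pullback.lift_snd u v h⟩
  exact IsOpenImmersion.of_flat_of_mono p

theorem isGeomUnibranch_stalk {X : Scheme.{u}} [IsIntegral X]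
    (hN : ∀ x : X, IsIntegrallyClosed (X.presheaf.stalk x)) (y : X) :
    CAlg2.IsGeomUnibranch (X.presheaf.stalk y) := by
  haveI := hN y
  exact AffSpaceNormal.isGeomUnibranch_of_isIntegrallyClosed _

theorem isOpenImmersion_of_irreducibleSpace {W X : Scheme.{u}} [IsIntegral X]
    (hN : ∀ x : X, IsIntegrallyClosed (X.presheaf.stalk x)) [IsSepClosed X.functionField]
    [IrreducibleSpace W] (p : W ⟶ X) [Etale p] [IsSeparated p] : IsOpenImmersion p := by
  have hY := isGeomUnibranch_stalk hN
  obtain ⟨-, hW2⟩ := Groth.Agent.S2787.result p hY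
  obtain ⟨-, ξ, ⟨-, hξ⟩, hξu⟩ :=
    hW2 Set.univ (by rw [irreducibleComponents_eq_singleton]; rfl)
  have huniq : ∀ w : W, p w = genericPoint X → w = ξ := fun w hw => hξu w ⟨trivial, hw⟩
  apply isOpenImmersion_of_diagonal_surjective
  obtain ⟨hD1, hD2⟩ := Groth.Agent.S2787.result (pullback.fst p p ≫ p) hY
  have hcl : IsClopen (Set.range (pullback.diagonal p).base) :=
    ⟨(pullback.diagonal p).isClosedEmbedding.isClosed_range,
      (pullback.diagonal p).isOpenEmbedding.isOpen_range⟩
  have hone : ∀ d d' : ↥(pullback p p), (pullback.fst p p ≫ p) d = genericPoint X →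
      (pullback.fst p p ≫ p) d' = genericPoint X → d = d' := by
    intro d d' hd hd'
    have h1 : pullback.fst p p d = ξ := huniq _ (by rw [← Scheme.Hom.comp_apply]; exact hd)
    have h1' : pullback.fst p p d' = ξ := huniq _ (by rw [← Scheme.Hom.comp_apply]; exact hd')
    have h2 : pullback.snd p p d = ξ :=
      huniq _ (by rw [← Scheme.Hom.comp_apply, ← pullback.condition]; exact hd)
    have h2' : pullback.snd p p d' = ξ :=
      huniq _ (by rw [← Scheme.Hom.comp_apply, ← pullback.condition]; exact hd')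
    refine pullback_point_ext d d' (h1.trans h1'.symm) (h2.trans h2'.symm)
      ⟨RingHom.injective _, ?_⟩
    have hη : p (pullback.snd p p d') = genericPoint X := by rw [h2']; exact hξ
    haveI := isSepClosed_residueField_genericPoint X _ hη
    exact surjective_residueFieldMap_of_isSepClosed p _
  rw [Set.eq_univ_iff_forall]
  intro d
  obtain ⟨Z, ⟨hZ, hdZ⟩, -⟩ := hD1 d
  obtain ⟨-, dη, ⟨hdηZ, hdη⟩, -⟩ := hD2 Z hZ
  have hΔξ : (pullback.fst p p ≫ p) ((pullback.diagonal p) ξ) = genericPoint X := by
    rw [← Scheme.Hom.comp_apply, pullback.diagonal_fst_assoc]; exact hξ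
  have hdd : dη = (pullback.diagonal p) ξ := hone _ _ hdη hΔξ
  have hsub : Z ⊆ Set.range (pullback.diagonal p).base :=
    hZ.1.2.isPreconnected.subset_isClopen hcl ⟨dη, hdηZ, by rw [hdd]; exact ⟨ξ, rfl⟩⟩
  exact hsub hdZ

theorem exists_sigma_opens {U X : Scheme.{u}} [IsIntegral X]
    (hN : ∀ x : X, IsIntegrallyClosed (X.presheaf.stalk x))
    [IsSepClosed X.functionField] (g : U ⟶ X) [Etale g] [IsSeparated g] :
    ∃ (ι : Type u) (V : ι → X.Opens) (e : (∐ fun i => (V i : Scheme.{u})) ≅ U),
      ∀ i, Sigma.ι (fun i => (V i : Scheme.{u})) i ≫ e.hom ≫ g = (V i).ι := by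
  have hY := isGeomUnibranch_stalk hN
  obtain ⟨hU1, hU2⟩ := Groth.Agent.S2787.result g hY
  obtain ⟨W, hW⟩ : ∃ W : ↥(irreducibleComponents ↥U) → U.Opens,
      ∀ Z, ((W Z : U.Opens) : Set U) = Z.1 :=
    ⟨fun Z => ⟨Z.1, (hU2 Z.1 Z.2).1⟩, fun Z => rfl⟩
  have hoi : ∀ Z, IsOpenImmersion ((W Z).ι ≫ g) := fun Z => by
    haveI : IrreducibleSpace (W Z).toScheme := by
      have h : IsIrreducible ((W Z : U.Opens) : Set U) := by rw [hW]; exact Z.2.1
      exact Subtype.irreducibleSpace h
    exact isOpenImmersion_of_irreducibleSpace hN _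
  have key : ∀ Z : ↥(irreducibleComponents ↥U), ∃ (V : X.Opens) (fZ : (V : Scheme.{u}) ⟶ U),
      IsOpenImmersion fZ ∧ Set.range fZ.base = Z.1 ∧ fZ ≫ g = V.ι := by
    intro Z
    have := hoi Z
    refine ⟨((W Z).ι ≫ g).opensRange, ((W Z).ι ≫ g).isoOpensRange.inv ≫ (W Z).ι,
      inferInstance, ?_, ?_⟩
    · ext u
      constructor
      · rintro ⟨v, rfl⟩
        rw [Scheme.Hom.comp_apply]
        have := (((W Z).ι ≫ g).isoOpensRange.inv v).2
        rw [← hW Z]; exact this
      · intro hu
        have hu' : u ∈ W Z := by rw [← SetLike.mem_coe, hW Z]; exact hu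
        refine ⟨((W Z).ι ≫ g).isoOpensRange.hom ⟨u, hu'⟩, ?_⟩
        rw [← Scheme.Hom.comp_apply, Iso.hom_inv_id_assoc]; rfl
    · rw [Category.assoc]; exact Scheme.Hom.isoOpensRange_inv_comp _
  choose V f hfo hfr hfg using key
  have := hfo
  have hr : ∀ Z, ((f Z).opensRange : Set U) = Z.1 := fun Z =>
    (Scheme.Hom.coe_opensRange _).trans (hfr Z)
  have hcov : ⨆ Z, (f Z).opensRange = ⊤ := by
    rw [eq_top_iff]
    intro u _
    obtain ⟨Z, ⟨hZ, huZ⟩, -⟩ := hU1 u
    refine TopologicalSpace.Opens.mem_iSup.mpr ⟨⟨Z, hZ⟩, ?_⟩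
    rw [← SetLike.mem_coe, hr]; exact huZ
  have hdisj : Pairwise (Function.onFun Disjoint fun Z => (f Z).opensRange) := by
    intro Z Z' hne
    show Disjoint (f Z).opensRange (f Z').opensRange
    rw [disjoint_iff_inf_le]
    intro u hu
    have h1 : u ∈ Z.1 := by rw [← hr Z]; exact hu.1
    have h2 : u ∈ Z'.1 := by rw [← hr Z']; exact hu.2
    obtain ⟨Z₀, -, huniq⟩ := hU1 u
    have e1 := huniq Z.1 ⟨Z.2, h1⟩
    have e2 := huniq Z'.1 ⟨Z'.2, h2⟩
    exact (hne (Subtype.ext (e1.trans e2.symm))).elim
  have hiso : IsIso (Sigma.desc f) :=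
    (Cofan.nonempty_isColimit_iff_isIso_sigmaDesc (Cofan.mk U f)).mp
      (nonempty_isColimit_cofanMk_of f hcov hdisj)
  refine ⟨_, V, asIso (Sigma.desc f), fun Z => ?_⟩
  rw [asIso_hom, Sigma.ι_desc_assoc]
  exact hfg Z

end Groth.Agent.Lib.Helper8.EtSepNormal
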