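import Mathlib
import Groth.Agent.Lib.Helper8.HenselSplit

set_option autoImplicit false
universe u

namespace Groth.Agent.Lib.Helper8.HenselQF

open IsLocalRing Groth.Agent.Lib.Helper8

/-- Over a henselian local ring, a quasi-finite prime over the closed point of a finite type algebra
can be split off by an idempotent as a finite local factor. -/
theorem exists_idempotent_local (R : Type u) [CommRing R] [HenselianLocalRing R]
    (S : Type u) [CommRing S] [Algebra R S] [Algebra.FiniteType R S]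
    (q : Ideal S) [hqp : q.IsPrime] (hq : q.LiesOver (maximalIdeal R))
    [hqf : Algebra.QuasiFiniteAt R q] :
    ∃ e : S, IsIdempotentElem e ∧ e ∉ q ∧
      Module.Finite R (S ⧸ Ideal.span ({1 - e} : Set S)) ∧
      ∀ M : Ideal S, M.IsMaximal → e ∉ M → M = q := by
  obtain ⟨e₀, he₀, hfin₀, hq₀⟩ := exists_idempotent_finite_of_finiteType R S
  have he₀q : e₀ ∉ q := hq₀ q hq hqf
  set I₀ := Ideal.span ({1 - e₀} : Set S) with hI₀def
  have h1e₀ : ∀ P : Ideal S, P.IsPrime → e₀ ∉ P → I₀ ≤ P := by
    intro P hP he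
    rw [hI₀def, Ideal.span_le, Set.singleton_subset_iff]
    have : e₀ * (1 - e₀) ∈ P := by
      rw [mul_sub, mul_one, he₀.eq, sub_self]; exact P.zero_mem
    exact (hP.mem_or_mem this).resolve_left he
  have hcomap : ∀ P : Ideal S, I₀ ≤ P →
      (P.map (Ideal.Quotient.mk I₀)).comap (Ideal.Quotient.mk I₀) = P := by
    intro P hP
    rw [Ideal.comap_map_of_surjective _ Ideal.Quotient.mk_surjective,
      ← RingHom.ker_eq_comap_bot, Ideal.mk_ker]
    exact sup_eq_left.mpr hP
  set qT : Ideal (S ⧸ I₀) := q.map (Ideal.Quotient.mk I₀) with hqTdef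
  have hqT_comap := hcomap q (h1e₀ q hqp he₀q)
  haveI hqTprime : qT.IsPrime := Ideal.map_isPrime_of_surjective Ideal.Quotient.mk_surjective
    (by rw [Ideal.mk_ker]; exact h1e₀ q hqp he₀q)
  have : Algebra.IsIntegral R (S ⧸ I₀) := Algebra.IsIntegral.of_finite R _
  have hqTmax : qT.IsMaximal := by
    have : (qT.comap (algebraMap R (S ⧸ I₀))).IsMaximal := by
      rw [IsScalarTower.algebraMap_eq R S (S ⧸ I₀), ← Ideal.comap_comap,
        Ideal.Quotient.algebraMap_eq, hqT_comap, ← Ideal.under_def, ← hq.over]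
      exact maximalIdeal.isMaximal R
    exact Ideal.isMaximal_of_isIntegral_of_isMaximal_comap qT this
  obtain ⟨e₁, he₁, hM₁⟩ := exists_idempotent_notMem_iff R (S ⧸ I₀) {qT}
  obtain ⟨s₁, hs₁⟩ := Ideal.Quotient.mk_surjective e₁
  have hI₀ : ∀ x, Ideal.Quotient.mk I₀ x = 0 → e₀ * x = 0 := by
    intro x hx
    rw [Ideal.Quotient.eq_zero_iff_mem, hI₀def, Ideal.mem_span_singleton'] at hx
    obtain ⟨a, rfl⟩ := hx
    calc e₀ * (a * (1 - e₀)) = a * (e₀ - e₀ * e₀) := by ring
      _ = 0 := by rw [he₀.eq, sub_self, mul_zero]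
  have he : IsIdempotentElem (e₀ * s₁) := by
    have h1 : Ideal.Quotient.mk I₀ (s₁ * s₁ - s₁) = 0 := by
      rw [map_sub, map_mul, hs₁, he₁.eq, sub_self]
    have h2 := hI₀ _ h1
    change e₀ * s₁ * (e₀ * s₁) = e₀ * s₁
    calc e₀ * s₁ * (e₀ * s₁) = (e₀ * e₀) * (s₁ * s₁) := by ring
      _ = e₀ * (s₁ * s₁) := by rw [he₀.eq]
      _ = e₀ * (s₁ * s₁ - s₁) + e₀ * s₁ := by ring
      _ = e₀ * s₁ := by rw [h2, zero_add]
  have he₁qT : e₁ ∉ qT := (hM₁ qT hqTmax).mpr rfl
  have hs₁q : s₁ ∉ q := by
    intro h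
    exact he₁qT (hs₁ ▸ Ideal.mem_map_of_mem _ h)
  refine ⟨e₀ * s₁, he, ?_, ?_, ?_⟩
  · intro h
    rcases hqp.mem_or_mem h with h | h
    exacts [he₀q h, hs₁q h]
  · have hle : I₀ ≤ Ideal.span {1 - e₀ * s₁} := by
      rw [hI₀def, Ideal.span_le, Set.singleton_subset_iff]
      have h0 : (1 - e₀) * (e₀ * s₁) = 0 := by
        calc (1 - e₀) * (e₀ * s₁) = (e₀ - e₀ * e₀) * s₁ := by ring
          _ = 0 := by rw [he₀.eq, sub_self, zero_mul]
      have h1 : (1 - e₀) = (1 - e₀) * (1 - e₀ * s₁) := by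
        rw [mul_sub, mul_one, h0, sub_zero]
      rw [h1]
      exact Ideal.mul_mem_left _ _ (Ideal.mem_span_singleton_self _)
    exact Module.Finite.of_surjective (Ideal.Quotient.factorₐ R hle).toLinearMap
      (Ideal.Quotient.factor_surjective hle)
  · intro M hM heM
    have he₀M : e₀ ∉ M := fun h => heM (M.mul_mem_right _ h)
    have hs₁M : s₁ ∉ M := fun h => heM (M.mul_mem_left _ h)
    have hI₀M : I₀ ≤ M := h1e₀ M hM.isPrime he₀M
    have hMT_comap := hcomap M hI₀M
    have hMTmax : (M.map (Ideal.Quotient.mk I₀)).IsMaximal := by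
      rcases Ideal.map_eq_top_or_isMaximal_of_surjective (Ideal.Quotient.mk I₀)
        Ideal.Quotient.mk_surjective hM with h | h
      · exfalso
        rw [h, Ideal.comap_top] at hMT_comap
        exact hM.ne_top hMT_comap.symm
      · exact h
    have hne : e₁ ∉ M.map (Ideal.Quotient.mk I₀) := by
      intro h
      have : s₁ ∈ (M.map (Ideal.Quotient.mk I₀)).comap (Ideal.Quotient.mk I₀) := by
        rw [Ideal.mem_comap, hs₁]; exact h
      rw [hMT_comap] at this
      exact hs₁M this
    have h3 : M.map (Ideal.Quotient.mk I₀) = qT := (hM₁ _ hMTmax).mp hne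
    rw [← hMT_comap, h3, hqT_comap]

/-- If `m` is the only maximal ideal not containing the idempotent `e`, then the localization at `m`
is the quotient by `1 - e`. -/
theorem surjective_and_ker_of_unique_maximal {T : Type*} [CommRing T] (e : T)
    (he : IsIdempotentElem e) (m : Ideal T) [m.IsPrime] (hem : e ∉ m)
    (huniq : ∀ M : Ideal T, M.IsMaximal → e ∉ M → M = m)
    (L : Type*) [CommRing L] [Algebra T L] [IsLocalization.AtPrime L m] :
    Function.Surjective (algebraMap T L) ∧
      RingHom.ker (algebraMap T L) = Ideal.span {1 - e} := by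
  have h0 : e * (1 - e) = 0 := by rw [mul_sub, mul_one, he.eq, sub_self]
  have hA : ∀ s : T, s ∉ m → ∃ t, e * s * t = e := by
    intro s hs
    have hJ : Ideal.span {s} ⊔ Ideal.span {1 - e} = ⊤ := by
      by_contra hne
      obtain ⟨M, hM, hle⟩ := Ideal.exists_le_maximal _ hne
      have h1 : 1 - e ∈ M := hle (Ideal.mem_sup_right (Ideal.mem_span_singleton_self _))
      have h2 : e ∉ M := by
        intro h
        have : (1 : T) ∈ M := by simpa using M.add_mem h1 h
        exact hM.ne_top ((Ideal.eq_top_iff_one _).mpr this)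
      have := huniq M hM h2
      subst this
      exact hs (hle (Ideal.mem_sup_left (Ideal.mem_span_singleton_self _)))
    obtain ⟨x, hx, y, hy, hxy⟩ := Submodule.mem_sup.mp ((Ideal.eq_top_iff_one _).mp hJ)
    obtain ⟨a, rfl⟩ := Ideal.mem_span_singleton'.mp hx
    obtain ⟨b, rfl⟩ := Ideal.mem_span_singleton'.mp hy
    refine ⟨a, ?_⟩
    calc e * s * a = e * (a * s + b * (1 - e)) - b * (e * (1 - e)) := by ring
      _ = e := by rw [hxy, h0, mul_zero, sub_zero, mul_one]
  have hunit : IsUnit (algebraMap T L e) :=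
    IsLocalization.map_units L (⟨e, hem⟩ : m.primeCompl)
  constructor
  · intro z
    obtain ⟨a, s, rfl⟩ := IsLocalization.exists_mk'_eq m.primeCompl z
    obtain ⟨t, ht⟩ := hA s s.2
    refine ⟨a * t, ?_⟩
    have h1 : algebraMap T L s * algebraMap T L t = 1 := by
      have := congrArg (algebraMap T L) ht
      rw [map_mul, map_mul, mul_assoc] at this
      exact hunit.mul_left_cancel (by rw [this, mul_one])
    rw [IsLocalization.eq_mk'_iff_mul_eq, map_mul, mul_assoc, mul_comm (algebraMap T L t), h1,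
      mul_one]
  · apply le_antisymm
    · intro a ha
      rw [RingHom.mem_ker, IsLocalization.map_eq_zero_iff m.primeCompl] at ha
      obtain ⟨s, hs⟩ := ha
      obtain ⟨t, ht⟩ := hA s s.2
      have hea : e * a = 0 := by
        calc e * a = (e * s * t) * a := by rw [ht]
          _ = e * t * (s * a) := by ring
          _ = 0 := by rw [hs, mul_zero]
      rw [Ideal.mem_span_singleton']
      exact ⟨a, by rw [mul_sub, mul_one, mul_comm a e, hea, sub_zero]⟩
    · rw [Ideal.span_le, Set.singleton_subset_iff, SetLike.mem_coe, RingHom.mem_ker,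
        IsLocalization.map_eq_zero_iff m.primeCompl]
      exact ⟨⟨e, hem⟩, h0⟩

end Groth.Agent.Lib.Helper8.HenselQF
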