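import Mathlib
import Groth.Agent.Lib.Helper8.HenselQF

set_option autoImplicit false
universe u

open AlgebraicGeometry CategoryTheory Limits IsLocalRing

namespace Groth.Agent.Lib.Helper8.HenselQFSch

section chart

variable {A : Type u} [CommRing A] {X : Scheme.{u}} (f : X ⟶ Spec (CommRingCat.of A))

/-- The ring map `A → Γ(X, U)` induced by `f : X ⟶ Spec A`. -/
noncomputable def chartMap (U : X.Opens) : CommRingCat.of A ⟶ Γ(X, U) :=
  (Scheme.ΓSpecIso (CommRingCat.of A)).inv ≫ f.appLE ⊤ U le_top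

lemma fromSpec_comp {U : X.Opens} (hU : IsAffineOpen U) :
    hU.fromSpec ≫ f = Spec.map (chartMap f U) := by
  rw [chartMap, Spec.map_comp,
    ← IsAffineOpen.SpecMap_appLE_fromSpec f (isAffineOpen_top _) hU le_top,
    IsAffineOpen.fromSpec_top, Scheme.isoSpec_Spec_inv]

lemma chartMap_germ (U : X.Opens) (x : X) (hxU : x ∈ U) :
    chartMap f U ≫ X.presheaf.germ U x hxU =
      (Scheme.ΓSpecIso (CommRingCat.of A)).inv ≫ f.appTop ≫ X.presheaf.germ ⊤ x trivial := by
  rw [chartMap, Category.assoc, Scheme.Hom.appLE, Category.assoc]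
  congr 2
  exact X.presheaf.germ_res _ _ _

lemma finiteType_chartMap [LocallyOfFiniteType f] {U : X.Opens} (hU : IsAffineOpen U) :
    (chartMap f U).hom.FiniteType := by
  have h1 : (f.appLE ⊤ U le_top).hom.FiniteType :=
    f.finiteType_appLE (isAffineOpen_top _) hU le_top
  have h2 : ((Scheme.ΓSpecIso (CommRingCat.of A)).inv).hom.FiniteType :=
    RingHom.FiniteType.of_surjective _
      (ConcreteCategory.bijective_of_isIso (Scheme.ΓSpecIso (CommRingCat.of A)).inv).2
  exact h1.comp h2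

end chart



section union

variable {X S : Scheme.{u}} (f : X ⟶ S)

theorem isFinite_sup [IsSeparated f] [LocallyOfFiniteType f] [LocallyQuasiFinite f]
    (W₁ W₂ : X.Opens) (h₁ : IsFinite (W₁.ι ≫ f)) (h₂ : IsFinite (W₂.ι ≫ f)) :
    IsFinite ((W₁ ⊔ W₂).ι ≫ f) := by
  let φ : (W₁ : Scheme) ⨿ (W₂ : Scheme) ⟶ ((W₁ ⊔ W₂ : X.Opens) : Scheme) :=
    coprod.desc (X.homOfLE le_sup_left) (X.homOfLE le_sup_right)
  have hφ : φ ≫ ((W₁ ⊔ W₂).ι ≫ f) = coprod.desc (W₁.ι ≫ f) (W₂.ι ≫ f) := by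
    apply coprod.hom_ext <;> simp [φ]
  haveI : Surjective φ := ⟨by
    rintro ⟨y, hy⟩
    rcases hy with hy | hy
    · refine ⟨(coprod.inl : (W₁ : Scheme) ⟶ _) ⟨y, hy⟩, ?_⟩
      apply (W₁ ⊔ W₂).ι.isOpenEmbedding.injective
      have e1 : (coprod.inl : (W₁ : Scheme) ⟶ _) ≫ φ ≫ (W₁ ⊔ W₂).ι = W₁.ι := by
        rw [← Category.assoc, coprod.inl_desc, Scheme.homOfLE_ι]
      rw [← Scheme.Hom.comp_apply, ← Scheme.Hom.comp_apply, e1]
      rfl
    · refine ⟨(coprod.inr : (W₂ : Scheme) ⟶ _) ⟨y, hy⟩, ?_⟩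
      apply (W₁ ⊔ W₂).ι.isOpenEmbedding.injective
      have e1 : (coprod.inr : (W₂ : Scheme) ⟶ _) ≫ φ ≫ (W₁ ⊔ W₂).ι = W₂.ι := by
        rw [← Category.assoc, coprod.inr_desc, Scheme.homOfLE_ι]
      rw [← Scheme.Hom.comp_apply, ← Scheme.Hom.comp_apply, e1]
      rfl⟩
  haveI : UniversallyClosed (φ ≫ ((W₁ ⊔ W₂).ι ≫ f)) := by rw [hφ]; infer_instance
  haveI : UniversallyClosed ((W₁ ⊔ W₂).ι ≫ f) := UniversallyClosed.of_comp_surjective φ _
  haveI : IsProper ((W₁ ⊔ W₂).ι ≫ f) := ⟨⟩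
  exact IsFinite.of_isProper_of_locallyQuasiFinite _

theorem isFinite_finset_sup [IsSeparated f] [LocallyOfFiniteType f] [LocallyQuasiFinite f]
    {ι : Type*} (t : Finset ι) (W : ι → X.Opens) (h : ∀ i ∈ t, IsFinite ((W i).ι ≫ f)) :
    IsFinite ((t.sup W).ι ≫ f) := by
  classical
  induction t using Finset.induction_on with
  | empty =>
    rw [Finset.sup_empty]
    haveI : IsEmpty ((⊥ : X.Opens) : Scheme) := ⟨fun x => x.2⟩
    infer_instance
  | insert a t ha ih =>
    rw [Finset.sup_insert]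
    exact isFinite_sup f _ _ (h a (Finset.mem_insert_self _ _))
      (ih fun i hi => h i (Finset.mem_insert_of_mem hi))

end union


section isolated

theorem quasiFiniteAt_of_isOpen_singleton {X S : Scheme.{u}} (f : X ⟶ S) [LocallyOfFiniteType f]
    (x : X) (s : S) (hx : f.base x = s)
    (h : IsOpen ((Subtype.val : (f.base ⁻¹' {s}) → X) ⁻¹' {x})) : f.QuasiFiniteAt x := by
  subst hx
  rw [Scheme.Hom.quasiFiniteAt_iff_isOpen_singleton_asFiber,
    ← (f.fiberHomeo (f x)).isOpen_image]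
  simp only [Set.image_singleton, Scheme.Hom.asFiber, Homeomorph.apply_symm_apply]
  convert h using 1
  ext ⟨y, hy⟩
  simp [Subtype.ext_iff]

end isolated

section hensel

variable {A : Type u} [CommRing A] [HenselianLocalRing A] {X : Scheme.{u}}
  (f : X ⟶ Spec (CommRingCat.of A)) [LocallyOfFiniteType f]

theorem exists_chart (x : X) (hx : f x = closedPoint A) (hqf : f.QuasiFiniteAt x) :
    ∃ (U : X.Opens) (hU : IsAffineOpen U) (hxU : x ∈ U) (e : Γ(X, U)),
      IsIdempotentElem e ∧ e ∉ (hU.primeIdealOf ⟨x, hxU⟩).asIdeal ∧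
      ((Ideal.Quotient.mk (Ideal.span {1 - e})).comp (chartMap f U).hom).Finite ∧
      ∀ M : Ideal Γ(X, U), M.IsMaximal → e ∉ M → M = (hU.primeIdealOf ⟨x, hxU⟩).asIdeal := by
  obtain ⟨_, ⟨U, hU, rfl⟩, hxU, -⟩ :=
    X.isBasis_affineOpens.exists_subset_of_mem_open (Set.mem_univ x) isOpen_univ
  have hft := finiteType_chartMap f hU
  algebraize [(chartMap f U).hom]
  set q := (hU.primeIdealOf ⟨x, hxU⟩).asIdeal with hq
  have h1 : f x = Spec.map (chartMap f U) (hU.primeIdealOf ⟨x, hxU⟩) := by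
    rw [← fromSpec_comp f hU, Scheme.Hom.comp_apply, hU.fromSpec_primeIdealOf]
  have hlies : q.LiesOver (maximalIdeal A) :=
    ⟨congrArg PrimeSpectrum.asIdeal (hx.symm.trans h1)⟩
  have hq0 := hqf.quasiFiniteAt hU (isAffineOpen_top (Spec (CommRingCat.of A))) le_top hxU
  have hqfa : Algebra.QuasiFiniteAt A q := by
    rw [Algebra.QuasiFiniteAt, ← RingHom.quasiFinite_algebraMap]
    have h2 : ((algebraMap Γ(X, U) (Localization.AtPrime q)).comp
        (f.appLE ⊤ U le_top).hom).QuasiFinite := by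
      letI := (f.appLE ⊤ U le_top).hom.toAlgebra
      have h : Algebra.QuasiFinite Γ(Spec (CommRingCat.of A), ⊤) (Localization.AtPrime q) := hq0
      have := RingHom.quasiFinite_algebraMap.mpr h
      rw [IsScalarTower.algebraMap_eq Γ(Spec (CommRingCat.of A), ⊤) Γ(X, U)
        (Localization.AtPrime q)] at this
      exact this
    have h3 : ((Scheme.ΓSpecIso (CommRingCat.of A)).inv.hom).QuasiFinite :=
      RingHom.QuasiFinite.of_finite (RingHom.Finite.of_surjective _
        (ConcreteCategory.bijective_of_isIso (Scheme.ΓSpecIso (CommRingCat.of A)).inv).2)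
    convert h2.comp h3 using 1
    rw [IsScalarTower.algebraMap_eq A Γ(X, U) (Localization.AtPrime q), RingHom.comp_assoc]
    rfl
  obtain ⟨e, he, heq, hfin, huniq⟩ := HenselQF.exists_idempotent_local A Γ(X, U) q hlies
  refine ⟨U, hU, hxU, e, he, heq, ?_, huniq⟩
  have : (algebraMap A (Γ(X, U) ⧸ Ideal.span {1 - e})).Finite := RingHom.finite_algebraMap.mpr hfin
  exact this


theorem finite_stalk_and_fromSpecStalk [IsSeparated f] (x : X) (hx : f x = closedPoint A)
    (hqf : f.QuasiFiniteAt x) :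
    ((Scheme.ΓSpecIso (CommRingCat.of A)).inv ≫ f.appTop ≫
        X.presheaf.germ ⊤ x trivial).hom.Finite ∧
      IsOpenImmersion (X.fromSpecStalk x) ∧ IsClosedImmersion (X.fromSpecStalk x) ∧
      IsFinite (X.fromSpecStalk x ≫ f) := by
  obtain ⟨U, hU, hxU, e, he, heq, hfin, huniq⟩ := exists_chart f x hx hqf
  set q := (hU.primeIdealOf ⟨x, hxU⟩).asIdeal with hq
  letI : Algebra Γ(X, U) (X.presheaf.stalk x) :=
    TopCat.Presheaf.algebra_section_stalk X.presheaf (⟨x, hxU⟩ : U)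
  haveI hloc : IsLocalization.AtPrime (X.presheaf.stalk x) q := hU.isLocalization_stalk ⟨x, hxU⟩
  obtain ⟨hsurj, hker⟩ := HenselQF.surjective_and_ker_of_unique_maximal e he q heq huniq
    (X.presheaf.stalk x)
  have hgerm : (X.presheaf.germ U x hxU).hom = algebraMap Γ(X, U) (X.presheaf.stalk x) := rfl
  have hfin2 : (chartMap f U ≫ X.presheaf.germ U x hxU).hom.Finite := by
    let l : Γ(X, U) ⧸ Ideal.span {1 - e} →+* X.presheaf.stalk x :=
      Ideal.Quotient.lift _ (X.presheaf.germ U x hxU).hom (fun a ha => by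
        rw [← RingHom.mem_ker, hgerm, hker]; exact ha)
    have hl : Function.Surjective l :=
      Ideal.Quotient.lift_surjective_of_surjective _ _ (hgerm ▸ hsurj)
    have : (chartMap f U ≫ X.presheaf.germ U x hxU).hom =
        l.comp ((Ideal.Quotient.mk _).comp (chartMap f U).hom) := by
      ext a; simp [l]
    rw [this]
    exact (RingHom.Finite.of_surjective l hl).comp hfin
  have hopen : IsOpenImmersion (Spec.map (X.presheaf.germ U x hxU)) :=
    (isOpenImmersion_SpecMap_iff_of_surjective _ (hgerm ▸ hsurj)).mpr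
      ⟨1 - e, he.one_sub, by rw [hgerm, hker]⟩
  have hfs : X.fromSpecStalk x = Spec.map (X.presheaf.germ U x hxU) ≫ hU.fromSpec := by
    rw [← hU.fromSpecStalk_eq_fromSpecStalk hxU]; rfl
  have hcomp : X.fromSpecStalk x ≫ f =
      Spec.map (chartMap f U ≫ X.presheaf.germ U x hxU) := by
    rw [hfs, Category.assoc, fromSpec_comp f hU, ← Spec.map_comp]
  have hF : IsFinite (X.fromSpecStalk x ≫ f) := by
    rw [hcomp, IsFinite.SpecMap_iff]; exact hfin2
  have hO : IsOpenImmersion (X.fromSpecStalk x) := by rw [hfs]; infer_instance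
  haveI := hF
  have hF' : IsFinite (X.fromSpecStalk x) := IsFinite.of_comp _ f
  refine ⟨?_, hO, ?_, hF⟩
  · rw [← chartMap_germ f U x hxU]; exact hfin2
  · exact (IsClosedImmersion.iff_isFinite_and_mono _).mpr ⟨hF', inferInstance⟩

theorem exists_clopen_finite [IsSeparated f] (x : X) (hx : f x = closedPoint A)
    (hqf : f.QuasiFiniteAt x) :
    ∃ W : X.Opens, x ∈ W ∧ IsClosed (W : Set X) ∧ IsFinite (W.ι ≫ f) := by
  obtain ⟨-, hO, hC, hF⟩ := finite_stalk_and_fromSpecStalk f x hx hqf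
  refine ⟨(X.fromSpecStalk x).opensRange, ⟨_, Scheme.fromSpecStalk_closedPoint⟩, ?_, ?_⟩
  · exact (X.fromSpecStalk x).isClosedEmbedding.isClosed_range
  · rw [← Scheme.Hom.isoOpensRange_inv_comp, Category.assoc]
    infer_instance


theorem exists_clopen_finite_all [QuasiCompact f] [IsSeparated f] [LocallyQuasiFinite f] :
    ∃ W : X.Opens, IsClosed (W : Set X) ∧ IsFinite (W.ι ≫ f) ∧
      ∀ x : X, f x = closedPoint A → x ∈ W := by
  classical
  haveI : CompactSpace X := QuasiCompact.compactSpace_of_compactSpace f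
  let F : Set X := f ⁻¹' {closedPoint A}
  have hFc : IsClosed F := (IsLocalRing.isClosed_singleton_closedPoint (R := A)).preimage f.continuous
  have hFk : IsCompact F := hFc.isCompact
  have h : ∀ x : F, ∃ W : X.Opens, x.1 ∈ W ∧ IsClosed (W : Set X) ∧ IsFinite (W.ι ≫ f) :=
    fun x => exists_clopen_finite f x.1 x.2 (f.quasiFiniteAt x.1)
  choose W hxW hWc hWf using h
  obtain ⟨t, ht⟩ := hFk.elim_finite_subcover (fun x : F => (W x : Set X)) (fun x => (W x).2)
    (fun x hx => Set.mem_iUnion.mpr ⟨⟨x, hx⟩, hxW ⟨x, hx⟩⟩)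
  have hcoe : ((t.sup W : X.Opens) : Set X) = ⋃ i ∈ t, (W i : Set X) := by
    rw [TopologicalSpace.Opens.coe_finset_sup, Finset.sup_set_eq_biUnion]
    rfl
  refine ⟨t.sup W, ?_, isFinite_finset_sup f t W (fun i _ => hWf i), ?_⟩
  · rw [hcoe]
    exact t.finite_toSet.isClosed_biUnion (fun i _ => hWc i)
  · intro x hx
    change x ∈ ((t.sup W : X.Opens) : Set X)
    rw [hcoe]
    exact ht hx

omit [LocallyOfFiniteType f] in
theorem le_of_isFinite_of_forall_mem (W W' : X.Opens) (hWf : IsFinite (W.ι ≫ f))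
    (hW' : ∀ x : X, f x = closedPoint A → x ∈ W') : W ≤ W' := by
  intro y hy
  by_contra hyW'
  let Z : Set (W : Scheme) := (W.ι ⁻¹' (W' : Set X))ᶜ
  have hZc : IsClosed Z := (W'.isOpen.preimage W.ι.continuous).isClosed_compl
  have himg : IsClosed ((W.ι ≫ f) '' Z) := (W.ι ≫ f).isClosedMap _ hZc
  have hp : (W.ι ≫ f) ⟨y, hy⟩ ∈ (W.ι ≫ f) '' Z := ⟨⟨y, hy⟩, hyW', rfl⟩
  have hcp : closedPoint A ∈ (W.ι ≫ f) '' Z :=
    (IsLocalRing.specializes_closedPoint _).mem_closed himg hp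
  obtain ⟨z, hz, hzf⟩ := hcp
  exact hz (hW' (W.ι z) (by rw [← hzf, Scheme.Hom.comp_apply]))

theorem existsUnique_clopen_finite [QuasiCompact f] [IsSeparated f] [LocallyQuasiFinite f] :
    ∃! W : X.Opens, IsClosed (W : Set X) ∧ IsFinite (W.ι ≫ f) ∧
      ∀ x : X, f x = closedPoint A → x ∈ W := by
  obtain ⟨W, hW⟩ := exists_clopen_finite_all f
  refine ⟨W, hW, fun W' hW' => le_antisymm ?_ ?_⟩
  · exact le_of_isFinite_of_forall_mem f W' W hW'.2.1 hW.2.2
  · exact le_of_isFinite_of_forall_mem f W W' hW.2.1 hW'.2.2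

end hensel

end Groth.Agent.Lib.Helper8.HenselQFSch
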