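import Mathlib
import Groth.Agent.Lib.Helper15.HenselSection
import Groth.Agent.Lib.Helper8.HenselQFSch

set_option autoImplicit false
universe u

open AlgebraicGeometry CategoryTheory Limits IsLocalRing TensorProduct

namespace Groth.Agent.Lib.Helper8.SmoothSection

/-- Over a henselian local ring, a residue-field-valued point of a smooth algebra lifts to a
section. -/
theorem exists_section_of_smooth (A : Type u) [CommRing A] [HenselianLocalRing A] (B : Type u)
    [CommRing B] [Algebra A B] [Algebra.Smooth A B] (e' : B →ₐ[A] ResidueField A) :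
    ∃ σ : B →ₐ[A] A, ∀ b, residue A (σ b) = e' b := by
  classical
  let q : Ideal B := RingHom.ker e'.toRingHom
  haveI : q.IsPrime := RingHom.ker_isPrime _
  haveI : Algebra.FormallySmooth B (Localization.AtPrime q) :=
    Algebra.FormallySmooth.of_isLocalization q.primeCompl
  haveI : Algebra.IsSmoothAt A q := Algebra.FormallySmooth.comp A B (Localization.AtPrime q)
  obtain ⟨g, hgq, n, algPB, htower, hstd⟩ :=
    Algebra.IsSmoothAt.exists_isStandardEtale_mvPolynomial (R := A) (p := q)
  have hg : e' g ≠ 0 := fun h0 => hgq h0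
  have hunit : ∀ y : Submonoid.powers g, IsUnit (e' y) := by
    rintro ⟨_, m, rfl⟩
    rw [map_pow]
    exact (IsUnit.mk0 _ hg).pow m
  let e'g : Localization.Away g →ₐ[A] ResidueField A :=
    IsLocalization.liftAlgHom (M := Submonoid.powers g) hunit
  have he'g : ∀ b, e'g (algebraMap B (Localization.Away g) b) = e' b :=
    fun b => IsLocalization.lift_eq hunit b
  choose a ha using fun i : Fin n => residue_surjective
    (e'g (algebraMap (MvPolynomial (Fin n) A) (Localization.Away g) (MvPolynomial.X i)))
  let ev : MvPolynomial (Fin n) A →ₐ[A] A := MvPolynomial.aeval a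
  letI algPA : Algebra (MvPolynomial (Fin n) A) A := ev.toRingHom.toAlgebra
  haveI : IsScalarTower A (MvPolynomial (Fin n) A) A :=
    IsScalarTower.of_algebraMap_eq (fun x => (ev.commutes x).symm)
  have hcompat : ∀ p : MvPolynomial (Fin n) A,
      e'g (algebraMap (MvPolynomial (Fin n) A) (Localization.Away g) p) = residue A (ev p) := by
    intro p
    have : (e'g.comp (IsScalarTower.toAlgHom A (MvPolynomial (Fin n) A) (Localization.Away g))) =
        (IsScalarTower.toAlgHom A A (ResidueField A)).comp ev := by
      apply MvPolynomial.algHom_ext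
      intro i
      simp [ev, ha]
    exact DFunLike.congr_fun this p
  letI algPk : Algebra (MvPolynomial (Fin n) A) (ResidueField A) :=
    ((algebraMap A (ResidueField A)).comp (algebraMap (MvPolynomial (Fin n) A) A)).toAlgebra
  haveI : IsScalarTower (MvPolynomial (Fin n) A) A (ResidueField A) :=
    IsScalarTower.of_algebraMap_eq (fun _ => rfl)
  let e'gP : Localization.Away g →ₐ[MvPolynomial (Fin n) A] ResidueField A :=
    { e'g.toRingHom with commutes' := fun p => hcompat p }
  let e'' : A ⊗[MvPolynomial (Fin n) A] Localization.Away g →ₐ[A] ResidueField A :=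
    Algebra.TensorProduct.lift (Algebra.ofId A _) e'gP (fun _ _ => Commute.all _ _)
  obtain ⟨σC, hσC⟩ := Groth.Agent.Lib.Helper15.HenselSection.exists_section_alg A
    (A ⊗[MvPolynomial (Fin n) A] Localization.Away g) e''
  let ι : B →+* A ⊗[MvPolynomial (Fin n) A] Localization.Away g :=
    (Algebra.TensorProduct.includeRight :
      Localization.Away g →ₐ[MvPolynomial (Fin n) A] _).toRingHom.comp
      (algebraMap B (Localization.Away g))
  have hι : ∀ x : A, ι (algebraMap A B x) =
      algebraMap A (A ⊗[MvPolynomial (Fin n) A] Localization.Away g) x := by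
    intro x
    change (1 : A) ⊗ₜ[MvPolynomial (Fin n) A]
      (algebraMap B (Localization.Away g) (algebraMap A B x)) = _
    rw [← IsScalarTower.algebraMap_apply A B (Localization.Away g),
      IsScalarTower.algebraMap_apply A (MvPolynomial (Fin n) A) (Localization.Away g),
      Algebra.algebraMap_eq_smul_one (algebraMap A (MvPolynomial (Fin n) A) x),
      TensorProduct.tmul_smul, TensorProduct.smul_tmul', Algebra.TensorProduct.algebraMap_apply]
    congr 1
    rw [Algebra.smul_def, mul_one, ← IsScalarTower.algebraMap_apply]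
  refine ⟨{ toRingHom := σC.toRingHom.comp ι, commutes' := fun x => ?_ }, fun b => ?_⟩
  · change σC (ι (algebraMap A B x)) = algebraMap A A x
    rw [hι, σC.commutes]
  · change residue A (σC (ι b)) = e' b
    rw [hσC]
    change e'' ((1 : A) ⊗ₜ[MvPolynomial (Fin n) A] (algebraMap B (Localization.Away g) b)) = e' b
    rw [Algebra.TensorProduct.lift_tmul, map_one, one_mul]
    exact he'g b


/-- Scheme version: a `k`-point of the closed fibre of a smooth `X/Spec A`, `A` henselian local,
extends to a section. -/
theorem exists_section_of_smooth_scheme (A : Type u) [CommRing A] [HenselianLocalRing A]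
    {X : Scheme.{u}} (f : X ⟶ Spec (CommRingCat.of A)) [Smooth f]
    (u₀ : Spec (CommRingCat.of (IsLocalRing.ResidueField A)) ⟶ X)
    (h₀ : u₀ ≫ f = Spec.map (CommRingCat.ofHom (IsLocalRing.residue A))) :
    ∃ u : Spec (CommRingCat.of A) ⟶ X, u ≫ f = 𝟙 _ ∧
      Spec.map (CommRingCat.ofHom (IsLocalRing.residue A)) ≫ u = u₀ := by
  classical
  let x : X := u₀ (closedPoint (ResidueField A))
  obtain ⟨_, ⟨U, hU, rfl⟩, hxU, -⟩ :=
    X.isBasis_affineOpens.exists_subset_of_mem_open (Set.mem_univ x) isOpen_univ
  haveI : Subsingleton (Spec (CommRingCat.of (ResidueField A))) :=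
    inferInstanceAs (Subsingleton (PrimeSpectrum (ResidueField A)))
  have hrange : Set.range u₀ ⊆ Set.range hU.fromSpec := by
    rintro _ ⟨y, rfl⟩
    rw [hU.range_fromSpec]
    have : y = closedPoint (ResidueField A) := Subsingleton.elim _ _
    rw [this]
    exact hxU
  let v : Spec (CommRingCat.of (ResidueField A)) ⟶ Spec Γ(X, U) :=
    IsOpenImmersion.lift hU.fromSpec u₀ hrange
  have hv : v ≫ hU.fromSpec = u₀ := IsOpenImmersion.lift_fac _ _ _
  let φ₀ : Γ(X, U) ⟶ CommRingCat.of (ResidueField A) := Spec.preimage v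
  have hφ₀ : Spec.map φ₀ = v := Spec.map_preimage v
  have hcompat : HenselQFSch.chartMap f U ≫ φ₀ = CommRingCat.ofHom (residue A) := by
    apply Spec.map_injective
    rw [Spec.map_comp, hφ₀, ← HenselQFSch.fromSpec_comp f hU, ← Category.assoc, hv, h₀]
  have hsm : (HenselQFSch.chartMap f U).hom.Smooth := by
    have h1 : (f.appLE ⊤ U le_top).hom.Smooth :=
      HasRingHomProperty.appLE @Smooth f inferInstance ⟨⊤, isAffineOpen_top _⟩ ⟨U, hU⟩ le_top
    have h2 : ((Scheme.ΓSpecIso (CommRingCat.of A)).inv).hom.Smooth :=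
      RingHom.Smooth.of_bijective
        (ConcreteCategory.bijective_of_isIso (Scheme.ΓSpecIso (CommRingCat.of A)).inv)
    exact h2.comp h1
  letI algAB : Algebra A Γ(X, U) := (HenselQFSch.chartMap f U).hom.toAlgebra
  haveI : Algebra.Smooth A Γ(X, U) := hsm
  let e' : Γ(X, U) →ₐ[A] ResidueField A :=
    { φ₀.hom with
      commutes' := fun a => by
        have := congrArg (fun g => g.hom a) hcompat
        exact this }
  obtain ⟨σ, hσ⟩ := exists_section_of_smooth A Γ(X, U) e'
  have hσ1 : HenselQFSch.chartMap f U ≫ CommRingCat.ofHom σ.toRingHom =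
      𝟙 (CommRingCat.of A) := by
    ext a
    exact σ.commutes a
  have hσ2 : CommRingCat.ofHom σ.toRingHom ≫ CommRingCat.ofHom (residue A) = φ₀ := by
    ext b
    exact hσ b
  refine ⟨Spec.map (CommRingCat.ofHom σ.toRingHom) ≫ hU.fromSpec, ?_, ?_⟩
  · rw [Category.assoc, HenselQFSch.fromSpec_comp f hU, ← Spec.map_comp, hσ1, Spec.map_id]
  · rw [← Category.assoc, ← Spec.map_comp, hσ2, hφ₀, hv]

end Groth.Agent.Lib.Helper8.SmoothSection
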