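import Mathlib
import Groth.Prelude
import Groth.Agent.Lib.Helper8.EtaleToFlat

/-!
# A local, essentially finite type, unramified algebra mapping locally to a flat local algebra is
essentially étale
-/

set_option autoImplicit false

open IsLocalRing TensorProduct

universe u

namespace Groth.Agent.Lib.Helper8.EssEtOfUnram

theorem isEssentiallyEtale (A S D : Type u) [CommRing A] [IsLocalRing A] [CommRing S]
    [IsLocalRing S] [Algebra A S] [Module.Flat A S]
    [CommRing D] [IsLocalRing D] [Algebra A D] [Algebra D S] [IsScalarTower A D S]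
    [IsLocalHom (algebraMap D S)] [IsLocalHom (algebraMap A D)]
    [Algebra.EssFiniteType A D] [Algebra.FormallyUnramified A D] :
    EGA4loc.IsEssentiallyEtale A D := by
  classical
  -- `D` is the localization of the finite type subalgebra `D₀` at a prime `q`
  let D₀ : Subalgebra A D := Algebra.EssFiniteType.subalgebra A D
  let q : Ideal D₀ := (maximalIdeal D).comap (algebraMap D₀ D)
  have hqprime : q.IsPrime := Ideal.comap_isPrime _ _
  have hM : Algebra.EssFiniteType.submonoid A D = q.primeCompl := by
    ext t
    change IsUnit (algebraMap D₀ D t) ↔ ¬ (algebraMap D₀ D t ∈ maximalIdeal D)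
    rw [mem_maximalIdeal, mem_nonunits_iff, not_not]
  have hloc : IsLocalization.AtPrime D q := by
    change IsLocalization q.primeCompl D
    rw [← hM]
    infer_instance
  let e₀ : D ≃ₐ[D₀] Localization.AtPrime q :=
    IsLocalization.algEquiv q.primeCompl D (Localization.AtPrime q)
  have hunr : Algebra.IsUnramifiedAt A q :=
    Algebra.FormallyUnramified.of_equiv (e₀.restrictScalars A)
  obtain ⟨f, hfq, P, φ, hφ⟩ := Algebra.IsUnramifiedAt.exists_hasStandardEtaleSurjectionOn
    (R := A) q
  have hfu : IsUnit (algebraMap D₀ D f) := by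
    by_contra h
    exact hfq h
  let lam : Localization.Away f →ₐ[A] D :=
    IsLocalization.Away.liftAlgHom f (f := IsScalarTower.toAlgHom A D₀ D) hfu
  have hlam : ∀ x : D₀, lam (algebraMap D₀ (Localization.Away f) x) = algebraMap D₀ D x := by
    intro x
    simp [lam, IsLocalization.Away.lift_eq]
  let θ : P.Ring →ₐ[A] D := lam.comp φ
  let r : Ideal P.Ring := (maximalIdeal D).comap θ.toRingHom
  have hrprime : r.IsPrime := Ideal.comap_isPrime _ _
  have hu : ∀ y : r.primeCompl, IsUnit (θ y) := fun y => by
    by_contra hn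
    exact y.2 (show θ y ∈ maximalIdeal D from hn)
  let θ' : Localization.AtPrime r →ₐ[A] D :=
    IsLocalization.liftAlgHom (M := r.primeCompl) (f := θ) hu
  have hθ' : ∀ p : P.Ring, θ' (algebraMap P.Ring (Localization.AtPrime r) p) = θ p := by
    intro p
    simp [θ']
  -- every element of `D₀` is in the image of `θ`
  have hθsurj : ∀ x : D₀, ∃ p : P.Ring, θ p = algebraMap D₀ D x := by
    intro x
    obtain ⟨p, hp⟩ := hφ (algebraMap D₀ (Localization.Away f) x)
    exact ⟨p, by simp only [θ, AlgHom.comp_apply, hp, hlam]⟩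
  -- surjectivity of `θ'`
  have hsurj : Function.Surjective θ' := by
    intro d
    obtain ⟨⟨x, t⟩, hxt⟩ := IsLocalization.surj q.primeCompl d
    obtain ⟨px, hpx⟩ := hθsurj x
    obtain ⟨pt, hpt⟩ := hθsurj t
    have htu : IsUnit (algebraMap D₀ D t) := IsLocalization.map_units D t
    have hptr : pt ∈ r.primeCompl := by
      intro hmem
      have h1 : θ pt ∈ maximalIdeal D := hmem
      rw [hpt] at h1
      exact h1 htu
    refine ⟨IsLocalization.mk' _ px ⟨pt, hptr⟩, ?_⟩
    apply htu.mul_right_cancel
    rw [hxt, ← hpx, ← hpt, ← hθ' pt, ← hθ' px, ← map_mul]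
    congr 1
    exact IsLocalization.mk'_spec _ _ _
  -- `θ'` is local
  have hθ'loc : ∀ x : Localization.AtPrime r, IsUnit (θ' x) → IsUnit x := by
    intro x hx
    obtain ⟨a, s, rfl⟩ := IsLocalization.exists_mk'_eq r.primeCompl x
    have h1 : θ' (IsLocalization.mk' _ a s) * θ s = θ a := by
      rw [← hθ' s, ← hθ' a, ← map_mul, IsLocalization.mk'_spec]
    have h2 : IsUnit (θ a) := h1 ▸ hx.mul (hu s)
    have h3 : a ∈ r.primeCompl := fun hmem => (show θ a ∈ maximalIdeal D from hmem) h2
    have h4 : IsLocalization.mk' (Localization.AtPrime r) a s *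
        algebraMap _ _ (s : P.Ring) = algebraMap _ _ a := IsLocalization.mk'_spec _ _ _
    have h5 : IsUnit (algebraMap P.Ring (Localization.AtPrime r) a) :=
      IsLocalization.map_units _ (⟨a, h3⟩ : r.primeCompl)
    have h6 : IsUnit (algebraMap P.Ring (Localization.AtPrime r) (s : P.Ring)) :=
      IsLocalization.map_units _ s
    have h7 : IsUnit (IsLocalization.mk' (Localization.AtPrime r) a s *
        algebraMap _ _ (s : P.Ring)) := h4 ▸ h5
    exact (IsUnit.mul_iff.mp h7).1
  -- the map to `S` is flat, hence injective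
  let σ : Localization.AtPrime r →ₐ[A] S := (IsScalarTower.toAlgHom A D S).comp θ'
  let ρ : P.Ring →ₐ[A] S := (IsScalarTower.toAlgHom A D S).comp θ
  letI algPS : Algebra P.Ring S := ρ.toRingHom.toAlgebra
  letI algES : Algebra (Localization.AtPrime r) S := σ.toRingHom.toAlgebra
  haveI tower : IsScalarTower P.Ring (Localization.AtPrime r) S :=
    IsScalarTower.of_algebraMap_eq (fun p => by
      change ρ p = σ (algebraMap _ _ p)
      simp only [ρ, σ, AlgHom.comp_apply, hθ'])
  have hflatP : Module.Flat P.Ring S :=
    RingHom.flat_algebraMap_iff.mp (EtaleToFlat.flat_of_algHom A P.Ring S ρ)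
  have hflatE : Module.Flat (Localization.AtPrime r) S :=
    (Module.flat_iff_of_isLocalization (Localization.AtPrime r) r.primeCompl S).mpr hflatP
  haveI : IsLocalHom (algebraMap (Localization.AtPrime r) S) := ⟨fun x hx => by
    have h1 : IsUnit (algebraMap D S (θ' x)) := hx
    exact hθ'loc x (isUnit_of_map_unit (algebraMap D S) _ h1)⟩
  have hff : Module.FaithfullyFlat (Localization.AtPrime r) S :=
    Module.FaithfullyFlat.of_flat_of_isLocalHom
  have hσinj : Function.Injective σ := FaithfulSMul.algebraMap_injective (Localization.AtPrime r) S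
  have hinj : Function.Injective θ' := by
    intro x y hxy
    apply hσinj
    simp only [σ, AlgHom.comp_apply, hxy]
  -- `r` lies over the maximal ideal
  have hrm : r.comap (algebraMap A P.Ring) = maximalIdeal A := by
    ext a
    rw [Ideal.mem_comap]
    change θ (algebraMap A P.Ring a) ∈ maximalIdeal D ↔ _
    rw [AlgHom.commutes, mem_maximalIdeal, mem_maximalIdeal, mem_nonunits_iff, mem_nonunits_iff,
      not_iff_not]
    exact ⟨fun h => isUnit_of_map_unit (algebraMap A D) a h, fun h => h.map _⟩
  exact ⟨P.Ring, inferInstance, inferInstance, r, hrprime, inferInstance, hrm,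
    ⟨(AlgEquiv.ofBijective θ' ⟨hinj, hsurj⟩).symm⟩⟩

end Groth.Agent.Lib.Helper8.EssEtOfUnram
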