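import Mathlib
import Groth.Prelude
import Groth.Agent.Lib.Helper8.WEField
import Groth.Agent.Lib.Helper8.Hzl.NbhdColimit
import Groth.Agent.Lib.Helper8.Hzl.IndEtaleCat

/-!
# Weakly étale algebras over a field are ind-étale
-/

set_option autoImplicit false
universe u
open CategoryTheory Limits

namespace Groth.Agent.Lib.Helper8.WEField

variable {K : Type u} [Field K] {B : Type u} [CommRing B] [Algebra K B]

/-- Finitely generated subalgebras of a weakly étale algebra over a field are étale. -/
theorem etale_of_fg [Algebra.WeaklyEtale K B] (S : Subalgebra K B) (hS : S.FG) :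
    Algebra.Etale K S := by
  haveI : Algebra.FiniteType K S := (Subalgebra.fg_iff_finiteType S).mp hS
  haveI : Algebra.WeaklyEtale K S := weaklyEtale_subalgebra S
  haveI : Algebra.FormallyUnramified K S :=
    Groth.Agent.Lib.Helper1.WeaklyEtale.formallyUnramified_of_weaklyEtale
  haveI : Algebra.FormallyEtale K S := Algebra.FormallyEtale.of_formallyUnramified_of_field K S
  exact { finitePresentation := Algebra.FinitePresentation.of_finiteType.mp inferInstance }

variable (K B) in
/-- The index category: finitely generated subalgebras. -/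
abbrev FGSub : Type u := {S : Subalgebra K B // S.FG}

instance : Nonempty (FGSub K B) := ⟨⟨⊥, Subalgebra.fg_bot⟩⟩

instance : IsDirected (FGSub K B) (· ≤ ·) :=
  ⟨fun S T => ⟨⟨S.1 ⊔ T.1, S.2.sup T.2⟩,
    (show S.1 ≤ S.1 ⊔ T.1 from le_sup_left), (show T.1 ≤ S.1 ⊔ T.1 from le_sup_right)⟩⟩

variable (K B) in
/-- The diagram of finitely generated subalgebras. -/
noncomputable def fgDiagram : FGSub K B ⥤ Under (CommRingCat.of K) where
  obj S := Under.mk (CommRingCat.ofHom (algebraMap K S.1))
  map {S T} f := Under.homMk (CommRingCat.ofHom (Subalgebra.inclusion (leOfHom f)).toRingHom) (by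
    ext r
    rfl)
  map_id S := by
    ext x
    rfl
  map_comp f g := by
    ext x
    rfl

variable (K B) in
/-- The cocone with vertex `B`. -/
noncomputable def fgCocone : Cocone (fgDiagram K B) where
  pt := Under.mk (CommRingCat.ofHom (algebraMap K B))
  ι :=
    { app := fun S => Under.homMk (CommRingCat.ofHom S.1.val.toRingHom) (by
        ext r
        rfl)
      naturality := fun S T f => by
        ext x
        rfl }

variable (K B) in
/-- The cocone is a colimit. -/
noncomputable def isColimitFgCocone : IsColimit (fgCocone K B) :=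
  Groth.Agent.Lib.Helper8.Hzl.isColimitOfConcrete _ _
    (fun x => by
      let x' : B := x
      have hfg : (Algebra.adjoin K {x'}).FG := by
        have := Subalgebra.fg_adjoin_finset (R := K) ({x'} : Finset B)
        simpa using this
      exact ⟨⟨Algebra.adjoin K {x'}, hfg⟩, ⟨x', Algebra.subset_adjoin rfl⟩, rfl⟩)
    (fun S T x y h => ⟨⟨S.1 ⊔ T.1, S.2.sup T.2⟩,
      homOfLE (show S.1 ≤ S.1 ⊔ T.1 from le_sup_left),
      homOfLE (show T.1 ≤ S.1 ⊔ T.1 from le_sup_right), Subtype.ext h⟩)

/-- A weakly étale algebra over a field is ind-étale. -/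
theorem isIndEtale_of_weaklyEtale [Algebra.WeaklyEtale K B] : EtPBC.IsIndEtale K B := by
  refine ⟨FGSub K B, inferInstance, inferInstance, fgDiagram K B, fgCocone K B,
    isColimitFgCocone K B, fun S => ?_, ⟨Iso.refl _⟩⟩
  have h : ((fgDiagram K B).obj S).hom.hom.toAlgebra = (inferInstance : Algebra K S.1) := by
    apply Algebra.algebra_ext
    intro r
    rfl
  rw [h]
  exact etale_of_fg S.1 S.2

end Groth.Agent.Lib.Helper8.WEField
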