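import Mathlib
import Groth.Prelude

/-!
# Rings whose faithfully flat étale algebras have retractions: local rings at maximal ideals
are strictly henselian
-/

set_option autoImplicit false
universe u
open IsLocalRing Polynomial

namespace Groth.Agent.Lib.Helper8.EtaleRetr

/-- A two-element family of types. -/
@[reducible] def fam (B C : Type u) : Bool → Type u := fun b => cond b B C

instance famCommRing (B C : Type u) [CommRing B] [CommRing C] : ∀ b, CommRing (fam B C b)
  | true => inferInstanceAs (CommRing B)
  | false => inferInstanceAs (CommRing C)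

instance famAlgebra (A : Type u) [CommRing A] (B C : Type u) [CommRing B] [CommRing C]
    [Algebra A B] [Algebra A C] : ∀ b, Algebra A (fam B C b)
  | true => inferInstanceAs (Algebra A B)
  | false => inferInstanceAs (Algebra A C)

instance famEtale (A : Type u) [CommRing A] (B C : Type u) [CommRing B] [CommRing C]
    [Algebra A B] [Algebra A C] [Algebra.Etale A B] [Algebra.Etale A C] :
    ∀ b, Algebra.Etale A (fam B C b)
  | true => inferInstanceAs (Algebra.Etale A B)
  | false => inferInstanceAs (Algebra.Etale A C)

variable (A : Type u) [CommRing A] (h : ProEtW.HasEtaleRetractions A)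
  (m : Ideal A) [hm : m.IsMaximal]

include h in
theorem exists_algHom_localization (B : Type u) [CommRing B] [Algebra A B] [Algebra.Etale A B]
    (q : Ideal B) [q.IsPrime] (hq : q.comap (algebraMap A B) = m) :
    Nonempty (B →ₐ[A] Localization.AtPrime m) := by
  classical
  have hopenMap : IsOpenMap (PrimeSpectrum.comap (algebraMap A B)) :=
    PrimeSpectrum.isOpenMap_comap_of_hasGoingDown_of_finitePresentation
  have hopen : IsOpen (Set.range (PrimeSpectrum.comap (algebraMap A B))) := hopenMap.isOpen_range
  obtain ⟨I, hI⟩ := (PrimeSpectrum.isClosed_iff_zeroLocus_ideal _).mp hopen.isClosed_compl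
  have hmU : (⟨m, hm.isPrime⟩ : PrimeSpectrum A) ∈
      Set.range (PrimeSpectrum.comap (algebraMap A B)) :=
    ⟨⟨q, inferInstance⟩, PrimeSpectrum.ext hq⟩
  have hIm : ¬ I ≤ m := by
    intro hle
    have : (⟨m, hm.isPrime⟩ : PrimeSpectrum A) ∈
        (Set.range (PrimeSpectrum.comap (algebraMap A B)))ᶜ := by
      rw [hI]; exact hle
    exact this hmU
  have hsup : I ⊔ m = ⊤ := by
    by_contra hne
    have := hm.eq_of_le hne le_sup_right
    exact hIm (this ▸ le_sup_left)
  obtain ⟨i, hi, μ, hμ, hsum⟩ := Submodule.mem_sup.mp ((Ideal.eq_top_iff_one _).mp hsup)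
  have hZ : ∀ p : PrimeSpectrum A, p ∉ Set.range (PrimeSpectrum.comap (algebraMap A B)) →
      μ ∉ p.asIdeal := by
    intro p hp hμp
    have hp' : p ∈ (Set.range (PrimeSpectrum.comap (algebraMap A B)))ᶜ := hp
    rw [hI] at hp'
    have hIp : I ≤ p.asIdeal := hp'
    exact p.2.ne_top ((Ideal.eq_top_iff_one _).mpr (hsum ▸ add_mem (hIp hi) hμp))
  let C := Localization.Away μ
  let B' := Π b : Bool, fam B C b
  have hsurj : Function.Surjective (PrimeSpectrum.comap (algebraMap A B')) := by
    intro p
    by_cases hp : p ∈ Set.range (PrimeSpectrum.comap (algebraMap A B))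
    · obtain ⟨q₁, rfl⟩ := hp
      exact ⟨PrimeSpectrum.comap (Pi.evalRingHom (fam B C) true) q₁, rfl⟩
    · have hμp := hZ p hp
      have hdisj : Disjoint (Submonoid.powers μ : Set A) (p.asIdeal : Set A) := by
        rw [Set.disjoint_left]
        rintro _ ⟨n, rfl⟩ hn
        exact hμp (p.2.mem_of_pow_mem n hn)
      let q₂ : PrimeSpectrum C := ⟨p.asIdeal.map (algebraMap A C),
        IsLocalization.isPrime_of_isPrime_disjoint (.powers μ) C _ p.2 hdisj⟩
      refine ⟨PrimeSpectrum.comap (Pi.evalRingHom (fam B C) false) q₂, ?_⟩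
      apply PrimeSpectrum.ext
      exact IsLocalization.under_map_of_isPrime_disjoint (.powers μ) C p.2 hdisj
  have hff : Module.FaithfullyFlat A B' := Module.FaithfullyFlat.of_comap_surjective hsurj
  obtain ⟨ρ⟩ := h B' hff inferInstance
  let R := Localization.AtPrime m
  let ρ' : B' →+* R := (algebraMap A R).comp ρ.toRingHom
  let e₁ : B' := Pi.single true (1 : B)
  let e₀ : B' := Pi.single false (1 : C)
  have hsum01 : e₁ + e₀ = 1 := by
    funext b
    cases b
    · change (Pi.single true (1 : B) : B') false + (Pi.single false (1 : C) : B') false = 1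
      rw [Pi.single_eq_same, Pi.single_eq_of_ne (by decide), zero_add]
    · change (Pi.single true (1 : B) : B') true + (Pi.single false (1 : C) : B') true = 1
      rw [Pi.single_eq_same, Pi.single_eq_of_ne (by decide), add_zero]
  have he₁ : e₁ * e₁ = e₁ := by
    rw [← Pi.single_mul, mul_one]
  let ι : C := IsLocalization.Away.invSelf μ
  have hι : algebraMap A C μ * ι = 1 := IsLocalization.Away.mul_invSelf μ
  let y : B' := Pi.single false ι
  have hy : μ • y = e₀ := by
    rw [← Pi.single_smul]
    congr 1
    rw [Algebra.smul_def]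
    exact hι
  have hρ'smul : ∀ (a : A) (z : B'), ρ' (a • z) = algebraMap A R a * ρ' z := by
    intro a z
    simp only [ρ', RingHom.comp_apply, AlgHom.toRingHom_eq_coe, RingHom.coe_coe, map_smul,
      smul_eq_mul, map_mul]
  have h0 : ρ' e₀ ∈ maximalIdeal R := by
    rw [← hy, hρ'smul]
    exact Ideal.mul_mem_right _ _
      ((IsLocalization.AtPrime.to_map_mem_maximal_iff R m μ).mpr hμ)
  have h1 : ρ' e₁ = 1 := by
    have hu : IsUnit (ρ' e₁) := by
      have : ρ' e₁ = 1 - ρ' e₀ := by
        rw [← map_one ρ', ← hsum01, map_add, add_sub_cancel_right]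
      rw [this]
      by_contra hnu
      have h2 : 1 - ρ' e₀ ∈ maximalIdeal R := (mem_maximalIdeal _).mpr hnu
      have h3 : (1 : R) ∈ maximalIdeal R := by
        have := add_mem h2 h0
        rwa [sub_add_cancel] at this
      exact (maximalIdeal.isMaximal R).ne_top ((Ideal.eq_top_iff_one _).mpr h3)
    have hid : ρ' e₁ * ρ' e₁ = ρ' e₁ := by rw [← map_mul, he₁]
    exact (IsUnit.mul_eq_left hu).mp hid |>.symm ▸ rfl
  let φ₀ : B →+* R :=
    { toFun := fun b => ρ' (Pi.single true b)
      map_one' := h1
      map_mul' := fun x y => by rw [← map_mul, ← Pi.single_mul]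
      map_zero' := by simp
      map_add' := fun x y => by rw [← map_add, ← Pi.single_add] }
  refine ⟨{ φ₀ with commutes' := fun a => ?_ }⟩
  change ρ' (Pi.single true (algebraMap A B a)) = algebraMap A R a
  have : (Pi.single true (algebraMap A B a) : B') = a • e₁ := by
    rw [← Pi.single_smul]
    congr 1
    rw [Algebra.smul_def, mul_one]
    rfl
  rw [this, hρ'smul, h1, mul_one]


include h in
theorem exists_hasMap (P : StandardEtalePair A) (L : Type u) [Field L] [Algebra A L]
    (hker : RingHom.ker (algebraMap A L) = m) (x : L) (hx : P.HasMap x) :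
    ∃ b : Localization.AtPrime m, P.HasMap b := by
  let ψ : P.Ring →ₐ[A] L := P.lift x hx
  have hqp : (RingHom.ker ψ.toRingHom).IsPrime := RingHom.ker_isPrime _
  have hq : (RingHom.ker ψ.toRingHom).comap (algebraMap A P.Ring) = m := by
    rw [← hker]
    ext a
    simp only [Ideal.mem_comap, RingHom.mem_ker]
    change ψ (algebraMap A P.Ring a) = 0 ↔ _
    rw [AlgHom.commutes]
  obtain ⟨φ⟩ := exists_algHom_localization A h m P.Ring (RingHom.ker ψ.toRingHom) hq
  exact ⟨φ P.X, P.hasMap_X.map φ⟩

include h in
/-- The key special case: a monic polynomial over `A` with `G(0) ∈ m` and `G'(0) ∉ m` has a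
root in the maximal ideal of `A_m`. -/
theorem exists_root_mem_maximalIdeal (G : A[X]) (hG : G.Monic) (h0 : G.coeff 0 ∈ m)
    (h1 : G.coeff 1 ∉ m) :
    ∃ b : Localization.AtPrime m, b ∈ maximalIdeal (Localization.AtPrime m) ∧ aeval b G = 0 := by
  let P : StandardEtalePair A :=
    { f := G
      monic_f := hG
      g := derivative G * G.divX
      cond := ⟨G.divX, 0, 1, by simp⟩ }
  letI : Field (A ⧸ m) := Ideal.Quotient.field m
  have hker : RingHom.ker (algebraMap A (A ⧸ m)) = m := Ideal.mk_ker
  have hx : P.HasMap (0 : A ⧸ m) := by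
    constructor
    · change aeval (0 : A ⧸ m) G = 0
      rw [← coeff_zero_eq_aeval_zero']
      exact Ideal.Quotient.eq_zero_iff_mem.mpr h0
    · change IsUnit (aeval (0 : A ⧸ m) (derivative G * G.divX))
      rw [map_mul, ← coeff_zero_eq_aeval_zero', ← coeff_zero_eq_aeval_zero', coeff_divX,
        coeff_derivative]
      simp only [zero_add, Nat.cast_zero, mul_one]
      rw [isUnit_iff_ne_zero, ← map_mul]
      intro hc
      have := Ideal.Quotient.eq_zero_iff_mem.mp hc
      exact h1 ((hm.isPrime.mem_or_mem this).elim id id)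
  obtain ⟨b, hb1, hb2⟩ := exists_hasMap A h m P (A ⧸ m) hker 0 hx
  refine ⟨b, ?_, hb1⟩
  have hb2' : IsUnit (aeval b G.divX) := by
    have : IsUnit (aeval b (derivative G) * aeval b G.divX) := by
      rw [← map_mul]; exact hb2
    exact isUnit_of_mul_isUnit_right this
  have hdecomp : aeval b G.divX * b + algebraMap A (Localization.AtPrime m) (G.coeff 0) = 0 := by
    have := congrArg (aeval b) (divX_mul_X_add G)
    rw [map_add, map_mul, aeval_X, aeval_C] at this
    rw [this]
    exact hb1
  have hmem : algebraMap A (Localization.AtPrime m) (G.coeff 0) ∈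
      maximalIdeal (Localization.AtPrime m) :=
    (IsLocalization.AtPrime.to_map_mem_maximal_iff _ m _).mpr h0
  have h3 : aeval b G.divX * b ∈ maximalIdeal (Localization.AtPrime m) := by
    rw [eq_neg_of_add_eq_zero_left hdecomp]
    exact neg_mem hmem
  exact (Ideal.unit_mul_mem_iff_mem _ hb2').mp h3


include h in
theorem henselianLocalRing : HenselianLocalRing (Localization.AtPrime m) := by
  refine { (inferInstance : IsLocalRing (Localization.AtPrime m)) with is_henselian := ?_ }
  intro f hf a₀ hfa hfa'
  -- Step 1: clear denominators by scaling the roots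
  obtain ⟨s, hs, hsc⟩ := IsLocalization.integerNormalization_spec m.primeCompl f
  set N : A[X] := IsLocalization.integerNormalization m.primeCompl f with hN
  set st : Localization.AtPrime m := algebraMap A (Localization.AtPrime m) s with hstdef
  have hst : IsUnit st := IsLocalization.map_units (Localization.AtPrime m) ⟨s, hs⟩
  set n := f.natDegree with hn
  have hcoeff : ∀ i, algebraMap A (Localization.AtPrime m) (N.coeff i) = st * f.coeff i := by
    intro i
    have := congrArg (fun p => coeff p i) hsc
    simp only [coeff_map, coeff_smul] at this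
    rw [this, Algebra.smul_def]
  have hqmonic : (scaleRoots f st).Monic := (monic_scaleRoots_iff st).mpr hf
  have hqlifts : scaleRoots f st ∈ lifts (algebraMap A (Localization.AtPrime m)) := by
    rw [lifts_iff_coeff_lifts]
    intro i
    rw [coeff_scaleRoots]
    by_cases hi : i < n
    · refine ⟨N.coeff i * s ^ (n - i - 1), ?_⟩
      rw [map_mul, hcoeff, map_pow]
      obtain ⟨k, hk⟩ : ∃ k, n - i = k + 1 := ⟨n - i - 1, by omega⟩
      have hk' : n - i - 1 = k := by omega
      rw [hk, Nat.add_sub_cancel, pow_succ, ← hstdef]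
      ring
    · by_cases hi' : i = n
      · subst hi'
        refine ⟨1, ?_⟩
        rw [map_one, hf.coeff_natDegree, Nat.sub_self, pow_zero, mul_one]
      · have : f.coeff i = 0 := coeff_eq_zero_of_natDegree_lt (by omega)
        exact ⟨0, by rw [map_zero, this, zero_mul]⟩
  obtain ⟨G₀, hG₀map, -, hG₀monic⟩ := lifts_and_natDegree_eq_and_monic hqlifts hqmonic
  -- Step 2: approximate the scaled root by an element of `A`
  set a₁ : Localization.AtPrime m := st * a₀ with ha₁
  obtain ⟨t, ht⟩ : ∃ t : A, algebraMap A (Localization.AtPrime m) t - a₁ ∈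
      maximalIdeal (Localization.AtPrime m) := by
    obtain ⟨t, ht⟩ := m.algebraMap_residueField_surjective (residue _ a₁)
    refine ⟨t, ?_⟩
    rw [← Ideal.Quotient.eq_zero_iff_mem]
    change residue _ (_ - a₁) = 0
    rw [map_sub, ← ht, sub_eq_zero]
    rfl
  -- facts on `q`
  have hq1 : eval a₁ (scaleRoots f st) ∈ maximalIdeal (Localization.AtPrime m) := by
    rw [ha₁, scaleRoots_eval_mul]
    exact Ideal.mul_mem_left _ _ hfa
  have hq2 : IsUnit (eval a₁ (derivative (scaleRoots f st))) := by
    have hcomp : (scaleRoots f st).comp (C st * X) = C st ^ n * f := by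
      have := scaleRoots_eval₂_mul (p := f) (C : Localization.AtPrime m →+* _) X st
      rwa [eval₂_C_X] at this
    have hder := congrArg derivative hcomp
    rw [derivative_comp, ← C_pow, derivative_C_mul, derivative_C_mul, derivative_X, mul_one]
      at hder
    have hev := congrArg (eval a₀) hder
    rw [eval_mul, eval_C, eval_comp, eval_mul, eval_C, eval_X, eval_mul, eval_C] at hev
    have : IsUnit (st * eval (st * a₀) (derivative (scaleRoots f st))) := by
      rw [hev]
      exact (hst.pow n).mul hfa'
    exact isUnit_of_mul_isUnit_right this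
  have hcong : ∀ p : (Localization.AtPrime m)[X],
      eval (algebraMap A (Localization.AtPrime m) t) p - eval a₁ p ∈
        maximalIdeal (Localization.AtPrime m) := by
    intro p
    obtain ⟨c, hc⟩ := sub_dvd_eval_sub (algebraMap A (Localization.AtPrime m) t) a₁ p
    rw [hc]
    exact Ideal.mul_mem_right _ _ ht
  -- Step 3: translate
  set G : A[X] := G₀.comp (X + C t) with hGdef
  have hGmonic : G.Monic := hG₀monic.comp_X_add_C t
  have hmapeval : ∀ p : A[X], algebraMap A (Localization.AtPrime m) (eval t p) =
      eval (algebraMap A (Localization.AtPrime m) t)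
        (p.map (algebraMap A (Localization.AtPrime m))) := by
    intro p
    rw [eval_map, eval₂_at_apply]
  have hG0 : G.coeff 0 ∈ m := by
    rw [← IsLocalization.AtPrime.to_map_mem_maximal_iff (Localization.AtPrime m) m]
    have e1 : G.coeff 0 = eval t G₀ := by
      rw [coeff_zero_eq_eval_zero, hGdef, eval_comp, eval_add, eval_X, eval_C, zero_add]
    rw [e1, hmapeval, hG₀map]
    have := add_mem (hcong (scaleRoots f st)) hq1
    rwa [sub_add_cancel] at this
  have hG1 : G.coeff 1 ∉ m := by
    rw [← IsLocalization.AtPrime.to_map_mem_maximal_iff (Localization.AtPrime m) m]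
    have e1 : G.coeff 1 = eval t (derivative G₀) := by
      have : G.coeff 1 = eval 0 (derivative G) := by
        rw [← coeff_zero_eq_eval_zero, coeff_derivative]
        simp
      rw [this, hGdef, derivative_comp, eval_mul, eval_comp, eval_add, eval_X, eval_C, zero_add,
        derivative_add, derivative_X, derivative_C, add_zero, eval_one, one_mul]
    rw [e1, hmapeval, ← derivative_map, hG₀map]
    intro hmem
    have h2 := sub_mem hmem (hcong (derivative (scaleRoots f st)))
    rw [sub_sub_cancel] at h2
    exact ((mem_maximalIdeal _).mp h2) hq2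
  obtain ⟨b, hbm, hb⟩ := exists_root_mem_maximalIdeal A h m G hGmonic hG0 hG1
  -- Step 4: back to `f`
  set b₁ : Localization.AtPrime m := b + algebraMap A (Localization.AtPrime m) t with hb₁
  have hb₁root : eval b₁ (scaleRoots f st) = 0 := by
    rw [← hG₀map, eval_map, ← aeval_def]
    rw [hGdef, aeval_comp, map_add, aeval_X, aeval_C] at hb
    exact hb
  obtain ⟨u, hu⟩ := hst
  refine ⟨(u⁻¹ : (Localization.AtPrime m)ˣ) * b₁, ?_, ?_⟩
  · have h1 : st * ((u⁻¹ : (Localization.AtPrime m)ˣ) * b₁) = b₁ := by
      rw [← hu, ← mul_assoc, Units.mul_inv, one_mul]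
    have h2 := scaleRoots_eval_mul f ((u⁻¹ : (Localization.AtPrime m)ˣ) * b₁) st
    rw [h1, hb₁root] at h2
    have h3 : IsUnit (st ^ f.natDegree) := by rw [← hu]; exact (u.isUnit).pow _
    exact (h3.mul_right_eq_zero).mp h2.symm
  · have : (u⁻¹ : (Localization.AtPrime m)ˣ) * b₁ - a₀ =
        (u⁻¹ : (Localization.AtPrime m)ˣ) * (b + (algebraMap A (Localization.AtPrime m) t - a₁)) := by
      have key : ∀ (ui u' b' t' a' : Localization.AtPrime m), ui * u' = 1 →
          ui * (b' + t') - a' = ui * (b' + (t' - u' * a')) := by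
        intro ui u' b' t' a' hinv
        linear_combination a' * hinv
      rw [ha₁, ← hu, hb₁]
      exact key _ _ _ _ _ (Units.inv_mul u)
    rw [this]
    exact Ideal.mul_mem_left _ _ (add_mem hbm ht)


include h in
theorem isSepClosed_residueField :
    IsSepClosed (ResidueField (Localization.AtPrime m)) := by
  refine IsSepClosed.of_exists_root _ fun p hp hirr hsep => ?_
  have hsurj : Function.Surjective (algebraMap A m.ResidueField) :=
    m.algebraMap_residueField_surjective
  have hl : p ∈ lifts (algebraMap A m.ResidueField) := by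
    obtain ⟨q, hq⟩ := map_surjective (algebraMap A m.ResidueField) hsurj p
    exact (mem_lifts p).mpr ⟨q, hq⟩
  obtain ⟨G, hGmap, -, hGmonic⟩ := lifts_and_natDegree_eq_and_monic hl hp
  haveI : Fact (Irreducible p) := ⟨hirr⟩
  haveI : IsScalarTower A m.ResidueField (AdjoinRoot p) := inferInstance
  have hker : RingHom.ker (algebraMap A (AdjoinRoot p)) = m := by
    ext a
    rw [RingHom.mem_ker, IsScalarTower.algebraMap_apply A m.ResidueField (AdjoinRoot p),
      map_eq_zero_iff _ (algebraMap m.ResidueField (AdjoinRoot p)).injective,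
      Ideal.algebraMap_residueField_eq_zero]
  let P : StandardEtalePair A :=
    { f := G
      monic_f := hGmonic
      g := derivative G
      cond := ⟨1, 0, 1, by simp⟩ }
  have haeval : ∀ q : A[X], aeval (AdjoinRoot.root p) q =
      aeval (AdjoinRoot.root p) (q.map (algebraMap A m.ResidueField)) := by
    intro q
    rw [aeval_map_algebraMap]
  have hx : P.HasMap (AdjoinRoot.root p) := by
    constructor
    · change aeval (AdjoinRoot.root p) G = 0
      rw [haeval, hGmap, AdjoinRoot.aeval_eq, AdjoinRoot.mk_self]
    · change IsUnit (aeval (AdjoinRoot.root p) (derivative G))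
      rw [haeval, ← derivative_map, hGmap, isUnit_iff_ne_zero]
      exact hsep.aeval_derivative_ne_zero (by rw [AdjoinRoot.aeval_eq, AdjoinRoot.mk_self])
  obtain ⟨b, hb1, -⟩ := exists_hasMap A h m P (AdjoinRoot p) hker _ hx
  refine ⟨residue _ b, ?_⟩
  have hb1' : aeval b G = 0 := hb1
  rw [← hGmap, eval_map]
  have : eval₂ (algebraMap A m.ResidueField) (residue (Localization.AtPrime m) b) G =
      residue (Localization.AtPrime m) (aeval b G) := by
    rw [aeval_def, hom_eval₂]
    rfl
  rw [this, hb1', map_zero]

include h in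
theorem isStrictlyHenselian :
    EtCoh.IsStrictlyHenselianLocalRing (Localization.AtPrime m) :=
  ⟨henselianLocalRing A h m, isSepClosed_residueField A h m⟩

end Groth.Agent.Lib.Helper8.EtaleRetr
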