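import Mathlib
import Groth.Prelude.Def_PBC
import Groth.Agent.Lib.Helper8.IndEtStar

set_option autoImplicit false

universe u

open CategoryTheory Limits TensorProduct

namespace Groth.Agent.Lib.Helper8.IndEt

open Groth.Agent.Lib.Helper8.WeakColim

section Under

variable {C : Type u} [Category.{u} C] [IsFiltered C] {A : Type u} [CommRing A] {G : C → Type u}
  [∀ X, CommRing (G X)] [∀ X, Algebra A (G X)] {B : Type u} [CommRing B] [Algebra A B]
  {g : ∀ X, G X →ₐ[A] B} {m : ∀ {X Y : C}, (X ⟶ Y) → (G X →ₐ[A] G Y)}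

/-- The system of objects under `X₀` is a weak colimit system of `G X₀`-algebras. -/
theorem isWeakColim_under (hW : IsWeakColim (WSys.ofFiltered C) G B (fun X => g X) (fun f => m f))
    (X₀ : C) [∀ Y : Under X₀, Algebra (G X₀) (G Y.right)]
    (halg : ∀ (Y : Under X₀) (r : G X₀), algebraMap (G X₀) (G Y.right) r = m Y.hom r)
    [Algebra (G X₀) B] (halgB : ∀ r : G X₀, algebraMap (G X₀) B r = g X₀ r) :
    ∃ (β : ∀ Y : Under X₀, G Y.right →ₐ[G X₀] B)
      (μ : ∀ {Y Z : Under X₀}, (Y ⟶ Z) → (G Y.right →ₐ[G X₀] G Z.right)),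
      (∀ Y y, β Y y = g Y.right y) ∧ (∀ {Y Z : Under X₀} (f : Y ⟶ Z) y, μ f y = m f.right y) ∧
      IsWeakColim (WSys.ofFiltered (Under X₀)) (fun Y => G Y.right) B (fun Y => β Y)
        (fun f => μ f) := by
  let β : ∀ Y : Under X₀, G Y.right →ₐ[G X₀] B := fun Y =>
    { toRingHom := (g Y.right).toRingHom
      commutes' := fun r => by
        change g Y.right (algebraMap (G X₀) (G Y.right) r) = _
        rw [halg, halgB, hW.compat] }
  let μ : ∀ {Y Z : Under X₀}, (Y ⟶ Z) → (G Y.right →ₐ[G X₀] G Z.right) := fun {Y Z} f =>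
    { toRingHom := (m f.right).toRingHom
      commutes' := fun r => by
        change m f.right (algebraMap (G X₀) (G Y.right) r) = _
        rw [halg, halg, ← hW.map_comp]
        have := Under.w f
        change m (Y.hom ≫ f.right) r = m Z.hom r
        rw [this] }
  refine ⟨β, μ, fun Y y => rfl, fun f y => rfl, ?_⟩
  refine
    { map_zero := fun f => map_zero _
      map_id := fun Y y => hW.map_id Y.right y
      map_comp := fun f f' y => hW.map_comp f.right f'.right y
      compat := fun f y => hW.compat f.right y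
      surj := fun b => ?_
      ker := fun Y y hy => ?_ }
  · obtain ⟨X, y, hy⟩ := hW.surj b
    refine ⟨Under.mk (IsFiltered.leftToMax X₀ X), m (IsFiltered.rightToMax X₀ X) y, ?_⟩
    change g _ (m (IsFiltered.rightToMax X₀ X) y) = b
    rw [hW.compat, hy]
  · obtain ⟨W, k, hk⟩ := hW.ker Y.right y hy
    exact ⟨Under.mk (Y.hom ≫ k), Under.homMk k rfl, hk⟩

end Under

section Desc

variable {A B : Type u} [CommRing A] [CommRing B] [Algebra A B]

/-- An étale algebra over an ind-étale `A`-algebra `B` descends to an étale algebra over some étale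
`A`-algebra mapping to `B`. -/
theorem exists_etale_model (hB : IndEtaleStar A B) (F : Type u) [CommRing F] [Algebra B F]
    [Algebra.Etale B F] :
    ∃ (X : EtOver A B) (F₁ : Type u) (_ : CommRing F₁) (_ : Algebra X.E F₁)
      (_ : Algebra.Etale X.E F₁),
      letI := X.φ.toAlgebra
      Nonempty (B ⊗[X.E] F₁ ≃ₐ[B] F) := by
  classical
  have hW := hB.isWeakColim
  let P := Algebra.Presentation.ofFinitePresentation B F
  have hfin : P.coeffs.Finite := P.finite_coeffs
  obtain ⟨X₀, x, hx⟩ := hW.exists_lift_finset hfin.toFinset (fun b => b)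
  letI : Algebra X₀.E B := X₀.φ.toAlgebra
  letI : Algebra X₀.E F := ((algebraMap B F).comp (algebraMap X₀.E B)).toAlgebra
  haveI : IsScalarTower X₀.E B F := IsScalarTower.of_algebraMap_eq (fun _ => rfl)
  haveI : P.HasCoeffs X₀.E := ⟨fun b hb => ⟨x b, hx b (hfin.mem_toFinset.mpr hb)⟩⟩
  let ε : B ⊗[X₀.E] P.ModelOfHasCoeffs X₀.E ≃ₐ[B] F := P.tensorModelOfHasCoeffsEquiv X₀.E
  -- the under system
  letI : ∀ Y : Under X₀, Algebra X₀.E Y.right.E := fun Y => Y.hom.1.toAlgebra
  obtain ⟨β, μ, hβ, hμ, hWU⟩ := isWeakColim_under hW X₀ (fun Y r => rfl) (fun r => rfl)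
  haveI : Algebra.FormallyEtale B (B ⊗[X₀.E] P.ModelOfHasCoeffs X₀.E) :=
    Algebra.FormallyEtale.of_equiv ε.symm
  obtain ⟨Y₁, -, hY₁⟩ := hWU.exists_formallyEtale (P.ModelOfHasCoeffs X₀.E) (Under.mk (𝟙 X₀))
  haveI : Algebra.Etale Y₁.right.E (Y₁.right.E ⊗[X₀.E] P.ModelOfHasCoeffs X₀.E) := {}
  refine ⟨Y₁.right, Y₁.right.E ⊗[X₀.E] P.ModelOfHasCoeffs X₀.E, inferInstance, inferInstance,
    inferInstance, ?_⟩
  letI : Algebra Y₁.right.E B := Y₁.right.φ.toAlgebra
  haveI : IsScalarTower X₀.E Y₁.right.E B := IsScalarTower.of_algebraMap_eq (fun r => by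
    have := AlgHom.congr_fun Y₁.hom.2 r
    exact this.symm)
  exact ⟨(Algebra.TensorProduct.cancelBaseChange X₀.E Y₁.right.E B B
    (P.ModelOfHasCoeffs X₀.E)).trans ε⟩

end Desc

section Trans

/-- Generic form: if `B` is a weak colimit of `R`-algebras `G i` which are étale over `A`, and `F` is
the base change to `B` of an étale `R`-algebra `F₁`, then `F` satisfies `IndEtaleStar` over `A`. -/
theorem indEtaleStar_of_model {ι : Type u} {S : WSys.{u, u} ι} {A R : Type u} [CommRing A]
    [CommRing R] [Algebra A R] {G : ι → Type u} [∀ i, CommRing (G i)] [∀ i, Algebra R (G i)]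
    [∀ i, Algebra A (G i)] [∀ i, IsScalarTower A R (G i)] [∀ i, Algebra.Etale A (G i)]
    {B : Type u} [CommRing B] [Algebra R B] [Algebra A B] [IsScalarTower A R B]
    {β : ∀ i, G i →ₐ[R] B} {μ : ∀ {i j}, S.H i j → (G i →ₐ[R] G j)}
    (hWU : IsWeakColim S G B (fun i => β i) (fun h => μ h))
    (F₁ : Type u) [CommRing F₁] [Algebra R F₁] [Algebra.Etale R F₁]
    (F : Type u) [CommRing F] [Algebra B F] [Algebra A F] [IsScalarTower A B F]
    (ε : B ⊗[R] F₁ ≃ₐ[B] F) : IndEtaleStar A F := by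
  haveI : ∀ i, SMulCommClass R A (G i) := fun i =>
    ⟨fun r a y => by rw [Algebra.smul_def r, Algebra.smul_def r, mul_smul_comm]⟩
  haveI : SMulCommClass R A B :=
    ⟨fun r a y => by rw [Algebra.smul_def r, Algebra.smul_def r, mul_smul_comm]⟩
  haveI : ∀ i, Algebra.Etale A (G i ⊗[R] F₁) := fun i => Algebra.Etale.comp A (G i) _
  have hWF := hWU.algRight F₁
  -- the maps to `F`, as `A`-algebra maps
  let ρ : ∀ i, G i ⊗[R] F₁ →ₐ[A] F := fun i =>
    (ε.toAlgHom.restrictScalars A).comp
      ((Algebra.TensorProduct.map (β i) (AlgHom.id R F₁)).restrictScalars A)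
  let τ : ∀ {i j}, S.H i j → (G i ⊗[R] F₁ →ₐ[A] G j ⊗[R] F₁) :=
    fun h => (Algebra.TensorProduct.map (μ h) (AlgHom.id R F₁)).restrictScalars A
  have hWA : IsWeakColim S (fun i => G i ⊗[R] F₁) F (fun i => ρ i) (fun h => τ h) :=
    { map_zero := fun h => hWF.map_zero h
      map_id := fun i y => hWF.map_id i y
      map_comp := fun h h' y => hWF.map_comp h h' y
      compat := fun h y => congrArg ε (hWF.compat h y)
      surj := fun y => by
        obtain ⟨i, w, hw⟩ := hWF.surj (ε.symm y)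
        exact ⟨i, w, (congrArg ε hw).trans (ε.apply_symm_apply y)⟩
      ker := fun i w hw => by
        have : Algebra.TensorProduct.map (β i) (AlgHom.id R F₁) w = 0 :=
          ε.injective (hw.trans (map_zero ε).symm)
        exact hWF.ker i w this }
  refine ⟨fun y => ?_, fun E _ _ _ α e he => ?_⟩
  · obtain ⟨i, w, hw⟩ := hWA.surj y
    exact ⟨G i ⊗[R] F₁, inferInstance, inferInstance, inferInstance, ρ i, w, hw⟩
  · obtain ⟨i₀⟩ := hWA.nonempty_index
    obtain ⟨i, -, σ, hσ⟩ := hWA.exists_lift_of_finitePresentation α i₀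
    have h0 : ρ i (σ e) = 0 := by
      have := AlgHom.congr_fun hσ e
      simp only [AlgHom.comp_apply] at this
      rw [this, he]
    obtain ⟨j, f, hf⟩ := hWA.ker i _ h0
    refine ⟨G j ⊗[R] F₁, inferInstance, inferInstance, inferInstance, (τ f).comp σ,
      ρ j, ?_, hf⟩
    rw [← AlgHom.comp_assoc, hWA.alg_compat, hσ]

end Trans

section Trans2

variable {A B : Type u} [CommRing A] [CommRing B] [Algebra A B]

/-- **An étale algebra over an ind-étale algebra is ind-étale** (in the `IndEtaleStar` form). -/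
theorem indEtaleStar_of_etale (hB : IndEtaleStar A B) (F : Type u) [CommRing F] [Algebra B F]
    [Algebra A F] [IsScalarTower A B F] [Algebra.Etale B F] : IndEtaleStar A F := by
  obtain ⟨X, F₁, _, _, _, ⟨ε⟩⟩ := exists_etale_model hB F
  letI : Algebra X.E B := X.φ.toAlgebra
  have hW := hB.isWeakColim
  letI : ∀ Y : Under X, Algebra X.E Y.right.E := fun Y => Y.hom.1.toAlgebra
  obtain ⟨β, μ, hβ, hμ, hWU⟩ := isWeakColim_under hW X (fun Y r => rfl) (fun r => rfl)
  haveI : IsScalarTower A X.E B := ⟨fun a r b => by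
    change X.φ (a • r) * b = a • (X.φ r * b)
    rw [map_smul, smul_mul_assoc]⟩
  haveI : ∀ Y : Under X, IsScalarTower A X.E Y.right.E := fun Y => ⟨fun a r y => by
    change Y.hom.1 (a • r) * y = a • (Y.hom.1 r * y)
    rw [map_smul, smul_mul_assoc]⟩
  exact indEtaleStar_of_model hWU F₁ F ε

end Trans2

end Groth.Agent.Lib.Helper8.IndEt
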