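import Mathlib
import Groth.Agent.Lib.Helper8.IndEtStar

/-!
# The maximal ind-étale algebra mapping to a given algebra

For an `A`-algebra `B`, the colimit `C` of all étale `A`-algebras mapping to `B` (the category
`EtOver A B`) is an ind-étale `A`-algebra with a canonical map to `B`.
-/

set_option autoImplicit false

open CategoryTheory CategoryTheory.Limits TensorProduct

namespace Groth.Agent.Lib.Helper8.IndEt

universe u

open Groth.Agent.Lib.Helper8.WeakColim

section Colim

variable (A B : Type u) [CommRing A] [CommRing B] [Algebra A B]

/-- The colimit cocone of the canonical diagram. -/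
noncomputable def colimCocone : Cocone (EtOver.diagram (A := A) (B := B)) :=
  colimit.cocone _

/-- The colimit ring. -/
noncomputable def Colim : Type u := (colimCocone A B).pt.right

noncomputable instance : CommRing (Colim A B) :=
  inferInstanceAs (CommRing (colimCocone A B).pt.right)

noncomputable instance : Algebra A (Colim A B) :=
  (colimCocone A B).pt.hom.hom.toAlgebra

variable {A B}

/-- The cocone maps as algebra homs. -/
noncomputable def colimι (X : EtOver A B) : X.E →ₐ[A] Colim A B :=
  { toRingHom := ((colimCocone A B).ι.app X).right.hom
    commutes' := fun a => by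
      have h1 := Under.w ((colimCocone A B).ι.app X)
      exact DFunLike.congr_fun (congrArg CommRingCat.Hom.hom h1) a }

theorem colimι_comp {X Y : EtOver A B} (f : X ⟶ Y) : (colimι Y).comp f.1 = colimι X := by
  ext x
  have := (colimCocone A B).w f
  exact congrArg (fun g => g.right.hom x) this

theorem isWeakColim_colim :
    IsWeakColim (WSys.ofFiltered (EtOver A B)) (fun X => X.E) (Colim A B) (fun X => colimι X)
      (fun f => f.1) := by
  let F := Under.forget (CommRingCat.of A) ⋙ forget CommRingCat
  have hcT : IsColimit (F.mapCocone (colimCocone A B)) :=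
    isColimitOfPreserves F (colimit.isColimit _)
  refine
    { map_zero := fun f => map_zero _
      map_id := fun X x => rfl
      map_comp := fun f g x => rfl
      compat := fun {X Y} f x => AlgHom.congr_fun (colimι_comp f) x
      surj := fun b => ?_
      ker := fun X x hx => ?_ }
  · obtain ⟨X, x, hx⟩ := Types.jointly_surjective_of_isColimit hcT b
    exact ⟨X, x, hx⟩
  · have h6 : ((colimCocone A B).ι.app X).right.hom x = ((colimCocone A B).ι.app X).right.hom 0 := by
      rw [map_zero]
      exact hx
    obtain ⟨Y, f, g, hfg⟩ := (Types.FilteredColimit.isColimit_eq_iff _ hcT).mp h6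
    refine ⟨Y, f, ?_⟩
    have h10 : f.1 x = g.1 0 := hfg
    rw [h10, map_zero]

/-- The canonical map to `B`. -/
noncomputable def colimπ : Colim A B →ₐ[A] B :=
  { toRingHom := ((colimit.isColimit _).desc (EtOver.cocone (A := A) (B := B))).right.hom
    commutes' := fun a => by
      have h1 := Under.w ((colimit.isColimit _).desc (EtOver.cocone (A := A) (B := B)))
      exact DFunLike.congr_fun (congrArg CommRingCat.Hom.hom h1) a }

theorem colimπ_ι (X : EtOver A B) (x : X.E) : colimπ (colimι X x) = X.φ x := by
  have := (colimit.isColimit _).fac (EtOver.cocone (A := A) (B := B)) X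
  exact congrArg (fun g => g.right.hom x) this

theorem isIndEtale_colim : EtPBC.IsIndEtale A (Colim A B) := by
  refine ⟨EtOver A B, inferInstance, inferInstance, EtOver.diagram, colimCocone A B,
    colimit.isColimit _, fun X => ?_, ⟨Iso.refl _⟩⟩
  have hX : ((EtOver.diagram (A := A) (B := B)).obj X).hom.hom.toAlgebra =
      (inferInstance : Algebra A X.E) := by
    apply Algebra.algebra_ext
    intro r
    rfl
  rw [hX]
  exact X.etale

end Colim

end Groth.Agent.Lib.Helper8.IndEt
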