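import Mathlib
import Groth.Agent.Lib.Helper8.IndEtColim

/-!
# Auxiliary lemmas for étale retractions over `Colim A B`
-/

set_option autoImplicit false

open TensorProduct CategoryTheory

namespace Groth.Agent.Lib.Helper8.IndEt

universe u

open Groth.Agent.Lib.Helper8.WeakColim

/-- An étale algebra with a point over the kernel of `R → K`, `K` separably closed, has a
`K`-valued point. -/
theorem exists_algHom_sepClosed {R F₁ K : Type u} [CommRing R] [CommRing F₁] [Algebra R F₁]
    [Algebra.Etale R F₁] [Field K] [IsSepClosed K] [Algebra R K] (Q : Ideal F₁) [Q.IsPrime]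
    (hQ : Q.comap (algebraMap R F₁) = RingHom.ker (algebraMap R K)) :
    Nonempty (F₁ →ₐ[R] K) := by
  haveI hp : (RingHom.ker (algebraMap R K)).IsPrime := RingHom.ker_isPrime _
  haveI : Q.LiesOver (RingHom.ker (algebraMap R K)) := ⟨hQ.symm⟩
  letI := Localization.AtPrime.algebraOfLiesOver (RingHom.ker (algebraMap R K)) Q
  haveI : Algebra.FormallyUnramified R (Localization.AtPrime Q) :=
    Algebra.FormallyUnramified.comp R F₁ _
  haveI : Algebra.IsSeparable (RingHom.ker (algebraMap R K)).ResidueField Q.ResidueField :=
    inferInstance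
  have hu : (RingHom.ker (algebraMap R K)).primeCompl ≤
      (IsUnit.submonoid K).comap (algebraMap R K) := by
    intro r hr
    have : algebraMap R K r ≠ 0 := hr
    exact this.isUnit
  letI : Algebra (RingHom.ker (algebraMap R K)).ResidueField K :=
    (Ideal.ResidueField.lift (RingHom.ker (algebraMap R K)) (algebraMap R K) le_rfl hu).toAlgebra
  haveI : IsScalarTower R (RingHom.ker (algebraMap R K)).ResidueField K :=
    IsScalarTower.of_algebraMap_eq (fun r => (Ideal.ResidueField.lift_algebraMap _ _ _ hu r).symm)
  let σ : Q.ResidueField →ₐ[(RingHom.ker (algebraMap R K)).ResidueField] K := IsSepClosed.lift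
  refine ⟨{ toRingHom := σ.toRingHom.comp (algebraMap F₁ Q.ResidueField)
            commutes' := fun r => ?_ }⟩
  change σ (algebraMap F₁ Q.ResidueField (algebraMap R F₁ r)) = algebraMap R K r
  rw [← IsScalarTower.algebraMap_apply R F₁ Q.ResidueField,
    IsScalarTower.algebraMap_apply R (RingHom.ker (algebraMap R K)).ResidueField Q.ResidueField,
    σ.commutes, ← IsScalarTower.algebraMap_apply]

section Can

variable {A B : Type u} [CommRing A] [CommRing B] [Algebra A B]

/-- Every map from an object of `EtOver A B` to the colimit which is compatible with the maps to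
`B` is the canonical one. -/
theorem colimι_eq (Y : EtOver A B) (φ : Y.E →ₐ[A] Colim A B)
    (h : (colimπ (A := A) (B := B)).comp φ = Y.φ) : colimι Y = φ := by
  have hW := isWeakColim_colim (A := A) (B := B)
  obtain ⟨Z, -, σ, hσ⟩ := hW.exists_lift_of_finitePresentation φ Y
  have hZ : Z.φ.comp σ = Y.φ := by
    rw [← h, ← hσ]
    ext y
    simp only [AlgHom.comp_apply]
    rw [colimπ_ι]
  let f : Y ⟶ Z := ⟨σ, hZ⟩
  rw [← colimι_comp f]
  exact hσ

end Can

end Groth.Agent.Lib.Helper8.IndEt
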