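import Mathlib
import Groth.Prelude.Def_PBC
import Groth.Agent.Lib.Helper8.IndEtDesc

set_option autoImplicit false

universe u

open CategoryTheory Limits TensorProduct

namespace Groth.Agent.Lib.Helper8.IndEt

open Groth.Agent.Lib.Helper8.WeakColim

section Trans3

variable {A B C : Type u} [CommRing A] [CommRing B] [CommRing C] [Algebra A B] [Algebra B C]
  [Algebra A C] [IsScalarTower A B C]

/-- **Transitivity of ind-étale** (in the `IndEtaleStar` form). -/
theorem indEtaleStar_trans (sB : IndEtaleStar A B) (sC : IndEtaleStar B C) : IndEtaleStar A C := by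
  refine ⟨fun c => ?_, fun G _ _ _ θ e he => ?_⟩
  · obtain ⟨F, _, _, _, χ, y, rfl⟩ := sC.1 c
    letI : Algebra A F := ((algebraMap B F).comp (algebraMap A B)).toAlgebra
    haveI : IsScalarTower A B F := IsScalarTower.of_algebraMap_eq (fun _ => rfl)
    have sF := indEtaleStar_of_etale sB F
    obtain ⟨F', _, _, _, ρ, y', rfl⟩ := sF.1 y
    exact ⟨F', inferInstance, inferInstance, inferInstance, (χ.restrictScalars A).comp ρ, y', rfl⟩
  · let θB : B ⊗[A] G →ₐ[B] C :=
      Algebra.TensorProduct.lift (Algebra.ofId B C) θ (fun _ _ => Commute.all _ _)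
    have h0 : θB (1 ⊗ₜ e) = 0 := by
      simp [θB, he]
    obtain ⟨F, _, _, _, ψ₁, χ, h1, h2⟩ := sC.2 (B ⊗[A] G) θB _ h0
    letI : Algebra A F := ((algebraMap B F).comp (algebraMap A B)).toAlgebra
    haveI : IsScalarTower A B F := IsScalarTower.of_algebraMap_eq (fun _ => rfl)
    have sF := indEtaleStar_of_etale sB F
    have hWF := sF.isWeakColim
    let α : G →ₐ[A] F := (ψ₁.restrictScalars A).comp Algebra.TensorProduct.includeRight
    obtain ⟨X₀⟩ := hWF.nonempty_index
    obtain ⟨X, -, σ, hσ⟩ := hWF.exists_lift_of_finitePresentation α X₀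
    have h3 : X.φ (σ e) = 0 := by
      have := AlgHom.congr_fun hσ e
      simp only [AlgHom.comp_apply] at this
      rw [this]
      exact h2
    obtain ⟨Y, k, hk⟩ := hWF.ker X _ h3
    refine ⟨Y.E, inferInstance, inferInstance, inferInstance, k.1.comp σ,
      (χ.restrictScalars A).comp Y.φ, ?_, hk⟩
    ext g
    have e1 := AlgHom.congr_fun k.2 (σ g)
    have e2 := AlgHom.congr_fun hσ g
    have e3 := AlgHom.congr_fun h1 (1 ⊗ₜ g)
    simp only [AlgHom.comp_apply, AlgHom.restrictScalars_apply] at e1 e2 e3 ⊢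
    rw [e1, e2]
    simp only [α, AlgHom.comp_apply, AlgHom.restrictScalars_apply,
      Algebra.TensorProduct.includeRight_apply]
    rw [e3]
    simp [θB]

end Trans3

end Groth.Agent.Lib.Helper8.IndEt
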