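import Mathlib
import Groth.Agent.Lib.Helper8.SmoothQuotChart
set_option autoImplicit false
open TensorProduct IsLocalRing

/-! Ring-level preparation for étale coordinates adapted to a smooth closed subscheme:
existence of minimal generators and a localisation-independent form of
`SmoothQuotChart.exists_etale_coordinates`. -/

namespace Groth.Agent.Lib.Helper8.SmoothChartRing

open Groth.Agent.Lib.Helper8.SmoothQuotChart

universe u

/-- A finitely generated ideal has, at every prime `q`, a system of generators of `J_q` of minimal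
cardinality `dim κ(q) ⊗ J`. -/
theorem exists_minimal_generators {B : Type u} [CommRing B] (J : Ideal B) (hJ : J.FG)
    (q : Ideal B) [q.IsPrime] :
    ∃ (r : ℕ) (g : Fin r → B), (∀ i, g i ∈ J) ∧
      J.map (algebraMap B (Localization.AtPrime q)) =
        Ideal.span (Set.range fun i => algebraMap B (Localization.AtPrime q) (g i)) ∧
      r = Module.finrank q.ResidueField (q.ResidueField ⊗[B] J) := by
  classical
  let J'' : Ideal (Localization.AtPrime q) :=
    Submodule.localized' (Localization.AtPrime q) q.primeCompl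
      (Algebra.linearMap B (Localization.AtPrime q)) J
  have hJ'' : J'' = J.map (algebraMap B (Localization.AtPrime q)) :=
    Ideal.localized'_eq_map (Localization.AtPrime q) q.primeCompl J
  have hJ''fg : J''.FG := by
    rw [hJ'']; exact hJ.map _
  haveI : Module.Finite (Localization.AtPrime q) J'' := Module.Finite.iff_fg.mpr hJ''fg
  haveI : Module.Finite B J := Module.Finite.iff_fg.mpr hJ
  let c : J → q.ResidueField ⊗[B] J := fun j => (1 : q.ResidueField) ⊗ₜ[B] j
  have hc : Submodule.span q.ResidueField (Set.range c) = ⊤ := by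
    rw [eq_top_iff]
    rintro x -
    induction x using TensorProduct.induction_on with
    | zero => exact zero_mem _
    | tmul k j =>
      have : k ⊗ₜ[B] j = k • c j := by
        simp only [c, TensorProduct.smul_tmul', smul_eq_mul, mul_one]
      rw [this]
      exact Submodule.smul_mem _ _ (Submodule.subset_span ⟨j, rfl⟩)
    | add x y hx hy => exact add_mem hx hy
  obtain ⟨κ', a', ha', hsp, hli⟩ := exists_linearIndependent' q.ResidueField c
  rw [hc] at hsp
  let bas := Module.Basis.mk hli hsp.ge
  haveI : Finite κ' := Module.Finite.finite_basis bas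
  let e := Finite.equivFin κ'
  let Φ : q.ResidueField ⊗[B] J ≃ₗ[q.ResidueField]
      q.ResidueField ⊗[Localization.AtPrime q] J'' :=
    ((IsLocalizedModule.isBaseChange q.primeCompl (Localization.AtPrime q)
        (Submodule.toLocalized' (Localization.AtPrime q) q.primeCompl
          (Algebra.linearMap B (Localization.AtPrime q)) J)).comp
      (TensorProduct.isBaseChange (Localization.AtPrime q) J'' q.ResidueField)).equiv
  have hmem : ∀ i, algebraMap B (Localization.AtPrime q) (a' (e.symm i) : B) ∈ J'' := fun i => by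
    rw [hJ'']; exact Ideal.mem_map_of_mem _ (a' (e.symm i)).2
  let g'' : Fin (Nat.card κ') → J'' :=
    fun i => ⟨algebraMap B (Localization.AtPrime q) (a' (e.symm i) : B), hmem i⟩
  refine ⟨Nat.card κ', fun i => (a' (e.symm i) : B), fun i => (a' (e.symm i)).2, ?_,
    (Module.finrank_eq_nat_card_basis bas).symm⟩
  have hΦ : ∀ i, Φ (c (a' (e.symm i))) =
      (1 : q.ResidueField) ⊗ₜ[Localization.AtPrime q] g'' i := by
    intro i
    simp only [Φ, c, IsBaseChange.equiv_tmul, one_smul]
    rfl
  have hvtop : Submodule.span q.ResidueField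
      (Set.range fun i => (1 : q.ResidueField) ⊗ₜ[Localization.AtPrime q] g'' i) = ⊤ := by
    have h2 : Submodule.span q.ResidueField (Set.range fun i => c (a' (e.symm i))) = ⊤ := by
      have : (fun i => c (a' (e.symm i))) = (c ∘ a') ∘ e.symm := rfl
      rw [this, e.symm.surjective.range_comp]
      exact hsp
    have h3 := congrArg (Submodule.map Φ.toLinearMap) h2
    rw [Submodule.map_span, ← Set.range_comp, Submodule.map_top, LinearEquiv.range] at h3
    have h4 : (Φ.toLinearMap ∘ fun i => c (a' (e.symm i))) =
        fun i => (1 : q.ResidueField) ⊗ₜ[Localization.AtPrime q] g'' i := funext hΦ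
    rw [h4] at h3
    exact h3
  have hg''top : Submodule.span (Localization.AtPrime q) (Set.range g'') = ⊤ := by
    apply IsLocalRing.map_tensorProduct_mk_eq_top.mp
    rw [Submodule.map_span, ← Set.range_comp, ← Submodule.restrictScalars_span
      (Localization.AtPrime q) (ResidueField (Localization.AtPrime q))
      Ideal.Quotient.mk_surjective, Submodule.restrictScalars_eq_top_iff]
    exact hvtop
  have h5 := congrArg (Submodule.map J''.subtype) hg''top
  rw [Submodule.map_span, Submodule.map_top, Submodule.range_subtype, ← Set.range_comp] at h5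
  rw [← hJ'']
  exact h5.symm

/-- A form of `SmoothQuotChart.exists_etale_coordinates` which produces the generators itself and
is valid for every localisation of `B` away from `f`. -/
theorem exists_etale_coordinates_of_isLocalization (A B : Type u) [CommRing A] [CommRing B]
    [Algebra A B] [Algebra.FinitePresentation A B] (J : Ideal B) (hJ : J.FG) (q : Ideal B)
    [q.IsPrime] (hJq : J ≤ q) [Algebra.IsSmoothAt A q] (Q : Ideal (B ⧸ J)) [Q.IsPrime]
    (hQ : Q.comap (Ideal.Quotient.mk J) = q) [Algebra.IsSmoothAt A Q] :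
    ∃ (n : ℕ) (g : Fin n → B) (_ : ∀ i, g i ∈ J) (f : B) (_ : f ∉ q) (m : ℕ),
      ∀ (B' : Type u) [CommRing B'] [Algebra B B'] [Algebra A B'] [IsScalarTower A B B']
        [IsLocalization.Away f B'],
        ∃ g' : Fin m → B',
          (MvPolynomial.aeval (fun j : ULift.{u} (Fin m ⊕ Fin n) =>
              Sum.elim g' (fun b => algebraMap B B' (g b)) j.down) :
            MvPolynomial (ULift.{u} (Fin m ⊕ Fin n)) A →ₐ[A] B').toRingHom.Etale ∧
          J.map (algebraMap B B') = Ideal.span (Set.range fun b => algebraMap B B' (g b)) := by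
  obtain ⟨r, g, hg, hgen, hmin⟩ := exists_minimal_generators J hJ q
  obtain ⟨f, hf, m, g', hét, hspan⟩ :=
    exists_etale_coordinates A B J hJ q hJq Q hQ r g hg hgen hmin
  refine ⟨r, g, hg, f, hf, m, ?_⟩
  intro B' _ _ _ _ _
  let ε : Localization.Away f ≃ₐ[B] B' := IsLocalization.algEquiv (Submonoid.powers f) _ _
  let εA : Localization.Away f ≃ₐ[A] B' := ε.restrictScalars A
  refine ⟨fun j => ε (g' j), ?_, ?_⟩
  · let σ : ULift.{u} (Fin m ⊕ Fin r) ≃ Fin r ⊕ Fin m := Equiv.ulift.trans (Equiv.sumComm _ _)
    let F₀ : MvPolynomial (Fin r ⊕ Fin m) A →ₐ[A] Localization.Away f :=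
      MvPolynomial.aeval (Sum.elim (fun i => algebraMap B (Localization.Away f) (g i)) g')
    let ρ : MvPolynomial (ULift.{u} (Fin m ⊕ Fin r)) A →ₐ[A] MvPolynomial (Fin r ⊕ Fin m) A :=
      MvPolynomial.rename σ
    have key : (MvPolynomial.aeval (fun j : ULift.{u} (Fin m ⊕ Fin r) =>
          Sum.elim (fun j => ε (g' j)) (fun b => algebraMap B B' (g b)) j.down) :
          MvPolynomial (ULift.{u} (Fin m ⊕ Fin r)) A →ₐ[A] B') =
        ((εA : Localization.Away f →ₐ[A] B').comp F₀).comp ρ := by
      apply MvPolynomial.algHom_ext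
      rintro ⟨a | b⟩
      · simp [F₀, ρ, σ, εA]
      · simp [F₀, ρ, σ, εA]
    rw [key]
    have h1 : (ρ.toRingHom).Etale :=
      RingHom.Etale.of_bijective (MvPolynomial.renameEquiv A σ).bijective
    have h2 : ((εA : Localization.Away f →ₐ[A] B').toRingHom).Etale :=
      RingHom.Etale.of_bijective εA.bijective
    exact RingHom.Etale.stableUnderComposition _ _ h1
      (RingHom.Etale.stableUnderComposition _ _ hét h2)
  · have h1 : J.map (algebraMap B B') =
        (J.map (algebraMap B (Localization.Away f))).map
          (ε : Localization.Away f →ₐ[B] B').toRingHom := by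
      rw [Ideal.map_map]
      congr 1
      exact RingHom.ext fun x => (ε.commutes x).symm
    rw [h1, hspan, Ideal.map_span, ← Set.range_comp]
    refine congrArg Ideal.span (congrArg Set.range (funext fun b => ?_))
    exact ε.commutes (g b)

/-- Étale coordinates adapted to a closed subscheme `Spec C ⊆ Spec B` (with `B`, `C` smooth over
`A`) around a prime `Q'` of `C`. -/
theorem exists_chart_of_surjective (A B C : Type u) [CommRing A] [CommRing B] [CommRing C]
    [Algebra A B] [Algebra A C] [Algebra.Smooth A B] [Algebra.Smooth A C] (ψ : B →ₐ[A] C)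
    (hψ : Function.Surjective ψ) (Q' : Ideal C) [Q'.IsPrime] :
    ∃ (n : ℕ) (g : Fin n → B) (_ : ∀ i, ψ (g i) = 0) (f : B) (_ : ψ f ∉ Q') (m : ℕ),
      ∀ (B' : Type u) [CommRing B'] [Algebra B B'] [Algebra A B'] [IsScalarTower A B B']
        [IsLocalization.Away f B'],
        ∃ g' : Fin m → B',
          (MvPolynomial.aeval (fun j : ULift.{u} (Fin m ⊕ Fin n) =>
              Sum.elim g' (fun b => algebraMap B B' (g b)) j.down) :
            MvPolynomial (ULift.{u} (Fin m ⊕ Fin n)) A →ₐ[A] B').toRingHom.Etale ∧
          ∀ x : B, ψ x = 0 → algebraMap B B' x ∈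
            Ideal.span (Set.range fun b => algebraMap B B' (g b)) := by
  let J : Ideal B := RingHom.ker ψ
  have hJ : J.FG := Algebra.FinitePresentation.ker_fG_of_surjective ψ hψ
  let q : Ideal B := Q'.comap ψ
  haveI : q.IsPrime := Ideal.comap_isPrime _ _
  have hJq : J ≤ q := fun x hx => by
    show ψ x ∈ Q'
    rw [show ψ x = 0 from hx]
    exact zero_mem _
  haveI : Algebra.FormallySmooth B (Localization.AtPrime q) :=
    Algebra.FormallySmooth.of_isLocalization q.primeCompl
  haveI : Algebra.IsSmoothAt A q := Algebra.FormallySmooth.comp A B (Localization.AtPrime q)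
  let Q : Ideal (B ⧸ J) := q.map (Ideal.Quotient.mk J)
  haveI : Q.IsPrime := Ideal.map_isPrime_of_surjective Ideal.Quotient.mk_surjective
    (by rw [Ideal.mk_ker]; exact hJq)
  have hQ : Q.comap (Ideal.Quotient.mk J) = q := by
    rw [Ideal.comap_map_of_surjective _ Ideal.Quotient.mk_surjective,
      ← RingHom.ker_eq_comap_bot, Ideal.mk_ker, sup_eq_left.mpr hJq]
  let e : (B ⧸ J) ≃ₐ[A] C := Ideal.quotientKerAlgEquivOfSurjective hψ
  haveI : Algebra.Smooth A (B ⧸ J) := Algebra.Smooth.of_equiv e.symm
  haveI : Algebra.FormallySmooth (B ⧸ J) (Localization.AtPrime Q) :=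
    Algebra.FormallySmooth.of_isLocalization Q.primeCompl
  haveI : Algebra.IsSmoothAt A Q :=
    Algebra.FormallySmooth.comp A (B ⧸ J) (Localization.AtPrime Q)
  obtain ⟨n, g, hg, f, hf, m, H⟩ :=
    exists_etale_coordinates_of_isLocalization A B J hJ q hJq Q hQ
  refine ⟨n, g, fun i => hg i, f, fun h => hf h, m, ?_⟩
  intro B' _ _ _ _ _
  obtain ⟨g', h1, h2⟩ := H B'
  refine ⟨g', h1, fun x hx => ?_⟩
  rw [← h2]
  exact Ideal.mem_map_of_mem _ (show x ∈ J from hx)

end Groth.Agent.Lib.Helper8.SmoothChartRing
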