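import Mathlib

/-!
# Functions that are locally constant for the constructible topology

On a quasi-compact, quasi-separated, quasi-sober, prespectral space, a function which is
constant on a constructible set around each point has constructible level sets and finite range.
-/

set_option autoImplicit false

open Topology

namespace Groth.Agent.Lib.Helper8.WeightConstrTop

variable {X : Type*} [TopologicalSpace X]

/-- Constructible sets are clopen for the constructible topology. -/
lemma isClopen_of_isConstructible [CompactSpace X] {s : Set X} (hs : IsConstructible s) :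
    IsClopen (WithTopology.ofTopology ⁻¹' s : Set (WithConstructibleTopology X)) := by
  induction hs using IsConstructible.empty_union_induction with
  | open_retrocompact U hUopen hUcomp =>
    have hc : IsCompact U := hUcomp.isCompact
    refine ⟨?_, ?_⟩
    · rw [← isOpen_compl_iff]
      refine WithConstructibleTopology.isOpen_iff.mpr ?_
      have hc' : IsCompact (Uᶜ)ᶜ := by rwa [compl_compl]
      exact hc'.isOpen_constructibleTopology_of_isClosed hUopen.isClosed_compl
    · refine WithConstructibleTopology.isOpen_iff.mpr ?_
      exact hc.isOpen_constructibleTopology_of_isOpen hUopen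
  | union s hs t ht hs' ht' => exact hs'.union ht'
  | compl s hs hs' => exact hs'.compl

variable [CompactSpace X] [QuasiSeparatedSpace X] [QuasiSober X] [PrespectralSpace X]
  {ι : Type*} (w : X → ι)
  (h : ∀ x, ∃ T : Set X, IsConstructible T ∧ x ∈ T ∧ ∀ y ∈ T, w y = w x)

include h

lemma isOpen_levelSet (m : ι) :
    IsOpen (WithTopology.ofTopology ⁻¹' {x | w x = m} : Set (WithConstructibleTopology X)) := by
  choose T hT hxT hTw using h
  rw [isOpen_iff_forall_mem_open]
  intro z hz
  refine ⟨WithTopology.ofTopology ⁻¹' T (WithTopology.ofTopology z), ?_,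
    (isClopen_of_isConstructible (hT _)).isOpen, hxT _⟩
  intro y hy
  show w (WithTopology.ofTopology y) = m
  rw [hTw _ _ hy]
  exact hz

theorem isConstructible_levelSet (n : ι) : IsConstructible {x | w x = n} := by
  have hlev := isOpen_levelSet w h
  choose T hT hxT hTw using h
  have hopen : ∀ x, IsOpen (WithTopology.ofTopology ⁻¹' T x :
      Set (WithConstructibleTopology X)) :=
    fun x => (isClopen_of_isConstructible (hT x)).isOpen
  have hclosed : IsClosed (WithTopology.ofTopology ⁻¹' {x | w x = n} :
      Set (WithConstructibleTopology X)) := by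
    rw [← isOpen_compl_iff]
    have : (WithTopology.ofTopology ⁻¹' {x | w x = n} : Set (WithConstructibleTopology X))ᶜ =
        ⋃ m ∈ {m | m ≠ n}, WithTopology.ofTopology ⁻¹' {x | w x = m} := by
      ext z
      simp only [Set.mem_compl_iff, Set.mem_preimage, Set.mem_setOf_eq, Set.mem_iUnion,
        exists_prop]
      constructor
      · intro hz
        exact ⟨_, hz, rfl⟩
      · rintro ⟨m, hm, hz⟩
        rw [hz]
        exact hm
    rw [this]
    exact isOpen_biUnion fun m _ => hlev m
  obtain ⟨b', hb', hfin, hcov⟩ := hclosed.isCompact.elim_finite_subcover_image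
    (b := {x | w x = n}) (c := fun x => WithTopology.ofTopology ⁻¹' T x)
    (fun x _ => hopen x) (by
      intro z hz
      exact Set.mem_biUnion (show WithTopology.ofTopology z ∈ {x | w x = n} from hz) (hxT _))
  have : {x | w x = n} = ⋃ x ∈ b', T x := by
    apply Set.Subset.antisymm
    · intro x hx
      have hx' := hcov (show WithTopology.toTopology _ x ∈
        (WithTopology.ofTopology ⁻¹' {x | w x = n} : Set (WithConstructibleTopology X)) from hx)
      obtain ⟨i, hi, hxi⟩ := Set.mem_iUnion₂.mp hx'
      exact Set.mem_iUnion₂.mpr ⟨i, hi, hxi⟩
    · intro x hx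
      obtain ⟨y, hy, hxy⟩ := Set.mem_iUnion₂.mp hx
      show w x = n
      rw [hTw y x hxy]
      exact hb' hy
  rw [this]
  exact IsConstructible.biUnion hfin fun x _ => hT x

theorem finite_range : (Set.range w).Finite := by
  have hlev := isOpen_levelSet w h
  obtain ⟨t, ht⟩ := (isCompact_univ (X := WithConstructibleTopology X)).elim_finite_subcover
    (fun m : ι => (WithTopology.ofTopology ⁻¹' {x | w x = m} :
      Set (WithConstructibleTopology X))) hlev (by
      intro z _
      exact Set.mem_iUnion.mpr ⟨w (WithTopology.ofTopology z), rfl⟩)
  refine t.finite_toSet.subset ?_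
  rintro _ ⟨x, rfl⟩
  have hx := ht (Set.mem_univ (WithTopology.toTopology _ x))
  obtain ⟨m, hm, hxm⟩ := Set.mem_iUnion₂.mp hx
  have : w x = m := hxm
  rw [this]
  exact hm

end Groth.Agent.Lib.Helper8.WeightConstrTop
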