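import Mathlib
import Groth.Prelude.Def_MoreMor
import Groth.Agent.Lib.Helper8.FibIntW
import Groth.Agent.Lib.Helper8.EtLocPI2
import Groth.Agent.Lib.Helper8.WeightConstrTop

/-!
# Level sets of the fibre integral of a weighting are locally constructible
-/

set_option autoImplicit false
universe u
open AlgebraicGeometry CategoryTheory Limits Topology

namespace Groth.Agent.Lib.Helper8.FibIntConstr

open Groth.Agent.Lib.Helper8.FibInt Groth.Agent.Lib.Helper8.FibIntGP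
  Groth.Agent.Lib.Helper8.FibIntW Groth.Agent.Lib.Helper8.WeightConstrTop

/-- Constructibly locally constant functions. -/
def CLC {Y : Type*} [TopologicalSpace Y] (F : Y → ℤ) : Prop :=
  ∀ y, ∃ T : Set Y, IsConstructible T ∧ y ∈ T ∧ ∀ y' ∈ T, F y' = F y

section CLC

variable {Y : Type*} [TopologicalSpace Y] {F G : Y → ℤ}

lemma CLC.add (hF : CLC F) (hG : CLC G) : CLC (fun y => F y + G y) := by
  intro y
  obtain ⟨T, hT, hy, hTF⟩ := hF y
  obtain ⟨T', hT', hy', hTG⟩ := hG y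
  exact ⟨T ∩ T', hT.inter hT', ⟨hy, hy'⟩, fun z hz => by
    show F z + G z = F y + G y
    rw [hTF z hz.1, hTG z hz.2]⟩

lemma CLC.sub (hF : CLC F) (hG : CLC G) : CLC (fun y => F y - G y) := by
  intro y
  obtain ⟨T, hT, hy, hTF⟩ := hF y
  obtain ⟨T', hT', hy', hTG⟩ := hG y
  exact ⟨T ∩ T', hT.inter hT', ⟨hy, hy'⟩, fun z hz => by
    show F z - G z = F y - G y
    rw [hTF z hz.1, hTG z hz.2]⟩

lemma CLC.congr (h : ∀ y, F y = G y) (hF : CLC F) : CLC G := by
  have : F = G := funext h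
  rwa [← this]

lemma CLC.const (c : ℤ) : CLC (fun _ : Y => c) :=
  fun _ => ⟨Set.univ, IsConstructible.univ, trivial, fun _ _ => rfl⟩

end CLC

/-- The separated case. -/
theorem clc_of_separated {X Y : Scheme.{u}} [IsAffine Y] (f : X ⟶ Y) [LocallyQuasiFinite f]
    [LocallyOfFinitePresentation f] [QuasiCompact f] [IsSeparated f] (w : X → ℤ)
    (hw : MoreMor.IsWeighting f w) : CLC (MoreMor.fibreIntegral f w) := by
  classical
  intro y₀
  have hF₀ : (f ⁻¹' {y₀}).Finite := f.finite_preimage_singleton y₀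
  haveI : Finite ↥(f ⁻¹' {y₀}) := hF₀.to_subtype
  obtain ⟨E, g, e₀, hg, hge₀, n, V, v, hVclopen, hVdisj, hV, hVcov⟩ :=
    EtLocPI2.exists_etale_nbhd_split_pi_clopen f y₀ (fun i : ↥(f ⁻¹' {y₀}) => i.1)
      Subtype.val_injective (fun i => i.2) (fun i => f.quasiFiniteAt i.1)
  haveI := hg
  let B : (Σ i : ↥(f ⁻¹' {y₀}), Fin (n i)) → (pullback f g).Opens := fun k => V k.1 k.2
  have hBfin : ∀ k, IsFinite ((B k).ι ≫ pullback.snd f g) := fun k => (hV k.1 k.2).2.1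
  have hBlc : ∀ k, IsLocallyConstant (IA f g w (B k)) := fun k => hw E g (B k) (hBfin k)
  let W : Set ↥(pullback f g) := (⋃ k, ((B k : (pullback f g).Opens) : Set ↥(pullback f g)))ᶜ
  have hWclopen : IsClopen W :=
    (isClopen_iUnion_of_finite (s := fun k : (Σ i : ↥(f ⁻¹' {y₀}), Fin (n i)) =>
      ((B k : (pullback f g).Opens) : Set ↥(pullback f g))) fun k => hVclopen k.1 k.2).compl
  have he₀W : ∀ t ∈ W, pullback.snd f g t ≠ e₀ := by
    intro t ht hte
    have hft : f (pullback.fst f g t) = y₀ := by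
      rw [← hge₀, ← hte, ← Scheme.Hom.comp_apply, ← Scheme.Hom.comp_apply, pullback.condition]
    obtain ⟨j, hj⟩ := hVcov t ⟨pullback.fst f g t, hft⟩ hte rfl
    exact ht (Set.mem_iUnion.mpr ⟨⟨_, j⟩, hj⟩)
  have hdecomp : ∀ v : E, (∀ t ∈ W, pullback.snd f g t ≠ v) →
      MoreMor.fibreIntegral (pullback.snd f g) (fun t => w (pullback.fst f g t)) v =
        ∑ᶠ k, IA f g w (B k) v := by
    intro v hv
    have h1 := IA_eq_sum f g w ⊤ B hBfin v (fun t ht => ⟨⟨fun _ => by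
      by_contra hcon
      exact hv t (fun hmem => by
        obtain ⟨k, hk⟩ := Set.mem_iUnion.mp hmem
        exact hcon ⟨k, hk⟩) ht, fun _ => trivial⟩,
      fun k k' hk hk' => hVdisj k k' ⟨t, hk, hk'⟩⟩)
    rw [← h1, IA_eq_points]
    have hS : {t : ↥(pullback f g) | pullback.snd f g t = v ∧
        t ∈ (⊤ : (pullback f g).Opens)} = {t | pullback.snd f g t = v} := by
      ext t
      simp
    rw [hS, fibreIntegral_eq']
    exact finsum_set_coe_eq_finsum_mem (s := {t : ↥(pullback f g) | pullback.snd f g t = v})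
      (f := fun t => w (pullback.fst f g t) * (sepDeg (pullback.snd f g) t : ℤ))
  have hN : IsOpen (⋂ k, {v : E | IA f g w (B k) v = IA f g w (B k) e₀}) :=
    isOpen_iInter_of_finite fun k => (hBlc k).isOpen_fiber _
  obtain ⟨E₁, hE₁, he₁, hE₁N⟩ : ∃ E₁ : E.Opens, IsAffineOpen E₁ ∧ e₀ ∈ E₁ ∧
      E₁ ≤ (⟨_, hN⟩ : E.Opens) := TopologicalSpace.Opens.isBasis_iff_nbhd.mp
    E.isBasis_affineOpens (U := ⟨_, hN⟩) (x := e₀) (Set.mem_iInter.mpr fun k => rfl)
  haveI : IsAffine (E₁ : Scheme.{u}) := hE₁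
  have hpb : IsPullback (pullback.snd f g ⁻¹ᵁ E₁).ι (pullback.snd f g ∣_ E₁) (pullback.snd f g)
      E₁.ι := (isPullback_morphismRestrict _ E₁).flip
  haveI : QuasiCompact (pullback.snd f g ∣_ E₁) :=
    MorphismProperty.of_isPullback (P := @QuasiCompact) hpb inferInstance
  haveI : QuasiSeparated (pullback.snd f g ∣_ E₁) :=
    MorphismProperty.of_isPullback (P := @QuasiSeparated) hpb inferInstance
  haveI : LocallyOfFinitePresentation (pullback.snd f g ∣_ E₁) :=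
    MorphismProperty.of_isPullback (P := @LocallyOfFinitePresentation) hpb inferInstance
  haveI : CompactSpace ↥((pullback.snd f g ⁻¹ᵁ E₁ : (pullback f g).Opens) : Scheme.{u}) :=
    HasAffineProperty.iff_of_isAffine.mp ‹QuasiCompact (pullback.snd f g ∣_ E₁)›
  haveI : QuasiSeparatedSpace
      ↥((pullback.snd f g ⁻¹ᵁ E₁ : (pullback f g).Opens) : Scheme.{u}) :=
    HasAffineProperty.iff_of_isAffine.mp ‹QuasiSeparated (pullback.snd f g ∣_ E₁)›
  have hW₁ : IsConstructible ((pullback.snd f g ⁻¹ᵁ E₁).ι ⁻¹' W) := by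
    have hcl : IsClopen ((pullback.snd f g ⁻¹ᵁ E₁).ι ⁻¹' W) :=
      hWclopen.preimage (pullback.snd f g ⁻¹ᵁ E₁).ι.continuous
    exact hcl.isClosed.isCompact.isConstructible hcl.isOpen
  have hT' : IsConstructible ((pullback.snd f g ∣_ E₁) '' ((pullback.snd f g ⁻¹ᵁ E₁).ι ⁻¹' W))ᶜ :=
    ((pullback.snd f g ∣_ E₁).isConstructible_image hW₁).compl
  haveI : QuasiCompact (E₁.ι ≫ g) := HasAffineProperty.iff_of_isAffine.mpr
    (inferInstanceAs (CompactSpace ↥(E₁ : Scheme.{u})))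
  have hι : ∀ t₁ : ↥((pullback.snd f g ⁻¹ᵁ E₁ : (pullback f g).Opens) : Scheme.{u}),
      E₁.ι ((pullback.snd f g ∣_ E₁) t₁) =
        pullback.snd f g ((pullback.snd f g ⁻¹ᵁ E₁).ι t₁) := by
    intro t₁
    rw [← Scheme.Hom.comp_apply, ← Scheme.Hom.comp_apply, morphismRestrict_ι]
  have hbc : ∀ v : E, MoreMor.fibreIntegral (pullback.snd f g)
      (fun t => w (pullback.fst f g t)) v = MoreMor.fibreIntegral f w (g v) :=
    fun v => (fibreIntegral_baseChange f (pullback.snd f g) (pullback.fst f g) g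
      (IsPullback.of_hasPullback f g) w v (f.finite_preimage_singleton _)).1
  refine ⟨(E₁.ι ≫ g) '' ((pullback.snd f g ∣_ E₁) '' ((pullback.snd f g ⁻¹ᵁ E₁).ι ⁻¹' W))ᶜ,
    (E₁.ι ≫ g).isConstructible_image hT', ?_, ?_⟩
  · refine ⟨⟨e₀, he₁⟩, ?_, hge₀⟩
    rintro ⟨t₁, ht₁W, ht₁⟩
    have h2 : pullback.snd f g ((pullback.snd f g ⁻¹ᵁ E₁).ι t₁) = e₀ := by
      rw [← hι, ht₁]
      rfl
    exact he₀W _ ht₁W h2
  · rintro _ ⟨v₁, hv₁, rfl⟩
    have hvW : ∀ t ∈ W, pullback.snd f g t ≠ E₁.ι v₁ := by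
      intro t ht htv
      apply hv₁
      have htE : t ∈ pullback.snd f g ⁻¹ᵁ E₁ := by
        show pullback.snd f g t ∈ E₁
        rw [htv]
        exact v₁.2
      refine ⟨⟨t, htE⟩, ht, ?_⟩
      apply Subtype.ext
      exact (hι ⟨t, htE⟩).trans htv
    show MoreMor.fibreIntegral f w (g (E₁.ι v₁)) = MoreMor.fibreIntegral f w y₀
    rw [← hge₀, ← hbc e₀, ← hbc (E₁.ι v₁), hdecomp _ hvW, hdecomp _ he₀W]
    refine finsum_congr fun k => ?_
    exact Set.mem_iInter.mp (hE₁N v₁.2) k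

/-- The fibre integral over an open `O`, as a sum over points. -/
noncomputable def G {X Y : Scheme.{u}} (f : X ⟶ Y) (w : X → ℤ) (O : X.Opens) (y : Y) : ℤ :=
  ∑ᶠ t ∈ {t : X | f t = y ∧ t ∈ O}, w t * (sepDeg f t : ℤ)

theorem clc_open_of_le_affine {X Y : Scheme.{u}} [IsAffine Y] (f : X ⟶ Y) [LocallyQuasiFinite f]
    [LocallyOfFinitePresentation f] (w : X → ℤ) (hw : MoreMor.IsWeighting f w) (O U : X.Opens)
    (hU : IsAffineOpen U) (hOU : O ≤ U) (hO : IsCompact (O : Set X)) : CLC (G f w O) := by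
  haveI : IsAffine (U : Scheme.{u}) := hU
  haveI : CompactSpace ↥(O : Scheme.{u}) := isCompact_iff_compactSpace.mp hO
  haveI : QuasiCompact (O.ι ≫ f) := HasAffineProperty.iff_of_isAffine.mpr
    (inferInstanceAs (CompactSpace ↥(O : Scheme.{u})))
  haveI : IsSeparated (O.ι ≫ f) := by
    have e : O.ι ≫ f = X.homOfLE hOU ≫ (U.ι ≫ f) := by
      rw [← Category.assoc, Scheme.homOfLE_ι]
    rw [e]
    infer_instance
  have h := clc_of_separated (O.ι ≫ f) (fun x => w (O.ι x)) (isWeighting_restrict_open f w hw O)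
  exact CLC.congr (fun y => fibreIntegral_open f O w y) h

theorem clc_sup {X Y : Scheme.{u}} [IsAffine Y] (f : X ⟶ Y) [LocallyQuasiFinite f]
    [LocallyOfFinitePresentation f] [QuasiCompact f] [QuasiSeparatedSpace X] (w : X → ℤ)
    (hw : MoreMor.IsWeighting f w) (U : X → X.Opens) (hU : ∀ x, IsAffineOpen (U x))
    (t : Finset X) :
    IsCompact ((t.sup U : X.Opens) : Set X) ∧ CLC (G f w (t.sup U)) := by
  classical
  induction t using Finset.induction_on with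
  | empty =>
    rw [Finset.sup_empty]
    refine ⟨by simp, CLC.congr (fun y => ?_) (CLC.const 0)⟩
    show (0 : ℤ) = ∑ᶠ t ∈ {t : X | f t = y ∧ t ∈ (⊥ : X.Opens)}, w t * (sepDeg f t : ℤ)
    have hE : {t : X | f t = y ∧ t ∈ (⊥ : X.Opens)} = ∅ := by
      ext t
      simp
    rw [hE, finsum_mem_empty]
  | insert a s ha ih =>
    rw [Finset.sup_insert]
    obtain ⟨hc, hclc⟩ := ih
    have hcU : IsCompact ((U a : X.Opens) : Set X) := (hU a).isCompact
    have hcI : IsCompact ((U a ⊓ s.sup U : X.Opens) : Set X) :=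
      QuasiSeparatedSpace.inter_isCompact _ _ (U a).2 hcU (s.sup U).2 hc
    refine ⟨by rw [TopologicalSpace.Opens.coe_sup]; exact hcU.union hc, ?_⟩
    have h1 := clc_open_of_le_affine f w hw (U a) (U a) (hU a) le_rfl hcU
    have h2 := clc_open_of_le_affine f w hw (U a ⊓ s.sup U) (U a) (hU a) inf_le_left hcI
    refine CLC.congr (fun y => ?_) ((h1.add hclc).sub h2)
    have hfin : ∀ O : X.Opens, {t : X | f t = y ∧ t ∈ O}.Finite := fun O =>
      (f.finite_preimage_singleton y).subset (fun t ht => ht.1)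
    have hun : {t : X | f t = y ∧ t ∈ U a ⊔ s.sup U} =
        {t | f t = y ∧ t ∈ U a} ∪ {t | f t = y ∧ t ∈ s.sup U} := by
      ext t
      simp only [Set.mem_setOf_eq, Set.mem_union, TopologicalSpace.Opens.mem_sup]
      tauto
    have hin : {t : X | f t = y ∧ t ∈ U a ⊓ s.sup U} =
        {t | f t = y ∧ t ∈ U a} ∩ {t | f t = y ∧ t ∈ s.sup U} := by
      ext t
      simp only [Set.mem_setOf_eq, Set.mem_inter_iff, TopologicalSpace.Opens.mem_inf]
      tauto
    have key := finsum_mem_union_inter (f := fun t => w t * (sepDeg f t : ℤ))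
      (hfin (U a)) (hfin (s.sup U))
    show G f w (U a) y + G f w (s.sup U) y - G f w (U a ⊓ s.sup U) y = G f w (U a ⊔ s.sup U) y
    unfold G
    rw [hun, hin]
    linarith

theorem clc_fibreIntegral {X Y : Scheme.{u}} [IsAffine Y] (f : X ⟶ Y) [LocallyQuasiFinite f]
    [LocallyOfFinitePresentation f] [QuasiCompact f] [QuasiSeparated f] (w : X → ℤ)
    (hw : MoreMor.IsWeighting f w) : CLC (MoreMor.fibreIntegral f w) := by
  haveI : CompactSpace X := HasAffineProperty.iff_of_isAffine.mp ‹QuasiCompact f›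
  haveI : QuasiSeparatedSpace X := HasAffineProperty.iff_of_isAffine.mp ‹QuasiSeparated f›
  have hloc : ∀ x : X, ∃ U : X.Opens, IsAffineOpen U ∧ x ∈ U := by
    intro x
    obtain ⟨U, hU, hxU, -⟩ : ∃ U : X.Opens, IsAffineOpen U ∧ x ∈ U ∧ U ≤ (⊤ : X.Opens) :=
      TopologicalSpace.Opens.isBasis_iff_nbhd.mp X.isBasis_affineOpens (U := ⊤) (x := x) trivial
    exact ⟨U, hU, hxU⟩
  choose U hU hxU using hloc
  obtain ⟨t, ht⟩ := CompactSpace.elim_nhds_subcover (fun x => (U x : Set X))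
    (fun x => (U x).2.mem_nhds (hxU x))
  have htop : t.sup U = ⊤ := by
    refine eq_top_iff.mpr (fun x _ => ?_)
    have hx : x ∈ ⋃ y ∈ t, (U y : Set X) := by rw [ht]; trivial
    obtain ⟨y, hy, hxy⟩ := Set.mem_iUnion₂.mp hx
    exact Finset.le_sup (f := U) hy hxy
  have h := (clc_sup f w hw U hU t).2
  rw [htop] at h
  refine CLC.congr (fun y => ?_) h
  have hS : {t : X | f t = y ∧ t ∈ (⊤ : X.Opens)} = {t | f t = y} := by
    ext t
    simp
  show ∑ᶠ t ∈ {t : X | f t = y ∧ t ∈ (⊤ : X.Opens)}, w t * (sepDeg f t : ℤ) = _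
  rw [hS, fibreIntegral_eq']
  exact (finsum_set_coe_eq_finsum_mem (s := {t : X | f t = y})
    (f := fun t => w t * (sepDeg f t : ℤ))).symm

theorem isLocallyConstructible_fibreIntegral_levelSet {X Y : Scheme.{u}} (f : X ⟶ Y)
    [LocallyQuasiFinite f] [LocallyOfFinitePresentation f] [QuasiCompact f] [QuasiSeparated f]
    (w : X → ℤ) (hw : MoreMor.IsWeighting f w) (n : ℤ) :
    IsLocallyConstructible {y : Y | MoreMor.fibreIntegral f w y = n} := by
  intro y
  obtain ⟨Y₀, hY₀, hyY₀, -⟩ : ∃ Y₀ : Y.Opens, IsAffineOpen Y₀ ∧ y ∈ Y₀ ∧ Y₀ ≤ (⊤ : Y.Opens) :=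
    TopologicalSpace.Opens.isBasis_iff_nbhd.mp Y.isBasis_affineOpens (U := ⊤) (x := y) trivial
  haveI : IsAffine (Y₀ : Scheme.{u}) := hY₀
  refine ⟨Y₀, Y₀.2.mem_nhds hyY₀, Y₀.2, ?_⟩
  have hpb : IsPullback (f ⁻¹ᵁ Y₀).ι (f ∣_ Y₀) f Y₀.ι := (isPullback_morphismRestrict f Y₀).flip
  haveI : LocallyQuasiFinite (f ∣_ Y₀) :=
    MorphismProperty.of_isPullback (P := @LocallyQuasiFinite) hpb inferInstance
  haveI : LocallyOfFinitePresentation (f ∣_ Y₀) :=
    MorphismProperty.of_isPullback (P := @LocallyOfFinitePresentation) hpb inferInstance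
  haveI : QuasiCompact (f ∣_ Y₀) :=
    MorphismProperty.of_isPullback (P := @QuasiCompact) hpb inferInstance
  haveI : QuasiSeparated (f ∣_ Y₀) :=
    MorphismProperty.of_isPullback (P := @QuasiSeparated) hpb inferInstance
  have hw₀ : MoreMor.IsWeighting (f ∣_ Y₀) (w ∘ ⇑(f ⁻¹ᵁ Y₀).ι) :=
    isWeighting_baseChange f w hw (f ∣_ Y₀) (f ⁻¹ᵁ Y₀).ι Y₀.ι hpb
  have hclc := clc_fibreIntegral (f ∣_ Y₀) _ hw₀
  have hcon := isConstructible_levelSet
    (MoreMor.fibreIntegral (f ∣_ Y₀) (w ∘ ⇑(f ⁻¹ᵁ Y₀).ι)) hclc n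
  have heq : ∀ y' : ↥(Y₀ : Scheme.{u}),
      MoreMor.fibreIntegral (f ∣_ Y₀) (w ∘ ⇑(f ⁻¹ᵁ Y₀).ι) y' =
        MoreMor.fibreIntegral f w (Y₀.ι y') :=
    fun y' => (fibreIntegral_baseChange f (f ∣_ Y₀) (f ⁻¹ᵁ Y₀).ι Y₀.ι hpb w y'
      (f.finite_preimage_singleton _)).1
  have hset : {y' : ↥(Y₀ : Scheme.{u}) | MoreMor.fibreIntegral f w (Y₀.ι y') = n} =
      {y' | MoreMor.fibreIntegral (f ∣_ Y₀) (w ∘ ⇑(f ⁻¹ᵁ Y₀).ι) y' = n} := by
    ext y'
    show _ = n ↔ _ = n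
    rw [heq]
  show IsConstructible {y' : ↥(Y₀ : Scheme.{u}) | MoreMor.fibreIntegral f w (Y₀.ι y') = n}
  rw [hset]
  exact hcon

end Groth.Agent.Lib.Helper8.FibIntConstr
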