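import Mathlib
import Groth.Prelude.Def_MoreMor
import Groth.Prelude.Def_EGA43
import Groth.Prelude.Def_CAlg2
import Groth.Agent.Lib.Helper8.FibIntN2
import Groth.Agent.Lib.Helper8.EtaleUnibranchSch

set_option autoImplicit false
universe u
open AlgebraicGeometry CategoryTheory Limits

namespace Groth.Agent.Lib.Helper8.FibIntN3

open Groth.Agent.Lib.Helper8.FibInt Groth.Agent.Lib.Helper8.FibIntGP
  Groth.Agent.Lib.Helper8.FibIntW Groth.Agent.Lib.Helper8.FibIntS Groth.Agent.Lib.Helper8.FibIntS2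
  Groth.Agent.Lib.Helper8.FibIntN
  Groth.Agent.Lib.Helper8.EtLocUnr Groth.Agent.Lib.Helper8.EtLocPI

lemma exists_generic_generization {E : Scheme.{u}} (e₀ : E)
    (h : IsDomain (CAlg2.red (E.presheaf.stalk e₀))) :
    ∃ η : E, η ⤳ e₀ ∧ ∀ z : E, z ⤳ e₀ → η ⤳ z := by
  have hprime : (nilradical (E.presheaf.stalk e₀)).IsPrime :=
    (Ideal.Quotient.isDomain_iff_prime _).mp h
  have hrange := Scheme.range_fromSpecStalk (X := E) (x := e₀)
  refine ⟨(E.fromSpecStalk e₀) ⟨nilradical (E.presheaf.stalk e₀), hprime⟩, ?_, ?_⟩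
  · have : (E.fromSpecStalk e₀) ⟨nilradical (E.presheaf.stalk e₀), hprime⟩ ∈
        Set.range (E.fromSpecStalk e₀) := ⟨_, rfl⟩
    rw [hrange] at this
    exact this
  · intro z hz
    have hz' : z ∈ Set.range (E.fromSpecStalk e₀) := by rw [hrange]; exact hz
    obtain ⟨q, rfl⟩ := hz'
    have hle : (⟨nilradical (E.presheaf.stalk e₀), hprime⟩ :
        PrimeSpectrum (E.presheaf.stalk e₀)) ≤ q := by
      show nilradical (E.presheaf.stalk e₀) ≤ q.asIdeal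
      exact nilradical_le_prime q.asIdeal
    exact ((PrimeSpectrum.le_iff_specializes _ _).mp hle).map (E.fromSpecStalk e₀).continuous

section Pieces

variable {X Y : Scheme.{u}} (f : X ⟶ Y) [LocallyQuasiFinite f] [LocallyOfFiniteType f]
  [IsSeparated f]

theorem exists_etale_nbhd_pieces (hfin : ∀ y : Y, (f ⁻¹' {y}).Finite) (y : Y)
    (hopen : ∀ x, f x = y → EGA43.IsUnivOpenAt f x) :
    ∃ (E : Scheme.{u}) (e : E ⟶ Y) (e₀ : E) (N : E.Opens), Etale e ∧ e e₀ = y ∧ e₀ ∈ N ∧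
      ∃ (K : Type u) (_ : Finite K) (B : K → (pullback f e).Opens) (pts : K → ↥(pullback f e)),
        (∀ k, IsFinite ((B k).ι ≫ pullback.snd f e)) ∧
        (∀ k k' t, t ∈ B k → t ∈ B k' → k = k') ∧
        (∀ k, pts k ∈ B k ∧ pullback.snd f e (pts k) = e₀) ∧
        (∀ x, f x = y → ∃ k, pullback.fst f e (pts k) = x) ∧
        (∀ e' ∈ N, ∀ k, (1 : ℤ) ≤ IA f e (fun _ => 1) (B k) e') ∧
        MoreMor.fibreIntegral f (fun _ => 1) y = ∑ᶠ _k : K, (1 : ℤ) := by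
  haveI : Finite ↥(f ⁻¹' {y}) := (hfin y).to_subtype
  obtain ⟨E, e, e₀, he, hee₀, n, VV, vv, -, hdisj, hV, hexh⟩ :=
    EtLocPI2.exists_etale_nbhd_split_pi_clopen f y (fun i : ↥(f ⁻¹' {y}) => i.1)
      Subtype.val_injective (fun i => i.2) (fun i => f.quasiFiniteAt i.1)
  haveI := he
  have hBfin : ∀ k : Σ i, Fin (n i), IsFinite ((VV k.1 k.2).ι ≫ pullback.snd f e) :=
    fun k => (hV k.1 k.2).2.1
  have hdisj' : ∀ (k k' : Σ i, Fin (n i)) (t : ↥(pullback f e)),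
      t ∈ VV k.1 k.2 → t ∈ VV k'.1 k'.2 → k = k' := fun k k' t hk hk' => hdisj k k' ⟨t, hk, hk'⟩
  have hnb : ∀ k : Σ i, Fin (n i), ∃ Nk : Set E, IsOpen Nk ∧ e₀ ∈ Nk ∧ ∀ e' ∈ Nk,
      (1 : ℤ) ≤ IA f e (fun _ => 1) (VV k.1 k.2) e' := by
    intro k
    have h1 := hopen k.1.1 k.1.2 E e (vv k.1 k.2) (hV k.1 k.2).2.2.2.2.2
    have h2 : (pullback.snd f e).base ''
        ((VV k.1 k.2 : (pullback f e).Opens) : Set ↥(pullback f e)) ∈
        nhds ((pullback.snd f e).base (vv k.1 k.2)) :=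
      h1 _ ((VV k.1 k.2).2.mem_nhds (hV k.1 k.2).1)
    have h3 : (pullback.snd f e).base (vv k.1 k.2) = e₀ := (hV k.1 k.2).2.2.1
    rw [h3] at h2
    obtain ⟨Nk, hNk, hNko, he₀⟩ := mem_nhds_iff.mp h2
    refine ⟨Nk, hNko, he₀, ?_⟩
    intro e' he'
    obtain ⟨t, ht, hte'⟩ := hNk he'
    haveI := hBfin k
    have h4 := term_le_fibreIntegral ((VV k.1 k.2).ι ≫ pullback.snd f e)
      (fun u => (fun _ => (1 : ℤ)) (pullback.fst f e ((VV k.1 k.2).ι u))) e'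
      (((VV k.1 k.2).ι ≫ pullback.snd f e).finite_preimage_singleton e')
      (fun _ _ => zero_le_one) ⟨t, ht⟩ hte'
    have h5 : (1 : ℤ) ≤ (sepDeg ((VV k.1 k.2).ι ≫ pullback.snd f e) ⟨t, ht⟩ : ℤ) := by
      exact_mod_cast sepDeg_pos' ((VV k.1 k.2).ι ≫ pullback.snd f e) ⟨t, ht⟩
    calc (1 : ℤ) ≤ 1 * (sepDeg ((VV k.1 k.2).ι ≫ pullback.snd f e) ⟨t, ht⟩ : ℤ) := by
          rw [one_mul]; exact h5
      _ ≤ _ := h4
  choose Nk hNko hNkv hNkc using hnb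
  have hbc := fibreIntegral_baseChange f (pullback.snd f e) (pullback.fst f e) e
    (IsPullback.of_hasPullback f e) (fun _ => 1) e₀ (hfin _)
  have hcov : ∀ t : ↥(pullback f e), pullback.snd f e t = e₀ →
      ∃ k : Σ i, Fin (n i), t ∈ VV k.1 k.2 := by
    intro t ht
    have hft : f (pullback.fst f e t) = y := by
      rw [← Scheme.Hom.comp_apply, pullback.condition, Scheme.Hom.comp_apply, ht, hee₀]
    obtain ⟨j, hj⟩ := hexh t ⟨pullback.fst f e t, hft⟩ ht rfl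
    exact ⟨⟨_, j⟩, hj⟩
  have hy : MoreMor.fibreIntegral f (fun _ => 1) y =
      MoreMor.fibreIntegral f (fun _ => 1) (e e₀) := by rw [hee₀]
  have hval : ∑ᶠ k : Σ i, Fin (n i), IA f e (fun _ => 1) (VV k.1 k.2) e₀ =
      MoreMor.fibreIntegral f (fun _ => 1) y := by
    rw [hy, ← hbc.1]
    exact sum_eq_fibreIntegral_of_cover (pullback.snd f e)
      (fun t => (fun _ => (1 : ℤ)) (pullback.fst f e t))
      (fun k : Σ i, Fin (n i) => VV k.1 k.2) hBfin hdisj' e₀ hcov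
  have hone : ∀ k : Σ i, Fin (n i), IA f e (fun _ => 1) (VV k.1 k.2) e₀ = 1 := fun k =>
    IA_single f e (fun _ => 1) (VV k.1 k.2) e₀ (vv k.1 k.2) (hV k.1 k.2).1 (hV k.1 k.2).2.2.1
      (hV k.1 k.2).2.2.2.1 (hV k.1 k.2).2.2.2.2.1
  refine ⟨E, e, e₀, ⟨⋂ k, Nk k, isOpen_iInter_of_finite hNko⟩, he, hee₀,
    Set.mem_iInter.mpr hNkv, (Σ i : ↥(f ⁻¹' {y}), Fin (n i)), inferInstance,
    fun k => VV k.1 k.2, fun k => vv k.1 k.2, hBfin, hdisj',
    fun k => ⟨(hV k.1 k.2).1, (hV k.1 k.2).2.2.1⟩, ?_, ?_, ?_⟩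
  · intro x hx
    obtain ⟨t, ht1, ht2⟩ := Scheme.Pullback.exists_preimage_pullback (f := f) (g := e) x e₀
      (by rw [hx, hee₀])
    obtain ⟨j, -⟩ := hexh t ⟨x, hx⟩ ht2 ht1
    exact ⟨⟨⟨x, hx⟩, j⟩, (hV ⟨x, hx⟩ j).2.2.2.2.2⟩
  · intro e' he' k
    exact hNkc k e' (Set.mem_iInter.mp he' k)
  · rw [← hval]
    exact finsum_congr hone

end Pieces

section Disjoint

variable {X Y : Scheme.{u}} (f : X ⟶ Y) [LocallyQuasiFinite f] [LocallyOfFiniteType f]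
  [IsSeparated f]

theorem disjoint_irreducibleComponents_of_const (hfin : ∀ y : Y, (f ⁻¹' {y}).Finite)
    (hopen : ∀ x, EGA43.IsUnivOpenAt f x)
    (hY : ∀ y : Y, CAlg2.IsGeomUnibranch (Y.presheaf.stalk y))
    (hconst : ∀ y : Y, ∃ V₀ : Set Y, IsOpen V₀ ∧ y ∈ V₀ ∧ ∀ z ∈ V₀,
      MoreMor.fibreIntegral f (fun _ => 1) z = MoreMor.fibreIntegral f (fun _ => 1) y) :
    ∀ Z ∈ irreducibleComponents (X : Type u), ∀ Z' ∈ irreducibleComponents (X : Type u),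
      Z ≠ Z' → Disjoint Z Z' := by
  intro Z hZ Z' hZ' hne
  by_contra hnd
  obtain ⟨x, hxZ, hxZ'⟩ := Set.not_disjoint_iff.mp hnd
  obtain ⟨ξ, hξ⟩ := QuasiSober.sober hZ.1 (isClosed_of_mem_irreducibleComponents Z hZ)
  obtain ⟨ξ', hξ'⟩ := QuasiSober.sober hZ'.1 (isClosed_of_mem_irreducibleComponents Z' hZ')
  have hξx : ξ ⤳ x := by rw [specializes_iff_mem_closure, hξ.def]; exact hxZ
  have hξ'x : ξ' ⤳ x := by rw [specializes_iff_mem_closure, hξ'.def]; exact hxZ'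
  have hmax : ∀ (W : Set X) (hW : W ∈ irreducibleComponents (X : Type u)) (ζ : X),
      IsGenericPoint ζ W → ∀ z : X, z ⤳ ζ → z = ζ := by
    intro W hW ζ hζ z hz
    have h1 : W ⊆ closure {z} := by
      rw [← hζ.def]; exact specializes_iff_closure_subset.mp hz
    have h2 : closure {z} ⊆ W := hW.2 isIrreducible_singleton.closure h1
    have h3 : ζ ⤳ z := by
      rw [specializes_iff_mem_closure, hζ.def]; exact h2 (subset_closure rfl)
    exact (hz.antisymm h3).eq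
  obtain ⟨V₀, hV₀o, hyV₀, hV₀c⟩ := hconst (f x)
  obtain ⟨E, e, e₀, N, he, hee₀, he₀N, K, hK, B, pts, hBfin, hdisj, hpts, hxk, hge1, hcard⟩ :=
    exists_etale_nbhd_pieces f hfin (f x) (fun x' _ => hopen x')
  haveI := he
  haveI := hK
  obtain ⟨k₀, hk₀⟩ := hxk x rfl
  have hone : ∀ e' ∈ N, e e' ∈ V₀ → ∀ k, IA f e (fun _ => 1) (B k) e' = 1 := by
    intro e' he'N he'V k
    have h1 := (sum_le_of_mem f hfin (fun _ => 1) (fun _ => one_pos) e B hBfin hdisj e').1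
    rw [hV₀c _ he'V, hcard] at h1
    haveI := Fintype.ofFinite K
    rw [finsum_eq_sum_of_fintype, finsum_eq_sum_of_fintype] at h1
    have h2 : ∑ k : K, (1 : ℤ) = ∑ k : K, IA f e (fun _ => 1) (B k) e' :=
      le_antisymm (Finset.sum_le_sum fun k _ => hge1 e' he'N k) h1
    exact ((Finset.sum_eq_sum_iff_of_le (fun k _ => hge1 e' he'N k)).mp h2 k
      (Finset.mem_univ k)).symm
  have huniq : ∀ e' ∈ N, e e' ∈ V₀ → ∀ t t' : ↥(pullback f e), t ∈ B k₀ →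
      pullback.snd f e t = e' → t' ∈ B k₀ → pullback.snd f e t' = e' → t = t' := by
    intro e' he'N he'V t t' ht hts ht' hts'
    have h1 := hone e' he'N he'V k₀
    rw [IA_eq_points] at h1
    exact eq_of_sum_sepDeg_eq_one (pullback.snd f e) (B k₀) (hBfin k₀) e' h1 t t' hts ht hts' ht'
  have hex : ∀ e' ∈ N, ∃ t, t ∈ B k₀ ∧ pullback.snd f e t = e' := by
    intro e' he'
    have h1 := hge1 e' he' k₀
    have h2 : IA f e (fun _ => 1) (B k₀) e' ≠ 0 := by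
      intro h0; rw [h0] at h1; exact absurd h1 (by norm_num)
    obtain ⟨u, hu⟩ := exists_of_fibreIntegral_ne_zero _ _ _ h2
    exact ⟨u.1, u.2, hu⟩
  have hgu := (Groth.Agent.Lib.Helper8.EtaleUnibranchSch.stalk_isGeomUnibranch_of_etale_nhd e e₀
    (hY (e.base e₀)) ⟨⊤, trivial, inferInstance⟩).1
  obtain ⟨η, hηe₀, hη⟩ := exists_generic_generization e₀ hgu.1.1
  haveI : Etale (pullback.fst f e) := MorphismProperty.pullback_fst (P := @Etale) f e he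
  have hgen : GeneralizingMap ⇑(pullback.fst f e) := Flat.generalizingMap (pullback.fst f e)
  obtain ⟨β, hβb, hβξ⟩ := hgen (show ξ ⤳ pullback.fst f e (pts k₀) by rw [hk₀]; exact hξx)
  obtain ⟨β', hβ'b, hβ'ξ⟩ := hgen (show ξ' ⤳ pullback.fst f e (pts k₀) by rw [hk₀]; exact hξ'x)
  have hβB : β ∈ B k₀ := hβb.mem_open (B k₀).2 (hpts k₀).1
  have hβ'B : β' ∈ B k₀ := hβ'b.mem_open (B k₀).2 (hpts k₀).1
  have hsβ : pullback.snd f e β ⤳ e₀ := by
    rw [← (hpts k₀).2]; exact hβb.map (pullback.snd f e).continuous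
  have hsβ' : pullback.snd f e β' ⤳ e₀ := by
    rw [← (hpts k₀).2]; exact hβ'b.map (pullback.snd f e).continuous
  have hNV : ∀ z : E, z ⤳ e₀ → z ∈ N ∧ e z ∈ V₀ := fun z hz =>
    ⟨hz.mem_open N.2 he₀N, (hz.map e.continuous).mem_open hV₀o (by rw [hee₀]; exact hyV₀)⟩
  obtain ⟨tη, htηB, htη⟩ := hex η (hNV η hηe₀).1
  have key : ∀ β₁ : ↥(pullback f e), β₁ ∈ B k₀ → pullback.snd f e β₁ ⤳ e₀ →
      pullback.fst f e tη ⤳ pullback.fst f e β₁ := by
    intro β₁ hβ₁B hβ₁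
    haveI := hBfin k₀
    have hcl : IsClosed (((B k₀).ι ≫ pullback.snd f e) ''
        closure {(⟨tη, htηB⟩ : ↥(B k₀))}) :=
      ((B k₀).ι ≫ pullback.snd f e).isClosedMap _ isClosed_closure
    have h1 : η ∈ ((B k₀).ι ≫ pullback.snd f e) '' closure {(⟨tη, htηB⟩ : ↥(B k₀))} :=
      ⟨⟨tη, htηB⟩, subset_closure rfl, htη⟩
    have h2 : pullback.snd f e β₁ ∈ closure {η} := specializes_iff_mem_closure.mp (hη _ hβ₁)
    obtain ⟨t, ht, hts⟩ := (hcl.closure_subset_iff.mpr (Set.singleton_subset_iff.mpr h1)) h2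
    have h4 : t.1 = β₁ := huniq (pullback.snd f e β₁) (hNV _ hβ₁).1 (hNV _ hβ₁).2 t.1 β₁ t.2 hts
      hβ₁B rfl
    have h4' : t = ⟨β₁, hβ₁B⟩ := Subtype.ext h4
    have h5 : (⟨tη, htηB⟩ : ↥(B k₀)) ⤳ ⟨β₁, hβ₁B⟩ := by
      rw [specializes_iff_mem_closure, ← h4']; exact ht
    exact h5.map ((B k₀).ι ≫ pullback.fst f e).continuous
  have e1 : pullback.fst f e tη = ξ :=
    hmax Z hZ ξ hξ _ (by rw [← hβξ]; exact key β hβB hsβ)
  have e2 : pullback.fst f e tη = ξ' :=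
    hmax Z' hZ' ξ' hξ' _ (by rw [← hβ'ξ]; exact key β' hβ'B hsβ')
  exact hne (by rw [← hξ.def, ← hξ'.def, ← e1, e2])

end Disjoint

end Groth.Agent.Lib.Helper8.FibIntN3
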