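import Mathlib
import Groth.Prelude.Def_MoreMor
import Groth.Prelude.Def_EGA43
import Groth.Prelude.Def_CAlg2
import Groth.Agent.Lib.Helper8.FibIntN3

set_option autoImplicit false
universe u
open AlgebraicGeometry CategoryTheory Limits

namespace Groth.Agent.Lib.Helper8.FibIntU

open Groth.Agent.Lib.Helper8.FibInt Groth.Agent.Lib.Helper8.FibIntGP
  Groth.Agent.Lib.Helper8.FibIntW Groth.Agent.Lib.Helper8.FibIntS Groth.Agent.Lib.Helper8.FibIntS2
  Groth.Agent.Lib.Helper8.FibIntN Groth.Agent.Lib.Helper8.FibIntN3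
  Groth.Agent.Lib.Helper8.EtLocUnr Groth.Agent.Lib.Helper8.EtLocPI

/-- In a fibre of a locally quasi-finite morphism there are no nontrivial specializations. -/
lemma eq_of_specializes_of_fibre {X Y : Scheme.{u}} (g : X ⟶ Y) [LocallyQuasiFinite g] {a b : X}
    (h : a ⤳ b) (hab : g a = g b) : a = b := by
  haveI : DiscreteTopology ↥(g ⁻¹' {g b}) := (g.isDiscrete_preimage_singleton (g b)).to_subtype
  have h1 : (⟨a, hab⟩ : ↥(g ⁻¹' {g b})) ⤳ ⟨b, rfl⟩ :=
    Topology.IsInducing.subtypeVal.specializes_iff.mp h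
  exact congrArg Subtype.val h1.eq

/-- A point of a finite fibre of a morphism locally of finite type is a quasi-finite point. -/
lemma quasiFiniteAt_of_finite_fibre {X Y : Scheme.{u}} (f : X ⟶ Y) [LocallyOfFiniteType f] (x : X)
    (h : (f ⁻¹' {f x}).Finite) : f.QuasiFiniteAt x := by
  haveI : Finite ↥(f ⁻¹' {f x}) := h.to_subtype
  haveI : Finite ↥(f.fiber (f x)) := Finite.of_equiv _ (f.fiberHomeo (f x)).symm.toEquiv
  haveI : LocallyOfFiniteType (f.fiberToSpecResidueField (f x)) :=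
    inferInstanceAs (LocallyOfFiniteType (pullback.snd f (Y.fromSpecResidueField (f x))))
  haveI : LocallyQuasiFinite (f.fiberToSpecResidueField (f x)) :=
    LocallyQuasiFinite.of_finite_preimage_singleton _ (fun _ => Set.toFinite _)
  haveI : IsLocallyArtinian (f.fiber (f x)) :=
    .of_locallyQuasiFinite (f.fiberToSpecResidueField (f x))
  rw [Scheme.Hom.quasiFiniteAt_iff_isOpen_singleton_asFiber]
  exact isOpen_discrete _

/-- A quasi-finite point is isolated in its fibre. -/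
lemma exists_open_isolating {X Y : Scheme.{u}} (f : X ⟶ Y) [LocallyOfFiniteType f] (x : X)
    (hx : f.QuasiFiniteAt x) : ∃ O : X.Opens, x ∈ O ∧ ∀ t ∈ O, f t = f x → t = x := by
  have h1 := Scheme.Hom.quasiFiniteAt_iff_isOpen_singleton_asFiber.mp hx
  rw [← (f.fiberHomeo (f x)).isOpen_image] at h1
  simp only [Set.image_singleton, Scheme.Hom.asFiber, Homeomorph.apply_symm_apply] at h1
  obtain ⟨O, hO, hOeq⟩ := isOpen_induced_iff.mp h1
  refine ⟨⟨O, hO⟩, ?_, ?_⟩
  · have : (⟨x, rfl⟩ : ↥(f ⁻¹' {f x})) ∈ Subtype.val ⁻¹' O := by rw [hOeq]; exact rfl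
    exact this
  · intro t htO htx
    have : (⟨t, htx⟩ : ↥(f ⁻¹' {f x})) ∈ Subtype.val ⁻¹' O := htO
    rw [hOeq] at this
    exact congrArg Subtype.val this

section Core

variable {X Y : Scheme.{u}} [IsIntegral Y] (f : X ⟶ Y) [LocallyQuasiFinite f]
  [LocallyOfFiniteType f] [IsSeparated f]

/-- Over an integral base, at a geometrically unibranch point `y`, the geometric number of points of
a finite fibre of a separated locally quasi-finite morphism all of whose points have generizations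
over the generic point is at most that of the generic fibre. -/
theorem fibreIntegral_one_le_generic
    (hdom : ∀ x : X, ∃ ξ : X, ξ ⤳ x ∧ f ξ = genericPoint Y)
    (hfinη : (f ⁻¹' {genericPoint Y}).Finite) (y : Y)
    (hy : CAlg2.IsGeomUnibranch (Y.presheaf.stalk y)) (hfiny : (f ⁻¹' {y}).Finite) :
    MoreMor.fibreIntegral f (fun _ => 1) y ≤
      MoreMor.fibreIntegral f (fun _ => 1) (genericPoint Y) := by
  classical
  haveI : Finite ↥(f ⁻¹' {y}) := hfiny.to_subtype
  obtain ⟨E, e, e₀, he, hee₀, n, VV, vv, -, hdisj, hV, hexh⟩ :=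
    EtLocPI2.exists_etale_nbhd_split_pi_clopen f y (fun i : ↥(f ⁻¹' {y}) => i.1)
      Subtype.val_injective (fun i => i.2) (fun i => f.quasiFiniteAt i.1)
  haveI := he
  have hBfin : ∀ k : Σ i, Fin (n i), IsFinite ((VV k.1 k.2).ι ≫ pullback.snd f e) :=
    fun k => (hV k.1 k.2).2.1
  have hdisj' : ∀ (k k' : Σ i, Fin (n i)) (t : ↥(pullback f e)),
      t ∈ VV k.1 k.2 → t ∈ VV k'.1 k'.2 → k = k' := fun k k' t hk hk' => hdisj k k' ⟨t, hk, hk'⟩
  have hbc := fibreIntegral_baseChange f (pullback.snd f e) (pullback.fst f e) e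
    (IsPullback.of_hasPullback f e) (fun _ => 1) e₀ (by rw [hee₀]; exact hfiny)
  have hcov : ∀ t : ↥(pullback f e), pullback.snd f e t = e₀ →
      ∃ k : Σ i, Fin (n i), t ∈ VV k.1 k.2 := by
    intro t ht
    have hft : f (pullback.fst f e t) = y := by
      rw [← Scheme.Hom.comp_apply, pullback.condition, Scheme.Hom.comp_apply, ht, hee₀]
    obtain ⟨j, hj⟩ := hexh t ⟨pullback.fst f e t, hft⟩ ht rfl
    exact ⟨⟨_, j⟩, hj⟩
  have hyy : MoreMor.fibreIntegral f (fun _ => 1) y =
      MoreMor.fibreIntegral f (fun _ => 1) (e e₀) := by rw [hee₀]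
  have hval : ∑ᶠ k : Σ i, Fin (n i), IA f e (fun _ => 1) (VV k.1 k.2) e₀ =
      MoreMor.fibreIntegral f (fun _ => 1) y := by
    rw [hyy, ← hbc.1]
    exact sum_eq_fibreIntegral_of_cover (pullback.snd f e)
      (fun t => (fun _ => (1 : ℤ)) (pullback.fst f e t))
      (fun k : Σ i, Fin (n i) => VV k.1 k.2) hBfin hdisj' e₀ hcov
  have hone : ∀ k : Σ i, Fin (n i), IA f e (fun _ => 1) (VV k.1 k.2) e₀ = 1 := fun k =>
    IA_single f e (fun _ => 1) (VV k.1 k.2) e₀ (vv k.1 k.2) (hV k.1 k.2).1 (hV k.1 k.2).2.2.1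
      (hV k.1 k.2).2.2.2.1 (hV k.1 k.2).2.2.2.2.1
  have hcard : MoreMor.fibreIntegral f (fun _ => 1) y = ∑ᶠ _k : Σ i, Fin (n i), (1 : ℤ) := by
    rw [← hval]
    exact finsum_congr hone
  -- the generic point of the étale neighbourhood
  have hy' : CAlg2.IsGeomUnibranch (Y.presheaf.stalk (e.base e₀)) := by
    have : e.base e₀ = y := hee₀
    rw [this]; exact hy
  have hgu := (Groth.Agent.Lib.Helper8.EtaleUnibranchSch.stalk_isGeomUnibranch_of_etale_nhd e e₀
    hy' ⟨⊤, trivial, inferInstance⟩).1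
  obtain ⟨ηE, hηe₀, hη⟩ := exists_generic_generization e₀ hgu.1.1
  haveI : Etale (pullback.fst f e) := MorphismProperty.pullback_fst (P := @Etale) f e he
  haveI : LocallyQuasiFinite e := Groth.Agent.Lib.Helper8.FibIntN2.locallyQuasiFinite_of_unramified e
  have hgenE : GeneralizingMap ⇑e := Flat.generalizingMap e
  have hgenF : GeneralizingMap ⇑(pullback.fst f e) := Flat.generalizingMap (pullback.fst f e)
  have heη : e ηE = genericPoint Y := by
    obtain ⟨z, hz, hze⟩ := hgenE (show genericPoint Y ⤳ e ηE from genericPoint_specializes _)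
    have h1 : ηE ⤳ z := hη z (hz.trans hηe₀)
    have h2 : z = ηE := (hz.antisymm h1).eq
    rw [← h2]; exact hze
  have hpt : ∀ k : Σ i, Fin (n i), ∃ t : ↥(pullback f e),
      t ∈ VV k.1 k.2 ∧ pullback.snd f e t = ηE := by
    intro k
    obtain ⟨ξ, hξ, hξη⟩ := hdom (pullback.fst f e (vv k.1 k.2))
    obtain ⟨β, hβ, hβξ⟩ := hgenF hξ
    have hβV : β ∈ VV k.1 k.2 := hβ.mem_open (VV k.1 k.2).2 (hV k.1 k.2).1
    have hz : pullback.snd f e β ⤳ e₀ := by
      rw [← (hV k.1 k.2).2.2.1]; exact hβ.map (pullback.snd f e).continuous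
    have hez : e (pullback.snd f e β) = genericPoint Y := by
      rw [← Scheme.Hom.comp_apply, ← pullback.condition, Scheme.Hom.comp_apply, hβξ, hξη]
    have h1 : ηE ⤳ pullback.snd f e β := hη _ hz
    have h2 : ηE = pullback.snd f e β := eq_of_specializes_of_fibre e h1 (heη.trans hez.symm)
    exact ⟨β, hβV, h2.symm⟩
  choose tt htV hts using hpt
  have hinj : Function.Injective tt := fun k k' h =>
    hdisj' k k' (tt k) (htV k) (by rw [h]; exact htV k')
  have hbcη := fibreIntegral_baseChange f (pullback.snd f e) (pullback.fst f e) e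
    (IsPullback.of_hasPullback f e) (fun _ => 1) ηE (by rw [heη]; exact hfinη)
  haveI : Finite {t : ↥(pullback f e) // pullback.snd f e t = ηE} := hbcη.2.to_subtype
  haveI := Fintype.ofFinite {t : ↥(pullback f e) // pullback.snd f e t = ηE}
  haveI := Fintype.ofFinite (Σ i, Fin (n i))
  have hge : ∑ᶠ _k : Σ i, Fin (n i), (1 : ℤ) ≤
      MoreMor.fibreIntegral (pullback.snd f e) ((fun _ => (1 : ℤ)) ∘ ⇑(pullback.fst f e)) ηE := by
    rw [fibreIntegral_eq', finsum_eq_sum_of_fintype, finsum_eq_sum_of_fintype]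
    let ψ : (Σ i, Fin (n i)) → {t : ↥(pullback f e) // pullback.snd f e t = ηE} :=
      fun k => ⟨tt k, hts k⟩
    have hψ : Function.Injective ψ := fun k k' h => hinj (congrArg Subtype.val h)
    let G : {t : ↥(pullback f e) // pullback.snd f e t = ηE} → ℤ := fun t =>
      ((fun _ => (1 : ℤ)) ∘ ⇑(pullback.fst f e)) t.1 * (sepDeg (pullback.snd f e) t.1 : ℤ)
    have hG : ∀ t, 1 ≤ G t := by
      intro t
      have h1 := sepDeg_pos' (pullback.snd f e) t.1
      show (1 : ℤ) ≤ 1 * _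
      rw [one_mul]; exact_mod_cast h1
    calc ∑ _k : Σ i, Fin (n i), (1 : ℤ) ≤ ∑ k : Σ i, Fin (n i), G (ψ k) :=
          Finset.sum_le_sum fun k _ => hG (ψ k)
      _ = ∑ t ∈ Finset.univ.image ψ, G t := (Finset.sum_image (fun a _ b _ h => hψ h)).symm
      _ ≤ ∑ t, G t := Finset.sum_le_sum_of_subset_of_nonneg (Finset.subset_univ _)
          (fun t _ _ => le_trans zero_le_one (hG t))
  calc MoreMor.fibreIntegral f (fun _ => 1) y = ∑ᶠ _k : Σ i, Fin (n i), (1 : ℤ) := hcard
    _ ≤ _ := hge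
    _ = MoreMor.fibreIntegral f (fun _ => 1) (e ηE) := hbcη.1
    _ = _ := by rw [heη]

end Core

end Groth.Agent.Lib.Helper8.FibIntU
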