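import Mathlib

/-!
# Base change of the degree of a fibre of a quasi-finite algebra
-/

set_option autoImplicit false

open TensorProduct

namespace Groth.Agent.Lib.Helper8.WtBCAlg

/-- The dimension of the fibre algebra is invariant under base change. -/
theorem finrank_fiber_baseChange {A B A' B' : Type*} [CommRing A] [CommRing B] [CommRing A']
    [CommRing B'] [Algebra A B] [Algebra A A'] [Algebra B B'] [Algebra A' B'] [Algebra A B']
    [IsScalarTower A A' B'] [IsScalarTower A B B'] [Algebra.IsPushout A A' B B']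
    (p : Ideal A) [p.IsPrime] (p' : Ideal A') [p'.IsPrime] [p'.LiesOver p] :
    Module.finrank p'.ResidueField (p'.Fiber B') = Module.finrank p.ResidueField (p.Fiber B) := by
  letI := Localization.AtPrime.algebraOfLiesOver p p'
  let e₀ : (A' ⊗[A] B) ≃ₗ[A'] B' := (Algebra.IsPushout.equiv A A' B B').toLinearEquiv
  let e₁ : p'.ResidueField ⊗[A'] B' ≃ₗ[p'.ResidueField] p'.ResidueField ⊗[A'] (A' ⊗[A] B) :=
    TensorProduct.AlgebraTensorModule.congr (LinearEquiv.refl _ _) e₀.symm
  let e₂ : p'.ResidueField ⊗[A'] (A' ⊗[A] B) ≃ₗ[p'.ResidueField] p'.ResidueField ⊗[A] B :=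
    TensorProduct.AlgebraTensorModule.cancelBaseChange A A' p'.ResidueField p'.ResidueField B
  let e₃ : p'.ResidueField ⊗[p.ResidueField] (p.ResidueField ⊗[A] B) ≃ₗ[p'.ResidueField]
      p'.ResidueField ⊗[A] B :=
    TensorProduct.AlgebraTensorModule.cancelBaseChange A p.ResidueField p'.ResidueField
      p'.ResidueField B
  rw [(e₁ ≪≫ₗ e₂ ≪≫ₗ e₃.symm).finrank_eq, Module.finrank_baseChange]

end Groth.Agent.Lib.Helper8.WtBCAlg
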