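import Mathlib

/-!
# Ramification length and inseparable degree of a local homomorphism

Pure commutative algebra used for the weighting `length · [κ(x):κ(y)]_i` (S1421).
-/

set_option autoImplicit false

open IsLocalRing

namespace Groth.Agent.Lib.Helper8.WtAlg

section Length

/-- Transport of the length of a quotient along a ring isomorphism. -/
theorem length_quot_eq_of_ringEquiv {B B' : Type*} [CommRing B] [CommRing B'] (β : B ≃+* B')
    (I : Ideal B) (I' : Ideal B') (h : I' = I.map (β : B →+* B')) :
    Module.length B (B ⧸ I) = Module.length B' (B' ⧸ I') := by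
  letI : Algebra B B' := (β : B →+* B').toAlgebra
  let e : (B ⧸ I) ≃ₐ[B] B' ⧸ I' :=
    Ideal.quotientEquivAlg I I' (AlgEquiv.ofBijective (Algebra.ofId B B') β.bijective)
      (h.trans (congrArg (fun g : B →+* B' => Ideal.map g I) (RingHom.ext fun x => rfl)))
  rw [e.toLinearEquiv.length_eq]
  exact Module.length_eq_of_surjective (R := B') (S := B) β.surjective

/-- The ramification length of a ring map out of a local ring: `length_B (B / m_A B)`. -/
noncomputable def E {A B : Type*} [CommRing A] [CommRing B] [IsLocalRing A] (φ : A →+* B) : ℕ :=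
  (Module.length B (B ⧸ Ideal.map φ (maximalIdeal A))).toNat

theorem E_comp_of_map_eq {A B C : Type*} [CommRing A] [CommRing B] [CommRing C]
    [IsLocalRing A] [IsLocalRing B] (φ : A →+* B) (ψ : B →+* C)
    (h : (maximalIdeal A).map φ = maximalIdeal B) : E (ψ.comp φ) = E ψ := by
  unfold E
  rw [← Ideal.map_map, h]

theorem E_comp_of_flat {A B C : Type*} [CommRing A] [CommRing B] [CommRing C]
    [IsLocalRing A] [IsLocalRing B] [IsLocalRing C] (φ : A →+* B) (ψ : B →+* C)
    [IsLocalHom ψ] (hflat : ψ.Flat) (h : (maximalIdeal B).map ψ = maximalIdeal C) :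
    E (ψ.comp φ) = E φ := by
  unfold E
  algebraize [ψ]
  haveI : IsLocalHom (algebraMap B C) := ‹IsLocalHom ψ›
  have h1 : Ideal.map (ψ.comp φ) (maximalIdeal A) =
      (Ideal.map φ (maximalIdeal A)).map (algebraMap B C) := by
    rw [Ideal.map_map]; rfl
  rw [h1]
  have h2 := IsLocalRing.length_baseChange B C (B ⧸ Ideal.map φ (maximalIdeal A))
  have h3 := (Algebra.TensorProduct.quotIdealMapEquivTensorQuot C
    (Ideal.map φ (maximalIdeal A))).toLinearEquiv.length_eq
  have h4 : Module.length C (C ⧸ (maximalIdeal B).map (algebraMap B C)) = 1 := by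
    have h' : (maximalIdeal B).map (algebraMap B C) = maximalIdeal C := h
    rw [h', Module.length_eq_one_iff, isSimpleModule_iff_isCoatom, ← Ideal.isMaximal_def]
    exact maximalIdeal.isMaximal C
  rw [h3, h2, h4, mul_one]

theorem E_eq_of_equiv {A B A' B' : Type*} [CommRing A] [CommRing B] [CommRing A'] [CommRing B']
    [IsLocalRing A] [IsLocalRing A'] (φ : A →+* B) (φ' : A' →+* B') (α : A ≃+* A')
    (β : B ≃+* B') (h : (β : B →+* B').comp φ = φ'.comp (α : A →+* A')) : E φ = E φ' := by
  unfold E
  rw [length_quot_eq_of_ringEquiv β _ (Ideal.map φ' (maximalIdeal A')) ?_]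
  rw [Ideal.map_map, h, ← Ideal.map_map,
    map_maximalIdeal_of_surjective (α : A →+* A') α.surjective]

theorem finrank_residue_eq_of_equiv {A B A' B' : Type*} [CommRing A] [CommRing B] [CommRing A']
    [CommRing B'] [IsLocalRing A] [IsLocalRing A'] [IsLocalRing B] [IsLocalRing B']
    (φ : A →+* B) (φ' : A' →+* B') [IsLocalHom φ] [IsLocalHom φ'] (α : A ≃+* A')
    (β : B ≃+* B') (h : (β : B →+* B').comp φ = φ'.comp (α : A →+* A')) :
    @Module.finrank (ResidueField A) (ResidueField B) _ _ (ResidueField.map φ).toAlgebra.toModule =
    @Module.finrank (ResidueField A') (ResidueField B') _ _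
      (ResidueField.map φ').toAlgebra.toModule := by
  letI := (ResidueField.map φ).toAlgebra
  letI := (ResidueField.map φ').toAlgebra
  refine Algebra.finrank_eq_of_equiv_equiv (ResidueField.mapEquiv α) (ResidueField.mapEquiv β) ?_
  ext x
  obtain ⟨a, rfl⟩ := residue_surjective x
  show ResidueField.map φ' (ResidueField.map (α : A →+* A') (residue A a)) =
    ResidueField.map (β : B →+* B') (ResidueField.map φ (residue A a))
  simp only [ResidueField.map_residue]
  congr 1
  exact (DFunLike.congr_fun h a).symm

theorem finrank_residue_eq_of_equiv' {A B A' B' : Type*} [CommRing A] [CommRing B] [CommRing A']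
    [CommRing B'] [IsLocalRing A] [IsLocalRing A'] [IsLocalRing B] [IsLocalRing B']
    (φ : A →+* B) (φ' : A' →+* B') [Algebra (ResidueField A) (ResidueField B)]
    [Algebra (ResidueField A') (ResidueField B')]
    (h1 : ∀ a, algebraMap (ResidueField A) (ResidueField B) (residue A a) = residue B (φ a))
    (h2 : ∀ a, algebraMap (ResidueField A') (ResidueField B') (residue A' a) = residue B' (φ' a))
    (α : A ≃+* A') (β : B ≃+* B') (h : (β : B →+* B').comp φ = φ'.comp (α : A →+* A')) :
    Module.finrank (ResidueField A) (ResidueField B) =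
      Module.finrank (ResidueField A') (ResidueField B') := by
  refine Algebra.finrank_eq_of_equiv_equiv (ResidueField.mapEquiv α) (ResidueField.mapEquiv β) ?_
  ext x
  obtain ⟨a, rfl⟩ := residue_surjective x
  show algebraMap (ResidueField A') (ResidueField B')
      (ResidueField.map (α : A →+* A') (residue A a)) =
    ResidueField.map (β : B →+* B') (algebraMap (ResidueField A) (ResidueField B) (residue A a))
  rw [h1, ResidueField.map_residue, ResidueField.map_residue, h2]
  congr 1
  exact (DFunLike.congr_fun h a).symm

end Length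

section Fields

theorem finInsepDegree_of_sep_bot (F K L : Type*) [Field F] [Field K] [Field L] [Algebra F K]
    [Algebra K L] [Algebra F L] [IsScalarTower F K L] [Algebra.IsSeparable F K] :
    Field.finInsepDegree F L = Field.finInsepDegree K L := by
  have h := Field.finInsepDegree_mul_finInsepDegree_of_isAlgebraic (F := F) (E := K) (K := L)
  rw [Algebra.IsSeparable.finInsepDegree_eq (F := F) (E := K), one_mul] at h
  exact h.symm

theorem finInsepDegree_of_sep_top (F K L : Type*) [Field F] [Field K] [Field L] [Algebra F K]
    [Algebra K L] [Algebra F L] [IsScalarTower F K L] [Algebra.IsAlgebraic F K]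
    [Algebra.IsSeparable K L] :
    Field.finInsepDegree F L = Field.finInsepDegree F K := by
  have h := Field.finInsepDegree_mul_finInsepDegree_of_isAlgebraic (F := F) (E := K) (K := L)
  rw [Algebra.IsSeparable.finInsepDegree_eq (F := K) (E := L), mul_one] at h
  exact h.symm

end Fields

section Pos

open Ideal in
/-- `Ideal.ramificationIdx_pos` for quasi-finite algebras. -/
theorem ramificationIdx_pos_of_quasiFinite {R S : Type*} [CommRing R] [CommRing S] [Algebra R S]
    [Algebra.QuasiFinite R S] (q : Ideal S) [q.IsPrime] : 0 < q.ramificationIdx R := by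
  let p := q.under R
  let Sq := Localization.AtPrime q
  rw [ramificationIdx_def]
  apply ENat.toNat_pos
  · rw [← pos_iff_ne_zero, Module.length_pos_iff, Submodule.Quotient.nontrivial_iff,
      IsScalarTower.algebraMap_eq R S, ← map_map, ← lt_top_iff_ne_top]
    grw [map_mono map_comap_le, Localization.AtPrime.map_eq_maximalIdeal]
    exact (IsLocalRing.maximalIdeal.isMaximal _).lt_top
  · let r := PrimeSpectrum.primesOverOrderIsoFiber R S p (primesOver.mk p q)
    have : q = r.1.comap Algebra.TensorProduct.includeRight := by
      rw [← PrimeSpectrum.coe_primesOverOrderIsoFiber_symm_apply, OrderIso.symm_apply_apply]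
    let := Localization.AtPrime.algebraOfLiesOver p (r.1.comap Algebra.TensorProduct.includeRight)
    have : IsArtinianRing (Sq ⧸ map (algebraMap R Sq) p) := by
      convert (Fiber.localizationAlgEquivQuotient p r.1).toRingEquiv.isArtinianRing
    rwa [Module.length_eq_of_surjective (R := Sq ⧸ p.map (algebraMap R Sq)) Quotient.mk_surjective,
      Module.length_ne_top_iff, ← isArtinianRing_iff_isFiniteLength]

end Pos

end Groth.Agent.Lib.Helper8.WtAlg
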