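import Mathlib
import Groth.Prelude.Def_MoreMor
import Groth.Agent.Lib.Helper8.WtAlg
import Groth.Agent.Lib.Helper8.FibInt

/-!
# The weighting `length(O_{X,x}/m_y O_{X,x}) · [κ(x):κ(y)]_i` of a flat quasi-finite morphism (S1421)
-/

set_option autoImplicit false
universe u
open AlgebraicGeometry CategoryTheory Limits IsLocalRing

namespace Groth.Agent.Lib.Helper8.WtSch

open Groth.Agent.Lib.Helper8.FibInt Groth.Agent.Lib.Helper8.WtAlg
  Groth.Agent.Lib.Helper8.EtLocUnr Groth.Agent.Lib.Helper8.EtLocPI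

section Defs

variable {X Y : Scheme.{u}}

/-- ramification length of `f` at `x`. -/
noncomputable def ram (f : X ⟶ Y) (x : X) : ℕ := E (f.stalkMap x).hom

/-- inseparable residue degree of `f` at `x`. -/
noncomputable def insepDeg (f : X ⟶ Y) (x : X) : ℕ :=
  letI := (f.residueFieldMap x).hom.toAlgebra
  Field.finInsepDegree (Y.residueField (f x)) (X.residueField x)

/-- The weight function of S1421. -/
noncomputable def wt (f : X ⟶ Y) (x : X) : ℤ := (ram f x : ℤ) * (insepDeg f x : ℤ)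

end Defs

section Stalk

variable {U V X Y : Scheme.{u}}

lemma map_maximalIdeal_of_unramified (g : V ⟶ Y) [FormallyUnramified g] [LocallyOfFiniteType g]
    (v : V) :
    (maximalIdeal (Y.presheaf.stalk (g v))).map (g.stalkMap v).hom =
      maximalIdeal (V.presheaf.stalk v) := by
  algebraize [(g.stalkMap v).hom]
  have : IsLocalHom (algebraMap (Y.presheaf.stalk (g v)) (V.presheaf.stalk v)) :=
    inferInstanceAs <| IsLocalHom (g.stalkMap v).hom
  have : Algebra.EssFiniteType (Y.presheaf.stalk (g v)) (V.presheaf.stalk v) := by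
    rw [← RingHom.essFiniteType_algebraMap, RingHom.algebraMap_toAlgebra]
    exact LocallyOfFiniteType.stalkMap g v
  have : Algebra.FormallyUnramified (Y.presheaf.stalk (g v)) (V.presheaf.stalk v) := by
    rw [← RingHom.formallyUnramified_algebraMap, RingHom.algebraMap_toAlgebra]
    exact FormallyUnramified.stalkMap g v
  exact Algebra.FormallyUnramified.map_maximalIdeal

lemma stalkMap_comp_hom (π : U ⟶ V) (g : V ⟶ Y) (u : U) :
    ((π ≫ g).stalkMap u).hom = (π.stalkMap u).hom.comp (g.stalkMap (π u)).hom := by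
  rw [Scheme.Hom.stalkMap_comp]
  rfl

lemma ram_comp_unramified (π : U ⟶ V) (g : V ⟶ Y) [FormallyUnramified g]
    [LocallyOfFiniteType g] (u : U) : ram (π ≫ g) u = ram π u := by
  unfold ram
  exact (congrArg E (stalkMap_comp_hom π g u)).trans
    (E_comp_of_map_eq _ _ (map_maximalIdeal_of_unramified g (π u)))

lemma ram_etale_comp (a : U ⟶ X) (f : X ⟶ Y) [Etale a] (u : U) :
    ram (a ≫ f) u = ram f (a u) := by
  unfold ram
  exact (congrArg E (stalkMap_comp_hom a f u)).trans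
    (E_comp_of_flat _ _ (Flat.stalkMap a u) (map_maximalIdeal_of_unramified a u))

lemma insepDeg_comp_unramified (π : U ⟶ V) (g : V ⟶ Y) [FormallyUnramified g]
    [LocallyOfFiniteType g] (u : U) : insepDeg (π ≫ g) u = insepDeg π u := by
  letI a₁ : Algebra (Y.residueField (g (π u))) (V.residueField (π u)) :=
    (g.residueFieldMap (π u)).hom.toAlgebra
  letI a₂ : Algebra (V.residueField (π u)) (U.residueField u) := (π.residueFieldMap u).hom.toAlgebra
  letI a₃ : Algebra (Y.residueField (g (π u))) (U.residueField u) :=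
    ((π ≫ g).residueFieldMap u).hom.toAlgebra
  haveI : IsScalarTower (Y.residueField (g (π u))) (V.residueField (π u)) (U.residueField u) :=
    IsScalarTower.of_algebraMap_eq' (by
      show ((π ≫ g).residueFieldMap u).hom =
        (π.residueFieldMap u).hom.comp (g.residueFieldMap (π u)).hom
      rw [Scheme.residueFieldMap_comp]
      rfl)
  haveI : Algebra.IsSeparable (Y.residueField (g (π u))) (V.residueField (π u)) := inferInstance
  exact finInsepDegree_of_sep_bot (Y.residueField (g (π u))) (V.residueField (π u))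
    (U.residueField u)

lemma insepDeg_etale_comp (a : U ⟶ X) (f : X ⟶ Y) [Etale a] (u : U)
    (hfin : (f.residueFieldMap (a u)).hom.Finite) :
    insepDeg (a ≫ f) u = insepDeg f (a u) := by
  letI a₁ : Algebra (Y.residueField (f (a u))) (X.residueField (a u)) :=
    (f.residueFieldMap (a u)).hom.toAlgebra
  letI a₂ : Algebra (X.residueField (a u)) (U.residueField u) := (a.residueFieldMap u).hom.toAlgebra
  letI a₃ : Algebra (Y.residueField (f (a u))) (U.residueField u) :=
    ((a ≫ f).residueFieldMap u).hom.toAlgebra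
  haveI : IsScalarTower (Y.residueField (f (a u))) (X.residueField (a u)) (U.residueField u) :=
    IsScalarTower.of_algebraMap_eq' (by
      show ((a ≫ f).residueFieldMap u).hom =
        (a.residueFieldMap u).hom.comp (f.residueFieldMap (a u)).hom
      rw [Scheme.residueFieldMap_comp]
      rfl)
  haveI : Module.Finite (Y.residueField (f (a u))) (X.residueField (a u)) := hfin
  haveI : Algebra.IsAlgebraic (Y.residueField (f (a u))) (X.residueField (a u)) :=
    Algebra.IsAlgebraic.of_finite _ _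
  haveI : Algebra.IsSeparable (X.residueField (a u)) (U.residueField u) := inferInstance
  exact finInsepDegree_of_sep_top (Y.residueField (f (a u))) (X.residueField (a u))
    (U.residueField u)

/-- Étale invariance of the weight: for a commutative square with étale horizontal maps. -/
theorem wt_eq_of_square (a : U ⟶ X) (π : U ⟶ V) (f : X ⟶ Y) (g : V ⟶ Y) [Etale a] [Etale g]
    (h : a ≫ f = π ≫ g) (u : U) (hfin : (f.residueFieldMap (a u)).hom.Finite) :
    wt π u = wt f (a u) := by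
  have h1 : wt (π ≫ g) u = wt π u := by
    unfold wt
    rw [ram_comp_unramified, insepDeg_comp_unramified]
  have h2 : wt (a ≫ f) u = wt f (a u) := by
    unfold wt
    rw [ram_etale_comp, insepDeg_etale_comp _ _ _ hfin]
  rw [← h1, ← h, h2]

end Stalk

section Chart

variable {X Y : Scheme.{u}}

/-- In an affine chart, ramification length and residue degree are the ring-theoretic
ramification index and inertia degree. -/
theorem chart (f : X ⟶ Y) {W : Y.Opens} (hW : IsAffineOpen W) {U : X.Opens} (hU : IsAffineOpen U)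
    (hUW : U ≤ f ⁻¹ᵁ W) {x : X} (hx : x ∈ U) :
    letI := (f.appLE W U hUW).hom.toAlgebra
    ram f x = (hU.primeIdealOf ⟨x, hx⟩).asIdeal.ramificationIdx Γ(Y, W) ∧
    @Module.finrank (Y.residueField (f x)) (X.residueField x) _ _
        (f.residueFieldMap x).hom.toAlgebra.toModule =
      (hU.primeIdealOf ⟨x, hx⟩).asIdeal.inertiaDeg Γ(Y, W) := by
  letI alg := (f.appLE W U hUW).hom.toAlgebra
  have hcomap : (hU.primeIdealOf ⟨x, hx⟩).asIdeal.comap (algebraMap Γ(Y, W) Γ(X, U)) =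
      (hW.primeIdealOf ⟨f x, hUW hx⟩).asIdeal :=
    congr($(IsAffineOpen.comap_primeIdealOf_appLE W hW U hU hUW hx).1)
  haveI hlo : (hU.primeIdealOf ⟨x, hx⟩).asIdeal.LiesOver (hW.primeIdealOf ⟨f x, hUW hx⟩).asIdeal :=
    ⟨hcomap.symm⟩
  letI := Localization.AtPrime.algebraOfLiesOver (hW.primeIdealOf ⟨f x, hUW hx⟩).asIdeal
    (hU.primeIdealOf ⟨x, hx⟩).asIdeal
  let ι := IsAffineOpen.arrowStalkMapIso f W hW U hU hUW hx
  let α : Y.presheaf.stalk (f x) ≃+*
      Localization.AtPrime (hW.primeIdealOf ⟨f x, hUW hx⟩).asIdeal :=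
    (Arrow.leftFunc.mapIso ι).commRingCatIsoToRingEquiv
  let β : X.presheaf.stalk x ≃+* Localization.AtPrime (hU.primeIdealOf ⟨x, hx⟩).asIdeal :=
    (Arrow.rightFunc.mapIso ι).commRingCatIsoToRingEquiv
  have hcomm : (β : _ →+* _).comp (f.stalkMap x).hom =
      (algebraMap (Localization.AtPrime (hW.primeIdealOf ⟨f x, hUW hx⟩).asIdeal)
        (Localization.AtPrime (hU.primeIdealOf ⟨x, hx⟩).asIdeal)).comp (α : _ →+* _) := by
    have hw := ι.hom.w
    exact congrArg CommRingCat.Hom.hom hw.symm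
  have hmax : Ideal.map (algebraMap (Localization.AtPrime (hW.primeIdealOf ⟨f x, hUW hx⟩).asIdeal)
        (Localization.AtPrime (hU.primeIdealOf ⟨x, hx⟩).asIdeal))
        (maximalIdeal (Localization.AtPrime (hW.primeIdealOf ⟨f x, hUW hx⟩).asIdeal)) =
      (hW.primeIdealOf ⟨f x, hUW hx⟩).asIdeal.map (algebraMap Γ(Y, W)
        (Localization.AtPrime (hU.primeIdealOf ⟨x, hx⟩).asIdeal)) := by
    rw [← Localization.AtPrime.map_eq_maximalIdeal, Ideal.map_map, ← IsScalarTower.algebraMap_eq]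
  refine ⟨?_, ?_⟩
  · unfold ram
    rw [E_eq_of_equiv _ _ α β hcomm, Ideal.ramificationIdx_eq
      (hW.primeIdealOf ⟨f x, hUW hx⟩).asIdeal (hU.primeIdealOf ⟨x, hx⟩).asIdeal]
    unfold E
    rw [hmax]
  · rw [Ideal.inertiaDeg_eq (hW.primeIdealOf ⟨f x, hUW hx⟩).asIdeal
      (hU.primeIdealOf ⟨x, hx⟩).asIdeal]
    letI : Algebra (ResidueField ↑(Y.presheaf.stalk (f x))) (ResidueField ↑(X.presheaf.stalk x)) :=
      (f.residueFieldMap x).hom.toAlgebra
    exact finrank_residue_eq_of_equiv' (f.stalkMap x).hom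
      (algebraMap (Localization.AtPrime (hW.primeIdealOf ⟨f x, hUW hx⟩).asIdeal)
        (Localization.AtPrime (hU.primeIdealOf ⟨x, hx⟩).asIdeal))
      (fun a => rfl) (fun a => rfl) α β hcomm

lemma exists_chart (f : X ⟶ Y) (x : X) :
    ∃ (W : Y.Opens) (_ : IsAffineOpen W) (U : X.Opens) (_ : IsAffineOpen U)
      (_ : U ≤ f ⁻¹ᵁ W), x ∈ U := by
  obtain ⟨_, ⟨W, hW, rfl⟩, hyW, -⟩ :=
    Y.isBasis_affineOpens.exists_subset_of_mem_open (Set.mem_univ (f x)) isOpen_univ
  obtain ⟨_, ⟨U, hU, rfl⟩, hxU, hUle⟩ :=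
    X.isBasis_affineOpens.exists_subset_of_mem_open
      (show x ∈ ((f ⁻¹ᵁ W : X.Opens) : Set X) from hyW) (f ⁻¹ᵁ W).2
  exact ⟨W, hW, U, hU, hUle, hxU⟩

theorem ram_pos (f : X ⟶ Y) [LocallyQuasiFinite f] (x : X) : 0 < ram f x := by
  obtain ⟨W, hW, U, hU, hUW, hx⟩ := exists_chart f x
  letI alg := (f.appLE W U hUW).hom.toAlgebra
  haveI : Algebra.QuasiFinite Γ(Y, W) Γ(X, U) := LocallyQuasiFinite.quasiFinite_appLE hW hU hUW
  rw [(chart f hW hU hUW hx).1]
  exact ramificationIdx_pos_of_quasiFinite _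

theorem insepDeg_pos (f : X ⟶ Y) [LocallyQuasiFinite f] [LocallyOfFiniteType f] (x : X) :
    0 < insepDeg f x := by
  unfold insepDeg
  letI := (f.residueFieldMap x).hom.toAlgebra
  haveI : Module.Finite (Y.residueField (f x)) (X.residueField x) :=
    finite_residueFieldMap_of_quasiFiniteAt f x (f.quasiFiniteAt x)
  have h := Field.finSepDegree_mul_finInsepDegree (Y.residueField (f x)) (X.residueField x)
  have hpos : 0 < Module.finrank (Y.residueField (f x)) (X.residueField x) := Module.finrank_pos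
  rw [← h] at hpos
  exact Nat.pos_of_mul_pos_left hpos

theorem wt_pos (f : X ⟶ Y) [LocallyQuasiFinite f] [LocallyOfFiniteType f] (x : X) :
    0 < wt f x := by
  unfold wt
  have h1 := ram_pos f x
  have h2 := insepDeg_pos f x
  positivity

end Chart

section Finite

variable {T V : Scheme.{u}}

lemma wt_mul_sepDeg (π : T ⟶ V) (t : T) :
    wt π t * (sepDeg π t : ℤ) =
      ((ram π t * @Module.finrank (V.residueField (π t)) (T.residueField t) _ _
        (π.residueFieldMap t).hom.toAlgebra.toModule : ℕ) : ℤ) := by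
  unfold wt sepDeg insepDeg
  letI := (π.residueFieldMap t).hom.toAlgebra
  have h := Field.finSepDegree_mul_finInsepDegree (V.residueField (π t)) (T.residueField t)
  rw [← h]
  push_cast
  ring

/-- The fibre integral of the weight of a finite flat morphism is the rank. -/
theorem fibreIntegral_wt_eq_rank (π : T ⟶ V) [IsFinite π] [Flat π]
    {W : V.Opens} (hW : IsAffineOpen W) (v : V) (hv : v ∈ W) :
    letI := (π.appLE W (π ⁻¹ᵁ W) le_rfl).hom.toAlgebra
    MoreMor.fibreIntegral π (wt π) v =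
      (Module.rankAtStalk (R := Γ(V, W)) Γ(T, π ⁻¹ᵁ W) (hW.primeIdealOf ⟨v, hv⟩) : ℤ) := by
  classical
  letI alg := (π.appLE W (π ⁻¹ᵁ W) le_rfl).hom.toAlgebra
  have hU : IsAffineOpen (π ⁻¹ᵁ W) := hW.preimage π
  haveI : Module.Finite Γ(V, W) Γ(T, π ⁻¹ᵁ W) := by
    have h := π.finite_app W hW
    rw [Scheme.Hom.app_eq_appLE] at h
    exact h
  haveI : Module.Flat Γ(V, W) Γ(T, π ⁻¹ᵁ W) := π.flat_appLE hW hU le_rfl
  set P : PrimeSpectrum Γ(V, W) := hW.primeIdealOf ⟨v, hv⟩ with hP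
  haveI : Finite (P.asIdeal.primesOver Γ(T, π ⁻¹ᵁ W)) :=
    (Algebra.QuasiFinite.finite_primesOver P.asIdeal).to_subtype
  letI := Fintype.ofFinite (P.asIdeal.primesOver Γ(T, π ⁻¹ᵁ W))
  have h1 := Ideal.finrank_fiber_eq_rankAtStalk (M := Γ(T, π ⁻¹ᵁ W)) P.asIdeal
  have h2 := Ideal.sum_ramification_inertia_eq_finrank_fiber P.asIdeal Γ(T, π ⁻¹ᵁ W)
  have h3 : Module.rankAtStalk (R := Γ(V, W)) Γ(T, π ⁻¹ᵁ W) P =
      ∑ q : P.asIdeal.primesOver Γ(T, π ⁻¹ᵁ W),
        q.1.ramificationIdx Γ(V, W) * q.1.inertiaDeg Γ(V, W) := (h2.trans h1).symm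
  rw [h3]
  -- membership
  have hmem : ∀ t : {t : T // π t = v}, t.1 ∈ π ⁻¹ᵁ W := fun t => by
    show π t.1 ∈ W
    rw [t.2]; exact hv
  -- injectivity of primeIdealOf
  have hinjU : ∀ a b : (π ⁻¹ᵁ W : T.Opens), hU.primeIdealOf a = hU.primeIdealOf b → a = b := by
    intro a b hab
    apply Subtype.ext
    rw [← hU.fromSpec_primeIdealOf a, ← hU.fromSpec_primeIdealOf b, hab]
  have hinjW : ∀ a b : W, hW.primeIdealOf a = hW.primeIdealOf b → a = b := by
    intro a b hab
    apply Subtype.ext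
    rw [← hW.fromSpec_primeIdealOf a, ← hW.fromSpec_primeIdealOf b, hab]
  have hcomap : ∀ (t : T) (ht : t ∈ π ⁻¹ᵁ W),
      (hU.primeIdealOf ⟨t, ht⟩).comap (algebraMap Γ(V, W) Γ(T, π ⁻¹ᵁ W)) =
        hW.primeIdealOf ⟨π t, ht⟩ := fun t ht =>
    IsAffineOpen.comap_primeIdealOf_appLE W hW (π ⁻¹ᵁ W) hU le_rfl ht
  -- the bijection
  let Q : {t : T // π t = v} → P.asIdeal.primesOver Γ(T, π ⁻¹ᵁ W) := fun t =>
    ⟨(hU.primeIdealOf ⟨t.1, hmem t⟩).asIdeal, (hU.primeIdealOf ⟨t.1, hmem t⟩).isPrime, ⟨by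
      have h := hcomap t.1 (hmem t)
      have h' : hW.primeIdealOf ⟨π t.1, hmem t⟩ = P := by
        rw [hP]; congr 1; exact Subtype.ext t.2
      rw [h'] at h
      exact congrArg PrimeSpectrum.asIdeal h.symm⟩⟩
  have hQbij : Function.Bijective Q := by
    constructor
    · intro t t' htt'
      have h : hU.primeIdealOf ⟨t.1, hmem t⟩ = hU.primeIdealOf ⟨t'.1, hmem t'⟩ :=
        PrimeSpectrum.ext (congrArg Subtype.val htt')
      have h' := congrArg (fun z : (π ⁻¹ᵁ W : T.Opens) => (z : T)) (hinjU _ _ h)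
      exact Subtype.ext h'
    · rintro ⟨q, hqp, hqo⟩
      have hrange : hU.fromSpec ⟨q, hqp⟩ ∈ π ⁻¹ᵁ W := by
        have hr : hU.fromSpec ⟨q, hqp⟩ ∈ Set.range hU.fromSpec := Set.mem_range_self _
        rw [hU.range_fromSpec] at hr
        exact hr
      have hprime : hU.primeIdealOf ⟨hU.fromSpec ⟨q, hqp⟩, hrange⟩ = ⟨q, hqp⟩ := by
        apply hU.fromSpec.isOpenEmbedding.injective
        exact hU.fromSpec_primeIdealOf ⟨hU.fromSpec ⟨q, hqp⟩, hrange⟩
      have hπ : π (hU.fromSpec ⟨q, hqp⟩) = v := by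
        have h := hcomap _ hrange
        rw [hprime] at h
        have h' : hW.primeIdealOf ⟨π (hU.fromSpec ⟨q, hqp⟩), hrange⟩ = hW.primeIdealOf ⟨v, hv⟩ := by
          rw [← h, ← hP]
          exact PrimeSpectrum.ext hqo.over.symm
        exact congrArg Subtype.val (hinjW _ _ h')
      refine ⟨⟨hU.fromSpec ⟨q, hqp⟩, hπ⟩, ?_⟩
      apply Subtype.ext
      exact congrArg PrimeSpectrum.asIdeal hprime
  -- the sum
  rw [fibreIntegral_eq']
  let G : P.asIdeal.primesOver Γ(T, π ⁻¹ᵁ W) → ℤ := fun q =>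
    ((q.1.ramificationIdx Γ(V, W) * q.1.inertiaDeg Γ(V, W) : ℕ) : ℤ)
  have hterm : ∀ t : {t : T // π t = v}, wt π t.1 * (sepDeg π t.1 : ℤ) = G (Q t) := by
    intro t
    rw [wt_mul_sepDeg]
    have hc := chart π hW hU le_rfl (hmem t)
    rw [hc.1, hc.2]
  have hsum : ∑ᶠ t : {t : T // π t = v}, G (Q t) = ∑ᶠ q, G q :=
    finsum_comp_equiv (Equiv.ofBijective Q hQbij)
  rw [finsum_congr hterm, hsum, finsum_eq_sum_of_fintype]
  simp only [G]
  push_cast
  rfl

/-- The fibre integral of the weight of a finite flat finitely presented morphism is locally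
constant. -/
theorem isLocallyConstant_fibreIntegral_wt (π : T ⟶ V) [IsFinite π] [Flat π]
    [LocallyOfFinitePresentation π] : IsLocallyConstant (MoreMor.fibreIntegral π (wt π)) := by
  rw [IsLocallyConstant.iff_exists_open]
  intro v
  obtain ⟨_, ⟨W, hW, rfl⟩, hvW, -⟩ :=
    V.isBasis_affineOpens.exists_subset_of_mem_open (Set.mem_univ v) isOpen_univ
  letI alg := (π.appLE W (π ⁻¹ᵁ W) le_rfl).hom.toAlgebra
  have hU : IsAffineOpen (π ⁻¹ᵁ W) := hW.preimage π
  haveI : Module.Finite Γ(V, W) Γ(T, π ⁻¹ᵁ W) := by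
    have h := π.finite_app W hW
    rw [Scheme.Hom.app_eq_appLE] at h
    exact h
  haveI : Module.Flat Γ(V, W) Γ(T, π ⁻¹ᵁ W) := π.flat_appLE hW hU le_rfl
  haveI : Algebra.FinitePresentation Γ(V, W) Γ(T, π ⁻¹ᵁ W) :=
    π.finitePresentation_appLE hW hU le_rfl
  haveI : Module.FinitePresentation Γ(V, W) Γ(T, π ⁻¹ᵁ W) :=
    Module.FinitePresentation.of_finite_of_finitePresentation _ _
  have hlc := Module.isLocallyConstant_rankAtStalk (R := Γ(V, W)) (M := Γ(T, π ⁻¹ᵁ W))
  have hcont : Continuous (fun x : W => hW.primeIdealOf x) := hW.isoSpec.hom.continuous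
  have hopen : IsOpen {x : W | Module.rankAtStalk (R := Γ(V, W)) Γ(T, π ⁻¹ᵁ W)
      (hW.primeIdealOf x) = Module.rankAtStalk (R := Γ(V, W)) Γ(T, π ⁻¹ᵁ W)
        (hW.primeIdealOf ⟨v, hvW⟩)} :=
    (hlc.isOpen_fiber _).preimage hcont
  refine ⟨Subtype.val '' {x : W | Module.rankAtStalk (R := Γ(V, W)) Γ(T, π ⁻¹ᵁ W)
      (hW.primeIdealOf x) = Module.rankAtStalk (R := Γ(V, W)) Γ(T, π ⁻¹ᵁ W)
        (hW.primeIdealOf ⟨v, hvW⟩)}, W.2.isOpenMap_subtype_val _ hopen, ⟨⟨v, hvW⟩, rfl, rfl⟩, ?_⟩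
  rintro _ ⟨⟨v', hv'⟩, hr, rfl⟩
  rw [fibreIntegral_wt_eq_rank π hW v' hv', fibreIntegral_wt_eq_rank π hW v hvW]
  exact congrArg _ hr

end Finite

section Main

variable {X Y : Scheme.{u}}

theorem isWeighting_wt (f : X ⟶ Y) [LocallyQuasiFinite f] [Flat f]
    [LocallyOfFinitePresentation f] : MoreMor.IsWeighting f (wt f) := by
  intro V g _ U hfin
  haveI : IsFinite (U.ι ≫ pullback.snd f g) := hfin
  have hfun : (fun u => wt f (pullback.fst f g (U.ι u))) = wt (U.ι ≫ pullback.snd f g) := by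
    funext u
    symm
    refine wt_eq_of_square (U.ι ≫ pullback.fst f g) (U.ι ≫ pullback.snd f g) f g ?_ u ?_
    · rw [Category.assoc, Category.assoc, pullback.condition]
    · exact finite_residueFieldMap_of_quasiFiniteAt f _ (f.quasiFiniteAt _)
  rw [hfun]
  exact isLocallyConstant_fibreIntegral_wt _

theorem main (f : X ⟶ Y) [LocallyQuasiFinite f] [Flat f] [LocallyOfFinitePresentation f] :
    MoreMor.IsWeighting f (wt f) ∧ ∀ x, 0 < wt f x :=
  ⟨isWeighting_wt f, wt_pos f⟩

end Main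

end Groth.Agent.Lib.Helper8.WtSch
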