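import Mathlib
import Groth.Prelude.Def_MoreMor
import Groth.Agent.Lib.Helper8.WtSch
import Groth.Agent.Lib.Helper8.WtBCAlg
import Groth.Agent.Lib.Helper8.FibIntU

/-!
# Base change of the fibre degree `∑ e·f` of a locally quasi-finite morphism
-/

set_option autoImplicit false
universe u
open AlgebraicGeometry CategoryTheory Limits IsLocalRing

namespace Groth.Agent.Lib.Helper8.WtBC

open Groth.Agent.Lib.Helper8.FibInt Groth.Agent.Lib.Helper8.WtAlg Groth.Agent.Lib.Helper8.WtSch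
  Groth.Agent.Lib.Helper8.EtLocUnr Groth.Agent.Lib.Helper8.EtLocPI Groth.Agent.Lib.Helper8.WtBCAlg

section CDeg

variable {X Y : Scheme.{u}}

/-- The local degree `e(x)·[κ(x):κ(f x)]` of `f` at `x`. -/
noncomputable def cdeg (f : X ⟶ Y) (x : X) : ℤ := wt f x * (sepDeg f x : ℤ)

lemma fibreIntegral_wt_eq (f : X ⟶ Y) (y : Y) :
    MoreMor.fibreIntegral f (wt f) y = ∑ᶠ x ∈ {x : X | f x = y}, cdeg f x := by
  rw [fibreIntegral_eq']
  exact finsum_set_coe_eq_finsum_mem (s := {x : X | f x = y}) (f := fun x => cdeg f x)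

lemma cdeg_pos (f : X ⟶ Y) [LocallyQuasiFinite f] [LocallyOfFiniteType f] (x : X) :
    0 < cdeg f x := by
  unfold cdeg
  have h1 := wt_pos f x
  have h2 := sepDeg_pos' f x
  positivity

/-- Chart formula: the sum of the local degrees over the points of an affine open `U` lying
over `y` is the dimension of the fibre algebra. -/
theorem sum_chart (f : X ⟶ Y) [LocallyQuasiFinite f] {W : Y.Opens} (hW : IsAffineOpen W)
    {U : X.Opens} (hU : IsAffineOpen U) (hUW : U ≤ f ⁻¹ᵁ W) (y : Y) (hy : y ∈ W) :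
    letI := (f.appLE W U hUW).hom.toAlgebra
    {x : X | f x = y ∧ x ∈ U}.Finite ∧
    ∑ᶠ x ∈ {x : X | f x = y ∧ x ∈ U}, cdeg f x =
      (Module.finrank (hW.primeIdealOf ⟨y, hy⟩).asIdeal.ResidueField
        ((hW.primeIdealOf ⟨y, hy⟩).asIdeal.Fiber Γ(X, U)) : ℤ) := by
  classical
  letI alg := (f.appLE W U hUW).hom.toAlgebra
  haveI : Algebra.QuasiFinite Γ(Y, W) Γ(X, U) := LocallyQuasiFinite.quasiFinite_appLE hW hU hUW
  set P : PrimeSpectrum Γ(Y, W) := hW.primeIdealOf ⟨y, hy⟩ with hP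
  haveI : Finite (P.asIdeal.primesOver Γ(X, U)) :=
    (Algebra.QuasiFinite.finite_primesOver P.asIdeal).to_subtype
  letI := Fintype.ofFinite (P.asIdeal.primesOver Γ(X, U))
  have h2 := Ideal.sum_ramification_inertia_eq_finrank_fiber P.asIdeal Γ(X, U)
  rw [← h2]
  have hinjU : ∀ a b : U, hU.primeIdealOf a = hU.primeIdealOf b → a = b := by
    intro a b hab
    apply Subtype.ext
    rw [← hU.fromSpec_primeIdealOf a, ← hU.fromSpec_primeIdealOf b, hab]
  have hinjW : ∀ a b : W, hW.primeIdealOf a = hW.primeIdealOf b → a = b := by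
    intro a b hab
    apply Subtype.ext
    rw [← hW.fromSpec_primeIdealOf a, ← hW.fromSpec_primeIdealOf b, hab]
  have hcomap : ∀ (t : X) (ht : t ∈ U),
      (hU.primeIdealOf ⟨t, ht⟩).comap (algebraMap Γ(Y, W) Γ(X, U)) =
        hW.primeIdealOf ⟨f t, hUW ht⟩ := fun t ht =>
    IsAffineOpen.comap_primeIdealOf_appLE W hW U hU hUW ht
  let Q : ↥{x : X | f x = y ∧ x ∈ U} → P.asIdeal.primesOver Γ(X, U) := fun t =>
    ⟨(hU.primeIdealOf ⟨t.1, t.2.2⟩).asIdeal, (hU.primeIdealOf ⟨t.1, t.2.2⟩).isPrime, ⟨by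
      have h := hcomap t.1 t.2.2
      have h' : hW.primeIdealOf ⟨f t.1, hUW t.2.2⟩ = P := by
        rw [hP]; congr 1; exact Subtype.ext t.2.1
      rw [h'] at h
      exact congrArg PrimeSpectrum.asIdeal h.symm⟩⟩
  have hQbij : Function.Bijective Q := by
    constructor
    · intro t t' htt'
      have h : hU.primeIdealOf ⟨t.1, t.2.2⟩ = hU.primeIdealOf ⟨t'.1, t'.2.2⟩ :=
        PrimeSpectrum.ext (congrArg Subtype.val htt')
      have h' := congrArg (fun z : U => (z : X)) (hinjU _ _ h)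
      exact Subtype.ext h'
    · rintro ⟨q, hqp, hqo⟩
      have hrange : hU.fromSpec ⟨q, hqp⟩ ∈ U := by
        have hr : hU.fromSpec ⟨q, hqp⟩ ∈ Set.range hU.fromSpec := Set.mem_range_self _
        rw [hU.range_fromSpec] at hr
        exact hr
      have hprime : hU.primeIdealOf ⟨hU.fromSpec ⟨q, hqp⟩, hrange⟩ = ⟨q, hqp⟩ := by
        apply hU.fromSpec.isOpenEmbedding.injective
        exact hU.fromSpec_primeIdealOf ⟨hU.fromSpec ⟨q, hqp⟩, hrange⟩
      have hπ : f (hU.fromSpec ⟨q, hqp⟩) = y := by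
        have h := hcomap _ hrange
        rw [hprime] at h
        have h' : hW.primeIdealOf ⟨f (hU.fromSpec ⟨q, hqp⟩), hUW hrange⟩ =
            hW.primeIdealOf ⟨y, hy⟩ := by
          rw [← h, ← hP]
          exact PrimeSpectrum.ext hqo.over.symm
        exact congrArg Subtype.val (hinjW _ _ h')
      refine ⟨⟨hU.fromSpec ⟨q, hqp⟩, hπ, hrange⟩, ?_⟩
      apply Subtype.ext
      exact congrArg PrimeSpectrum.asIdeal hprime
  refine ⟨?_, ?_⟩
  · haveI : Finite ↥{x : X | f x = y ∧ x ∈ U} := Finite.of_injective Q hQbij.1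
    exact Set.toFinite _
  · rw [← finsum_set_coe_eq_finsum_mem]
    let G : P.asIdeal.primesOver Γ(X, U) → ℤ := fun q =>
      ((q.1.ramificationIdx Γ(Y, W) * q.1.inertiaDeg Γ(Y, W) : ℕ) : ℤ)
    have hterm : ∀ t : ↥{x : X | f x = y ∧ x ∈ U}, cdeg f t.1 = G (Q t) := by
      intro t
      unfold cdeg
      rw [wt_mul_sepDeg]
      have hc := chart f hW hU hUW t.2.2
      rw [hc.1, hc.2]
    have hsum : ∑ᶠ t : ↥{x : X | f x = y ∧ x ∈ U}, G (Q t) = ∑ᶠ q, G q :=
      finsum_comp_equiv (Equiv.ofBijective Q hQbij)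
    rw [finsum_congr hterm, hsum, finsum_eq_sum_of_fintype]
    simp only [G]
    push_cast
    rfl

lemma exists_isolating_chart (f : X ⟶ Y) [LocallyQuasiFinite f] [LocallyOfFiniteType f] (x : X)
    {W : Y.Opens} (hxW : f x ∈ W) :
    ∃ U : X.Opens, IsAffineOpen U ∧ U ≤ f ⁻¹ᵁ W ∧ x ∈ U ∧ ∀ t ∈ U, f t = f x → t = x := by
  obtain ⟨O, hxO, hO⟩ := FibIntU.exists_open_isolating f x (f.quasiFiniteAt x)
  obtain ⟨_, ⟨U, hU, rfl⟩, hxU, hUle⟩ := X.isBasis_affineOpens.exists_subset_of_mem_open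
    (show x ∈ ((f ⁻¹ᵁ W ⊓ O : X.Opens) : Set X) from ⟨hxW, hxO⟩) (f ⁻¹ᵁ W ⊓ O).2
  exact ⟨U, hU, fun z hz => (hUle hz).1, hxU, fun t ht => hO t (hUle ht).2⟩

end CDeg

section BC

variable {X S T P : Scheme.{u}}

/-- The points of the base change over `(x, t)` have local degrees summing to that of `x`. -/
theorem sum_over_point (f : X ⟶ S) (g : T ⟶ S) (g' : P ⟶ X) (f' : P ⟶ T)
    (hc : IsPullback g' f' f g) [LocallyQuasiFinite f] [LocallyOfFiniteType f] (t : T) (x : X)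
    (hx : f x = g t) :
    {z : P | g' z = x ∧ f' z = t}.Finite ∧
      ∑ᶠ z ∈ {z : P | g' z = x ∧ f' z = t}, cdeg f' z = cdeg f x := by
  haveI : LocallyQuasiFinite f' :=
    MorphismProperty.of_isPullback (P := @LocallyQuasiFinite) hc inferInstance
  obtain ⟨_, ⟨W, hW, rfl⟩, hgtW, -⟩ :=
    S.isBasis_affineOpens.exists_subset_of_mem_open (Set.mem_univ (g t)) isOpen_univ
  have hW : IsAffineOpen W := hW
  have hxW : f x ∈ W := by rw [hx]; exact hgtW
  obtain ⟨U, hU, hUW, hxU, hiso⟩ := exists_isolating_chart f x hxW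
  obtain ⟨_, ⟨W', hW', rfl⟩, htW', hW'W⟩ :=
    T.isBasis_affineOpens.exists_subset_of_mem_open
      (show t ∈ ((g ⁻¹ᵁ W : T.Opens) : Set T) from hgtW) (g ⁻¹ᵁ W).2
  have hW' : IsAffineOpen W' := hW'
  replace hW'W : W' ≤ g ⁻¹ᵁ W := hW'W
  let U' : P.Opens := g' ⁻¹ᵁ U ⊓ f' ⁻¹ᵁ W'
  have hUY : U' = g' ⁻¹ᵁ U ⊓ f' ⁻¹ᵁ W' := rfl
  have hU'U : U' ≤ g' ⁻¹ᵁ U := inf_le_left
  have hU'W' : U' ≤ f' ⁻¹ᵁ W' := inf_le_right
  have : IsAffine (W : Scheme) := hW
  have : IsAffine (U : Scheme) := hU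
  have : IsAffine (W' : Scheme) := hW'
  have hU' : IsAffineOpen U' :=
    .of_isIso (Scheme.Hom.isPullback_resLE hc hW'W hUW hUY).isoPullback.hom
  have hiso' := isIso_pushoutSection_of_isAffineOpen hc hW'W hUW hUY hW hW' hU
  have hpo : IsPushout (f.appLE W U hUW) (g.appLE W W' hW'W) (g'.appLE U U' hU'U)
      (f'.appLE W' U' hU'W') := (isIso_pushoutSection_iff hc hW'W hUW hUY).mp hiso'
  letI algAB : Algebra Γ(S, W) Γ(X, U) := (f.appLE W U hUW).hom.toAlgebra
  letI algAA' : Algebra Γ(S, W) Γ(T, W') := (g.appLE W W' hW'W).hom.toAlgebra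
  letI algBB' : Algebra Γ(X, U) Γ(P, U') := (g'.appLE U U' hU'U).hom.toAlgebra
  letI algA'B' : Algebra Γ(T, W') Γ(P, U') := (f'.appLE W' U' hU'W').hom.toAlgebra
  letI algAB' : Algebra Γ(S, W) Γ(P, U') :=
    ((f'.appLE W' U' hU'W').hom.comp (g.appLE W W' hW'W).hom).toAlgebra
  haveI : IsScalarTower Γ(S, W) Γ(T, W') Γ(P, U') := IsScalarTower.of_algebraMap_eq (fun _ => rfl)
  haveI : IsScalarTower Γ(S, W) Γ(X, U) Γ(P, U') := IsScalarTower.of_algebraMap_eq (fun r => by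
    have := congrArg (fun φ => φ.hom r) hpo.w
    exact this.symm)
  have hpo' : Algebra.IsPushout Γ(S, W) Γ(X, U) Γ(T, W') Γ(P, U') :=
    CommRingCat.isPushout_iff_isPushout.mp hpo
  haveI hpo'' : Algebra.IsPushout Γ(S, W) Γ(T, W') Γ(X, U) Γ(P, U') := hpo'.symm
  set p' := hW'.primeIdealOf ⟨t, htW'⟩ with hp'
  set p := hW.primeIdealOf ⟨g t, hgtW⟩ with hp
  haveI hlies : p'.asIdeal.LiesOver p.asIdeal :=
    ⟨congr($(IsAffineOpen.comap_primeIdealOf_appLE W hW W' hW' hW'W htW').1).symm⟩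
  have hFB := finrank_fiber_baseChange (A := Γ(S, W)) (B := Γ(X, U)) (A' := Γ(T, W'))
    (B' := Γ(P, U')) p.asIdeal p'.asIdeal
  have h1 := sum_chart f' hW' hU' hU'W' t htW'
  have h2 := sum_chart f hW hU hUW (g t) hgtW
  -- the two index sets
  have hset : {z : P | g' z = x ∧ f' z = t} = {z : P | f' z = t ∧ z ∈ U'} := by
    ext z
    simp only [Set.mem_setOf_eq]
    constructor
    · rintro ⟨hz1, hz2⟩
      refine ⟨hz2, ?_, ?_⟩
      · show g' z ∈ U
        rw [hz1]; exact hxU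
      · show f' z ∈ W'
        rw [hz2]; exact htW'
    · rintro ⟨hz2, hzU, -⟩
      refine ⟨hiso (g' z) hzU ?_, hz2⟩
      rw [hx, ← hz2, ← Scheme.Hom.comp_apply, ← Scheme.Hom.comp_apply, hc.w]
  have hsingle : {x' : X | f x' = g t ∧ x' ∈ U} = {x} := by
    ext x'
    simp only [Set.mem_setOf_eq, Set.mem_singleton_iff]
    constructor
    · rintro ⟨h1, h2⟩
      exact hiso x' h2 (h1.trans hx.symm)
    · rintro rfl
      exact ⟨hx, hxU⟩
  rw [hset]
  refine ⟨h1.1, ?_⟩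
  rw [h1.2, hFB, ← h2.2, hsingle, finsum_mem_singleton]

/-- Base change invariance of the fibre degree. -/
theorem fibreIntegral_wt_baseChange (f : X ⟶ S) (g : T ⟶ S) (g' : P ⟶ X) (f' : P ⟶ T)
    (hc : IsPullback g' f' f g) [LocallyQuasiFinite f] [LocallyOfFiniteType f] (t : T)
    (hfin : (f ⁻¹' {g t}).Finite) :
    (f' ⁻¹' {t}).Finite ∧
      MoreMor.fibreIntegral f' (wt f') t = MoreMor.fibreIntegral f (wt f) (g t) := by
  classical
  have hfib : ∀ z : P, f' z = t → f (g' z) = g t := by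
    intro z hz
    rw [← hz, ← Scheme.Hom.comp_apply, ← Scheme.Hom.comp_apply, hc.w]
  have hcover : (f' ⁻¹' {t} : Set P) =
      ⋃ x ∈ (f ⁻¹' {g t} : Set X), {z : P | g' z = x ∧ f' z = t} := by
    ext z
    simp only [Set.mem_preimage, Set.mem_singleton_iff, Set.mem_iUnion, Set.mem_setOf_eq,
      exists_prop]
    constructor
    · intro hz
      exact ⟨g' z, hfib z hz, rfl, hz⟩
    · rintro ⟨x, -, -, hz⟩
      exact hz
  have hfin' : (f' ⁻¹' {t}).Finite := by
    rw [hcover]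
    exact hfin.biUnion fun x hx => (sum_over_point f g g' f' hc t x hx).1
  refine ⟨hfin', ?_⟩
  rw [fibreIntegral_wt_eq, fibreIntegral_wt_eq]
  have hA : {z : P | f' z = t} = (f' ⁻¹' {t} : Set P) := rfl
  have hB : {x : X | f x = g t} = (f ⁻¹' {g t} : Set X) := rfl
  rw [hA, hB, ← hfin'.coe_toFinset, ← hfin.coe_toFinset, finsum_mem_coe_finset,
    finsum_mem_coe_finset]
  have hmaps : ∀ z ∈ hfin'.toFinset, g' z ∈ hfin.toFinset := by
    intro z hz
    rw [Set.Finite.mem_toFinset] at hz ⊢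
    exact hfib z hz
  rw [← Finset.sum_fiberwise_of_maps_to hmaps]
  refine Finset.sum_congr rfl fun x hx => ?_
  rw [Set.Finite.mem_toFinset] at hx
  have hpt := sum_over_point f g g' f' hc t x hx
  rw [← hpt.2, ← hpt.1.coe_toFinset, finsum_mem_coe_finset]
  refine Finset.sum_congr ?_ fun _ _ => rfl
  ext z
  simp only [Finset.mem_filter, Set.Finite.mem_toFinset, Set.mem_preimage,
    Set.mem_singleton_iff, Set.mem_setOf_eq]
  tauto

end BC

section FR

variable {T V : Scheme.{u}}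

/-- Mathlib's rank of a finite flat morphism is the fibre integral of the weight. -/
theorem finrank_eq_fibreIntegral (π : T ⟶ V) [IsFinite π] [Flat π] (v : V) :
    (π.finrank v : ℤ) = MoreMor.fibreIntegral π (wt π) v := by
  obtain ⟨_, ⟨W, hW, rfl⟩, hvW, -⟩ :=
    V.isBasis_affineOpens.exists_subset_of_mem_open (Set.mem_univ v) isOpen_univ
  have hW : IsAffineOpen W := hW
  have hU : IsAffineOpen (π ⁻¹ᵁ W) := hW.preimage π
  rw [fibreIntegral_wt_eq_rank π hW v hvW]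
  congr 1
  have hsq : IsPullback hU.fromSpec (Spec.map (π.appLE W (π ⁻¹ᵁ W) le_rfl)) π hW.fromSpec := by
    refine (IsOpenImmersion.isPullback (Spec.map (π.appLE W (π ⁻¹ᵁ W) le_rfl)) hU.fromSpec
      hW.fromSpec π ?_ ?_).flip
    · exact (IsAffineOpen.SpecMap_appLE_fromSpec π hW hU le_rfl).symm
    · rw [hW.opensRange_fromSpec, hU.opensRange_fromSpec]
  have h1 := Scheme.Hom.finrank_of_isPullback _ _ _ _ hsq (hW.primeIdealOf ⟨v, hvW⟩)
  rw [hW.fromSpec_primeIdealOf] at h1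
  rw [← h1]
  have hfin : (π.appLE W (π ⁻¹ᵁ W) le_rfl).hom.Finite := by
    have h := π.finite_app W hW
    rw [Scheme.Hom.app_eq_appLE] at h
    exact h
  have hflat : (π.appLE W (π ⁻¹ᵁ W) le_rfl).hom.Flat := π.flat_appLE hW hU le_rfl
  rw [Scheme.Hom.finrank_SpecMap_eq_finrank hfin hflat]
  rfl

end FR

end Groth.Agent.Lib.Helper8.WtBC
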