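import Mathlib
import Groth.Prelude.Def_MoreMor
import Groth.Prelude.Def_Mor2
import Groth.Agent.Lib.Helper8.WtBC
import Groth.Agent.Lib.Helper8.FibIntS2
import Groth.Agent.Lib.Helper8.FibIntConstr

/-!
# Stratification by fibre degree for flat, separated, locally quasi-finite morphisms (S1448)
-/

set_option autoImplicit false
universe u
open AlgebraicGeometry CategoryTheory Limits Topology

namespace Groth.Agent.Lib.Helper8.WtStrat

open Groth.Agent.Lib.Helper8.FibInt Groth.Agent.Lib.Helper8.WtSch Groth.Agent.Lib.Helper8.WtBC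
  Groth.Agent.Lib.Helper8.FibIntS Groth.Agent.Lib.Helper8.FibIntS2
  Groth.Agent.Lib.Helper8.FibIntConstr

section Top

/-- Constructible sets of a spectral space are compact. -/
lemma isCompact_of_isConstructible {Y : Type*} [TopologicalSpace Y] [CompactSpace Y]
    [QuasiSeparatedSpace Y] [PrespectralSpace Y] {s : Set Y} (hs : IsConstructible s) :
    IsCompact s := by
  haveI : Nonempty {U : Set Y // IsOpen U ∧ IsCompact U} := ⟨⟨∅, isOpen_empty, isCompact_empty⟩⟩
  refine IsConstructible.induction_of_isTopologicalBasis (P := fun s _ => IsCompact s)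
    (fun i : {U : Set Y // IsOpen U ∧ IsCompact U} => i.1) ?_ (fun i => i.2.2) ?_ ?_ s hs
  · have hr : (Set.range fun i : {U : Set Y // IsOpen U ∧ IsCompact U} => i.1) =
        {U : Set Y | IsOpen U ∧ IsCompact U} := Subtype.range_coe
    rw [hr]
    exact PrespectralSpace.isTopologicalBasis
  · intro i t _
    exact i.2.2.diff (isOpen_biUnion fun j _ => j.2.1)
  · intro s _ t _ hs ht
    exact hs.union ht

/-- Locally constructible subsets of a scheme are retrocompact. -/
lemma isRetrocompact_of_isLocallyConstructible {S : Scheme.{u}} {Z : Set S}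
    (hZ : IsLocallyConstructible Z) : IsRetrocompact Z := by
  intro U hUc hUo
  obtain ⟨s, hs, rfl⟩ :=
    isCompact_and_isOpen_iff_finite_and_eq_biUnion_affineOpens.mp ⟨hUc, hUo⟩
  rw [Set.inter_iUnion₂]
  refine hs.isCompact_biUnion fun V _ => ?_
  haveI : IsAffine (V.1 : Scheme.{u}) := V.2
  have h1 : IsLocallyConstructible (V.1.ι ⁻¹' Z) :=
    hZ.preimage_of_isOpenEmbedding V.1.ι.isOpenEmbedding
  have h2 : IsConstructible (V.1.ι ⁻¹' Z) := h1.isConstructible
  have h3 : IsCompact (V.1.ι ⁻¹' Z) := isCompact_of_isConstructible h2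
  have h4 := h3.image V.1.ι.continuous
  rwa [Set.image_preimage_eq_inter_range, Scheme.Opens.range_ι] at h4

end Top

section Strat

variable {X S : Scheme.{u}} (f : X ⟶ S) [Flat f] [LocallyOfFinitePresentation f] [IsSeparated f]
  [LocallyQuasiFinite f]

/-- The degree of the fibre. -/
noncomputable def deg (s : S) : ℕ := (MoreMor.fibreIntegral f (wt f) s).toNat

omit [Flat f] [IsSeparated f] in
lemma fibreIntegral_nonneg (s : S) : 0 ≤ MoreMor.fibreIntegral f (wt f) s := by
  rw [fibreIntegral_eq']
  exact finsum_nonneg fun x => (cdeg_pos f x.1).le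

omit [Flat f] [IsSeparated f] in
lemma deg_eq_iff (s : S) (r : ℕ) : deg f s = r ↔ MoreMor.fibreIntegral f (wt f) s = r := by
  unfold deg
  have := fibreIntegral_nonneg f s
  omega

omit [Flat f] [IsSeparated f] in
lemma deg_le_iff (s : S) (r : ℕ) : deg f s ≤ r ↔ MoreMor.fibreIntegral f (wt f) s ≤ r := by
  unfold deg
  omega

theorem isClosed_deg_le (hfin : ∀ s : S, (f ⁻¹' {s}).Finite) (r : ℕ) :
    IsClosed {s | deg f s ≤ r} := by
  have hlsc := lowerSemicontinuous_fibreIntegral f hfin (wt f) (isWeighting_wt f) (wt_pos f)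
  have : {s | deg f s ≤ r} = MoreMor.fibreIntegral f (wt f) ⁻¹' Set.Iic (r : ℤ) := by
    ext s
    simp [deg_le_iff]
  rw [this]
  exact hlsc.isClosed_preimage _

theorem finLocFreeOfDeg_iff (hfin : ∀ s : S, (f ⁻¹' {s}).Finite) {T : Scheme.{u}} (g : T ⟶ S)
    (r : ℕ) : Mor2.IsFinLocFreeOfDeg r (pullback.snd f g) ↔ ∀ t : T, deg f (g t) = r := by
  have hc : IsPullback (pullback.fst f g) (pullback.snd f g) f g := IsPullback.of_hasPullback f g
  have hBC := fun t => fibreIntegral_wt_baseChange f g _ _ hc t (hfin (g t))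
  constructor
  · rintro ⟨⟨hfinite, hflat, hlfp⟩, hrank⟩ t
    haveI := hfinite
    rw [deg_eq_iff, ← (hBC t).2, ← finrank_eq_fibreIntegral, hrank t]
  · intro h
    have hconst : ∀ t, MoreMor.fibreIntegral (pullback.snd f g) (wt (pullback.snd f g)) t = r :=
      fun t => by
        rw [(hBC t).2, ← deg_eq_iff]
        exact h t
    have hfin' : ∀ t, ((pullback.snd f g) ⁻¹' {t}).Finite := fun t => (hBC t).1
    obtain ⟨hopen, hfinite⟩ := finite_over_max_locus (pullback.snd f g) hfin' (wt _)
      (isWeighting_wt _) (wt_pos _) (r : ℤ) (fun t => (hconst t).le)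
    have htop : (⟨{t | MoreMor.fibreIntegral (pullback.snd f g) (wt (pullback.snd f g)) t = r},
        hopen⟩ : T.Opens) = ⊤ := by
      ext t
      simp [hconst t]
    rw [htop] at hfinite
    haveI : UniversallyClosed (pullback.snd f g) :=
      (IsZariskiLocalAtTarget.iff_of_iSup_eq_top (P := @UniversallyClosed)
        (fun _ : Unit => (⊤ : T.Opens)) (by simp)).mpr (fun _ => inferInstance)
    haveI : IsProper (pullback.snd f g) :=
      { toIsSeparated := inferInstance
        toUniversallyClosed := inferInstance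
        toLocallyOfFiniteType := inferInstance }
    haveI : IsFinite (pullback.snd f g) := IsFinite.of_isProper_of_locallyQuasiFinite _
    refine ⟨⟨inferInstance, inferInstance, inferInstance⟩, fun t => ?_⟩
    have := finrank_eq_fibreIntegral (pullback.snd f g) t
    rw [hconst t] at this
    exact_mod_cast this

theorem isRetrocompact_deg_eq [QuasiCompact f] (r : ℕ) : IsRetrocompact {s | deg f s = r} := by
  have h := isLocallyConstructible_fibreIntegral_levelSet f (wt f) (isWeighting_wt f) (r : ℤ)
  have : {s | deg f s = r} = {s | MoreMor.fibreIntegral f (wt f) s = r} := by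
    ext s
    exact deg_eq_iff f s r
  rw [this]
  exact isRetrocompact_of_isLocallyConstructible h

theorem main1448 [QuasiCompact f] :
    ∃ deg : ↑S → ℕ, (∀ r : ℕ, IsClosed {s : ↑S | deg s ≤ r}) ∧
      (∀ r : ℕ, IsRetrocompact {s : ↑S | deg s = r}) ∧
      ∀ (T : Scheme.{u}) (g : T ⟶ S) (r : ℕ),
        Mor2.IsFinLocFreeOfDeg r (pullback.snd f g) ↔ ∀ t : T, deg (g t) = r :=
  ⟨deg f, isClosed_deg_le f (fun s => f.finite_preimage_singleton s),
    isRetrocompact_deg_eq f,
    fun T g r => finLocFreeOfDeg_iff f (fun s => f.finite_preimage_singleton s) g r⟩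

end Strat

end Groth.Agent.Lib.Helper8.WtStrat
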