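import Mathlib

/-!
# A local Artin–Tate lemma for essentially finite type algebras

Let `A` be a Noetherian ring, `D` a local `A`-algebra whose residue field is "finitely generated
as a module modulo `𝔪`" over `A` (hypothesis `hΘ`), and `C` a finite injective `D`-algebra which is
essentially of finite type over `A`. Then `D` is essentially of finite type over `A`.
-/

set_option autoImplicit false
set_option linter.style.haveILetI false

open IsLocalRing TensorProduct

universe u

namespace Groth.Agent.Lib.Helper8.ArtinTate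

section Gens

variable (D C : Type u) [CommRing D] [IsLocalRing D] [AddCommGroup C] [Module D C]

theorem one_tmul_surjective (y : ResidueField D ⊗[D] C) :
    ∃ c : C, (1 : ResidueField D) ⊗ₜ[D] c = y := by
  induction y using TensorProduct.induction_on with
  | zero => exact ⟨0, by simp⟩
  | tmul κ c =>
    obtain ⟨d, rfl⟩ := residue_surjective κ
    refine ⟨d • c, ?_⟩
    rw [← TensorProduct.smul_tmul]
    congr 1
    rw [Algebra.smul_def, mul_one]
    rfl
  | add y₁ y₂ h₁ h₂ =>
    obtain ⟨c₁, rfl⟩ := h₁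
    obtain ⟨c₂, rfl⟩ := h₂
    exact ⟨c₁ + c₂, TensorProduct.tmul_add _ _ _⟩

theorem one_tmul_eq_zero_of_mem (x : C)
    (hx : x ∈ (maximalIdeal D) • (⊤ : Submodule D C)) :
    (1 : ResidueField D) ⊗ₜ[D] x = 0 := by
  refine Submodule.smul_induction_on hx (fun m hm c _ => ?_) (fun y z hy hz => ?_)
  · rw [← TensorProduct.smul_tmul, Algebra.smul_def, mul_one]
    have h0 : algebraMap D (ResidueField D) m = 0 := (residue_eq_zero_iff m).mpr hm
    rw [h0, TensorProduct.zero_tmul]
  · rw [TensorProduct.tmul_add, hy, hz, add_zero]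

variable [Module.Finite D C]

theorem exists_good_generators :
    ∃ (n : ℕ) (e : Fin n → C), Submodule.span D (Set.range e) = ⊤ ∧
      ∀ a : Fin n → D, (∑ j, a j • e j) ∈ (maximalIdeal D) • (⊤ : Submodule D C) →
        ∀ j, a j ∈ maximalIdeal D := by
  classical
  let b := Module.finBasis (ResidueField D) (ResidueField D ⊗[D] C)
  have hpre : ∀ i, ∃ c : C, (1 : ResidueField D) ⊗ₜ[D] c = b i :=
    fun i => one_tmul_surjective D C (b i)
  choose e he using hpre
  refine ⟨_, e, IsLocalRing.span_eq_top_of_tmul_eq_basis e b he, fun a ha j => ?_⟩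
  have h0 := one_tmul_eq_zero_of_mem D C _ ha
  rw [TensorProduct.tmul_sum] at h0
  have h1 : ∑ i, (residue D (a i)) • b i = 0 := by
    rw [← h0]
    refine Finset.sum_congr rfl (fun i _ => ?_)
    rw [← he i, TensorProduct.smul_tmul', ← TensorProduct.smul_tmul, smul_eq_mul,
      Algebra.smul_def]
    rfl
  have h2 := Fintype.linearIndependent_iff.mp b.linearIndependent
    (fun i => residue D (a i)) h1 j
  exact (residue_eq_zero_iff _).mp h2

end Gens

section Core

variable (A D₂ D C : Type u) [CommRing A] [CommRing D₂] [CommRing D] [CommRing C]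
  [IsLocalRing D₂] [IsLocalRing D] [IsNoetherianRing D₂]
  [Algebra A D₂] [Algebra A D] [Algebra A C] [Algebra D₂ D] [Algebra D C] [Algebra D₂ C]
  [IsScalarTower A D₂ D] [IsScalarTower A D C] [IsScalarTower D₂ D C] [IsScalarTower A D₂ C]
  [Module.Finite D C] [Algebra.EssFiniteType A D₂]

theorem core (hinj : Function.Injective (algebraMap D C))
    (σ : Finset C)
    (hσ : ∀ s : C, ∃ t ∈ Algebra.adjoin A (σ : Set C), IsUnit t ∧
      s * t ∈ Algebra.adjoin A (σ : Set C))
    (n : ℕ) (e : Fin n → C) (hE1 : Submodule.span D (Set.range e) = ⊤)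
    (hE2 : ∀ a : Fin n → D, (∑ j, a j • e j) ∈ (maximalIdeal D) • (⊤ : Submodule D C) →
      ∀ j, a j ∈ maximalIdeal D)
    (hmul : ∀ i j, e i * e j ∈ Submodule.span D₂ (Set.range e))
    (hone : (1 : C) ∈ Submodule.span D₂ (Set.range e))
    (hgen : ∀ s ∈ σ, s ∈ Submodule.span D₂ (Set.range e))
    (hβ : ∀ d : D, ∃ z : D₂, d - algebraMap D₂ D z ∈ maximalIdeal D) :
    Algebra.EssFiniteType A D := by
  classical
  set R₂ : Submodule D₂ C := Submodule.span D₂ (Set.range e) with hR₂
  have hR₂mul : ∀ x ∈ R₂, ∀ y ∈ R₂, x * y ∈ R₂ := by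
    intro x hx y hy
    have h1 : x * y ∈ R₂ * R₂ := Submodule.mul_mem_mul hx hy
    have h2 : R₂ * R₂ ≤ R₂ := by
      rw [hR₂, Submodule.span_mul_span, Submodule.span_le]
      rintro _ ⟨_, ⟨i, rfl⟩, _, ⟨j, rfl⟩, rfl⟩
      exact hmul i j
    exact h2 h1
  let S₂ : Subalgebra D₂ C :=
    Submodule.toSubalgebra R₂ hone (fun x y hx hy => hR₂mul x hx y hy)
  have hadj : Algebra.adjoin A (σ : Set C) ≤ S₂.restrictScalars A :=
    Algebra.adjoin_le (fun s hs => hgen s hs)
  have hadj' : ∀ t ∈ Algebra.adjoin A (σ : Set C), t ∈ R₂ := fun t ht => hadj ht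
  have hmC : ∀ μ ∈ (maximalIdeal D) • (⊤ : Submodule D C), ∀ t : C,
      t * μ ∈ (maximalIdeal D) • (⊤ : Submodule D C) := by
    intro μ hμ t
    refine Submodule.smul_induction_on hμ (fun m hm c _ => ?_) (fun y z hy hz => ?_)
    · rw [mul_smul_comm]
      exact Submodule.smul_mem_smul hm Submodule.mem_top
    · rw [mul_add]
      exact Submodule.add_mem _ hy hz
  have hsm : ∀ (z : D₂) (c : C), z • c = (algebraMap D₂ D z) • c :=
    fun z c => (algebraMap_smul D z c).symm
  have ha : ∀ c : C, ∃ r ∈ R₂, c - r ∈ (maximalIdeal D) • (⊤ : Submodule D C) := by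
    intro c
    have hc : c ∈ Submodule.span D (Set.range e) := by rw [hE1]; trivial
    obtain ⟨d, rfl⟩ := (Submodule.mem_span_range_iff_exists_fun D).mp hc
    choose z hz using fun j => hβ (d j)
    refine ⟨∑ j, z j • e j, Submodule.sum_mem _ (fun j _ =>
      Submodule.smul_mem _ _ (Submodule.subset_span ⟨j, rfl⟩)), ?_⟩
    rw [← Finset.sum_sub_distrib]
    refine Submodule.sum_mem _ (fun j _ => ?_)
    rw [hsm, ← sub_smul]
    exact Submodule.smul_mem_smul (hz j) Submodule.mem_top
  have hb : ∀ r ∈ R₂, r ∈ (maximalIdeal D) • (⊤ : Submodule D C) →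
      r ∈ (maximalIdeal D₂) • R₂ := by
    intro r hr hrm
    obtain ⟨z, rfl⟩ := (Submodule.mem_span_range_iff_exists_fun D₂).mp hr
    have h1 : ∑ j, (algebraMap D₂ D (z j)) • e j ∈
        (maximalIdeal D) • (⊤ : Submodule D C) := by
      have h0 : ∑ j, (algebraMap D₂ D (z j)) • e j = ∑ j, z j • e j :=
        Finset.sum_congr rfl (fun j _ => (hsm (z j) (e j)).symm)
      rw [h0]; exact hrm
    have h2 := hE2 (fun j => algebraMap D₂ D (z j)) h1
    refine Submodule.sum_mem _ (fun j _ =>
      Submodule.smul_mem_smul ?_ (Submodule.subset_span ⟨j, rfl⟩))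
    by_contra hzj
    have hu : IsUnit (z j) := IsLocalRing.notMem_maximalIdeal.mp hzj
    exact (mem_maximalIdeal _).mp (h2 j) (hu.map (algebraMap D₂ D))
  have hkey : ∀ t ∈ R₂, IsUnit t → ∃ r ∈ R₂, t * r = 1 := by
    intro t ht hu
    obtain ⟨u, hu'⟩ := hu.exists_right_inv
    let N : Submodule D₂ C := R₂.map (LinearMap.mulLeft D₂ t)
    have hNN : R₂ ≤ N ⊔ (maximalIdeal D₂) • R₂ := by
      intro r hr
      obtain ⟨r', hr', hμ⟩ := ha (u * r)
      have h3 : t * (u * r - r') ∈ (maximalIdeal D) • (⊤ : Submodule D C) := hmC _ hμ t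
      have h4 : t * (u * r - r') = r - t * r' := by
        rw [mul_sub, ← mul_assoc, hu', one_mul]
      have h5 : r - t * r' ∈ R₂ := Submodule.sub_mem _ hr (hR₂mul t ht r' hr')
      rw [h4] at h3
      have h6 := hb _ h5 h3
      exact Submodule.mem_sup.mpr ⟨t * r', ⟨r', hr', rfl⟩, r - t * r', h6, by ring⟩
    have hle := Submodule.le_of_le_smul_of_le_jacobson_bot
      (Submodule.fg_span (Set.finite_range e))
      (IsLocalRing.maximalIdeal_le_jacobson ⊥) hNN
    obtain ⟨r, hr, hr1⟩ := hle hone
    exact ⟨r, hr, hr1⟩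
  have htop : R₂ = ⊤ := by
    rw [eq_top_iff]
    intro c _
    obtain ⟨t, ht, htu, hct⟩ := hσ c
    obtain ⟨r, hr, htr⟩ := hkey t (hadj' t ht) htu
    have hc : c = (c * t) * r := by rw [mul_assoc, htr, mul_one]
    rw [hc]
    exact hR₂mul _ (hadj' _ hct) _ hr
  haveI : Module.Finite D₂ C :=
    ⟨by rw [← htop]; exact Submodule.fg_span (Set.finite_range e)⟩
  haveI : IsNoetherian D₂ C := isNoetherian_of_isNoetherianRing_of_finite D₂ C
  haveI : Module.Finite D₂ D :=
    Module.Finite.of_injective ((Algebra.linearMap D C).restrictScalars D₂) hinj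
  haveI : Algebra.EssFiniteType D₂ D := inferInstance
  exact Algebra.EssFiniteType.comp A D₂ D

end Core

section Wrapper

theorem main (A D C : Type u) [CommRing A] [IsNoetherianRing A] [CommRing D] [IsLocalRing D]
    [CommRing C] [Algebra A D] [Algebra A C] [Algebra D C] [IsScalarTower A D C]
    [Module.Finite D C] [Algebra.EssFiniteType A C]
    (hinj : Function.Injective (algebraMap D C))
    (Θ : Finset D)
    (hΘ : ∀ d : D, ∃ a ∈ Algebra.adjoin A (Θ : Set D), d - a ∈ maximalIdeal D) :
    Algebra.EssFiniteType A D := by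
  classical
  obtain ⟨σ, hσ⟩ := (Algebra.essFiniteType_iff A C).mp (inferInstance : Algebra.EssFiniteType A C)
  obtain ⟨n, e, hE1, hE2⟩ := exists_good_generators D C
  have hcoef : ∀ c : C, ∃ a : Fin n → D, ∑ j, a j • e j = c := fun c =>
    (Submodule.mem_span_range_iff_exists_fun D).mp (by rw [hE1]; trivial)
  choose coef hcoef using hcoef
  let G : Set D := (Θ : Set D) ∪
      Set.range (fun ijk : Fin n × Fin n × Fin n => coef (e ijk.1 * e ijk.2.1) ijk.2.2) ∪
      Set.range (fun k : Fin n => coef 1 k) ∪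
      Set.range (fun sk : σ × Fin n => coef (sk.1 : C) sk.2)
  have hGfin : G.Finite :=
    ((Θ.finite_toSet.union (Set.finite_range _)).union (Set.finite_range _)).union
      (Set.finite_range _)
  let D₀ : Subalgebra A D := Algebra.adjoin A G
  haveI : Algebra.FiniteType A D₀ :=
    (Subalgebra.fg_iff_finiteType D₀).mp ⟨hGfin.toFinset, by simp [D₀]⟩
  haveI : IsNoetherianRing D₀ := Algebra.FiniteType.isNoetherianRing A D₀
  let p : Ideal D₀ := (maximalIdeal D).comap (algebraMap D₀ D)
  haveI : p.IsPrime := Ideal.comap_isPrime _ _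
  haveI : IsNoetherianRing (Localization.AtPrime p) :=
    IsLocalization.isNoetherianRing p.primeCompl _ inferInstance
  haveI : Algebra.EssFiniteType D₀ (Localization.AtPrime p) :=
    Algebra.EssFiniteType.of_isLocalization _ p.primeCompl
  haveI : Algebra.EssFiniteType A (Localization.AtPrime p) :=
    Algebra.EssFiniteType.comp A D₀ _
  have hunit : ∀ y : p.primeCompl, IsUnit (algebraMap D₀ D y) := by
    intro y
    have h1 : algebraMap D₀ D y ∉ maximalIdeal D := y.2
    exact IsLocalRing.notMem_maximalIdeal.mp h1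
  let φ : Localization.AtPrime p →+* D :=
    IsLocalization.lift (M := p.primeCompl) (g := algebraMap D₀ D) hunit
  have hφ : ∀ w : D₀, φ (algebraMap D₀ (Localization.AtPrime p) w) = (w : D) :=
    fun w => IsLocalization.lift_eq _ _
  letI algD₂D : Algebra (Localization.AtPrime p) D := φ.toAlgebra
  letI algD₂C : Algebra (Localization.AtPrime p) C := ((algebraMap D C).comp φ).toAlgebra
  haveI : IsScalarTower (Localization.AtPrime p) D C :=
    IsScalarTower.of_algebraMap_eq (fun z => rfl)
  haveI : IsScalarTower A (Localization.AtPrime p) D :=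
    IsScalarTower.of_algebraMap_eq (fun a => by
      show algebraMap A D a = φ (algebraMap A (Localization.AtPrime p) a)
      rw [IsScalarTower.algebraMap_apply A D₀ (Localization.AtPrime p), hφ]
      rfl)
  haveI : IsScalarTower A (Localization.AtPrime p) C :=
    IsScalarTower.of_algebraMap_eq (fun a => by
      show algebraMap A C a = algebraMap D C (φ (algebraMap A (Localization.AtPrime p) a))
      rw [IsScalarTower.algebraMap_apply A D₀ (Localization.AtPrime p), hφ,
        IsScalarTower.algebraMap_apply A D C]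
      rfl)
  have hmemspan : ∀ c : C, (∀ k, coef c k ∈ G) →
      c ∈ Submodule.span (Localization.AtPrime p) (Set.range e) := by
    intro c hc
    rw [← hcoef c]
    refine Submodule.sum_mem _ (fun k _ => ?_)
    set w : D₀ := ⟨coef c k, Algebra.subset_adjoin (hc k)⟩ with hw
    have h1 : (algebraMap D₀ (Localization.AtPrime p) w) • e k = coef c k • e k := by
      rw [← algebraMap_smul D (algebraMap D₀ (Localization.AtPrime p) w) (e k)]
      show φ (algebraMap D₀ (Localization.AtPrime p) w) • e k = _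
      rw [hφ]
    rw [← h1]
    exact Submodule.smul_mem _ _ (Submodule.subset_span ⟨k, rfl⟩)
  refine core A (Localization.AtPrime p) D C hinj σ hσ n e hE1 hE2 ?_ ?_ ?_ ?_
  · intro i j
    exact hmemspan _ (fun k => Or.inl (Or.inl (Or.inr ⟨(i, j, k), rfl⟩)))
  · exact hmemspan _ (fun k => Or.inl (Or.inr ⟨k, rfl⟩))
  · intro s hs
    exact hmemspan _ (fun k => Or.inr ⟨(⟨s, hs⟩, k), rfl⟩)
  · intro d
    obtain ⟨a, ha, hda⟩ := hΘ d
    have haG : a ∈ D₀ :=
      Algebra.adjoin_mono (fun x hx => Or.inl (Or.inl (Or.inl hx))) ha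
    refine ⟨algebraMap D₀ (Localization.AtPrime p) ⟨a, haG⟩, ?_⟩
    show d - φ (algebraMap D₀ (Localization.AtPrime p) ⟨a, haG⟩) ∈ maximalIdeal D
    rw [hφ]
    exact hda

end Wrapper

end Groth.Agent.Lib.Helper8.ArtinTate
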