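import Mathlib

/-!
# The "diagonal idempotent" argument for smooth base change of integral closures

Let `C` be a smooth `A`-algebra, `B` an `A`-algebra such that `C ⊗[A] B` is semisimple, `K` a
`C`-algebra and `ι : B → K` an `A`-algebra map.  If `x : B`, `s : C` and `s • ι x` is integral over
`C`, then `s` lies in the `C`-span of the image of the "conductor"
`{t ∈ B | t integral over A, t * x integral over A}`.
-/

set_option autoImplicit false
set_option linter.style.haveILetI false

open TensorProduct Polynomial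

universe u

namespace Groth.Agent.Lib.Helper8.DiagIdem

theorem aeval_idem_mul {C R : Type*} [CommRing C] [CommRing R] [Algebra C R] (e y : R)
    (he : e * e = e) (p : C[X]) :
    aeval (e * y) (X * p) = e * aeval y (X * p) := by
  induction p using Polynomial.induction_on' with
  | add p q hp hq => rw [mul_add, map_add, map_add, hp, hq, mul_add]
  | monomial n c =>
    have h1 : (X : C[X]) * monomial n c = monomial (n + 1) c := by
      rw [mul_comm, Polynomial.monomial_mul_X]
    rw [h1, Polynomial.aeval_monomial, Polynomial.aeval_monomial, mul_pow,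
      (show e ^ (n + 1) = e from IsIdempotentElem.pow_succ_eq n he)]
    ring

theorem exists_compl_of_isSemisimpleRing (R : Type*) [CommRing R] [IsSemisimpleRing R]
    (I : Ideal R) : ∃ e, e - 1 ∈ I ∧ ∀ a ∈ I, e * a = 0 := by
  obtain ⟨J, hJ⟩ := exists_isCompl I
  have h1 : (1 : R) ∈ I ⊔ J := by rw [hJ.sup_eq_top]; exact Submodule.mem_top
  obtain ⟨i, hi, j, hj, hij⟩ := Submodule.mem_sup.mp h1
  refine ⟨j, ?_, fun a ha => ?_⟩
  · have h2 : j - 1 = -i := by rw [← hij]; ring
    rw [h2]; exact I.neg_mem hi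
  · have h2 : j * a ∈ I ⊓ J :=
      ⟨I.mul_mem_left j ha, by rw [mul_comm]; exact J.mul_mem_left a hj⟩
    rw [hJ.inf_eq_bot] at h2
    exact (Submodule.mem_bot R).mp h2

section

variable (A C B K : Type u) [CommRing A] [CommRing C] [CommRing B] [CommRing K]
  [Algebra A C] [Algebra A B] [Algebra A K] [Algebra C K] [IsScalarTower A C K]
  [Algebra.Smooth A C]

theorem lTensor_eq (w' : C ⊗[A] integralClosure A B) :
    (LinearMap.lTensor C (integralClosure A B).val.toLinearMap) w' =
      ((TensorProduct.toIntegralClosure A C B w' : integralClosure C (C ⊗[A] B)) :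
        C ⊗[A] B) := by
  induction w' using TensorProduct.induction_on with
  | zero => simp
  | tmul c t => rfl
  | add x y hx hy =>
    rw [map_add, map_add, hx, hy]
    rfl

theorem mem_range_of_isIntegral (w : C ⊗[A] B) (hw : IsIntegral C w) :
    ∃ w' : C ⊗[A] integralClosure A B,
      (LinearMap.lTensor C (integralClosure A B).val.toLinearMap) w' = w := by
  obtain ⟨w', hw'⟩ := (TensorProduct.toIntegralClosure_bijective_of_smooth
    (R := A) (S := C) (B := B)).2 ⟨w, hw⟩
  refine ⟨w', ?_⟩
  rw [lTensor_eq, hw']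

theorem main (ι : B →ₐ[A] K)
    (hcompl : ∀ I : Ideal (C ⊗[A] B), ∃ e, e - 1 ∈ I ∧ ∀ a ∈ I, e * a = 0)
    (x : B) (s : C) (hsx : IsIntegral C (algebraMap C K s * ι x)) :
    algebraMap C K s ∈
      Submodule.span C (ι '' {t : B | IsIntegral A t ∧ IsIntegral A (t * x)}) := by
  classical
  let μ : C ⊗[A] B →ₐ[C] K :=
    Algebra.TensorProduct.lift (Algebra.ofId C K) ι (fun _ _ => Commute.all _ _)
  have hμ : ∀ c b, μ (c ⊗ₜ b) = algebraMap C K c * ι b :=
    fun c b => Algebra.TensorProduct.lift_tmul _ _ _ _ _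
  obtain ⟨e, he1, heI⟩ := hcompl (RingHom.ker (μ : C ⊗[A] B →+* K))
  have hμe : μ e = 1 := by
    have h := RingHom.mem_ker.mp he1
    rw [map_sub, map_one, sub_eq_zero] at h
    exact h
  have hee : e * e = e := by
    have h := heI _ he1
    linear_combination h
  set y : C ⊗[A] B := s ⊗ₜ x with hy
  have hμy : μ y = algebraMap C K s * ι x := hμ s x
  obtain ⟨p, hpm, hp⟩ := hsx
  have hp' : aeval (μ y) p = 0 := by
    rw [hμy, Polynomial.aeval_def]; exact hp
  have hpI : aeval y p ∈ RingHom.ker (μ : C ⊗[A] B →+* K) := by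
    rw [RingHom.mem_ker]
    show μ (aeval y p) = 0
    rw [← Polynomial.aeval_algHom_apply]; exact hp'
  have hep : e * aeval y p = 0 := heI _ hpI
  have hey : IsIntegral C (e * y) := by
    refine ⟨X * p, monic_X.mul hpm, ?_⟩
    rw [← Polynomial.aeval_def, aeval_idem_mul e y hee, map_mul, aeval_X]
    calc e * (y * aeval y p) = y * (e * aeval y p) := by ring
      _ = 0 := by rw [hep, mul_zero]
  have hei : IsIntegral C e := by
    refine ⟨X * (X - Polynomial.C 1), monic_X.mul (monic_X_sub_C 1), ?_⟩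
    have h1 := aeval_idem_mul (C := C) e 1 hee (X - Polynomial.C 1)
    rw [mul_one] at h1
    rw [← Polynomial.aeval_def, h1]
    simp
  obtain ⟨e', he'⟩ := mem_range_of_isIntegral A C B e hei
  obtain ⟨z', hz'⟩ := mem_range_of_isIntegral A C B (e * y) hey
  let AB : Subalgebra A B := integralClosure A B
  let g : AB →ₗ[A] B ⧸ AB.toSubmodule :=
    AB.toSubmodule.mkQ ∘ₗ (LinearMap.mulRight A x) ∘ₗ AB.val.toLinearMap
  have hexact := Module.Flat.lTensor_exact C (LinearMap.exact_subtype_ker_map g)
  let jalg : C ⊗[A] AB →ₐ[A] C ⊗[A] B := Algebra.TensorProduct.map (AlgHom.id A C) AB.val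
  have hj : ∀ w, LinearMap.lTensor C AB.val.toLinearMap w = jalg w := by
    intro w
    induction w using TensorProduct.induction_on with
    | zero => simp
    | tmul c t => rfl
    | add a b ha hb => rw [map_add, map_add, ha, hb]
  have hform : ∀ w : C ⊗[A] AB,
      (LinearMap.lTensor C ((LinearMap.mulRight A x) ∘ₗ AB.val.toLinearMap)) w
        = jalg w * ((1 : C) ⊗ₜ[A] x) := by
    intro w
    induction w using TensorProduct.induction_on with
    | zero => simp
    | tmul c t =>
      rw [LinearMap.lTensor_tmul]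
      show _ = (c ⊗ₜ[A] (t : B)) * ((1 : C) ⊗ₜ[A] x)
      rw [Algebra.TensorProduct.tmul_mul_tmul, mul_one]
      rfl
    | add a b ha hb => rw [map_add, map_add, ha, hb, add_mul]
  set w : C ⊗[A] AB := (s ⊗ₜ[A] (1 : AB)) * e' with hw
  have hjs : jalg (s ⊗ₜ[A] (1 : AB)) = s ⊗ₜ[A] (1 : B) := by simp [jalg]
  have hjw : jalg w = (s ⊗ₜ[A] (1 : B)) * e := by
    rw [hw, map_mul, hjs, ← hj e', he']
  have h0 : AB.toSubmodule.mkQ ∘ₗ AB.val.toLinearMap = 0 :=
    LinearMap.ext fun t => (Submodule.Quotient.mk_eq_zero _).mpr t.2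
  have hgw : (g.lTensor C) w = 0 := by
    have hg : g = AB.toSubmodule.mkQ ∘ₗ ((LinearMap.mulRight A x) ∘ₗ AB.val.toLinearMap) := rfl
    rw [hg, LinearMap.lTensor_comp, LinearMap.comp_apply, hform, hjw]
    have h2 : (s ⊗ₜ[A] (1 : B)) * e * ((1 : C) ⊗ₜ[A] x) = e * y := by
      have h3 : (s ⊗ₜ[A] (1 : B)) * ((1 : C) ⊗ₜ[A] x) = y := by
        rw [Algebra.TensorProduct.tmul_mul_tmul, mul_one, one_mul]
      rw [← h3]; ring
    rw [h2, ← hz', ← LinearMap.comp_apply, ← LinearMap.lTensor_comp, h0, LinearMap.lTensor_zero,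
      LinearMap.zero_apply]
  obtain ⟨v, hv⟩ := (hexact w).mp hgw
  have hclaim : ∀ v : C ⊗[A] (LinearMap.ker g),
      μ (jalg ((LinearMap.lTensor C (LinearMap.ker g).subtype) v)) ∈
        Submodule.span C (ι '' {t : B | IsIntegral A t ∧ IsIntegral A (t * x)}) := by
    intro v
    induction v using TensorProduct.induction_on with
    | zero => simp
    | tmul c d =>
      have h1 : μ (jalg ((LinearMap.lTensor C (LinearMap.ker g).subtype) (c ⊗ₜ d))) =
          c • ι ((d : AB) : B) := by
        rw [Algebra.smul_def, ← hμ]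
        rfl
      rw [h1]
      refine Submodule.smul_mem _ c (Submodule.subset_span ⟨((d : AB) : B), ⟨(d : AB).2, ?_⟩, rfl⟩)
      have hd : g (d : AB) = 0 := d.2
      have hd' : ((d : AB) : B) * x ∈ AB.toSubmodule := (Submodule.Quotient.mk_eq_zero _).mp hd
      exact hd'
    | add a b ha hb =>
      rw [map_add, map_add, map_add]
      exact Submodule.add_mem _ ha hb
  have hfin : algebraMap C K s = μ (jalg w) := by
    rw [hjw, map_mul, hμ, hμe, map_one, mul_one, mul_one]
  rw [hfin, ← hv]
  exact hclaim v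

end

end Groth.Agent.Lib.Helper8.DiagIdem
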