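import Mathlib
import Groth.Prelude
import Groth.Agent.Lib.Helper8.NormalSmooth
import Groth.Agent.Lib.Helper8.EssEtOfUnram

/-!
# Utilities on essentially étale local algebras
-/

set_option autoImplicit false

open IsLocalRing TensorProduct

universe u

namespace Groth.Agent.Lib.Helper8.EssEtUtil

/-- Unpacking: an essentially étale local algebra is the localization of an étale algebra. -/
theorem exists_isLocalization (A R : Type u) [CommRing A] [IsLocalRing A] [CommRing R]
    [Algebra A R] (hR : EGA4loc.IsEssentiallyEtale A R) :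
    ∃ (C : Type u) (_ : CommRing C) (_ : Algebra A C) (_ : Algebra C R) (_ : IsScalarTower A C R)
      (q : Ideal C) (_ : q.IsPrime), Algebra.Etale A C ∧ IsLocalization.AtPrime R q := by
  obtain ⟨C, _, _, q, _, hCet, -, ⟨e⟩⟩ := hR
  let γ : C →ₐ[A] R := (e.symm : Localization.AtPrime q →ₐ[A] R).comp
    (IsScalarTower.toAlgHom A C (Localization.AtPrime q))
  letI algCR : Algebra C R := γ.toRingHom.toAlgebra
  haveI : IsScalarTower A C R := IsScalarTower.of_algebraMap_eq (fun a => (γ.commutes a).symm)
  let e' : Localization.AtPrime q ≃ₐ[C] R :=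
    { e.symm.toRingEquiv with commutes' := fun c => rfl }
  have hloc : IsLocalization q.primeCompl R := IsLocalization.isLocalization_of_algEquiv q.primeCompl e'
  exact ⟨C, inferInstance, inferInstance, algCR, inferInstance, q, inferInstance, hCet, hloc⟩

theorem flat_of_essEtale (A R S : Type u) [CommRing A] [IsLocalRing A] [CommRing R] [CommRing S]
    [Algebra A R] [Algebra A S] [Algebra R S] [IsScalarTower A R S] [Module.Flat A S]
    (hR : EGA4loc.IsEssentiallyEtale A R) : Module.Flat R S := by
  obtain ⟨C, _, _, _, _, q, _, hCet, hloc⟩ := exists_isLocalization A R hR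
  let ρ : C →ₐ[A] S := (IsScalarTower.toAlgHom A R S).comp (IsScalarTower.toAlgHom A C R)
  letI algCS : Algebra C S := ρ.toRingHom.toAlgebra
  haveI : IsScalarTower C R S := IsScalarTower.of_algebraMap_eq (fun c => rfl)
  have hflatC : Module.Flat C S :=
    RingHom.flat_algebraMap_iff.mp (EtaleToFlat.flat_of_algHom A C S ρ)
  exact (Module.flat_iff_of_isLocalization R q.primeCompl S).mpr hflatC

theorem essFiniteType_of_essEtale (A R : Type u) [CommRing A] [IsLocalRing A] [CommRing R]
    [Algebra A R] (hR : EGA4loc.IsEssentiallyEtale A R) : Algebra.EssFiniteType A R := by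
  obtain ⟨C, _, _, _, _, q, _, hCet, hloc⟩ := exists_isLocalization A R hR
  haveI : Algebra.FinitePresentation A C := hCet.finitePresentation
  haveI : Algebra.EssFiniteType C R := Algebra.EssFiniteType.of_isLocalization R q.primeCompl
  exact Algebra.EssFiniteType.comp A C R

theorem formallyEtale_of_essEtale (A R : Type u) [CommRing A] [IsLocalRing A] [CommRing R]
    [Algebra A R] (hR : EGA4loc.IsEssentiallyEtale A R) : Algebra.FormallyEtale A R := by
  obtain ⟨C, _, _, _, _, q, _, hCet, hloc⟩ := exists_isLocalization A R hR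
  haveI : Algebra.FormallyEtale A C := hCet.formallyEtale
  haveI : Algebra.FormallyEtale C R := Algebra.FormallyEtale.of_isLocalization q.primeCompl
  exact Algebra.FormallyEtale.comp A C R

theorem normal_of_essEtale (A R : Type u) [CommRing A] [IsLocalRing A] [IsDomain A]
    [IsIntegrallyClosed A] [CommRing R] [Algebra A R] (hR : EGA4loc.IsEssentiallyEtale A R) :
    IsDomain R ∧ IsIntegrallyClosed R := by
  obtain ⟨C, _, _, q, _, hCet, -, ⟨e⟩⟩ := hR
  obtain ⟨hd, hic⟩ := NormalSmooth.isDomain_isIntegrallyClosed_of_etale A C q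
  exact ⟨MulEquiv.isDomain _ e.toRingEquiv.toMulEquiv, IsIntegrallyClosed.of_equiv e.symm.toRingEquiv⟩

theorem essEtale_of_algEquiv (A R R' : Type u) [CommRing A] [IsLocalRing A] [CommRing R]
    [Algebra A R] [CommRing R'] [Algebra A R'] (e : R' ≃ₐ[A] R)
    (hR : EGA4loc.IsEssentiallyEtale A R) : EGA4loc.IsEssentiallyEtale A R' := by
  obtain ⟨C, i1, i2, q, i3, hCet, hq, ⟨e'⟩⟩ := hR
  exact ⟨C, i1, i2, q, i3, hCet, hq, ⟨e.trans e'⟩⟩

/-- A local essentially finite type algebra mapping locally to a flat local algebra with separable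
residue field extension, with `m_A R = m_R`, is essentially étale. -/
theorem essEtale_of_map_maximalIdeal (A S R : Type u) [CommRing A] [IsLocalRing A] [CommRing S]
    [IsLocalRing S] [Algebra A S] [IsLocalHom (algebraMap A S)] [Module.Flat A S]
    [Algebra.IsSeparable (ResidueField A) (ResidueField S)]
    [CommRing R] [IsLocalRing R] [Algebra A R] [Algebra R S] [IsScalarTower A R S]
    [IsLocalHom (algebraMap R S)] [Algebra.EssFiniteType A R]
    (hm : Ideal.map (algebraMap A R) (maximalIdeal A) = maximalIdeal R) :
    EGA4loc.IsEssentiallyEtale A R := by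
  haveI hloc : IsLocalHom (algebraMap A R) := ⟨fun a ha => by
    have h1 : IsUnit (algebraMap R S (algebraMap A R a)) := ha.map _
    rw [← IsScalarTower.algebraMap_apply A R S] at h1
    exact isUnit_of_map_unit (algebraMap A S) a h1⟩
  haveI : Algebra.IsSeparable (ResidueField A) (ResidueField R) :=
    Algebra.isSeparable_tower_bot_of_isSeparable (ResidueField A) (ResidueField R) (ResidueField S)
  haveI : Algebra.FormallyUnramified A R := Algebra.FormallyUnramified.of_map_maximalIdeal hm
  exact EssEtOfUnram.isEssentiallyEtale A S R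

/-- Faithfully flat saturation. -/
theorem exists_eq_of_mul_eq (R S : Type u) [CommRing R] [IsDomain R] [CommRing S] [Algebra R S]
    [Module.FaithfullyFlat R S] (a b : R) (hb : b ≠ 0) (x : S)
    (h : algebraMap R S b * x = algebraMap R S a) : ∃ r, algebraMap R S r = x := by
  have h3 : a ∈ (Ideal.span {b} : Ideal R) := by
    rw [← Ideal.comap_map_eq_self_of_faithfullyFlat (B := S) (Ideal.span {b}), Ideal.mem_comap,
      Ideal.map_span, Set.image_singleton, ← h]
    exact Ideal.mul_mem_right _ _ (Ideal.subset_span rfl)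
  obtain ⟨y, rfl⟩ := Ideal.mem_span_singleton'.mp h3
  refine ⟨y, ?_⟩
  have hreg : IsSMulRegular S (algebraMap R S b) :=
    IsSMulRegular.of_flat ((isRegular_of_ne_zero hb).left.isSMulRegular)
  apply hreg
  simp only [smul_eq_mul]
  rw [h, map_mul, mul_comm]

end Groth.Agent.Lib.Helper8.EssEtUtil
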