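import Mathlib

/-!
# Total rings of fractions of reduced rings with finitely many minimal primes are Artinian;
total ring of fractions of a flat quasi-finite algebra
-/

set_option autoImplicit false

open TensorProduct

universe u

namespace Groth.Agent.Lib.Helper8.TotalFrac

/-- A reduced ring with finitely many primes, all maximal, is Artinian. -/
theorem isArtinianRing_of_reduced (K : Type*) [CommRing K] [IsReduced K]
    [Finite (PrimeSpectrum K)] (hmax : ∀ P : PrimeSpectrum K, P.asIdeal.IsMaximal) :
    IsArtinianRing K := by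
  classical
  have hcop : Pairwise (Function.onFun IsCoprime (fun P : PrimeSpectrum K => P.asIdeal)) := by
    intro P Q hPQ
    change IsCoprime P.asIdeal Q.asIdeal
    rw [Ideal.isCoprime_iff_sup_eq]
    exact (hmax P).coprime_of_ne (hmax Q) (fun h => hPQ (PrimeSpectrum.ext h))
  have hbot : (⨅ P : PrimeSpectrum K, P.asIdeal) = ⊥ := by
    rw [← PrimeSpectrum.nilradical_eq_iInf, nilradical_eq_zero]; rfl
  have hart : ∀ P : PrimeSpectrum K, IsArtinianRing (K ⧸ P.asIdeal) := fun P => by
    have := hmax P
    letI := Ideal.Quotient.field P.asIdeal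
    infer_instance
  let e₁ : (K ⧸ ⨅ P : PrimeSpectrum K, P.asIdeal) ≃+* ∀ P : PrimeSpectrum K, K ⧸ P.asIdeal :=
    Ideal.quotientInfRingEquivPiQuotient _ hcop
  let e₂ : K ≃+* (K ⧸ ⨅ P : PrimeSpectrum K, P.asIdeal) :=
    (RingEquiv.quotientBot K).symm.trans (Ideal.quotEquivOfEq hbot.symm)
  exact (e₂.trans e₁).symm.isArtinianRing

/-- In a reduced ring, a zero divisor lies in a minimal prime. -/
theorem exists_minimalPrime_of_notMem_nonZeroDivisors (A : Type*) [CommRing A] [IsReduced A]
    (x : A) (hx : x ∉ nonZeroDivisors A) : ∃ p ∈ minimalPrimes A, x ∈ p := by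
  rw [mem_nonZeroDivisors_iff_right] at hx
  push_neg at hx
  obtain ⟨y, hxy, hy⟩ := hx
  have hy' : y ∉ nilradical A := by
    rw [nilradical_eq_zero]; exact hy
  rw [nilradical_eq_sInf, Ideal.mem_sInf] at hy'
  push_neg at hy'
  obtain ⟨J, hJ, hyJ⟩ := hy'
  have hJ' : J.IsPrime := hJ
  obtain ⟨p, hp, hpJ⟩ := Ideal.exists_minimalPrimes_le (I := (⊥ : Ideal A)) (J := J) bot_le
  refine ⟨p, hp, ?_⟩
  have hpprime : p.IsPrime := hp.1.1
  have h0 : y * x ∈ p := by rw [hxy]; exact p.zero_mem
  exact (hpprime.mem_or_mem h0).resolve_left (fun h => hyJ (hpJ h))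

/-- A prime of a reduced ring with finitely many minimal primes which consists of zero divisors
is a minimal prime. -/
theorem mem_minimalPrimes_of_disjoint (A : Type*) [CommRing A] [IsReduced A]
    (hmin : (minimalPrimes A).Finite) (P : Ideal A) [hP : P.IsPrime]
    (hd : Disjoint (nonZeroDivisors A : Set A) (P : Set A)) : P ∈ minimalPrimes A := by
  classical
  have hsub : (P : Set A) ⊆ ⋃ p ∈ (hmin.toFinset : Set (Ideal A)), (p : Set A) := by
    intro x hx
    have hx' : x ∉ nonZeroDivisors A := fun h => Set.disjoint_left.mp hd h hx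
    obtain ⟨p, hp, hxp⟩ := exists_minimalPrime_of_notMem_nonZeroDivisors A x hx'
    exact Set.mem_biUnion (by simpa using hp) hxp
  obtain ⟨p, hp, hPp⟩ := (Ideal.subset_union_prime (f := fun p : Ideal A => p) ⊥ ⊥
    (fun i hi _ _ => (hmin.mem_toFinset.mp hi).1.1)).mp hsub
  have hp' : p ∈ minimalPrimes A := hmin.mem_toFinset.mp hp
  have : p ≤ P := hp'.2 ⟨hP, bot_le⟩ hPp
  rwa [le_antisymm hPp this]

/-- The total ring of fractions of a reduced ring with finitely many minimal primes is
Artinian. -/
theorem isArtinianRing_of_isFractionRing (A : Type u) [CommRing A] [IsReduced A]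
    (hmin : (minimalPrimes A).Finite) (K : Type u) [CommRing K] [Algebra A K]
    [IsFractionRing A K] : IsArtinianRing K := by
  classical
  haveI : IsReduced K := isReduced_localizationPreserves (nonZeroDivisors A) K inferInstance
  -- every prime of `K` contracts to a minimal prime
  have hcomap : ∀ P : PrimeSpectrum K,
      P.asIdeal.comap (algebraMap A K) ∈ minimalPrimes A := fun P => by
    have h := (IsLocalization.isPrime_iff_isPrime_disjoint (nonZeroDivisors A) K P.asIdeal).mp
      P.isPrime
    haveI := h.1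
    exact mem_minimalPrimes_of_disjoint A hmin _ h.2
  have hinj := PrimeSpectrum.localization_comap_injective K (nonZeroDivisors A)
  haveI : Finite (minimalPrimes A) := hmin
  haveI : Finite (PrimeSpectrum K) := by
    refine Finite.of_injective
      (fun P : PrimeSpectrum K => (⟨_, hcomap P⟩ : minimalPrimes A)) ?_
    intro P Q hPQ
    apply hinj
    ext1
    exact congrArg Subtype.val hPQ
  refine isArtinianRing_of_reduced K (fun P => ?_)
  obtain ⟨Q, hQmax, hPQ⟩ := Ideal.exists_le_maximal P.asIdeal P.isPrime.ne_top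
  have hQprime : Q.IsPrime := hQmax.isPrime
  have h1 : P.asIdeal.comap (algebraMap A K) ≤ Q.comap (algebraMap A K) := Ideal.comap_mono hPQ
  have h2 : Q.comap (algebraMap A K) ≤ P.asIdeal.comap (algebraMap A K) :=
    (hcomap ⟨Q, hQprime⟩).2 ⟨Ideal.comap_isPrime _ _, bot_le⟩ h1
  have h3 : (⟨Q, hQprime⟩ : PrimeSpectrum K) = P := by
    apply hinj
    ext1
    exact le_antisymm h2 h1
  have h4 : Q = P.asIdeal := congrArg PrimeSpectrum.asIdeal h3
  rw [← h4]; exact hQmax

end Groth.Agent.Lib.Helper8.TotalFrac
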