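import Mathlib
import Groth.Agent.Lib.Helper8.TotalFrac

/-!
# Total ring of fractions of a flat quasi-finite algebra over a reduced ring with finitely many
minimal primes
-/

set_option autoImplicit false

open TensorProduct

universe u

namespace Groth.Agent.Lib.Helper8.TotalFrac

attribute [local instance] Algebra.TensorProduct.rightAlgebra

section

variable (A E : Type u) [CommRing A] [IsReduced A] [CommRing E] [Algebra A E] [Module.Flat A E]
  [Algebra.QuasiFinite A E]

theorem algebraMapSubmonoid_le_nonZeroDivisors :
    Algebra.algebraMapSubmonoid E (nonZeroDivisors A) ≤ nonZeroDivisors E := by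
  rintro _ ⟨a, ha, rfl⟩
  have hreg : IsSMulRegular A a := fun x y h => by
    have h1 : a * (x - y) = 0 := by
      rw [mul_sub, sub_eq_zero]; exact h
    have := (mem_nonZeroDivisors_iff.mp ha).1 _ h1
    exact sub_eq_zero.mp this
  have hreg' : IsSMulRegular E (algebraMap A E a) := IsSMulRegular.of_flat hreg
  rw [mem_nonZeroDivisors_iff_right]
  intro z hz
  apply hreg'
  change algebraMap A E a • z = algebraMap A E a • 0
  rw [smul_zero, smul_eq_mul, mul_comm]
  exact hz

variable (hmin : (minimalPrimes A).Finite)
include hmin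

theorem finite_tensor : Module.Finite (FractionRing A) (FractionRing A ⊗[A] E) := by
  haveI := isArtinianRing_of_isFractionRing A hmin (FractionRing A)
  exact Module.Finite.of_quasiFinite

theorem isFractionRing_tensor : IsFractionRing E (FractionRing A ⊗[A] E) := by
  haveI := isArtinianRing_of_isFractionRing A hmin (FractionRing A)
  haveI := finite_tensor A E hmin
  haveI : IsArtinianRing (FractionRing A ⊗[A] E) :=
    IsArtinianRing.of_finite (FractionRing A) _
  have hloc : IsLocalization (Algebra.algebraMapSubmonoid E (nonZeroDivisors A))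
      (FractionRing A ⊗[A] E) := inferInstance
  refine IsLocalization.of_le (Algebra.algebraMapSubmonoid E (nonZeroDivisors A))
    (nonZeroDivisors E) (algebraMapSubmonoid_le_nonZeroDivisors A E) (fun x hx => ?_)
  apply IsArtinianRing.isUnit_of_mem_nonZeroDivisors
  exact IsLocalization.map_nonZeroDivisors_le
    (Algebra.algebraMapSubmonoid E (nonZeroDivisors A)) _ ⟨x, hx, rfl⟩

/-- The total ring of fractions of `E` is obtained by inverting the nonzerodivisors of `A`. -/
theorem isLocalization_fractionRing :
    IsLocalization ((nonZeroDivisors A).map (algebraMap A E)) (FractionRing E) := by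
  haveI := isFractionRing_tensor A E hmin
  have hloc : IsLocalization (Algebra.algebraMapSubmonoid E (nonZeroDivisors A))
      (FractionRing A ⊗[A] E) := inferInstance
  let e : (FractionRing A ⊗[A] E) ≃ₐ[E] FractionRing E :=
    IsLocalization.algEquiv (nonZeroDivisors E) _ _
  exact IsLocalization.isLocalization_of_algEquiv
    (Algebra.algebraMapSubmonoid E (nonZeroDivisors A)) e

/-- The total ring of fractions of `E` is finite over that of `A`. -/
theorem exists_finset_span :
    ∃ t : Finset (FractionRing E), ∀ x : FractionRing E, ∃ a ∈ nonZeroDivisors A,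
      algebraMap A (FractionRing E) a * x ∈ Submodule.span A (t : Set (FractionRing E)) := by
  classical
  haveI := isFractionRing_tensor A E hmin
  haveI := finite_tensor A E hmin
  let e : (FractionRing A ⊗[A] E) ≃ₐ[E] FractionRing E :=
    IsLocalization.algEquiv (nonZeroDivisors E) _ _
  let eA : (FractionRing A ⊗[A] E) ≃ₐ[A] FractionRing E := e.restrictScalars A
  obtain ⟨s, hs⟩ := (Module.Finite.fg_top :
    (⊤ : Submodule (FractionRing A) (FractionRing A ⊗[A] E)).FG)
  refine ⟨s.image eA, fun x => ?_⟩
  -- it suffices to treat `y = eA.symm x`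
  suffices h : ∀ y : FractionRing A ⊗[A] E, ∃ a ∈ nonZeroDivisors A,
      a • y ∈ Submodule.span A (s : Set (FractionRing A ⊗[A] E)) by
    obtain ⟨a, ha, hay⟩ := h (eA.symm x)
    refine ⟨a, ha, ?_⟩
    have h1 : eA (a • eA.symm x) ∈ Submodule.span A ((s.image eA : Finset _) : Set _) := by
      rw [Finset.coe_image]
      have h2 := Submodule.mem_map_of_mem (f := eA.toLinearMap) hay
      rw [Submodule.map_span] at h2
      exact h2
    rw [map_smul, AlgEquiv.apply_symm_apply, Algebra.smul_def] at h1
    exact h1
  intro y
  have hy : y ∈ Submodule.span (FractionRing A) (s : Set (FractionRing A ⊗[A] E)) := by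
    rw [hs]; trivial
  refine Submodule.span_induction (p := fun y _ => ∃ a ∈ nonZeroDivisors A,
      a • y ∈ Submodule.span A (s : Set (FractionRing A ⊗[A] E))) ?_ ?_ ?_ ?_ hy
  · intro z hz
    exact ⟨1, one_mem _, by rw [one_smul]; exact Submodule.subset_span hz⟩
  · exact ⟨1, one_mem _, by rw [smul_zero]; exact Submodule.zero_mem _⟩
  · rintro z w - - ⟨a, ha, haz⟩ ⟨b, hb, hbw⟩
    refine ⟨a * b, mul_mem ha hb, ?_⟩
    rw [smul_add]
    refine Submodule.add_mem _ ?_ ?_
    · rw [mul_comm, mul_smul]; exact Submodule.smul_mem _ _ haz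
    · rw [mul_smul]; exact Submodule.smul_mem _ _ hbw
  · rintro c z - ⟨a, ha, haz⟩
    obtain ⟨⟨r, d⟩, hrd⟩ := IsLocalization.surj (nonZeroDivisors A) c
    refine ⟨(d : A) * a, mul_mem d.2 ha, ?_⟩
    have h1 : ((d : A) * a) • (c • z) = r • (a • z) := by
      rw [mul_smul, smul_comm a c z, ← algebraMap_smul (FractionRing A) (d : A) (c • a • z),
        ← mul_smul, mul_comm, hrd, algebraMap_smul]
    rw [h1]
    exact Submodule.smul_mem _ _ haz

end

end Groth.Agent.Lib.Helper8.TotalFrac
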