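import Mathlib
import Groth.Agent.Lib.Helper8.TotalFracEt

/-!
# Intermediate rings of the total ring of fractions of a flat quasi-finite algebra contain the
inverses of their units
-/

set_option autoImplicit false

open TensorProduct

universe u

namespace Groth.Agent.Lib.Helper8.TotalFrac

/-- Over an Artinian ring, a subalgebra of an integral algebra contains the inverses of those of
its elements which are units of the algebra. -/
theorem exists_inv_mem_subalgebra (K F : Type*) [CommRing K] [IsArtinianRing K] [CommRing F]
    [Algebra K F] [Algebra.IsIntegral K F] (L : Subalgebra K F) (l : F) (hl : l ∈ L)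
    (hu : IsUnit l) : ∃ m ∈ L, l * m = 1 := by
  let B := Algebra.adjoin K {l}
  let b : B := ⟨l, Algebra.self_mem_adjoin_singleton K l⟩
  haveI : Module.Finite K B :=
    Algebra.finite_adjoin_simple_of_isIntegral (Algebra.IsIntegral.isIntegral l)
  haveI : IsArtinianRing B := isArtinian_of_tower K inferInstance
  have hb : b ∈ nonZeroDivisors B := by
    rw [mem_nonZeroDivisors_iff_right]
    intro z hz
    have h1 : (z : F) * l = 0 := congrArg Subtype.val hz
    have h2 : (z : F) = 0 := by
      obtain ⟨u, rfl⟩ := hu
      rwa [Units.mul_left_eq_zero] at h1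
    exact Subtype.ext h2
  obtain ⟨c, hc⟩ := (IsArtinianRing.isUnit_of_mem_nonZeroDivisors hb).exists_right_inv
  have hBL : B ≤ L := Algebra.adjoin_le (by simpa using hl)
  exact ⟨c, hBL c.2, congrArg Subtype.val hc⟩

attribute [local instance] Algebra.TensorProduct.rightAlgebra

variable (A E : Type u) [CommRing A] [IsReduced A] [CommRing E] [Algebra A E] [Module.Flat A E]
  [Algebra.QuasiFinite A E] (hmin : (minimalPrimes A).Finite)
include hmin

/-- An `A`-subalgebra of the total ring of fractions of `E` containing the inverses of the
nonzerodivisors of `A` contains the inverses of its units. -/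
theorem exists_inv_mem (L : Subalgebra A (FractionRing E))
    (hL : ∀ s ∈ nonZeroDivisors A, ∃ y ∈ L, algebraMap A (FractionRing E) s * y = 1)
    (l : FractionRing E) (hl : l ∈ L) (hu : IsUnit l) : ∃ m ∈ L, l * m = 1 := by
  classical
  haveI := isFractionRing_tensor A E hmin
  haveI := finite_tensor A E hmin
  haveI := isArtinianRing_of_isFractionRing A hmin (FractionRing A)
  let e : (FractionRing A ⊗[A] E) ≃ₐ[E] FractionRing E :=
    IsLocalization.algEquiv (nonZeroDivisors E) _ _
  let eA : (FractionRing A ⊗[A] E) ≃ₐ[A] FractionRing E := e.restrictScalars A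
  letI algKF : Algebra (FractionRing A) (FractionRing E) :=
    ((eA : (FractionRing A ⊗[A] E) →+* FractionRing E).comp
      (algebraMap (FractionRing A) (FractionRing A ⊗[A] E))).toAlgebra
  have halg : ∀ c : FractionRing A, algebraMap (FractionRing A) (FractionRing E) c =
      eA (algebraMap (FractionRing A) (FractionRing A ⊗[A] E) c) := fun c => rfl
  haveI tower : IsScalarTower A (FractionRing A) (FractionRing E) :=
    IsScalarTower.of_algebraMap_eq (fun a => by
      rw [halg, ← IsScalarTower.algebraMap_apply A (FractionRing A) (FractionRing A ⊗[A] E),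
        AlgEquiv.commutes])
  let eK : (FractionRing A ⊗[A] E) →ₐ[FractionRing A] FractionRing E :=
    { (eA : (FractionRing A ⊗[A] E) →+* FractionRing E) with commutes' := fun c => rfl }
  have heK : Function.Surjective eK := eA.surjective
  haveI : Module.Finite (FractionRing A) (FractionRing E) :=
    Module.Finite.of_surjective eK.toLinearMap heK
  haveI : Algebra.IsIntegral (FractionRing A) (FractionRing E) := Algebra.IsIntegral.of_finite _ _
  -- `L` is a `K`-subalgebra
  have hK : ∀ c : FractionRing A, algebraMap (FractionRing A) (FractionRing E) c ∈ L := by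
    intro c
    obtain ⟨⟨r, d⟩, hrd⟩ := IsLocalization.surj (nonZeroDivisors A) c
    obtain ⟨y, hyL, hy⟩ := hL d d.2
    have h1 : algebraMap (FractionRing A) (FractionRing E) c *
        algebraMap A (FractionRing E) (d : A) = algebraMap A (FractionRing E) r := by
      rw [IsScalarTower.algebraMap_apply A (FractionRing A) (FractionRing E),
        IsScalarTower.algebraMap_apply A (FractionRing A) (FractionRing E), ← map_mul, hrd]
    have h2 : algebraMap (FractionRing A) (FractionRing E) c =
        algebraMap A (FractionRing E) r * y := by
      rw [← h1, mul_assoc, hy, mul_one]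
    rw [h2]
    exact L.mul_mem (L.algebraMap_mem r) hyL
  let LK : Subalgebra (FractionRing A) (FractionRing E) :=
    { L.toSubsemiring with algebraMap_mem' := hK }
  obtain ⟨m, hm, hlm⟩ := exists_inv_mem_subalgebra (FractionRing A) (FractionRing E) LK l hl hu
  exact ⟨m, hm, hlm⟩

end Groth.Agent.Lib.Helper8.TotalFrac
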