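import Mathlib
import Groth.Prelude
import Groth.Agent.Lib.Helper8.TotalFracSub
import Groth.Agent.Lib.Helper4.NagRed

/-!
# Finiteness of the integral closure of a Nagata reduced ring in the total ring of fractions of a
flat quasi-finite reduced algebra
-/

set_option autoImplicit false
set_option linter.style.haveILetI false

open TensorProduct

universe u

namespace Groth.Agent.Lib.Helper8.FiniteIC

attribute [local instance] Algebra.TensorProduct.rightAlgebra

variable (A E : Type u) [CommRing A] [IsReduced A] [CommRing E] [Algebra A E] [Module.Flat A E]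
  [Algebra.QuasiFinite A E] (hmin : (minimalPrimes A).Finite)
include hmin

/-- Every element of the total ring of fractions of `E` has a multiple by a nonzerodivisor of `A`
which is integral over `A`. -/
theorem exists_nzd_mul_isIntegral (x : FractionRing E) :
    ∃ a ∈ nonZeroDivisors A, IsIntegral A (algebraMap A (FractionRing E) a * x) := by
  classical
  haveI := TotalFrac.isFractionRing_tensor A E hmin
  haveI := TotalFrac.finite_tensor A E hmin
  let e : (FractionRing A ⊗[A] E) ≃ₐ[E] FractionRing E :=
    IsLocalization.algEquiv (nonZeroDivisors E) _ _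
  let eA : (FractionRing A ⊗[A] E) ≃ₐ[A] FractionRing E := e.restrictScalars A
  letI algKF : Algebra (FractionRing A) (FractionRing E) :=
    ((eA : (FractionRing A ⊗[A] E) →+* FractionRing E).comp
      (algebraMap (FractionRing A) (FractionRing A ⊗[A] E))).toAlgebra
  have halg : ∀ c : FractionRing A, algebraMap (FractionRing A) (FractionRing E) c =
      eA (algebraMap (FractionRing A) (FractionRing A ⊗[A] E) c) := fun c => rfl
  haveI tower : IsScalarTower A (FractionRing A) (FractionRing E) :=
    IsScalarTower.of_algebraMap_eq (fun a => by
      rw [halg, ← IsScalarTower.algebraMap_apply A (FractionRing A) (FractionRing A ⊗[A] E),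
        AlgEquiv.commutes])
  let eK : (FractionRing A ⊗[A] E) →ₐ[FractionRing A] FractionRing E :=
    { (eA : (FractionRing A ⊗[A] E) →+* FractionRing E) with commutes' := fun c => rfl }
  have heK : Function.Surjective eK := eA.surjective
  haveI : Module.Finite (FractionRing A) (FractionRing E) :=
    Module.Finite.of_surjective eK.toLinearMap heK
  haveI : Algebra.IsIntegral (FractionRing A) (FractionRing E) := Algebra.IsIntegral.of_finite _ _
  obtain ⟨⟨m, hm⟩, hmx⟩ := IsIntegral.exists_multiple_integral_of_isLocalization
    (nonZeroDivisors A) x (Algebra.IsIntegral.isIntegral (R := FractionRing A) x)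
  refine ⟨m, hm, ?_⟩
  simpa only [Submonoid.smul_def, Algebra.smul_def] using hmx

theorem isUnit_algebraMap_of_mem_nonZeroDivisors (a : A) (ha : a ∈ nonZeroDivisors A) :
    IsUnit (algebraMap A (FractionRing E) a) := by
  have h1 : algebraMap A E a ∈ nonZeroDivisors E :=
    TotalFrac.algebraMapSubmonoid_le_nonZeroDivisors A E ⟨a, ha, rfl⟩
  have h2 := IsLocalization.map_units (FractionRing E) (⟨_, h1⟩ : nonZeroDivisors E)
  rw [IsScalarTower.algebraMap_apply A E (FractionRing E)]
  exact h2

/-- The integral closure of a Nagata ring `A` in the total ring of fractions of `E` is a finite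
`A`-module. -/
theorem fg_integralClosure [IsReduced E] (hNag : CAlg.IsNagata A) :
    (integralClosure A (FractionRing E)).toSubmodule.FG := by
  classical
  haveI : IsReduced (FractionRing E) :=
    isReduced_localizationPreserves (nonZeroDivisors E) _ inferInstance
  obtain ⟨t, ht⟩ := TotalFrac.exists_finset_span A E hmin
  choose m hm hmint using exists_nzd_mul_isIntegral A E hmin
  set M : A := ∏ i ∈ t, m i with hM
  have hMmem : M ∈ nonZeroDivisors A := prod_mem (fun i _ => hm i)
  let gen : Set (FractionRing E) :=
    (fun i => algebraMap A (FractionRing E) (m i) * i) '' (t : Set (FractionRing E))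
  have hgenfin : gen.Finite := (t.finite_toSet).image _
  have hgenint : ∀ y ∈ gen, IsIntegral A y := by
    rintro _ ⟨i, -, rfl⟩
    exact hmint i
  let T : Subalgebra A (FractionRing E) := Algebra.adjoin A gen
  haveI : Module.Finite A T := Algebra.finite_adjoin_of_finite_of_isIntegral hgenfin hgenint
  have hTint : ∀ z : T, IsIntegral A (z : FractionRing E) := fun z =>
    (Algebra.IsIntegral.isIntegral (R := A) z).map T.val
  have hMt : ∀ i ∈ t, algebraMap A (FractionRing E) M * i ∈ T := by
    intro i hi
    have h1 : M = (∏ j ∈ t.erase i, m j) * m i := by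
      rw [hM, mul_comm]; exact (Finset.mul_prod_erase t m hi).symm
    rw [h1, map_mul, mul_assoc]
    exact T.mul_mem (T.algebraMap_mem _) (Algebra.subset_adjoin ⟨i, hi, rfl⟩)
  have hβ : ∀ q : FractionRing E, ∃ u : FractionRing E, IsUnit u ∧ u ∈ T ∧ u * q ∈ T := by
    intro q
    obtain ⟨a, ha, haq⟩ := ht q
    refine ⟨algebraMap A (FractionRing E) (M * a),
      isUnit_algebraMap_of_mem_nonZeroDivisors A E hmin _ (mul_mem hMmem ha),
      T.algebraMap_mem _, ?_⟩
    have hW : Submodule.span A (t : Set (FractionRing E)) ≤
        (Subalgebra.toSubmodule T).comap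
          (LinearMap.mulLeft A (algebraMap A (FractionRing E) M)) := by
      rw [Submodule.span_le]
      intro i hi
      exact hMt i hi
    have h2 := hW haq
    rw [map_mul, mul_assoc]
    exact h2
  haveI hfinT : Module.Finite T (integralClosure T (FractionRing E)) :=
    Groth.Agent.Lib.Helper4.NagRed.finite_integralClosure_of_units A hNag (FractionRing E) T hβ
  haveI : Module.Finite A (integralClosure T (FractionRing E)) :=
    Module.Finite.trans T (integralClosure T (FractionRing E))
  let φ : (integralClosure T (FractionRing E)) →ₗ[A] FractionRing E :=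
    ((integralClosure T (FractionRing E)).val.toLinearMap).restrictScalars A
  have hrange : LinearMap.range φ = (integralClosure A (FractionRing E)).toSubmodule := by
    ext z
    constructor
    · rintro ⟨w, rfl⟩
      have hw : IsIntegral T ((w : FractionRing E)) := w.2
      have hTA : Algebra.IsIntegral A T := Algebra.IsIntegral.of_finite A T
      exact isIntegral_trans (R := A) (A := T) _ hw
    · intro hz
      have hz' : IsIntegral A z := hz
      exact ⟨⟨z, hz'.tower_top⟩, rfl⟩
  rw [← hrange]
  exact (Module.Finite.fg_top).map φ |> fun h => by rwa [Submodule.map_top] at h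

end Groth.Agent.Lib.Helper8.FiniteIC
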