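import Mathlib
import Groth.Agent.Lib.Helper8.TotalFrac
import Groth.Agent.Lib.Helper8.TotalFracEt

/-!
# Total rings of fractions finite over the total ring of fractions of a reduced base
-/

set_option autoImplicit false

open TensorProduct

universe u

namespace Groth.Agent.Lib.Helper8.TotalFrac

attribute [local instance] Algebra.TensorProduct.rightAlgebra

/-- Clearing denominators in a span. -/
theorem exists_smul_mem_span_of_mem_span (A : Type u) [CommRing A] (V : Type u) [AddCommGroup V]
    [Module A V] [Module (FractionRing A) V] [IsScalarTower A (FractionRing A) V]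
    (s : Set V) (y : V) (hy : y ∈ Submodule.span (FractionRing A) s) :
    ∃ a ∈ nonZeroDivisors A, a • y ∈ Submodule.span A s := by
  refine Submodule.span_induction (p := fun y _ => ∃ a ∈ nonZeroDivisors A,
      a • y ∈ Submodule.span A s) ?_ ?_ ?_ ?_ hy
  · intro z hz
    exact ⟨1, one_mem _, by rw [one_smul]; exact Submodule.subset_span hz⟩
  · exact ⟨1, one_mem _, by rw [smul_zero]; exact Submodule.zero_mem _⟩
  · rintro z w - - ⟨a, ha, haz⟩ ⟨b, hb, hbw⟩
    refine ⟨a * b, mul_mem ha hb, ?_⟩
    rw [smul_add]
    refine Submodule.add_mem _ ?_ ?_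
    · rw [mul_comm, mul_smul]; exact Submodule.smul_mem _ _ haz
    · rw [mul_smul]; exact Submodule.smul_mem _ _ hbw
  · rintro c z - ⟨a, ha, haz⟩
    obtain ⟨⟨r, d⟩, hrd⟩ := IsLocalization.surj (nonZeroDivisors A) c
    refine ⟨(d : A) * a, mul_mem d.2 ha, ?_⟩
    have h1 : ((d : A) * a) • (c • z) = r • (a • z) := by
      rw [mul_smul, smul_comm a c z, ← algebraMap_smul (FractionRing A) (d : A) (c • a • z),
        ← mul_smul, mul_comm, hrd, algebraMap_smul]
    rw [h1]
    exact Submodule.smul_mem _ _ haz

/-- Generators of the `K`-span of an `A`-submodule can be chosen in the submodule. -/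
theorem exists_finset_subset_span (A : Type u) [CommRing A] (V : Type u) [AddCommGroup V]
    [Module A V] [Module (FractionRing A) V] [IsScalarTower A (FractionRing A) V]
    [IsNoetherian (FractionRing A) V] (N : Submodule A V) :
    ∃ t : Finset V, (t : Set V) ⊆ N ∧ ∀ d ∈ N, ∃ b ∈ nonZeroDivisors A,
      b • d ∈ Submodule.span A (t : Set V) := by
  have hfg : (Submodule.span (FractionRing A) (N : Set V)).FG := IsNoetherian.noetherian _
  obtain ⟨t, htN, ht⟩ := (Submodule.fg_span_iff_fg_span_finset_subset (N : Set V)).mp hfg
  refine ⟨t, htN, fun d hd => ?_⟩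
  have h1 : d ∈ Submodule.span (FractionRing A) (t : Set V) := by
    rw [← ht]; exact Submodule.subset_span hd
  exact exists_smul_mem_span_of_mem_span A V _ d h1

section gen

variable (A D : Type u) [CommRing A] [IsReduced A] [CommRing D] [Algebra A D]
  (hle : Algebra.algebraMapSubmonoid D (nonZeroDivisors A) ≤ nonZeroDivisors D)
  (hmin : (minimalPrimes A).Finite)
  [hfin : Module.Finite (FractionRing A) (FractionRing A ⊗[A] D)]

include hle hmin hfin

theorem isFractionRing_tensor_gen : IsFractionRing D (FractionRing A ⊗[A] D) := by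
  haveI := isArtinianRing_of_isFractionRing A hmin (FractionRing A)
  haveI : IsArtinianRing (FractionRing A ⊗[A] D) :=
    IsArtinianRing.of_finite (FractionRing A) _
  have hloc : IsLocalization (Algebra.algebraMapSubmonoid D (nonZeroDivisors A))
      (FractionRing A ⊗[A] D) := inferInstance
  refine IsLocalization.of_le (Algebra.algebraMapSubmonoid D (nonZeroDivisors A))
    (nonZeroDivisors D) hle (fun x hx => ?_)
  apply IsArtinianRing.isUnit_of_mem_nonZeroDivisors
  exact IsLocalization.map_nonZeroDivisors_le
    (Algebra.algebraMapSubmonoid D (nonZeroDivisors A)) _ ⟨x, hx, rfl⟩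

theorem exists_finset_span_gen :
    ∃ t : Finset (FractionRing D), ∀ x : FractionRing D, ∃ a ∈ nonZeroDivisors A,
      algebraMap A (FractionRing D) a * x ∈ Submodule.span A (t : Set (FractionRing D)) := by
  classical
  haveI := isFractionRing_tensor_gen A D hle hmin
  let e : (FractionRing A ⊗[A] D) ≃ₐ[D] FractionRing D :=
    IsLocalization.algEquiv (nonZeroDivisors D) _ _
  let eA : (FractionRing A ⊗[A] D) ≃ₐ[A] FractionRing D := e.restrictScalars A
  obtain ⟨s, hs⟩ := (Module.Finite.fg_top :
    (⊤ : Submodule (FractionRing A) (FractionRing A ⊗[A] D)).FG)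
  refine ⟨s.image eA, fun x => ?_⟩
  obtain ⟨a, ha, hay⟩ := exists_smul_mem_span_of_mem_span A (FractionRing A ⊗[A] D)
    (s : Set (FractionRing A ⊗[A] D)) (eA.symm x) (by rw [hs]; trivial)
  refine ⟨a, ha, ?_⟩
  have h1 : eA (a • eA.symm x) ∈ Submodule.span A ((s.image eA : Finset _) : Set _) := by
    rw [Finset.coe_image]
    have h2 := Submodule.mem_map_of_mem (f := eA.toLinearMap) hay
    rw [Submodule.map_span] at h2
    exact h2
  rw [map_smul, AlgEquiv.apply_symm_apply, Algebra.smul_def] at h1
  exact h1

end gen

/-- If the total ring of fractions of `D` is finitely generated over that of `A`, then `D` is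
"finite over `A` up to nonzerodivisors of `A`". -/
theorem exists_finset_of_fg (A D : Type u) [CommRing A] [IsReduced A]
    (hmin : (minimalPrimes A).Finite) [CommRing D] [IsReduced D] [Algebra A D]
    (hle : Algebra.algebraMapSubmonoid D (nonZeroDivisors A) ≤ nonZeroDivisors D)
    (hfg : ∃ t : Finset (FractionRing D), ∀ x : FractionRing D, ∃ a ∈ nonZeroDivisors A,
      algebraMap A (FractionRing D) a * x ∈ Algebra.adjoin A (t : Set (FractionRing D))) :
    ∃ t' : Finset D, ∀ d : D, ∃ b ∈ nonZeroDivisors A,
      b • d ∈ Submodule.span A (t' : Set D) := by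
  classical
  obtain ⟨t, ht⟩ := hfg
  have hunit : ∀ a : nonZeroDivisors A, IsUnit (algebraMap A (FractionRing D) a) := fun a => by
    rw [IsScalarTower.algebraMap_apply A D (FractionRing D)]
    exact IsLocalization.map_units (FractionRing D)
      (⟨algebraMap A D a, hle ⟨a, a.2, rfl⟩⟩ : nonZeroDivisors D)
  letI algKR : Algebra (FractionRing A) (FractionRing D) :=
    (IsLocalization.lift (M := nonZeroDivisors A) (g := algebraMap A (FractionRing D))
      hunit).toAlgebra
  haveI : IsScalarTower A (FractionRing A) (FractionRing D) :=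
    IsScalarTower.of_algebraMap_eq (fun a => (IsLocalization.lift_eq hunit a).symm)
  haveI : IsArtinianRing (FractionRing A) := isArtinianRing_of_isFractionRing A hmin (FractionRing A)
  -- finite type
  haveI : Algebra.FiniteType (FractionRing A) (FractionRing D) := by
    refine ⟨⟨t, ?_⟩⟩
    rw [eq_top_iff]
    intro x _
    obtain ⟨a, ha, hax⟩ := ht x
    have h1 : Algebra.adjoin A (t : Set (FractionRing D)) ≤
        (Algebra.adjoin (FractionRing A) (t : Set (FractionRing D))).restrictScalars A :=
      Algebra.adjoin_le (fun y hy => Algebra.subset_adjoin hy)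
    have h2 : algebraMap A (FractionRing D) a * x ∈
        Algebra.adjoin (FractionRing A) (t : Set (FractionRing D)) := h1 hax
    obtain ⟨k, hk⟩ := (IsLocalization.map_units (FractionRing A) (⟨a, ha⟩ : nonZeroDivisors A)).exists_left_inv
    have h3 : x = k • (algebraMap A (FractionRing D) a * x) := by
      rw [IsScalarTower.algebraMap_apply A (FractionRing A) (FractionRing D), Algebra.smul_def,
        ← mul_assoc, ← map_mul, hk, map_one, one_mul]
    rw [h3]
    exact Subalgebra.smul_mem _ h2 k
  haveI : IsReduced (FractionRing D) :=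
    isReduced_localizationPreserves (nonZeroDivisors D) (FractionRing D) inferInstance
  haveI : IsNoetherianRing (FractionRing D) :=
    Algebra.FiniteType.isNoetherianRing (FractionRing A) (FractionRing D)
  have hminR : (minimalPrimes (FractionRing D)).Finite :=
    minimalPrimes.finite_of_isNoetherianRing (FractionRing D)
  -- nonzerodivisors of the total ring of fractions are units
  have hnzdunit : ∀ x ∈ nonZeroDivisors (FractionRing D), IsUnit x := by
    intro x hx
    obtain ⟨⟨d, e⟩, hde⟩ := IsLocalization.surj (nonZeroDivisors D) x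
    have he : IsUnit (algebraMap D (FractionRing D) e) := IsLocalization.map_units _ e
    have hd : d ∈ nonZeroDivisors D := by
      rw [mem_nonZeroDivisors_iff_left]
      intro z hz
      have h1 : x * algebraMap D (FractionRing D) e * algebraMap D (FractionRing D) z = 0 := by
        rw [hde, ← map_mul, hz, map_zero]
      have h2 : x * (algebraMap D (FractionRing D) e * algebraMap D (FractionRing D) z) = 0 := by
        rw [← mul_assoc]; exact h1
      have h3 := (mem_nonZeroDivisors_iff_left.mp hx) _ h2
      have h4 : algebraMap D (FractionRing D) z = 0 := by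
        have := congrArg (fun w => ((he.unit⁻¹ : (FractionRing D)ˣ) : FractionRing D) * w) h3
        simpa [← mul_assoc] using this
      exact IsFractionRing.injective D (FractionRing D) (by rw [h4, map_zero])
    have hdu : IsUnit (algebraMap D (FractionRing D) d) :=
      IsLocalization.map_units _ (⟨d, hd⟩ : nonZeroDivisors D)
    rw [← hde] at hdu
    exact (IsUnit.mul_iff.mp hdu).1
  -- finitely many primes
  have hPmin : ∀ P : PrimeSpectrum (FractionRing D), P.asIdeal ∈ minimalPrimes (FractionRing D) := by
    intro P
    refine mem_minimalPrimes_of_disjoint (FractionRing D) hminR P.asIdeal ?_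
    rw [Set.disjoint_left]
    intro x hx hxP
    exact P.2.ne_top (Ideal.eq_top_of_isUnit_mem _ hxP (hnzdunit x hx))
  haveI : Finite (PrimeSpectrum (FractionRing D)) := by
    haveI : Finite (minimalPrimes (FractionRing D)) := hminR.to_subtype
    exact Finite.of_injective (fun P : PrimeSpectrum (FractionRing D) =>
      (⟨P.asIdeal, hPmin P⟩ : minimalPrimes (FractionRing D)))
      (fun P Q h => PrimeSpectrum.ext (congrArg Subtype.val h))
  haveI : Algebra.QuasiFinite (FractionRing A) (FractionRing D) :=
    Algebra.QuasiFinite.iff_finite_comap_preimage_singleton.mpr (fun x => Set.toFinite _)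
  haveI : Module.Finite (FractionRing A) (FractionRing D) := Module.Finite.of_quasiFinite
  haveI : IsNoetherian (FractionRing A) (FractionRing D) :=
    isNoetherian_of_isNoetherianRing_of_finite (FractionRing A) (FractionRing D)
  -- generators in the image of `D`
  obtain ⟨s, hsN, hs⟩ := exists_finset_subset_span A (FractionRing D)
    (LinearMap.range ((Algebra.linearMap D (FractionRing D)).restrictScalars A))
  obtain ⟨t', -, ht'⟩ : ∃ t' : Finset D, (t' : Set D) ⊆ Set.univ ∧
      t'.image (algebraMap D (FractionRing D)) = s := by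
    rw [← Finset.subset_set_image_iff]
    intro x hx
    obtain ⟨d, rfl⟩ := hsN hx
    exact ⟨d, trivial, rfl⟩
  refine ⟨t', fun d => ?_⟩
  obtain ⟨b, hb, hbd⟩ := hs (algebraMap D (FractionRing D) d) ⟨d, rfl⟩
  refine ⟨b, hb, ?_⟩
  rw [← ht', Finset.coe_image] at hbd
  have h1 : Submodule.span A ((algebraMap D (FractionRing D)) '' (t' : Set D)) =
      (Submodule.span A (t' : Set D)).map
        ((Algebra.linearMap D (FractionRing D)).restrictScalars A) := by
    rw [Submodule.map_span]; rfl
  rw [h1] at hbd
  obtain ⟨y, hy, hyd⟩ := hbd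
  have h2 : y = b • d := by
    apply IsFractionRing.injective D (FractionRing D)
    have : algebraMap D (FractionRing D) y = b • algebraMap D (FractionRing D) d := hyd
    rw [this, Algebra.smul_def, Algebra.smul_def, map_mul,
      ← IsScalarTower.algebraMap_apply A D (FractionRing D)]
  rw [← h2]; exact hy

end Groth.Agent.Lib.Helper8.TotalFrac
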