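import Mathlib
import Groth.Prelude
import Groth.Agent.Lib.Helper8.TotalFracGen
import Groth.Agent.Lib.Helper8.EssEtUtil
import Groth.Agent.Lib.Helper8.Hzl.Union
import Groth.Agent.Lib.Helper8.Hzl.Reduced
import Groth.Agent.Lib.Helper8.Hzl.Transfer

/-!
# Intermediate rings of a strict henselization with finitely generated total ring of fractions
-/

set_option autoImplicit false

open IsLocalRing TensorProduct

universe u

namespace Groth.Agent.Lib.Helper8.FracFgIff

theorem flat_base_of_essEtale (A R : Type u) [CommRing A] [IsLocalRing A] [CommRing R]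
    [Algebra A R] (hR : EGA4loc.IsEssentiallyEtale A R) : Module.Flat A R := by
  obtain ⟨C, _, _, _, _, q, _, hCet, hloc⟩ := EssEtUtil.exists_isLocalization A R hR
  haveI : Module.Flat A C := inferInstance
  haveI : Module.Flat C R := IsLocalization.flat R q.primeCompl
  exact Module.Flat.trans A C R

theorem quasiFinite_of_essEtale (A R : Type u) [CommRing A] [IsLocalRing A] [CommRing R]
    [Algebra A R] (hR : EGA4loc.IsEssentiallyEtale A R) : Algebra.QuasiFinite A R := by
  obtain ⟨C, _, _, _, _, q, _, hCet, hloc⟩ := EssEtUtil.exists_isLocalization A R hR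
  haveI : Algebra.QuasiFinite A C := inferInstance
  exact Algebra.QuasiFinite.of_isLocalization (R := A) (S := C) (T := R) q.primeCompl

/-- Faithfully flat saturation, for a nonzerodivisor. -/
theorem exists_eq_of_mul_eq' (R S : Type u) [CommRing R] [CommRing S] [Algebra R S]
    [Module.FaithfullyFlat R S] (a b : R) (hb : b ∈ nonZeroDivisors R) (x : S)
    (h : algebraMap R S b * x = algebraMap R S a) : ∃ r, algebraMap R S r = x := by
  have h3 : a ∈ (Ideal.span {b} : Ideal R) := by
    rw [← Ideal.comap_map_eq_self_of_faithfullyFlat (B := S) (Ideal.span {b}), Ideal.mem_comap,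
      Ideal.map_span, Set.image_singleton, ← h]
    exact Ideal.mul_mem_right _ _ (Ideal.subset_span rfl)
  obtain ⟨y, rfl⟩ := Ideal.mem_span_singleton'.mp h3
  refine ⟨y, ?_⟩
  have hreg0 : IsSMulRegular R b := fun x y h => by
    have h1 : b * (x - y) = 0 := by
      rw [mul_sub, sub_eq_zero]; exact h
    have := (mem_nonZeroDivisors_iff.mp hb).1 _ h1
    exact sub_eq_zero.mp this
  have hreg : IsSMulRegular S (algebraMap R S b) := IsSMulRegular.of_flat hreg0
  apply hreg
  simp only [smul_eq_mul]
  rw [h, map_mul, mul_comm]

theorem main (A S : Type u) [CommRing A] [IsLocalRing A] [IsReduced A]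
    (hmin : (minimalPrimes A).Finite)
    [CommRing S] [IsLocalRing S] [Algebra A S] [IsLocalHom (algebraMap A S)]
    [Hensel.IsStrictHenselization A S] (D : Subalgebra A S) [IsLocalRing D]
    [IsLocalHom (algebraMap D S)] :
    (∃ t : Finset (FractionRing D), ∀ x : FractionRing D, ∃ a ∈ nonZeroDivisors A,
        algebraMap A (FractionRing D) a * x ∈ Algebra.adjoin A (t : Set (FractionRing D))) ↔
      ∃ E : Subalgebra A S, D ≤ E ∧ ∃ _ : IsLocalRing E, EGA4loc.IsEssentiallyEtale A E := by
  classical
  haveI : Module.Flat A S := Hzl.strictHenselization_flat A S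
  haveI : IsReduced S := (Hzl.strictHenselization_isReduced_iff A S).mp inferInstance
  haveI : IsReduced D := isReduced_of_injective D.val Subtype.val_injective
  have hregS : ∀ a ∈ nonZeroDivisors A, IsSMulRegular S (algebraMap A S a) := by
    intro a ha
    have hreg0 : IsSMulRegular A a := fun x y h => by
      have h1 : a * (x - y) = 0 := by
        rw [mul_sub, sub_eq_zero]; exact h
      have := (mem_nonZeroDivisors_iff.mp ha).1 _ h1
      exact sub_eq_zero.mp this
    exact IsSMulRegular.of_flat hreg0
  have hle : Algebra.algebraMapSubmonoid D (nonZeroDivisors A) ≤ nonZeroDivisors D := by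
    rintro _ ⟨a, ha, rfl⟩
    rw [mem_nonZeroDivisors_iff_right]
    intro z hz
    have h1 : (z : S) * algebraMap A S a = 0 := congrArg Subtype.val hz
    apply Subtype.ext
    apply hregS a ha
    simp only [smul_eq_mul]
    rw [mul_comm, h1]
    simp
  constructor
  · intro hfg
    obtain ⟨t', ht'⟩ := TotalFrac.exists_finset_of_fg A D hmin hle hfg
    obtain ⟨E, hsE, hEloc, hElh, hEet⟩ := Hzl.exists_essEtale_subalgebra A S (t'.image D.val)
    haveI := hEloc
    haveI := hElh
    refine ⟨E, ?_, hEloc, hEet⟩
    intro d hd
    obtain ⟨b, hb, hbd⟩ := ht' ⟨d, hd⟩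
    have h1 : algebraMap A S b * d ∈ E := by
      have h2 : (Submodule.span A (t' : Set D)).map D.val.toLinearMap ≤
          Subalgebra.toSubmodule E := by
        rw [Submodule.map_span, Submodule.span_le]
        rintro _ ⟨y, hy, rfl⟩
        exact hsE (by simpa using Finset.mem_image_of_mem D.val hy)
      have h3 := h2 (Submodule.mem_map_of_mem hbd)
      have h4 : D.val.toLinearMap (b • (⟨d, hd⟩ : D)) = algebraMap A S b * d := by
        change b • d = _
        rw [Algebra.smul_def]
      rw [h4] at h3
      exact h3
    haveI : Module.Flat A E := flat_base_of_essEtale A E hEet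
    haveI : Algebra.QuasiFinite A E := quasiFinite_of_essEtale A E hEet
    haveI : Module.Flat E S := EssEtUtil.flat_of_essEtale A E S hEet
    haveI : Module.FaithfullyFlat E S := Module.FaithfullyFlat.of_flat_of_isLocalHom
    have hbE : algebraMap A E b ∈ nonZeroDivisors E :=
      TotalFrac.algebraMapSubmonoid_le_nonZeroDivisors A E ⟨b, hb, rfl⟩
    obtain ⟨r, hr⟩ := exists_eq_of_mul_eq' E S ⟨_, h1⟩ (algebraMap A E b) hbE d rfl
    rw [← hr]
    exact r.2
  · rintro ⟨E, hDE, hEloc, hEet⟩
    haveI := hEloc
    haveI : Module.Flat A E := flat_base_of_essEtale A E hEet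
    haveI : Algebra.QuasiFinite A E := quasiFinite_of_essEtale A E hEet
    haveI : IsArtinianRing (FractionRing A) :=
      TotalFrac.isArtinianRing_of_isFractionRing A hmin _
    haveI : Module.Finite (FractionRing A) (FractionRing A ⊗[A] E) :=
      TotalFrac.finite_tensor A E hmin
    haveI : IsNoetherian (FractionRing A) (FractionRing A ⊗[A] E) :=
      isNoetherian_of_isNoetherianRing_of_finite _ _
    have hιinj : Function.Injective (Subalgebra.inclusion hDE).toLinearMap :=
      Subalgebra.inclusion_injective hDE
    have hinj : Function.Injective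
        ((Subalgebra.inclusion hDE).toLinearMap.baseChange (FractionRing A)) := by
      rw [LinearMap.baseChange_eq_ltensor]
      exact Module.Flat.lTensor_preserves_injective_linearMap _ hιinj
    haveI : Module.Finite (FractionRing A) (FractionRing A ⊗[A] D) :=
      Module.Finite.of_injective _ hinj
    obtain ⟨t, ht⟩ := TotalFrac.exists_finset_span_gen A D hle hmin
    exact ⟨t, fun x => by
      obtain ⟨a, ha, hax⟩ := ht x
      exact ⟨a, ha, Algebra.span_le_adjoin A _ hax⟩⟩

end Groth.Agent.Lib.Helper8.FracFgIff
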