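import Mathlib
import Groth.Prelude
import Groth.Agent.Lib.Helper8.Hzl.Main
import Groth.Agent.Lib.Helper8.Hzl.Noeth
import Groth.Agent.S9237
import Groth.Agent.Lib.Helper8.PInsepBranches
import Groth.Agent.Lib.Helper8.TotalFracSub
import Groth.Agent.Lib.Helper8.TotalFracEt
import Groth.Agent.Lib.Helper8.FracFgIff
import Groth.Agent.Lib.Helper8.EtaleReducedLoc

/-!
# The intersection of an intermediate ring of total fraction rings with the normalization
(EGA IV 18.x: `C = L ∩ E'` is semilocal, integrally closed in `L`)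
-/

set_option autoImplicit false
set_option linter.style.haveILetI false
open IsLocalRing
universe u

namespace Groth.Agent.Lib.Helper8.InterNorm

section General

theorem isIntegral_residueField_of_quasiFinite (A E : Type*) [CommRing A] [IsLocalRing A]
    [CommRing E] [IsLocalRing E] [Algebra A E] [IsLocalHom (algebraMap A E)]
    [Algebra.QuasiFinite A E] :
    Algebra.IsIntegral (ResidueField A) (ResidueField E) := by
  haveI : Algebra.QuasiFinite A (ResidueField E) :=
    inferInstanceAs (Algebra.QuasiFinite A (E ⧸ maximalIdeal E))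
  haveI : Algebra.QuasiFinite (ResidueField A) (ResidueField E) :=
    Algebra.QuasiFinite.of_restrictScalars A _ _
  haveI : Module.Finite (ResidueField A) (ResidueField E) := Module.Finite.of_quasiFinite
  infer_instance

/-- Contraction of a maximal ideal along an `A`-subalgebra-like map, when the ambient ring is
integral over a local `A`-algebra with algebraic residue extension. -/
theorem comap_isMaximal_of_integral {A E B C : Type*} [CommRing A] [IsLocalRing A] [CommRing E]
    [IsLocalRing E] [Algebra A E] [IsLocalHom (algebraMap A E)]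
    [Algebra.IsIntegral (ResidueField A) (ResidueField E)]
    [CommRing B] [Algebra A B] [CommRing C] [Algebra A C]
    (φ : E →+* B) (hφ : φ.IsIntegral) (hφA : ∀ a, φ (algebraMap A E a) = algebraMap A B a)
    (ι : C →ₐ[A] B) (M : Ideal B) [hM : M.IsMaximal] : (M.comap ι).IsMaximal := by
  haveI hME : (M.comap φ).IsMaximal := Ideal.isMaximal_comap_of_isIntegral_of_isMaximal' φ hφ M
  have hME' : M.comap φ = maximalIdeal E := IsLocalRing.eq_maximalIdeal hME
  have hmA : ∀ a ∈ maximalIdeal A, algebraMap A B a ∈ M := by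
    intro a ha
    have h1 : algebraMap A E a ∈ maximalIdeal E := by
      rw [mem_maximalIdeal, mem_nonunits_iff]
      intro hu
      exact (mem_maximalIdeal a).mp ha (isUnit_of_map_unit (algebraMap A E) a hu)
    rw [← hME', Ideal.mem_comap, hφA] at h1
    exact h1
  have hπφ : ((Ideal.Quotient.mk M).comp φ).IsIntegral :=
    RingHom.IsIntegral.trans φ (Ideal.Quotient.mk M) hφ
      (RingHom.isIntegral_of_surjective _ Ideal.Quotient.mk_surjective)
  have hker : ∀ e ∈ maximalIdeal E, ((Ideal.Quotient.mk M).comp φ) e = 0 := by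
    intro e he
    rw [RingHom.comp_apply, Ideal.Quotient.eq_zero_iff_mem, ← Ideal.mem_comap, hME']
    exact he
  let ψ : ResidueField E →+* B ⧸ M :=
    Ideal.Quotient.lift (maximalIdeal E) ((Ideal.Quotient.mk M).comp φ) hker
  have hψ : ψ.comp (residue E) = (Ideal.Quotient.mk M).comp φ := by
    ext e; rfl
  have hψint : ψ.IsIntegral :=
    RingHom.IsIntegral.tower_top (residue E) ψ (by rw [hψ]; exact hπφ)
  have hAk : (algebraMap A (ResidueField E)).IsIntegral := by
    haveI : Algebra.IsIntegral A (ResidueField A) :=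
      Algebra.isIntegral_of_surjective (by
        intro x
        obtain ⟨a, rfl⟩ := residue_surjective x
        exact ⟨a, rfl⟩)
    haveI : Algebra.IsIntegral A (ResidueField E) :=
      Algebra.IsIntegral.trans (R := A) (B := ResidueField E) (ResidueField A)
    exact algebraMap_isIntegral_iff.mpr inferInstance
  have hcomp : algebraMap A (B ⧸ M) = ψ.comp (algebraMap A (ResidueField E)) := by
    ext a
    have h1 : algebraMap A (ResidueField E) a = residue E (algebraMap A E a) := rfl
    rw [RingHom.comp_apply, h1]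
    show _ = (Ideal.Quotient.mk M) (φ (algebraMap A E a))
    rw [hφA]
    rfl
  haveI hBM : Algebra.IsIntegral A (B ⧸ M) :=
    algebraMap_isIntegral_iff.mp (by rw [hcomp]; exact RingHom.IsIntegral.trans _ _ hAk hψint)
  haveI hPprime : (M.comap ι).IsPrime := Ideal.comap_isPrime ι M
  let ῑ : C ⧸ M.comap ι →ₐ[A] B ⧸ M := Ideal.quotientMapₐ M ι le_rfl
  have hῑ : Function.Injective ῑ := by
    rw [injective_iff_map_eq_zero]
    intro x hx
    obtain ⟨c, rfl⟩ := Ideal.Quotient.mk_surjective x
    have h1 : ῑ (Ideal.Quotient.mk _ c) = Ideal.Quotient.mk M (ι c) := rfl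
    rw [h1, Ideal.Quotient.eq_zero_iff_mem] at hx
    exact Ideal.Quotient.eq_zero_iff_mem.mpr hx
  haveI : Algebra.IsIntegral A (C ⧸ M.comap ι) := Algebra.IsIntegral.of_injective ῑ hῑ
  haveI : IsDomain (C ⧸ M.comap ι) := Ideal.Quotient.isDomain _
  haveI : (⊥ : Ideal (C ⧸ M.comap ι)).IsPrime := Ideal.bot_prime
  have hcomap : (⊥ : Ideal (C ⧸ M.comap ι)).comap (algebraMap A (C ⧸ M.comap ι)) =
      maximalIdeal A := by
    apply le_antisymm
    · exact le_maximalIdeal (Ideal.IsPrime.ne_top (Ideal.comap_isPrime _ _))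
    · intro a ha
      rw [Ideal.mem_comap, Ideal.mem_bot]
      have h1 : algebraMap A (C ⧸ M.comap ι) a = Ideal.Quotient.mk _ (algebraMap A C a) := rfl
      rw [h1, Ideal.Quotient.eq_zero_iff_mem, Ideal.mem_comap, ι.commutes]
      exact hmA a ha
  have hbot : (⊥ : Ideal (C ⧸ M.comap ι)).IsMaximal :=
    Ideal.isMaximal_of_isIntegral_of_isMaximal_comap (R := A) ⊥
      (by rw [hcomap]; exact maximalIdeal.isMaximal A)
  exact (Ideal.bot_quotient_isMaximal_iff _).mp hbot

/-- Maximal ideals of a subring whose units are detected in a semilocal overring. -/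
theorem maximal_iff_of_units {A B C : Type*} [CommRing A] [CommRing B] [Algebra A B]
    [CommRing C] [Algebra A C]
    (j : C →ₐ[A] B) (hU : ∀ c : C, IsUnit (j c) → IsUnit c)
    (hF : {M : Ideal B | M.IsMaximal}.Finite)
    (hMx : ∀ M : Ideal B, M.IsMaximal → (M.comap j).IsMaximal) :
    (∀ N : Ideal C, N.IsMaximal ↔ ∃ M : Ideal B, M.IsMaximal ∧ N = M.comap j) ∧
      {N : Ideal C | N.IsMaximal}.Finite := by
  classical
  have h3 : ∀ N : Ideal C, N.IsMaximal ↔ ∃ M : Ideal B, M.IsMaximal ∧ N = M.comap j := by
    intro N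
    constructor
    · intro hN
      have hsub : (N : Set C) ⊆
          ⋃ M ∈ (↑hF.toFinset : Set (Ideal B)), ((M.comap j : Ideal C) : Set C) := by
        intro c hc
        have hcu : ¬ IsUnit c := fun hu => hN.ne_top (Ideal.eq_top_of_isUnit_mem N hc hu)
        have hju : ¬ IsUnit (j c) := fun hu => hcu (hU c hu)
        obtain ⟨M, hM, hcM⟩ := exists_max_ideal_of_mem_nonunits (mem_nonunits_iff.mpr hju)
        exact Set.mem_iUnion₂.mpr ⟨M, Finset.mem_coe.mpr (hF.mem_toFinset.mpr hM), hcM⟩
      obtain ⟨M, hMs, hle⟩ :=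
        (Ideal.subset_union_prime (s := hF.toFinset) (f := fun M : Ideal B => M.comap j) ⊤ ⊤
          (fun M hM _ _ => by
            have hM' : M.IsMaximal := hF.mem_toFinset.mp hM
            haveI := hM'.isPrime
            exact Ideal.comap_isPrime j M)).mp hsub
      have hM' : M.IsMaximal := hF.mem_toFinset.mp hMs
      haveI := hM'.isPrime
      have hpr : (M.comap j).IsPrime := Ideal.comap_isPrime j M
      exact ⟨M, hM', hN.eq_of_le hpr.ne_top hle⟩
    · rintro ⟨M, hM, rfl⟩
      exact hMx M hM
  refine ⟨h3, ?_⟩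
  refine Set.Finite.subset (hF.image (fun M : Ideal B => M.comap j)) ?_
  intro N hN
  obtain ⟨M, hM, rfl⟩ := (h3 N).mp hN
  exact ⟨M, hM, rfl⟩

end General

section Fin

/-- The integral closure of a noetherian reduced local ring in its total ring of fractions is
semilocal. -/
theorem finite_maximalSpectrum_integralClosure (R : Type u) [CommRing R] [IsLocalRing R]
    [IsReduced R] [IsNoetherianRing R] :
    Finite (MaximalSpectrum (integralClosure R (FractionRing R))) := by
  have hfinR : (minimalPrimes R).Finite := minimalPrimes.finite_of_isNoetherianRing R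
  haveI := Hzl.isHenselization R
  haveI hnRh : IsNoetherianRing (Hzl.Hens R) :=
    (Hzl.henselization_isNoetherianRing_iff R (Hzl.Hens R)).1 inferInstance
  haveI : Finite (minimalPrimes (Hzl.Hens R)) :=
    (minimalPrimes.finite_of_isNoetherianRing _).to_subtype
  have hB : Brnch.numBranches R = ENat.card (MaximalSpectrum (CAlg2.normRed R)) := by
    unfold Brnch.numBranches
    rw [if_pos hfinR]
  have h37 := Groth.Agent.S9237.result R (Hzl.Hens R)
  haveI : Finite (MaximalSpectrum (CAlg2.normRed R)) :=
    PInsep.finite_of_card_eq (β := minimalPrimes (Hzl.Hens R)) (by rw [← hB]; exact h37.symm)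
  obtain ⟨θ, -⟩ := PInsep.exists_ringEquiv_integralClosure_normRed R
  let g : MaximalSpectrum (integralClosure R (FractionRing R)) →
      MaximalSpectrum (CAlg2.normRed R) := fun M =>
    ⟨M.asIdeal.comap (θ.symm : CAlg2.normRed R →+* integralClosure R (FractionRing R)),
      haveI := M.isMaximal
      Ideal.comap_isMaximal_of_surjective _ θ.symm.surjective⟩
  refine Finite.of_injective g ?_
  intro M₁ M₂ h
  have h' : M₁.asIdeal.comap (θ.symm : CAlg2.normRed R →+* integralClosure R (FractionRing R)) =
      M₂.asIdeal.comap (θ.symm : CAlg2.normRed R →+* integralClosure R (FractionRing R)) :=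
    congrArg MaximalSpectrum.asIdeal h
  exact MaximalSpectrum.ext (Ideal.comap_injective_of_surjective _ θ.symm.surjective h')

theorem isNoetherianRing_of_essEtale (A E : Type u) [CommRing A] [IsLocalRing A]
    [IsNoetherianRing A] [CommRing E] [Algebra A E] (hE : EGA4loc.IsEssentiallyEtale A E) :
    IsNoetherianRing E := by
  obtain ⟨C, _, _, q, _, hCet, -, ⟨e⟩⟩ := hE
  haveI : Algebra.FinitePresentation A C := hCet.finitePresentation
  haveI : Algebra.FiniteType A C := inferInstance
  haveI : IsNoetherianRing C := Algebra.FiniteType.isNoetherianRing A C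
  haveI : IsNoetherianRing (Localization.AtPrime q) :=
    IsLocalization.isNoetherianRing q.primeCompl _ inferInstance
  exact isNoetherianRing_of_ringEquiv _ e.symm.toRingEquiv

theorem isReduced_of_essEtale (A E : Type u) [CommRing A] [IsLocalRing A] [IsReduced A]
    [CommRing E] [Algebra A E] (hE : EGA4loc.IsEssentiallyEtale A E) : IsReduced E := by
  obtain ⟨C, _, _, q, _, hCet, -, ⟨e⟩⟩ := hE
  haveI : (q.comap (algebraMap A C)).IsPrime := Ideal.comap_isPrime _ _
  haveI : q.LiesOver (q.comap (algebraMap A C)) := ⟨rfl⟩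
  haveI : IsReduced (Localization.AtPrime q) :=
    EtaleReducedLoc.isReduced_atPrime_of_etale (R := A) (S := C) q (q.comap (algebraMap A C))
      (Localization.AtPrime (q.comap (algebraMap A C))) (Localization.AtPrime q)
  exact isReduced_of_injective e.toRingHom e.injective

end Fin

theorem main_abstract
    (A E : Type u) [CommRing A] [IsLocalRing A] [IsReduced A] [IsNoetherianRing A]
    [CommRing E] [IsLocalRing E] [Algebra A E] [IsLocalHom (algebraMap A E)]
    (hE : EGA4loc.IsEssentiallyEtale A E) (L : Subalgebra A (FractionRing E))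
    (hL : ∀ s ∈ nonZeroDivisors A, ∃ y ∈ L, algebraMap A (FractionRing E) s * y = 1)
    (C E'' : Subalgebra A (FractionRing E))
    (hE'' : ∀ x : FractionRing E, x ∈ E'' ↔ IsIntegral E x)
    (hC : C = L ⊓ E'') (hCE : C ≤ E'') :
    (∀ x ∈ L, IsIntegral C x → x ∈ C) ∧
      {N : Ideal C | N.IsMaximal}.Finite ∧
      (∀ N : Ideal C, N.IsMaximal ↔ ∃ M : Ideal E'',
          M.IsMaximal ∧ N = M.comap (Subalgebra.inclusion hCE)) ∧
      ∀ l ∈ L, ∃ c ∈ C, ∃ s ∈ nonZeroDivisors A, ∃ y ∈ L,
        algebraMap A (FractionRing E) s * y = 1 ∧ l = c * y := by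
  classical
  have hmin : (minimalPrimes A).Finite := minimalPrimes.finite_of_isNoetherianRing A
  haveI : Module.Flat A E := FracFgIff.flat_base_of_essEtale A E hE
  haveI : Algebra.QuasiFinite A E := FracFgIff.quasiFinite_of_essEtale A E hE
  haveI : IsNoetherianRing E := isNoetherianRing_of_essEtale A E hE
  haveI : IsReduced E := isReduced_of_essEtale A E hE
  haveI : Algebra.IsIntegral (ResidueField A) (ResidueField E) :=
    isIntegral_residueField_of_quasiFinite A E
  have hCL : C ≤ L := hC.trans_le inf_le_left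
  have hmemC : ∀ x : FractionRing E, x ∈ C ↔ x ∈ L ∧ x ∈ E'' := by
    intro x
    rw [hC]
    exact Algebra.mem_inf
  let φ : E →+* E'' := (algebraMap E (FractionRing E)).codRestrict E''
    (fun e => (hE'' _).mpr isIntegral_algebraMap)
  have hφint : φ.IsIntegral := by
    intro x
    obtain ⟨p, hp, hpx⟩ := (hE'' x.1).mp x.2
    refine ⟨p, hp, ?_⟩
    apply Subtype.ext
    have h1 := Polynomial.hom_eval₂ p φ (E''.val.toRingHom) x
    have h2 : (E''.val.toRingHom).comp φ = algebraMap E (FractionRing E) :=
      RingHom.ext fun e => rfl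
    rw [h2] at h1
    exact h1.trans hpx
  have hφA : ∀ a : A, φ (algebraMap A E a) = algebraMap A E'' a := by
    intro a
    apply Subtype.ext
    show algebraMap E (FractionRing E) (algebraMap A E a) = algebraMap A (FractionRing E) a
    exact (IsScalarTower.algebraMap_apply A E (FractionRing E) a).symm
  have hU : ∀ c : C, IsUnit (Subalgebra.inclusion hCE c) → IsUnit c := by
    intro c hu
    obtain ⟨v, hv⟩ := hu.exists_right_inv
    have hv' : (c : FractionRing E) * (v : FractionRing E) = 1 := congrArg Subtype.val hv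
    have hcu : IsUnit (c : FractionRing E) := IsUnit.of_mul_eq_one _ hv'
    obtain ⟨m, hmL, hcm⟩ := Groth.Agent.Lib.Helper8.TotalFrac.exists_inv_mem A E hmin L hL
      (c : FractionRing E) (hCL c.2) hcu
    have hmv : m = (v : FractionRing E) := by
      calc m = m * ((c : FractionRing E) * v) := by rw [hv', mul_one]
        _ = ((c : FractionRing E) * m) * v := by ring
        _ = v := by rw [hcm, one_mul]
    have hmC : m ∈ C := (hmemC m).mpr ⟨hmL, hmv ▸ v.2⟩
    exact IsUnit.of_mul_eq_one (⟨m, hmC⟩ : C) (Subtype.ext hcm)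
  have h1 : ∀ x ∈ L, IsIntegral C x → x ∈ C := by
    intro x hxL hx
    refine (hmemC x).mpr ⟨hxL, (hE'' x).mpr ?_⟩
    have hx' : IsIntegral E'' x :=
      IsIntegral.map_of_comp_eq (Subalgebra.inclusion hCE : C →+* E'')
        (RingHom.id (FractionRing E)) (RingHom.ext fun c => rfl) hx
    letI algEE'' : Algebra E E'' := φ.toAlgebra
    haveI : IsScalarTower E E'' (FractionRing E) := IsScalarTower.of_algebraMap_eq (fun e => rfl)
    haveI : Algebra.IsIntegral E E'' := ⟨hφint⟩
    exact isIntegral_trans (R := E) (A := E'') x hx'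
  have h4 : ∀ l ∈ L, ∃ c ∈ C, ∃ s ∈ nonZeroDivisors A, ∃ y ∈ L,
      algebraMap A (FractionRing E) s * y = 1 ∧ l = c * y := by
    intro l hl
    have hloc := Groth.Agent.Lib.Helper8.TotalFrac.isLocalization_fractionRing A E hmin
    obtain ⟨⟨x, ⟨m, hmM⟩⟩, hx⟩ :=
      IsLocalization.surj ((nonZeroDivisors A).map (algebraMap A E)) l
    obtain ⟨s, hs, rfl⟩ := hmM
    obtain ⟨y, hyL, hy⟩ := hL s hs
    have hsE : algebraMap E (FractionRing E) (algebraMap A E s) =
        algebraMap A (FractionRing E) s :=
      (IsScalarTower.algebraMap_apply A E (FractionRing E) s).symm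
    have hx' : l * algebraMap A (FractionRing E) s = algebraMap E (FractionRing E) x := by
      rw [← hsE]; exact hx
    have hxC : algebraMap E (FractionRing E) x ∈ C := by
      refine (hmemC _).mpr ⟨?_, (hE'' _).mpr isIntegral_algebraMap⟩
      rw [← hx']
      exact L.mul_mem hl (L.algebraMap_mem s)
    refine ⟨_, hxC, s, hs, y, hyL, hy, ?_⟩
    rw [← hx', mul_assoc, hy, mul_one]
  have hF : {M : Ideal E'' | M.IsMaximal}.Finite := by
    haveI := finite_maximalSpectrum_integralClosure E
    let ρ : integralClosure E (FractionRing E) →+* E'' :=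
      ((integralClosure E (FractionRing E)).val.toRingHom).codRestrict E''
        (fun x => (hE'' _).mpr x.2)
    have hρ : Function.Surjective ρ := fun y => ⟨⟨y.1, (hE'' _).mp y.2⟩, Subtype.ext rfl⟩
    let g : {M : Ideal E'' | M.IsMaximal} →
        MaximalSpectrum (integralClosure E (FractionRing E)) := fun M =>
      ⟨M.1.comap ρ,
        haveI : M.1.IsMaximal := M.2
        Ideal.comap_isMaximal_of_surjective ρ hρ⟩
    have hg : Function.Injective g := by
      intro M₁ M₂ h
      have h' : M₁.1.comap ρ = M₂.1.comap ρ := congrArg MaximalSpectrum.asIdeal h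
      exact Subtype.ext (Ideal.comap_injective_of_surjective ρ hρ h')
    exact Set.finite_coe_iff.mp (Finite.of_injective g hg)
  have hMx : ∀ M : Ideal E'', M.IsMaximal →
      (M.comap (Subalgebra.inclusion hCE)).IsMaximal := by
    intro M hM
    haveI := hM
    exact comap_isMaximal_of_integral (A := A) (E := E) φ hφint hφA (Subalgebra.inclusion hCE) M
  obtain ⟨h3, h2⟩ := maximal_iff_of_units (Subalgebra.inclusion hCE) hU hF hMx
  exact ⟨h1, h2, h3, h4⟩

end Groth.Agent.Lib.Helper8.InterNorm
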