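import Mathlib
import Groth.Prelude
import Groth.Agent.Lib.Helper8.NagataExc
import Groth.Agent.Lib.Helper8.FiniteIC
import Groth.Agent.Lib.Helper8.DiagIdem
import Groth.Agent.Lib.Helper8.ArtinTate
import Groth.Agent.Lib.Helper8.InterNorm
import Groth.Agent.Lib.Helper8.EssEtUtil
import Groth.Agent.Lib.Helper14.ReducedSmooth

/-!
# EGA IV 18.x: a local subring of an essentially étale local algebra over an excellent reduced
local ring whose normalization is semilocal is essentially of finite type
-/

set_option autoImplicit false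
set_option linter.style.haveILetI false
set_option linter.unusedSectionVars false

open IsLocalRing TensorProduct

universe u

namespace Groth.Agent.Lib.Helper8.Main16449

section Artin

variable (A E : Type u) [CommRing A] [IsReduced A] [CommRing E] [Algebra A E] [Module.Flat A E]
  [Algebra.QuasiFinite A E] [IsReduced E] (hmin : (minimalPrimes A).Finite)
  (hminE : (minimalPrimes E).Finite)

include hmin in
theorem isIntegral_over_subalgebra (L : Subalgebra A (FractionRing E))
    (hL : ∀ s ∈ nonZeroDivisors A, ∃ y ∈ L, algebraMap A (FractionRing E) s * y = 1)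
    (x : FractionRing E) : IsIntegral L x := by
  obtain ⟨a, ha, hax⟩ := FiniteIC.exists_nzd_mul_isIntegral A E hmin x
  obtain ⟨y, hyL, hy⟩ := hL a ha
  have h1 : x = y * (algebraMap A (FractionRing E) a * x) := by
    rw [← mul_assoc, mul_comm y, hy, one_mul]
  rw [h1]
  have hy' : IsIntegral L y := by
    have h2 : y = algebraMap L (FractionRing E) ⟨y, hyL⟩ := rfl
    rw [h2]
    exact isIntegral_algebraMap
  exact hy'.mul hax.tower_top

include hmin hminE in
theorem isArtinianRing_subalgebra (L : Subalgebra A (FractionRing E))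
    (hL : ∀ s ∈ nonZeroDivisors A, ∃ y ∈ L, algebraMap A (FractionRing E) s * y = 1) :
    IsArtinianRing L := by
  haveI : IsArtinianRing (FractionRing E) :=
    TotalFrac.isArtinianRing_of_isFractionRing E hminE (FractionRing E)
  haveI : IsReduced (FractionRing E) :=
    isReduced_localizationPreserves (nonZeroDivisors E) _ inferInstance
  haveI : IsReduced L := isReduced_of_injective L.val.toRingHom Subtype.val_injective
  haveI hint : Algebra.IsIntegral L (FractionRing E) :=
    ⟨isIntegral_over_subalgebra A E hmin L hL⟩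
  have hlo : ∀ P : Ideal L, P.IsPrime → ∃ Q : Ideal (FractionRing E), Q.IsPrime ∧
      Q.comap (algebraMap L (FractionRing E)) = P := by
    intro P hP
    haveI := hP
    have hbot : (⊥ : Ideal (FractionRing E)).comap (algebraMap L (FractionRing E)) ≤ P := by
      intro z hz
      have h1 : algebraMap L (FractionRing E) z = 0 := by
        simpa [Ideal.mem_comap] using hz
      have h2 : z = 0 := Subtype.ext h1
      rw [h2]; exact P.zero_mem
    obtain ⟨Q, -, hQ, hQP⟩ := Ideal.exists_ideal_over_prime_of_isIntegral P ⊥ hbot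
    exact ⟨Q, hQ, hQP⟩
  haveI : Finite (PrimeSpectrum L) := by
    refine Finite.of_surjective (PrimeSpectrum.comap (algebraMap L (FractionRing E))) ?_
    intro P
    obtain ⟨Q, hQ, hQP⟩ := hlo P.asIdeal P.isPrime
    exact ⟨⟨Q, hQ⟩, PrimeSpectrum.ext hQP⟩
  refine TotalFrac.isArtinianRing_of_reduced L (fun P => ?_)
  obtain ⟨Q, hQ, hQP⟩ := hlo P.asIdeal P.isPrime
  haveI := hQ
  haveI : Q.IsMaximal := inferInstance
  rw [← hQP]
  exact Ideal.isMaximal_comap_of_isIntegral_of_isMaximal (R := L) Q

end Artin

theorem hcompl_tensor (A C B : Type u) [CommRing A] [CommRing C] [CommRing B] [Algebra A C]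
    [Algebra A B] [Algebra.Etale A C] [IsArtinianRing B] [IsReduced B] (I : Ideal (C ⊗[A] B)) :
    ∃ e, e - 1 ∈ I ∧ ∀ a ∈ I, e * a = 0 := by
  haveI : Algebra.QuasiFinite B (B ⊗[A] C) := inferInstance
  haveI : Module.Finite B (B ⊗[A] C) := Module.Finite.of_quasiFinite
  haveI : IsArtinianRing (B ⊗[A] C) := IsArtinianRing.of_finite B _
  haveI : Algebra.Smooth B (B ⊗[A] C) := inferInstance
  haveI : IsReduced (B ⊗[A] C) := Groth.Agent.Lib.Helper14.isReduced_of_smooth B (B ⊗[A] C)
  haveI : IsSemisimpleRing (B ⊗[A] C) := IsArtinianRing.isSemisimpleRing_of_isReduced _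
  haveI : IsSemisimpleRing (C ⊗[A] B) :=
    (Algebra.TensorProduct.comm A B C).toRingEquiv.isSemisimpleRing
  exact DiagIdem.exists_compl_of_isSemisimpleRing _ I

/-- The conductor-type ideal of an element of the normalization generates the unit ideal of the
integral closure of `E`. -/
theorem one_mem_span_conductor
    (A E : Type u) [CommRing A] [IsLocalRing A] [IsReduced A] [IsNoetherianRing A]
    [CommRing E] [IsLocalRing E] [Algebra A E] [IsLocalHom (algebraMap A E)]
    (hE : EGA4loc.IsEssentiallyEtale A E) (L : Subalgebra A (FractionRing E))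
    (hL : ∀ s ∈ nonZeroDivisors A, ∃ y ∈ L, algebraMap A (FractionRing E) s * y = 1)
    (x : FractionRing E) (hxL : x ∈ L) (hx : IsIntegral E x) :
    (1 : FractionRing E) ∈ Submodule.span E
      {t : FractionRing E | t ∈ L ∧ IsIntegral A t ∧ IsIntegral A (t * x)} := by
  classical
  have hmin : (minimalPrimes A).Finite := minimalPrimes.finite_of_isNoetherianRing A
  haveI : Module.Flat A E := FracFgIff.flat_base_of_essEtale A E hE
  haveI : Algebra.QuasiFinite A E := FracFgIff.quasiFinite_of_essEtale A E hE
  haveI : IsNoetherianRing E := InterNorm.isNoetherianRing_of_essEtale A E hE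
  haveI : IsReduced E := InterNorm.isReduced_of_essEtale A E hE
  have hminE : (minimalPrimes E).Finite := minimalPrimes.finite_of_isNoetherianRing E
  haveI : IsArtinianRing L := isArtinianRing_subalgebra A E hmin hminE L hL
  haveI : IsReduced (FractionRing E) :=
    isReduced_localizationPreserves (nonZeroDivisors E) _ inferInstance
  haveI : IsReduced L := isReduced_of_injective L.val.toRingHom Subtype.val_injective
  obtain ⟨C₀, _, _, algCE, _, q, _, hCet, hloc⟩ := EssEtUtil.exists_isLocalization A E hE
  haveI := hCet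
  haveI := hloc
  haveI : IsScalarTower C₀ E (FractionRing E) := inferInstance
  haveI : IsScalarTower A C₀ (FractionRing E) := IsScalarTower.of_algebraMap_eq (fun a => by
    rw [IsScalarTower.algebraMap_apply A E (FractionRing E),
      IsScalarTower.algebraMap_apply C₀ E (FractionRing E),
      ← IsScalarTower.algebraMap_apply A C₀ E])
  obtain ⟨⟨s, hs⟩, hsx⟩ :=
    IsIntegral.exists_multiple_integral_of_isLocalization q.primeCompl x hx
  have hsx' : IsIntegral C₀ (algebraMap C₀ (FractionRing E) s * x) := by
    simpa only [Submonoid.smul_def, Algebra.smul_def] using hsx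
  have hmain := DiagIdem.main A C₀ L (FractionRing E) L.val
    (fun I => hcompl_tensor A C₀ L I) ⟨x, hxL⟩ s hsx'
  set S : Set (FractionRing E) := {t | t ∈ L ∧ IsIntegral A t ∧ IsIntegral A (t * x)} with hS
  have hsub : (L.val '' {t : L | IsIntegral A t ∧ IsIntegral A (t * ⟨x, hxL⟩)}) ⊆ S := by
    rintro _ ⟨t, ⟨ht1, ht2⟩, rfl⟩
    refine ⟨t.2, ht1.map L.val, ?_⟩
    have h3 := ht2.map L.val
    simpa using h3
  have h1 : algebraMap C₀ (FractionRing E) s ∈ Submodule.span E S := by
    have h2 : Submodule.span C₀ S ≤ (Submodule.span E S).restrictScalars C₀ :=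
      Submodule.span_le_restrictScalars C₀ E S
    exact h2 (Submodule.span_mono hsub hmain)
  have hu : IsUnit (algebraMap C₀ E s) := IsLocalization.map_units E (⟨s, hs⟩ : q.primeCompl)
  obtain ⟨v, hv⟩ := hu.exists_left_inv
  have h3 : (1 : FractionRing E) = v • algebraMap C₀ (FractionRing E) s := by
    rw [Algebra.smul_def, IsScalarTower.algebraMap_apply C₀ E (FractionRing E), ← map_mul, hv,
      map_one]
  rw [h3]
  exact Submodule.smul_mem _ v h1

/-- The residue field of a subalgebra of a quasi-finite local algebra is "finite modulo the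
maximal ideal". -/
theorem exists_finset_residue
    (A E : Type u) [CommRing A] [IsLocalRing A] [IsNoetherianRing A] [CommRing E] [IsLocalRing E]
    [Algebra A E] [IsLocalHom (algebraMap A E)] [Algebra.QuasiFinite A E]
    (D : Subalgebra A E) [IsLocalRing D] :
    ∃ Θ : Finset D, ∀ d : D, ∃ a ∈ Algebra.adjoin A (Θ : Set D),
      d - a ∈ maximalIdeal D := by
  classical
  haveI : Algebra.QuasiFinite A (ResidueField E) :=
    inferInstanceAs (Algebra.QuasiFinite A (E ⧸ maximalIdeal E))
  haveI : Algebra.QuasiFinite (ResidueField A) (ResidueField E) :=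
    Algebra.QuasiFinite.of_restrictScalars A _ _
  haveI : Module.Finite (ResidueField A) (ResidueField E) := Module.Finite.of_quasiFinite
  haveI : Module.Finite A (ResidueField A) :=
    Module.Finite.of_surjective (Algebra.linearMap A (ResidueField A)) (by
      intro z
      obtain ⟨a, rfl⟩ := residue_surjective z
      exact ⟨a, rfl⟩)
  haveI : Module.Finite A (ResidueField E) :=
    Module.Finite.trans (ResidueField A) (ResidueField E)
  haveI : IsNoetherian A (ResidueField E) := isNoetherian_of_isNoetherianRing_of_finite A _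
  let ψ : D →ₗ[A] ResidueField E :=
    (IsScalarTower.toAlgHom A E (ResidueField E)).toLinearMap ∘ₗ D.val.toLinearMap
  have hψ : ∀ d : D, ψ d = residue E (d : E) := fun d => rfl
  obtain ⟨T, hT⟩ := (IsNoetherian.noetherian (LinearMap.range ψ) : (LinearMap.range ψ).FG)
  have hTr : ∀ y ∈ T, ∃ d : D, ψ d = y := fun y hy => by
    have h1 : y ∈ LinearMap.range ψ := by rw [← hT]; exact Submodule.subset_span hy
    exact h1
  choose! pre hpre using hTr
  refine ⟨T.image pre, fun d => ?_⟩
  have h1 : ψ d ∈ Submodule.span A (T : Set (ResidueField E)) := by rw [hT]; exact ⟨d, rfl⟩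
  have h2 : Submodule.span A (T : Set (ResidueField E)) ≤
      (Submodule.span A ((T.image pre : Finset D) : Set D)).map ψ := by
    rw [Submodule.span_le]
    intro y hy
    exact ⟨pre y, Submodule.subset_span (by rw [Finset.coe_image]; exact ⟨y, hy, rfl⟩),
      hpre y hy⟩
  obtain ⟨a, ha, hψa⟩ := h2 h1
  refine ⟨a, Algebra.span_le_adjoin A _ ha, ?_⟩
  have h3 : residue E ((d - a : D) : E) = 0 := by
    have h4 : ψ (d - a) = 0 := by rw [map_sub, hψa, sub_self]
    exact h4
  have h4 : ((d - a : D) : E) ∈ maximalIdeal E := (residue_eq_zero_iff _).mp h3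
  rw [mem_maximalIdeal, mem_nonunits_iff]
  intro hu
  exact (mem_maximalIdeal _).mp h4 (hu.map (algebraMap D E))

/-- The subalgebra of fractions of `D` with denominators nonzerodivisors of `A`. -/
def fracSub (A E : Type u) [CommRing A] [CommRing E] [Algebra A E] (D : Subalgebra A E) :
    Subalgebra A (FractionRing E) where
  carrier := {x | ∃ a ∈ nonZeroDivisors A, ∃ d ∈ D,
    algebraMap A (FractionRing E) a * x = algebraMap E (FractionRing E) d}
  mul_mem' := by
    rintro x y ⟨a, ha, d, hd, h1⟩ ⟨b, hb, d', hd', h2⟩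
    refine ⟨a * b, mul_mem ha hb, d * d', D.mul_mem hd hd', ?_⟩
    rw [map_mul, map_mul, ← h1, ← h2]
    ring
  add_mem' := by
    rintro x y ⟨a, ha, d, hd, h1⟩ ⟨b, hb, d', hd', h2⟩
    refine ⟨a * b, mul_mem ha hb, algebraMap A E b * d + algebraMap A E a * d',
      D.add_mem (D.mul_mem (D.algebraMap_mem b) hd) (D.mul_mem (D.algebraMap_mem a) hd'), ?_⟩
    rw [map_add, map_mul, map_mul, map_mul, ← h1, ← h2,
      ← IsScalarTower.algebraMap_apply A E, ← IsScalarTower.algebraMap_apply A E]
    ring
  algebraMap_mem' := fun r => ⟨1, one_mem _, algebraMap A E r, D.algebraMap_mem r, by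
    rw [map_one, one_mul, ← IsScalarTower.algebraMap_apply A E]⟩

theorem main
    (A E : Type u) [CommRing A] [IsLocalRing A] [IsReduced A] (hA : EGA4.IsExcellent A)
    [CommRing E] [IsLocalRing E] [Algebra A E] [IsLocalHom (algebraMap A E)]
    (hE : EGA4loc.IsEssentiallyEtale A E)
    (D : Subalgebra A E) [IsLocalRing D] [IsLocalHom (algebraMap D E)]
    (D' : Subalgebra A (FractionRing E))
    (hD' : ∀ x : (FractionRing E), x ∈ D' ↔ (IsIntegral D x ∧
      ∃ a ∈ nonZeroDivisors A, ∃ d ∈ D,
        algebraMap A (FractionRing E) a * x = algebraMap E (FractionRing E) d))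
    (hle : D' ≤ ((integralClosure E (FractionRing E)).restrictScalars A))
    (hfin : {N : Ideal D' | N.IsMaximal}.Finite)
    (hsurj : ∀ N : Ideal D', N.IsMaximal →
      ∃ M : Ideal ((integralClosure E (FractionRing E)).restrictScalars A),
        M.IsMaximal ∧ M.comap (Subalgebra.inclusion hle) = N) :
    Algebra.EssFiniteType A D := by
  classical
  haveI : IsNoetherianRing A := hA.1
  have hNag : CAlg.IsNagata A := NagataExc.isNagata_of_isExcellent A hA
  have hmin : (minimalPrimes A).Finite := minimalPrimes.finite_of_isNoetherianRing A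
  haveI : Module.Flat A E := FracFgIff.flat_base_of_essEtale A E hE
  haveI : Algebra.QuasiFinite A E := FracFgIff.quasiFinite_of_essEtale A E hE
  haveI : IsNoetherianRing E := InterNorm.isNoetherianRing_of_essEtale A E hE
  haveI : IsReduced E := InterNorm.isReduced_of_essEtale A E hE
  haveI towerADK : IsScalarTower A D (FractionRing E) :=
    IsScalarTower.of_algebraMap_eq
      (fun a => IsScalarTower.algebraMap_apply A E (FractionRing E) a)
  -- the ring of fractions of `D`
  let L : Subalgebra A (FractionRing E) := fracSub A E D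
  have hL : ∀ s ∈ nonZeroDivisors A, ∃ y ∈ L, algebraMap A (FractionRing E) s * y = 1 := by
    intro s hs
    obtain ⟨y, hy⟩ :=
      (FiniteIC.isUnit_algebraMap_of_mem_nonZeroDivisors A E hmin s hs).exists_right_inv
    exact ⟨y, ⟨s, hs, 1, D.one_mem, by rw [hy, map_one]⟩, hy⟩
  have hD'L : ∀ x ∈ D', x ∈ L := fun x hx => ((hD' x).mp hx).2
  have hD'int : ∀ x ∈ D', IsIntegral E x := fun x hx => hle hx
  have hD'intD : ∀ x ∈ D', IsIntegral D x := fun x hx => ((hD' x).mp hx).1
  -- the integral closure of `A` in `L`
  let AL : Subalgebra A (FractionRing E) := integralClosure A (FractionRing E) ⊓ L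
  have hALmem : ∀ t : FractionRing E, t ∈ AL ↔ IsIntegral A t ∧ t ∈ L :=
    fun t => Algebra.mem_inf
  have hALD' : AL ≤ D' := by
    intro t ht
    obtain ⟨ht1, ht2⟩ := (hALmem t).mp ht
    exact (hD' t).mpr ⟨ht1.tower_top, ht2⟩
  have hALfg : AL.toSubmodule.FG := by
    have hICfg := FiniteIC.fg_integralClosure A E hmin hNag
    haveI : IsNoetherian A (integralClosure A (FractionRing E)).toSubmodule :=
      isNoetherian_of_fg_of_noetherian _ hICfg
    have hle' : AL.toSubmodule ≤ (integralClosure A (FractionRing E)).toSubmodule :=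
      fun z hz => ((hALmem z).mp hz).1
    haveI : IsNoetherian A AL.toSubmodule := isNoetherian_of_le hle'
    exact Module.Finite.iff_fg.mp inferInstance
  obtain ⟨Gs, hGs⟩ := hALfg
  have hGsAL : ∀ g ∈ Gs, g ∈ AL := fun g hg => by
    have h1 : g ∈ Submodule.span A (Gs : Set (FractionRing E)) := Submodule.subset_span hg
    rw [hGs] at h1
    exact h1
  -- every element of `D'` is a fraction of elements of `AL` with unit denominator
  have hP4 : ∀ x ∈ D', ∃ t ∈ AL, t * x ∈ AL ∧ ∃ u ∈ D', t * u = 1 := by
    intro x hx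
    by_contra hcon
    push_neg at hcon
    have h1 := one_mem_span_conductor A E hE L hL x (hD'L x hx) (hD'int x hx)
    let 𝔡 : Ideal AL :=
      { carrier := {t | (t : FractionRing E) * x ∈ AL}
        add_mem' := fun {a b} ha hb => by
          show ((a + b : AL) : FractionRing E) * x ∈ AL
          rw [Subalgebra.coe_add, add_mul]
          exact AL.add_mem ha hb
        zero_mem' := by
          show ((0 : AL) : FractionRing E) * x ∈ AL
          rw [Subalgebra.coe_zero, zero_mul]
          exact AL.zero_mem
        smul_mem' := fun c a ha => by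
          show ((c • a : AL) : FractionRing E) * x ∈ AL
          rw [smul_eq_mul, Subalgebra.coe_mul, mul_assoc]
          exact AL.mul_mem c.2 ha }
    let f : Ideal D' → Ideal AL := fun N => N.comap (Subalgebra.inclusion hALD')
    have hsub : ((𝔡 : Ideal AL) : Set AL) ⊆
        ⋃ N ∈ ((hfin.toFinset : Finset (Ideal D')) : Set (Ideal D')), (f N : Set AL) := by
      intro t ht
      have htx : (t : FractionRing E) * x ∈ AL := ht
      have hnu : ¬ IsUnit (Subalgebra.inclusion hALD' t) := by
        intro hu
        obtain ⟨u, hu'⟩ := hu.exists_right_inv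
        exact hcon t.1 t.2 htx u.1 u.2 (congrArg Subtype.val hu')
      obtain ⟨N, hN, htN⟩ := exists_max_ideal_of_mem_nonunits (mem_nonunits_iff.mpr hnu)
      refine Set.mem_iUnion₂.mpr ⟨N, ?_, htN⟩
      simpa using hN
    have hp : ∀ N ∈ hfin.toFinset, N ≠ ⊥ → N ≠ ⊥ → (f N).IsPrime := by
      intro N hN _ _
      have hNmax : N.IsMaximal := by simpa using hN
      haveI := hNmax.isPrime
      exact Ideal.comap_isPrime _ _
    obtain ⟨N, hN, hdN⟩ :=
      (Ideal.subset_union_prime (s := hfin.toFinset) (f := f) ⊥ ⊥ hp).mp hsub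
    have hNmax : N.IsMaximal := by simpa using hN
    obtain ⟨M, hMmax, hMN⟩ := hsurj N hNmax
    let W : Submodule E (FractionRing E) :=
      { carrier := {z | ∃ h : z ∈ (integralClosure E (FractionRing E)).restrictScalars A,
          (⟨z, h⟩ : ((integralClosure E (FractionRing E)).restrictScalars A)) ∈ M}
        add_mem' := by
          rintro a b ⟨ha, haM⟩ ⟨hb, hbM⟩
          exact ⟨Subalgebra.add_mem _ ha hb, M.add_mem haM hbM⟩
        zero_mem' := ⟨Subalgebra.zero_mem _, M.zero_mem⟩
        smul_mem' := by
          rintro c z ⟨hz, hzM⟩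
          have hc : algebraMap E (FractionRing E) c ∈
              (integralClosure E (FractionRing E)).restrictScalars A :=
            (isIntegral_algebraMap : IsIntegral E (algebraMap E (FractionRing E) c))
          have h2 := M.mul_mem_left
            (⟨_, hc⟩ : ((integralClosure E (FractionRing E)).restrictScalars A)) hzM
          have h' : c • z ∈ (integralClosure E (FractionRing E)).restrictScalars A := by
            rw [Algebra.smul_def]
            exact Subalgebra.mul_mem _ hc hz
          refine ⟨h', ?_⟩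
          have heq : (⟨c • z, h'⟩ : ((integralClosure E (FractionRing E)).restrictScalars A))
              = ⟨_, hc⟩ * ⟨z, hz⟩ := Subtype.ext (Algebra.smul_def c z)
          rw [heq]
          exact h2 }
    have hSW : {t : FractionRing E | t ∈ L ∧ IsIntegral A t ∧ IsIntegral A (t * x)} ⊆
        (W : Set (FractionRing E)) := by
      rintro t ⟨htL, ht1, ht2⟩
      have htAL : t ∈ AL := (hALmem t).mpr ⟨ht1, htL⟩
      have htxAL : t * x ∈ AL := (hALmem _).mpr ⟨ht2, L.mul_mem htL (hD'L x hx)⟩
      have h3 : (⟨t, htAL⟩ : AL) ∈ 𝔡 := htxAL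
      have h4 : (⟨t, htAL⟩ : AL) ∈ f N := hdN h3
      have h5 : (Subalgebra.inclusion hALD' ⟨t, htAL⟩ : D') ∈ N := h4
      rw [← hMN] at h5
      have h6 : Subalgebra.inclusion hle (Subalgebra.inclusion hALD' ⟨t, htAL⟩) ∈ M := h5
      exact ⟨hle (hALD' htAL), h6⟩
    have h7 : (1 : FractionRing E) ∈ W := (Submodule.span_le.mpr hSW) h1
    obtain ⟨h8, h9⟩ := h7
    apply hMmax.ne_top
    rw [Ideal.eq_top_iff_one]
    exact h9
  -- `D'` is essentially of finite type over `A`
  let Gset : Set D' := Subtype.val ⁻¹' (Gs : Set (FractionRing E))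
  have hGsetfin : Gset.Finite :=
    Set.Finite.preimage (Set.injOn_of_injective Subtype.val_injective) Gs.finite_toSet
  have hALadj : ∀ t (ht : t ∈ AL), (⟨t, hALD' ht⟩ : D') ∈ Algebra.adjoin A Gset := by
    intro t ht
    have h1 : t ∈ Submodule.span A (Gs : Set (FractionRing E)) := by rw [hGs]; exact ht
    have h2 : Submodule.span A (Gs : Set (FractionRing E)) ≤
        (Subalgebra.toSubmodule (Algebra.adjoin A Gset)).map D'.val.toLinearMap := by
      rw [Submodule.span_le]
      intro g hg
      exact ⟨⟨g, hALD' (hGsAL g hg)⟩, Algebra.subset_adjoin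
        (show (⟨g, hALD' (hGsAL g hg)⟩ : D') ∈ Gset from hg), rfl⟩
    obtain ⟨z, hz, hzt⟩ := h2 h1
    have h3 : z = ⟨t, hALD' ht⟩ := Subtype.ext hzt
    rw [← h3]
    exact hz
  haveI hessD' : Algebra.EssFiniteType A D' := by
    refine (Algebra.essFiniteType_iff A D').mpr ⟨hGsetfin.toFinset, fun x => ?_⟩
    rw [Set.Finite.coe_toFinset]
    obtain ⟨t, ht, htx, u, hu, htu⟩ := hP4 x x.2
    refine ⟨⟨t, hALD' ht⟩, hALadj t ht, ?_, ?_⟩
    · exact IsUnit.of_mul_eq_one (⟨u, hu⟩ : D') (Subtype.ext htu)
    · have h3 := hALadj _ htx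
      have h4 : x * (⟨t, hALD' ht⟩ : D') = ⟨t * x, hALD' htx⟩ := Subtype.ext (mul_comm _ _)
      rw [h4]
      exact h3
  -- `D'` as a `D`-algebra
  have hDD' : ∀ d : D, algebraMap E (FractionRing E) (d : E) ∈ D' := by
    intro d
    refine (hD' _).mpr ⟨?_, 1, one_mem _, d, d.2, by rw [map_one, one_mul]⟩
    exact (isIntegral_algebraMap : IsIntegral D (algebraMap D (FractionRing E) d))
  have hRK : ∃ RK : Subalgebra D (FractionRing E), Module.Finite D RK ∧
      ∀ z : FractionRing E, z ∈ RK ↔ z ∈ D' := by
    let RK : Subalgebra D (FractionRing E) := Algebra.adjoin D (Gs : Set (FractionRing E))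
    have hGsint : ∀ g ∈ (Gs : Set (FractionRing E)), IsIntegral D g := fun g hg =>
      (((hALmem g).mp (hGsAL g hg)).1).tower_top
    haveI : Module.Finite D RK :=
      Algebra.finite_adjoin_of_finite_of_isIntegral Gs.finite_toSet hGsint
    let D'D : Subalgebra D (FractionRing E) :=
      { D'.toSubsemiring with algebraMap_mem' := fun d => hDD' d }
    have hRKle : RK ≤ D'D := Algebra.adjoin_le (fun g hg => hALD' (hGsAL g hg))
    have hALRK : ∀ t ∈ AL, t ∈ RK := by
      intro t ht
      have h1 : t ∈ Submodule.span A (Gs : Set (FractionRing E)) := by rw [hGs]; exact ht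
      have h2 : Submodule.span A (Gs : Set (FractionRing E)) ≤
          (Subalgebra.toSubmodule RK).restrictScalars A :=
        Submodule.span_le.mpr (fun g hg => Algebra.subset_adjoin hg)
      exact h2 h1
    have hincl_int : (Subalgebra.inclusion hRKle).toRingHom.IsIntegral := by
      refine RingHom.IsIntegral.tower_top (algebraMap D RK)
        (Subalgebra.inclusion hRKle).toRingHom ?_
      have hcomp : (Subalgebra.inclusion hRKle).toRingHom.comp (algebraMap D RK) =
          algebraMap D D'D := RingHom.ext (fun d => rfl)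
      rw [hcomp]
      intro z
      exact (isIntegral_algHom_iff D'D.val Subtype.val_injective).mp (hD'intD _ z.2)
    haveI : IsLocalHom (Subalgebra.inclusion hRKle).toRingHom :=
      RingHom.IsIntegral.isLocalHom hincl_int (Subalgebra.inclusion_injective hRKle)
    have hD'RK : ∀ x ∈ D', x ∈ RK := by
      intro x hx
      obtain ⟨t, ht, htx, u, hu, htu⟩ := hP4 x hx
      have htRK : t ∈ RK := hALRK t ht
      have hunit : IsUnit ((Subalgebra.inclusion hRKle).toRingHom ⟨t, htRK⟩) :=
        IsUnit.of_mul_eq_one (⟨u, hu⟩ : D'D) (Subtype.ext htu)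
      have hunit' : IsUnit (⟨t, htRK⟩ : RK) :=
        isUnit_of_map_unit (Subalgebra.inclusion hRKle).toRingHom _ hunit
      obtain ⟨w, hw⟩ := hunit'.exists_right_inv
      have hw' : t * (w : FractionRing E) = 1 := congrArg Subtype.val hw
      have hx' : x = (t * x) * (w : FractionRing E) := by
        calc x = x * (t * w) := by rw [hw', mul_one]
          _ = (t * x) * w := by ring
      rw [hx']
      exact RK.mul_mem (hALRK _ htx) w.2
    have hRKeq : ∀ z : FractionRing E, z ∈ RK ↔ z ∈ D' :=
      fun z => ⟨fun hz => hRKle hz, hD'RK z⟩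
    exact ⟨RK, inferInstance, hRKeq⟩
  obtain ⟨RK, hRKfin, hRKeq⟩ := hRK
  haveI := hRKfin
  let j : D →+* D' :=
    ((algebraMap E (FractionRing E)).comp (D.val : D →+* E)).codRestrict D' hDD'
  letI algDD' : Algebra D D' := j.toAlgebra
  haveI : IsScalarTower A D D' := IsScalarTower.of_algebraMap_eq
    (fun a => Subtype.ext (IsScalarTower.algebraMap_apply A E (FractionRing E) a))
  have hinj : Function.Injective (algebraMap D D') := by
    intro d₁ d₂ h
    have h1 : algebraMap E (FractionRing E) (d₁ : E) = algebraMap E (FractionRing E) (d₂ : E) :=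
      congrArg Subtype.val h
    exact Subtype.ext (IsFractionRing.injective E (FractionRing E) h1)
  haveI hfinDD' : Module.Finite D D' := by
    let φ : RK →ₗ[D] D' :=
      { toFun := fun z => ⟨z.1, (hRKeq _).mp z.2⟩
        map_add' := fun a b => rfl
        map_smul' := fun d z => Subtype.ext (by
          show d • (z : FractionRing E) =
            algebraMap E (FractionRing E) (d : E) * (z : FractionRing E)
          rw [Algebra.smul_def]
          rfl) }
    exact Module.Finite.of_surjective φ (fun y => ⟨⟨y.1, (hRKeq _).mpr y.2⟩, rfl⟩)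
  obtain ⟨Θ, hΘ⟩ := exists_finset_residue A E D
  exact ArtinTate.main A D D' hinj Θ hΘ

end Groth.Agent.Lib.Helper8.Main16449
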