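import Mathlib
import Groth.Prelude
import Groth.Agent.Lib.Helper8.Main16449
import Groth.Agent.Lib.Helper9.NilpFlat
import Groth.Agent.S16438

/-!
# Noetherian local subrings `D` of a strict henselization with `𝔪_A D = 𝔪_D` and finitely
generated total ring of fractions are essentially étale (EGA IV 18.x)
-/

set_option autoImplicit false
set_option linter.style.haveILetI false
set_option linter.unusedSectionVars false

open IsLocalRing TensorProduct Polynomial

universe u

namespace Groth.Agent.Lib.Helper8.EssEtNoeth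

open Groth.Agent.Lib.Helper9

/-- If `W` is flat and `π : F → W` is surjective then `ker π ∩ I F = I ker π`. -/
theorem mem_smul_ker_of_flat {A : Type u} [CommRing A] (I : Ideal A) {F W : Type u}
    [AddCommGroup F] [Module A F] [AddCommGroup W] [Module A W] [Module.Flat A W]
    (π : F →ₗ[A] W) (hπ : Function.Surjective π) (x : F) (hx : π x = 0)
    (hxI : x ∈ I • (⊤ : Submodule A F)) :
    x ∈ I • LinearMap.ker π := by
  obtain ⟨ξ, rfl⟩ := NilpFlat.exists_mu_eq I F hxI
  have h1 : NilpFlat.mu I W ((π.lTensor I) ξ) = 0 := by rw [NilpFlat.mu_lTensor, hx]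
  have hinj : Function.Injective (NilpFlat.mu I W) :=
    (NilpFlat.mu_injective_iff I W).mpr
      (Module.Flat.rTensor_preserves_injective_linearMap _ Subtype.val_injective)
  have h2 : (π.lTensor I) ξ = 0 := hinj (by rw [h1, map_zero])
  have hex : Function.Exact ((LinearMap.ker π).subtype.lTensor I) (π.lTensor I) :=
    lTensor_exact I (LinearMap.exact_subtype_ker_map π) hπ
  obtain ⟨ζ, rfl⟩ := (hex ξ).mp h2
  rw [NilpFlat.mu_lTensor]
  have h3 := NilpFlat.mu_mem I (LinearMap.ker π) ζ
  have h4 : (LinearMap.ker π).subtype (NilpFlat.mu I _ ζ) ∈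
      (I • (⊤ : Submodule A (LinearMap.ker π))).map (LinearMap.ker π).subtype :=
    Submodule.mem_map_of_mem h3
  rwa [Submodule.map_smul'', Submodule.map_top, Submodule.range_subtype] at h4

theorem eq_bot_of_le_maximalIdeal_smul {R : Type*} [CommRing R] [IsLocalRing R]
    [IsNoetherianRing R] (J : Ideal R) (h : J ≤ maximalIdeal R • J) : J = ⊥ :=
  Submodule.eq_bot_of_le_smul_of_le_jacobson_bot (maximalIdeal R) J (IsNoetherian.noetherian J) h
    (IsLocalRing.maximalIdeal_le_jacobson ⊥)

/-- A Noetherian local subalgebra `D` of an essentially étale local `A`-algebra `E`, dominated by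
`E` and with `𝔪_A D = 𝔪_D`: then `E` is flat over `D`. -/
theorem flat_subalgebra
    (A E : Type u) [CommRing A] [IsLocalRing A] [CommRing E] [IsLocalRing E] [Algebra A E]
    [IsLocalHom (algebraMap A E)] (hE : EGA4loc.IsEssentiallyEtale A E)
    (D : Subalgebra A E) [IsLocalRing D] [IsLocalHom (algebraMap D E)] [IsNoetherianRing D]
    (hm : Ideal.map (algebraMap A D) (maximalIdeal A) = maximalIdeal D) :
    Module.Flat D E := by
  classical
  haveI : Module.Flat A E := FracFgIff.flat_base_of_essEtale A E hE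
  obtain ⟨C₀, _, _, algCE, _, q, _, hCet, hloc⟩ := EssEtUtil.exists_isLocalization A E hE
  haveI := hCet
  haveI := hloc
  let ν : D ⊗[A] C₀ →ₐ[D] E :=
    Algebra.TensorProduct.lift (Algebra.ofId D E) (IsScalarTower.toAlgHom A C₀ E)
      (fun _ _ => Commute.all _ _)
  have hν : ∀ d c, ν (d ⊗ₜ c) = algebraMap D E d * algebraMap C₀ E c :=
    fun d c => Algebra.TensorProduct.lift_tmul _ _ _ _ _
  let 𝔮 : Ideal (D ⊗[A] C₀) := (maximalIdeal E).comap ν
  haveI : 𝔮.IsPrime := Ideal.comap_isPrime _ _
  have hunit : ∀ y : 𝔮.primeCompl, IsUnit (ν y) := by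
    intro y
    have h1 : ν y ∉ maximalIdeal E := y.2
    exact IsLocalRing.notMem_maximalIdeal.mp h1
  let ν' : Localization.AtPrime 𝔮 →ₐ[D] E :=
    IsLocalization.liftAlgHom (M := 𝔮.primeCompl) (f := ν) hunit
  have hν' : ∀ t : D ⊗[A] C₀, ν' (algebraMap _ (Localization.AtPrime 𝔮) t) = ν t :=
    fun t => IsLocalization.lift_eq _ _
  have hsurj : Function.Surjective ν' := by
    intro e
    obtain ⟨⟨c, s⟩, hcs⟩ := IsLocalization.surj q.primeCompl e
    have hsu : IsUnit (algebraMap C₀ E (s : C₀)) := IsLocalization.map_units E s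
    have hts : ((1 : D) ⊗ₜ[A] (s : C₀)) ∈ 𝔮.primeCompl := by
      show ((1 : D) ⊗ₜ[A] (s : C₀)) ∉ 𝔮
      intro h
      have h1 : ν ((1 : D) ⊗ₜ[A] (s : C₀)) ∈ maximalIdeal E := h
      rw [hν, map_one, one_mul] at h1
      exact (mem_maximalIdeal _).mp h1 hsu
    refine ⟨IsLocalization.mk' (Localization.AtPrime 𝔮) ((1 : D) ⊗ₜ[A] c) ⟨_, hts⟩, ?_⟩
    have h2 := IsLocalization.mk'_spec (Localization.AtPrime 𝔮) ((1 : D) ⊗ₜ[A] c) ⟨_, hts⟩
    have h3 := congrArg ν' h2
    rw [map_mul, hν', hν', hν, hν, map_one, one_mul, one_mul] at h3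
    have h4 : ν' (IsLocalization.mk' _ ((1 : D) ⊗ₜ[A] c) ⟨_, hts⟩) * algebraMap C₀ E s =
        e * algebraMap C₀ E s := by rw [h3, hcs]
    exact hsu.mul_left_injective h4
  haveI hTet : Algebra.Etale D (D ⊗[A] C₀) := inferInstance
  haveI : Algebra.FinitePresentation D (D ⊗[A] C₀) := hTet.finitePresentation
  haveI : Algebra.FiniteType D (D ⊗[A] C₀) := inferInstance
  haveI : IsNoetherianRing (D ⊗[A] C₀) := Algebra.FiniteType.isNoetherianRing D _
  haveI : IsNoetherianRing (Localization.AtPrime 𝔮) :=
    IsLocalization.isNoetherianRing 𝔮.primeCompl _ inferInstance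
  haveI : Algebra.FormallyUnramified D (D ⊗[A] C₀) := inferInstance
  haveI : Algebra.FormallyUnramified (D ⊗[A] C₀) (Localization.AtPrime 𝔮) :=
    Algebra.FormallyUnramified.of_isLocalization 𝔮.primeCompl
  haveI : Algebra.FormallyUnramified D (Localization.AtPrime 𝔮) :=
    Algebra.FormallyUnramified.comp D (D ⊗[A] C₀) _
  haveI : Algebra.EssFiniteType (D ⊗[A] C₀) (Localization.AtPrime 𝔮) :=
    Algebra.EssFiniteType.of_isLocalization _ 𝔮.primeCompl
  haveI : Algebra.EssFiniteType D (Localization.AtPrime 𝔮) :=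
    Algebra.EssFiniteType.comp D (D ⊗[A] C₀) _
  haveI : IsLocalHom (algebraMap D (Localization.AtPrime 𝔮)) := ⟨fun d hd => by
    have h1 : IsUnit (ν' (algebraMap D (Localization.AtPrime 𝔮) d)) := hd.map ν'
    rw [AlgHom.commutes] at h1
    exact isUnit_of_map_unit (algebraMap D E) d h1⟩
  have hmR : (maximalIdeal D).map (algebraMap D (Localization.AtPrime 𝔮)) =
      maximalIdeal (Localization.AtPrime 𝔮) :=
    Algebra.FormallyUnramified.map_maximalIdeal (R := D) (S := Localization.AtPrime 𝔮)
  have hmR' : (maximalIdeal A).map (algebraMap A (Localization.AtPrime 𝔮)) =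
      maximalIdeal (Localization.AtPrime 𝔮) := by
    rw [← hmR, ← hm, Ideal.map_map, ← IsScalarTower.algebraMap_eq]
  have hJ : RingHom.ker (ν' : Localization.AtPrime 𝔮 →+* E) = ⊥ := by
    set J := RingHom.ker (ν' : Localization.AtPrime 𝔮 →+* E) with hJdef
    have hJne : J ≠ ⊤ := RingHom.ker_ne_top _
    have hJle : J ≤ maximalIdeal (Localization.AtPrime 𝔮) := IsLocalRing.le_maximalIdeal hJne
    let π : Localization.AtPrime 𝔮 →ₗ[A] E := (ν'.restrictScalars A).toLinearMap
    have hkey : J ≤ (maximalIdeal (Localization.AtPrime 𝔮)) • J := by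
      intro x hx
      have hx1 : x ∈ (maximalIdeal A) • (⊤ : Submodule A (Localization.AtPrime 𝔮)) := by
        have h1 : x ∈ (maximalIdeal A).map (algebraMap A (Localization.AtPrime 𝔮)) := by
          rw [hmR']; exact hJle hx
        rw [Ideal.smul_top_eq_map]
        exact h1
      have h2 := mem_smul_ker_of_flat (maximalIdeal A) π hsurj x (RingHom.mem_ker.mp hx) hx1
      refine Submodule.smul_induction_on h2 ?_ ?_
      · intro a ha j hj
        rw [Algebra.smul_def]
        have h3 : algebraMap A (Localization.AtPrime 𝔮) a ∈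
            maximalIdeal (Localization.AtPrime 𝔮) := by
          rw [← hmR']; exact Ideal.mem_map_of_mem _ ha
        exact Submodule.smul_mem_smul h3 hj
      · intro y z hy hz
        exact Submodule.add_mem _ hy hz
    exact eq_bot_of_le_maximalIdeal_smul (R := Localization.AtPrime 𝔮) J hkey
  have hinj : Function.Injective ν' := by
    rw [injective_iff_map_eq_zero]
    intro x hx
    have h1 : x ∈ RingHom.ker (ν' : Localization.AtPrime 𝔮 →+* E) := RingHom.mem_ker.mpr hx
    rw [hJ] at h1
    exact (Submodule.mem_bot _).mp h1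
  haveI : Module.Flat (D ⊗[A] C₀) (Localization.AtPrime 𝔮) := IsLocalization.flat _ 𝔮.primeCompl
  haveI : Module.Flat D (D ⊗[A] C₀) := inferInstance
  haveI : Module.Flat D (Localization.AtPrime 𝔮) := Module.Flat.trans D (D ⊗[A] C₀) _
  let eq : Localization.AtPrime 𝔮 ≃ₐ[D] E := AlgEquiv.ofBijective ν' ⟨hinj, hsurj⟩
  exact Module.Flat.of_linearEquiv eq.symm.toLinearEquiv

/-- Descent of integrality for fractions along a faithfully flat extension. -/
theorem isIntegral_of_faithfullyFlat
    (A E : Type u) [CommRing A] [CommRing E] [Algebra A E] (D : Subalgebra A E)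
    [Module.FaithfullyFlat D E]
    (x : FractionRing E) (a : A) (ha : IsUnit (algebraMap A (FractionRing E) a)) (d : D)
    (hax : algebraMap A (FractionRing E) a * x = algebraMap E (FractionRing E) d)
    (hx : IsIntegral E x) : IsIntegral D x := by
  classical
  obtain ⟨p, hpm, hp⟩ := hx
  set n := p.natDegree with hn
  set aK := algebraMap A (FractionRing E) a with haK
  set aE := algebraMap A E a with haEdef
  set aD : D := algebraMap A D a with haDdef
  have haE : algebraMap E (FractionRing E) aE = aK :=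
    (IsScalarTower.algebraMap_apply A E (FractionRing E) a).symm
  have haD : algebraMap D (FractionRing E) aD = aK := haE
  have hdK : algebraMap D (FractionRing E) d = aK * x := hax.symm
  have hsum : ∑ i ∈ Finset.range (n + 1), p.coeff i * (aE ^ (n - i) * (d : E) ^ i) = 0 := by
    apply IsFractionRing.injective E (FractionRing E)
    rw [map_sum, map_zero]
    have h1 : ∀ i ∈ Finset.range (n + 1),
        algebraMap E (FractionRing E) (p.coeff i * (aE ^ (n - i) * (d : E) ^ i)) =
          aK ^ n * (algebraMap E (FractionRing E) (p.coeff i) * x ^ i) := by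
      intro i hi
      have hi' : i ≤ n := Nat.lt_succ_iff.mp (Finset.mem_range.mp hi)
      rw [map_mul, map_mul, map_pow, map_pow, ← hax, haE, mul_pow]
      calc algebraMap E (FractionRing E) (p.coeff i) * (aK ^ (n - i) * (aK ^ i * x ^ i))
          = (aK ^ (n - i) * aK ^ i) * (algebraMap E (FractionRing E) (p.coeff i) * x ^ i) := by
            ring
        _ = aK ^ n * (algebraMap E (FractionRing E) (p.coeff i) * x ^ i) := by
            rw [← pow_add, Nat.sub_add_cancel hi']
    rw [Finset.sum_congr rfl h1, ← Finset.mul_sum, ← Polynomial.eval₂_eq_sum_range, hp, mul_zero]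
  rw [Finset.sum_range_succ, hpm.coeff_natDegree, Nat.sub_self, pow_zero, one_mul, one_mul]
    at hsum
  let 𝔞 : Ideal D := Ideal.span (Set.range (fun i : Fin n => aD ^ (n - (i : ℕ)) * d ^ (i : ℕ)))
  have hmem : algebraMap D E (d ^ n) ∈ 𝔞.map (algebraMap D E) := by
    have h1 : algebraMap D E (d ^ n) =
        -∑ i ∈ Finset.range n, p.coeff i * (aE ^ (n - i) * (d : E) ^ i) := by
      rw [eq_neg_iff_add_eq_zero, add_comm]
      exact hsum
    rw [h1]
    refine neg_mem (Ideal.sum_mem _ (fun i hi => ?_))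
    have hi' : i < n := Finset.mem_range.mp hi
    have h2 : aE ^ (n - i) * (d : E) ^ i =
        algebraMap D E (aD ^ (n - ((⟨i, hi'⟩ : Fin n) : ℕ)) * d ^ ((⟨i, hi'⟩ : Fin n) : ℕ)) := by
      rw [map_mul, map_pow, map_pow]
      rfl
    rw [h2]
    exact Ideal.mul_mem_left _ _ (Ideal.mem_map_of_mem _ (Ideal.subset_span ⟨⟨i, hi'⟩, rfl⟩))
  have hd : d ^ n ∈ 𝔞 := by
    have h1 := Ideal.comap_map_eq_self_of_faithfullyFlat (B := E) 𝔞
    rw [← h1]
    exact hmem
  obtain ⟨c, hc⟩ := Ideal.mem_span_range_iff_exists_fun.mp hd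
  have hK : ∑ i : Fin n, algebraMap D (FractionRing E) (c i) * x ^ (i : ℕ) = x ^ n := by
    have h1 := congrArg (algebraMap D (FractionRing E)) hc
    rw [map_sum, map_pow] at h1
    have h2 : ∀ i : Fin n, algebraMap D (FractionRing E) (c i * (aD ^ (n - (i : ℕ)) * d ^ (i : ℕ)))
        = aK ^ n * (algebraMap D (FractionRing E) (c i) * x ^ (i : ℕ)) := by
      intro i
      rw [map_mul, map_mul, map_pow, map_pow, hdK, haD, mul_pow]
      calc algebraMap D (FractionRing E) (c i) * (aK ^ (n - (i : ℕ)) * (aK ^ (i : ℕ) * x ^ (i : ℕ)))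
          = (aK ^ (n - (i : ℕ)) * aK ^ (i : ℕ)) *
              (algebraMap D (FractionRing E) (c i) * x ^ (i : ℕ)) := by ring
        _ = aK ^ n * (algebraMap D (FractionRing E) (c i) * x ^ (i : ℕ)) := by
            rw [← pow_add, Nat.sub_add_cancel i.2.le]
    rw [Finset.sum_congr rfl (fun i _ => h2 i), ← Finset.mul_sum, hdK, mul_pow] at h1
    exact (ha.pow n).mul_left_cancel h1
  refine ⟨X ^ n - ∑ i : Fin n, Polynomial.C (c i) * X ^ (i : ℕ),
    Polynomial.monic_X_pow_sub (Polynomial.degree_sum_fin_lt c), ?_⟩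
  rw [eval₂_sub, eval₂_X_pow, eval₂_finsetSum]
  simp only [eval₂_mul, eval₂_C, eval₂_X_pow]
  rw [hK, sub_self]

/-- A Noetherian local subalgebra `D` of an essentially étale local algebra `E` over an excellent
reduced local ring `A`, dominated by `E`, with `𝔪_A D = 𝔪_D`, is essentially of finite type. -/
theorem essFiniteType_of_noetherian
    (A E : Type u) [CommRing A] [IsLocalRing A] [IsReduced A] (hA : EGA4.IsExcellent A)
    [CommRing E] [IsLocalRing E] [Algebra A E] [IsLocalHom (algebraMap A E)]
    (hE : EGA4loc.IsEssentiallyEtale A E)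
    (D : Subalgebra A E) [IsLocalRing D] [IsLocalHom (algebraMap D E)] [IsNoetherianRing D]
    (hm : Ideal.map (algebraMap A D) (maximalIdeal A) = maximalIdeal D) :
    Algebra.EssFiniteType A D := by
  classical
  haveI : IsNoetherianRing A := hA.1
  have hmin : (minimalPrimes A).Finite := minimalPrimes.finite_of_isNoetherianRing A
  haveI : Module.Flat A E := FracFgIff.flat_base_of_essEtale A E hE
  haveI : Algebra.QuasiFinite A E := FracFgIff.quasiFinite_of_essEtale A E hE
  haveI : Module.Flat D E := flat_subalgebra A E hE D hm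
  haveI : Module.FaithfullyFlat D E := Module.FaithfullyFlat.of_flat_of_isLocalHom
  haveI : IsScalarTower D E (FractionRing E) := IsScalarTower.of_algebraMap_eq (fun d => rfl)
  have hL : ∀ s ∈ nonZeroDivisors A, ∃ y ∈ Main16449.fracSub A E D,
      algebraMap A (FractionRing E) s * y = 1 := by
    intro s hs
    obtain ⟨y, hy⟩ :=
      (FiniteIC.isUnit_algebraMap_of_mem_nonZeroDivisors A E hmin s hs).exists_right_inv
    exact ⟨y, ⟨s, hs, 1, D.one_mem, by rw [hy, map_one]⟩, hy⟩
  have hD' : ∀ x : FractionRing E,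
      x ∈ (Main16449.fracSub A E D ⊓ (integralClosure E (FractionRing E)).restrictScalars A) ↔
      (IsIntegral D x ∧ ∃ a ∈ nonZeroDivisors A, ∃ d ∈ D,
        algebraMap A (FractionRing E) a * x = algebraMap E (FractionRing E) d) := by
    intro x
    constructor
    · intro hx
      obtain ⟨hxL, hxE⟩ := Algebra.mem_inf.mp hx
      obtain ⟨a, ha, d, hd, hax⟩ := hxL
      exact ⟨isIntegral_of_faithfullyFlat A E D x a
        (FiniteIC.isUnit_algebraMap_of_mem_nonZeroDivisors A E hmin a ha) ⟨d, hd⟩ hax hxE,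
        a, ha, d, hd, hax⟩
    · rintro ⟨hxD, hxL⟩
      exact Algebra.mem_inf.mpr ⟨hxL, (hxD.tower_top : IsIntegral E x)⟩
  have hle : (Main16449.fracSub A E D ⊓ (integralClosure E (FractionRing E)).restrictScalars A) ≤
      (integralClosure E (FractionRing E)).restrictScalars A := inf_le_right
  obtain ⟨-, hfin, hmaxiff, -⟩ := InterNorm.main_abstract A E hE (Main16449.fracSub A E D) hL
    (Main16449.fracSub A E D ⊓ (integralClosure E (FractionRing E)).restrictScalars A)
    ((integralClosure E (FractionRing E)).restrictScalars A) (fun x => Iff.rfl) rfl hle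
  refine Main16449.main A E hA hE D _ hD' hle hfin (fun N hN => ?_)
  obtain ⟨M, hM, hNM⟩ := (hmaxiff N).mp hN
  exact ⟨M, hM, hNM.symm⟩

/-- EGA IV 18.x (S16439). -/
theorem main
    (A S : Type u) [CommRing A] [IsLocalRing A] [IsReduced A] (hA : EGA4.IsExcellent A)
    [CommRing S] [IsLocalRing S] [Algebra A S] [IsLocalHom (algebraMap A S)]
    [Hensel.IsStrictHenselization A S] (D : Subalgebra A S) [IsLocalRing D]
    [IsLocalHom (algebraMap D S)] [IsNoetherianRing D]
    (hfg : ∃ t : Finset (FractionRing D), ∀ x : FractionRing D, ∃ a ∈ nonZeroDivisors A,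
      algebraMap A (FractionRing D) a * x ∈ Algebra.adjoin A (t : Set (FractionRing D)))
    (hm : Ideal.map (algebraMap A D) (maximalIdeal A) = maximalIdeal D) :
    EGA4loc.IsEssentiallyEtale A D := by
  classical
  haveI : IsNoetherianRing A := hA.1
  have hmin : (minimalPrimes A).Finite := minimalPrimes.finite_of_isNoetherianRing A
  obtain ⟨E, hDE, hEloc, hEet⟩ := (FracFgIff.main A S hmin D).mp hfg
  haveI := hEloc
  haveI : IsLocalHom (algebraMap A E) := ⟨fun a ha => by
    have h1 : IsUnit (algebraMap E S (algebraMap A E a)) := ha.map _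
    rw [← IsScalarTower.algebraMap_apply A E S] at h1
    exact isUnit_of_map_unit (algebraMap A S) a h1⟩
  let DE : Subalgebra A E := D.comap E.val
  let φ : DE ≃ₐ[A] D :=
    { toFun := fun x => ⟨((x : E) : S), x.2⟩
      invFun := fun d => ⟨⟨(d : S), hDE d.2⟩, d.2⟩
      left_inv := fun x => rfl
      right_inv := fun d => rfl
      map_mul' := fun x y => rfl
      map_add' := fun x y => rfl
      commutes' := fun a => rfl }
  haveI : IsLocalRing DE := φ.symm.toRingEquiv.isLocalRing
  haveI : IsNoetherianRing DE := isNoetherianRing_of_ringEquiv D φ.symm.toRingEquiv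
  have hunitφ : ∀ x : DE, IsUnit (φ x) → IsUnit x := by
    intro x hu
    have h1 := hu.map φ.symm
    rwa [AlgEquiv.symm_apply_apply] at h1
  haveI : IsLocalHom (algebraMap DE E) := ⟨fun x hx => by
    have h1 : IsUnit (algebraMap D S (φ x)) := hx.map (algebraMap E S)
    exact hunitφ x (isUnit_of_map_unit (algebraMap D S) _ h1)⟩
  have hmDE : Ideal.map (algebraMap A DE) (maximalIdeal A) = maximalIdeal DE := by
    apply le_antisymm
    · rw [Ideal.map_le_iff_le_comap]
      intro a ha
      rw [Ideal.mem_comap, mem_maximalIdeal, mem_nonunits_iff]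
      intro hu
      have h1 : IsUnit (algebraMap A E a) := hu.map (algebraMap DE E)
      exact (mem_maximalIdeal _).mp ha (isUnit_of_map_unit (algebraMap A E) a h1)
    · intro x hx
      have h1 : φ x ∈ maximalIdeal D := by
        rw [mem_maximalIdeal, mem_nonunits_iff]
        intro hu
        exact (mem_maximalIdeal _).mp hx (hunitφ x hu)
      rw [← hm] at h1
      have h2 : (φ.symm : D →+* DE) (φ x) ∈ Ideal.map (φ.symm : D →+* DE)
          (Ideal.map (algebraMap A D) (maximalIdeal A)) := Ideal.mem_map_of_mem _ h1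
      rw [Ideal.map_map] at h2
      have h3 : ((φ.symm : D →+* DE)).comp (algebraMap A D) = algebraMap A DE :=
        RingHom.ext (fun a => φ.symm.commutes a)
      rw [h3] at h2
      have h4 : (φ.symm : D →+* DE) (φ x) = x := φ.symm_apply_apply x
      rw [h4] at h2
      exact h2
  haveI : Algebra.EssFiniteType A DE := essFiniteType_of_noetherian A E hA hEet DE hmDE
  haveI : Algebra.EssFiniteType A D :=
    Algebra.EssFiniteType.of_surjective φ.toAlgHom φ.surjective
  exact Groth.Agent.S16438.result A S D hm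

end Groth.Agent.Lib.Helper8.EssEtNoeth
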