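import Mathlib
import Groth.Agent.Lib.Helper7.ResExtTower
import Groth.Agent.Lib.Helper27.NagCompl2
import Groth.Agent.Lib.Helper8.ComplDim

/-!
# Extensions of discrete valuation rings

* `isDVR_of_flat`: a Noetherian local ring `B`, flat over a DVR `R` with `𝔪_R B = 𝔪_B`, is a DVR.
* `isDVR_adicCompletion`: the completion of a DVR is a DVR.
* `exists_complete_dvr_ext`: a DVR with a local homomorphism to a field `k` embeds into a complete
  DVR with residue field `k` (EGA 0_III 10.3.1 for DVRs, using Helper7's `ResExt.exists_ext`).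
* `exists_finite_dvr_over`: a domain finite over a complete DVR is contained in a DVR finite over it
  (using Helper27's `integralClosure_complete`).
-/

set_option autoImplicit false
universe u
open IsLocalRing

namespace Groth.Agent.Lib.Helper8.DvrExtComplete

section flat

variable {R B : Type u} [CommRing R] [IsDomain R] [IsDiscreteValuationRing R]
  [CommRing B] [IsLocalRing B] [IsNoetherianRing B]

theorem isDVR_of_flat (ψ : R →+* B) (hflat : ψ.Flat)
    (hmax : (maximalIdeal R).map ψ = maximalIdeal B) :
    ∃ _ : IsDomain B, IsDiscreteValuationRing B := by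
  classical
  obtain ⟨ϖ, hϖ⟩ := IsDiscreteValuationRing.exists_irreducible R
  have hmR : maximalIdeal R = Ideal.span {ϖ} := hϖ.maximalIdeal_eq
  obtain ⟨p, hp⟩ : ∃ p, p = ψ ϖ := ⟨_, rfl⟩
  have hmB : maximalIdeal B = Ideal.span {p} := by
    rw [← hmax, hmR, Ideal.map_span, Set.image_singleton, hp]
  have hpreg : ∀ b : B, p * b = 0 → b = 0 := by
    intro b hb
    algebraize [ψ]
    have hreg : IsSMulRegular B ϖ :=
      Module.Flat.isSMulRegular_of_nonZeroDivisors (mem_nonZeroDivisors_of_ne_zero hϖ.ne_zero)
    apply hreg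
    show ϖ • b = ϖ • (0 : B)
    rw [smul_zero, Algebra.smul_def, RingHom.algebraMap_toAlgebra, ← hp]
    exact hb
  have hpnreg : ∀ (n : ℕ) (b : B), p ^ n * b = 0 → b = 0 := by
    intro n
    induction n with
    | zero => intro b hb; simpa using hb
    | succ n ih =>
      intro b hb
      apply ih
      apply hpreg
      rw [← mul_assoc, ← pow_succ']
      exact hb
  have hpm : p ∈ maximalIdeal B := by rw [hmB]; exact Ideal.mem_span_singleton_self p
  have hK : ⨅ n : ℕ, maximalIdeal B ^ n = ⊥ :=
    Ideal.iInf_pow_eq_bot_of_isLocalRing _ (Ideal.IsMaximal.ne_top inferInstance)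
  have hfact : ∀ a : B, a ≠ 0 → ∃ (n : ℕ) (c : B), IsUnit c ∧ a = p ^ n * c := by
    intro a ha
    have hex : ∃ n : ℕ, a ∉ maximalIdeal B ^ n := by
      by_contra hcon
      push_neg at hcon
      apply ha
      have h1 : a ∈ ⨅ n : ℕ, maximalIdeal B ^ n := by
        rw [Submodule.mem_iInf]
        exact hcon
      rw [hK] at h1
      exact (Submodule.mem_bot B).mp h1
    have hn1 : a ∉ maximalIdeal B ^ (Nat.find hex) := Nat.find_spec hex
    have hn0 : Nat.find hex ≠ 0 := by
      intro h0
      rw [h0, pow_zero, Ideal.one_eq_top] at hn1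
      exact hn1 Submodule.mem_top
    obtain ⟨k, hk⟩ := Nat.exists_eq_succ_of_ne_zero hn0
    have hk1 : a ∈ maximalIdeal B ^ k := by
      by_contra hcon
      have := Nat.find_min' hex hcon
      omega
    rw [hmB, Ideal.span_singleton_pow, Ideal.mem_span_singleton'] at hk1
    obtain ⟨c, hc⟩ := hk1
    refine ⟨k, c, ?_, by rw [← hc, mul_comm]⟩
    by_contra hnu
    have hcm : c ∈ maximalIdeal B := (IsLocalRing.mem_maximalIdeal c).mpr hnu
    rw [hmB, Ideal.mem_span_singleton'] at hcm
    obtain ⟨d, hd⟩ := hcm
    apply hn1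
    rw [hk, hmB, Ideal.span_singleton_pow, Ideal.mem_span_singleton']
    refine ⟨d, ?_⟩
    rw [← hc, ← hd, Nat.succ_eq_add_one, pow_succ]; ring
  have hnzd : NoZeroDivisors B := ⟨by
    intro a b hab
    by_contra hcon
    push_neg at hcon
    obtain ⟨n, c, hc, rfl⟩ := hfact a hcon.1
    obtain ⟨m, d, hd, rfl⟩ := hfact b hcon.2
    have h1 : p ^ (n + m) * (c * d) = 0 := by rw [← hab, pow_add]; ring
    have h2 : c * d = 0 := hpnreg _ _ h1
    exact (hc.mul hd).ne_zero h2⟩
  have hdom : IsDomain B := NoZeroDivisors.to_isDomain B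
  haveI := hdom
  have hp0 : p ≠ 0 := fun h0 => one_ne_zero (hpreg 1 (by rw [h0, zero_mul]))
  have hnf : ¬ IsField B := by
    rw [IsLocalRing.isField_iff_maximalIdeal_eq]
    intro hbot
    rw [hbot] at hpm
    exact hp0 ((Submodule.mem_bot B).mp hpm)
  have h04 : IsDiscreteValuationRing B ↔ (maximalIdeal B).IsPrincipal :=
    (IsDiscreteValuationRing.TFAE B hnf).out 0 4
  exact ⟨hdom, h04.mpr ⟨⟨p, hmB⟩⟩⟩

end flat

theorem isDVR_adicCompletion (B : Type u) [CommRing B] [IsDomain B] [IsDiscreteValuationRing B] :
    ∃ _ : IsDomain (AdicCompletion (maximalIdeal B) B),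
      IsDiscreteValuationRing (AdicCompletion (maximalIdeal B) B) := by
  haveI : IsNoetherianRing (AdicCompletion (maximalIdeal B) B) := inferInstance
  have hflat : (algebraMap B (AdicCompletion (maximalIdeal B) B)).Flat :=
    RingHom.flat_algebraMap_iff.mpr inferInstance
  exact isDVR_of_flat _ hflat AdicCompletion.maximalIdeal_eq_map.symm

/-- The residue field of a local ring mapping onto a field `k` with kernel the maximal ideal is
`k`. -/
theorem exists_residueField_equiv {A k : Type u} [CommRing A] [IsLocalRing A] [Field k]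
    (Φ : A →+* k) (hsurj : Function.Surjective Φ) (hker : RingHom.ker Φ = maximalIdeal A) :
    ∃ ε : ResidueField A ≃+* k, ∀ a, ε (residue A a) = Φ a := by
  refine ⟨(Ideal.quotEquivOfEq hker.symm).trans (RingHom.quotientKerEquivOfSurjective hsurj),
    fun a => ?_⟩
  show (RingHom.quotientKerEquivOfSurjective hsurj)
    ((Ideal.quotEquivOfEq hker.symm) (Ideal.Quotient.mk _ a)) = _
  rw [Ideal.quotEquivOfEq_mk, RingHom.quotientKerEquivOfSurjective_apply_mk]

theorem exists_complete_dvr_ext {R k : Type u} [CommRing R] [IsDomain R]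
    [IsDiscreteValuationRing R] [Field k] (φ₀ : R →+* k) [IsLocalHom φ₀] :
    ∃ (A : Type u) (_ : CommRing A) (_ : IsDomain A) (_ : IsDiscreteValuationRing A)
      (ψ : R →+* A) (Φ : A →+* k),
      IsAdicComplete (maximalIdeal A) A ∧ (maximalIdeal R).map ψ = maximalIdeal A ∧
      Function.Surjective Φ ∧ RingHom.ker Φ = maximalIdeal A ∧ Φ.comp ψ = φ₀ := by
  obtain ⟨B, hBr, hBl, ψ, φ, hφ, hcomp, hflat, hmax, hsurj, hN⟩ :=
    Groth.Agent.Lib.Helper7.ResExt.exists_ext φ₀
  letI := hBr
  haveI := hBl
  haveI : IsNoetherianRing B := hN inferInstance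
  obtain ⟨hBd, hBdvr⟩ := isDVR_of_flat ψ hflat hmax
  haveI := hBd
  haveI := hBdvr
  obtain ⟨hAd, hAdvr⟩ := isDVR_adicCompletion B
  haveI := hφ
  have hker : RingHom.ker φ = maximalIdeal B :=
    Groth.Agent.Lib.Helper7.ResExt.ker_eq_maximalIdeal φ
  let q : B ⧸ (maximalIdeal B) ^ 1 →+* k := Ideal.Quotient.lift _ φ (fun a ha => by
    rw [pow_one] at ha
    rw [← RingHom.mem_ker, hker]; exact ha)
  let Φ : AdicCompletion (maximalIdeal B) B →+* k :=
    q.comp (AdicCompletion.evalₐ (maximalIdeal B) 1).toRingHom
  have hΦ : ∀ b : B, Φ (algebraMap B (AdicCompletion (maximalIdeal B) B) b) = φ b := by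
    intro b
    show q ((AdicCompletion.evalₐ (maximalIdeal B) 1)
      (algebraMap B (AdicCompletion (maximalIdeal B) B) b)) = φ b
    rw [AlgHom.commutes]
    rfl
  have hsurjΦ : Function.Surjective Φ := by
    intro c
    obtain ⟨b, rfl⟩ := hsurj c
    exact ⟨algebraMap B _ b, hΦ b⟩
  refine ⟨AdicCompletion (maximalIdeal B) B, inferInstance, hAd, hAdvr,
    (algebraMap B (AdicCompletion (maximalIdeal B) B)).comp ψ, Φ, inferInstance, ?_, hsurjΦ, ?_, ?_⟩
  · rw [← Ideal.map_map, hmax, AdicCompletion.maximalIdeal_eq_map]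
  · haveI : (RingHom.ker Φ).IsMaximal := RingHom.ker_isMaximal_of_surjective Φ hsurjΦ
    exact IsLocalRing.eq_maximalIdeal this
  · ext r
    show Φ (algebraMap B _ (ψ r)) = φ₀ r
    rw [hΦ, ← hcomp]
    rfl

section normalization

attribute [local instance] FractionRing.liftAlgebra FractionRing.isScalarTower_liftAlgebra

theorem exists_finite_dvr_over {A A' : Type u} [CommRing A] [IsDomain A]
    [IsDiscreteValuationRing A] [IsAdicComplete (maximalIdeal A) A] [CommRing A'] [IsDomain A']
    [Algebra A A'] [Module.Finite A A'] (hinj : Function.Injective (algebraMap A A')) :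
    ∃ (B : Type u) (_ : CommRing B) (_ : IsDomain B) (_ : IsDiscreteValuationRing B)
      (_ : Algebra A B) (ι : A' →ₐ[A] B),
      Module.Finite A B ∧ IsLocalHom (algebraMap A B) ∧ IsLocalHom ι.toRingHom := by
  haveI : FaithfulSMul A A' := (faithfulSMul_iff_algebraMap_injective A A').mpr hinj
  have hinjK : Function.Injective (algebraMap A (FractionRing A')) := by
    rw [IsScalarTower.algebraMap_eq A A' (FractionRing A')]
    exact (IsFractionRing.injective A' (FractionRing A')).comp hinj
  haveI : FaithfulSMul A (FractionRing A') :=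
    (faithfulSMul_iff_algebraMap_injective A (FractionRing A')).mpr hinjK
  haveI : Algebra.IsIntegral A A' := inferInstance
  haveI : Algebra.IsAlgebraic A A' := inferInstance
  haveI : FiniteDimensional (FractionRing A) (FractionRing A') :=
    .of_isLocalization A A' (nonZeroDivisors A)
  obtain ⟨hfin, hloc, -⟩ :=
    Groth.Agent.Lib.Helper27.NagCompl.integralClosure_complete (A := A) (K' := FractionRing A')
  haveI := hfin
  haveI := hloc
  haveI : IsIntegrallyClosed (integralClosure A (FractionRing A')) :=
    integralClosure.isIntegrallyClosedOfFiniteExtension (FractionRing A)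
  haveI : IsNoetherianRing (integralClosure A (FractionRing A')) :=
    IsNoetherianRing.of_finite A _
  haveI : Ring.DimensionLEOne (integralClosure A (FractionRing A')) := inferInstance
  haveI : IsDedekindDomain (integralClosure A (FractionRing A')) := { }
  have hinjB : Function.Injective (algebraMap A (integralClosure A (FractionRing A'))) :=
    fun a b h => hinjK (congrArg Subtype.val h)
  haveI : FaithfulSMul A (integralClosure A (FractionRing A')) :=
    (faithfulSMul_iff_algebraMap_injective A _).mpr hinjB
  haveI : Algebra.IsIntegral A (integralClosure A (FractionRing A')) := inferInstance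
  have hnf : ¬ IsField (integralClosure A (FractionRing A')) := fun hf =>
    IsDiscreteValuationRing.not_isField A (isField_of_isIntegral_of_isField hinjB hf)
  have h02 : IsDiscreteValuationRing (integralClosure A (FractionRing A')) ↔
      IsDedekindDomain (integralClosure A (FractionRing A')) :=
    (IsDiscreteValuationRing.TFAE _ hnf).out 0 2
  let ι : A' →ₐ[A] integralClosure A (FractionRing A') :=
    (IsScalarTower.toAlgHom A A' (FractionRing A')).codRestrict _
      (fun a => (Algebra.IsIntegral.isIntegral a).map (IsScalarTower.toAlgHom A A' (FractionRing A')))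
  have hιinj : Function.Injective ι := by
    intro a b h
    have h1 := congrArg Subtype.val h
    exact IsFractionRing.injective A' (FractionRing A') h1
  have hιint : ι.toRingHom.IsIntegral := by
    apply RingHom.IsIntegral.tower_top (algebraMap A A') ι.toRingHom
    have : ι.toRingHom.comp (algebraMap A A') =
        algebraMap A (integralClosure A (FractionRing A')) := ι.comp_algebraMap
    rw [this]
    exact algebraMap_isIntegral_iff.mpr inferInstance
  exact ⟨integralClosure A (FractionRing A'), inferInstance, inferInstance, h02.mpr inferInstance,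
    inferInstance, ι, hfin, inferInstance, hιint.isLocalHom hιinj⟩

end normalization

end Groth.Agent.Lib.Helper8.DvrExtComplete
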