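import Mathlib

set_option autoImplicit false
set_option linter.style.haveILetI false
universe u

open CategoryTheory CategoryTheory.Limits

namespace Groth.Agent.Lib.Helper8

variable {A : Type u} [CommRing A] {J : Type u} [Preorder J] [IsDirected J (· ≤ ·)] [Nonempty J]
  (N : J ⥤ ModuleCat.{u} A)

/-- two elements of a stage with the same image in the colimit become equal at a later stage -/
theorem modColim_eq_at_stage {k : J} (x y : N.obj k)
    (h : colimit.ι N k x = colimit.ι N k y) : ∃ l : J, ∃ f : k ⟶ l, N.map f x = N.map f y := by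
  haveI : IsFiltered J := inferInstance
  exact (IsColimit.eq_iff' (colimit.isColimit N) x y).mp h

/-- finitely many equalities in the colimit are realized at a common later stage. -/
theorem modColim_eq_at_stage_finset {ι : Type*} (S : Finset ι) {k : J} (x y : ι → N.obj k)
    (h : ∀ s ∈ S, colimit.ι N k (x s) = colimit.ι N k (y s)) :
    ∃ l : J, ∃ f : k ⟶ l, ∀ s ∈ S, N.map f (x s) = N.map f (y s) := by
  classical
  induction S using Finset.induction_on with
  | empty => exact ⟨k, 𝟙 k, by simp⟩
  | insert a S ha ih =>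
    obtain ⟨l, f, hf⟩ := ih (fun s hs => h s (Finset.mem_insert_of_mem hs))
    obtain ⟨l', f', hf'⟩ := modColim_eq_at_stage N (x a) (y a) (h a (Finset.mem_insert_self a S))
    obtain ⟨m, hlm, hl'm⟩ := exists_ge_ge l l'
    refine ⟨m, homOfLE (le_trans (leOfHom f) hlm), ?_⟩
    intro s hs
    rw [Finset.mem_insert] at hs
    rcases hs with rfl | hs
    · have : (homOfLE (le_trans (leOfHom f) hlm) : k ⟶ m) = f' ≫ homOfLE hl'm := Subsingleton.elim _ _
      rw [this, N.map_comp, ModuleCat.comp_apply, ModuleCat.comp_apply, hf']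
    · have : (homOfLE (le_trans (leOfHom f) hlm) : k ⟶ m) = f ≫ homOfLE hlm := Subsingleton.elim _ _
      rw [this, N.map_comp, ModuleCat.comp_apply, ModuleCat.comp_apply, hf s hs]

/-- Two maps from a finite module to a stage which agree in the colimit agree at a later stage. -/
theorem modColim_hom_eq_at_stage (M : ModuleCat.{u} A) [Module.Finite A M] {k : J}
    (φ ψ : M ⟶ N.obj k) (h : φ ≫ colimit.ι N k = ψ ≫ colimit.ι N k) :
    ∃ l : J, ∃ f : k ⟶ l, φ ≫ N.map f = ψ ≫ N.map f := by
  obtain ⟨S, hS⟩ := (Module.finite_def.mp (inferInstance : Module.Finite A M))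
  obtain ⟨l, f, hf⟩ := modColim_eq_at_stage_finset N S (fun s : M => φ s) (fun s : M => ψ s)
    (fun s _ => by
      have := congrArg (fun g => g s) h
      simpa using this)
  refine ⟨l, f, ?_⟩
  apply ModuleCat.hom_ext
  apply LinearMap.ext_on hS
  intro s hs
  exact hf s hs

end Groth.Agent.Lib.Helper8

namespace Groth.Agent.Lib.Helper8

variable {A : Type u} [CommRing A] {J : Type u} [Preorder J] [IsDirected J (· ≤ ·)] [Nonempty J]
  (N : J ⥤ ModuleCat.{u} A)

/-- finitely many elements of the colimit come from a common stage. -/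
theorem modColim_exists_rep_fin {n : ℕ} (z : Fin n → (colimit N : ModuleCat.{u} A)) :
    ∃ (j : J) (y : Fin n → N.obj j), ∀ i, colimit.ι N j (y i) = z i := by
  haveI : IsFiltered J := inferInstance
  induction n with
  | zero => exact ⟨Classical.arbitrary J, fun i => i.elim0, fun i => i.elim0⟩
  | succ n ih =>
    obtain ⟨j, y, hy⟩ := ih (fun i => z i.succ)
    obtain ⟨j', y', hy'⟩ := Concrete.colimit_exists_rep N (z 0)
    obtain ⟨k, hjk, hj'k⟩ := exists_ge_ge j j'
    refine ⟨k, Fin.cons (N.map (homOfLE hj'k) y') (fun i => N.map (homOfLE hjk) (y i)), ?_⟩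
    intro i
    refine Fin.cases ?_ (fun i => ?_) i
    · rw [Fin.cons_zero, ← hy', ← ModuleCat.comp_apply, colimit.w]
    · rw [Fin.cons_succ, ← hy i, ← ModuleCat.comp_apply, colimit.w]

/-- A map from a finitely presented module to the colimit factors through a stage. -/
theorem modColim_hom_factors (M : ModuleCat.{u} A) [Module.FinitePresentation A M]
    (G : M ⟶ colimit N) : ∃ (j : J) (φ : M ⟶ N.obj j), φ ≫ colimit.ι N j = G := by
  obtain ⟨n, m, f, g, hf, hfg⟩ := Module.FinitePresentation.exists_fin' A M
  -- lift images of basis vectors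
  obtain ⟨j, y, hy⟩ := modColim_exists_rep_fin N (fun i => G.hom (f (Pi.single i 1)))
  let h : (Fin n → A) →ₗ[A] N.obj j := Fintype.linearCombination A y
  have hh : ∀ v, colimit.ι N j (h v) = G.hom (f v) := by
    intro v
    have : (colimit.ι N j).hom ∘ₗ h = G.hom ∘ₗ f := by
      apply LinearMap.pi_ext'
      intro i
      apply LinearMap.ext_ring
      simp only [LinearMap.coe_comp, LinearMap.coe_single, Function.comp_apply, h,
        Fintype.linearCombination_apply_single, one_smul]
      exact hy i
    exact congrArg (fun F => F v) this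
  -- relations die at a later stage
  obtain ⟨l, e, he⟩ := modColim_eq_at_stage_finset N (Finset.univ : Finset (Fin m))
    (fun k => h (g (Pi.single k 1))) (fun _ => 0) (fun k _ => by
      rw [hh, hfg.apply_apply_eq_zero, map_zero, map_zero])
  let h' : (Fin n → A) →ₗ[A] N.obj l := (N.map e).hom ∘ₗ h
  have hg0 : h' ∘ₗ g = 0 := by
    apply LinearMap.pi_ext'
    intro k
    apply LinearMap.ext_ring
    simp only [LinearMap.coe_comp, LinearMap.coe_single, Function.comp_apply, h',
      LinearMap.zero_comp, LinearMap.zero_apply]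
    have := he k (Finset.mem_univ k)
    rw [map_zero] at this
    exact this
  have hker : LinearMap.ker f ≤ LinearMap.ker h' := by
    intro v hv
    rw [LinearMap.exact_iff.mp hfg] at hv
    obtain ⟨w, rfl⟩ := hv
    exact congrArg (fun F => F w) hg0
  let φ : M →ₗ[A] N.obj l :=
    (LinearMap.ker f).liftQ h' hker ∘ₗ (f.quotKerEquivOfSurjective hf).symm.toLinearMap
  have hφ : ∀ v, φ (f v) = h' v := by
    intro v
    simp only [φ, LinearMap.coe_comp, LinearEquiv.coe_coe, Function.comp_apply,
      LinearMap.quotKerEquivOfSurjective_symm_apply, Submodule.liftQ_apply]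
  refine ⟨l, ModuleCat.ofHom φ, ?_⟩
  apply ModuleCat.hom_ext
  apply LinearMap.ext
  intro x
  obtain ⟨v, rfl⟩ := hf x
  change colimit.ι N l (φ (f v)) = G.hom (f v)
  rw [hφ, ← hh]
  change colimit.ι N l (N.map e (h v)) = _
  rw [← ModuleCat.comp_apply, colimit.w]

end Groth.Agent.Lib.Helper8
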