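import Mathlib

set_option autoImplicit false
universe u

namespace Groth.Agent.Lib.Helper8.FibreFree

open TensorProduct

section basic

variable {R : Type*} [CommRing R] (I : Ideal R) {N : Type*} [AddCommGroup N] [Module R N]

lemma mk_surjective : Function.Surjective (TensorProduct.mk R (R ⧸ I) N 1) := by
  rw [← TensorProduct.quotTensorEquivQuotSMul_symm_comp_mkQ, LinearMap.coe_comp,
    LinearEquiv.coe_coe]
  exact (TensorProduct.quotTensorEquivQuotSMul N I).symm.surjective.comp
    (Submodule.mkQ_surjective _)

lemma mk_eq_zero_iff (n : N) :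
    TensorProduct.mk R (R ⧸ I) N 1 n = 0 ↔ n ∈ I • (⊤ : Submodule R N) := by
  rw [← TensorProduct.quotTensorEquivQuotSMul_symm_comp_mkQ, LinearMap.comp_apply,
    LinearEquiv.coe_coe, LinearEquiv.map_eq_zero_iff, Submodule.mkQ_apply,
    Submodule.Quotient.mk_eq_zero]

set_option backward.isDefEq.respectTransparency false in
/-- Lifting a basis modulo an ideal in the Jacobson radical, assuming `Tor₁(R/I, N) = 0`. -/
theorem bijective_linearCombination {ι : Type*} [Finite ι] (hI : I ≤ Ideal.jacobson ⊥)
    [Module.FinitePresentation R N] (v : ι → N)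
    (hv : Function.Bijective ((Finsupp.linearCombination R v).baseChange (R ⧸ I)))
    (H : Function.Injective (I.subtype.rTensor N)) :
    Function.Bijective (Finsupp.linearCombination R v) := by
  set i := Finsupp.linearCombination R v with hi_def
  have hsurj : Function.Surjective i := by
    rw [← LinearMap.range_eq_top, eq_top_iff]
    apply Submodule.le_of_le_smul_of_le_jacobson_bot (Module.Finite.fg_top) hI
    intro n _
    obtain ⟨x, hx⟩ := hv.2 (TensorProduct.mk R (R ⧸ I) N 1 n)
    obtain ⟨y, rfl⟩ := mk_surjective I (N := ι →₀ R) x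
    have h0 : TensorProduct.mk R (R ⧸ I) N 1 (n - i y) = 0 := by
      rw [map_sub, ← hx]
      simp [LinearMap.baseChange_tmul]
    have hmem := (mk_eq_zero_iff I _).mp h0
    have : n = i y + (n - i y) := by abel
    rw [this]
    exact Submodule.add_mem_sup (LinearMap.mem_range_self i y) hmem
  refine ⟨?_, hsurj⟩
  have hKfg : (LinearMap.ker i).FG := Module.FinitePresentation.fg_ker i hsurj
  rw [← LinearMap.ker_eq_bot]
  refine Submodule.eq_bot_of_le_smul_of_le_jacobson_bot I _ hKfg ?_ hI
  set K := LinearMap.ker i with hK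
  have hinj : Function.Injective (K.subtype.lTensor (R ⧸ I)) := by
    have hinj := lTensor_injective_of_exact_of_exact_of_rTensor_injective
      (N₁ := K) (N₂ := ι →₀ R) (N₃ := N)
      (f₁ := I.subtype) (f₂ := Submodule.mkQ I)
      (g₁ := K.subtype) (g₂ := i) (LinearMap.exact_subtype_mkQ I)
      (Submodule.mkQ_surjective _) (LinearMap.exact_subtype_ker_map i) hsurj H ?_
    · exact hinj
    · apply Module.Flat.lTensor_preserves_injective_linearMap
      exact Subtype.val_injective
  have hcomp : ∀ z, (i.lTensor (R ⧸ I)) (K.subtype.lTensor (R ⧸ I) z) = 0 := by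
    intro z
    rw [← LinearMap.comp_apply, ← LinearMap.lTensor_comp,
      (LinearMap.exact_subtype_ker_map i).linearMap_comp_eq_zero]
    simp
  have hsub : Subsingleton ((R ⧸ I) ⊗[R] K) := by
    refine ⟨fun x y => hinj (hv.1 ?_)⟩
    rw [LinearMap.baseChange_eq_ltensor, hcomp, hcomp]
  intro k hk
  have h0 : TensorProduct.mk R (R ⧸ I) K 1 ⟨k, hk⟩ = 0 := Subsingleton.elim _ _
  have hmem := (mk_eq_zero_iff I (N := K) ⟨k, hk⟩).mp h0
  have := Submodule.mem_map_of_mem (f := K.subtype) hmem
  rw [Submodule.map_smul'', Submodule.map_top, Submodule.range_subtype] at this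
  exact this

/-- A finitely presented module `N` over a local ring `R` with `N/IN` flat over `R/I` and
`Tor₁(R/I, N) = 0` is free. -/
theorem free_of_flat_quotient [IsLocalRing R] (hI : I ≤ IsLocalRing.maximalIdeal R)
    [Module.FinitePresentation R N]
    [Module.Flat (R ⧸ I) ((R ⧸ I) ⊗[R] N)]
    (H : Function.Injective (I.subtype.rTensor N)) : Module.Free R N := by
  have hne : I ≠ ⊤ := fun h =>
    (IsLocalRing.maximalIdeal.isMaximal R).ne_top (top_le_iff.mp (h ▸ hI))
  haveI : Nontrivial (R ⧸ I) := Ideal.Quotient.nontrivial_iff.mpr hne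
  haveI : IsLocalRing (R ⧸ I) :=
    IsLocalRing.of_surjective' (Ideal.Quotient.mk I) Ideal.Quotient.mk_surjective
  haveI : Module.Free (R ⧸ I) ((R ⧸ I) ⊗[R] N) := Module.free_of_flat_of_isLocalRing
  let ι := Module.Free.ChooseBasisIndex (R ⧸ I) ((R ⧸ I) ⊗[R] N)
  let b : Module.Basis ι (R ⧸ I) ((R ⧸ I) ⊗[R] N) :=
    Module.Free.chooseBasis (R ⧸ I) ((R ⧸ I) ⊗[R] N)
  choose v hv using fun j => mk_surjective I (b j)
  have hbij := bijective_linearCombination I
    (hI.trans (IsLocalRing.jacobson_eq_maximalIdeal ⊥ bot_ne_top).ge) v ?_ H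
  · exact Module.Free.of_equiv (LinearEquiv.ofBijective _ hbij)
  · let b' : Module.Basis ι (R ⧸ I) ((R ⧸ I) ⊗[R] (ι →₀ R)) :=
      (Finsupp.basisSingleOne (R := R) (ι := ι)).baseChange (R ⧸ I)
    have : (Finsupp.linearCombination R v).baseChange (R ⧸ I) =
        (b'.equiv b (Equiv.refl ι)).toLinearMap := by
      apply b'.ext
      intro j
      rw [LinearEquiv.coe_coe, Module.Basis.equiv_apply, Equiv.refl_apply, ← hv j]
      simp [b', Module.Basis.baseChange_apply, LinearMap.baseChange_tmul]
    rw [this]
    exact (b'.equiv b (Equiv.refl ι)).bijective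

end basic


section tor

variable {A R' : Type*} [CommRing A] [CommRing R'] [Algebra A R'] (p : Ideal A)
  {N : Type*} [AddCommGroup N] [Module A N] [Module R' N] [IsScalarTower A R' N]

/-- The additive map `p ⊗[A] N → pR' ⊗[R'] N`. -/
noncomputable def tensorMapIdeal :
    p ⊗[A] N →+ (p.map (algebraMap A R') : Ideal R') ⊗[R'] N :=
  TensorProduct.liftAddHom
    (AddMonoidHom.mk' (fun a : p => AddMonoidHom.mk'
        (fun n : N => (⟨algebraMap A R' a, Ideal.mem_map_of_mem _ a.2⟩ :
          (p.map (algebraMap A R') : Ideal R')) ⊗ₜ[R'] n)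
        (fun x y => TensorProduct.tmul_add _ x y))
      (fun a b => by
        ext n
        simp only [AddMonoidHom.mk'_apply, AddMonoidHom.add_apply]
        rw [← TensorProduct.add_tmul]
        congr 1
        exact Subtype.ext (by simp)))
    (fun r a n => by
      simp only [AddMonoidHom.mk'_apply]
      rw [← algebraMap_smul R' r n, ← TensorProduct.smul_tmul]
      congr 1
      exact Subtype.ext (by simp [Algebra.smul_def]))

lemma tensorMapIdeal_tmul (a : p) (n : N) :
    tensorMapIdeal (R' := R') p (a ⊗ₜ[A] n) =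
      (⟨algebraMap A R' a, Ideal.mem_map_of_mem _ a.2⟩ :
          (p.map (algebraMap A R') : Ideal R')) ⊗ₜ[R'] n := rfl

lemma tensorMapIdeal_surjective :
    Function.Surjective (tensorMapIdeal (R' := R') p (N := N)) := by
  intro x
  induction x using TensorProduct.induction_on with
  | zero => exact ⟨0, map_zero _⟩
  | add x y hx hy =>
    obtain ⟨a, rfl⟩ := hx
    obtain ⟨b, rfl⟩ := hy
    exact ⟨a + b, map_add _ _ _⟩
  | tmul i n =>
    obtain ⟨i, hi⟩ := i
    revert n
    refine Submodule.span_induction
      (p := fun i hi => ∀ n : N, ∃ y, tensorMapIdeal (R' := R') p y =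
        (⟨i, hi⟩ : (p.map (algebraMap A R') : Ideal R')) ⊗ₜ[R'] n) ?_ ?_ ?_ ?_ hi
    · rintro _ ⟨a, ha, rfl⟩ n
      exact ⟨(⟨a, ha⟩ : p) ⊗ₜ n, rfl⟩
    · intro n
      refine ⟨0, ?_⟩
      rw [map_zero]
      exact (TensorProduct.zero_tmul _ n).symm
    · intro x y hx hy ihx ihy n
      obtain ⟨a, ha⟩ := ihx n
      obtain ⟨b, hb⟩ := ihy n
      refine ⟨a + b, ?_⟩
      rw [map_add, ha, hb, ← TensorProduct.add_tmul]
      rfl
    · intro r x hx ih n
      obtain ⟨a, ha⟩ := ih (r • n)
      refine ⟨a, ?_⟩
      rw [ha, ← TensorProduct.smul_tmul]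
      rfl

/-- `Tor₁^{R'}(R'/pR', N) = 0` when `N` is flat over `A`. -/
theorem rTensor_injective_of_flat [Module.Flat A N] :
    Function.Injective ((p.map (algebraMap A R')).subtype.rTensor N) := by
  rw [injective_iff_map_eq_zero]
  intro x hx
  obtain ⟨y, rfl⟩ := tensorMapIdeal_surjective p x
  have key : ∀ y : p ⊗[A] N, TensorProduct.lid A N (p.subtype.rTensor N y) =
      TensorProduct.lid R' N
        ((p.map (algebraMap A R')).subtype.rTensor N (tensorMapIdeal p y)) := by
    intro y
    induction y using TensorProduct.induction_on with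
    | zero => simp
    | tmul a n => simp [tensorMapIdeal_tmul]
    | add a b ha hb => simp only [map_add, ha, hb]
  have h1 : p.subtype.rTensor N y = 0 := by
    apply (TensorProduct.lid A N).injective
    rw [key, hx]
    simp
  have h2 : y = 0 :=
    Module.Flat.rTensor_preserves_injective_linearMap p.subtype Subtype.val_injective
      (by rw [h1, map_zero])
  rw [h2, map_zero]

end tor

section flatTensor

theorem flat_tensor (A B R' M : Type*) [CommRing A] [CommRing B] [Algebra A B] [CommRing R']
    [Algebra B R'] [Algebra A R'] [IsScalarTower A B R'] [Module.Flat B R']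
    [AddCommGroup M] [Module A M] [Module B M] [IsScalarTower A B M] [Module.Flat A M] :
    Module.Flat A (R' ⊗[B] M) := by
  rw [Module.Flat.iff_lTensor_injective']
  intro J
  let eJ := TensorProduct.AlgebraTensorModule.assoc A B B R' M J
  let eA := TensorProduct.AlgebraTensorModule.assoc A B B R' M A
  let φ : M ⊗[A] J →ₗ[B] M ⊗[A] A := TensorProduct.AlgebraTensorModule.lTensor B M J.subtype
  have hφ : Function.Injective φ := by
    rw [TensorProduct.AlgebraTensorModule.coe_lTensor]
    exact Module.Flat.lTensor_preserves_injective_linearMap _ Subtype.val_injective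
  have hψ : Function.Injective (φ.lTensor R') :=
    Module.Flat.lTensor_preserves_injective_linearMap φ hφ
  have key : ∀ t, eA (J.subtype.lTensor (R' ⊗[B] M) t) = φ.lTensor R' (eJ t) := by
    intro t
    induction t using TensorProduct.induction_on with
    | zero => simp
    | tmul n x =>
      induction n using TensorProduct.induction_on with
      | zero => simp
      | tmul r m => simp [eA, eJ, φ]
      | add a b ha hb => simp only [TensorProduct.add_tmul, map_add, ha, hb]
    | add a b ha hb => simp only [map_add, ha, hb]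
  intro t₁ t₂ h
  apply eJ.injective
  apply hψ
  rw [← key, ← key, h]

end flatTensor

section fibre

theorem projective_tensor_of_fibre (A B M : Type u) [CommRing A] [CommRing B] [Algebra A B]
    [AddCommGroup M] [Module B M] (p : Ideal A) [p.IsPrime]
    (h : Module.Projective (B ⊗[A] p.ResidueField) ((B ⊗[A] p.ResidueField) ⊗[B] M))
    (C : Type u) [CommRing C] [Algebra A C] [Algebra B C] [IsScalarTower A B C]
    (h1 : p ≤ RingHom.ker (algebraMap A C)) (h2 : ∀ a ∉ p, IsUnit (algebraMap A C a)) :
    Module.Projective C (C ⊗[B] M) := by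
  let g : p.ResidueField →ₐ[A] C := Ideal.ResidueField.liftₐ p (Algebra.ofId A C) h1
    (fun a ha => h2 a ha)
  let Φ : B ⊗[A] p.ResidueField →ₐ[A] C :=
    Algebra.TensorProduct.productMap (IsScalarTower.toAlgHom A B C) g
  letI : Algebra (B ⊗[A] p.ResidueField) C := Φ.toRingHom.toAlgebra
  haveI : IsScalarTower B (B ⊗[A] p.ResidueField) C := IsScalarTower.of_algebraMap_eq (fun b => by
    change algebraMap B C b = Φ (algebraMap B _ b)
    rw [Algebra.TensorProduct.algebraMap_apply]
    simp [Φ])
  let e := TensorProduct.AlgebraTensorModule.cancelBaseChange B (B ⊗[A] p.ResidueField) C C M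
  exact Module.Projective.of_equiv e

/-- Fibrewise criterion (finitely presented case): an `A`-flat finitely presented `B`-module
whose fibres are projective over the fibre rings is flat over `B`. -/
theorem flat_of_fibrewise_projective (A B M : Type u) [CommRing A] [CommRing B] [Algebra A B]
    [AddCommGroup M] [Module B M] [Module A M] [IsScalarTower A B M]
    [Module.FinitePresentation B M] [Module.Flat A M]
    (h : ∀ (p : Ideal A) [p.IsPrime],
      Module.Projective (B ⊗[A] p.ResidueField) ((B ⊗[A] p.ResidueField) ⊗[B] M)) :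
    Module.Flat B M := by
  refine Module.flat_of_isLocalized_maximal B M (fun P _ => Localization.AtPrime P ⊗[B] M)
    (fun P _ => TensorProduct.mk B (Localization.AtPrime P) M 1) ?_
  intro q hq
  let R' := Localization.AtPrime q
  let p : Ideal A := q.comap (algebraMap A B)
  haveI : p.IsPrime := Ideal.comap_isPrime _ _
  let I : Ideal R' := p.map (algebraMap A R')
  have hI : I ≤ IsLocalRing.maximalIdeal R' := by
    refine Ideal.map_le_iff_le_comap.mpr (fun a ha => ?_)
    rw [Ideal.mem_comap, IsScalarTower.algebraMap_apply A B R']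
    exact (IsLocalization.AtPrime.to_map_mem_maximal_iff R' q _).mpr ha
  haveI : Module.Flat A (R' ⊗[B] M) := flat_tensor A B R' M
  have H : Function.Injective (I.subtype.rTensor (R' ⊗[B] M)) :=
    rTensor_injective_of_flat (R' := R') p
  haveI : Module.Flat (R' ⧸ I) ((R' ⧸ I) ⊗[R'] (R' ⊗[B] M)) := by
    have hproj : Module.Projective (R' ⧸ I) ((R' ⧸ I) ⊗[B] M) := by
      refine projective_tensor_of_fibre A B M p (h p) (R' ⧸ I) ?_ ?_
      · intro a ha
        rw [RingHom.mem_ker, IsScalarTower.algebraMap_apply A R' (R' ⧸ I),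
          Ideal.Quotient.algebraMap_eq, Ideal.Quotient.eq_zero_iff_mem]
        exact Ideal.mem_map_of_mem _ ha
      · intro a ha
        rw [IsScalarTower.algebraMap_apply A R' (R' ⧸ I), IsScalarTower.algebraMap_apply A B R']
        exact (IsLocalization.map_units R' (⟨algebraMap A B a, ha⟩ : q.primeCompl)).map _
    let e := TensorProduct.AlgebraTensorModule.cancelBaseChange B R' (R' ⧸ I) (R' ⧸ I) M
    exact Module.Flat.of_linearEquiv e
  haveI : Module.Free R' (R' ⊗[B] M) := free_of_flat_quotient I hI H
  exact Module.Flat.trans B R' _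

end fibre

end Groth.Agent.Lib.Helper8.FibreFree
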