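import Mathlib

/-!
# Relative fibre criterion for smoothness

`A → B → C` with `C` finitely presented over `B` and `C_q` flat over `A`: if `K ⊗_A C` is smooth
over `K ⊗_A B` (for some `A`-algebra `K`) and `q` is the contraction of a prime of `K ⊗_A C`, then
`C` is smooth over `B` at `q`.  (No flatness of `B` over `A` or of `C` over `B` is assumed.)
-/

set_option autoImplicit false
open TensorProduct IsLocalRing KaehlerDifferential

namespace Groth.Agent.Lib.Helper8.RelFiberSmooth

universe u

/-- For a formally smooth algebra with a formally smooth presentation, the base-changed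
cotangent complex map is injective for any base change. -/
theorem injective_cotangentComplexBaseChange {R S : Type*} [CommRing R] [CommRing S] [Algebra R S]
    (P L : Type*) [CommRing P] [CommRing L] [Algebra R P] [Algebra P S] [IsScalarTower R P S]
    [Algebra S L] [Algebra P L] [IsScalarTower P S L]
    [Algebra.FormallySmooth R P] [Algebra.FormallySmooth R S]
    (h₁ : Function.Surjective (algebraMap P S)) :
    Function.Injective (cotangentComplexBaseChange R S P L) := by
  let P' : Algebra.Extension R S := { Ring := P, σ := _, algebraMap_σ := Function.surjInv_eq h₁ }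
  have : Algebra.FormallySmooth R P'.Ring := ‹_›
  obtain ⟨l, hl⟩ := P'.formallySmooth_iff_split_injection.mp inferInstance
  have hinj : Function.Injective (P'.cotangentComplex.baseChange L) := by
    have h : (l.baseChange L) ∘ₗ (P'.cotangentComplex.baseChange L) = LinearMap.id := by
      rw [← LinearMap.baseChange_comp, hl, LinearMap.baseChange_id]
    exact Function.LeftInverse.injective (g := l.baseChange L) (fun x => by
      have := congrArg (fun f => f x) h; simpa using this)
  rw [P'.cotangentComplexBaseChange_eq_lTensor_cotangentComplex L]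
  refine ((AlgebraTensorModule.cancelBaseChange P'.Ring S _ _
    Ω[P'.Ring⁄R]).comp_injective _).mpr ?_
  exact (((AlgebraTensorModule.cancelBaseChange P'.Ring S _ _ P'.ker).symm ≪≫ₗ
    P'.cotangentEquiv.baseChange (A := _)).injective_comp _).mpr hinj

attribute [local instance] Algebra.TensorProduct.rightAlgebra

set_option maxHeartbeats 1600000 in
set_option backward.defeqAttrib.useBackward true in
set_option backward.isDefEq.respectTransparency false in
/-- Relative fibre criterion, local form with a given presentation. -/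
theorem formallySmooth_of_tensor_aux {A B P S K L : Type*} [CommRing A] [CommRing B] [CommRing P]
    [CommRing S] [CommRing K] [Field L]
    [Algebra A B] [Algebra A P] [Algebra A S] [Algebra A K] [Algebra A L]
    [Algebra B P] [Algebra B S] [Algebra P S] [Algebra K L] [Algebra S L]
    [IsScalarTower A B P] [IsScalarTower A B S] [IsScalarTower A P S] [IsScalarTower B P S]
    [IsScalarTower A K L] [IsScalarTower A S L]
    [IsLocalRing S] [Module.Flat A S]
    [Algebra.FormallySmooth B P] [Module.Free P Ω[P⁄B]] [Module.Finite P Ω[P⁄B]]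
    (h₁ : Function.Surjective (algebraMap P S)) (h₂ : (RingHom.ker (algebraMap P S)).FG)
    (h₃ : maximalIdeal S ≤ RingHom.ker (algebraMap S L))
    (hsm : letI := (Algebra.TensorProduct.map (AlgHom.id K K)
        (IsScalarTower.toAlgHom A B S)).toRingHom.toAlgebra
      Algebra.FormallySmooth (K ⊗[A] B) (K ⊗[A] S)) :
    Algebra.FormallySmooth B S := by
  let Sp := K ⊗[A] S
  let Pp := K ⊗[A] P
  let Bp := K ⊗[A] B
  let φ : Pp →ₐ[K] Sp := Algebra.TensorProduct.map (.id _ _) (IsScalarTower.toAlgHom _ _ _)
  let β : Bp →ₐ[K] Pp := Algebra.TensorProduct.map (.id _ _) (IsScalarTower.toAlgHom A B P)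
  let γ : Bp →ₐ[K] Sp := Algebra.TensorProduct.map (.id _ _) (IsScalarTower.toAlgHom A B S)
  let ψ : Sp →ₐ[A] L := Algebra.TensorProduct.lift (IsScalarTower.toAlgHom A K L)
    (IsScalarTower.toAlgHom A S L) fun _ _ ↦ .all _ _
  algebraize [φ.toRingHom, β.toRingHom, γ.toRingHom, (φ.toRingHom.comp (algebraMap P Pp)),
    ψ.toRingHom, ψ.toRingHom.comp φ.toRingHom, (algebraMap P Pp).comp (algebraMap B P)]
  have hγ : ∀ x, φ (β x) = γ x := by
    intro x
    induction x using TensorProduct.induction_on with
    | zero => simp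
    | add x y hx hy => simp only [map_add, hx, hy]
    | tmul k b =>
      show Algebra.TensorProduct.map (AlgHom.id K K) (IsScalarTower.toAlgHom A P S)
        (Algebra.TensorProduct.map (AlgHom.id K K) (IsScalarTower.toAlgHom A B P) (k ⊗ₜ[A] b)) =
        Algebra.TensorProduct.map (AlgHom.id K K) (IsScalarTower.toAlgHom A B S) (k ⊗ₜ[A] b)
      rw [Algebra.TensorProduct.map_tmul, Algebra.TensorProduct.map_tmul,
        Algebra.TensorProduct.map_tmul]
      simp only [AlgHom.coe_id, id_eq, IsScalarTower.coe_toAlgHom']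
      rw [← IsScalarTower.algebraMap_apply]
  have : IsScalarTower Bp Pp Sp := .of_algebraMap_eq fun x ↦ (hγ x).symm
  have : IsScalarTower P S Sp := .of_algebraMap_eq' rfl
  have : IsScalarTower S Sp L := .of_algebraMap_eq fun r ↦ by
    simp [RingHom.algebraMap_toAlgebra, ψ, Sp]
  let : Algebra P L := ((algebraMap S L).comp (algebraMap P S)).toAlgebra
  have : IsScalarTower P S L := .of_algebraMap_eq' rfl
  have : IsScalarTower P Sp L := .to₁₃₄ _ S _ _
  have : IsScalarTower P Pp L := .to₁₂₄ _ _ Sp _
  have : IsScalarTower B P Pp := .of_algebraMap_eq' rfl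
  have : IsScalarTower B Bp Pp := .of_algebraMap_eq fun b ↦ by
    show _ = β ((1 : K) ⊗ₜ[A] b)
    simp only [β, Algebra.TensorProduct.map_tmul, map_one, IsScalarTower.coe_toAlgHom']
    rfl
  have : IsScalarTower K Bp Pp := .of_algebraMap_eq fun k ↦ (β.commutes k).symm
  have : IsScalarTower A Bp Pp := .to₁₃₄ A K Bp Pp
  have hpoB : Algebra.IsPushout A B K Bp := Algebra.IsPushout.symm inferInstance
  have hpoP : Algebra.IsPushout A P K Pp := Algebra.IsPushout.symm inferInstance
  have hpo : Algebra.IsPushout B Bp P Pp :=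
    ((Algebra.IsPushout.comp_iff A B K (S' := Bp) (T := P) (T' := Pp)).mp hpoP).symm
  have : Algebra.FormallySmooth Bp Pp :=
    Algebra.FormallySmooth.of_equiv (Algebra.IsPushout.equiv B Bp P Pp)
  let e₀ : Ω[Pp⁄Bp] ≃ₗ[Pp] Pp ⊗[P] Ω[P⁄B] :=
    (KaehlerDifferential.tensorKaehlerEquiv B Bp P Pp).symm
  let e₁ : RingHom.ker φ ≃ₗ[Pp] Pp ⊗[P] RingHom.ker (algebraMap P S) :=
    Algebra.kerTensorProductMapIdToAlgHomEquiv _ _ _ _ h₁
  have h₁' : Function.Surjective φ := LinearMap.lTensor_surjective _ h₁
  have hBS : Algebra.FormallySmooth Bp Sp := hsm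
  have := injective_cotangentComplexBaseChange (R := Bp) (S := Sp) Pp L h₁'
  rw [Algebra.FormallySmooth.iff_injective_cotangentComplexBaseChange (R := B) (S := S) P L h₁ h₂ h₃]
  let eᵣ : L ⊗[Pp] Ω[Pp⁄Bp] ≃ₗ[S] L ⊗[P] Ω[P⁄B] :=
    (AlgebraTensorModule.congr (.refl L _) e₀).restrictScalars S ≪≫ₗ
      (AlgebraTensorModule.cancelBaseChange P Pp Sp L Ω[P⁄B]).restrictScalars S
  let eₗ : L ⊗[Pp] RingHom.ker φ ≃ₗ[S] L ⊗[P] RingHom.ker (algebraMap P S) :=
    (AlgebraTensorModule.congr (.refl L L) e₁).restrictScalars S ≪≫ₗ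
      (AlgebraTensorModule.cancelBaseChange P Pp Sp L _).restrictScalars S
  convert! (eᵣ.injective.comp this).comp eₗ.symm.injective
  ext x
  dsimp
  induction x with
  | zero => simp only [LinearEquiv.map_zero, LinearMap.map_zero]
  | add x y _ _ => simp only [LinearEquiv.map_add, LinearMap.map_add, *]
  | tmul x y =>
  dsimp [eₗ, eᵣ, e₁, KaehlerDifferential.cotangentComplexBaseChange,
    Algebra.TensorProduct.one_def, Pp, smul_tmul']
  rw [Algebra.kerTensorProductMapIdToAlgHomEquiv_symm_apply]
  have hD : (tensorKaehlerEquiv B Bp P Pp).symm (D Bp Pp ((1 : K) ⊗ₜ[A] (y : P))) =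
      (1 : Pp) ⊗ₜ[P] D B P (y : P) := by
    apply (tensorKaehlerEquiv B Bp P Pp).symm_apply_eq.mpr
    rw [tensorKaehlerEquiv_tmul_D, one_smul]
    rfl
  simp only [e₀, Pp, mul_one, one_mul]
  erw [hD]
  rw [AlgebraTensorModule.cancelBaseChange_tmul, one_smul]

set_option maxHeartbeats 800000 in
/-- Relative fibre criterion, essentially finitely presented local form. -/
theorem formallySmooth_of_tensor {A B C S K L : Type*} [CommRing A] [CommRing B] [CommRing C]
    [CommRing S] [CommRing K] [Field L]
    [Algebra A B] [Algebra A S] [Algebra A K] [Algebra A L]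
    [Algebra B C] [Algebra B S] [Algebra C S] [Algebra K L] [Algebra S L]
    [IsScalarTower A B S] [IsScalarTower B C S]
    [IsScalarTower A K L] [IsScalarTower A S L]
    [IsLocalRing S] [Module.Flat A S] [Algebra.FinitePresentation B C]
    (M : Submonoid C) [IsLocalization M S]
    (h₃ : maximalIdeal S ≤ RingHom.ker (algebraMap S L))
    (hsm : letI := (Algebra.TensorProduct.map (AlgHom.id K K)
        (IsScalarTower.toAlgHom A B S)).toRingHom.toAlgebra
      Algebra.FormallySmooth (K ⊗[A] B) (K ⊗[A] S)) :
    Algebra.FormallySmooth B S := by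
  obtain ⟨n, f₀, hf₀⟩ := Algebra.FiniteType.iff_quotient_mvPolynomial''.mp
    (inferInstance : Algebra.FiniteType B C)
  let M' := M.comap f₀
  let P' := Localization M'
  let fP : P' →ₐ[B] S := IsLocalization.liftAlgHom (M := M')
      (f := (IsScalarTower.toAlgHom B C S).comp f₀) fun x ↦ by
    simpa using IsLocalization.map_units (M := M) _ ⟨f₀ x.1, x.2⟩
  have hf₁ : Function.Surjective fP := by
    intro x
    obtain ⟨x, ⟨s, hs⟩, rfl⟩ := IsLocalization.exists_mk'_eq M x
    obtain ⟨x, rfl⟩ := hf₀ x
    obtain ⟨s, rfl⟩ := hf₀ s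
    refine ⟨IsLocalization.mk' (M := M') _ x ⟨s, hs⟩, ?_⟩
    simp [fP, IsLocalization.lift_mk', Units.mul_inv_eq_iff_eq_mul, IsUnit.liftRight]
  have hfP : (RingHom.ker fP).FG := by
    have := Algebra.FinitePresentation.ker_fG_of_surjective _ hf₀
    convert! this.map (algebraMap _ P')
    refine le_antisymm ?_ (Ideal.map_le_iff_le_comap.mpr fun x hx ↦ by simp_all [fP])
    intro x hx
    obtain ⟨x, s, rfl⟩ := IsLocalization.exists_mk'_eq M' x
    obtain ⟨a, ha, e⟩ : ∃ a ∈ M, a * f₀ x = 0 := by
      simpa [fP, IsLocalization.lift_mk', IsLocalization.map_eq_zero_iff M] using hx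
    obtain ⟨a, rfl⟩ := hf₀ a
    rw [IsLocalization.mk'_mem_map_algebraMap_iff]
    exact ⟨a, ha, by simpa⟩
  algebraize [fP.toRingHom]
  have : IsScalarTower B P' S := .of_algebraMap_eq' fP.comp_algebraMap.symm
  have : IsScalarTower A P' S := .to₁₃₄ A B P' S
  have : Algebra.FormallyEtale (MvPolynomial (Fin n) B) P' := .of_isLocalization M'
  have : Algebra.FormallySmooth B P' := .comp _ (MvPolynomial (Fin n) B) _
  have : Module.Free P' Ω[P'⁄B] :=
    .of_equiv (KaehlerDifferential.tensorKaehlerEquivOfFormallyEtale B (MvPolynomial (Fin n) B) P')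
  exact formallySmooth_of_tensor_aux (A := A) (B := B) (P := P') (S := S) (K := K) (L := L)
    hf₁ hfP h₃ hsm

/-- Transport of formal smoothness along compatible ring isomorphisms. -/
theorem formallySmooth_of_ringEquiv {R S R' S' : Type*} [CommRing R] [CommRing S] [CommRing R']
    [CommRing S'] [Algebra R S] [Algebra R' S'] (e₁ : R ≃+* R') (e₂ : S ≃+* S')
    (h : ∀ r, e₂ (algebraMap R S r) = algebraMap R' S' (e₁ r)) [Algebra.FormallySmooth R' S'] :
    Algebra.FormallySmooth R S := by
  letI : Algebra R R' := e₁.toRingHom.toAlgebra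
  letI : Algebra R S' := ((algebraMap R' S').comp e₁.toRingHom).toAlgebra
  haveI : IsScalarTower R R' S' := .of_algebraMap_eq' rfl
  let e₁' : R ≃ₐ[R] R' := { e₁ with commutes' := fun r => rfl }
  haveI : Algebra.FormallySmooth R R' := .of_equiv e₁'
  haveI : Algebra.FormallySmooth R S' := .comp R R' S'
  let e₂' : S ≃ₐ[R] S' := { e₂ with commutes' := fun r => h r }
  exact .of_equiv e₂'.symm

set_option maxHeartbeats 1600000 in
/-- Relative fibre criterion for smoothness at a prime: `A → B → C` with `C` finitely presented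
over `B` and `C_q` flat over `A`; if the base change `C' = K ⊗_A C` is smooth over
`B' = K ⊗_A B` and `q` is the contraction of a prime of `C'`, then `C` is smooth over `B` at `q`. -/
theorem isSmoothAt_of_rel_fiber {A B C K B' C' : Type u} [CommRing A] [CommRing B] [CommRing C]
    [CommRing K] [CommRing B'] [CommRing C']
    [Algebra A B] [Algebra B C] [Algebra A C] [IsScalarTower A B C]
    [Algebra A K] [Algebra K B'] [Algebra B B'] [Algebra A B'] [IsScalarTower A K B']
    [IsScalarTower A B B'] [Algebra.IsPushout A K B B']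
    [Algebra B' C'] [Algebra C C'] [Algebra B C'] [IsScalarTower B B' C'] [IsScalarTower B C C']
    [Algebra.IsPushout B B' C C']
    [Algebra.FinitePresentation B C] (q : Ideal C) [q.IsPrime]
    [Module.Flat A (Localization.AtPrime q)]
    (P' : Ideal C') [P'.IsPrime] [P'.LiesOver q] [Algebra.FormallySmooth B' C'] :
    Algebra.IsSmoothAt B q := by
  let Cq := Localization.AtPrime q
  let M' := Algebra.algebraMapSubmonoid C' q.primeCompl
  let S' := Localization M'
  let CP := Localization.AtPrime P'
  let L := P'.ResidueField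
  letI algAC' : Algebra A C' := ((algebraMap B C').comp (algebraMap A B)).toAlgebra
  haveI : IsScalarTower A B C' := .of_algebraMap_eq' rfl
  letI algKC' : Algebra K C' := ((algebraMap B' C').comp (algebraMap K B')).toAlgebra
  haveI : IsScalarTower K B' C' := .of_algebraMap_eq' rfl
  haveI : IsScalarTower A B' C' := .to₁₃₄ A B B' C'
  haveI : IsScalarTower A K C' := .to₁₂₄ A K B' C'
  haveI : IsScalarTower A C C' := .to₁₃₄ A B C C'
  haveI : IsScalarTower A B Cq := .to₁₂₄ A B C Cq
  -- pushouts
  have hpoB : Algebra.IsPushout A B K B' := Algebra.IsPushout.symm inferInstance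
  have hpoC0 : Algebra.IsPushout B C B' C' := Algebra.IsPushout.symm inferInstance
  have hpoC : Algebra.IsPushout A C K C' :=
    (Algebra.IsPushout.comp_iff A B K (S' := B') (T := C) (T' := C')).mpr hpoC0
  have hpoL : Algebra.IsPushout C Cq C' S' :=
    (Algebra.isPushout_of_isLocalization q.primeCompl Cq C' S').symm
  haveI : IsScalarTower A Cq S' := .to₁₃₄ A C Cq S'
  haveI : IsScalarTower B Cq S' := .to₁₃₄ B C Cq S'
  haveI : IsScalarTower A K S' := .to₁₂₄ A K C' S'
  have hpoS : Algebra.IsPushout A K Cq S' :=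
    ((Algebra.IsPushout.comp_iff A C K (S' := C') (T := Cq) (T' := S')).mpr hpoL).symm
  haveI : Algebra.FormallySmooth C' S' := Algebra.FormallySmooth.of_isLocalization M'
  haveI : IsScalarTower B' C' S' := inferInstance
  haveI : Algebra.FormallySmooth B' S' := .comp B' C' S'
  -- the field `L`
  letI := Localization.AtPrime.algebraOfLiesOver q P'
  haveI : IsScalarTower A Cq L := .to₁₂₄ A Cq CP L
  haveI : IsScalarTower A K L := inferInstance
  have h₃ : maximalIdeal Cq ≤ RingHom.ker (algebraMap Cq L) := by
    intro x hx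
    rw [RingHom.mem_ker, IsScalarTower.algebraMap_apply Cq CP L]
    refine (IsLocalRing.residue_eq_zero_iff _).mpr ?_
    exact (IsLocalRing.mem_maximalIdeal _).mpr (map_nonunit (algebraMap Cq CP) x hx)
  -- transport of the smoothness hypothesis
  let eB : K ⊗[A] B ≃ₐ[K] B' := Algebra.IsPushout.equiv A K B B'
  let eS : K ⊗[A] Cq ≃ₐ[K] S' := Algebra.IsPushout.equiv A K Cq S'
  letI algT : Algebra (K ⊗[A] B) (K ⊗[A] Cq) := (Algebra.TensorProduct.map (AlgHom.id K K)
        (IsScalarTower.toAlgHom A B Cq)).toRingHom.toAlgebra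
  have hcompat : ∀ r : K ⊗[A] B, eS.toRingEquiv (algebraMap (K ⊗[A] B) (K ⊗[A] Cq) r) =
      algebraMap B' S' (eB.toRingEquiv r) := by
    intro r
    induction r using TensorProduct.induction_on with
    | zero => simp
    | add x y hx hy => simp only [map_add, hx, hy]
    | tmul k b =>
      show eS (Algebra.TensorProduct.map (AlgHom.id K K) (IsScalarTower.toAlgHom A B Cq)
        (k ⊗ₜ[A] b)) = algebraMap B' S' (eB (k ⊗ₜ[A] b))
      rw [Algebra.TensorProduct.map_tmul]
      simp only [eS, eB, Algebra.IsPushout.equiv_tmul, AlgHom.coe_id, id_eq,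
        IsScalarTower.coe_toAlgHom', map_mul]
      congr 1
      rw [← IsScalarTower.algebraMap_apply B B' S', ← IsScalarTower.algebraMap_apply B Cq S']
  have hsm : Algebra.FormallySmooth (K ⊗[A] B) (K ⊗[A] Cq) :=
    formallySmooth_of_ringEquiv eB.toRingEquiv eS.toRingEquiv hcompat
  exact formallySmooth_of_tensor (A := A) (B := B) (C := C) (S := Cq) (K := K) (L := L)
    q.primeCompl h₃ hsm

end Groth.Agent.Lib.Helper8.RelFiberSmooth
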