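import Mathlib
import Groth.Agent.Lib.Helper8.RelFiberSmooth
import Groth.Agent.Lib.Helper8.SmoothFiberSch

set_option autoImplicit false
/-!
# Relative fibre criterion for smoothness of morphisms of schemes
-/

universe u
open AlgebraicGeometry CategoryTheory Limits TensorProduct

namespace Groth.Agent.Lib.Helper8.RelFiberSmoothSch

/-- Cancellation: if `f ≫ g` is locally of finite presentation and `g` is locally of finite type,
then `f` is locally of finite presentation. -/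
theorem locallyOfFinitePresentation_of_comp {X Y S : Scheme.{u}} (f : X ⟶ Y) (g : Y ⟶ S)
    [LocallyOfFiniteType g] [LocallyOfFinitePresentation (f ≫ g)] :
    LocallyOfFinitePresentation f := by
  have hQ : RingHom.StableUnderCompositionWithLocalizationAwaySource
      @RingHom.FinitePresentation := by
    intro R S T _ _ _ _ r _ f hf
    refine hf.comp ?_
    rw [RingHom.finitePresentation_algebraMap]
    exact IsLocalization.Away.finitePresentation r
  rw [HasRingHomProperty.iff_exists_appLE (P := @LocallyOfFinitePresentation) hQ]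
  intro x
  obtain ⟨_, ⟨W, hW, rfl⟩, hxW, -⟩ :=
    S.isBasis_affineOpens.exists_subset_of_mem_open (Set.mem_univ (g (f x))) isOpen_univ
  obtain ⟨_, ⟨U, hU, rfl⟩, hxU, hUW⟩ :=
    Y.isBasis_affineOpens.exists_subset_of_mem_open hxW (W.2.preimage g.continuous)
  obtain ⟨_, ⟨V, hV, rfl⟩, hxV, hVU⟩ :=
    X.isBasis_affineOpens.exists_subset_of_mem_open hxU (U.2.preimage f.continuous)
  replace hUW : U ≤ g ⁻¹ᵁ W := hUW
  replace hVU : V ≤ f ⁻¹ᵁ U := hVU
  refine ⟨⟨U, hU⟩, ⟨V, hV⟩, hxV, hVU, ?_⟩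
  have hVW : V ≤ (f ≫ g) ⁻¹ᵁ W := fun y hy => hUW (hVU hy)
  have h1 : ((f ≫ g).appLE W V hVW).hom.FinitePresentation :=
    (f ≫ g).finitePresentation_appLE hW hV hVW
  have h2 : (f ≫ g).appLE W V hVW = g.appLE W U hUW ≫ f.appLE U V hVU := by
    rw [Scheme.Hom.appLE_comp_appLE]
  rw [h2] at h1
  exact RingHom.FinitePresentation.of_comp_finiteType _ h1 (g.finiteType_appLE hW hU hUW)

open Groth.Agent.Lib.Helper8.SmoothFiberSch in
set_option maxHeartbeats 1600000 in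
/-- Relative fibre criterion for smoothness at a point: `X → Y → S` with `X → S` flat at `x`; if
the fibre map `X_s → Y_s` over `s = g (f x)` is smooth then `f` is smooth at `x`. -/
theorem mem_smoothLocus_of_fibre {X Y S : Scheme.{u}} (g : Y ⟶ S) (f : X ⟶ Y)
    [LocallyOfFinitePresentation f] (x : X)
    (hflat : ((f ≫ g).stalkMap x).hom.Flat)
    [Smooth (pullback.snd f (g.fiberι (g (f x))))] :
    x ∈ f.smoothLocus := by
  let k := S.fromSpecResidueField (g (f x))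
  let g₁ := g.fiberToSpecResidueField (g (f x))
  let ι := g.fiberι (g (f x))
  have h1 : IsPullback ι g₁ g k := IsPullback.of_hasPullback g k
  let p₁ := pullback.fst f ι
  let p₂ := pullback.snd f ι
  have h2 : IsPullback p₁ p₂ f ι := IsPullback.of_hasPullback f ι
  obtain ⟨_, ⟨W, hW, rfl⟩, hxW, -⟩ :=
    S.isBasis_affineOpens.exists_subset_of_mem_open (Set.mem_univ (g (f x))) isOpen_univ
  obtain ⟨_, ⟨U, hU, rfl⟩, hxU, hUW⟩ :=
    Y.isBasis_affineOpens.exists_subset_of_mem_open hxW (W.2.preimage g.continuous)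
  obtain ⟨_, ⟨V, hV, rfl⟩, hxV, hVU⟩ :=
    X.isBasis_affineOpens.exists_subset_of_mem_open hxU (U.2.preimage f.continuous)
  replace hUW : U ≤ g ⁻¹ᵁ W := hUW
  replace hVU : V ≤ f ⁻¹ᵁ U := hVU
  have hW : IsAffineOpen W := hW
  have hU : IsAffineOpen U := hU
  have hV : IsAffineOpen V := hV
  have hxV : x ∈ V := hxV
  have hVW : V ≤ (f ≫ g) ⁻¹ᵁ W := fun y hy => hUW (hVU hy)
  have hT : IsAffineOpen (⊤ : (Spec (S.residueField (g (f x)))).Opens) := isAffineOpen_top _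
  have hTW : (⊤ : (Spec (S.residueField (g (f x)))).Opens) ≤ k ⁻¹ᵁ W := by
    intro y _
    show k y ∈ W
    rw [Scheme.fromSpecResidueField_apply]
    exact hxW
  obtain ⟨hU', hpo1⟩ := affine_chart_of_opens g k g₁ ι h1 W hW U hU ⊤ hT hUW hTW
  set U' := ι ⁻¹ᵁ U ⊓ g₁ ⁻¹ᵁ ⊤ with hU'def
  have hU'U : U' ≤ ι ⁻¹ᵁ U := inf_le_left
  have hU'T : U' ≤ g₁ ⁻¹ᵁ ⊤ := inf_le_right
  obtain ⟨hV', hpo2⟩ := affine_chart_of_opens f ι p₂ p₁ h2 U hU V hV U' hU' hVU hU'U
  set V' := p₁ ⁻¹ᵁ V ⊓ p₂ ⁻¹ᵁ U' with hV'def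
  have hV'V : V' ≤ p₁ ⁻¹ᵁ V := inf_le_left
  have hV'U' : V' ≤ p₂ ⁻¹ᵁ U' := inf_le_right
  -- the point
  let y' := g.asFiber (f x)
  have hy' : ι y' = f x := g.fiberι_asFiber (f x)
  obtain ⟨x', hx'1, hx'2⟩ := Scheme.Pullback.exists_preimage_pullback (f := f) (g := ι) x y' hy'.symm
  have hy'U' : y' ∈ U' := ⟨by show ι y' ∈ U; rw [hy']; exact hxU, trivial⟩
  have hx' : x' ∈ V' := ⟨by show p₁ x' ∈ V; rw [hx'1]; exact hxV, by show p₂ x' ∈ U'; rw [hx'2]; exact hy'U'⟩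
  -- algebra structures
  letI algAB : Algebra Γ(S, W) Γ(Y, U) := (g.appLE W U hUW).hom.toAlgebra
  letI algBC : Algebra Γ(Y, U) Γ(X, V) := (f.appLE U V hVU).hom.toAlgebra
  letI algAC : Algebra Γ(S, W) Γ(X, V) := ((f ≫ g).appLE W V hVW).hom.toAlgebra
  haveI : IsScalarTower Γ(S, W) Γ(Y, U) Γ(X, V) := IsScalarTower.of_algebraMap_eq (fun r => by
    have h : (f ≫ g).appLE W V hVW = g.appLE W U hUW ≫ f.appLE U V hVU := by
      rw [Scheme.Hom.appLE_comp_appLE]
    exact congrArg (fun φ => φ.hom r) h)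
  letI algAK : Algebra Γ(S, W) Γ(Spec (S.residueField (g (f x))), ⊤) := (k.appLE W ⊤ hTW).hom.toAlgebra
  letI algKB' : Algebra Γ(Spec (S.residueField (g (f x))), ⊤) Γ(g.fiber (g (f x)), U') :=
    (g₁.appLE ⊤ U' hU'T).hom.toAlgebra
  letI algBB' : Algebra Γ(Y, U) Γ(g.fiber (g (f x)), U') := (ι.appLE U U' hU'U).hom.toAlgebra
  letI algAB' : Algebra Γ(S, W) Γ(g.fiber (g (f x)), U') :=
    ((g₁.appLE ⊤ U' hU'T).hom.comp (k.appLE W ⊤ hTW).hom).toAlgebra
  haveI : IsScalarTower Γ(S, W) Γ(Spec (S.residueField (g (f x))), ⊤) Γ(g.fiber (g (f x)), U') :=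
    IsScalarTower.of_algebraMap_eq (fun _ => rfl)
  haveI : IsScalarTower Γ(S, W) Γ(Y, U) Γ(g.fiber (g (f x)), U') :=
    IsScalarTower.of_algebraMap_eq (fun r => by
      have := congrArg (fun φ => φ.hom r) hpo1.w
      exact this.symm)
  letI algB'C' : Algebra Γ(g.fiber (g (f x)), U') Γ(pullback f ι, V') :=
    (p₂.appLE U' V' hV'U').hom.toAlgebra
  letI algCC' : Algebra Γ(X, V) Γ(pullback f ι, V') := (p₁.appLE V V' hV'V).hom.toAlgebra
  letI algBC' : Algebra Γ(Y, U) Γ(pullback f ι, V') :=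
    ((p₂.appLE U' V' hV'U').hom.comp (ι.appLE U U' hU'U).hom).toAlgebra
  haveI : IsScalarTower Γ(Y, U) Γ(g.fiber (g (f x)), U') Γ(pullback f ι, V') :=
    IsScalarTower.of_algebraMap_eq (fun _ => rfl)
  haveI : IsScalarTower Γ(Y, U) Γ(X, V) Γ(pullback f ι, V') :=
    IsScalarTower.of_algebraMap_eq (fun r => by
      have := congrArg (fun φ => φ.hom r) hpo2.w
      exact this.symm)
  have hpo1' : Algebra.IsPushout Γ(S, W) Γ(Y, U) Γ(Spec (S.residueField (g (f x))), ⊤)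
      Γ(g.fiber (g (f x)), U') := CommRingCat.isPushout_iff_isPushout.mp hpo1
  haveI hpo1'' : Algebra.IsPushout Γ(S, W) Γ(Spec (S.residueField (g (f x))), ⊤) Γ(Y, U)
      Γ(g.fiber (g (f x)), U') := hpo1'.symm
  have hpo2' : Algebra.IsPushout Γ(Y, U) Γ(X, V) Γ(g.fiber (g (f x)), U')
      Γ(pullback f ι, V') := CommRingCat.isPushout_iff_isPushout.mp hpo2
  haveI hpo2'' : Algebra.IsPushout Γ(Y, U) Γ(g.fiber (g (f x)), U') Γ(X, V)
      Γ(pullback f ι, V') := hpo2'.symm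
  haveI hfp : Algebra.FinitePresentation Γ(Y, U) Γ(X, V) := f.finitePresentation_appLE hU hV hVU
  haveI hsm : Algebra.Smooth Γ(g.fiber (g (f x)), U') Γ(pullback f ι, V') :=
    p₂.smooth_appLE hU' hV' hV'U'
  rw [Scheme.Hom.mem_smoothLocus, formallySmooth_stalkMap_iff U hU V hV hVU hxV]
  set P := hV'.primeIdealOf ⟨x', hx'⟩ with hP
  set q := hV.primeIdealOf ⟨x, hxV⟩ with hq
  haveI hlies : P.asIdeal.LiesOver q.asIdeal := by
    constructor
    have h1 := congr($(IsAffineOpen.comap_primeIdealOf_appLE V hV V' hV' hV'V hx').1)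
    have h2 : hV.primeIdealOf ⟨p₁ x', hV'V hx'⟩ = q := by
      rw [hq]; congr 1; exact Subtype.ext hx'1
    rw [h2] at h1
    exact h1.symm
  haveI : Module.Flat Γ(S, W) (Localization.AtPrime q.asIdeal) :=
    (flat_stalkMap_iff W hW V hV hVW hxV).mp hflat
  exact Groth.Agent.Lib.Helper8.RelFiberSmooth.isSmoothAt_of_rel_fiber
    (A := Γ(S, W)) (B := Γ(Y, U)) (C := Γ(X, V)) (K := Γ(Spec (S.residueField (g (f x))), ⊤))
    (B' := Γ(g.fiber (g (f x)), U')) (C' := Γ(pullback f ι, V')) q.asIdeal P.asIdeal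

end Groth.Agent.Lib.Helper8.RelFiberSmoothSch
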