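/-
Helper8 library: openness on spectra for integral extensions of domains.
* `isOpenMap_comap_of_isIntegrallyClosed`: classical theorem, `R` integrally closed domain, `C` a domain
  integral over `R` (injective) ⟹ `Spec C → Spec R` is open.
* `comap_injective_of_geomUnibranch`: `A` a domain all of whose localizations at primes are geometrically
  unibranch ⟹ `Spec (integralClosure A (Frac A)) → Spec A` is injective (hence a homeomorphism).
* `isOpenMap_comap_of_geomUnibranch`: `A` as above, `B` a domain integral over `A` (injective) ⟹
  `Spec B → Spec A` is open.  No finiteness/noetherian hypotheses.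
-/
import Mathlib
import Groth.Prelude.Def_CAlg2
import Groth.Agent.Lib.Helper11.Unibranch
import Groth.Agent.Lib.Helper8.QFGoingDown

set_option autoImplicit false
universe u
open PrimeSpectrum TensorProduct

namespace Groth.Agent.Lib.Helper8.OpenIntegral

section Classical

variable {R C : Type u} [CommRing R] [IsDomain R] [IsIntegrallyClosed R] [CommRing C] [IsDomain C]
  [Algebra R C] [Algebra.IsIntegral R C] [FaithfulSMul R C]

/-- An integral injective extension of domains with integrally closed base is open on spectra. -/
theorem isOpenMap_comap_of_isIntegrallyClosed : IsOpenMap (comap (algebraMap R C)) := by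
  rw [isBasis_basic_opens.isOpenMap_iff]
  rintro _ ⟨_, ⟨c, rfl⟩, rfl⟩
  have hc : IsIntegral R c := Algebra.IsIntegral.isIntegral c
  let c' : Algebra.adjoin R ({c} : Set C) := ⟨c, Algebra.subset_adjoin (Set.mem_singleton c)⟩
  let pb := Algebra.adjoin.powerBasis' hc
  haveI : Module.Finite R (Algebra.adjoin R ({c} : Set C)) := pb.finite
  haveI : Module.Free R (Algebra.adjoin R ({c} : Set C)) := Module.Free.of_basis pb.basis
  haveI : Module.FinitePresentation R (Algebra.adjoin R ({c} : Set C)) :=
    Module.finitePresentation_of_projective R _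
  haveI : Algebra.FinitePresentation R (Algebra.adjoin R ({c} : Set C)) := inferInstance
  have hopen : IsOpenMap (comap (algebraMap R (Algebra.adjoin R ({c} : Set C)))) :=
    isOpenMap_comap_of_hasGoingDown_of_finitePresentation
  have himg : comap (algebraMap R C) '' (basicOpen c : Set (PrimeSpectrum C)) =
      comap (algebraMap R (Algebra.adjoin R ({c} : Set C))) ''
        (basicOpen c' : Set (PrimeSpectrum (Algebra.adjoin R ({c} : Set C)))) := by
    ext p
    constructor
    · rintro ⟨q, hq, rfl⟩
      refine ⟨comap (algebraMap (Algebra.adjoin R ({c} : Set C)) C) q, ?_, ?_⟩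
      · exact hq
      · rw [← comap_comp_apply]
        rfl
    · rintro ⟨q', hq', rfl⟩
      haveI : Algebra.IsIntegral (Algebra.adjoin R ({c} : Set C)) C :=
        Algebra.IsIntegral.tower_top (R := R)
      obtain ⟨Q, hQ, hQc⟩ := Ideal.exists_ideal_over_prime_of_isIntegral_of_isDomain
        (R := Algebra.adjoin R ({c} : Set C)) (S := C) q'.asIdeal (by
          have : RingHom.ker (algebraMap (Algebra.adjoin R ({c} : Set C)) C) = ⊥ :=
            (RingHom.injective_iff_ker_eq_bot _).mp Subtype.val_injective
          rw [this]; exact bot_le)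
      refine ⟨⟨Q, hQ⟩, ?_, ?_⟩
      · show c ∉ Q
        intro hcQ
        apply hq'
        show c' ∈ q'.asIdeal
        rw [← hQc]
        exact hcQ
      · have : comap (algebraMap (Algebra.adjoin R ({c} : Set C)) C) ⟨Q, hQ⟩ = q' :=
          PrimeSpectrum.ext hQc
        rw [← this, ← comap_comp_apply]
        rfl
  rw [himg]
  exact hopen _ (basicOpen c').2

end Classical

section Unibranch

variable {A : Type u} [CommRing A] [IsDomain A]

/-- If all localizations of the domain `A` at primes are geometrically unibranch, then the spectrum of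
its normalization injects into `Spec A`. -/
theorem comap_injective_of_geomUnibranch
    (hgu : ∀ (p : Ideal A) [p.IsPrime], CAlg2.IsGeomUnibranch (Localization.AtPrime p)) :
    Function.Injective (comap (algebraMap A (integralClosure A (FractionRing A)))) := by
  intro q₁ q₂ h
  let N := integralClosure A (FractionRing A)
  let p : Ideal A := (comap (algebraMap A N) q₁).asIdeal
  have hp₁ : q₁.asIdeal.comap (algebraMap A N) = p := rfl
  have hp₂ : q₂.asIdeal.comap (algebraMap A N) = p := (congrArg PrimeSpectrum.asIdeal h).symm
  have H := (Groth.Agent.Lib.Helper11.Unibranch.isGeomUnibranch_iff_of_atPrime (FractionRing A) p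
    (Localization.AtPrime p)).mp (hgu p)
  obtain ⟨P, hP, hP1, hP2⟩ := QFGoingDown.exists_prime_tensor (R := A) (R₁ := N) (R₂ := N)
    q₁.asIdeal q₂.asIdeal (hp₁.trans hp₂.symm)
  let L := FractionRing ((N ⊗[A] N) ⧸ P)
  let π : (N ⊗[A] N) →+* L := (algebraMap ((N ⊗[A] N) ⧸ P) L).comp (Ideal.Quotient.mk P)
  have hπker : RingHom.ker π = P := by
    ext t
    rw [RingHom.mem_ker, RingHom.comp_apply,
      map_eq_zero_iff _ (IsFractionRing.injective ((N ⊗[A] N) ⧸ P) L),
      Ideal.Quotient.eq_zero_iff_mem]
  let g₁ : N →+* L := π.comp (algebraMap N (N ⊗[A] N))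
  let g₂ : N →+* L := π.comp (Algebra.TensorProduct.includeRight : N →ₐ[A] N ⊗[A] N).toRingHom
  have hg : g₁.comp (algebraMap A N) = g₂.comp (algebraMap A N) := by
    ext a
    show π (algebraMap N (N ⊗[A] N) (algebraMap A N a)) =
      π ((Algebra.TensorProduct.includeRight : N →ₐ[A] N ⊗[A] N) (algebraMap A N a))
    rw [AlgHom.commutes, ← IsScalarTower.algebraMap_apply A N (N ⊗[A] N)]
  have hk₁ : RingHom.ker g₁ = q₁.asIdeal := by
    have h0 : RingHom.ker g₁ = (RingHom.ker π).comap (algebraMap N (N ⊗[A] N)) := rfl
    rw [h0, hπker, hP1]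
  have hk₂ : RingHom.ker g₂ = q₂.asIdeal := by
    have h0 : RingHom.ker g₂ = (RingHom.ker π).comap
        (Algebra.TensorProduct.includeRight : N →ₐ[A] N ⊗[A] N).toRingHom := rfl
    rw [h0, hπker, hP2]
  have hker : RingHom.ker (g₁.comp (algebraMap A N)) = p := by
    rw [← hp₁, ← hk₁]; rfl
  have := H L g₁ g₂ hg hker
  apply PrimeSpectrum.ext
  rw [← hk₁, ← hk₂, this]

/-- Under the same hypothesis, `Spec` of the normalization maps openly to `Spec A`. -/
theorem isOpenMap_comap_normalization
    (hgu : ∀ (p : Ideal A) [p.IsPrime], CAlg2.IsGeomUnibranch (Localization.AtPrime p)) :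
    IsOpenMap (comap (algebraMap A (integralClosure A (FractionRing A)))) := by
  have hinj := comap_injective_of_geomUnibranch hgu
  have hsurj : Function.Surjective (comap (algebraMap A (integralClosure A (FractionRing A)))) := by
    intro p
    obtain ⟨Q, hQ, hQc⟩ := Ideal.exists_ideal_over_prime_of_isIntegral_of_isDomain
      (R := A) (S := integralClosure A (FractionRing A)) p.asIdeal (by
        have : RingHom.ker (algebraMap A (integralClosure A (FractionRing A))) = ⊥ :=
          (RingHom.injective_iff_ker_eq_bot _).mp
            (FaithfulSMul.algebraMap_injective A (integralClosure A (FractionRing A)))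
        rw [this]; exact bot_le)
    exact ⟨⟨Q, hQ⟩, PrimeSpectrum.ext hQc⟩
  have hclosed : IsClosedMap (comap (algebraMap A (integralClosure A (FractionRing A)))) :=
    isClosedMap_comap_of_isIntegral _ (algebraMap_isIntegral_iff.mpr inferInstance)
  intro U hU
  have : comap (algebraMap A (integralClosure A (FractionRing A))) '' U =
      (comap (algebraMap A (integralClosure A (FractionRing A))) '' Uᶜ)ᶜ := by
    rw [Set.image_compl_eq ⟨hinj, hsurj⟩, compl_compl]
  rw [this]
  exact (hclosed _ hU.isClosed_compl).isOpen_compl

end Unibranch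

section Main

variable {A B : Type u} [CommRing A] [IsDomain A] [CommRing B] [IsDomain B] [Algebra A B]
  [Algebra.IsIntegral A B]

attribute [local instance] FractionRing.liftAlgebra in
/-- **Openness for integral extensions over a geometrically unibranch base.** -/
theorem isOpenMap_comap_of_geomUnibranch (hinj : Function.Injective (algebraMap A B))
    (hgu : ∀ (p : Ideal A) [p.IsPrime], CAlg2.IsGeomUnibranch (Localization.AtPrime p)) :
    IsOpenMap (comap (algebraMap A B)) := by
  let K := FractionRing A
  let L := FractionRing B
  haveI : FaithfulSMul A B := (faithfulSMul_iff_algebraMap_injective A B).mpr hinj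
  haveI : FaithfulSMul A L := by
    rw [faithfulSMul_iff_algebraMap_injective, IsScalarTower.algebraMap_eq A B L]
    exact (IsFractionRing.injective B L).comp hinj
  let N := integralClosure A K
  let C := integralClosure A L
  haveI hNic : IsIntegrallyClosed N := integralClosure.isIntegrallyClosedOfFiniteExtension K
  let ν : N →ₐ[A] C := ((IsScalarTower.toAlgHom A K L).comp N.val).codRestrict C
    (fun x => (x.2 : IsIntegral A x.1).map (IsScalarTower.toAlgHom A K L))
  let β : B →ₐ[A] C := (IsScalarTower.toAlgHom A B L).codRestrict C
    (fun b => (Algebra.IsIntegral.isIntegral (R := A) b).map (IsScalarTower.toAlgHom A B L))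
  have hνinj : Function.Injective ν := by
    intro x y hxy
    have h1 : algebraMap K L x.1 = algebraMap K L y.1 := congrArg Subtype.val hxy
    exact Subtype.ext ((algebraMap K L).injective h1)
  have hβinj : Function.Injective β := by
    intro x y hxy
    have h1 : algebraMap B L x = algebraMap B L y := congrArg Subtype.val hxy
    exact IsFractionRing.injective B L h1
  letI algNC : Algebra N C := ν.toRingHom.toAlgebra
  haveI : IsScalarTower A N C := IsScalarTower.of_algebraMap_eq' ν.comp_algebraMap.symm
  haveI : Algebra.IsIntegral N C := Algebra.IsIntegral.tower_top (R := A)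
  haveI : FaithfulSMul N C := (faithfulSMul_iff_algebraMap_injective N C).mpr hνinj
  have hopenν : IsOpenMap (comap (algebraMap N C)) := isOpenMap_comap_of_isIntegrallyClosed
  have hopenN : IsOpenMap (comap (algebraMap A N)) := isOpenMap_comap_normalization hgu
  letI algBC : Algebra B C := β.toRingHom.toAlgebra
  haveI : IsScalarTower A B C := IsScalarTower.of_algebraMap_eq' β.comp_algebraMap.symm
  haveI : Algebra.IsIntegral B C := Algebra.IsIntegral.tower_top (R := A)
  have hsurjβ : Function.Surjective (comap (algebraMap B C)) := by
    intro p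
    obtain ⟨Q, hQ, hQc⟩ := Ideal.exists_ideal_over_prime_of_isIntegral_of_isDomain
      (R := B) (S := C) p.asIdeal (by
        have : RingHom.ker (algebraMap B C) = ⊥ :=
          (RingHom.injective_iff_ker_eq_bot _).mp hβinj
        rw [this]; exact bot_le)
    exact ⟨⟨Q, hQ⟩, PrimeSpectrum.ext hQc⟩
  have hcomm : comap (algebraMap A B) ∘ comap (algebraMap B C) =
      comap (algebraMap A N) ∘ comap (algebraMap N C) := by
    funext Q
    show comap (algebraMap A B) (comap (algebraMap B C) Q) =
      comap (algebraMap A N) (comap (algebraMap N C) Q)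
    rw [← comap_comp_apply, ← comap_comp_apply, ← IsScalarTower.algebraMap_eq,
      ← IsScalarTower.algebraMap_eq]
  intro U hU
  have h1 : comap (algebraMap A B) '' U =
      (comap (algebraMap A N) ∘ comap (algebraMap N C)) '' (comap (algebraMap B C) ⁻¹' U) := by
    rw [← hcomm, Set.image_comp, Set.image_preimage_eq _ hsurjβ]
  rw [h1, Set.image_comp]
  exact hopenN _ (hopenν _ (hU.preimage (continuous_comap (algebraMap B C))))

end Main

end Groth.Agent.Lib.Helper8.OpenIntegral
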