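/-
Helper8 library: geometric unibranchness passes to quotients by nil ideals, and to localizations of
`A ⧸ I` for `I` a nil ideal.
-/
import Mathlib
import Groth.Prelude
import Groth.Agent.Lib.Helper8.EtaleUnibranch
import Groth.Agent.Lib.Helper8.BranchSumGeom
import Groth.Agent.Lib.Helper8.SmoothUnibranch

set_option autoImplicit false
universe u
open IsLocalRing

namespace Groth.Agent.Lib.Helper8.UnibranchRed

open Groth.Agent.Lib.Helper8

theorem hasUniqueMinimalPrime_quotient {S : Type u} [CommRing S] (J : Ideal S)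
    (hJ : J ≤ nilradical S) (h : CAlgX.HasUniqueMinimalPrime S) :
    CAlgX.HasUniqueMinimalPrime (S ⧸ J) := by
  have hmin : J.minimalPrimes = minimalPrimes S := by
    have h1 : J.radical = (⊥ : Ideal S).radical := by
      apply le_antisymm
      · rw [Ideal.radical_le_radical_iff]
        exact hJ.trans (le_of_eq rfl)
      · exact Ideal.radical_mono bot_le
    rw [← Ideal.radical_minimalPrimes, h1, Ideal.radical_minimalPrimes]
    try rfl
  have hcomap : minimalPrimes S = Ideal.comap (Ideal.Quotient.mk J) '' minimalPrimes (S ⧸ J) := by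
    rw [← hmin]; exact Ideal.minimalPrimes_eq_comap
  obtain ⟨P₀, hP₀, huniq⟩ := h
  have hP₀' := hP₀
  rw [hcomap] at hP₀'
  obtain ⟨Q₀, hQ₀, hQ₀P⟩ := hP₀'
  refine ⟨Q₀, hQ₀, fun Q hQ => ?_⟩
  have h2 : Ideal.comap (Ideal.Quotient.mk J) Q ∈ minimalPrimes S := by
    rw [hcomap]; exact ⟨Q, hQ, rfl⟩
  have h3 : Ideal.comap (Ideal.Quotient.mk J) Q = Ideal.comap (Ideal.Quotient.mk J) Q₀ := by
    rw [huniq _ h2, hQ₀P]
  exact Ideal.comap_injective_of_surjective _ Ideal.Quotient.mk_surjective h3

theorem isGeomUnibranch_quotient {R : Type u} [CommRing R] [IsLocalRing R] (I : Ideal R)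
    (hI : I ≤ nilradical R) [IsLocalRing (R ⧸ I)] (h : CAlg2.IsGeomUnibranch R) :
    CAlg2.IsGeomUnibranch (R ⧸ I) := by
  haveI hS := Hzl.isStrictHenselization R
  have hItop : I ≠ ⊤ := BranchSumGeom.ne_top_of_isLocalRing_quotient I
  have hJtop : I.map (algebraMap R (Hzl.SHens R)) ≠ ⊤ :=
    BranchSumGeom.map_ne_top R (Hzl.SHens R) I hItop
  haveI : Nontrivial (Hzl.SHens R ⧸ I.map (algebraMap R (Hzl.SHens R))) :=
    Ideal.Quotient.nontrivial_iff.mpr hJtop
  haveI : IsLocalRing (Hzl.SHens R ⧸ I.map (algebraMap R (Hzl.SHens R))) :=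
    IsLocalRing.of_surjective' (Ideal.Quotient.mk _) Ideal.Quotient.mk_surjective
  haveI := BranchSumGeom.isLocalHom_quotientMap R (Hzl.SHens R) I
  haveI := BranchSumGeom.isStrictHenselization_quotient R (Hzl.SHens R) I
  rw [EtaleUnibranch.isGeomUnibranch_iff_hasUniqueMinimalPrime (A := R ⧸ I)
    (Ash := Hzl.SHens R ⧸ I.map (algebraMap R (Hzl.SHens R)))]
  have h0 := (EtaleUnibranch.isGeomUnibranch_iff_hasUniqueMinimalPrime (A := R)
    (Ash := Hzl.SHens R)).mp h
  refine hasUniqueMinimalPrime_quotient _ ?_ h0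
  rw [Ideal.map_le_iff_le_comap]
  intro a ha
  have : IsNilpotent a := hI ha
  exact this.map (algebraMap R (Hzl.SHens R))

theorem isGeomUnibranch_localization_quotient {A : Type u} [CommRing A] (I : Ideal A)
    (hI : I ≤ nilradical A)
    (hgu : ∀ (p : Ideal A) [p.IsPrime], CAlg2.IsGeomUnibranch (Localization.AtPrime p))
    (p₀ : Ideal (A ⧸ I)) [p₀.IsPrime] : CAlg2.IsGeomUnibranch (Localization.AtPrime p₀) := by
  obtain ⟨p, hpdef⟩ : ∃ p : Ideal A, p = p₀.comap (Ideal.Quotient.mk I) := ⟨_, rfl⟩
  haveI : p.IsPrime := hpdef ▸ Ideal.comap_isPrime _ _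
  have hJ : I.map (algebraMap A (Localization.AtPrime p)) ≤ nilradical (Localization.AtPrime p) := by
    rw [Ideal.map_le_iff_le_comap]
    intro a ha
    have : IsNilpotent a := hI ha
    exact this.map (algebraMap A (Localization.AtPrime p))
  have hJtop : I.map (algebraMap A (Localization.AtPrime p)) ≠ ⊤ := by
    intro htop
    have h1 : (1 : Localization.AtPrime p) ∈ nilradical (Localization.AtPrime p) :=
      hJ (htop ▸ Submodule.mem_top)
    have h2 : (1 : Localization.AtPrime p) ∈ maximalIdeal (Localization.AtPrime p) :=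
      nilradical_le_prime (maximalIdeal (Localization.AtPrime p)) h1
    exact (Ideal.ne_top_iff_one _).mp (Ideal.IsPrime.ne_top inferInstance) h2
  haveI : Nontrivial (Localization.AtPrime p ⧸ I.map (algebraMap A (Localization.AtPrime p))) :=
    Ideal.Quotient.nontrivial_iff.mpr hJtop
  haveI : IsLocalRing (Localization.AtPrime p ⧸ I.map (algebraMap A (Localization.AtPrime p))) :=
    IsLocalRing.of_surjective' (Ideal.Quotient.mk _) Ideal.Quotient.mk_surjective
  have h1 : CAlg2.IsGeomUnibranch
      (Localization.AtPrime p ⧸ I.map (algebraMap A (Localization.AtPrime p))) :=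
    isGeomUnibranch_quotient _ hJ (hgu p)
  have hloc : IsLocalization (Algebra.algebraMapSubmonoid (A ⧸ I) p.primeCompl)
      (Localization.AtPrime p ⧸ I.map (algebraMap A (Localization.AtPrime p))) := inferInstance
  have hsub : Algebra.algebraMapSubmonoid (A ⧸ I) p.primeCompl = p₀.primeCompl := by
    ext x
    constructor
    · rintro ⟨a, ha, rfl⟩
      intro hmem
      apply ha
      rw [hpdef]
      exact hmem
    · intro hx
      obtain ⟨a, rfl⟩ := Ideal.Quotient.mk_surjective x
      refine ⟨a, ?_, rfl⟩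
      intro hmem
      apply hx
      rw [hpdef] at hmem
      exact hmem
  haveI : IsLocalization.AtPrime
      (Localization.AtPrime p ⧸ I.map (algebraMap A (Localization.AtPrime p))) p₀ := by
    show IsLocalization p₀.primeCompl _
    rw [← hsub]; exact hloc
  let e : Localization.AtPrime p₀ ≃+*
      Localization.AtPrime p ⧸ I.map (algebraMap A (Localization.AtPrime p)) :=
    (IsLocalization.algEquiv p₀.primeCompl _ _).toRingEquiv
  exact SmoothUnibranch.isGeomUnibranch_of_ringEquiv e h1

end Groth.Agent.Lib.Helper8.UnibranchRed
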