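import Mathlib
import Groth.Prelude.Def_Pi1
import Groth.Agent.Lib.Helper22.NormalSections

/-!
# Tools for the relative normalization of a normal scheme with locally finite components (helper8)

* `closure_singleton_mem_irreducibleComponents_iff`: generic points of components = points without
  proper generizations.
* `eq_of_specializes_of_isDomain`: a point with domain stalk has a unique maximal generization.
* `exists_integral_lift`, `normal_of_away`: algebra of integral closures and idempotents.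
* `glue`: gluing sections over two disjoint opens.
* `sections_normal`: sections of a normal scheme over an irreducible open.
-/

set_option autoImplicit false
set_option linter.style.haveILetI false
set_option linter.unusedSectionVars false
universe u
open CategoryTheory AlgebraicGeometry TopologicalSpace Opposite

namespace Groth.Agent.Lib.Helper8.NormCompA

section Top

variable {α : Type*} [TopologicalSpace α]

theorem closure_singleton_mem_irreducibleComponents_iff [T0Space α] [QuasiSober α] (x : α) :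
    closure {x} ∈ irreducibleComponents α ↔ ∀ z : α, z ⤳ x → z = x := by
  constructor
  · intro h z hz
    have h1 : closure {x} ⊆ closure {z} := specializes_iff_closure_subset.mp hz
    have h2 : closure {z} ⊆ closure {x} := h.2 (isIrreducible_singleton.closure) h1
    exact ((specializes_iff_closure_subset.mpr h2).antisymm hz).eq.symm
  · intro h
    refine ⟨isIrreducible_singleton.closure, fun S hS hle => ?_⟩
    have hirr : IsIrreducible (closure S) := hS.closure
    obtain ⟨z, hz⟩ := QuasiSober.sober hirr isClosed_closure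
    have hxz : z ⤳ x := by
      rw [specializes_iff_mem_closure, hz.def]
      exact subset_closure (hle (subset_closure rfl))
    have := h z hxz
    subst this
    rw [hz.def]
    exact subset_closure

end Top

section Alg

open Polynomial

theorem exists_integral_lift {A B C : Type*} [CommRing A] [CommRing B] [CommRing C]
    (α : A →+* B) (φ : B →+* C) (e : B)
    (hsurj : Function.Surjective φ) (hker : ∀ b, φ b = 0 → e * b = 0) (he1 : φ e = 1)
    (c : C) (hc : (φ.comp α).IsIntegralElem c) : ∃ b, α.IsIntegralElem b ∧ φ b = c := by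
  obtain ⟨P, hP, hPc⟩ := hc
  obtain ⟨b₀, rfl⟩ := hsurj c
  have hφb : φ (e * b₀) = φ b₀ := by rw [map_mul, he1, one_mul]
  have h1 : φ (eval₂ α (e * b₀) P) = 0 := by
    rw [Polynomial.hom_eval₂, hφb]; exact hPc
  have h2 := hker _ h1
  refine ⟨e * b₀, ⟨X * P, monic_X.mul hP, ?_⟩, hφb⟩
  rw [eval₂_mul, eval₂_X]
  calc e * b₀ * eval₂ α (e * b₀) P = b₀ * (e * eval₂ α (e * b₀) P) := by ring
    _ = 0 := by rw [h2, mul_zero]

theorem normal_of_away {A'' R C : Type*} [CommRing A''] [CommRing R] [CommRing C] [IsDomain C]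
    [IsIntegrallyClosed C] [Algebra A'' R] (e' : A'') (he' : IsIdempotentElem e')
    [IsLocalization.Away e' R] (θ : A'' →+* C) (hk : ∀ a, θ a = 0 ↔ e' * a = 0)
    (hic : ∀ c, θ.IsIntegralElem c → c ∈ Set.range θ) :
    IsDomain R ∧ IsIntegrallyClosed R := by
  have hθe : θ e' = 1 := by
    have h1 : θ e' * (θ e' - 1) = 0 := by
      rw [mul_sub, mul_one, ← map_mul, he'.eq, sub_self]
    rcases mul_eq_zero.mp h1 with h | h
    · exfalso
      have h2 : e' * e' = 0 := (hk e').mp h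
      rw [he'.eq] at h2
      have h3 : θ 1 = 0 := (hk 1).mpr (by rw [h2, zero_mul])
      rw [map_one] at h3
      exact one_ne_zero h3
    · exact sub_eq_zero.mp h
  have hRe : algebraMap A'' R e' = 1 := by
    have hu : IsUnit (algebraMap A'' R e') := IsLocalization.Away.algebraMap_isUnit e'
    have h1 : algebraMap A'' R e' * algebraMap A'' R e' = algebraMap A'' R e' * 1 := by
      rw [← map_mul, he'.eq, mul_one]
    exact hu.mul_left_cancel h1
  have hsurj : Function.Surjective (algebraMap A'' R) := by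
    intro r
    obtain ⟨n, a, ha⟩ := IsLocalization.Away.surj e' r
    exact ⟨a, by rw [← ha, hRe, one_pow, mul_one]⟩
  have hu : IsUnit (θ e') := by rw [hθe]; exact isUnit_one
  let ρ : R →+* C := IsLocalization.Away.lift e' hu
  have hρ : ∀ a, ρ (algebraMap A'' R a) = θ a := fun a => IsLocalization.Away.lift_eq e' hu a
  have hinj : Function.Injective ρ := by
    rw [injective_iff_map_eq_zero]
    intro r hr
    obtain ⟨a, rfl⟩ := hsurj r
    rw [hρ] at hr
    have h1 := (hk a).mp hr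
    calc algebraMap A'' R a = algebraMap A'' R e' * algebraMap A'' R a := by rw [hRe, one_mul]
      _ = 0 := by rw [← map_mul, h1, map_zero]
  have hdom : IsDomain R := hinj.isDomain ρ
  refine ⟨hdom, ?_⟩
  letI := ρ.toAlgebra
  haveI : FaithfulSMul R C := (faithfulSMul_iff_algebraMap_injective R C).mpr hinj
  haveI : IsIntegrallyClosedIn R C := by
    rw [isIntegrallyClosedIn_iff]
    refine ⟨hinj, fun {c} hc => ?_⟩
    obtain ⟨P, hP, hPc⟩ := hc
    obtain ⟨Q, hQ, -, hQm⟩ := Polynomial.lifts_and_degree_eq_and_monic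
      ((Polynomial.mem_lifts _).mpr (Polynomial.map_surjective _ hsurj P)) hP
    have hθρ : θ = ρ.comp (algebraMap A'' R) := RingHom.ext fun a => (hρ a).symm
    obtain ⟨a, ha⟩ := hic c ⟨Q, hQm, by
      rw [hθρ, ← Polynomial.eval₂_map, hQ]; exact hPc⟩
    exact ⟨algebraMap A'' R a, (hρ a).trans ha⟩
  exact IsIntegrallyClosed.of_isIntegrallyClosed_of_isIntegrallyClosedIn R C

end Alg

section Sch

theorem eq_of_specializes_of_isDomain {X : Scheme.{u}} (x : X) [IsDomain (X.presheaf.stalk x)]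
    {z₁ z₂ : X} (h₁ : z₁ ⤳ x) (h₂ : z₂ ⤳ x) (m₁ : ∀ w : X, w ⤳ z₁ → w = z₁)
    (m₂ : ∀ w : X, w ⤳ z₂ → w = z₂) : z₁ = z₂ := by
  have key : ∀ z : X, z ⤳ x → (∀ w : X, w ⤳ z → w = z) →
      (X.fromSpecStalk x) (⟨⊥, Ideal.isPrime_bot⟩ : PrimeSpectrum (X.presheaf.stalk x)) = z := by
    intro z hz hm
    obtain ⟨p, rfl⟩ : z ∈ Set.range (X.fromSpecStalk x) := by
      rw [Scheme.range_fromSpecStalk]; exact hz
    apply hm
    refine Specializes.map ?_ (X.fromSpecStalk x).continuous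
    exact (PrimeSpectrum.le_iff_specializes _ p).mp bot_le
  rw [← key z₁ h₁ m₁, ← key z₂ h₂ m₂]

/-- Gluing sections over two disjoint opens. -/
theorem glue {Y : Scheme.{u}} (W O₁ O₂ : Y.Opens) (h₁ : O₁ ≤ W) (h₂ : O₂ ≤ W)
    (hd : O₁ ⊓ O₂ = ⊥) (hc : W ≤ O₁ ⊔ O₂) (s₁ : Γ(Y, O₁)) (s₂ : Γ(Y, O₂)) :
    ∃! s : Γ(Y, W), Y.presheaf.map (homOfLE h₁).op s = s₁ ∧
      Y.presheaf.map (homOfLE h₂).op s = s₂ := by
  let O : Bool → Y.Opens := fun b => if b = true then O₁ else O₂
  let sf : ∀ b, Γ(Y, O b) := fun b => match b with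
    | true => s₁
    | false => s₂
  have hle : ∀ b, O b ≤ W := fun b => by cases b <;> simp [O, h₁, h₂]
  have hcompat : TopCat.Presheaf.IsCompatible Y.sheaf.1 O sf := by
    intro b₁ b₂
    by_cases hb : b₁ = b₂
    · subst hb
      rfl
    · haveI : Subsingleton Γ(Y, O b₁ ⊓ O b₂) := by
        have : O b₁ ⊓ O b₂ = ⊥ := by
          cases b₁ <;> cases b₂ <;> simp_all [O, inf_comm]
        rw [this]; infer_instance
      show (_ : Γ(Y, O b₁ ⊓ O b₂)) = _
      exact Subsingleton.elim _ _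
  have hcover : W ≤ iSup O := by
    intro x hx
    rw [TopologicalSpace.Opens.mem_iSup]
    rcases hc hx with h | h
    · exact ⟨true, h⟩
    · exact ⟨false, h⟩
  obtain ⟨s, hs, hs'⟩ := Y.sheaf.existsUnique_gluing' O W (fun b => homOfLE (hle b)) hcover sf
    hcompat
  refine ⟨s, ⟨hs true, hs false⟩, fun s' hs'' => hs' s' fun b => ?_⟩
  cases b
  · exact hs''.2
  · exact hs''.1

theorem basicOpen_eq_of_res {Y : Scheme.{u}} (W O₁ O₂ : Y.Opens) (h₁ : O₁ ≤ W) (h₂ : O₂ ≤ W)
    (hc : W ≤ O₁ ⊔ O₂) (s : Γ(Y, W)) (hs1 : Y.presheaf.map (homOfLE h₁).op s = 1)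
    (hs2 : Y.presheaf.map (homOfLE h₂).op s = 0) : Y.basicOpen s = O₁ := by
  have h1 : O₁ ⊓ Y.basicOpen s = O₁ := by
    rw [← Scheme.basicOpen_res _ s (homOfLE h₁).op, hs1]
    exact Y.basicOpen_of_isUnit isUnit_one
  have h2 : O₂ ⊓ Y.basicOpen s = ⊥ := by
    rw [← Scheme.basicOpen_res _ s (homOfLE h₂).op, hs2]
    exact Scheme.basicOpen_zero _ _
  have h3 : Y.basicOpen s ≤ O₁ ⊔ O₂ := (Y.basicOpen_le s).trans hc
  calc Y.basicOpen s = (O₁ ⊔ O₂) ⊓ Y.basicOpen s := (inf_eq_right.mpr h3).symm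
    _ = O₁ ⊓ Y.basicOpen s ⊔ O₂ ⊓ Y.basicOpen s := inf_sup_right _ _ _
    _ = O₁ := by rw [h1, h2, sup_bot_eq]

theorem exists_idempotent {Y : Scheme.{u}} (W O₁ O₂ : Y.Opens) (h₁ : O₁ ≤ W) (h₂ : O₂ ≤ W)
    (hd : O₁ ⊓ O₂ = ⊥) (hc : W ≤ O₁ ⊔ O₂) :
    ∃ e : Γ(Y, W), IsIdempotentElem e ∧ Y.presheaf.map (homOfLE h₁).op e = 1 ∧
      Y.presheaf.map (homOfLE h₂).op e = 0 ∧ Y.basicOpen e = O₁ ∧ Y.basicOpen (1 - e) = O₂ ∧
      (∀ b : Γ(Y, W), Y.presheaf.map (homOfLE h₁).op b = 0 → e * b = 0) ∧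
      Function.Surjective (Y.presheaf.map (homOfLE h₁).op).hom := by
  obtain ⟨e, ⟨he1, he2⟩, -⟩ := glue W O₁ O₂ h₁ h₂ hd hc 1 0
  have huniq : ∀ s t : Γ(Y, W),
      Y.presheaf.map (homOfLE h₁).op s = Y.presheaf.map (homOfLE h₁).op t →
      Y.presheaf.map (homOfLE h₂).op s = Y.presheaf.map (homOfLE h₂).op t → s = t := by
    intro s t hst1 hst2
    exact (glue W O₁ O₂ h₁ h₂ hd hc (Y.presheaf.map (homOfLE h₁).op t)
      (Y.presheaf.map (homOfLE h₂).op t)).unique ⟨hst1, hst2⟩ ⟨rfl, rfl⟩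
  refine ⟨e, ?_, he1, he2, basicOpen_eq_of_res W O₁ O₂ h₁ h₂ hc e he1 he2, ?_, ?_, ?_⟩
  · apply huniq
    · rw [map_mul, he1, mul_one]
    · rw [map_mul, he2, mul_zero]
  · refine basicOpen_eq_of_res W O₂ O₁ h₂ h₁ (by rwa [sup_comm]) (1 - e) ?_ ?_
    · rw [map_sub, map_one, he2, sub_zero]
    · rw [map_sub, map_one, he1, sub_self]
  · intro b hb
    apply huniq
    · rw [map_mul, hb, mul_zero, map_zero]
    · rw [map_mul, he2, zero_mul, map_zero]
  · intro c
    obtain ⟨b, ⟨hb1, -⟩, -⟩ := glue W O₁ O₂ h₁ h₂ hd hc c 0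
    exact ⟨b, hb1⟩

theorem sections_normal {Y : Scheme.{u}} (hY : Pi1.IsNormalScheme Y) (O : Y.Opens)
    (hO : IsIrreducible (O : Set Y)) : IsDomain Γ(Y, O) ∧ IsIntegrallyClosed Γ(Y, O) := by
  haveI : IrreducibleSpace ↥(O : Scheme.{u}) := isIrreducible_iff_irreducibleSpace.mp hO
  haveI : IsReduced Y := by
    haveI : ∀ x : Y, _root_.IsReduced (Y.presheaf.stalk x) := fun x => by
      haveI := (hY x).1; infer_instance
    exact isReduced_of_isReduced_stalk Y
  haveI : IsIntegral (O : Scheme.{u}) := isIntegral_of_irreducibleSpace_of_isReduced _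
  have hN : Pi1.IsNormalScheme (O : Scheme.{u}) := by
    intro x
    let e : (O : Scheme.{u}).presheaf.stalk x ≃+* Y.presheaf.stalk x.1 :=
      (O.stalkIso x).commRingCatIsoToRingEquiv
    haveI := (hY x.1).1
    haveI := (hY x.1).2
    exact ⟨e.toMulEquiv.isDomain _, IsIntegrallyClosed.of_equiv e.symm⟩
  obtain ⟨y, hy⟩ := hO.1
  haveI : Nonempty ↥((⊤ : (O : Scheme.{u}).Opens) : Scheme.{u}) := ⟨⟨⟨y, hy⟩, trivial⟩⟩
  haveI := Groth.Agent.Lib.Helper22.NormalSections.isIntegrallyClosed_sections hN ⊤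
  let e : Γ(O, ⊤) ≃+* Γ(Y, O) := O.topIso.commRingCatIsoToRingEquiv
  exact ⟨e.symm.toMulEquiv.isDomain _, IsIntegrallyClosed.of_equiv e⟩

end Sch

end Groth.Agent.Lib.Helper8.NormCompA
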