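import Mathlib
import Groth.Prelude.Def_Pi1
import Groth.Agent.Lib.Helper8.NormCompA
import Groth.Agent.Lib.Helper12.NormField

/-!
# Relative normalization of a normal scheme with locally finite irreducible components (helper8)
-/

set_option autoImplicit false
set_option linter.style.haveILetI false
set_option linter.unusedSectionVars false
universe u
open CategoryTheory AlgebraicGeometry TopologicalSpace Opposite

namespace Groth.Agent.Lib.Helper8.NormCompB

open Groth.Agent.Lib.Helper8.NormCompA Polynomial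

variable {X Y : Scheme.{u}} (f : Y ⟶ X) [QuasiCompact f] [QuasiSeparated f]

theorem package (hY : Pi1.IsNormalScheme Y) {V : X.Opens} (hV : IsAffineOpen V)
    (Z Zc : Y.Opens) (hdisj : Z ⊓ Zc = ⊥) (hcov : Z ⊔ Zc = ⊤) (hirr : IsIrreducible (Z : Set Y)) :
    ∃ D Dc : f.normalization.Opens,
      IsAffineOpen D ∧ f.fromNormalization ⁻¹ᵁ V ≤ D ⊔ Dc ∧ D ≤ f.fromNormalization ⁻¹ᵁ V ∧
      f.toNormalization ⁻¹ᵁ D = f ⁻¹ᵁ V ⊓ Z ∧ f.toNormalization ⁻¹ᵁ Dc = f ⁻¹ᵁ V ⊓ Zc ∧
      (((f ⁻¹ᵁ V ⊓ Z : Y.Opens) : Set Y).Nonempty →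
        IsDomain Γ(f.normalization, D) ∧ IsIntegrallyClosed Γ(f.normalization, D)) := by
  letI := (f.app V).hom.toAlgebra
  have hU' : IsAffineOpen (f.fromNormalization ⁻¹ᵁ V) := hV.preimage f.fromNormalization
  have hWU' : f ⁻¹ᵁ V = f.toNormalization ⁻¹ᵁ (f.fromNormalization ⁻¹ᵁ V) := by
    rw [← Scheme.Hom.comp_preimage, f.toNormalization_fromNormalization]
  obtain ⟨E, hE1, hE2⟩ := Groth.Agent.Lib.Helper12.NormField.exists_ringEquiv' f hV hWU'.le
  set ψ : Γ(f.normalization, f.fromNormalization ⁻¹ᵁ V) →+* Γ(Y, f ⁻¹ᵁ V) :=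
    (f.toNormalization.appLE (f.fromNormalization ⁻¹ᵁ V) (f ⁻¹ᵁ V) hWU'.le).hom with hψ
  have hψinj : Function.Injective ψ := by
    intro a b hab
    apply E.injective
    apply Subtype.ext
    rw [hE2, hE2]; exact hab
  have hψrange : ∀ b : Γ(Y, f ⁻¹ᵁ V), IsIntegral Γ(X, V) b → ∃ a, ψ a = b := by
    intro b hb
    refine ⟨E.symm ⟨b, hb⟩, ?_⟩
    rw [hψ, ← hE2, E.apply_symm_apply]
  have hψβ : ∀ a : Γ(X, V), ψ ((f.fromNormalization.app V).hom a) = (f.app V).hom a := by
    intro a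
    rw [hψ, ← hE2, hE1]; rfl
  -- the idempotent
  have h₁ : f ⁻¹ᵁ V ⊓ Z ≤ f ⁻¹ᵁ V := inf_le_left
  have h₂ : f ⁻¹ᵁ V ⊓ Zc ≤ f ⁻¹ᵁ V := inf_le_left
  obtain ⟨e, hei, he1, he2, hbe, hbe', hker, hsurj⟩ := exists_idempotent (f ⁻¹ᵁ V) (f ⁻¹ᵁ V ⊓ Z)
    (f ⁻¹ᵁ V ⊓ Zc) h₁ h₂ (by rw [← inf_inf_distrib_left, hdisj, inf_bot_eq])
    (by rw [← inf_sup_left, hcov, inf_top_eq])
  have heint : IsIntegral Γ(X, V) e :=
    ⟨Polynomial.X * (Polynomial.X - C 1), Polynomial.monic_X.mul (Polynomial.monic_X_sub_C 1), by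
      rw [eval₂_mul, eval₂_X, eval₂_sub, eval₂_X, eval₂_C, map_one, mul_sub, mul_one, hei.eq,
        sub_self]⟩
  obtain ⟨e', he'⟩ := hψrange e heint
  have he'i : IsIdempotentElem e' := hψinj (by rw [map_mul, he', hei.eq])
  have hpre : ∀ s : Γ(f.normalization, f.fromNormalization ⁻¹ᵁ V),
      f.toNormalization ⁻¹ᵁ (f.normalization.basicOpen s) = Y.basicOpen (ψ s) := by
    intro s
    have h1 := Scheme.basicOpen_appLE f.toNormalization (f ⁻¹ᵁ V) (f.fromNormalization ⁻¹ᵁ V)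
      hWU'.le s
    have h2 : f.toNormalization ⁻¹ᵁ (f.normalization.basicOpen s) ≤ f ⁻¹ᵁ V := by
      rw [hWU']; exact f.toNormalization.preimage_mono (f.normalization.basicOpen_le s)
    rw [hψ]
    refine Eq.trans ?_ h1.symm
    exact (inf_eq_right.mpr h2).symm
  refine ⟨f.normalization.basicOpen e', f.normalization.basicOpen (1 - e'), hU'.basicOpen e', ?_,
    f.normalization.basicOpen_le e', ?_, ?_, ?_⟩
  · intro x hx
    have hsum : f.normalization.presheaf.germ _ x hx e' +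
        f.normalization.presheaf.germ _ x hx (1 - e') = 1 := by
      rw [← map_add, add_sub_cancel, map_one]
    rcases IsLocalRing.isUnit_or_isUnit_of_add_one hsum with h | h
    · exact Or.inl ((f.normalization.mem_basicOpen e' x hx).mpr h)
    · exact Or.inr ((f.normalization.mem_basicOpen (1 - e') x hx).mpr h)
  · rw [hpre, he', hbe]
  · rw [hpre, map_sub, map_one, he', hbe']
  · intro hne
    have hO₁ : IsIrreducible ((f ⁻¹ᵁ V ⊓ Z : Y.Opens) : Set Y) :=
      ⟨hne, hirr.2.open_subset (f ⁻¹ᵁ V ⊓ Z).2 inf_le_right⟩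
    obtain ⟨hCd, hCi⟩ := sections_normal hY (f ⁻¹ᵁ V ⊓ Z) hO₁
    haveI := hU'.isLocalization_basicOpen e'
    let φ : Γ(Y, f ⁻¹ᵁ V) →+* Γ(Y, f ⁻¹ᵁ V ⊓ Z) := (Y.presheaf.map (homOfLE h₁).op).hom
    have hφe : φ e = 1 := he1
    let θ : Γ(f.normalization, f.fromNormalization ⁻¹ᵁ V) →+* Γ(Y, f ⁻¹ᵁ V ⊓ Z) := φ.comp ψ
    have hk : ∀ a, θ a = 0 ↔ e' * a = 0 := by
      intro a
      constructor
      · intro h
        have h1 : e * ψ a = 0 := hker (ψ a) h
        apply hψinj
        rw [map_mul, he', h1, map_zero]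
      · intro h
        have h1 : e * ψ a = 0 := by rw [← he', ← map_mul, h, map_zero]
        have h2 : φ e * φ (ψ a) = 0 := by rw [← map_mul, h1, map_zero]
        rw [hφe, one_mul] at h2
        exact h2
    have hic : ∀ c, θ.IsIntegralElem c → c ∈ Set.range θ := by
      intro c hc
      have hint : (f.fromNormalization.app V).hom.IsIntegral :=
        IsIntegralHom.isIntegral_app f.fromNormalization V hV
      have hc2 : (φ.comp (f.app V).hom).IsIntegralElem c := by
        letI := (f.fromNormalization.app V).hom.toAlgebra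
        letI := θ.toAlgebra
        letI := (θ.comp (f.fromNormalization.app V).hom).toAlgebra
        haveI : IsScalarTower Γ(X, V) Γ(f.normalization, f.fromNormalization ⁻¹ᵁ V)
            Γ(Y, f ⁻¹ᵁ V ⊓ Z) := IsScalarTower.of_algebraMap_eq' rfl
        haveI : Algebra.IsIntegral Γ(X, V) Γ(f.normalization, f.fromNormalization ⁻¹ᵁ V) :=
          ⟨fun x => hint x⟩
        have h3 : IsIntegral Γ(X, V) c := isIntegral_trans c hc
        have h4 : θ.comp (f.fromNormalization.app V).hom = φ.comp (f.app V).hom := by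
          ext a
          show φ (ψ ((f.fromNormalization.app V).hom a)) = φ ((f.app V).hom a)
          rw [hψβ]
        rw [← h4]
        exact h3
      obtain ⟨b, hb, hbc⟩ := exists_integral_lift (f.app V).hom φ e hsurj hker hφe c hc2
      obtain ⟨a, ha⟩ := hψrange b hb
      exact ⟨a, by show φ (ψ a) = c; rw [ha, hbc]⟩
    haveI := hCd
    haveI := hCi
    exact normal_of_away e' he'i θ hk hic

theorem main (hY : Pi1.IsNormalScheme Y)
    (hfin : LocallyFinite (fun Z : ↥(irreducibleComponents ↥Y) => (Z : Set ↥Y))) :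
    Pi1.IsNormalScheme f.normalization ∧
    LocallyFinite (fun Z : ↥(irreducibleComponents ↥f.normalization) =>
      (Z : Set ↥f.normalization)) ∧
    (∀ y : Y, closure {y} ∈ irreducibleComponents ↥Y →
      closure {f.toNormalization y} ∈ irreducibleComponents ↥f.normalization) ∧
    (∀ x' : ↥f.normalization, closure {x'} ∈ irreducibleComponents ↥f.normalization →
      ∃! y : Y, closure {y} ∈ irreducibleComponents ↥Y ∧ f.toNormalization y = x') := by
  have hcl : ∀ Z ∈ irreducibleComponents ↥Y, IsClosed Z :=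
    fun Z hZ => isClosed_of_mem_irreducibleComponents Z hZ
  have huniq : ∀ Z ∈ irreducibleComponents ↥Y, ∀ Z' ∈ irreducibleComponents ↥Y, ∀ y : Y,
      y ∈ Z → y ∈ Z' → Z = Z' := by
    intro Z hZ Z' hZ' y hy hy'
    obtain ⟨η, hη⟩ := QuasiSober.sober hZ.1 (hcl Z hZ)
    obtain ⟨η', hη'⟩ := QuasiSober.sober hZ'.1 (hcl Z' hZ')
    haveI := (hY y).1
    have e1 : η = η' := eq_of_specializes_of_isDomain y (hη.specializes hy) (hη'.specializes hy')
      ((closure_singleton_mem_irreducibleComponents_iff η).mp (by rw [hη.def]; exact hZ))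
      ((closure_singleton_mem_irreducibleComponents_iff η').mp (by rw [hη'.def]; exact hZ'))
    rw [← hη.def, ← hη'.def, e1]
  have hop : ∀ Z ∈ irreducibleComponents ↥Y, IsOpen Z := by
    intro Z hZ
    have hcompl : Zᶜ = ⋃ Z' : {Z' : ↥(irreducibleComponents ↥Y) // (Z' : Set Y) ≠ Z},
        ((Z' : ↥(irreducibleComponents ↥Y)) : Set Y) := by
      ext y
      simp only [Set.mem_compl_iff, Set.mem_iUnion]
      constructor
      · intro hy
        exact ⟨⟨⟨irreducibleComponent y, irreducibleComponent_mem_irreducibleComponents y⟩,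
          fun h => hy (h ▸ mem_irreducibleComponent)⟩, mem_irreducibleComponent⟩
      · rintro ⟨⟨Z', hne⟩, hy'⟩ hy
        exact hne (huniq _ Z'.2 _ hZ y hy' hy)
    rw [← isClosed_compl_iff, hcompl]
    exact (hfin.comp_injective
      (g := fun Z' : {Z' : ↥(irreducibleComponents ↥Y) // (Z' : Set Y) ≠ Z} => Z'.1)
      Subtype.val_injective).isClosed_iUnion (fun Z' => hcl _ Z'.1.2)
  -- the local packages
  have pk : ∀ (V : X.Opens) (hV : IsAffineOpen V) (Z : ↥(irreducibleComponents ↥Y)),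
      ∃ D Dc : f.normalization.Opens, IsAffineOpen D ∧
        f.fromNormalization ⁻¹ᵁ V ≤ D ⊔ Dc ∧ D ≤ f.fromNormalization ⁻¹ᵁ V ∧
        (∀ y : Y, f.toNormalization y ∈ D ↔ f y ∈ V ∧ y ∈ Z.1) ∧
        (∀ y : Y, f.toNormalization y ∈ Dc ↔ f y ∈ V ∧ y ∉ Z.1) ∧
        ((∃ y : Y, f y ∈ V ∧ y ∈ Z.1) →
          IsDomain Γ(f.normalization, D) ∧ IsIntegrallyClosed Γ(f.normalization, D)) := by
    intro V hV Z
    obtain ⟨D, Dc, h1, h2, h3, h4, h5, h6⟩ := package f hY hV ⟨Z.1, hop Z.1 Z.2⟩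
      ⟨Z.1ᶜ, (hcl Z.1 Z.2).isOpen_compl⟩ (by ext y; simp) (by ext y; simp [em]) Z.2.1
    refine ⟨D, Dc, h1, h2, h3, fun y => ?_, fun y => ?_, fun ⟨y, hy⟩ => h6 ⟨y, hy⟩⟩
    · show y ∈ f.toNormalization ⁻¹ᵁ D ↔ _
      rw [h4]; exact Iff.rfl
    · show y ∈ f.toNormalization ⁻¹ᵁ Dc ↔ _
      rw [h5]; exact Iff.rfl
  choose D Dc hD1 hD2 hD3 hD4 hD5 hD6 using pk
  have hπt : ∀ y : Y, f.fromNormalization (f.toNormalization y) = f y := by
    intro y
    rw [← Scheme.Hom.comp_apply, f.toNormalization_fromNormalization]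
  have cover : ∀ (V : X.Opens) (hV : IsAffineOpen V) (x' : f.normalization),
      x' ∈ f.fromNormalization ⁻¹ᵁ V → ∃ Z : ↥(irreducibleComponents ↥Y), x' ∈ D V hV Z := by
    intro V hV x' hx'
    by_contra hcon
    push_neg at hcon
    have hWc : IsCompact (f ⁻¹' (V : Set X)) :=
      QuasiCompact.isCompact_preimage (f := f) _ V.2 hV.isCompact
    have h𝒵 := hfin.finite_nonempty_inter_compact hWc
    set 𝒵 : Set ↥(irreducibleComponents ↥Y) :=
      {Z | ((Z : Set Y) ∩ f ⁻¹' (V : Set X)).Nonempty} with h𝒵def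
    have hOo : IsOpen (((f.fromNormalization ⁻¹ᵁ V : f.normalization.Opens) : Set f.normalization) ∩
        ⋂ Z ∈ 𝒵, (Dc V hV Z : Set f.normalization)) :=
      (f.fromNormalization ⁻¹ᵁ V).2.inter (h𝒵.isOpen_biInter fun Z _ => (Dc V hV Z).2)
    have hx'O : x' ∈ ((f.fromNormalization ⁻¹ᵁ V : f.normalization.Opens) : Set f.normalization) ∩
        ⋂ Z ∈ 𝒵, (Dc V hV Z : Set f.normalization) := by
      refine ⟨hx', Set.mem_iInter₂.mpr fun Z _ => ?_⟩
      rcases hD2 V hV Z hx' with h | h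
      · exact absurd h (hcon Z)
      · exact h
    obtain ⟨y, hyV, hy⟩ := f.toNormalization.denseRange.exists_mem_open hOo ⟨x', hx'O⟩
    have hfy : f y ∈ V := by
      have : f.fromNormalization (f.toNormalization y) ∈ V := hyV
      rwa [hπt] at this
    let Zy : ↥(irreducibleComponents ↥Y) :=
      ⟨irreducibleComponent y, irreducibleComponent_mem_irreducibleComponents y⟩
    have hZy : Zy ∈ 𝒵 := ⟨y, mem_irreducibleComponent, hfy⟩
    have := (hD5 V hV Zy y).mp (Set.mem_iInter₂.mp hy Zy hZy)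
    exact this.2 mem_irreducibleComponent
  have gen : ∀ (V : X.Opens) (hV : IsAffineOpen V) (Z : ↥(irreducibleComponents ↥Y)) (η : Y),
      IsGenericPoint η Z.1 → ∀ x' ∈ D V hV Z, f.toNormalization η ⤳ x' := by
    intro V hV Z η hη x' hx'
    rw [specializes_iff_forall_open]
    intro O hO hx'O
    obtain ⟨y, hyO, hyD⟩ := f.toNormalization.denseRange.exists_mem_open
      (hO.inter (D V hV Z).2) ⟨x', hx'O, hx'⟩
    have hyZ := ((hD4 V hV Z y).mp hyD).2
    exact (hη.mem_open_set_iff (hO.preimage f.toNormalization.continuous)).mpr ⟨y, hyZ, hyO⟩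
  have affine_nhd : ∀ x : X, ∃ V : X.Opens, IsAffineOpen V ∧ x ∈ V := by
    intro x
    obtain ⟨V, hV, hxV, -⟩ := Opens.isBasis_iff_nbhd.mp X.isBasis_affineOpens
      (show x ∈ (⊤ : X.Opens) from trivial)
    exact ⟨V, hV, hxV⟩
  have nonempty_of_mem : ∀ (V : X.Opens) (hV : IsAffineOpen V) (Z : ↥(irreducibleComponents ↥Y))
      (x' : f.normalization), x' ∈ D V hV Z → ∃ y : Y, f y ∈ V ∧ y ∈ Z.1 := by
    intro V hV Z x' hx'
    obtain ⟨y, hy⟩ := f.toNormalization.denseRange.exists_mem_open (D V hV Z).2 ⟨x', hx'⟩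
    exact ⟨y, (hD4 V hV Z y).mp hy⟩
  have genpt : ∀ Z : ↥(irreducibleComponents ↥Y), ∃ η : Y, IsGenericPoint η Z.1 :=
    fun Z => QuasiSober.sober Z.2.1 (hcl Z.1 Z.2)
  refine ⟨?_, ?_, ?_, ?_⟩
  · -- normality
    intro x'
    obtain ⟨V, hV, hxV⟩ := affine_nhd (f.fromNormalization x')
    obtain ⟨Z, hx'D⟩ := cover V hV x' hxV
    obtain ⟨hd, hi⟩ := hD6 V hV Z (nonempty_of_mem V hV Z x' hx'D)
    letI := TopCat.Presheaf.algebra_section_stalk f.normalization.presheaf
      (⟨x', hx'D⟩ : (D V hV Z : Scheme.{u}))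
    haveI : IsLocalization.AtPrime (f.normalization.presheaf.stalk x')
        ((hD1 V hV Z).primeIdealOf ⟨x', hx'D⟩).asIdeal :=
      (hD1 V hV Z).isLocalization_stalk ⟨x', hx'D⟩
    exact ⟨IsLocalization.isDomain_of_le_nonZeroDivisors (R := Γ(f.normalization, D V hV Z))
        (S := f.normalization.presheaf.stalk x')
        (M := ((hD1 V hV Z).primeIdealOf ⟨x', hx'D⟩).asIdeal.primeCompl)
        (Ideal.primeCompl_le_nonZeroDivisors _),
      isIntegrallyClosed_of_isLocalization (R := Γ(f.normalization, D V hV Z))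
        (S := f.normalization.presheaf.stalk x')
        ((hD1 V hV Z).primeIdealOf ⟨x', hx'D⟩).asIdeal.primeCompl
        (Ideal.primeCompl_le_nonZeroDivisors _)⟩
  · -- local finiteness
    intro x'
    obtain ⟨V, hV, hxV⟩ := affine_nhd (f.fromNormalization x')
    refine ⟨(f.fromNormalization ⁻¹ᵁ V : f.normalization.Opens),
      (f.fromNormalization ⁻¹ᵁ V).2.mem_nhds hxV, ?_⟩
    have hWc : IsCompact (f ⁻¹' (V : Set X)) :=
      QuasiCompact.isCompact_preimage (f := f) _ V.2 hV.isCompact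
    have h𝒵 := hfin.finite_nonempty_inter_compact hWc
    choose η hη using genpt
    refine Set.Finite.of_finite_image (f := Subtype.val)
      ((h𝒵.image fun Z => closure {f.toNormalization (η Z)}).subset ?_)
      Subtype.val_injective.injOn
    rintro _ ⟨T, ⟨ξ, hξT, hξU⟩, rfl⟩
    obtain ⟨ζ, hζ⟩ := QuasiSober.sober T.2.1 (isClosed_of_mem_irreducibleComponents T.1 T.2)
    have hζU : ζ ∈ f.fromNormalization ⁻¹ᵁ V :=
      (hζ.mem_open_set_iff (f.fromNormalization ⁻¹ᵁ V).2).mpr ⟨ξ, hξT, hξU⟩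
    obtain ⟨Z, hζD⟩ := cover V hV ζ hζU
    have hmax := (closure_singleton_mem_irreducibleComponents_iff ζ).mp
      (by rw [hζ.def]; exact T.2)
    have heq : f.toNormalization (η Z) = ζ := hmax _ (gen V hV Z (η Z) (hη Z) ζ hζD)
    obtain ⟨y, hyV, hyZ⟩ := nonempty_of_mem V hV Z ζ hζD
    exact ⟨Z, ⟨y, hyZ, hyV⟩, by
      show closure {f.toNormalization (η Z)} = T.1
      rw [heq, hζ.def]⟩
  · -- generic points map to generic points
    intro y hy
    obtain ⟨V, hV, hxV⟩ := affine_nhd (f y)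
    let Z : ↥(irreducibleComponents ↥Y) := ⟨closure {y}, hy⟩
    have hyD : f.toNormalization y ∈ D V hV Z :=
      (hD4 V hV Z y).mpr ⟨hxV, subset_closure rfl⟩
    rw [closure_singleton_mem_irreducibleComponents_iff]
    intro z hz
    have hzD : z ∈ D V hV Z := hz.mem_open (D V hV Z).2 hyD
    have h1 := gen V hV Z y isGenericPoint_closure z hzD
    exact (hz.antisymm h1).eq
  · -- uniqueness of generic points over generic points
    intro x' hx'
    obtain ⟨V, hV, hxV⟩ := affine_nhd (f.fromNormalization x')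
    obtain ⟨Z, hx'D⟩ := cover V hV x' hxV
    obtain ⟨η, hη⟩ := genpt Z
    have hmax := (closure_singleton_mem_irreducibleComponents_iff x').mp hx'
    have heq : f.toNormalization η = x' := hmax _ (gen V hV Z η hη x' hx'D)
    refine ⟨η, ⟨by rw [hη.def]; exact Z.2, heq⟩, ?_⟩
    rintro y₂ ⟨hy₂, hy₂x⟩
    have hy₂D : f.toNormalization y₂ ∈ D V hV Z := by rw [hy₂x]; exact hx'D
    have hy₂Z := ((hD4 V hV Z y₂).mp hy₂D).2
    have hZ₂ : closure {y₂} = Z.1 :=
      huniq _ hy₂ _ Z.2 y₂ (subset_closure rfl) hy₂Z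
    exact (IsGenericPoint.eq (isGenericPoint_def.mpr hZ₂) hη)

end Groth.Agent.Lib.Helper8.NormCompB
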