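import Mathlib

/-!
# Infinitesimal lifting criteria for formal smoothness of essentially finitely presented local
algebras

Core: `formallySmooth_of_section` (Jacobian criterion over the residue field from a section of
`P/𝔞 → P/(I+𝔞)`), and the two lifting criteria `formallySmooth_of_lift_local` (no Noetherian
hypothesis, local test rings) and `formallySmooth_of_lift_artinian` (Noetherian base, Artinian
local test rings, via Artin–Rees).
-/

set_option autoImplicit false
open TensorProduct IsLocalRing KaehlerDifferential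

namespace Groth.Agent.Lib.Helper8.LiftCrit

universe u

/-- If `N = ker q ⊆ 𝔪 • M`-type condition holds, then `k ⊗ q` is injective: here specialised to
`q : I → J` between ideals. General module form. -/
theorem lTensor_injective_of_ker_le {P : Type*} [CommRing P] {M N k : Type*}
    [AddCommGroup M] [Module P M] [AddCommGroup N] [Module P N] [AddCommGroup k] [Module P k]
    (q : M →ₗ[P] N) (hq : Function.Surjective q)
    (h0 : ∀ (x : k) (n : M), q n = 0 → x ⊗ₜ[P] n = 0) :
    Function.Injective (q.lTensor k) := by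
  have hex : Function.Exact (LinearMap.ker q).subtype q := LinearMap.exact_subtype_ker_map q
  have hex' := lTensor_exact k hex hq
  have hzero : (LinearMap.ker q).subtype.lTensor k = 0 := by
    ext x n
    simp only [AlgebraTensorModule.curry_apply, curry_apply, LinearMap.coe_restrictScalars,
      LinearMap.lTensor_tmul, Submodule.subtype_apply, LinearMap.zero_apply]
    exact h0 x n.1 n.2
  rw [injective_iff_map_eq_zero]
  intro x hx
  obtain ⟨y, rfl⟩ := (hex' x).mp hx
  rw [hzero, LinearMap.zero_apply]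

set_option maxHeartbeats 800000 in
/-- Core lemma: a section of `P/𝔞 → P/(I+𝔞)` over `B = P/I` with `I² ⊆ 𝔞` and
`𝔞 ∩ I ⊆ 𝔪 I` forces `B` to be formally smooth (Jacobian criterion over the residue field). -/
theorem formallySmooth_of_section {A P B : Type*} [CommRing A] [CommRing P] [CommRing B]
    [Algebra A P] [Algebra P B] [Algebra A B] [IsScalarTower A P B] [IsLocalRing B]
    [Algebra.FormallySmooth A P] [Module.Free P Ω[P⁄A]] [Module.Finite P Ω[P⁄A]]
    (h₁ : Function.Surjective (algebraMap P B)) (h₂ : (RingHom.ker (algebraMap P B)).FG)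
    (𝔞 : Ideal P)
    (h𝔞 : RingHom.ker (algebraMap P B) ^ 2 ≤ 𝔞)
    (h𝔞' : 𝔞 ⊓ RingHom.ker (algebraMap P B) ≤
      (maximalIdeal B).comap (algebraMap P B) * RingHom.ker (algebraMap P B))
    (σ : B →ₐ[A] P ⧸ 𝔞)
    (hσ : ∀ p : P, σ (algebraMap P B p) - Ideal.Quotient.mk 𝔞 p ∈
      (RingHom.ker (algebraMap P B)).map (Ideal.Quotient.mk 𝔞)) :
    Algebra.FormallySmooth A B := by
  set I := RingHom.ker (algebraMap P B) with hI
  let k := ResidueField B
  let C := P ⧸ 𝔞
  let J : Ideal C := I.map (Ideal.Quotient.mk 𝔞)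
  have hJ : J ^ 2 = ⊥ := by
    rw [eq_bot_iff]
    calc J ^ 2 = (I ^ 2).map (Ideal.Quotient.mk 𝔞) := (Ideal.map_pow _ _ _).symm
      _ ≤ 𝔞.map (Ideal.Quotient.mk 𝔞) := Ideal.map_mono h𝔞
      _ = ⊥ := Ideal.map_quotient_self 𝔞
  let f : P →ₐ[A] C := σ.comp (IsScalarTower.toAlgHom A P B)
  have e : (Ideal.Quotient.mkₐ A J).comp f = IsScalarTower.toAlgHom A P (C ⧸ J) := by
    ext p
    show Ideal.Quotient.mk J (σ (algebraMap P B p)) = Ideal.Quotient.mk J (Ideal.Quotient.mk 𝔞 p)
    rw [Ideal.Quotient.eq]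
    exact hσ p
  let D : Derivation A P J := derivationToSquareZeroOfLift J hJ f e
  have hD : ∀ p : P, ((D p : J) : C) = σ (algebraMap P B p) - Ideal.Quotient.mk 𝔞 p := fun p => rfl
  let l : Ω[P⁄A] →ₗ[P] J := D.liftKaehlerDifferential
  let q : I →ₗ[P] J :=
    { toFun := fun a => ⟨Ideal.Quotient.mk 𝔞 a.1, Ideal.mem_map_of_mem _ a.2⟩
      map_add' := fun a b => by ext; simp
      map_smul' := fun r a => by ext; simp [Algebra.smul_def]; rfl }
  have hq : Function.Surjective q := by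
    rintro ⟨c, hc⟩
    obtain ⟨a, ha, rfl⟩ := (Ideal.mem_map_iff_of_surjective _ Ideal.Quotient.mk_surjective).mp hc
    exact ⟨⟨a, ha⟩, rfl⟩
  have hlq : ∀ a : I, l (KaehlerDifferential.D A P a.1) = - q a := by
    intro a
    rw [Derivation.liftKaehlerDifferential_comp_D]
    ext
    rw [hD]
    have : algebraMap P B a.1 = 0 := a.2
    rw [this, map_zero, zero_sub]
    rfl
  rw [Algebra.FormallySmooth.iff_injective_cotangentComplexBaseChange_residueField P h₁ h₂]
  have hq' : Function.Surjective (-q) := by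
    intro c
    obtain ⟨a, ha⟩ := hq (-c)
    exact ⟨a, by rw [LinearMap.neg_apply, ha, neg_neg]⟩
  have hqinj : Function.Injective ((-q).lTensor k) := by
    apply lTensor_injective_of_ker_le (-q) hq'
    intro x n hn
    have hn0 : q n = 0 := by
      rw [LinearMap.neg_apply, neg_eq_zero] at hn
      exact hn
    have hn1 : n.1 ∈ 𝔞 ⊓ I := by
      refine ⟨?_, n.2⟩
      have := congrArg (fun z : J => (z : C)) hn0
      exact Ideal.Quotient.eq_zero_iff_mem.mp this
    have hn2 := h𝔞' hn1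
    have hle : (maximalIdeal B).comap (algebraMap P B) * I ≤ I := Ideal.mul_le_right
    have key : ∀ p (hp : p ∈ (maximalIdeal B).comap (algebraMap P B) * I),
        x ⊗ₜ[P] (⟨p, hle hp⟩ : I) = 0 := by
      intro p hp
      refine Submodule.mul_induction_on' (C := fun p hp => x ⊗ₜ[P] (⟨p, hle hp⟩ : I) = 0)
        ?_ ?_ hp
      · intro r hr a ha
        have : (⟨r * a, hle (Ideal.mul_mem_mul hr ha)⟩ : I) = r • (⟨a, ha⟩ : I) := by ext; simp
        show x ⊗ₜ[P] (⟨r * a, _⟩ : I) = 0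
        rw [this, ← TensorProduct.smul_tmul, Algebra.smul_def]
        have h0 : algebraMap P k r = 0 := by
          rw [IsScalarTower.algebraMap_apply P B k]
          exact (IsLocalRing.residue_eq_zero_iff _).mpr hr
        rw [h0, zero_mul, zero_tmul]
      · intro p₁ hp₁ p₂ hp₂ h1 h2
        have : (⟨p₁ + p₂, hle (add_mem hp₁ hp₂)⟩ : I) = ⟨p₁, hle hp₁⟩ + ⟨p₂, hle hp₂⟩ := rfl
        show x ⊗ₜ[P] (⟨p₁ + p₂, _⟩ : I) = 0
        rw [this, tmul_add, h1, h2, add_zero]
    exact key n.1 hn2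
  have hcomp : ∀ z, (l.baseChange k) (cotangentComplexBaseChange A B P k z) =
      ((-q).lTensor k z) := by
    intro z
    induction z using TensorProduct.induction_on with
    | zero => simp
    | add x y hx hy => simp only [map_add, hx, hy]
    | tmul x a =>
      rw [cotangentComplexBaseChange_tmul, map_smul, kerToTensor_apply,
        LinearMap.baseChange_tmul, LinearMap.lTensor_tmul, LinearMap.neg_apply]
      rw [hlq a, TensorProduct.smul_tmul', smul_eq_mul, mul_one]
  intro z₁ z₂ h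
  apply hqinj
  rw [← hcomp, ← hcomp, h]

set_option maxHeartbeats 800000 in
/-- A localization `B` of a finitely presented `A`-algebra `C` is a quotient, by a finitely
generated ideal, of a localization `P` of a polynomial ring over `A`; `P` is formally smooth over
`A` with finite free differentials, and Noetherian if `A` is. -/
theorem exists_presentation {A C B : Type u} [CommRing A] [CommRing C] [CommRing B]
    [Algebra A C] [Algebra A B] [Algebra C B] [IsScalarTower A C B]
    [Algebra.FinitePresentation A C] (M₀ : Submonoid C) [IsLocalization M₀ B] [IsLocalRing B] :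
    ∃ (P : Type u) (_ : CommRing P) (_ : IsLocalRing P) (_ : Algebra A P) (_ : Algebra P B)
      (_ : IsScalarTower A P B) (_ : Algebra.FormallySmooth A P) (_ : Module.Free P Ω[P⁄A])
      (_ : Module.Finite P Ω[P⁄A]), Function.Surjective (algebraMap P B) ∧
        (RingHom.ker (algebraMap P B)).FG ∧ (IsNoetherianRing A → IsNoetherianRing P) := by
  obtain ⟨n, f₀, hf₀⟩ := Algebra.FiniteType.iff_quotient_mvPolynomial''.mp
    (inferInstance : Algebra.FiniteType A C)
  let 𝔮 : Ideal C := (maximalIdeal B).comap (algebraMap C B)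
  haveI : 𝔮.IsPrime := Ideal.comap_isPrime _ _
  let M : Submonoid C := 𝔮.primeCompl
  haveI : IsLocalization M B := by
    refine IsLocalization.of_le M₀ M ?_ ?_
    · intro m hm hq
      exact hq (IsLocalization.map_units B ⟨m, hm⟩)
    · intro r hr
      by_contra h
      exact hr h
  let 𝔫 : Ideal (MvPolynomial (Fin n) A) := 𝔮.comap f₀
  haveI : 𝔫.IsPrime := Ideal.comap_isPrime _ _
  let M' := 𝔫.primeCompl
  have hM' : M' = M.comap f₀ := rfl
  let P' := Localization M'
  let fP : P' →ₐ[A] B := IsLocalization.liftAlgHom (M := M')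
      (f := (IsScalarTower.toAlgHom A C B).comp f₀) fun x ↦ by
    simpa using IsLocalization.map_units (M := M) _ ⟨f₀ x.1, x.2⟩
  have hf₁ : Function.Surjective fP := by
    intro x
    obtain ⟨x, ⟨s, hs⟩, rfl⟩ := IsLocalization.exists_mk'_eq M x
    obtain ⟨x, rfl⟩ := hf₀ x
    obtain ⟨s, rfl⟩ := hf₀ s
    refine ⟨IsLocalization.mk' (M := M') _ x ⟨s, hs⟩, ?_⟩
    simp [fP, IsLocalization.lift_mk', Units.mul_inv_eq_iff_eq_mul, IsUnit.liftRight]
  have hfP : (RingHom.ker fP).FG := by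
    have := Algebra.FinitePresentation.ker_fG_of_surjective _ hf₀
    convert! this.map (algebraMap _ P')
    refine le_antisymm ?_ (Ideal.map_le_iff_le_comap.mpr fun x hx ↦ by simp_all [fP])
    intro x hx
    obtain ⟨x, s, rfl⟩ := IsLocalization.exists_mk'_eq M' x
    obtain ⟨a, ha, e⟩ : ∃ a ∈ M, a * f₀ x = 0 := by
      simpa [fP, IsLocalization.lift_mk', IsLocalization.map_eq_zero_iff M] using hx
    obtain ⟨a, rfl⟩ := hf₀ a
    rw [IsLocalization.mk'_mem_map_algebraMap_iff]
    exact ⟨a, ha, by simpa⟩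
  letI algPB : Algebra P' B := fP.toRingHom.toAlgebra
  have hT : IsScalarTower A P' B := .of_algebraMap_eq' fP.comp_algebraMap.symm
  have : Algebra.FormallyEtale (MvPolynomial (Fin n) A) P' := .of_isLocalization M'
  have hsm : Algebra.FormallySmooth A P' := .comp _ (MvPolynomial (Fin n) A) _
  have hfree : Module.Free P' Ω[P'⁄A] :=
    .of_equiv (KaehlerDifferential.tensorKaehlerEquivOfFormallyEtale A (MvPolynomial (Fin n) A) P')
  have hfin : Module.Finite P' Ω[P'⁄A] := inferInstance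
  refine ⟨P', inferInstance, inferInstance, inferInstance, algPB, hT, hsm, hfree, hfin, hf₁,
    hfP, ?_⟩
  intro hA
  exact IsLocalization.isNoetherianRing M' P' inferInstance

set_option maxHeartbeats 1600000 in
/-- Generic lifting criterion for a given presentation: an ideal `𝔞` with `𝔪 I ⊆ 𝔞` and
`𝔞 ∩ I ⊆ 𝔪 I`; if the canonical map `B → (P/𝔞)/(I·P/𝔞)` lifts to `P/𝔞` then `B` is formally
smooth over `A`. -/
theorem formallySmooth_of_lift_aux {A P B : Type*} [CommRing A] [CommRing P] [CommRing B]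
    [Algebra A P] [Algebra P B] [Algebra A B] [IsScalarTower A P B] [IsLocalRing B]
    [IsLocalRing P]
    [Algebra.FormallySmooth A P] [Module.Free P Ω[P⁄A]] [Module.Finite P Ω[P⁄A]]
    (h₁ : Function.Surjective (algebraMap P B)) (h₂ : (RingHom.ker (algebraMap P B)).FG)
    (𝔞 : Ideal P)
    (h𝔞₁ : maximalIdeal P * RingHom.ker (algebraMap P B) ≤ 𝔞)
    (h𝔞₂ : 𝔞 ⊓ RingHom.ker (algebraMap P B) ≤ maximalIdeal P * RingHom.ker (algebraMap P B))
    (H : ∀ u : B →ₐ[A] (P ⧸ 𝔞) ⧸ ((RingHom.ker (algebraMap P B)).map (Ideal.Quotient.mk 𝔞)),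
      (∀ p : P, u (algebraMap P B p) =
        Ideal.Quotient.mk ((RingHom.ker (algebraMap P B)).map (Ideal.Quotient.mk 𝔞))
          (Ideal.Quotient.mk 𝔞 p)) →
      ∃ v : B →ₐ[A] P ⧸ 𝔞,
        (Ideal.Quotient.mkₐ A ((RingHom.ker (algebraMap P B)).map (Ideal.Quotient.mk 𝔞))).comp v
          = u) :
    Algebra.FormallySmooth A B := by
  set I := RingHom.ker (algebraMap P B) with hI
  set 𝔪 := maximalIdeal P with h𝔪
  set J := I.map (Ideal.Quotient.mk 𝔞) with hJ
  have hIne : I ≠ ⊤ := by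
    intro h
    have : (1 : P) ∈ I := h ▸ Submodule.mem_top
    rw [hI, RingHom.mem_ker, map_one] at this
    exact one_ne_zero this
  have hI𝔪 : I ≤ 𝔪 := IsLocalRing.le_maximalIdeal hIne
  haveI : IsLocalHom (algebraMap P B) := IsLocalHom.of_surjective _ h₁
  have hloc : IsLocalHom (algebraMap P B) := inferInstance
  have hcomap : (maximalIdeal B).comap (algebraMap P B) = 𝔪 :=
    ((IsLocalRing.local_hom_TFAE (algebraMap P B)).out 0 4).mp hloc
  -- the map u
  let π : P →ₐ[A] B := IsScalarTower.toAlgHom A P B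
  have hπ : Function.Surjective π := h₁
  let e : (P ⧸ RingHom.ker π.toRingHom) ≃ₐ[A] B := Ideal.quotientKerAlgEquivOfSurjective hπ
  let t : P ⧸ RingHom.ker π.toRingHom →ₐ[A] (P ⧸ 𝔞) ⧸ J :=
    Ideal.Quotient.liftₐ _ ((Ideal.Quotient.mkₐ A J).comp (Ideal.Quotient.mkₐ A 𝔞)) (by
      intro a ha
      have ha' : a ∈ I := ha
      show Ideal.Quotient.mk J (Ideal.Quotient.mk 𝔞 a) = 0
      exact Ideal.Quotient.eq_zero_iff_mem.mpr (Ideal.mem_map_of_mem _ ha'))
  let u : B →ₐ[A] (P ⧸ 𝔞) ⧸ J := t.comp e.symm.toAlgHom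
  have hu : ∀ p : P, u (algebraMap P B p) = Ideal.Quotient.mk J (Ideal.Quotient.mk 𝔞 p) := by
    intro p
    have h3 : e (Ideal.Quotient.mk _ p) = algebraMap P B p :=
      Ideal.quotientKerAlgEquivOfSurjective_mk hπ p
    have : e.symm (algebraMap P B p) = Ideal.Quotient.mk _ p := by
      rw [AlgEquiv.symm_apply_eq, h3]
    show t (e.symm (algebraMap P B p)) = _
    rw [this]
    exact Ideal.Quotient.liftₐ_apply _ _ _ _
  obtain ⟨v, hv⟩ := H u hu
  refine formallySmooth_of_section h₁ h₂ 𝔞 ?_ ?_ v ?_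
  · calc I ^ 2 = I * I := pow_two I
      _ ≤ 𝔪 * I := Ideal.mul_mono_left hI𝔪
      _ ≤ 𝔞 := h𝔞₁
  · rw [hcomap]
    exact h𝔞₂
  · intro p
    have h1 := congrArg (fun φ => φ (algebraMap P B p)) hv
    simp only [AlgHom.comp_apply] at h1
    rw [hu p] at h1
    rw [← Ideal.Quotient.eq]
    exact h1

/-- Facts about the test ring `P/𝔞` used in the lifting criteria. -/
theorem test_ring_facts {P B : Type*} [CommRing P] [CommRing B] [Algebra P B] [IsLocalRing B]
    [IsLocalRing P] (h₁ : Function.Surjective (algebraMap P B)) (𝔞 : Ideal P)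
    (h𝔞₁ : maximalIdeal P * RingHom.ker (algebraMap P B) ≤ 𝔞) (h𝔞 : 𝔞 ≤ maximalIdeal P) :
    ∃ (_ : IsLocalRing (P ⧸ 𝔞)),
      (RingHom.ker (algebraMap P B)).map (Ideal.Quotient.mk 𝔞) * maximalIdeal (P ⧸ 𝔞) = ⊥ ∧
      (RingHom.ker (algebraMap P B)).map (Ideal.Quotient.mk 𝔞) ≠ ⊤ ∧
      (maximalIdeal P).map (Ideal.Quotient.mk 𝔞) = maximalIdeal (P ⧸ 𝔞) := by
  set I := RingHom.ker (algebraMap P B) with hI
  have hIne : I ≠ ⊤ := by
    intro h
    have : (1 : P) ∈ I := h ▸ Submodule.mem_top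
    rw [hI, RingHom.mem_ker, map_one] at this
    exact one_ne_zero this
  have hI𝔪 : I ≤ maximalIdeal P := IsLocalRing.le_maximalIdeal hIne
  have h𝔞ne : 𝔞 ≠ ⊤ := fun h => (IsLocalRing.maximalIdeal.isMaximal P).ne_top
    (top_le_iff.mp (h ▸ h𝔞))
  haveI : Nontrivial (P ⧸ 𝔞) := Ideal.Quotient.nontrivial_iff.mpr h𝔞ne
  haveI hloc : IsLocalRing (P ⧸ 𝔞) :=
    IsLocalRing.of_surjective' (Ideal.Quotient.mk 𝔞) Ideal.Quotient.mk_surjective
  have hmax : (maximalIdeal P).map (Ideal.Quotient.mk 𝔞) = maximalIdeal (P ⧸ 𝔞) :=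
    IsLocalRing.map_maximalIdeal_of_surjective _ Ideal.Quotient.mk_surjective
  refine ⟨hloc, ?_, ?_, hmax⟩
  · rw [← hmax, ← Ideal.map_mul, eq_bot_iff]
    calc (I * maximalIdeal P).map (Ideal.Quotient.mk 𝔞)
        ≤ 𝔞.map (Ideal.Quotient.mk 𝔞) := Ideal.map_mono (by rw [mul_comm]; exact h𝔞₁)
      _ = ⊥ := Ideal.map_quotient_self 𝔞
  · intro h
    have h1 : (⊤ : Ideal (P ⧸ 𝔞)) ≤ maximalIdeal (P ⧸ 𝔞) := by
      rw [← h, ← hmax]
      exact Ideal.map_mono hI𝔪
    exact (IsLocalRing.maximalIdeal.isMaximal (P ⧸ 𝔞)).ne_top (top_le_iff.mp h1)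

set_option maxHeartbeats 800000 in
/-- Lifting criterion, local square-zero form (no Noetherian hypothesis): `B` local, a
localization of a finitely presented `A`-algebra.  If every `A`-isomorphism `B ≃ C'/J`, with `C'`
local and `J` killed by the maximal ideal, lifts to `B → C'`, then `B` is formally smooth. -/
theorem formallySmooth_of_lift_local {A C B : Type u} [CommRing A] [CommRing C] [CommRing B]
    [Algebra A C] [Algebra A B] [Algebra C B] [IsScalarTower A C B]
    [Algebra.FinitePresentation A C] (M₀ : Submonoid C) [IsLocalization M₀ B] [IsLocalRing B]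
    (H : ∀ (C' : Type u) [CommRing C'] [IsLocalRing C'] [Algebra A C'] (J : Ideal C'),
      J * maximalIdeal C' = ⊥ → J ≠ ⊤ → ∀ u : B →ₐ[A] C' ⧸ J, Function.Bijective u →
        ∃ v : B →ₐ[A] C', (Ideal.Quotient.mkₐ A J).comp v = u) :
    Algebra.FormallySmooth A B := by
  obtain ⟨P, _, _, _, _, _, _, _, _, h₁, h₂, -⟩ :=
    exists_presentation (A := A) (C := C) (B := B) M₀
  set I := RingHom.ker (algebraMap P B) with hI
  have hIne : I ≠ ⊤ := by
    intro h
    have : (1 : P) ∈ I := h ▸ Submodule.mem_top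
    rw [hI, RingHom.mem_ker, map_one] at this
    exact one_ne_zero this
  have hI𝔪 : I ≤ maximalIdeal P := IsLocalRing.le_maximalIdeal hIne
  let 𝔞 : Ideal P := maximalIdeal P * I
  have h𝔞I : 𝔞 ≤ I := Ideal.mul_le_right
  obtain ⟨hloc, hJm, hJtop, -⟩ := test_ring_facts h₁ 𝔞 le_rfl (h𝔞I.trans hI𝔪)
  refine formallySmooth_of_lift_aux h₁ h₂ 𝔞 le_rfl inf_le_left ?_
  intro u hu
  refine H (P ⧸ 𝔞) (I.map (Ideal.Quotient.mk 𝔞)) hJm hJtop u ⟨?_, ?_⟩
  · rw [injective_iff_map_eq_zero]
    intro b hb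
    obtain ⟨p, rfl⟩ := h₁ b
    rw [hu p, Ideal.Quotient.eq_zero_iff_mem,
      Ideal.mem_map_iff_of_surjective _ Ideal.Quotient.mk_surjective] at hb
    obtain ⟨a, ha, hap⟩ := hb
    have h3 : a - p ∈ 𝔞 := Ideal.Quotient.eq.mp hap
    have h4 : p ∈ I := by
      have := I.sub_mem ha (h𝔞I h3)
      rwa [sub_sub_cancel] at this
    exact h4
  · intro c
    obtain ⟨c', rfl⟩ := Ideal.Quotient.mk_surjective c
    obtain ⟨p, rfl⟩ := Ideal.Quotient.mk_surjective c'
    exact ⟨algebraMap P B p, hu p⟩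

set_option maxHeartbeats 800000 in
/-- Lifting criterion, Artinian form: `A` Noetherian, `B` local, a localization of a finite type
`A`-algebra.  If every surjective `A`-algebra map `B → C'/J`, with `C'` Artinian local and
`J` a proper ideal killed by the maximal ideal, lifts to `B → C'`, then `B` is formally smooth. -/
theorem formallySmooth_of_lift_artinian {A C B : Type u} [CommRing A] [CommRing C] [CommRing B]
    [Algebra A C] [Algebra A B] [Algebra C B] [IsScalarTower A C B] [IsNoetherianRing A]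
    [Algebra.FiniteType A C] (M₀ : Submonoid C) [IsLocalization M₀ B] [IsLocalRing B]
    (H : ∀ (C' : Type u) [CommRing C'] [IsLocalRing C'] [IsArtinianRing C'] [Algebra A C']
      (J : Ideal C'),
      J * maximalIdeal C' = ⊥ → J ≠ ⊤ → ∀ u : B →ₐ[A] C' ⧸ J, Function.Surjective u →
        ∃ v : B →ₐ[A] C', (Ideal.Quotient.mkₐ A J).comp v = u) :
    Algebra.FormallySmooth A B := by
  haveI : Algebra.FinitePresentation A C := Algebra.FinitePresentation.of_finiteType.mp inferInstance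
  obtain ⟨P, _, _, _, _, _, _, _, _, h₁, h₂, hN⟩ :=
    exists_presentation (A := A) (C := C) (B := B) M₀
  haveI : IsNoetherianRing P := hN inferInstance
  set I := RingHom.ker (algebraMap P B) with hI
  set 𝔪 := maximalIdeal P with h𝔪
  have hIne : I ≠ ⊤ := by
    intro h
    have : (1 : P) ∈ I := h ▸ Submodule.mem_top
    rw [hI, RingHom.mem_ker, map_one] at this
    exact one_ne_zero this
  have hI𝔪 : I ≤ 𝔪 := IsLocalRing.le_maximalIdeal hIne
  -- Artin–Rees
  obtain ⟨k, hk⟩ := Ideal.exists_pow_inf_eq_pow_smul 𝔪 (I : Submodule P P)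
  have hAR : 𝔪 ^ (k + 1) ⊓ I ≤ 𝔪 * I := by
    have h1 := hk (k + 1) (Nat.le_succ k)
    rw [Nat.add_sub_cancel_left, pow_one] at h1
    have h2 : 𝔪 ^ (k + 1) • (⊤ : Submodule P P) = 𝔪 ^ (k + 1) := by
      rw [Ideal.smul_top_eq_map, Algebra.algebraMap_self, Ideal.map_id]; rfl
    intro x hx
    have h3 : x ∈ 𝔪 ^ (k + 1) • (⊤ : Submodule P P) ⊓ (I : Submodule P P) := by
      rw [h2]; exact hx
    rw [h1] at h3
    have h4 : 𝔪 • (𝔪 ^ k • (⊤ : Submodule P P) ⊓ (I : Submodule P P)) ≤ 𝔪 • (I : Submodule P P) :=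
      Submodule.smul_mono le_rfl inf_le_right
    exact h4 h3
  let 𝔞 : Ideal P := 𝔪 * I ⊔ 𝔪 ^ (k + 1)
  have h𝔞𝔪 : 𝔞 ≤ 𝔪 := sup_le Ideal.mul_le_left (Ideal.pow_le_self (Nat.succ_ne_zero k))
  have h𝔞₂ : 𝔞 ⊓ I ≤ 𝔪 * I := by
    intro x ⟨hx𝔞, hxI⟩
    obtain ⟨y, hy, z, hz, rfl⟩ := Submodule.mem_sup.mp hx𝔞
    have hyI : y ∈ I := Ideal.mul_le_right hy
    have hzI : z ∈ I := by
      have := I.sub_mem hxI hyI
      rwa [add_sub_cancel_left] at this
    exact (𝔪 * I).add_mem hy (hAR ⟨hz, hzI⟩)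
  obtain ⟨hloc, hJm, hJtop, hmax⟩ := test_ring_facts h₁ 𝔞 le_sup_left h𝔞𝔪
  haveI : IsArtinianRing (P ⧸ 𝔞) := by
    rw [isArtinianRing_iff_isNilpotent_maximalIdeal]
    refine ⟨k + 1, ?_⟩
    rw [← hmax, ← Ideal.map_pow, Ideal.zero_eq_bot, eq_bot_iff]
    calc (𝔪 ^ (k + 1)).map (Ideal.Quotient.mk 𝔞) ≤ 𝔞.map (Ideal.Quotient.mk 𝔞) :=
          Ideal.map_mono le_sup_right
      _ = ⊥ := Ideal.map_quotient_self 𝔞
  refine formallySmooth_of_lift_aux h₁ h₂ 𝔞 le_sup_left h𝔞₂ ?_
  intro u hu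
  refine H (P ⧸ 𝔞) (I.map (Ideal.Quotient.mk 𝔞)) hJm hJtop u ?_
  intro c
  obtain ⟨c', rfl⟩ := Ideal.Quotient.mk_surjective c
  obtain ⟨p, rfl⟩ := Ideal.Quotient.mk_surjective c'
  exact ⟨algebraMap P B p, hu p⟩

end Groth.Agent.Lib.Helper8.LiftCrit
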