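import Mathlib
import Groth.Agent.Lib.Helper8.LiftCrit

/-!
# Lifting along small extensions
-/

set_option autoImplicit false
open IsLocalRing

namespace Groth.Agent.Lib.Helper8.LiftCrit

universe u

/-- Quotients of a local ring by proper ideals are local. -/
theorem isLocalRing_quotient {C' : Type*} [CommRing C'] [IsLocalRing C'] (K : Ideal C')
    (hK : K ≠ ⊤) : IsLocalRing (C' ⧸ K) := by
  haveI : Nontrivial (C' ⧸ K) := Ideal.Quotient.nontrivial_iff.mpr hK
  exact IsLocalRing.of_surjective' (Ideal.Quotient.mk K) Ideal.Quotient.mk_surjective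

set_option maxHeartbeats 1600000 in
/-- Lifting along small extensions (principal kernel killed by the maximal ideal) implies lifting
along every extension of Artinian local rings whose kernel is killed by the maximal ideal. -/
theorem lift_of_small_extensions {R S : Type u} [CommRing R] [CommRing S] [Algebra R S]
    (q : Ideal S)
    (Hs : ∀ (B' B : Type u) [CommRing B'] [CommRing B] [IsLocalRing B'] [IsLocalRing B]
        [IsArtinianRing B'] [IsArtinianRing B] [Algebra R B'] [Algebra R B] (π : B' →ₐ[R] B),
        Function.Surjective π →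
        (∃ t : B', RingHom.ker π.toRingHom = Ideal.span {t} ∧
          ∀ a ∈ IsLocalRing.maximalIdeal B', a * t = 0) →
        ∀ g : S →ₐ[R] B, (IsLocalRing.maximalIdeal B).comap g = q →
          ∃ g' : S →ₐ[R] B', π.comp g' = g)
    (C' : Type u) [CommRing C'] [IsLocalRing C'] [IsArtinianRing C'] [Algebra R C']
    (J : Ideal C') (hJm : J * maximalIdeal C' = ⊥) (hJtop : J ≠ ⊤)
    (g : S →ₐ[R] C' ⧸ J) (hg : ∀ x : S, ¬ IsUnit (g x) ↔ x ∈ q) :
    ∃ g' : S →ₐ[R] C', (Ideal.Quotient.mkₐ R J).comp g' = g := by
  classical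
  haveI : IsNoetherianRing C' := inferInstance
  obtain ⟨s, hs⟩ : J.FG := IsNoetherian.noetherian J
  have key : ∀ s : Finset C', Ideal.span (s : Set C') ≤ J →
      ∀ g : S →ₐ[R] C' ⧸ Ideal.span (s : Set C'), (∀ x : S, ¬ IsUnit (g x) ↔ x ∈ q) →
      ∃ g' : S →ₐ[R] C', (Ideal.Quotient.mkₐ R (Ideal.span (s : Set C'))).comp g' = g := by
    intro s
    induction s using Finset.induction_on with
    | empty =>
      intro _ g _
      have hbot : Ideal.span ((∅ : Finset C') : Set C') = ⊥ := by simp
      have hbij : Function.Bijective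
          (Ideal.Quotient.mkₐ R (Ideal.span ((∅ : Finset C') : Set C'))) := by
        refine ⟨?_, Ideal.Quotient.mk_surjective⟩
        rw [injective_iff_map_eq_zero]
        intro c hc
        have : c ∈ Ideal.span ((∅ : Finset C') : Set C') := Ideal.Quotient.eq_zero_iff_mem.mp hc
        rw [hbot] at this
        exact this
      let e : C' ≃ₐ[R] C' ⧸ Ideal.span ((∅ : Finset C') : Set C') := AlgEquiv.ofBijective _ hbij
      refine ⟨e.symm.toAlgHom.comp g, ?_⟩
      ext x
      show e (e.symm (g x)) = g x
      exact e.apply_symm_apply _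
    | insert t s' ht ih =>
      intro hle g hg
      let K' : Ideal C' := Ideal.span (s' : Set C')
      let K : Ideal C' := Ideal.span ((insert t s' : Finset C') : Set C')
      have hK : K = Ideal.span ((insert t s' : Finset C') : Set C') := rfl
      change K ≤ J at hle
      change S →ₐ[R] C' ⧸ K at g
      change ∃ g' : S →ₐ[R] C', (Ideal.Quotient.mkₐ R K).comp g' = g
      have hK'K : K' ≤ K := Ideal.span_mono (by
        intro x hx
        simp only [Finset.coe_insert]
        exact Set.mem_insert_of_mem _ hx)
      have htK : t ∈ K := Ideal.subset_span (by simp)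
      have hK'top : K' ≠ ⊤ := fun h => hJtop (top_le_iff.mp (h ▸ hK'K.trans hle))
      have hKtop : K ≠ ⊤ := fun h => hJtop (top_le_iff.mp (h ▸ hle))
      haveI : IsLocalRing (C' ⧸ K') := isLocalRing_quotient K' hK'top
      haveI : IsLocalRing (C' ⧸ K) := isLocalRing_quotient K hKtop
      let π : C' ⧸ K' →ₐ[R] C' ⧸ K := Ideal.Quotient.factorₐ R hK'K
      have hπ : Function.Surjective π := Ideal.Quotient.factor_surjective hK'K
      have hker : RingHom.ker π.toRingHom = Ideal.span {Ideal.Quotient.mk K' t} := by
        apply le_antisymm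
        · intro x hx
          obtain ⟨c, rfl⟩ := Ideal.Quotient.mk_surjective x
          have hc : c ∈ K := Ideal.Quotient.eq_zero_iff_mem.mp hx
          rw [hK, Finset.coe_insert, Ideal.mem_span_insert] at hc
          obtain ⟨a, k', hk', rfl⟩ := hc
          rw [map_add, map_mul, Ideal.Quotient.eq_zero_iff_mem.mpr hk', add_zero]
          exact Ideal.mul_mem_left _ _ (Ideal.subset_span rfl)
        · rw [Ideal.span_le, Set.singleton_subset_iff]
          exact Ideal.Quotient.eq_zero_iff_mem.mpr htK
      have hkill : ∀ a ∈ maximalIdeal (C' ⧸ K'), a * Ideal.Quotient.mk K' t = 0 := by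
        intro a ha
        obtain ⟨a', rfl⟩ := Ideal.Quotient.mk_surjective a
        have ha' : a' ∈ maximalIdeal C' := by
          rw [mem_maximalIdeal, mem_nonunits_iff]
          intro hu
          exact ((mem_maximalIdeal _).mp ha) (hu.map _)
        have h0 : t * a' ∈ J * maximalIdeal C' := Ideal.mul_mem_mul (hle htK) ha'
        rw [hJm, Ideal.mem_bot] at h0
        rw [← map_mul, mul_comm, h0, map_zero]
      have hgq : (maximalIdeal (C' ⧸ K)).comap g = q := by
        ext x
        rw [Ideal.mem_comap, mem_maximalIdeal, mem_nonunits_iff]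
        exact hg x
      obtain ⟨g'', hg''⟩ := Hs (C' ⧸ K') (C' ⧸ K) π hπ ⟨_, hker, hkill⟩ g hgq
      haveI : IsLocalHom π.toRingHom := IsLocalHom.of_surjective _ hπ
      have hg''q : ∀ x : S, ¬ IsUnit (g'' x) ↔ x ∈ q := by
        intro x
        rw [← hg x, ← hg'']
        exact not_congr (isUnit_map_iff π.toRingHom (g'' x)).symm
      obtain ⟨g', hg'⟩ := ih (hK'K.trans hle) g'' hg''q
      refine ⟨g', ?_⟩
      rw [← hg'', ← hg', ← AlgHom.comp_assoc]
      rfl
  subst hs
  exact key s le_rfl g hg

end Groth.Agent.Lib.Helper8.LiftCrit
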