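import Mathlib
import Groth.Agent.Lib.Helper8.LiftCrit2

/-!
# Artinian lifting criterion for local homomorphisms essentially of finite type
-/

set_option autoImplicit false
open IsLocalRing

namespace Groth.Agent.Lib.Helper8.LiftCrit

universe u

set_option maxHeartbeats 1600000 in
/-- Artinian lifting criterion (EGA IV 17.14.2) for a local homomorphism `φ : A → B` of local
rings, essentially of finite type, with `A` Noetherian. -/
theorem formallySmooth_iff_artinian_lifting {A B : Type u} [CommRing A] [CommRing B]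
    [IsLocalRing A] [IsLocalRing B] [IsNoetherianRing A] (φ : A →+* B) [IsLocalHom φ]
    (hφ : φ.EssFiniteType) :
    φ.FormallySmooth ↔
      ∀ (A' : Type u) [CommRing A'] [IsLocalRing A'] [IsArtinianRing A']
        (h : A →+* A') [IsLocalHom h]
        (I : Ideal A') (_ : I ≠ ⊤) (_ : I * IsLocalRing.maximalIdeal A' = ⊥)
        (g₀ : B →+* A' ⧸ I),
        g₀.comp φ = (Ideal.Quotient.mk I).comp h →
        (∀ b ∈ IsLocalRing.maximalIdeal B,
          g₀ b ∈ (IsLocalRing.maximalIdeal A').map (Ideal.Quotient.mk I)) →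
        (∀ a' : A', ∃ b : B,
          g₀ b - Ideal.Quotient.mk I a' ∈ (IsLocalRing.maximalIdeal A').map (Ideal.Quotient.mk I)) →
        ∃ g : B →+* A', g.comp φ = h ∧ (Ideal.Quotient.mk I).comp g = g₀ := by
  letI algAB : Algebra A B := φ.toAlgebra
  have hφalg : algebraMap A B = φ := RingHom.algebraMap_toAlgebra φ
  constructor
  · intro hsm A' _ _ _ h _ I hItop hIm g₀ hcompat _ _
    haveI : Algebra.FormallySmooth A B := hsm
    letI algAA' : Algebra A A' := h.toAlgebra
    have hIle : I ≤ maximalIdeal A' := IsLocalRing.le_maximalIdeal hItop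
    have hInil : IsNilpotent I := by
      refine ⟨2, ?_⟩
      rw [Ideal.zero_eq_bot, eq_bot_iff, pow_two, ← hIm]
      exact Ideal.mul_mono_right hIle
    have hc : ∀ a : A, g₀ (algebraMap A B a) = algebraMap A (A' ⧸ I) a := fun a =>
      congrArg (fun ψ => ψ a) hcompat
    let g₀' : B →ₐ[A] A' ⧸ I := { g₀ with commutes' := hc }
    obtain ⟨g, hg⟩ := Algebra.FormallySmooth.exists_lift I hInil g₀'
    refine ⟨g.toRingHom, ?_, ?_⟩
    · ext a
      exact g.commutes a
    · ext b
      exact congrArg (fun ψ => ψ b) hg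
  · intro Hyp
    haveI hess : Algebra.EssFiniteType A B := hφ
    show Algebra.FormallySmooth A B
    refine formallySmooth_of_lift_artinian (A := A)
      (C := Algebra.EssFiniteType.subalgebra A B) (B := B)
      (Algebra.EssFiniteType.submonoid A B) ?_
    intro C' _ _ _ _ J hJm hJtop u hu
    haveI : IsLocalRing (C' ⧸ J) := isLocalRing_quotient J hJtop
    haveI hloc_u : IsLocalHom u.toRingHom := IsLocalHom.of_surjective _ hu
    haveI hloc_mk : IsLocalHom (Ideal.Quotient.mk J) :=
      IsLocalHom.of_surjective _ Ideal.Quotient.mk_surjective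
    haveI hlocA : IsLocalHom (algebraMap A C') := by
      constructor
      intro a ha
      have h1 : IsUnit (Ideal.Quotient.mk J (algebraMap A C' a)) := ha.map _
      have h2 : Ideal.Quotient.mk J (algebraMap A C' a) = u (algebraMap A B a) := by
        rw [AlgHom.commutes]; rfl
      rw [h2] at h1
      have h3 : IsUnit (algebraMap A B a) := (isUnit_map_iff u.toRingHom _).mp h1
      rw [hφalg] at h3
      exact (isUnit_map_iff φ a).mp h3
    have hmax : (maximalIdeal C').map (Ideal.Quotient.mk J) = maximalIdeal (C' ⧸ J) :=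
      IsLocalRing.map_maximalIdeal_of_surjective _ Ideal.Quotient.mk_surjective
    obtain ⟨g, hg1, hg2⟩ := Hyp C' (algebraMap A C') J hJtop hJm u.toRingHom
      (by
        ext a
        show u (φ a) = Ideal.Quotient.mk J (algebraMap A C' a)
        rw [← hφalg, AlgHom.commutes]; rfl)
      (by
        intro b hb
        rw [hmax]
        exact map_nonunit u.toRingHom b hb)
      (by
        intro a'
        obtain ⟨b, hb⟩ := hu (Ideal.Quotient.mk J a')
        refine ⟨b, ?_⟩
        show u b - _ ∈ _
        rw [hb, sub_self]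
        exact Ideal.zero_mem _)
    have hc : ∀ a : A, g (algebraMap A B a) = algebraMap A C' a := fun a => by
      have := congrArg (fun ψ => ψ a) hg1
      rw [← hφalg] at this
      exact this
    let v : B →ₐ[A] C' := { g with commutes' := hc }
    refine ⟨v, ?_⟩
    ext b
    exact congrArg (fun ψ => ψ b) hg2

open AlgebraicGeometry CategoryTheory in
/-- A morphism locally of finite presentation is smooth on an open neighbourhood of `x` iff `x`
lies in its smooth locus. -/
theorem exists_smooth_nhd_iff {X Y : Scheme.{u}} (f : X ⟶ Y) [LocallyOfFinitePresentation f]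
    (x : X) : (∃ U : X.Opens, x ∈ U ∧ Smooth (U.ι ≫ f)) ↔ x ∈ f.smoothLocus := by
  constructor
  · rintro ⟨U, hxU, hU⟩
    have h1 : (U.ι ≫ f).smoothLocus = ⊤ := Scheme.Hom.smoothLocus_eq_top _
    rw [← Scheme.Hom.preimage_smoothLocus_eq] at h1
    let x' : (U : Scheme) := ⟨x, hxU⟩
    have h2 : x' ∈ U.ι ⁻¹ᵁ f.smoothLocus := by rw [h1]; trivial
    exact h2
  · intro hx
    refine ⟨f.smoothLocus, hx, ?_⟩
    rw [← Scheme.Hom.smoothLocus_eq_top_iff, ← Scheme.Hom.preimage_smoothLocus_eq]
    rw [eq_top_iff]
    intro y _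
    exact y.2

end Groth.Agent.Lib.Helper8.LiftCrit
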