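import Mathlib
import Groth.Agent.Lib.Helper8.LiftCrit4

/-!
# Infinitesimal lifting criterion for smoothness at a point, scheme form (local test rings)
-/

set_option autoImplicit false
open IsLocalRing AlgebraicGeometry CategoryTheory

namespace Groth.Agent.Lib.Helper8.LiftCritSch

universe u

/-- A morphism from the spectrum of a local ring sending the closed point to `x` factors through
`Spec 𝒪_{X,x}`. -/
theorem exists_stalk_hom_of_spec {X : Scheme.{u}} {R : CommRingCat.{u}} [IsLocalRing R]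
    (γ : Spec R ⟶ X) (x : X) (hx : γ (closedPoint R) = x) :
    ∃ v : X.presheaf.stalk x ⟶ R, IsLocalHom v.hom ∧ Spec.map v ≫ X.fromSpecStalk x = γ := by
  subst hx
  exact ⟨Scheme.stalkClosedPointTo γ, inferInstance, Scheme.Spec_stalkClosedPointTo_fromSpecStalk γ⟩

theorem spec_map_closedPoint {B B' : Type u} [CommRing B] [CommRing B'] [IsLocalRing B]
    [IsLocalRing B'] (φ : B' →+* B) [IsLocalHom φ] :
    (Spec.map (CommRingCat.ofHom φ)) (closedPoint B) = closedPoint B' := by
  exact IsLocalRing.comap_closedPoint φ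

set_option maxHeartbeats 1600000 in
/-- Infinitesimal lifting property for local test rings at a smooth point. -/
theorem lifting_of_mem_smoothLocus {X Y : Scheme.{u}} (f : X ⟶ Y)
    (x : X) (hx : (f.stalkMap x).hom.FormallySmooth)
    (B B' : Type u) [CommRing B] [CommRing B'] [IsLocalRing B] [IsLocalRing B'] (φ : B' →+* B)
    (hφ : Function.Surjective φ) (hker : RingHom.ker φ ^ 2 = ⊥)
    (α : Spec (CommRingCat.of B) ⟶ X) (β : Spec (CommRingCat.of B') ⟶ Y)
    (hα : α (IsLocalRing.closedPoint B) = x)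
    (hsq : Spec.map (CommRingCat.ofHom φ) ≫ β = α ≫ f) :
    ∃ γ : Spec (CommRingCat.of B') ⟶ X, Spec.map (CommRingCat.ofHom φ) ≫ γ = α ∧ γ ≫ f = β := by
  haveI : IsLocalHom φ := IsLocalHom.of_surjective φ hφ
  have hβ : β (closedPoint B') = f x := by
    have h1 := spec_map_closedPoint φ
    have h2 := congrArg (fun ψ => ψ (closedPoint B)) hsq
    calc β (closedPoint B') = β ((Spec.map (CommRingCat.ofHom φ)) (closedPoint B)) :=
          congrArg β h1.symm
      _ = (Spec.map (CommRingCat.ofHom φ) ≫ β) (closedPoint B) := rfl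
      _ = (α ≫ f) (closedPoint B) := h2
      _ = f (α (closedPoint B)) := rfl
      _ = f x := congrArg f hα
  obtain ⟨a, ha_loc, ha⟩ := exists_stalk_hom_of_spec (R := CommRingCat.of B) α x hα
  obtain ⟨b, hb_loc, hb⟩ := exists_stalk_hom_of_spec (R := CommRingCat.of B') β (f x) hβ
  have hcompat : f.stalkMap x ≫ a = b ≫ CommRingCat.ofHom φ := by
    apply Spec.map_injective
    rw [← cancel_mono (Y.fromSpecStalk (f x))]
    rw [Spec.map_comp, Category.assoc, Scheme.SpecMap_stalkMap_fromSpecStalk, ← Category.assoc, ha,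
      Spec.map_comp, Category.assoc, hb, hsq]
  let algYX : Algebra (Y.presheaf.stalk (f x)) (X.presheaf.stalk x) := (f.stalkMap x).hom.toAlgebra
  have : Algebra.FormallySmooth (Y.presheaf.stalk (f x)) (X.presheaf.stalk x) := hx
  let algB' : Algebra (Y.presheaf.stalk (f x)) B' := b.hom.toAlgebra
  let algB : Algebra (Y.presheaf.stalk (f x)) B := (φ.comp b.hom).toAlgebra
  let φ' : B' →ₐ[Y.presheaf.stalk (f x)] B := { φ with commutes' := fun r => rfl }
  have hcomm : ∀ r : Y.presheaf.stalk (f x), a.hom (algebraMap _ _ r) = algebraMap _ B r := fun r =>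
    congrArg (fun ψ => ψ.hom r) hcompat
  let a' : X.presheaf.stalk x →ₐ[Y.presheaf.stalk (f x)] B :=
    { a.hom with commutes' := hcomm }
  have hnil : IsNilpotent (RingHom.ker (φ' : B' →+* B)) := ⟨2, hker⟩
  let g := Algebra.FormallySmooth.liftOfSurjective a' φ' hφ hnil
  have hg : φ'.comp g = a' := Algebra.FormallySmooth.comp_liftOfSurjective a' φ' hφ hnil
  refine ⟨Spec.map (CommRingCat.ofHom g.toRingHom) ≫ X.fromSpecStalk x, ?_, ?_⟩
  · rw [← Category.assoc, ← Spec.map_comp, ← ha]
    congr 2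
    ext t
    exact congrArg (fun ψ => ψ t) hg
  · rw [Category.assoc, ← Scheme.SpecMap_stalkMap_fromSpecStalk, ← Category.assoc, ← Spec.map_comp,
      ← hb]
    congr 2
    ext t
    exact g.commutes t

set_option maxHeartbeats 1600000 in
/-- Infinitesimal lifting property for local test rings implies smoothness at the point. -/
theorem formallySmooth_stalkMap_of_lifting {X Y : Scheme.{u}} (f : X ⟶ Y)
    [LocallyOfFinitePresentation f] (x : X)
    (H : ∀ (B B' : Type u) [CommRing B] [CommRing B'] [IsLocalRing B] [IsLocalRing B']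
      (φ : B' →+* B), Function.Surjective φ → RingHom.ker φ ^ 2 = ⊥ →
      ∀ (α : Spec (CommRingCat.of B) ⟶ X) (β : Spec (CommRingCat.of B') ⟶ Y),
        α (IsLocalRing.closedPoint B) = x → Spec.map (CommRingCat.ofHom φ) ≫ β = α ≫ f →
        ∃ γ : Spec (CommRingCat.of B') ⟶ X,
          Spec.map (CommRingCat.ofHom φ) ≫ γ = α ∧ γ ≫ f = β) :
    (f.stalkMap x).hom.FormallySmooth := by
  obtain ⟨_, ⟨U, hU, rfl⟩, hxU, -⟩ :=
    Y.isBasis_affineOpens.exists_subset_of_mem_open (Set.mem_univ (f x)) isOpen_univ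
  obtain ⟨_, ⟨V, hV, rfl⟩, hxV, hVU⟩ :=
    X.isBasis_affineOpens.exists_subset_of_mem_open hxU (U.2.preimage f.continuous)
  replace hVU : V ≤ f ⁻¹ᵁ U := hVU
  have hU : IsAffineOpen U := hU
  have hV : IsAffineOpen V := hV
  have hxV : x ∈ V := hxV
  have hxU : f x ∈ U := hxU
  let algAC : Algebra Γ(Y, U) Γ(X, V) := (f.appLE U V hVU).hom.toAlgebra
  let algCB : Algebra Γ(X, V) (X.presheaf.stalk x) := (X.presheaf.germ V x hxV).hom.toAlgebra
  let algAAy : Algebra Γ(Y, U) (Y.presheaf.stalk (f x)) :=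
    (Y.presheaf.germ U (f x) hxU).hom.toAlgebra
  let algAyB : Algebra (Y.presheaf.stalk (f x)) (X.presheaf.stalk x) :=
    (f.stalkMap x).hom.toAlgebra
  let algAB : Algebra Γ(Y, U) (X.presheaf.stalk x) :=
    ((f.stalkMap x).hom.comp (Y.presheaf.germ U (f x) hxU).hom).toAlgebra
  have : IsScalarTower Γ(Y, U) (Y.presheaf.stalk (f x)) (X.presheaf.stalk x) :=
    IsScalarTower.of_algebraMap_eq' rfl
  have hcomm : Y.presheaf.germ U (f x) hxU ≫ f.stalkMap x =
      f.appLE U V hVU ≫ X.presheaf.germ V x hxV := by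
    rw [Scheme.Hom.germ_stalkMap, Scheme.Hom.appLE, Category.assoc, TopCat.Presheaf.germ_res]
  have : IsScalarTower Γ(Y, U) Γ(X, V) (X.presheaf.stalk x) :=
    IsScalarTower.of_algebraMap_eq' (congrArg CommRingCat.Hom.hom hcomm)
  have : Algebra.FinitePresentation Γ(Y, U) Γ(X, V) := f.finitePresentation_appLE hU hV hVU
  have : IsLocalization.AtPrime (X.presheaf.stalk x) (hV.primeIdealOf ⟨x, hxV⟩).asIdeal :=
    hV.isLocalization_stalk ⟨x, hxV⟩
  have : IsLocalization.AtPrime (Y.presheaf.stalk (f x)) (hU.primeIdealOf ⟨f x, hxU⟩).asIdeal :=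
    hU.isLocalization_stalk ⟨f x, hxU⟩
  have hsmA : Algebra.FormallySmooth Γ(Y, U) (X.presheaf.stalk x) := by
    refine LiftCrit.formallySmooth_of_lift_local (A := Γ(Y, U)) (C := Γ(X, V))
      (B := X.presheaf.stalk x) (hV.primeIdealOf ⟨x, hxV⟩).asIdeal.primeCompl ?_
    intro C' _ _ _ J hJm hJtop u hu
    haveI : IsLocalRing (C' ⧸ J) := LiftCrit.isLocalRing_quotient J hJtop
    have hJle : J ≤ maximalIdeal C' := IsLocalRing.le_maximalIdeal hJtop
    have hker : RingHom.ker (Ideal.Quotient.mk J) ^ 2 = ⊥ := by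
      rw [Ideal.mk_ker, eq_bot_iff, pow_two, ← hJm]
      exact Ideal.mul_mono_right hJle
    haveI hloc_u : IsLocalHom u.toRingHom := IsLocalHom.of_surjective _ hu.2
    haveI hloc_mk : IsLocalHom (Ideal.Quotient.mk J) :=
      IsLocalHom.of_surjective _ Ideal.Quotient.mk_surjective
    let uC : X.presheaf.stalk x ⟶ CommRingCat.of (C' ⧸ J) := CommRingCat.ofHom u.toRingHom
    let α : Spec (CommRingCat.of (C' ⧸ J)) ⟶ X := Spec.map uC ≫ X.fromSpecStalk x
    let β : Spec (CommRingCat.of C') ⟶ Y :=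
      Spec.map (CommRingCat.ofHom (algebraMap Γ(Y, U) C')) ≫ hU.fromSpec
    have hα : α (closedPoint (C' ⧸ J)) = x := by
      have h1 : (Spec.map uC) (closedPoint (C' ⧸ J)) = closedPoint (X.presheaf.stalk x) :=
        IsLocalRing.comap_closedPoint u.toRingHom
      calc α (closedPoint (C' ⧸ J))
          = (X.fromSpecStalk x) ((Spec.map uC) (closedPoint (C' ⧸ J))) := rfl
        _ = (X.fromSpecStalk x) (closedPoint (X.presheaf.stalk x)) := congrArg _ h1
        _ = x := Scheme.fromSpecStalk_closedPoint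
    have hfs : Y.fromSpecStalk (f x) = Spec.map (Y.presheaf.germ U (f x) hxU) ≫ hU.fromSpec := by
      rw [← hU.fromSpecStalk_eq_fromSpecStalk hxU]; rfl
    have hsq : Spec.map (CommRingCat.ofHom (Ideal.Quotient.mk J)) ≫ β = α ≫ f := by
      simp only [α, β]
      rw [Category.assoc, ← Scheme.SpecMap_stalkMap_fromSpecStalk, hfs, ← Category.assoc,
        ← Spec.map_comp, ← Category.assoc (Spec.map uC), ← Spec.map_comp, ← Category.assoc,
        ← Spec.map_comp]
      congr 2
      ext a
      exact (u.commutes a).symm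
    obtain ⟨γ, hγ1, hγ2⟩ := H (C' ⧸ J) C' (Ideal.Quotient.mk J) Ideal.Quotient.mk_surjective hker
      α β hα hsq
    have hγx : γ (closedPoint C') = x := by
      have h1 := spec_map_closedPoint (Ideal.Quotient.mk J)
      calc γ (closedPoint C')
          = γ ((Spec.map (CommRingCat.ofHom (Ideal.Quotient.mk J))) (closedPoint (C' ⧸ J))) :=
            congrArg γ h1.symm
        _ = (Spec.map (CommRingCat.ofHom (Ideal.Quotient.mk J)) ≫ γ) (closedPoint (C' ⧸ J)) := rfl
        _ = α (closedPoint (C' ⧸ J)) := by rw [hγ1]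
        _ = x := hα
    obtain ⟨v, hv_loc, hv⟩ := exists_stalk_hom_of_spec (R := CommRingCat.of C') γ x hγx
    have hvA : ∀ a : Γ(Y, U),
        v.hom (algebraMap Γ(Y, U) (X.presheaf.stalk x) a) = algebraMap Γ(Y, U) C' a := by
      have : Y.presheaf.germ U (f x) hxU ≫ f.stalkMap x ≫ v =
          CommRingCat.ofHom (algebraMap Γ(Y, U) C') := by
        apply Spec.map_injective
        rw [← cancel_mono hU.fromSpec]
        rw [Spec.map_comp, Spec.map_comp, Category.assoc, Category.assoc, ← hfs,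
          Scheme.SpecMap_stalkMap_fromSpecStalk, ← Category.assoc, hv, hγ2]
      intro a
      exact congrArg (fun ψ => ψ.hom a) this
    let v' : X.presheaf.stalk x →ₐ[Γ(Y, U)] C' := { v.hom with commutes' := hvA }
    refine ⟨v', ?_⟩
    have : v ≫ CommRingCat.ofHom (Ideal.Quotient.mk J) = uC := by
      apply Spec.map_injective
      rw [← cancel_mono (X.fromSpecStalk x)]
      rw [Spec.map_comp, Category.assoc, hv, hγ1]
    ext b
    exact congrArg (fun ψ => ψ.hom b) this
  exact Algebra.FormallySmooth.localization_base (R := Γ(Y, U)) (Rₘ := Y.presheaf.stalk (f x))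
    (Sₘ := X.presheaf.stalk x) (hU.primeIdealOf ⟨f x, hxU⟩).asIdeal.primeCompl

end Groth.Agent.Lib.Helper8.LiftCritSch
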