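import Mathlib
import Groth.Agent.Lib.Helper8.EtaleSlice
import Groth.Agent.Lib.Helper8.SmoothSliceSch

set_option autoImplicit false
open CategoryTheory CategoryTheory.Limits AlgebraicGeometry Opposite TensorProduct
universe u

/-! Étale slice through a point closed in its fibre with separable residue field (scheme glue). -/

namespace Groth.Agent.Lib.Helper8.EtaleSliceSch

theorem exists_etale_slice_through_point {X S : Scheme.{u}} (f : X ⟶ S) [Smooth f] (x : X)
    (hsep : @Algebra.IsSeparable (S.residueField (f x)) (X.residueField x) _ _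
      (f.residueFieldMap x).hom.toAlgebra) :
    ∃ (Z : Scheme.{u}) (i : Z ⟶ X) (z : Z), IsImmersion i ∧ Etale (i ≫ f) ∧ i z = x ∧
      ∀ z' : ↑Z, f (i z') = f x → z' = z := by
  obtain ⟨V, U₀, hV, hU₀, hUV, hxU₀, -, hfxV, hsm⟩ :=
    Groth.Agent.Lib.Helper8.SmoothSliceSch.exists_affine_smooth_appLE f x ⊤ trivial
      inferInstance ⊤ trivial
  letI algRA : Algebra Γ(S, V) Γ(X, U₀) := (f.appLE V U₀ hUV).hom.toAlgebra
  haveI : Algebra.Smooth Γ(S, V) Γ(X, U₀) := hsm
  letI algAT : Algebra Γ(X, U₀) (X.presheaf.stalk x) :=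
    X.presheaf.algebra_section_stalk ⟨x, hxU₀⟩
  letI algRR' : Algebra Γ(S, V) (S.presheaf.stalk (f x)) :=
    S.presheaf.algebra_section_stalk ⟨f x, hfxV⟩
  letI algR'T : Algebra (S.presheaf.stalk (f x)) (X.presheaf.stalk x) :=
    (f.stalkMap x).hom.toAlgebra
  letI algRT : Algebra Γ(S, V) (X.presheaf.stalk x) :=
    ((algebraMap Γ(X, U₀) (X.presheaf.stalk x)).comp (algebraMap Γ(S, V) Γ(X, U₀))).toAlgebra
  haveI : IsScalarTower Γ(S, V) Γ(X, U₀) (X.presheaf.stalk x) :=
    IsScalarTower.of_algebraMap_eq (fun _ => rfl)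
  haveI : IsScalarTower Γ(S, V) (S.presheaf.stalk (f x)) (X.presheaf.stalk x) := by
    refine IsScalarTower.of_algebraMap_eq (fun r => ?_)
    show X.presheaf.germ U₀ x hxU₀ (f.appLE V U₀ hUV r) =
      f.stalkMap x (S.presheaf.germ V (f x) hfxV r)
    rw [Scheme.Hom.germ_stalkMap_apply]
    show X.presheaf.germ U₀ x hxU₀ ((X.presheaf.map (homOfLE hUV).op) (f.app V r)) = _
    rw [TopCat.Presheaf.germ_res_apply]
  set q : Ideal Γ(X, U₀) := (hU₀.primeIdealOf ⟨x, hxU₀⟩).asIdeal with hq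
  haveI : IsLocalization.AtPrime (X.presheaf.stalk x) q := hU₀.isLocalization_stalk ⟨x, hxU₀⟩
  haveI : IsLocalization.AtPrime (S.presheaf.stalk (f x)) (hV.primeIdealOf ⟨f x, hfxV⟩).asIdeal :=
    hV.isLocalization_stalk ⟨f x, hfxV⟩
  haveI : Algebra.FormallySmooth Γ(X, U₀) (Localization.AtPrime q) :=
    Algebra.FormallySmooth.of_isLocalization q.primeCompl
  haveI : Algebra.IsSmoothAt Γ(S, V) q :=
    Algebra.FormallySmooth.comp Γ(S, V) Γ(X, U₀) (Localization.AtPrime q)
  haveI : IsLocalHom (algebraMap (S.presheaf.stalk (f x)) (X.presheaf.stalk x)) :=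
    inferInstanceAs (IsLocalHom (f.stalkMap x).hom)
  letI algkκ : Algebra (IsLocalRing.ResidueField (S.presheaf.stalk (f x)))
      (IsLocalRing.ResidueField (X.presheaf.stalk x)) := (f.residueFieldMap x).hom.toAlgebra
  haveI : Algebra.IsSeparable (IsLocalRing.ResidueField (S.presheaf.stalk (f x)))
      (IsLocalRing.ResidueField (X.presheaf.stalk x)) := hsep
  haveI : Algebra.FormallyUnramified (IsLocalRing.ResidueField (S.presheaf.stalk (f x)))
      (IsLocalRing.ResidueField (X.presheaf.stalk x)) :=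
    Algebra.FormallyUnramified.of_isSeparable _ _
  haveI : Algebra.FormallyUnramified Γ(S, V) (S.presheaf.stalk (f x)) :=
    Algebra.FormallyUnramified.of_isLocalization
      (hV.primeIdealOf ⟨f x, hfxV⟩).asIdeal.primeCompl
  haveI : Algebra.FormallyUnramified Γ(S, V)
      (IsLocalRing.ResidueField (S.presheaf.stalk (f x))) :=
    Algebra.FormallyUnramified.of_surjective
      (IsScalarTower.toAlgHom Γ(S, V) (S.presheaf.stalk (f x))
        (IsLocalRing.ResidueField (S.presheaf.stalk (f x)))) IsLocalRing.residue_surjective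
  haveI : IsScalarTower Γ(S, V) (IsLocalRing.ResidueField (S.presheaf.stalk (f x)))
      (IsLocalRing.ResidueField (X.presheaf.stalk x)) := by
    refine IsScalarTower.of_algebraMap_eq (fun r => ?_)
    show IsLocalRing.residue (X.presheaf.stalk x) (algebraMap Γ(S, V) (X.presheaf.stalk x) r) =
      IsLocalRing.residue (X.presheaf.stalk x)
        (algebraMap (S.presheaf.stalk (f x)) (X.presheaf.stalk x)
          (algebraMap Γ(S, V) (S.presheaf.stalk (f x)) r))
    rw [← IsScalarTower.algebraMap_apply Γ(S, V) (S.presheaf.stalk (f x)) (X.presheaf.stalk x)]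
  haveI : Algebra.FormallyUnramified Γ(S, V) (IsLocalRing.ResidueField (X.presheaf.stalk x)) :=
    Algebra.FormallyUnramified.comp Γ(S, V) (IsLocalRing.ResidueField (S.presheaf.stalk (f x)))
      (IsLocalRing.ResidueField (X.presheaf.stalk x))
  haveI : Algebra.FormallyUnramified Γ(S, V) q.ResidueField :=
    Groth.Agent.Lib.Helper8.EtaleSlice.formallyUnramified_residueField_of_isLocalization q
      (X.presheaf.stalk x)
  obtain ⟨C, _, φ, hφet, hφimm, Q₁, hQ₁p, hQ₁q, huniq⟩ :=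
    Groth.Agent.Lib.Helper8.EtaleSlice.exists_etale_slice (R := Γ(S, V)) (A := Γ(X, U₀)) q
  have e1 : hU₀.fromSpec ≫ f = Spec.map (f.appLE V U₀ hUV) ≫ hV.fromSpec :=
    (hV.SpecMap_appLE_fromSpec f hU₀ hUV).symm
  refine ⟨Spec (CommRingCat.of C), Spec.map (CommRingCat.ofHom φ) ≫ hU₀.fromSpec,
    ⟨Q₁, hQ₁p⟩, ?_, ?_, ?_, ?_⟩
  · haveI := hφimm
    infer_instance
  · rw [Category.assoc, e1, ← Category.assoc, ← Spec.map_comp]
    haveI : Etale (Spec.map (f.appLE V U₀ hUV ≫ CommRingCat.ofHom φ)) := by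
      rw [HasRingHomProperty.Spec_iff (P := @Etale)]
      exact hφet
    infer_instance
  · have h1 : (Spec.map (CommRingCat.ofHom φ)) ⟨Q₁, hQ₁p⟩ = hU₀.primeIdealOf ⟨x, hxU₀⟩ :=
      PrimeSpectrum.ext hQ₁q
    rw [Scheme.Hom.comp_apply, h1]
    exact hU₀.fromSpec_primeIdealOf ⟨x, hxU₀⟩
  · intro z' hz'
    have h1 : f ((Spec.map (CommRingCat.ofHom φ) ≫ hU₀.fromSpec) z') =
        hV.fromSpec (Spec.map (f.appLE V U₀ hUV) (Spec.map (CommRingCat.ofHom φ) z')) := by
      rw [← Scheme.Hom.comp_apply, Category.assoc, e1, Scheme.Hom.comp_apply,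
        Scheme.Hom.comp_apply]
    have h2 : f x = hV.fromSpec (hV.primeIdealOf ⟨f x, hfxV⟩) :=
      (hV.fromSpec_primeIdealOf ⟨f x, hfxV⟩).symm
    rw [h1, h2] at hz'
    have h3 := hV.fromSpec.isOpenEmbedding.injective hz'
    have h6 := IsAffineOpen.comap_primeIdealOf_appLE V hV U₀ hU₀ hUV hxU₀
    have h4 : z'.asIdeal.comap (φ.comp (algebraMap Γ(S, V) Γ(X, U₀))) =
        q.comap (algebraMap Γ(S, V) Γ(X, U₀)) :=
      (congrArg PrimeSpectrum.asIdeal h3).trans (congrArg PrimeSpectrum.asIdeal h6).symm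
    exact PrimeSpectrum.ext (huniq z'.asIdeal z'.isPrime h4)

end Groth.Agent.Lib.Helper8.EtaleSliceSch
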