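import Mathlib
import Groth.Agent.Lib.Helper8.UnramDescentSch
import Groth.Agent.Lib.Helper8.EtaleAffineNhd

/-!
# Unramified neighbourhoods of a point: pointwise descent along base change
-/

set_option autoImplicit false
open CategoryTheory CategoryTheory.Limits AlgebraicGeometry Opposite TensorProduct
universe u

namespace Groth.Agent.Lib.Helper8.UnramNhd

/-- appLE to a basic open of an affine open is formally unramified if the localization is. -/
theorem formallyUnramified_appLE_basicOpen {Y S : Scheme.{u}} (h : Y ⟶ S) (U : S.Opens)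
    (W : Y.Opens) (hW : IsAffineOpen W) (hWU : W ≤ h ⁻¹ᵁ U) (f : Γ(Y, W))
    (het : letI := (h.appLE U W hWU).hom.toAlgebra;
      Algebra.FormallyUnramified Γ(S, U) (Localization.Away f))
    (W2 : Y.Opens) (hW2 : W2 = Y.basicOpen f) (e : W2 ≤ h ⁻¹ᵁ U) :
    (h.appLE U W2 e).hom.FormallyUnramified := by
  subst hW2
  have h1 : h.appLE U (Y.basicOpen f) e =
      h.appLE U W hWU ≫ Y.presheaf.map (homOfLE (Y.basicOpen_le f)).op := by
    rw [Scheme.Hom.appLE_map]
  rw [h1]
  letI := (h.appLE U W hWU).hom.toAlgebra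
  haveI := hW.isLocalization_basicOpen f
  letI : Algebra Γ(S, U) Γ(Y, Y.basicOpen f) :=
    ((h.appLE U W hWU ≫ Y.presheaf.map (homOfLE (Y.basicOpen_le f)).op).hom).toAlgebra
  haveI : IsScalarTower Γ(S, U) Γ(Y, W) Γ(Y, Y.basicOpen f) :=
    IsScalarTower.of_algebraMap_eq (fun a => rfl)
  let e1 : Localization.Away f ≃ₐ[Γ(Y, W)] Γ(Y, Y.basicOpen f) :=
    IsLocalization.algEquiv (Submonoid.powers f) _ _
  have : Algebra.FormallyUnramified Γ(S, U) Γ(Y, Y.basicOpen f) :=
    Algebra.FormallyUnramified.of_equiv (e1.restrictScalars Γ(S, U))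
  exact RingHom.formallyUnramified_algebraMap.mpr this

/-- If `Γ(Y, W)[1/f]` is formally unramified over `Γ(S, U)`, then `h` is formally unramified on the
basic open `D(f)`. -/
theorem formallyUnramified_basicOpen_ι_comp {Y S : Scheme.{u}} (h : Y ⟶ S) (U : S.Opens)
    (hU : IsAffineOpen U) (W : Y.Opens) (hW : IsAffineOpen W) (hWU : W ≤ h ⁻¹ᵁ U) (f : Γ(Y, W))
    (het : letI := (h.appLE U W hWU).hom.toAlgebra;
      Algebra.FormallyUnramified Γ(S, U) (Localization.Away f)) :
    FormallyUnramified ((Y.basicOpen f).ι ≫ h) := by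
  have hsrc : RingHom.StableUnderCompositionWithLocalizationAwaySource
      RingHom.FormallyUnramified := by
    intro R S T _ _ _ _ r _ g hg
    refine RingHom.FormallyUnramified.stableUnderComposition _ _ ?_ hg
    show (algebraMap R S).FormallyUnramified
    rw [RingHom.formallyUnramified_algebraMap]
    exact Algebra.FormallyUnramified.of_isLocalization (Submonoid.powers r)
  rw [HasRingHomProperty.iff_exists_appLE (P := @FormallyUnramified) hsrc]
  intro x'
  have haff : IsAffineOpen (Y.basicOpen f) := hW.basicOpen f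
  haveI : IsAffine (Y.basicOpen f : Scheme) := haff
  have hle : (⊤ : (Y.basicOpen f : Scheme).Opens) ≤ ((Y.basicOpen f).ι ≫ h) ⁻¹ᵁ U := by
    intro z _
    exact hWU (Y.basicOpen_le f z.2)
  refine ⟨⟨U, hU⟩, ⟨⊤, isAffineOpen_top _⟩, trivial, hle, ?_⟩
  have e2 : (⊤ : (Y.basicOpen f : Scheme).Opens) ≤ (Y.basicOpen f).ι ⁻¹ᵁ (h ⁻¹ᵁ U) := hle
  have heq : ((Y.basicOpen f).ι ≫ h).appLE U ⊤ hle =
      h.appLE U ((Y.basicOpen f).ι ''ᵁ ⊤) (by
        rintro _ ⟨z, -, rfl⟩
        exact hWU (Y.basicOpen_le f z.2)) := by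
    rw [← Scheme.Hom.appLE_comp_appLE (Y.basicOpen f).ι h U (h ⁻¹ᵁ U) ⊤ le_rfl e2,
      Scheme.Opens.ι_appLE]
    exact Scheme.Hom.appLE_map h le_rfl _
  show (((Y.basicOpen f).ι ≫ h).appLE U ⊤ hle).hom.FormallyUnramified
  rw [heq]
  exact formallyUnramified_appLE_basicOpen h U W hW hWU f het _ (Scheme.Opens.ι_image_top _) _

/-- A point of an affine chart at which the chart algebra is unramified has an open neighbourhood
on which the morphism is formally unramified. -/
theorem exists_unramified_nhd_of_isUnramifiedAt {X Y : Scheme.{u}} (f : X ⟶ Y)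
    [LocallyOfFiniteType f] (W : Y.Opens) (hW : IsAffineOpen W) (V : X.Opens)
    (hV : IsAffineOpen V) (hVW : V ≤ f ⁻¹ᵁ W) (x : X) (hxV : x ∈ V)
    (hun : letI := (f.appLE W V hVW).hom.toAlgebra;
      Algebra.IsUnramifiedAt Γ(Y, W) (hV.primeIdealOf ⟨x, hxV⟩).asIdeal) :
    ∃ U : X.Opens, x ∈ U ∧ FormallyUnramified (U.ι ≫ f) := by
  have hft : (f.appLE W V hVW).hom.FiniteType := f.finiteType_appLE hW hV hVW
  letI algRA : Algebra Γ(Y, W) Γ(X, V) := (f.appLE W V hVW).hom.toAlgebra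
  haveI hftA : Algebra.FiniteType Γ(Y, W) Γ(X, V) := hft
  haveI := hun
  obtain ⟨a, haq, hAa⟩ := Algebra.exists_formallyUnramified_of_isUnramifiedAt (R := Γ(Y, W))
    (hV.primeIdealOf ⟨x, hxV⟩).asIdeal
  refine ⟨X.basicOpen a, ?_, ?_⟩
  · rw [EtaleAffineNhd.mem_basicOpen_iff_notMem_primeIdealOf hV a x hxV]
    exact haq
  · exact formallyUnramified_basicOpen_ι_comp f W hW V hV hVW a hAa

end Groth.Agent.Lib.Helper8.UnramNhd
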