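import Mathlib
import Groth.Agent.Lib.Helper8.UnramNhd

/-!
# Pointwise descent of unramified neighbourhoods along base change
-/

set_option autoImplicit false
open CategoryTheory CategoryTheory.Limits AlgebraicGeometry Opposite TensorProduct
universe u

namespace Groth.Agent.Lib.Helper8.UnramNhd
open Groth.Agent.Lib.Helper8

attribute [local instance] Algebra.TensorProduct.rightAlgebra

set_option maxHeartbeats 1600000 in
/-- Pointwise core of `formallyUnramified_of_pointwise_cover`: a point of an affine chart which is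
covered by a point of a base change at which the base-changed morphism is formally unramified lies
in the unramified locus of the chart algebra. -/
theorem mem_unramifiedLocus_of_cover {X Y : Scheme.{u}} (f : X ⟶ Y) [LocallyOfFiniteType f]
    (W : Y.Opens) (hW : IsAffineOpen W) (V : X.Opens) (hV : IsAffineOpen V) (e : V ≤ f ⁻¹ᵁ W)
    (q : PrimeSpectrum Γ(X, V)) {Y' : Scheme.{u}} (g : Y' ⟶ Y) (U : (pullback f g).Opens)
    (z : ↑(pullback f g)) (hzU : z ∈ U) (hzx : pullback.fst f g z = hV.fromSpec q)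
    (hU : FormallyUnramified (U.ι ≫ pullback.snd f g)) :
    letI := (f.appLE W V e).hom.toAlgebra
    q ∈ Algebra.unramifiedLocus Γ(Y, W) Γ(X, V) := by
  have hft : (f.appLE W V e).hom.FiniteType := f.finiteType_appLE hW hV e
  algebraize [(f.appLE W V e).hom]
  have hxV : hV.fromSpec q ∈ (V : Set X) := by
    rw [← hV.range_fromSpec]; exact Set.mem_range_self q
  have hgy : g (pullback.snd f g z) = f (hV.fromSpec q) := by
    rw [← hzx, ← Scheme.Hom.comp_apply, ← Scheme.Hom.comp_apply, pullback.condition]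
  have hy'W : pullback.snd f g z ∈ (g ⁻¹ᵁ W : Set Y') := by
    show g (pullback.snd f g z) ∈ W
    rw [hgy]; exact e hxV
  obtain ⟨_, ⟨W', hW', rfl⟩, hy'W', hW'W⟩ :=
    Y'.isBasis_affineOpens.exists_subset_of_mem_open hy'W (g ⁻¹ᵁ W).isOpen
  algebraize [(g.appLE W W' hW'W).hom]
  let φ : Γ(Y, W) ⟶ Γ(X, V) := CommRingCat.ofHom (algebraMap Γ(Y, W) Γ(X, V))
  let ψ : Γ(Y, W) ⟶ Γ(Y', W') := CommRingCat.ofHom (algebraMap Γ(Y, W) Γ(Y', W'))
  have hφ : φ = f.appLE W V e := rfl
  have hψ : ψ = g.appLE W W' hW'W := rfl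
  have e₁ : Spec.map φ ≫ hW.fromSpec = hV.fromSpec ≫ f := by
    rw [hφ]; exact hW.SpecMap_appLE_fromSpec f hV e
  have e₂ : Spec.map ψ ≫ hW.fromSpec = hW'.fromSpec ≫ g := by
    rw [hψ]; exact hW.SpecMap_appLE_fromSpec g hW' hW'W
  let j := pullback.map (Spec.map φ) (Spec.map ψ) f g hV.fromSpec hW'.fromSpec hW.fromSpec e₁ e₂
  have hzj : z ∈ Set.range j := by
    rw [Scheme.Pullback.range_map]
    refine ⟨?_, ?_⟩
    · rw [Set.mem_preimage, hzx]; exact Set.mem_range_self q
    · rw [Set.mem_preimage, hW'.range_fromSpec]; exact hy'W'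
  obtain ⟨t, ht⟩ := hzj
  let iso := pullbackSpecIso Γ(Y, W) Γ(X, V) Γ(Y', W')
  let P : Spec (.of (Γ(X, V) ⊗[Γ(Y, W)] Γ(Y', W'))) := iso.hom t
  let j' : Spec (.of (Γ(X, V) ⊗[Γ(Y, W)] Γ(Y', W'))) ⟶ pullback f g := iso.inv ≫ j
  have hj'P : j' P = z := by
    simp only [j', P, ← Scheme.Hom.comp_apply, Iso.hom_inv_id_assoc, ht]
  have hfst : j' ≫ pullback.fst f g =
      Spec.map (CommRingCat.ofHom Algebra.TensorProduct.includeLeftRingHom) ≫ hV.fromSpec := by
    simp only [j', j, Category.assoc, pullback.lift_fst]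
    rw [← Category.assoc, pullbackSpecIso_inv_fst]
  have hsnd : j' ≫ pullback.snd f g =
      Spec.map (CommRingCat.ofHom
        (RingHomClass.toRingHom (Algebra.TensorProduct.includeRight (R := Γ(Y, W))
          (A := Γ(X, V)) (B := Γ(Y', W'))))) ≫ hW'.fromSpec := by
    simp only [j', j, Category.assoc, pullback.lift_snd]
    rw [← Category.assoc, pullbackSpecIso_inv_snd]
  -- the prime `q` is the contraction of `P`
  have hq : (Spec.map (CommRingCat.ofHom (Algebra.TensorProduct.includeLeftRingHom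
      (R := Γ(Y, W)) (A := Γ(X, V)) (B := Γ(Y', W'))))) P = q := by
    apply hV.fromSpec.isOpenEmbedding.injective
    rw [← Scheme.Hom.comp_apply, ← hfst, Scheme.Hom.comp_apply, hj'P, hzx]
  have hlies : P.asIdeal.LiesOver q.asIdeal := by
    constructor
    rw [← hq]; rfl
  -- a basic open around `P` inside the preimage of `U`
  have hPU : P ∈ (j' ⁻¹ᵁ U : Set _) := by
    show j' P ∈ U
    rw [hj'P]; exact hzU
  obtain ⟨_, ⟨_, ⟨h, rfl⟩, rfl⟩, hPh, hsub⟩ :=
    PrimeSpectrum.isBasis_basic_opens.exists_subset_of_mem_open hPU (j' ⁻¹ᵁ U).isOpen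
  let ιh := Spec.map (CommRingCat.ofHom
    (algebraMap (Γ(X, V) ⊗[Γ(Y, W)] Γ(Y', W')) (Localization.Away h)))
  have hιh : IsOpenImmersion ιh := inferInstance
  have hrange : Set.range (ιh ≫ j') ⊆ Set.range U.ι := by
    rintro _ ⟨s, rfl⟩
    rw [Scheme.Opens.range_ι]
    have : (ιh s : PrimeSpectrum (Γ(X, V) ⊗[Γ(Y, W)] Γ(Y', W'))) ∈
        (PrimeSpectrum.basicOpen h : Set (PrimeSpectrum (Γ(X, V) ⊗[Γ(Y, W)] Γ(Y', W')))) := by
      rw [← PrimeSpectrum.localization_away_comap_range (Localization.Away h) h]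
      exact ⟨s, rfl⟩
    exact hsub this
  let k := IsOpenImmersion.lift U.ι (ιh ≫ j') hrange
  have hk : k ≫ U.ι = ιh ≫ j' := IsOpenImmersion.lift_fac _ _ _
  have hk1 : FormallyUnramified (k ≫ U.ι) := by rw [hk]; infer_instance
  have hk2 : FormallyUnramified k := FormallyUnramified.of_comp k U.ι
  have hcomp : FormallyUnramified (k ≫ (U.ι ≫ pullback.snd f g)) :=
    MorphismProperty.comp_mem _ _ _ hk2 hU
  rw [← Category.assoc, hk, Category.assoc, hsnd, ← Category.assoc, ← Spec.map_comp] at hcomp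
  have hS := @FormallyUnramified.of_comp _ _ _ _ hW'.fromSpec hcomp
  rw [HasRingHomProperty.Spec_iff (P := @FormallyUnramified)] at hS
  have hTh : Algebra.FormallyUnramified Γ(Y', W') (Localization.Away h) := by
    rw [← RingHom.formallyUnramified_algebraMap]
    exact hS
  have hPmem : P ∈ Algebra.unramifiedLocus Γ(Y', W') (Γ(X, V) ⊗[Γ(Y, W)] Γ(Y', W')) :=
    Algebra.basicOpen_subset_unramifiedLocus_iff.mpr hTh hPh
  have hPun : Algebra.IsUnramifiedAt Γ(Y', W') P.asIdeal := hPmem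
  exact isUnramifiedAt_of_isPushout (R := Γ(Y, W)) (S := Γ(Y', W')) q.asIdeal P.asIdeal


/-- A point covered by a point of a base change near which the base-changed morphism is formally
unramified has an open neighbourhood on which the morphism is formally unramified. -/
theorem exists_unramified_nhd_of_cover {X Y : Scheme.{u}} (f : X ⟶ Y) [LocallyOfFiniteType f]
    (x : X) {Y' : Scheme.{u}} (g : Y' ⟶ Y) (U : (pullback f g).Opens)
    (z : ↑(pullback f g)) (hzU : z ∈ U) (hzx : pullback.fst f g z = x)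
    (hU : FormallyUnramified (U.ι ≫ pullback.snd f g)) :
    ∃ U₀ : X.Opens, x ∈ U₀ ∧ FormallyUnramified (U₀.ι ≫ f) := by
  obtain ⟨_, ⟨W, hW, rfl⟩, hxW, -⟩ :=
    Y.isBasis_affineOpens.exists_subset_of_mem_open (Set.mem_univ (f x)) isOpen_univ
  obtain ⟨_, ⟨V, hV, rfl⟩, hxV, hVW⟩ :=
    X.isBasis_affineOpens.exists_subset_of_mem_open hxW (W.2.preimage f.continuous)
  replace hVW : V ≤ f ⁻¹ᵁ W := hVW
  have hW : IsAffineOpen W := hW
  have hV : IsAffineOpen V := hV
  have hxV : x ∈ V := hxV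
  refine exists_unramified_nhd_of_isUnramifiedAt f W hW V hV hVW x hxV ?_
  have hq : hV.fromSpec (hV.primeIdealOf ⟨x, hxV⟩) = x := hV.fromSpec_primeIdealOf ⟨x, hxV⟩
  exact mem_unramifiedLocus_of_cover f W hW V hV hVW (hV.primeIdealOf ⟨x, hxV⟩) g U z hzU
    (hzx.trans hq.symm) hU

end Groth.Agent.Lib.Helper8.UnramNhd
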