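import Mathlib
import Groth.Prelude.Def_ega3
import Groth.Agent.Lib.Helper8.UnramNhd2
import Groth.Agent.Lib.Helper8.RelFiberSmoothSch
import Groth.Agent.Lib.Helper8.LiftCrit3

/-!
# Smooth / étale / unramified near a point vs. the fibre map (EGA IV 17.8.2, pointwise)
-/

set_option autoImplicit false
open CategoryTheory CategoryTheory.Limits AlgebraicGeometry Opposite TensorProduct
universe u

namespace Groth.Agent.Lib.Helper8.FiberMapPt

/-- The square `X_s → Y_s`, `X → Y` is cartesian. -/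
theorem isPullback_fiberMapOver {X Y S : Scheme.{u}} (f : X ⟶ Y) (h : X ⟶ S) (g : Y ⟶ S)
    (w : f ≫ g = h) (s : S) :
    IsPullback (h.fiberι s) (CohIII.fiberMapOver f h g w s) f (g.fiberι s) := by
  have hbig : IsPullback (h.fiberι s) (h.fiberToSpecResidueField s) h (S.fromSpecResidueField s) :=
    IsPullback.of_hasPullback _ _
  have hright : IsPullback (g.fiberι s) (g.fiberToSpecResidueField s) g
      (S.fromSpecResidueField s) := IsPullback.of_hasPullback _ _
  have e1 : CohIII.fiberMapOver f h g w s ≫ g.fiberι s = h.fiberι s ≫ f := by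
    simp only [CohIII.fiberMapOver, Scheme.Hom.fiberι]
    exact pullback.lift_fst _ _ _
  have e2 : CohIII.fiberMapOver f h g w s ≫ g.fiberToSpecResidueField s =
      h.fiberToSpecResidueField s := by
    simp only [CohIII.fiberMapOver, Scheme.Hom.fiberToSpecResidueField]
    exact (pullback.lift_snd _ _ _).trans (Category.comp_id _)
  have hbig' : IsPullback (h.fiberι s)
      (CohIII.fiberMapOver f h g w s ≫ g.fiberToSpecResidueField s) (f ≫ g)
      (S.fromSpecResidueField s) := by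
    rw [e2, w]; exact hbig
  exact (IsPullback.of_bot hbig' e1.symm hright)

/-- The restriction of the fibre square to an open of `X` is cartesian. -/
theorem isPullback_restrict {X Y S : Scheme.{u}} (f : X ⟶ Y) (h : X ⟶ S) (g : Y ⟶ S)
    (w : f ≫ g = h) (s : S) (U : X.Opens) :
    IsPullback ((h.fiberι s) ∣_ U)
      (((h.fiberι s) ⁻¹ᵁ U).ι ≫ CohIII.fiberMapOver f h g w s) (U.ι ≫ f) (g.fiberι s) :=
  (isPullback_morphismRestrict (h.fiberι s) U).paste_vert (isPullback_fiberMapOver f h g w s)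

/-- Every open of the fibre is the trace of an open of the total space. -/
theorem exists_opens_preimage_eq {X S : Scheme.{u}} (h : X ⟶ S) (s : S) (V : (h.fiber s).Opens) :
    ∃ U : X.Opens, (h.fiberι s) ⁻¹ᵁ U = V := by
  obtain ⟨t, ht, htV⟩ := (h.fiberι s).isEmbedding.isInducing.isOpen_iff.mp V.2
  exact ⟨⟨t, ht⟩, TopologicalSpace.Opens.ext htV⟩

/-- Flatness of the stalk map is inherited by the restriction to an open subscheme. -/
theorem flat_stalkMap_ι_comp {X S : Scheme.{u}} (h : X ⟶ S) (U : X.Opens) (x : X) (hx : x ∈ U)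
    (hflat : (h.stalkMap x).hom.Flat) : ((U.ι ≫ h).stalkMap ⟨x, hx⟩).hom.Flat := by
  let x' : (U : Scheme) := ⟨x, hx⟩
  rw [Scheme.Hom.stalkMap_comp]
  exact (RingHom.Flat.respectsIso.cancel_right_isIso (h.stalkMap (U.ι x'))
    (U.ι.stalkMap x')).mpr hflat

set_option maxHeartbeats 1600000 in
/-- EGA IV 17.8.2 (smooth case, pointwise): if `h = f ≫ g` is flat at `x`, then `f` is smooth
near `x` iff the fibre map `X_s ⟶ Y_s` is smooth near the point over `x`. -/
theorem smooth_nhd_iff_fiberMap {X Y S : Scheme.{u}} (g : Y ⟶ S) (h : X ⟶ S)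
    [LocallyOfFinitePresentation g] [LocallyOfFinitePresentation h] (f : X ⟶ Y) (w : f ≫ g = h)
    (x : X) (hflat : (h.stalkMap x).hom.Flat)
    (x' : ↥(h.fiber (h x))) (hx' : (h.fiberι (h x)) x' = x) :
    (∃ U : X.Opens, x ∈ U ∧ Smooth (U.ι ≫ f)) ↔
      ∃ V : (h.fiber (h x)).Opens, x' ∈ V ∧ Smooth (V.ι ≫ CohIII.fiberMapOver f h g w (h x)) := by
  subst w
  haveI : LocallyOfFinitePresentation f :=
    RelFiberSmoothSch.locallyOfFinitePresentation_of_comp f g
  constructor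
  · rintro ⟨U, hxU, hU⟩
    refine ⟨(((f ≫ g).fiberι ((f ≫ g) x)) ⁻¹ᵁ U), ?_, ?_⟩
    · show ((f ≫ g).fiberι ((f ≫ g) x)) x' ∈ U
      rw [hx']; exact hxU
    · exact MorphismProperty.of_isPullback (P := @Smooth)
        (isPullback_restrict f (f ≫ g) g rfl ((f ≫ g) x) U) hU
  · rintro ⟨V, hx'V, hV⟩
    obtain ⟨U, rfl⟩ := exists_opens_preimage_eq (f ≫ g) ((f ≫ g) x) V
    have hxU : x ∈ U := by
      have : ((f ≫ g).fiberι ((f ≫ g) x)) x' ∈ U := hx'V
      rwa [hx'] at this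
    have sq := isPullback_restrict f (f ≫ g) g rfl ((f ≫ g) x) U
    have hsm : Smooth (pullback.snd (U.ι ≫ f) (g.fiberι ((f ≫ g) x))) := by
      rw [← sq.isoPullback_inv_snd]
      infer_instance
    let x₀ : (U : Scheme) := ⟨x, hxU⟩
    have hflat₀ : (((U.ι ≫ f) ≫ g).stalkMap x₀).hom.Flat := by
      have := flat_stalkMap_ι_comp (f ≫ g) U x hxU hflat
      rwa [← Category.assoc] at this
    haveI : Smooth (pullback.snd (U.ι ≫ f) (g.fiberι (g ((U.ι ≫ f) x₀)))) := hsm
    have hmem : x₀ ∈ (U.ι ≫ f).smoothLocus :=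
      RelFiberSmoothSch.mem_smoothLocus_of_fibre g (U.ι ≫ f) x₀ hflat₀
    rw [← Scheme.Hom.preimage_smoothLocus_eq] at hmem
    exact (LiftCrit.exists_smooth_nhd_iff f x).mpr hmem

set_option maxHeartbeats 1600000 in
/-- EGA IV 17.8.2 (unramified case, pointwise; no flatness needed): `f` is unramified near `x`
iff the fibre map `X_s ⟶ Y_s` is unramified near the point over `x`. -/
theorem unramified_nhd_iff_fiberMap {X Y S : Scheme.{u}} (g : Y ⟶ S) (h : X ⟶ S)
    [LocallyOfFinitePresentation g] [LocallyOfFinitePresentation h] (f : X ⟶ Y) (w : f ≫ g = h)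
    (x : X) (x' : ↥(h.fiber (h x))) (hx' : (h.fiberι (h x)) x' = x) :
    (∃ U : X.Opens, x ∈ U ∧ FormallyUnramified (U.ι ≫ f)) ↔
      ∃ V : (h.fiber (h x)).Opens,
        x' ∈ V ∧ FormallyUnramified (V.ι ≫ CohIII.fiberMapOver f h g w (h x)) := by
  subst w
  haveI : LocallyOfFinitePresentation f :=
    RelFiberSmoothSch.locallyOfFinitePresentation_of_comp f g
  constructor
  · rintro ⟨U, hxU, hU⟩
    refine ⟨(((f ≫ g).fiberι ((f ≫ g) x)) ⁻¹ᵁ U), ?_, ?_⟩
    · show ((f ≫ g).fiberι ((f ≫ g) x)) x' ∈ U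
      rw [hx']; exact hxU
    · exact MorphismProperty.of_isPullback (P := @FormallyUnramified)
        (isPullback_restrict f (f ≫ g) g rfl ((f ≫ g) x) U) hU
  · rintro ⟨V, hx'V, hV⟩
    let s := (f ≫ g) x
    have sq := isPullback_fiberMapOver f (f ≫ g) g rfl s
    let e := sq.isoPullback
    have he1 : e.hom ≫ pullback.fst f (g.fiberι s) = (f ≫ g).fiberι s := sq.isoPullback_hom_fst
    have he2 : e.inv ≫ CohIII.fiberMapOver f (f ≫ g) g rfl s = pullback.snd f (g.fiberι s) :=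
      sq.isoPullback_inv_snd
    refine UnramNhd.exists_unramified_nhd_of_cover f x (g.fiberι s) (e.inv ⁻¹ᵁ V) (e.hom x') ?_ ?_ ?_
    · show e.inv (e.hom x') ∈ V
      rw [← Scheme.Hom.comp_apply, e.hom_inv_id]
      exact hx'V
    · rw [← Scheme.Hom.comp_apply, he1]
      exact hx'
    · have h1 : (e.inv ⁻¹ᵁ V).ι ≫ pullback.snd f (g.fiberι s) =
          (e.inv ∣_ V) ≫ (V.ι ≫ CohIII.fiberMapOver f (f ≫ g) g rfl s) := by
        rw [← Category.assoc, morphismRestrict_ι, Category.assoc, he2]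
      rw [h1]
      haveI : IsIso (e.inv ∣_ V) := inferInstance
      haveI : FormallyUnramified (e.inv ∣_ V) := inferInstance
      exact MorphismProperty.comp_mem _ _ _ inferInstance hV

/-- Smooth and formally unramified neighbourhoods give an étale neighbourhood. -/
theorem exists_etale_nhd_of_smooth_of_unramified {X Y : Scheme.{u}} (f : X ⟶ Y) (x : X)
    (h1 : ∃ U : X.Opens, x ∈ U ∧ Smooth (U.ι ≫ f))
    (h2 : ∃ U : X.Opens, x ∈ U ∧ FormallyUnramified (U.ι ≫ f)) :
    ∃ U : X.Opens, x ∈ U ∧ Etale (U.ι ≫ f) := by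
  obtain ⟨U₁, hx1, hU₁⟩ := h1
  obtain ⟨U₂, hx2, hU₂⟩ := h2
  refine ⟨U₁ ⊓ U₂, ⟨hx1, hx2⟩, ?_⟩
  have e1 : (U₁ ⊓ U₂).ι ≫ f = X.homOfLE inf_le_left ≫ (U₁.ι ≫ f) := by
    rw [← Category.assoc, Scheme.homOfLE_ι]
  have e2 : (U₁ ⊓ U₂).ι ≫ f = X.homOfLE inf_le_right ≫ (U₂.ι ≫ f) := by
    rw [← Category.assoc, Scheme.homOfLE_ι]
  haveI : Smooth ((U₁ ⊓ U₂).ι ≫ f) := by rw [e1]; infer_instance
  haveI : FormallyUnramified ((U₁ ⊓ U₂).ι ≫ f) := by
    rw [e2]
    exact MorphismProperty.comp_mem _ _ _ inferInstance hU₂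
  exact Etale.of_formallyUnramified_of_flat _

set_option maxHeartbeats 1600000 in
/-- EGA IV 17.8.2 (étale case, pointwise): if `h = f ≫ g` is flat at `x`, then `f` is étale near
`x` iff the fibre map `X_s ⟶ Y_s` is étale near the point over `x`. -/
theorem etale_nhd_iff_fiberMap {X Y S : Scheme.{u}} (g : Y ⟶ S) (h : X ⟶ S)
    [LocallyOfFinitePresentation g] [LocallyOfFinitePresentation h] (f : X ⟶ Y) (w : f ≫ g = h)
    (x : X) (hflat : (h.stalkMap x).hom.Flat)
    (x' : ↥(h.fiber (h x))) (hx' : (h.fiberι (h x)) x' = x) :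
    (∃ U : X.Opens, x ∈ U ∧ Etale (U.ι ≫ f)) ↔
      ∃ V : (h.fiber (h x)).Opens, x' ∈ V ∧ Etale (V.ι ≫ CohIII.fiberMapOver f h g w (h x)) := by
  constructor
  · rintro ⟨U, hxU, hU⟩
    refine ⟨((h.fiberι (h x)) ⁻¹ᵁ U), ?_, ?_⟩
    · show (h.fiberι (h x)) x' ∈ U
      rw [hx']; exact hxU
    · exact MorphismProperty.of_isPullback (P := @Etale)
        (isPullback_restrict f h g w (h x) U) hU
  · rintro ⟨V, hx'V, hV⟩
    refine exists_etale_nhd_of_smooth_of_unramified f x ?_ ?_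
    · exact (smooth_nhd_iff_fiberMap g h f w x hflat x' hx').mpr ⟨V, hx'V, inferInstance⟩
    · exact (unramified_nhd_iff_fiberMap g h f w x x' hx').mpr ⟨V, hx'V, inferInstance⟩

end Groth.Agent.Lib.Helper8.FiberMapPt
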