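import Mathlib

/-!
# Automorphisms of the algebraic closure from compatible families on finite separable subfields
-/

set_option autoImplicit false
universe u

namespace Groth.Agent.Lib.Helper8.PiOneField

open IntermediateField

variable (K : Type u) [Field K]

/-- Finite separable intermediate fields of the algebraic closure. -/
structure FS where
  /-- the field -/
  L : IntermediateField K (AlgebraicClosure K)
  fin : FiniteDimensional K L
  sep : Algebra.IsSeparable K L

instance (i : FS K) : FiniteDimensional K i.L := i.fin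
instance (i : FS K) : Algebra.IsSeparable K i.L := i.sep

variable {K}

/-- The simple extension generated by a separable element. -/
noncomputable def simpleFS (x : AlgebraicClosure K) (hx : IsSeparable K x) : FS K :=
  ⟨K⟮x⟯, adjoin.finiteDimensional hx.isIntegral,
    (isSeparable_adjoin_simple_iff_isSeparable K (AlgebraicClosure K)).mpr hx⟩

lemma mem_simpleFS (x : AlgebraicClosure K) (hx : IsSeparable K x) : x ∈ (simpleFS x hx).L :=
  mem_adjoin_simple_self K x

lemma isSeparable_of_mem (i : FS K) {x : AlgebraicClosure K} (hx : x ∈ i.L) : IsSeparable K x :=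
  mem_separableClosure_iff.mp (le_separableClosure K (AlgebraicClosure K) i.L hx)

/-- The compositum of two members. -/
noncomputable def supFS (i j : FS K) : FS K :=
  ⟨i.L ⊔ j.L, inferInstance, by
    rw [← le_separableClosure_iff]
    exact sup_le (le_separableClosure K _ i.L) (le_separableClosure K _ j.L)⟩

theorem exists_algEquiv_of_compatible (τ : ∀ i : FS K, i.L →ₐ[K] AlgebraicClosure K)
    (hτ : ∀ (i j : FS K) (h : i.L ≤ j.L), (τ j).comp (IntermediateField.inclusion h) = τ i) :
    ∃ σ : AlgebraicClosure K ≃ₐ[K] AlgebraicClosure K,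
      ∀ i : FS K, (σ : AlgebraicClosure K →ₐ[K] AlgebraicClosure K).comp i.L.val = τ i := by
  classical
  -- the value of the family at a separable element
  have W : ∀ (i j : FS K) (x : AlgebraicClosure K) (hi : x ∈ i.L) (hj : x ∈ j.L),
      τ i ⟨x, hi⟩ = τ j ⟨x, hj⟩ := by
    intro i j x hi hj
    have h1 : i.L ≤ (supFS i j).L := le_sup_left
    have h2 : j.L ≤ (supFS i j).L := le_sup_right
    have e1 := DFunLike.congr_fun (hτ i (supFS i j) h1) ⟨x, hi⟩
    have e2 := DFunLike.congr_fun (hτ j (supFS i j) h2) ⟨x, hj⟩
    rw [← e1, ← e2]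
    rfl
  let f : separableClosure K (AlgebraicClosure K) → AlgebraicClosure K := fun x =>
    τ (simpleFS x.1 (mem_separableClosure_iff.mp x.2)) ⟨x.1, mem_simpleFS _ _⟩
  have hf : ∀ (i : FS K) (x : separableClosure K (AlgebraicClosure K)) (hx : x.1 ∈ i.L),
      f x = τ i ⟨x.1, hx⟩ := fun i x hx => W _ _ _ _ _
  have hcommon : ∀ x y : separableClosure K (AlgebraicClosure K),
      ∃ i : FS K, x.1 ∈ i.L ∧ y.1 ∈ i.L := fun x y =>
    ⟨supFS (simpleFS x.1 (mem_separableClosure_iff.mp x.2))
        (simpleFS y.1 (mem_separableClosure_iff.mp y.2)),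
      (le_sup_left : (simpleFS x.1 _).L ≤ _) (mem_simpleFS _ _),
      (le_sup_right : (simpleFS y.1 _).L ≤ _) (mem_simpleFS _ _)⟩
  let σ₀ : separableClosure K (AlgebraicClosure K) →ₐ[K] AlgebraicClosure K :=
    { toFun := f
      map_one' := by
        obtain ⟨i, h1, -⟩ := hcommon 1 1
        rw [hf i 1 h1]
        exact map_one (τ i)
      map_mul' := by
        intro x y
        obtain ⟨i, hx, hy⟩ := hcommon x y
        rw [hf i (x * y) (mul_mem hx hy), hf i x hx, hf i y hy, ← map_mul]
        rfl
      map_zero' := by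
        obtain ⟨i, h1, -⟩ := hcommon 0 0
        rw [hf i 0 h1]
        exact map_zero (τ i)
      map_add' := by
        intro x y
        obtain ⟨i, hx, hy⟩ := hcommon x y
        rw [hf i (x + y) (add_mem hx hy), hf i x hx, hf i y hy, ← map_add]
        rfl
      commutes' := by
        intro k
        obtain ⟨i, h1, -⟩ := hcommon (algebraMap K _ k) (algebraMap K _ k)
        rw [hf i _ h1]
        exact (τ i).commutes k }
  have hK' : ∀ s : AlgebraicClosure K, IsIntegral K s ∧
      ((minpoly K s).map (algebraMap K (AlgebraicClosure K))).Splits :=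
    fun s => ⟨Algebra.IsIntegral.isIntegral s, IsAlgClosed.splits _⟩
  obtain ⟨φ, hφ⟩ := IntermediateField.exists_algHom_of_splits hK' σ₀
  have hbij : Function.Bijective φ := Algebra.IsAlgebraic.algHom_bijective φ
  refine ⟨AlgEquiv.ofBijective φ hbij, fun i => ?_⟩
  ext ⟨x, hx⟩
  have hxs : x ∈ separableClosure K (AlgebraicClosure K) :=
    le_separableClosure K (AlgebraicClosure K) i.L hx
  have h1 := DFunLike.congr_fun hφ ⟨x, hxs⟩
  change φ x = τ i ⟨x, hx⟩
  rw [← hf i ⟨x, hxs⟩ hx]
  exact h1

theorem eq_one_of_fix_separable (σ : AlgebraicClosure K ≃ₐ[K] AlgebraicClosure K)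
    (h : ∀ x : AlgebraicClosure K, IsSeparable K x → σ x = x) : σ = 1 := by
  have hinj := IsPurelyInseparable.injective_comp_algebraMap
    (separableClosure K (AlgebraicClosure K)) (AlgebraicClosure K) (AlgebraicClosure K)
  have h1 : (σ : AlgebraicClosure K →+* AlgebraicClosure K) = RingHom.id _ := by
    apply hinj
    ext x
    exact h x.1 (mem_separableClosure_iff.mp x.2)
  ext x
  exact congrArg (fun g : AlgebraicClosure K →+* AlgebraicClosure K => g x) h1

end Groth.Agent.Lib.Helper8.PiOneField
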