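import Mathlib
import Groth.Prelude.Def_FEt
import Groth.Agent.Lib.Helper8.PiOneFieldAlg

/-!
# The étale fundamental group of a field
-/

set_option autoImplicit false
universe u

namespace Groth.Agent.Lib.Helper8.PiOneField

open CategoryTheory CategoryTheory.Limits AlgebraicGeometry IntermediateField

variable (K : Type u) [Field K]

/-- The geometric point. -/
noncomputable abbrev ξ : Spec (CommRingCat.of (AlgebraicClosure K)) ⟶ Spec (CommRingCat.of K) :=
  Spec.map (CommRingCat.ofHom (algebraMap K (AlgebraicClosure K)))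

instance etale_FS (i : FS K) : Algebra.Etale K i.L :=
  haveI : Algebra.FormallyEtale K i.L := Algebra.FormallyEtale.of_isSeparable K i.L
  haveI : Algebra.FinitePresentation K i.L :=
    Algebra.FinitePresentation.of_finiteType.mp inferInstance
  ⟨inferInstance, inferInstance⟩

/-- The finite étale cover `Spec L → Spec K`. -/
noncomputable def YL (i : FS K) : FEt.Cat (Spec (CommRingCat.of K)) :=
  MorphismProperty.Over.mk ⊤ (Spec.map (CommRingCat.ofHom (algebraMap K i.L)))
    ⟨(IsFinite.SpecMap_iff _).mpr (RingHom.finite_algebraMap.mpr inferInstance),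
      HasRingHomProperty.Spec_iff.mpr
        ((RingHom.etale_algebraMap (R := K) (S := i.L)).mpr (etale_FS K i))⟩

/-- The tautological point of `YL`. -/
noncomputable def ιL (i : FS K) : FEt.fiberObj (ξ K) (YL K i) :=
  ⟨Spec.map (CommRingCat.ofHom (i.L.val : i.L →+* AlgebraicClosure K)), by
    change Spec.map _ ≫ Spec.map _ = Spec.map _
    rw [← Spec.map_comp, ← CommRingCat.ofHom_comp]
    rfl⟩

theorem exists_algHom_of_fiber (i : FS K) (s : FEt.fiberObj (ξ K) (YL K i)) :
    ∃ τ : i.L →ₐ[K] AlgebraicClosure K,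
      s.1 = Spec.map (CommRingCat.ofHom (τ : i.L →+* AlgebraicClosure K)) := by
  have hs : s.1 ≫ Spec.map (CommRingCat.ofHom (algebraMap K i.L)) = ξ K := s.2
  obtain ⟨g, hg⟩ : ∃ g : CommRingCat.of i.L ⟶ CommRingCat.of (AlgebraicClosure K),
      Spec.map g = s.1 := ⟨Spec.preimage s.1, Spec.map_preimage _⟩
  have hcomm : CommRingCat.ofHom (algebraMap K i.L) ≫ g =
      CommRingCat.ofHom (algebraMap K (AlgebraicClosure K)) := by
    apply Spec.map_injective
    rw [Spec.map_comp, hg]
    exact hs
  refine ⟨{ g.hom with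
    commutes' := fun k => by
      have := congrArg (fun h => h.hom k) hcomm
      simpa using this }, ?_⟩
  rw [← hg]
  rfl

/-- The transition maps. -/
noncomputable def inclYL {i j : FS K} (h : i.L ≤ j.L) : YL K j ⟶ YL K i :=
  MorphismProperty.Over.homMk
    (Spec.map (CommRingCat.ofHom (IntermediateField.inclusion h : i.L →+* j.L))) (by
      change Spec.map _ ≫ Spec.map _ = Spec.map _
      rw [← Spec.map_comp, ← CommRingCat.ofHom_comp]
      rfl)

theorem fiber_map_inclYL {i j : FS K} (h : i.L ≤ j.L) :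
    (FEt.fiber (ξ K)).map (inclYL K h) (ιL K j) = ιL K i := by
  apply Subtype.ext
  change Spec.map _ ≫ Spec.map _ = Spec.map _
  rw [← Spec.map_comp, ← CommRingCat.ofHom_comp]
  rfl

theorem exists_factor (Y : FEt.Cat (Spec (CommRingCat.of K))) (s : FEt.fiberObj (ξ K) Y) :
    ∃ (i : FS K) (φ : YL K i ⟶ Y), (FEt.fiber (ξ K)).map φ (ιL K i) = s := by
  haveI hfin : IsFinite Y.hom := Y.prop.1
  haveI het : Etale Y.hom := Y.prop.2
  haveI : IsAffine ((Functor.fromPUnit (Spec (CommRingCat.of K))).obj Y.right) :=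
    inferInstanceAs (IsAffine (Spec (CommRingCat.of K)))
  haveI : IsAffine Y.left := isAffine_of_isAffineHom Y.hom
  let e := Y.left.isoSpec
  let c : CommRingCat.of K ⟶ Γ(Y.left, ⊤) := Spec.preimage (e.inv ≫ Y.hom)
  have hc : Spec.map c = e.inv ≫ Y.hom := Spec.map_preimage _
  let g : Γ(Y.left, ⊤) ⟶ CommRingCat.of (AlgebraicClosure K) := Spec.preimage (s.1 ≫ e.hom)
  have hg : Spec.map g = s.1 ≫ e.hom := Spec.map_preimage _
  haveI : IsFinite (Spec.map c) := by rw [hc]; infer_instance
  haveI : Etale (Spec.map c) := by rw [hc]; infer_instance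
  letI : Algebra K Γ(Y.left, ⊤) := c.hom.toAlgebra
  haveI : Module.Finite K Γ(Y.left, ⊤) :=
    RingHom.finite_algebraMap.mp ((IsFinite.SpecMap_iff c).mp inferInstance)
  haveI : Algebra.Etale K Γ(Y.left, ⊤) :=
    RingHom.etale_algebraMap.mp (HasRingHomProperty.Spec_iff.mp (inferInstance : Etale (Spec.map c)))
  have hcg : c ≫ g = CommRingCat.ofHom (algebraMap K (AlgebraicClosure K)) := by
    apply Spec.map_injective
    rw [Spec.map_comp, hg, hc, Category.assoc, Iso.hom_inv_id_assoc]
    exact s.2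
  let sAlg : Γ(Y.left, ⊤) →ₐ[K] AlgebraicClosure K :=
    { g.hom with
      commutes' := fun k => congrArg (fun h => h.hom k) hcg }
  let L : IntermediateField K (AlgebraicClosure K) := IntermediateField.adjoin K (Set.range sAlg)
  have hLsub : L.toSubalgebra = sAlg.range := by
    rw [IntermediateField.adjoin_toSubalgebra_of_isAlgebraic
      (fun x _ => Algebra.IsAlgebraic.isAlgebraic x), ← AlgHom.coe_range, Algebra.adjoin_eq]
  let ρ : Γ(Y.left, ⊤) →ₐ[K] L := sAlg.codRestrict L.toSubalgebra
    (fun y => IntermediateField.subset_adjoin K _ ⟨y, rfl⟩)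
  have hρ : ∀ y, ((ρ y : L) : AlgebraicClosure K) = sAlg y := fun y => rfl
  have hρsurj : Function.Surjective ρ := by
    rintro ⟨x, hx⟩
    have hx' : x ∈ sAlg.range := by rw [← hLsub]; exact hx
    obtain ⟨y, rfl⟩ := hx'
    exact ⟨y, Subtype.ext (hρ y)⟩
  haveI : FiniteDimensional K L := Module.Finite.of_surjective ρ.toLinearMap hρsurj
  haveI : Algebra.FormallyUnramified K L := Algebra.FormallyUnramified.of_surjective ρ hρsurj
  haveI : Algebra.IsSeparable K L := Algebra.FormallyUnramified.isSeparable K L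
  let i : FS K := ⟨L, inferInstance, inferInstance⟩
  have hw : (Spec.map (CommRingCat.ofHom (ρ : Γ(Y.left, ⊤) →+* L)) ≫ e.inv) ≫ Y.hom =
      (YL K i).hom := by
    change _ = Spec.map (CommRingCat.ofHom (algebraMap K L))
    rw [Category.assoc, ← hc, ← Spec.map_comp]
    congr 1
    exact CommRingCat.hom_ext (RingHom.ext fun k => ρ.commutes k)
  refine ⟨i, MorphismProperty.Over.homMk
    (Spec.map (CommRingCat.ofHom (ρ : Γ(Y.left, ⊤) →+* L)) ≫ e.inv) hw, ?_⟩
  apply Subtype.ext
  change Spec.map (CommRingCat.ofHom (L.val : L →+* AlgebraicClosure K)) ≫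
    (Spec.map (CommRingCat.ofHom (ρ : Γ(Y.left, ⊤) →+* L)) ≫ e.inv) = s.1
  have h1 : s.1 = Spec.map g ≫ e.inv := by rw [hg, Category.assoc, Iso.hom_inv_id, Category.comp_id]
  rw [h1, ← Category.assoc, ← Spec.map_comp]
  congr 2

/-- The action of the Galois group on the fibre functor. -/
noncomputable def actHom (σ : AlgebraicClosure K ≃ₐ[K] AlgebraicClosure K) :
    FEt.fiber (ξ K) ⟶ FEt.fiber (ξ K) where
  app Y := TypeCat.ofHom fun s =>
    ⟨Spec.map (CommRingCat.ofHom (σ : AlgebraicClosure K →+* AlgebraicClosure K)) ≫ s.1, by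
      rw [Category.assoc, s.2]
      change Spec.map _ ≫ Spec.map _ = Spec.map _
      rw [← Spec.map_comp, ← CommRingCat.ofHom_comp]
      congr 2
      ext k
      exact σ.commutes k⟩
  naturality Y Y' φ := ConcreteCategory.hom_ext _ _ fun s => Subtype.ext (by
    change Spec.map _ ≫ (s.1 ≫ φ.left) = (Spec.map _ ≫ s.1) ≫ φ.left
    rw [Category.assoc])

lemma actHom_app_val (σ : AlgebraicClosure K ≃ₐ[K] AlgebraicClosure K)
    (Y : FEt.Cat (Spec (CommRingCat.of K))) (s : FEt.fiberObj (ξ K) Y) :
    (((actHom K σ).app Y) s).1 =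
      Spec.map (CommRingCat.ofHom (σ : AlgebraicClosure K →+* AlgebraicClosure K)) ≫ s.1 := rfl

lemma actHom_comp (σ τ : AlgebraicClosure K ≃ₐ[K] AlgebraicClosure K) :
    actHom K σ ≫ actHom K τ = actHom K (τ * σ) := by
  ext Y s
  apply Subtype.ext
  change Spec.map _ ≫ (Spec.map _ ≫ s.1) = Spec.map _ ≫ s.1
  rw [← Category.assoc, ← Spec.map_comp, ← CommRingCat.ofHom_comp]
  rfl

lemma actHom_one : actHom K 1 = 𝟙 _ := by
  ext Y s
  apply Subtype.ext
  change Spec.map _ ≫ s.1 = s.1
  have : CommRingCat.ofHom ((1 : AlgebraicClosure K ≃ₐ[K] AlgebraicClosure K) :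
      AlgebraicClosure K →+* AlgebraicClosure K) = 𝟙 _ := rfl
  rw [this, Spec.map_id, Category.id_comp]

/-- The action as an automorphism. -/
noncomputable def actIso (σ : AlgebraicClosure K ≃ₐ[K] AlgebraicClosure K) :
    Aut (FEt.fiber (ξ K)) where
  hom := actHom K σ
  inv := actHom K σ⁻¹
  hom_inv_id := by rw [actHom_comp, inv_mul_cancel, actHom_one]
  inv_hom_id := by rw [actHom_comp, mul_inv_cancel, actHom_one]

/-- The comparison homomorphism. -/
noncomputable def Φ : (AlgebraicClosure K ≃ₐ[K] AlgebraicClosure K) →* Aut (FEt.fiber (ξ K)) where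
  toFun := actIso K
  map_one' := by
    apply Iso.ext
    exact actHom_one K
  map_mul' σ τ := by
    apply Iso.ext
    change actHom K (σ * τ) = actHom K τ ≫ actHom K σ
    rw [actHom_comp]

theorem Φ_injective : Function.Injective (Φ K) := by
  rw [injective_iff_map_eq_one]
  intro σ hσ
  apply eq_one_of_fix_separable
  intro x hx
  have h1 : ((actHom K σ).app (YL K (simpleFS x hx))) (ιL K (simpleFS x hx)) =
      ιL K (simpleFS x hx) := by
    have h2 : actHom K σ = 𝟙 _ := congrArg Iso.hom hσ
    rw [h2]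
    rfl
  have h3 := congrArg Subtype.val h1
  rw [actHom_app_val] at h3
  change Spec.map _ ≫ Spec.map _ = Spec.map _ at h3
  rw [← Spec.map_comp] at h3
  have h4 := Spec.map_injective h3
  have h5 := congrArg (fun h => h.hom ⟨x, mem_simpleFS x hx⟩) h4
  exact h5

theorem Φ_surjective : Function.Surjective (Φ K) := by
  intro η
  choose τ hτ using fun i : FS K => exists_algHom_of_fiber K i ((η.hom.app (YL K i)) (ιL K i))
  have hcompat : ∀ (i j : FS K) (h : i.L ≤ j.L),
      (τ j).comp (IntermediateField.inclusion h) = τ i := by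
    intro i j h
    have h1 := NatTrans.naturality_apply η.hom (inclYL K h) (ιL K j)
    rw [fiber_map_inclYL] at h1
    have h2 := congrArg Subtype.val h1
    rw [hτ i] at h2
    change _ = ((η.hom.app (YL K j)) (ιL K j)).1 ≫
      Spec.map (CommRingCat.ofHom (IntermediateField.inclusion h : i.L →+* j.L)) at h2
    rw [hτ j] at h2
    have h2' : Spec.map (CommRingCat.ofHom ((τ i : i.L →ₐ[K] AlgebraicClosure K) :
          i.L →+* AlgebraicClosure K)) =
        Spec.map (CommRingCat.ofHom (IntermediateField.inclusion h : i.L →+* j.L) ≫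
          CommRingCat.ofHom ((τ j : j.L →ₐ[K] AlgebraicClosure K) :
            j.L →+* AlgebraicClosure K)) := by
      rw [Spec.map_comp]; exact h2
    have h3 := Spec.map_injective h2'
    ext y
    exact (congrArg (fun h => h.hom y) h3).symm
  obtain ⟨σ, hσ⟩ := exists_algEquiv_of_compatible τ hcompat
  refine ⟨σ, ?_⟩
  apply Iso.ext
  change actHom K σ = η.hom
  refine NatTrans.ext (funext fun Y => ConcreteCategory.hom_ext _ _ fun s => ?_)
  obtain ⟨i, φ, rfl⟩ := exists_factor K Y s
  have e1 := NatTrans.naturality_apply (actHom K σ) φ (ιL K i)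
  have e2 := NatTrans.naturality_apply η.hom φ (ιL K i)
  have key : (actHom K σ).app (YL K i) (ιL K i) = η.hom.app (YL K i) (ιL K i) := by
    apply Subtype.ext
    rw [actHom_app_val, hτ i]
    change Spec.map _ ≫ Spec.map _ = Spec.map _
    rw [← Spec.map_comp]
    congr 1
    exact CommRingCat.hom_ext (RingHom.ext fun y => DFunLike.congr_fun (hσ i) y)
  exact e1.trans ((congrArg _ key).trans e2.symm)

theorem main : Nonempty ((AlgebraicClosure K ≃ₐ[K] AlgebraicClosure K) ≃*
    FEt.piOne (Spec (CommRingCat.of K))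
      (Spec.map (CommRingCat.ofHom (algebraMap K (AlgebraicClosure K))))) :=
  ⟨MulEquiv.ofBijective (Φ K) ⟨Φ_injective K, Φ_surjective K⟩⟩

end Groth.Agent.Lib.Helper8.PiOneField
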