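import Mathlib
import Groth.Agent.Lib.Helper8.EtChart
set_option autoImplicit false
open TensorProduct KaehlerDifferential

/-! Augmented algebras: a map of augmented `A`-algebras `B₂ → B₁` inducing an isomorphism on conormal
modules of the augmentation ideals is étale along the section, when `B₁` is smooth along it. -/

namespace Groth.Agent.Lib.Helper8.AugEtale

section Aug
variable {A B : Type*} [CommRing A] [CommRing B] [Algebra A B] (σ : B →ₐ[A] A)

lemma sub_mem_ker (y : B) : y - algebraMap A B (σ y) ∈ RingHom.ker σ := by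
  rw [RingHom.mem_ker, map_sub, AlgHom.commutes]
  simp

/-- `y ↦ [y - σ y]`, the projection of an augmented algebra to the conormal module. -/
noncomputable def augRho : B →ₗ[A] (RingHom.ker σ).Cotangent where
  toFun y := (RingHom.ker σ).toCotangent ⟨y - algebraMap A B (σ y), sub_mem_ker σ y⟩
  map_add' x y := by
    rw [← map_add]
    congr 1
    ext
    simp only [map_add, Submodule.coe_add]
    ring
  map_smul' a x := by
    rw [RingHom.id_apply, ← LinearMap.map_smul_of_tower]
    congr 1
    ext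
    simp only [Submodule.coe_smul_of_tower, map_mul, Algebra.smul_def, AlgHom.commutes,
      Algebra.algebraMap_self, RingHom.id_apply]
    ring

lemma augRho_apply (y : B) : augRho σ y =
    (RingHom.ker σ).toCotangent ⟨y - algebraMap A B (σ y), sub_mem_ker σ y⟩ := rfl

lemma smul_cotangent (y : B) (n : (RingHom.ker σ).Cotangent) : y • n = σ y • n := by
  have := Ideal.Cotangent.smul_eq_zero_of_mem (sub_mem_ker σ y) n
  rw [sub_smul, sub_eq_zero, algebraMap_smul] at this
  exact this

lemma augRho_mul (x y : B) : augRho σ (x * y) = x • augRho σ y + y • augRho σ x := by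
  rw [smul_cotangent σ y, ← algebraMap_smul B (σ y), augRho_apply, augRho_apply, augRho_apply,
    ← map_smul, ← map_smul, ← map_add]
  congr 1
  ext
  simp only [map_mul, Submodule.coe_add, Submodule.coe_smul_of_tower, smul_eq_mul]
  ring

/-- `augRho` as a derivation. -/
noncomputable def augDer : Derivation A B (RingHom.ker σ).Cotangent :=
  Derivation.mk' (augRho σ) (fun x y => augRho_mul σ x y)

lemma augDer_apply (y : B) : augDer σ y = augRho σ y := rfl

end Aug


set_option maxHeartbeats 1600000 in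
theorem isEtaleAt_of_bijective_mapCotangent (A B₁ B₂ : Type*)
    [CommRing A] [CommRing B₁] [CommRing B₂] [Algebra A B₁] [Algebra A B₂] [Algebra B₂ B₁]
    [IsScalarTower A B₂ B₁] [Algebra.EssFiniteType A B₁] [Algebra.EssFiniteType A B₂]
    (σ₁ : B₁ →ₐ[A] A) (σ₂ : B₂ →ₐ[A] A) (hσ : σ₁.comp (IsScalarTower.toAlgHom A B₂ B₁) = σ₂)
    (hle : RingHom.ker σ₂ ≤ (RingHom.ker σ₁).comap (IsScalarTower.toAlgHom A B₂ B₁))
    (hcot : Function.Bijective
      (Ideal.mapCotangent (RingHom.ker σ₂) (RingHom.ker σ₁) (IsScalarTower.toAlgHom A B₂ B₁) hle))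
    (P : Ideal B₁) [P.IsPrime] (hP : RingHom.ker σ₁ ≤ P) [Algebra.IsSmoothAt A P] :
    Algebra.IsEtaleAt B₂ P := by
  have hφσ : ∀ x : B₂, σ₁ (algebraMap B₂ B₁ x) = σ₂ x := fun x => AlgHom.congr_fun hσ x
  have hPκ : ∀ z ∈ P, algebraMap B₁ P.ResidueField z = 0 := fun z hz =>
    Ideal.algebraMap_residueField_eq_zero.mpr hz
  have hPT : ∀ z ∈ P, algebraMap B₁ (Localization.AtPrime P) z ∈
      IsLocalRing.maximalIdeal (Localization.AtPrime P) := fun z hz =>
    (IsLocalization.AtPrime.to_map_mem_maximal_iff _ P z).mpr hz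
  -- elements of the maximal ideal kill `κ ⊗ -`
  have hkill : ∀ t ∈ IsLocalRing.maximalIdeal (Localization.AtPrime P),
      ∀ m : (Localization.AtPrime P) ⊗[B₂] Ω[B₂⁄A],
        (1 : P.ResidueField) ⊗ₜ[Localization.AtPrime P] (t • m) = 0 := by
    intro t ht m
    rw [← TensorProduct.smul_tmul, Algebra.smul_def, mul_one]
    have : algebraMap (Localization.AtPrime P) P.ResidueField t = 0 :=
      (IsLocalRing.residue_eq_zero_iff t).mpr ht
    rw [this, TensorProduct.zero_tmul]
  have hVkill : ∀ z ∈ P, ∀ v : P.ResidueField ⊗[Localization.AtPrime P]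
      ((Localization.AtPrime P) ⊗[B₂] Ω[B₂⁄A]), z • v = 0 := by
    intro z hz v
    rw [← algebraMap_smul P.ResidueField z v, hPκ z hz, zero_smul]
  have hVsmul : ∀ (y : B₁) (v : P.ResidueField ⊗[Localization.AtPrime P]
      ((Localization.AtPrime P) ⊗[B₂] Ω[B₂⁄A])), y • v = σ₁ y • v := by
    intro y v
    rw [← algebraMap_smul P.ResidueField y v, ← algebraMap_smul P.ResidueField (σ₁ y) v]
    congr 1
    have := hPκ _ (hP (sub_mem_ker σ₁ y))
    rw [map_sub, sub_eq_zero, ← IsScalarTower.algebraMap_apply] at this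
    exact this
  -- the map `ν : b₂/b₂² → κ ⊗ (T ⊗ Ω)`
  let ν0 : (RingHom.ker σ₂) →ₗ[A] P.ResidueField ⊗[Localization.AtPrime P]
      ((Localization.AtPrime P) ⊗[B₂] Ω[B₂⁄A]) :=
    ((TensorProduct.mk (Localization.AtPrime P) P.ResidueField
        ((Localization.AtPrime P) ⊗[B₂] Ω[B₂⁄A]) 1).restrictScalars A) ∘ₗ
      ((TensorProduct.mk B₂ (Localization.AtPrime P) Ω[B₂⁄A] 1).restrictScalars A) ∘ₗ
      ((D A B₂).toLinearMap) ∘ₗ ((Submodule.subtype (RingHom.ker σ₂)).restrictScalars A)
  have hν0 : ∀ x : RingHom.ker σ₂, ν0 x = (1 : P.ResidueField) ⊗ₜ[Localization.AtPrime P]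
      ((1 : Localization.AtPrime P) ⊗ₜ[B₂] D A B₂ x.1) := fun x => rfl
  have hmT : ∀ x ∈ RingHom.ker σ₂, algebraMap B₂ (Localization.AtPrime P) x ∈
      IsLocalRing.maximalIdeal (Localization.AtPrime P) := by
    intro x hx
    rw [IsScalarTower.algebraMap_apply B₂ B₁ (Localization.AtPrime P)]
    exact hPT _ (hP (hle hx))
  have hsmulT : ∀ (x : B₂) (ω : Ω[B₂⁄A]), (1 : Localization.AtPrime P) ⊗ₜ[B₂] (x • ω) =
      algebraMap B₂ (Localization.AtPrime P) x • ((1 : Localization.AtPrime P) ⊗ₜ[B₂] ω) := by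
    intro x ω
    rw [← TensorProduct.smul_tmul, TensorProduct.smul_tmul', Algebra.smul_def, smul_eq_mul]
  have hν0mul : ∀ x y : RingHom.ker σ₂, ν0 (x * y) = 0 := by
    intro x y
    rw [hν0]
    have : ((x * y : RingHom.ker σ₂) : B₂) = x.1 * y.1 := rfl
    rw [this, Derivation.leibniz, TensorProduct.tmul_add, hsmulT, hsmulT, TensorProduct.tmul_add,
      hkill _ (hmT _ x.2), hkill _ (hmT _ y.2), add_zero]
  let ν := Ideal.Cotangent.lift ν0 hν0mul
  have hν : ∀ x : RingHom.ker σ₂, ν ((RingHom.ker σ₂).toCotangent x) =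
      (1 : P.ResidueField) ⊗ₜ[Localization.AtPrime P]
        ((1 : Localization.AtPrime P) ⊗ₜ[B₂] D A B₂ x.1) := fun x => rfl
  let mc := LinearEquiv.ofBijective _ hcot
  have hmc : ∀ x : RingHom.ker σ₂, mc ((RingHom.ker σ₂).toCotangent x) =
      (RingHom.ker σ₁).toCotangent ⟨algebraMap B₂ B₁ x.1, hle x.2⟩ := fun x => rfl
  -- the derivation `δ₁ : B₁ → κ ⊗ (T ⊗ Ω)`
  let L : B₁ →ₗ[A] P.ResidueField ⊗[Localization.AtPrime P]
      ((Localization.AtPrime P) ⊗[B₂] Ω[B₂⁄A]) := ν ∘ₗ mc.symm.toLinearMap ∘ₗ augRho σ₁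
  have hL : ∀ y, L y = ν (mc.symm (augRho σ₁ y)) := fun y => rfl
  let δ₁ : Derivation A B₁ (P.ResidueField ⊗[Localization.AtPrime P]
      ((Localization.AtPrime P) ⊗[B₂] Ω[B₂⁄A])) :=
    Derivation.mk' L (fun y y' => by
      rw [hL, hL, hL, augRho_mul, smul_cotangent σ₁ y, smul_cotangent σ₁ y', map_add, map_add,
        map_smul, map_smul, map_smul, map_smul, hVsmul, hVsmul])
  have hδ₁ : ∀ y, δ₁ y = ν (mc.symm (augRho σ₁ y)) := fun y => rfl
  have hbc1 : IsBaseChange (Localization.AtPrime P)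
      (KaehlerDifferential.map A A B₁ (Localization.AtPrime P)) :=
    IsLocalizedModule.isBaseChange P.primeCompl _ _
  let Θ := hbc1.lift δ₁.liftKaehlerDifferential
  have hΘD : ∀ y : B₁, Θ (D A (Localization.AtPrime P) (algebraMap B₁ _ y)) = δ₁ y := by
    intro y
    rw [← KaehlerDifferential.map_D A A B₁ (Localization.AtPrime P)]
    erw [hbc1.lift_eq]
    exact Derivation.liftKaehlerDifferential_comp_D _ _
  have hfD : ∀ x : B₂, KaehlerDifferential.mapBaseChange A B₂ (Localization.AtPrime P)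
      ((1 : Localization.AtPrime P) ⊗ₜ[B₂] D A B₂ x) =
      D A (Localization.AtPrime P) (algebraMap B₁ _ (algebraMap B₂ B₁ x)) := by
    intro x
    rw [KaehlerDifferential.mapBaseChange_tmul, one_smul, KaehlerDifferential.map_D,
      ← IsScalarTower.algebraMap_apply]
  have hρφ : ∀ x : B₂, augRho σ₁ (algebraMap B₂ B₁ x) = mc (augRho σ₂ x) := by
    intro x
    rw [augRho_apply, augRho_apply, hmc]
    congr 1
    ext
    simp only [map_sub, hφσ, ← IsScalarTower.algebraMap_apply]
  have hΘ1 : ∀ ω : Ω[B₂⁄A], Θ (KaehlerDifferential.mapBaseChange A B₂ (Localization.AtPrime P)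
      ((1 : Localization.AtPrime P) ⊗ₜ[B₂] ω)) =
      (1 : P.ResidueField) ⊗ₜ[Localization.AtPrime P] ((1 : Localization.AtPrime P) ⊗ₜ[B₂] ω) := by
    intro ω
    have hω : ω ∈ Submodule.span B₂ (Set.range (D A B₂)) := by
      rw [KaehlerDifferential.span_range_derivation]; trivial
    induction hω using Submodule.span_induction with
    | mem ω hω =>
      obtain ⟨x, rfl⟩ := hω
      rw [hfD, hΘD, hδ₁, hρφ, LinearEquiv.symm_apply_apply, augRho_apply, hν]
      simp only [map_sub, Derivation.map_algebraMap, sub_zero]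
    | zero => simp
    | add ω₁ ω₂ _ _ h1 h2 => rw [TensorProduct.tmul_add, map_add, map_add, h1, h2,
        TensorProduct.tmul_add]
    | smul x ω _ h =>
      rw [hsmulT, map_smul, map_smul, h, TensorProduct.tmul_smul]
  have hΘ : ∀ m : (Localization.AtPrime P) ⊗[B₂] Ω[B₂⁄A],
      Θ (KaehlerDifferential.mapBaseChange A B₂ (Localization.AtPrime P) m) =
      (1 : P.ResidueField) ⊗ₜ[Localization.AtPrime P] m := by
    intro m
    induction m using TensorProduct.induction_on with
    | zero => simp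
    | tmul t ω =>
      have : t ⊗ₜ[B₂] ω = t • ((1 : Localization.AtPrime P) ⊗ₜ[B₂] ω) := by
        rw [TensorProduct.smul_tmul', smul_eq_mul, mul_one]
      rw [this, map_smul, map_smul, hΘ1, TensorProduct.tmul_smul]
    | add m₁ m₂ h1 h2 => rw [map_add, map_add, h1, h2, TensorProduct.tmul_add]
  -- surjectivity
  have hjac : IsLocalRing.maximalIdeal (Localization.AtPrime P) ≤ Ideal.jacobson ⊥ :=
    IsLocalRing.maximalIdeal_le_jacobson ⊥
  have hsurj : Function.Surjective
      (KaehlerDifferential.mapBaseChange A B₂ (Localization.AtPrime P)) := by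
    rw [← LinearMap.range_eq_top, eq_top_iff]
    refine Submodule.le_of_le_smul_of_le_jacobson_bot Module.Finite.fg_top hjac ?_
    have hspan := KaehlerDifferential.span_range_map_derivation_of_isLocalization A B₁
      (Localization.AtPrime P) P.primeCompl
    intro ω _
    have hω : ω ∈ Submodule.span (Localization.AtPrime P)
        (Set.range (KaehlerDifferential.map A A B₁ (Localization.AtPrime P) ∘ D A B₁)) := by
      rw [hspan]; trivial
    refine (Submodule.span_le.mpr ?_) hω
    rintro _ ⟨y, rfl⟩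
    simp only [Function.comp_apply, KaehlerDifferential.map_D]
    -- reduce to `y ∈ b₁`
    have hy' := sub_mem_ker σ₁ y
    obtain ⟨n₂, hn₂⟩ := hcot.2 ((RingHom.ker σ₁).toCotangent ⟨_, hy'⟩)
    obtain ⟨x, rfl⟩ := Ideal.toCotangent_surjective _ n₂
    have hn₂' : mc ((RingHom.ker σ₂).toCotangent x) = (RingHom.ker σ₁).toCotangent ⟨_, hy'⟩ := hn₂
    rw [hmc, Ideal.toCotangent_eq] at hn₂'
    -- `u := φ x - y' ∈ b₁²`
    have hDy : D A (Localization.AtPrime P) (algebraMap B₁ _ y) =
        D A (Localization.AtPrime P) (algebraMap B₁ _ (algebraMap B₂ B₁ x.1)) -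
        D A (Localization.AtPrime P) (algebraMap B₁ _
          (algebraMap B₂ B₁ x.1 - (y - algebraMap A B₁ (σ₁ y)))) := by
      rw [← map_sub, ← map_sub, sub_sub_cancel, map_sub, map_sub,
        ← IsScalarTower.algebraMap_apply A B₁, Derivation.map_algebraMap, sub_zero]
    rw [hDy]
    refine Submodule.sub_mem _ (Submodule.mem_sup_left ⟨_, hfD x.1⟩) (Submodule.mem_sup_right ?_)
    have hu : algebraMap B₂ B₁ x.1 - (y - algebraMap A B₁ (σ₁ y)) ∈ RingHom.ker σ₁ ^ 2 := hn₂'
    rw [pow_two] at hu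
    refine Submodule.mul_induction_on hu (fun a ha b hb => ?_) (fun a b ha hb => ?_)
    · rw [map_mul, Derivation.leibniz]
      exact Submodule.add_mem _ (Submodule.smul_mem_smul (hPT _ (hP ha)) Submodule.mem_top)
        (Submodule.smul_mem_smul (hPT _ (hP hb)) Submodule.mem_top)
    · rw [map_add, map_add]; exact Submodule.add_mem _ ha hb
  -- injectivity
  have hinj : Function.Injective
      (KaehlerDifferential.mapBaseChange A B₂ (Localization.AtPrime P)) := by
    obtain ⟨s, hs⟩ := Module.projective_lifting_property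
      (KaehlerDifferential.mapBaseChange A B₂ (Localization.AtPrime P)) LinearMap.id hsurj
    set f := KaehlerDifferential.mapBaseChange A B₂ (Localization.AtPrime P) with hf
    have hs' : ∀ ω, f (s ω) = ω := fun ω => LinearMap.congr_fun hs ω
    let π : (Localization.AtPrime P) ⊗[B₂] Ω[B₂⁄A] →ₗ[Localization.AtPrime P]
        (Localization.AtPrime P) ⊗[B₂] Ω[B₂⁄A] := LinearMap.id - s ∘ₗ f
    have hπ : ∀ v, π v = v - s (f v) := fun v => rfl
    have hrange : LinearMap.range π = LinearMap.ker f := by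
      apply le_antisymm
      · rintro _ ⟨v, rfl⟩
        rw [LinearMap.mem_ker, hπ, map_sub, hs', sub_self]
      · intro v hv
        exact ⟨v, by rw [hπ, LinearMap.mem_ker.mp hv, map_zero, sub_zero]⟩
    have hfg : (LinearMap.ker f).FG := by
      rw [← hrange, LinearMap.range_eq_map]
      exact Module.Finite.fg_top.map π
    have hle' : LinearMap.ker f ≤
        IsLocalRing.maximalIdeal (Localization.AtPrime P) • LinearMap.ker f := by
      intro v hv
      have h1 : (1 : P.ResidueField) ⊗ₜ[Localization.AtPrime P] v = 0 := by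
        rw [← hΘ, LinearMap.mem_ker.mp hv, map_zero]
      have h2 : v ∈ IsLocalRing.maximalIdeal (Localization.AtPrime P) •
          (⊤ : Submodule (Localization.AtPrime P) ((Localization.AtPrime P) ⊗[B₂] Ω[B₂⁄A])) := by
        rw [← LinearMap.ker_tensorProductMk]
        exact h1
      have h3 : π v ∈ Submodule.map π (IsLocalRing.maximalIdeal (Localization.AtPrime P) •
          (⊤ : Submodule (Localization.AtPrime P) ((Localization.AtPrime P) ⊗[B₂] Ω[B₂⁄A]))) :=
        Submodule.mem_map_of_mem h2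
      rw [Submodule.map_smul'', Submodule.map_top, hrange, hπ, LinearMap.mem_ker.mp hv, map_zero,
        sub_zero] at h3
      exact h3
    have := Submodule.eq_bot_of_le_smul_of_le_jacobson_bot _ _ hfg hle' hjac
    exact LinearMap.ker_eq_bot.mp this
  exact EtChart.formallyEtale_of_bijective_mapBaseChange A B₂ (Localization.AtPrime P) ⟨hinj, hsurj⟩

end Groth.Agent.Lib.Helper8.AugEtale
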