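import Mathlib
import Groth.Agent.Lib.Helper8.SmoothQuot
set_option autoImplicit false
open TensorProduct KaehlerDifferential IsLocalRing

/-! Smoothness along a section: closed subschemes through the unit section (SGA 3 type criterion). -/

namespace Groth.Agent.Lib.Helper8.AugSmooth
open Groth.Agent.Lib.Helper8.SmoothQuot
universe u

section Global
variable (R A : Type*) [CommRing R] [CommRing A] [Algebra R A]

/-- If `J ∩ I² = I J` and `I/(J+I²)` is a projective `R`-module (`I = ker ε`), then
`J ∩ q I ⊆ q J` for any ideal `q ⊇ I`. -/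
theorem inf_mul_le (ε : A →ₐ[R] R) (J : Ideal A) (hJI : J ≤ RingHom.ker ε)
    (h2 : J ⊓ RingHom.ker ε ^ 2 = RingHom.ker ε * J)
    (h3 : Module.Projective R (↥(RingHom.ker ε) ⧸
      Submodule.comap (RingHom.ker ε).subtype (J ⊔ RingHom.ker ε ^ 2)))
    (q : Ideal A) (hIq : RingHom.ker ε ≤ q) : J ⊓ (q * RingHom.ker ε) ≤ q * J := by
  let S : Submodule A ↥(RingHom.ker ε) :=
    Submodule.comap (RingHom.ker ε).subtype (J ⊔ RingHom.ker ε ^ 2)
  let π : ↥(RingHom.ker ε) →ₗ[R] (↥(RingHom.ker ε) ⧸ S) := S.mkQ.restrictScalars R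
  have hπ : Function.Surjective π := S.mkQ_surjective
  obtain ⟨σ, hσ⟩ := Module.projective_lifting_property π LinearMap.id hπ
  have hσ' : ∀ y, π (σ y) = y := fun y => LinearMap.congr_fun hσ y
  have hπ0 : ∀ x : ↥(RingHom.ker ε), (x : A) ∈ J ⊔ RingHom.ker ε ^ 2 → π x = 0 :=
    fun x hx => (Submodule.Quotient.mk_eq_zero S).mpr hx
  have hΘmem : ∀ x : ↥(RingHom.ker ε),
      ((x - σ (π x) : ↥(RingHom.ker ε)) : A) ∈ J ⊔ RingHom.ker ε ^ 2 := by
    intro x
    have h : π (x - σ (π x)) = 0 := by
      rw [map_sub, hσ', sub_self]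
    exact (Submodule.Quotient.mk_eq_zero S).mp h
  have key : ∀ z : ↥(RingHom.ker ε), z ∈ q • (⊤ : Submodule A ↥(RingHom.ker ε)) →
      ((z - σ (π z) : ↥(RingHom.ker ε)) : A) ∈ q * J ⊔ RingHom.ker ε ^ 2 := by
    intro z hz
    refine Submodule.smul_induction_on hz ?_ ?_
    · intro a ha x _
      have hbI : a - algebraMap R A (ε a) ∈ RingHom.ker ε := by
        rw [RingHom.mem_ker, map_sub, AlgHom.commutes]
        simp
      have hεq : algebraMap R A (ε a) ∈ q := by
        have h0 : algebraMap R A (ε a) = a - (a - algebraMap R A (ε a)) := by ring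
        rw [h0]
        exact q.sub_mem ha (hIq hbI)
      have hdecomp : a • x = (ε a) • x + (a - algebraMap R A (ε a)) • x := by
        rw [← algebraMap_smul A (ε a) x, ← add_smul]
        congr 1
        ring
      have hbx : (((a - algebraMap R A (ε a)) • x : ↥(RingHom.ker ε)) : A) ∈
          RingHom.ker ε ^ 2 := by
        rw [pow_two]
        exact Ideal.mul_mem_mul hbI x.2
      have hπbx : π ((a - algebraMap R A (ε a)) • x) = 0 :=
        hπ0 _ (Submodule.mem_sup_right hbx)
      have h5 : (a • x - σ (π (a • x)) : ↥(RingHom.ker ε)) =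
          (ε a) • (x - σ (π x)) + (a - algebraMap R A (ε a)) • x := by
        rw [hdecomp, map_add, map_add, hπbx, map_zero, add_zero, map_smul, map_smul, smul_sub]
        abel
      rw [h5]
      obtain ⟨j, hj, w, hw, hjw⟩ := Submodule.mem_sup.mp (hΘmem x)
      have h6 : (((ε a) • (x - σ (π x)) + (a - algebraMap R A (ε a)) • x : ↥(RingHom.ker ε)) : A)
          = algebraMap R A (ε a) * j +
            (algebraMap R A (ε a) * w + (a - algebraMap R A (ε a)) * x) := by
        rw [Submodule.coe_add, Submodule.coe_smul_of_tower, ← hjw, Algebra.smul_def, mul_add,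
          add_assoc]
        rfl
      rw [h6]
      exact Submodule.add_mem_sup (Ideal.mul_mem_mul hεq hj)
        (Ideal.add_mem _ (Ideal.mul_mem_left _ _ hw) hbx)
    · intro x y hx hy
      have h7 : (x + y - σ (π (x + y)) : ↥(RingHom.ker ε)) =
          (x - σ (π x)) + (y - σ (π y)) := by
        rw [map_add, map_add]
        abel
      rw [h7, Submodule.coe_add]
      exact Ideal.add_mem _ hx hy
  rintro z ⟨hzJ, hzqI⟩
  have hzI : z ∈ RingHom.ker ε := hJI hzJ
  have hz' : (⟨z, hzI⟩ : ↥(RingHom.ker ε)) ∈ q • (⊤ : Submodule A ↥(RingHom.ker ε)) := by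
    rw [Submodule.mem_smul_top_iff]
    exact hzqI
  have h8 := key ⟨z, hzI⟩ hz'
  have h9 : π ⟨z, hzI⟩ = 0 := hπ0 _ (Submodule.mem_sup_left hzJ)
  rw [h9, map_zero, sub_zero] at h8
  obtain ⟨u, hu, w, hw, huw⟩ := Submodule.mem_sup.mp h8
  change u + w = z at huw
  have huJ : u ∈ J := Ideal.mul_le_right hu
  have hwJ : w ∈ J ⊓ RingHom.ker ε ^ 2 := by
    refine ⟨?_, hw⟩
    have h10 : w = z - u := by
      rw [← huw]
      simp
    rw [h10]
    exact J.sub_mem hzJ huJ
  rw [h2] at hwJ
  have h11 : z = u + w := huw.symm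
  rw [h11]
  exact Ideal.add_mem _ hu (Ideal.mul_mono_left hIq hwJ)

end Global


section Local

lemma isScalarTower_quotient_map (R : Type*) {A : Type*} (T : Type*) [CommRing R] [CommRing A]
    [CommRing T] [Algebra R A] [Algebra A T] [Algebra R T] [IsScalarTower R A T] (I : Ideal A) :
    IsScalarTower R (A ⧸ I) (T ⧸ I.map (algebraMap A T)) :=
  IsScalarTower.of_algebraMap_eq fun r => by
    rw [IsScalarTower.algebraMap_apply R A (A ⧸ I), Ideal.Quotient.algebraMap_eq,
      Ideal.Quotient.algebraMap_quotient_map_quotient,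
      IsScalarTower.algebraMap_apply R T (T ⧸ I.map (algebraMap A T)),
      ← IsScalarTower.algebraMap_apply R A T]
    rfl

variable (R A : Type u) [CommRing R] [CommRing A] [Algebra R A]

theorem formallySmooth_localization_quotient_ker (ε : A →ₐ[R] R) (q : Ideal A) [q.IsPrime] :
    Algebra.FormallySmooth R (Localization.AtPrime q ⧸
      (RingHom.ker ε).map (algebraMap A (Localization.AtPrime q))) := by
  have hsurj : Function.Surjective ε := fun r => ⟨algebraMap R A r, by simp⟩
  haveI : Algebra.FormallySmooth R (A ⧸ RingHom.ker ε) :=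
    Algebra.FormallySmooth.of_equiv (Ideal.quotientKerAlgEquivOfSurjective hsurj).symm
  haveI := isScalarTower_quotient_map R (Localization.AtPrime q) (RingHom.ker ε)
  haveI : Algebra.FormallySmooth (A ⧸ RingHom.ker ε) (Localization.AtPrime q ⧸
      (RingHom.ker ε).map (algebraMap A (Localization.AtPrime q))) :=
    Algebra.FormallySmooth.of_isLocalization
      (Algebra.algebraMapSubmonoid (A ⧸ RingHom.ker ε) q.primeCompl)
  exact Algebra.FormallySmooth.comp R (A ⧸ RingHom.ker ε) _

variable [Algebra.Smooth R A]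

theorem formallySmooth_quotient_of_augmentation (ε : A →ₐ[R] R) (J : Ideal A)
    (hJI : J ≤ RingHom.ker ε) (h1 : J.FG)
    (h2 : J ⊓ RingHom.ker ε ^ 2 = RingHom.ker ε * J)
    (h3 : Module.Projective R (↥(RingHom.ker ε) ⧸
      Submodule.comap (RingHom.ker ε).subtype (J ⊔ RingHom.ker ε ^ 2)))
    (q : Ideal A) [q.IsPrime] (hIq : RingHom.ker ε ≤ q) :
    Algebra.FormallySmooth R (Localization.AtPrime q ⧸
      J.map (algebraMap A (Localization.AtPrime q))) := by
  classical
  have hm : q.map (algebraMap A (Localization.AtPrime q)) =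
      maximalIdeal (Localization.AtPrime q) :=
    IsLocalization.AtPrime.map_eq_maximalIdeal q (Localization.AtPrime q)
  have hJ'fg : (J.map (algebraMap A (Localization.AtPrime q))).FG := h1.map _
  have hstep2 : J.map (algebraMap A (Localization.AtPrime q)) ⊓
      (maximalIdeal (Localization.AtPrime q) *
        (RingHom.ker ε).map (algebraMap A (Localization.AtPrime q))) ≤
      maximalIdeal (Localization.AtPrime q) * J.map (algebraMap A (Localization.AtPrime q)) := by
    rw [← hm, ← Ideal.map_mul, ← Ideal.map_mul,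
      ← IsLocalization.map_inf q.primeCompl (Localization.AtPrime q)]
    exact Ideal.map_mono (inf_mul_le R A ε J hJI h2 h3 q hIq)
  obtain ⟨κ', a, hfin, hinj, hsp, hli⟩ :=
    exists_subfamily_basis (J.map (algebraMap A (Localization.AtPrime q))) hJ'fg
      (fun x : J => algebraMap A (Localization.AtPrime q) x)
      (fun x => Ideal.mem_map_of_mem _ x.2) (by
        unfold Ideal.map
        congr 1
        ext y
        constructor
        · rintro ⟨⟨x, hx⟩, rfl⟩
          exact ⟨x, hx, rfl⟩
        · rintro ⟨x, hx, rfl⟩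
          exact ⟨⟨x, hx⟩, rfl⟩)
  haveI := Fintype.ofFinite κ'
  have hgJ : ∀ i, algebraMap A (Localization.AtPrime q) (a i) ∈
      J.map (algebraMap A (Localization.AtPrime q)) := fun i => Ideal.mem_map_of_mem _ (a i).2
  have hgI : ∀ i, algebraMap A (Localization.AtPrime q) (a i) ∈
      (RingHom.ker ε).map (algebraMap A (Localization.AtPrime q)) :=
    fun i => Ideal.mem_map_of_mem _ (hJI (a i).2)
  haveI := formallySmooth_localization_quotient_ker R A ε q
  have hI'le : (RingHom.ker ε).map (algebraMap A (Localization.AtPrime q)) ≤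
      maximalIdeal (Localization.AtPrime q) := by
    rw [← hm]; exact Ideal.map_mono hIq
  have hD := linearIndependent_of_formallySmooth_quotient (R := R)
    ((RingHom.ker ε).map (algebraMap A (Localization.AtPrime q))) hI'le
    (fun i => algebraMap A (Localization.AtPrime q) (a i)) hgI
    (fun t ht i => mem_maximalIdeal_of_sum_mem_mul
      (J.map (algebraMap A (Localization.AtPrime q))) _ hgJ hli t
      (hstep2 ⟨Ideal.sum_mem _ fun i _ => Ideal.mul_mem_left _ _ (hgJ i), ht⟩) i)
  have h4 := formallySmooth_quotient_of_linearIndependent (R := R)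
    (fun i => algebraMap A (Localization.AtPrime q) (a i)) hD
  rw [show Ideal.span (Set.range fun i => algebraMap A (Localization.AtPrime q) (a i)) =
    J.map (algebraMap A (Localization.AtPrime q)) from hsp] at h4
  exact h4

/-- Smoothness of a closed subscheme through a section at points of the section
(SGA 3 VI_B type criterion, affine form). -/
theorem isSmoothAt_of_augmentation (ε : A →ₐ[R] R) (J : Ideal A)
    (hJI : J ≤ RingHom.ker ε) (h1 : J.FG)
    (h2 : J ⊓ RingHom.ker ε ^ 2 = RingHom.ker ε * J)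
    (h3 : Module.Projective R (↥(RingHom.ker ε) ⧸
      Submodule.comap (RingHom.ker ε).subtype (J ⊔ RingHom.ker ε ^ 2)))
    (P : Ideal (A ⧸ J)) [P.IsPrime] (hP : (RingHom.ker ε).map (Ideal.Quotient.mk J) ≤ P) :
    Algebra.IsSmoothAt R P := by
  rw [Algebra.IsSmoothAt, formallySmooth_localization_quotient_iff R J P]
  exact formallySmooth_quotient_of_augmentation R A ε J hJI h1 h2 h3 _
    (Ideal.map_le_iff_le_comap.mp hP)

end Local

end Groth.Agent.Lib.Helper8.AugSmooth
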