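import Mathlib
import Groth.Prelude
import Groth.Agent.Lib.Helper8.UnibranchMain
import Groth.Agent.Lib.Helper8.PInsepBranches

/-!
# Geometric unibranchness along an integral "birational" ring map: local core

`A` a local ring, `D` an integral `A`-algebra such that both nilradicals are prime, the nilradical
of `D` contracts to that of `A`, and `D_red` lies in the fraction field of `A_red` (`Hyp A D`).
Then `normRed A ≃ normRed D`, and `A` is geometrically unibranch iff `D` is local, geometrically
unibranch, with purely inseparable residue field extension.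
-/

set_option autoImplicit false
universe u
open IsLocalRing

namespace Groth.Agent.Lib.Helper8.BiratUnib

/-- The canonical map `A → normRed A`. -/
noncomputable def toNorm (A : Type u) [CommRing A] : A →+* CAlg2.normRed A :=
  (algebraMap (CAlg2.red A) (CAlg2.normRed A)).comp (Ideal.Quotient.mk (nilradical A))

theorem toNorm_isIntegral (A : Type u) [CommRing A] : (toNorm A).IsIntegral := by
  have h : toNorm A = algebraMap A (CAlg2.normRed A) := rfl
  rw [h]
  exact algebraMap_isIntegral_iff.mpr (UnibranchHens.isIntegral_normRed A)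

theorem toNorm_eq_zero_iff (A : Type u) [CommRing A] (a : A) :
    toNorm A a = 0 ↔ a ∈ nilradical A := by
  constructor
  · intro h
    have h1 : algebraMap (CAlg2.red A) (FractionRing (CAlg2.red A))
        (Ideal.Quotient.mk (nilradical A) a) = 0 := congrArg Subtype.val h
    have h2 := (IsFractionRing.injective (CAlg2.red A) (FractionRing (CAlg2.red A)))
      (h1.trans (map_zero _).symm)
    exact Ideal.Quotient.eq_zero_iff_mem.mp h2
  · intro h
    show algebraMap (CAlg2.red A) (CAlg2.normRed A) (Ideal.Quotient.mk (nilradical A) a) = 0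
    rw [Ideal.Quotient.eq_zero_iff_mem.mpr h, map_zero]

/-- A ring with an integral map to a local ring whose kernel consists of nilpotents is local. -/
theorem isLocalRing_of_isIntegral {D B : Type*} [CommRing D] [CommRing B] (g : D →+* B)
    (hg : g.IsIntegral) (hker : RingHom.ker g ≤ nilradical D) [IsLocalRing B] : IsLocalRing D := by
  let := g.toAlgebra
  have : Algebra.IsIntegral D B := ⟨hg⟩
  have : Nontrivial D := g.domain_nontrivial
  apply IsLocalRing.of_unique_max_ideal
  have key : ∀ m : Ideal D, m.IsMaximal → m = (maximalIdeal B).comap g := by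
    intro m hm
    have := hm
    have hle : RingHom.ker (algebraMap D B) ≤ m := hker.trans (nilradical_le_prime m)
    obtain ⟨Q, hQ, hQm⟩ := Ideal.exists_ideal_over_maximal_of_isIntegral (S := B) m hle
    rw [← hQm, IsLocalRing.eq_maximalIdeal hQ]
    rfl
  obtain ⟨m, hm⟩ := Ideal.exists_maximal D
  exact ⟨m, hm, fun m' hm' => (key m' hm').trans (key m hm).symm⟩

theorem ringExpChar_quotient_eq {A B : Type*} [CommRing A] [IsLocalRing A] [CommRing B]
    (g : A →+* B) (hg : g.IsIntegral) (M : Ideal B) [M.IsMaximal] :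
    ringExpChar (B ⧸ M) = ringExpChar (ResidueField A) := by
  have := Ideal.isMaximal_comap_of_isIntegral_of_isMaximal' g hg M
  have h1 : M.comap g = maximalIdeal A := IsLocalRing.eq_maximalIdeal inferInstance
  let ψ : ResidueField A →+* B ⧸ M := Ideal.quotientMap M g (le_of_eq h1.symm)
  have : ExpChar (B ⧸ M) (ringExpChar (ResidueField A)) :=
    expChar_of_injective_ringHom ψ.injective _
  exact ringExpChar.eq _ _

theorem comap_eq_maximalIdeal {A B : Type*} [CommRing A] [IsLocalRing A] [CommRing B]
    (g : A →+* B) (hg : g.IsIntegral) (M : Ideal B) [M.IsMaximal] :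
    M.comap g = maximalIdeal A := by
  have := Ideal.isMaximal_comap_of_isIntegral_of_isMaximal' g hg M
  exact IsLocalRing.eq_maximalIdeal inferInstance

/-- Elementwise form of "the residue field extension is purely inseparable". -/
def PIel {A B : Type*} [CommRing A] [CommRing B] [IsLocalRing A] [IsLocalRing B]
    (φ : A →+* B) : Prop :=
  ∀ b : B, ∃ (n : ℕ) (a : A), b ^ (ringExpChar (ResidueField A)) ^ n - φ a ∈ maximalIdeal B

theorem isPurelyInseparable_residueField_iff {A B : Type*} [CommRing A] [CommRing B]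
    [IsLocalRing A] [IsLocalRing B] (φ : A →+* B) [IsLocalHom φ] :
    (ResidueField.map φ).IsPurelyInseparable ↔ PIel φ := by
  let := (ResidueField.map φ).toAlgebra
  show IsPurelyInseparable (ResidueField A) (ResidueField B) ↔ _
  rw [isPurelyInseparable_iff_pow_mem (ResidueField A) (ringExpChar (ResidueField A))]
  constructor
  · intro h b
    obtain ⟨n, y, hy⟩ := h (residue B b)
    obtain ⟨a, rfl⟩ := residue_surjective y
    refine ⟨n, a, ?_⟩
    have h1 : residue B (φ a) = residue B b ^ (ringExpChar (ResidueField A)) ^ n := hy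
    rw [← residue_eq_zero_iff, map_sub, map_pow, h1, sub_self]
  · intro h x
    obtain ⟨b, rfl⟩ := residue_surjective x
    obtain ⟨n, a, ha⟩ := h b
    refine ⟨n, residue A a, ?_⟩
    have h1 := (residue_eq_zero_iff _).mpr ha
    rw [map_sub, map_pow, sub_eq_zero] at h1
    show residue B (φ a) = _
    exact h1.symm

/-- Hypotheses on an algebra `A → D`. -/
structure Hyp (A D : Type u) [CommRing A] [CommRing D] [Algebra A D] : Prop where
  nilA : (nilradical A).IsPrime
  nilD : (nilradical D).IsPrime
  comap_eq : (nilradical D).comap (algebraMap A D) = nilradical A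
  frac : ∀ d : D, ∃ a s : A, s ∉ nilradical A ∧
    algebraMap A D s * d - algebraMap A D a ∈ nilradical D

section Core

variable {A D : Type u} [CommRing A] [CommRing D] [Algebra A D] [Algebra.IsIntegral A D]

theorem exists_normEquiv (H : Hyp A D) :
    ∃ e : CAlg2.normRed A ≃+* CAlg2.normRed D,
      ∀ a : A, e (toNorm A a) = toNorm D (algebraMap A D a) := by
  have := H.nilA
  have := H.nilD
  have : IsDomain (CAlg2.red A) := Ideal.Quotient.isDomain _
  have : IsDomain (CAlg2.red D) := Ideal.Quotient.isDomain _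
  let ρ : CAlg2.red A →+* CAlg2.red D :=
    Ideal.quotientMap (nilradical D) (algebraMap A D) (le_of_eq H.comap_eq.symm)
  have hρmk : ∀ a : A, ρ (Ideal.Quotient.mk _ a) = Ideal.Quotient.mk _ (algebraMap A D a) :=
    fun a => rfl
  have hρ : Function.Injective ρ := by
    rw [injective_iff_map_eq_zero]
    intro a ha
    obtain ⟨a, rfl⟩ := Ideal.Quotient.mk_surjective a
    rw [hρmk, Ideal.Quotient.eq_zero_iff_mem] at ha
    have h2 : a ∈ (nilradical D).comap (algebraMap A D) := ha
    rw [H.comap_eq] at h2
    exact Ideal.Quotient.eq_zero_iff_mem.mpr h2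
  let ι : CAlg2.red D →+* FractionRing (CAlg2.red D) := algebraMap _ _
  have hι : Function.Injective ι := IsFractionRing.injective _ _
  have hinj : Function.Injective (ι.comp ρ) := hι.comp hρ
  let ψ : FractionRing (CAlg2.red A) →+* FractionRing (CAlg2.red D) := IsFractionRing.lift hinj
  have hψ : ∀ a : CAlg2.red A, ψ (algebraMap _ _ a) = ι (ρ a) :=
    fun a => IsFractionRing.lift_algebraMap hinj a
  -- surjectivity
  have hmem : ∀ x : CAlg2.red D, ι x ∈ ψ.fieldRange := by
    intro x
    obtain ⟨d, rfl⟩ := Ideal.Quotient.mk_surjective x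
    obtain ⟨a, s, hs, hds⟩ := H.frac d
    have hs0 : (Ideal.Quotient.mk (nilradical A) s) ≠ 0 := by
      intro h0; exact hs (Ideal.Quotient.eq_zero_iff_mem.mp h0)
    have hne : ι (ρ (Ideal.Quotient.mk (nilradical A) s)) ≠ 0 := by
      intro h0
      exact hs0 (hinj (h0.trans (map_zero _).symm))
    have heq : ρ (Ideal.Quotient.mk (nilradical A) s) * Ideal.Quotient.mk (nilradical D) d =
        ρ (Ideal.Quotient.mk (nilradical A) a) := by
      rw [hρmk, hρmk, ← map_mul, ← sub_eq_zero, ← map_sub]
      exact Ideal.Quotient.eq_zero_iff_mem.mpr hds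
    have h2 : ι (Ideal.Quotient.mk (nilradical D) d) =
        ψ (algebraMap (CAlg2.red A) (FractionRing (CAlg2.red A)) (Ideal.Quotient.mk (nilradical A) a) /
          algebraMap (CAlg2.red A) (FractionRing (CAlg2.red A))
            (Ideal.Quotient.mk (nilradical A) s)) := by
      rw [map_div₀, hψ, hψ, eq_div_iff hne, ← heq, map_mul, mul_comm]
    rw [h2]
    exact RingHom.mem_fieldRange_self _ _
  have hsurj : Function.Surjective ψ := by
    intro z
    obtain ⟨x, y, -, rfl⟩ := IsFractionRing.div_surjective (A := CAlg2.red D) z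
    exact RingHom.mem_fieldRange.mp (div_mem (hmem x) (hmem y))
  let Ψ : FractionRing (CAlg2.red A) ≃+* FractionRing (CAlg2.red D) :=
    RingEquiv.ofBijective ψ ⟨ψ.injective, hsurj⟩
  have hint : ∀ x : FractionRing (CAlg2.red A), IsIntegral (CAlg2.red A) x →
      IsIntegral (CAlg2.red D) (ψ x) :=
    fun x hx => IsIntegral.map_of_comp_eq ρ ψ (RingHom.ext fun a => (hψ a).symm) hx
  have hint' : ∀ y : FractionRing (CAlg2.red D), IsIntegral (CAlg2.red D) y →
      IsIntegral (CAlg2.red A) (Ψ.symm y) := by
    intro y hy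
    let : Algebra (CAlg2.red A) (CAlg2.red D) := ρ.toAlgebra
    have : Algebra.IsIntegral (CAlg2.red A) (CAlg2.red D) := ⟨fun d => by
      obtain ⟨d, rfl⟩ := Ideal.Quotient.mk_surjective d
      exact IsIntegral.map_of_comp_eq (Ideal.Quotient.mk (nilradical A))
        (Ideal.Quotient.mk (nilradical D)) (RingHom.ext fun a => rfl)
        (Algebra.IsIntegral.isIntegral (R := A) d)⟩
    have h1 : IsIntegral (CAlg2.red A) y := isIntegral_trans (A := CAlg2.red D) y hy
    have hcomm : ∀ a : CAlg2.red A, ψ (algebraMap _ _ a) =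
        algebraMap (CAlg2.red A) (FractionRing (CAlg2.red D)) a := by
      intro a
      rw [IsScalarTower.algebraMap_apply (CAlg2.red A) (CAlg2.red D)
        (FractionRing (CAlg2.red D))]
      exact hψ a
    let ψA : FractionRing (CAlg2.red A) →ₐ[CAlg2.red A] FractionRing (CAlg2.red D) :=
      { ψ with commutes' := hcomm }
    have h2 : ψA (Ψ.symm y) = y := Ψ.apply_symm_apply y
    rw [← h2] at h1
    exact (isIntegral_algHom_iff ψA ψ.injective).mp h1
  let θf : CAlg2.normRed A →+* CAlg2.normRed D :=
    { toFun := fun x => ⟨ψ x.1, hint x.1 x.2⟩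
      map_one' := Subtype.ext (map_one ψ)
      map_mul' := fun a b => Subtype.ext (map_mul ψ a.1 b.1)
      map_zero' := Subtype.ext (map_zero ψ)
      map_add' := fun a b => Subtype.ext (map_add ψ a.1 b.1) }
  have hbij : Function.Bijective θf := by
    constructor
    · intro x y h
      exact Subtype.ext (ψ.injective (congrArg Subtype.val h))
    · intro y
      exact ⟨⟨Ψ.symm y.1, hint' y.1 y.2⟩, Subtype.ext (Ψ.apply_symm_apply y.1)⟩
  refine ⟨RingEquiv.ofBijective θf hbij, fun a => ?_⟩
  apply Subtype.ext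
  exact hψ _

theorem mem_maximalIdeal_iff_of_ringEquiv {R₁ R₂ : Type*} [CommRing R₁] [CommRing R₂]
    [IsLocalRing R₁] [IsLocalRing R₂] (e : R₁ ≃+* R₂) (x : R₁) :
    x ∈ maximalIdeal R₁ ↔ e x ∈ maximalIdeal R₂ := by
  rw [mem_maximalIdeal, mem_maximalIdeal, mem_nonunits_iff, mem_nonunits_iff]
  constructor
  · intro h hu
    apply h
    have := hu.map e.symm
    rwa [e.symm_apply_apply] at this
  · intro h hu
    exact h (hu.map e)

theorem forward (H : Hyp A D) [IsLocalRing A] (hA : CAlg2.IsGeomUnibranch A) :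
    ∃ _ : IsLocalRing D, PIel (algebraMap A D) ∧ CAlg2.IsGeomUnibranch D := by
  obtain ⟨⟨hdom, hloc⟩, hpi⟩ := hA
  obtain ⟨e, he⟩ := exists_normEquiv H
  have := hloc
  have hlocD' : IsLocalRing (CAlg2.normRed D) := e.isLocalRing
  have hD : IsLocalRing D := isLocalRing_of_isIntegral (toNorm D) (toNorm_isIntegral D)
    (fun d hd => (toNorm_eq_zero_iff D d).mp hd)
  have := hD
  have hint : ((toNorm D).comp (algebraMap A D)).IsIntegral :=
    RingHom.IsIntegral.trans _ _ (algebraMap_isIntegral_iff.mpr inferInstance) (toNorm_isIntegral D)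
  have hq : ringExpChar (CAlg2.normRed D ⧸ maximalIdeal (CAlg2.normRed D)) =
      ringExpChar (ResidueField A) := ringExpChar_quotient_eq _ hint _
  have hT := PInsep.pow_mem_range_transfer (toNorm A) ((toNorm D).comp (algebraMap A D)) e he
    (maximalIdeal (CAlg2.normRed A)) (maximalIdeal (CAlg2.normRed D))
    (mem_maximalIdeal_iff_of_ringEquiv e) (hpi (maximalIdeal (CAlg2.normRed A)))
  have hnD := H.nilD
  refine ⟨hD, ?_, ⟨⟨Ideal.Quotient.isDomain _, hlocD'⟩, ?_⟩⟩
  · intro d
    obtain ⟨n, a, ha⟩ := hT (Ideal.Quotient.mk _ (toNorm D d))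
    refine ⟨n, a, ?_⟩
    have hcm : (maximalIdeal (CAlg2.normRed D)).comap (toNorm D) = maximalIdeal D :=
      comap_eq_maximalIdeal _ (toNorm_isIntegral D) _
    rw [← hcm, Ideal.mem_comap, map_sub, map_pow, ← hq]
    rw [← Ideal.Quotient.eq_zero_iff_mem, map_sub, map_pow, sub_eq_zero]
    exact ha.symm
  · intro m'' hm''
    obtain rfl := IsLocalRing.eq_maximalIdeal hm''
    intro y
    obtain ⟨n, a, ha⟩ := hT y
    exact ⟨n, algebraMap A D a, ha⟩

theorem backward (H : Hyp A D) [IsLocalRing A] [IsLocalRing D] (hpi : PIel (algebraMap A D))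
    (hD : CAlg2.IsGeomUnibranch D) : CAlg2.IsGeomUnibranch A := by
  obtain ⟨⟨_, hlocD⟩, hpiD⟩ := hD
  obtain ⟨e, he⟩ := exists_normEquiv H
  have := hlocD
  have hlocA : IsLocalRing (CAlg2.normRed A) := e.symm.isLocalRing
  have hint : ((toNorm D).comp (algebraMap A D)).IsIntegral :=
    RingHom.IsIntegral.trans _ _ (algebraMap_isIntegral_iff.mpr inferInstance) (toNorm_isIntegral D)
  have hq : ringExpChar (CAlg2.normRed D ⧸ maximalIdeal (CAlg2.normRed D)) =
      ringExpChar (ResidueField A) := ringExpChar_quotient_eq _ hint _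
  have hcm : (maximalIdeal (CAlg2.normRed D)).comap (toNorm D) = maximalIdeal D :=
    comap_eq_maximalIdeal _ (toNorm_isIntegral D) _
  have step : ∀ y : CAlg2.normRed D ⧸ maximalIdeal (CAlg2.normRed D), ∃ n : ℕ,
      y ^ (ringExpChar (CAlg2.normRed D ⧸ maximalIdeal (CAlg2.normRed D))) ^ n ∈
        ((Ideal.Quotient.mk (maximalIdeal (CAlg2.normRed D))).comp
          ((toNorm D).comp (algebraMap A D))).range := by
    intro y
    obtain ⟨n, d, hd⟩ := hpiD (maximalIdeal (CAlg2.normRed D)) y
    obtain ⟨k, a, ha⟩ := hpi d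
    refine ⟨n + k, a, ?_⟩
    have h1 : toNorm D (d ^ (ringExpChar (ResidueField A)) ^ k - algebraMap A D a) ∈
        maximalIdeal (CAlg2.normRed D) := by
      rw [← Ideal.mem_comap, hcm]; exact ha
    rw [← Ideal.Quotient.eq_zero_iff_mem] at h1
    simp only [map_sub, map_pow] at h1
    rw [sub_eq_zero] at h1
    rw [pow_add, pow_mul, ← hd, hq]
    exact h1.symm
  have hnA := H.nilA
  refine ⟨⟨Ideal.Quotient.isDomain _, hlocA⟩, ?_⟩
  intro m' hm'
  obtain rfl := IsLocalRing.eq_maximalIdeal hm'
  exact PInsep.pow_mem_range_transfer ((toNorm D).comp (algebraMap A D)) (toNorm A) e.symm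
    (fun a => by rw [RingEquiv.symm_apply_eq]; exact (he a).symm)
    (maximalIdeal (CAlg2.normRed D)) (maximalIdeal (CAlg2.normRed A))
    (mem_maximalIdeal_iff_of_ringEquiv e.symm) step

end Core

end Groth.Agent.Lib.Helper8.BiratUnib
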