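import Mathlib
import Groth.Prelude
import Groth.Agent.Lib.Helper8.BiratUnibA
import Groth.Agent.Lib.Helper8.SmoothUnibranch

/-!
# Geometric unibranchness along an integral birational ring map `R → S`, at a prime `p` of `R`

`RingBirat R S`: `Spec S → Spec R` maps minimal primes to minimal primes, and over every minimal
prime of `R` there is exactly one prime of `S`, with the same residue field.
`ring_main`: for `R → S` integral with `RingBirat R S`, `R_p` is geometrically unibranch iff there is
exactly one prime `Q` of `S` over `p`, the residue field extension is purely inseparable and `S_Q` is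
geometrically unibranch.
-/

set_option autoImplicit false
universe u
open IsLocalRing

namespace Groth.Agent.Lib.Helper8.BiratUnib

structure RingBirat (R S : Type u) [CommRing R] [CommRing S] [Algebra R S] : Prop where
  mapsTo : ∀ Q ∈ minimalPrimes S, Q.comap (algebraMap R S) ∈ minimalPrimes R
  exists_over : ∀ P ∈ minimalPrimes R, ∃ Q : Ideal S, Q.IsPrime ∧ Q.comap (algebraMap R S) = P
  uniq : ∀ P ∈ minimalPrimes R, ∀ Q Q' : Ideal S, Q.IsPrime → Q'.IsPrime →
    Q.comap (algebraMap R S) = P → Q'.comap (algebraMap R S) = P → Q = Q'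
  frac : ∀ P ∈ minimalPrimes R, ∀ Q : Ideal S, Q.IsPrime → Q.comap (algebraMap R S) = P →
    ∀ s : S, ∃ a t : R, t ∉ P ∧ algebraMap R S t * s - algebraMap R S a ∈ Q

theorem mem_minimalPrimes_localization_iff {R : Type*} [CommRing R] (M : Submonoid R) (A : Type*)
    [CommRing A] [Algebra R A] [IsLocalization M A] (P : Ideal A) :
    P ∈ minimalPrimes A ↔ P.comap (algebraMap R A) ∈ minimalPrimes R := by
  have h := IsLocalization.minimalPrimes_map M A (⊥ : Ideal R)
  rw [Ideal.map_bot] at h
  show P ∈ (⊥ : Ideal A).minimalPrimes ↔ _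
  rw [h]
  rfl

theorem eq_nilradical_of_mem_minimalPrimes {R : Type*} [CommRing R] (h : (nilradical R).IsPrime)
    {P : Ideal R} (hP : P ∈ minimalPrimes R) : P = nilradical R := by
  have := hP.1.1
  exact le_antisymm (hP.2 ⟨h, bot_le⟩ (nilradical_le_prime P)) (nilradical_le_prime P)

theorem nilradical_mem_minimalPrimes {R : Type*} [CommRing R] (h : (nilradical R).IsPrime) :
    nilradical R ∈ minimalPrimes R :=
  ⟨⟨h, bot_le⟩, fun Q hQ _ => by have := hQ.1; exact nilradical_le_prime Q⟩

theorem nilradical_eq_of_minimalPrimes_eq {R : Type*} [CommRing R] (P : Ideal R)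
    (h : ∀ Q ∈ minimalPrimes R, Q = P) (hP : P ∈ minimalPrimes R) : nilradical R = P := by
  have h1 : (⊥ : Ideal R).minimalPrimes = {P} := by
    ext Q
    constructor
    · intro hQ; exact h Q hQ
    · intro hQ
      rw [Set.mem_singleton_iff] at hQ
      rw [hQ]; exact hP
  calc nilradical R = (⊥ : Ideal R).radical := rfl
    _ = sInf (⊥ : Ideal R).minimalPrimes := Ideal.sInf_minimalPrimes.symm
    _ = sInf {P} := by rw [h1]
    _ = P := sInf_singleton

section Tower

variable {R S : Type u} [CommRing R] [CommRing S] [Algebra R S]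
  (A : Type u) [CommRing A] [Algebra R A]
  (D : Type u) [CommRing D] [Algebra S D]
  [Algebra A D] [Algebra R D] [IsScalarTower R A D] [IsScalarTower R S D]

theorem comap_comap_eq (P : Ideal D) :
    (P.comap (algebraMap S D)).comap (algebraMap R S) =
      (P.comap (algebraMap A D)).comap (algebraMap R A) := by
  rw [Ideal.comap_comap, Ideal.comap_comap, ← IsScalarTower.algebraMap_eq,
    ← IsScalarTower.algebraMap_eq]

end Tower

set_option linter.unusedSectionVars false

section Loc

variable {R S : Type u} [CommRing R] [CommRing S] [Algebra R S]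
  (p : Ideal R) [p.IsPrime]
  (A : Type u) [CommRing A] [Algebra R A] [IsLocalization.AtPrime A p]
  (D : Type u) [CommRing D] [Algebra S D]
  [IsLocalization (Algebra.algebraMapSubmonoid S p.primeCompl) D]
  [Algebra A D] [Algebra R D] [IsScalarTower R A D] [IsScalarTower R S D]

include p

theorem disjoint_of_comap_le (Q : Ideal S) (hQ : Q.comap (algebraMap R S) ≤ p) :
    Disjoint ((Algebra.algebraMapSubmonoid S p.primeCompl : Submonoid S) : Set S) (Q : Set S) := by
  rw [Set.disjoint_left]
  rintro x ⟨r, hr, rfl⟩ hx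
  exact hr (hQ hx)

theorem comap_le_of_isPrime (P' : Ideal A) [hP' : P'.IsPrime] :
    P'.comap (algebraMap R A) ≤ p := by
  intro r hr
  by_contra hrp
  exact hP'.ne_top (Ideal.eq_top_of_isUnit_mem _ hr
    (IsLocalization.map_units A (⟨r, hrp⟩ : p.primeCompl)))

theorem hyp_of (hb : RingBirat R S) (hD : (nilradical D).IsPrime)
    (hA : (nilradical D).comap (algebraMap A D) = nilradical A) : Hyp A D := by
  have hAprime : (nilradical A).IsPrime := hA ▸ Ideal.comap_isPrime _ _
  have hp0 : (nilradical A).comap (algebraMap R A) ∈ minimalPrimes R :=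
    (mem_minimalPrimes_localization_iff p.primeCompl A _).mp (nilradical_mem_minimalPrimes hAprime)
  have hq0prime : ((nilradical D).comap (algebraMap S D)).IsPrime := Ideal.comap_isPrime _ _
  have hq0p : ((nilradical D).comap (algebraMap S D)).comap (algebraMap R S) =
      (nilradical A).comap (algebraMap R A) := by
    rw [comap_comap_eq A D, hA]
  refine ⟨hAprime, hD, hA, ?_⟩
  intro d
  obtain ⟨⟨s', m⟩, hm⟩ := IsLocalization.surj (Algebra.algebraMapSubmonoid S p.primeCompl) d
  obtain ⟨_, r, hr, rfl⟩ := m
  obtain ⟨a', t, ht, hfr⟩ := hb.frac _ hp0 _ hq0prime hq0p s'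
  refine ⟨algebraMap R A a', algebraMap R A (t * r), ?_, ?_⟩
  · intro hmem
    rw [map_mul] at hmem
    rcases hAprime.mem_or_mem hmem with h1 | h1
    · exact ht h1
    · exact hAprime.ne_top (Ideal.eq_top_of_isUnit_mem _ h1 (IsLocalization.map_units A (⟨r, hr⟩ : p.primeCompl)))
  · have e1 : ∀ x : R, algebraMap A D (algebraMap R A x) = algebraMap S D (algebraMap R S x) := by
      intro x
      rw [← IsScalarTower.algebraMap_apply R A D, ← IsScalarTower.algebraMap_apply R S D]
    have hm' : d * algebraMap S D (algebraMap R S r) = algebraMap S D s' := hm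
    have h3 : algebraMap A D (algebraMap R A (t * r)) * d - algebraMap A D (algebraMap R A a') =
        algebraMap S D (algebraMap R S t * s' - algebraMap R S a') := by
      rw [e1, e1, map_mul, map_sub, map_mul, map_mul, ← hm']; ring
    rw [h3]
    exact hfr

theorem forward_hyp (hb : RingBirat R S) (hA : (nilradical A).IsPrime) :
    (nilradical D).IsPrime ∧ (nilradical D).comap (algebraMap A D) = nilradical A := by
  have hp0 : (nilradical A).comap (algebraMap R A) ∈ minimalPrimes R :=
    (mem_minimalPrimes_localization_iff p.primeCompl A _).mp (nilradical_mem_minimalPrimes hA)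
  obtain ⟨q0, hq0prime, hq0⟩ := hb.exists_over _ hp0
  have hq0le : q0.comap (algebraMap R S) ≤ p := hq0 ▸ comap_le_of_isPrime p A (nilradical A)
  have hdisj := disjoint_of_comap_le p q0 hq0le
  have hP0prime : (q0.map (algebraMap S D)).IsPrime :=
    IsLocalization.isPrime_of_isPrime_disjoint _ D q0 hq0prime hdisj
  have key : ∀ P ∈ minimalPrimes D, P = q0.map (algebraMap S D) ∧
      P.comap (algebraMap A D) = nilradical A := by
    intro P hP
    have hPprime := hP.1.1
    have h1 : P.comap (algebraMap S D) ∈ minimalPrimes S :=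
      (mem_minimalPrimes_localization_iff (Algebra.algebraMapSubmonoid S p.primeCompl) D P).mp hP
    have h2 := hb.mapsTo _ h1
    rw [comap_comap_eq A D P] at h2
    have h3 : P.comap (algebraMap A D) ∈ minimalPrimes A :=
      (mem_minimalPrimes_localization_iff p.primeCompl A _).mpr h2
    have h4 : P.comap (algebraMap A D) = nilradical A := eq_nilradical_of_mem_minimalPrimes hA h3
    have h5 : (P.comap (algebraMap S D)).comap (algebraMap R S) =
        (nilradical A).comap (algebraMap R A) := by rw [comap_comap_eq A D P, h4]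
    have h6 : P.comap (algebraMap S D) = q0 :=
      hb.uniq _ hp0 _ _ (Ideal.comap_isPrime _ _) hq0prime h5 hq0
    refine ⟨?_, h4⟩
    have h7 := IsLocalization.map_under (Algebra.algebraMapSubmonoid S p.primeCompl) D P
    rw [Ideal.under_def, h6] at h7
    exact h7.symm
  obtain ⟨P, hP, -⟩ := Ideal.exists_minimalPrimes_le (I := ⊥) (J := q0.map (algebraMap S D)) bot_le
  have hPP0 := (key P hP).1
  have hP0min : q0.map (algebraMap S D) ∈ minimalPrimes D := hPP0 ▸ hP
  have hnil : nilradical D = q0.map (algebraMap S D) :=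
    nilradical_eq_of_minimalPrimes_eq _ (fun Q hQ => (key Q hQ).1) hP0min
  refine ⟨hnil ▸ hP0prime, ?_⟩
  rw [hnil]
  exact (key _ hP0min).2

theorem backward_hyp (hb : RingBirat R S) (hD : (nilradical D).IsPrime) :
    (nilradical D).comap (algebraMap A D) = nilradical A := by
  have hPAprime : ((nilradical D).comap (algebraMap A D)).IsPrime := Ideal.comap_isPrime _ _
  have hDmin := nilradical_mem_minimalPrimes hD
  have h1 : (nilradical D).comap (algebraMap S D) ∈ minimalPrimes S :=
    (mem_minimalPrimes_localization_iff (Algebra.algebraMapSubmonoid S p.primeCompl) D _).mp hDmin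
  have h2 := hb.mapsTo _ h1
  rw [comap_comap_eq A D] at h2
  have hPAmin : (nilradical D).comap (algebraMap A D) ∈ minimalPrimes A :=
    (mem_minimalPrimes_localization_iff p.primeCompl A _).mpr h2
  symm
  apply nilradical_eq_of_minimalPrimes_eq _ _ hPAmin
  intro P' hP'
  have hP'prime := hP'.1.1
  have h3 : P'.comap (algebraMap R A) ∈ minimalPrimes R :=
    (mem_minimalPrimes_localization_iff p.primeCompl A _).mp hP'
  obtain ⟨Q', hQ'prime, hQ'⟩ := hb.exists_over _ h3
  have hQ'le : Q'.comap (algebraMap R S) ≤ p := hQ' ▸ comap_le_of_isPrime p A P'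
  have hdisj := disjoint_of_comap_le p Q' hQ'le
  have hQ'Dprime : (Q'.map (algebraMap S D)).IsPrime :=
    IsLocalization.isPrime_of_isPrime_disjoint _ D Q' hQ'prime hdisj
  have hQ'Dcomap : (Q'.map (algebraMap S D)).comap (algebraMap S D) = Q' :=
    IsLocalization.under_map_of_isPrime_disjoint _ D hQ'prime hdisj
  have h4 : nilradical D ≤ Q'.map (algebraMap S D) := nilradical_le_prime _
  have h5 : (nilradical D).comap (algebraMap S D) ≤ Q' := by
    have h := Ideal.comap_mono (f := algebraMap S D) h4
    rwa [hQ'Dcomap] at h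
  have h6 : ((nilradical D).comap (algebraMap A D)).comap (algebraMap R A) ≤
      P'.comap (algebraMap R A) := by
    rw [← comap_comap_eq (S := S) A D, ← hQ']
    exact Ideal.comap_mono h5
  have h7 : P'.comap (algebraMap R A) ≤
      ((nilradical D).comap (algebraMap A D)).comap (algebraMap R A) :=
    h3.2 ⟨Ideal.comap_isPrime _ _, bot_le⟩ h6
  have h8 := le_antisymm h7 h6
  have e1 := IsLocalization.map_under p.primeCompl A P'
  have e2 := IsLocalization.map_under p.primeCompl A ((nilradical D).comap (algebraMap A D))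
  rw [Ideal.under_def] at e1 e2
  rw [← e1, ← e2, h8]

theorem uniq_of_isLocalRing [Algebra.IsIntegral R S] [IsLocalRing D] [Algebra.IsIntegral A D] :
    ∀ Q Q' : Ideal S, Q.IsPrime → Q'.IsPrime → Q.comap (algebraMap R S) = p →
      Q'.comap (algebraMap R S) = p → Q = Q' := by
  have hA : IsLocalRing A := IsLocalization.AtPrime.isLocalRing A p
  have hm : (maximalIdeal D).comap (algebraMap A D) = maximalIdeal A :=
    comap_eq_maximalIdeal (algebraMap A D) (algebraMap_isIntegral_iff.mpr inferInstance) _
  have hQs : ((maximalIdeal D).comap (algebraMap S D)).comap (algebraMap R S) = p := by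
    rw [comap_comap_eq A D, hm]
    exact IsLocalization.AtPrime.under_maximalIdeal A p
  have key : ∀ Q : Ideal S, Q.IsPrime → Q.comap (algebraMap R S) = p →
      Q = (maximalIdeal D).comap (algebraMap S D) := by
    intro Q hQprime hQ
    have hdisj := disjoint_of_comap_le p Q (le_of_eq hQ)
    have hQDprime : (Q.map (algebraMap S D)).IsPrime :=
      IsLocalization.isPrime_of_isPrime_disjoint _ D Q hQprime hdisj
    have hQDcomap : (Q.map (algebraMap S D)).comap (algebraMap S D) = Q :=
      IsLocalization.under_map_of_isPrime_disjoint _ D hQprime hdisj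
    have hle : Q ≤ (maximalIdeal D).comap (algebraMap S D) := by
      have h := Ideal.comap_mono (f := algebraMap S D) (IsLocalRing.le_maximalIdeal hQDprime.ne_top)
      rwa [hQDcomap] at h
    by_contra hne
    haveI := hQprime
    have hlt : Q < (maximalIdeal D).comap (algebraMap S D) := lt_of_le_of_ne hle hne
    obtain ⟨x, hx1, hx2⟩ := SetLike.exists_of_lt hlt
    have := Ideal.comap_lt_comap_of_integral_mem_sdiff (R := R) hle ⟨hx1, hx2⟩
      (Algebra.IsIntegral.isIntegral x)
    rw [hQ, hQs] at this
    exact lt_irrefl _ this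
  intro Q Q' hQ hQ' h1 h2
  rw [key Q hQ h1, key Q' hQ' h2]

theorem isLocalRing_of_uniq [Algebra.IsIntegral A D] (Q₀ : Ideal S) [hQ₀prime : Q₀.IsPrime]
    (hQ₀ : Q₀.comap (algebraMap R S) = p)
    (huniq : ∀ Q Q' : Ideal S, Q.IsPrime → Q'.IsPrime → Q.comap (algebraMap R S) = p →
      Q'.comap (algebraMap R S) = p → Q = Q') :
    IsLocalRing D ∧ IsLocalization.AtPrime D Q₀ := by
  have hA : IsLocalRing A := IsLocalization.AtPrime.isLocalRing A p
  have hdisj := disjoint_of_comap_le p Q₀ (le_of_eq hQ₀)
  have hP0prime : (Q₀.map (algebraMap S D)).IsPrime :=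
    IsLocalization.isPrime_of_isPrime_disjoint _ D Q₀ hQ₀prime hdisj
  have hP0comap : (Q₀.map (algebraMap S D)).comap (algebraMap S D) = Q₀ :=
    IsLocalization.under_map_of_isPrime_disjoint _ D hQ₀prime hdisj
  have key : ∀ m : Ideal D, m.IsMaximal → m = Q₀.map (algebraMap S D) := by
    intro m hm
    have hmA : m.comap (algebraMap A D) = maximalIdeal A :=
      comap_eq_maximalIdeal (algebraMap A D) (algebraMap_isIntegral_iff.mpr inferInstance) m
    have h1 : (m.comap (algebraMap S D)).comap (algebraMap R S) = p := by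
      rw [comap_comap_eq A D, hmA]
      exact IsLocalization.AtPrime.under_maximalIdeal A p
    have h2 : m.comap (algebraMap S D) = Q₀ :=
      huniq _ _ (Ideal.comap_isPrime _ _) hQ₀prime h1 hQ₀
    have h3 := IsLocalization.map_under (Algebra.algebraMapSubmonoid S p.primeCompl) D m
    rw [Ideal.under_def, h2] at h3
    exact h3.symm
  obtain ⟨m, hm, -⟩ := Ideal.exists_le_maximal _ hP0prime.ne_top
  have hloc : IsLocalRing D :=
    IsLocalRing.of_unique_max_ideal ⟨m, hm, fun m' hm' => (key m' hm').trans (key m hm).symm⟩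
  refine ⟨hloc, ?_⟩
  have hmax : maximalIdeal D = Q₀.map (algebraMap S D) := key _ (maximalIdeal.isMaximal D)
  refine IsLocalization.of_le (M := Algebra.algebraMapSubmonoid S p.primeCompl) (S := D)
    Q₀.primeCompl ?_ ?_
  · rintro x ⟨r, hr, rfl⟩ hx
    apply hr
    rw [← hQ₀]
    exact hx
  · intro s hs
    by_contra hnu
    have h1 : algebraMap S D s ∈ maximalIdeal D := (IsLocalRing.mem_maximalIdeal _).mpr hnu
    rw [hmax] at h1
    have h2 : s ∈ (Q₀.map (algebraMap S D)).comap (algebraMap S D) := h1
    rw [hP0comap] at h2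
    exact hs h2

theorem transport (Q : Ideal S) [Q.IsPrime] [IsLocalRing A]
    (B : Type u) [CommRing B] [IsLocalRing B] [Algebra S B] [IsLocalization.AtPrime B Q]
    (B' : Type u) [CommRing B'] [IsLocalRing B'] [Algebra S B'] [IsLocalization.AtPrime B' Q]
    (φ : A →+* B) (hφ : φ.comp (algebraMap R A) = (algebraMap S B).comp (algebraMap R S))
    (φ' : A →+* B') (hφ' : φ'.comp (algebraMap R A) = (algebraMap S B').comp (algebraMap R S))
    (h : PIel φ ∧ CAlg2.IsGeomUnibranch B) : PIel φ' ∧ CAlg2.IsGeomUnibranch B' := by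
  let ε : B ≃ₐ[S] B' := IsLocalization.algEquiv Q.primeCompl B B'
  have hε : ((ε : B ≃+* B') : B →+* B').comp φ = φ' := by
    apply IsLocalization.ringHom_ext p.primeCompl
    rw [RingHom.comp_assoc, hφ, hφ', ← RingHom.comp_assoc]
    congr 1
    ext s
    exact ε.commutes s
  constructor
  · intro b'
    obtain ⟨n, a, ha⟩ := h.1 (ε.symm b')
    refine ⟨n, a, ?_⟩
    have h1 := (mem_maximalIdeal_iff_of_ringEquiv (ε : B ≃+* B') _).mp ha
    rw [map_sub, map_pow] at h1
    have h2 : (ε : B ≃+* B') (ε.symm b') = b' := ε.apply_symm_apply b'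
    have h3 : (ε : B ≃+* B') (φ a) = φ' a := RingHom.congr_fun hε a
    rw [h2, h3] at h1
    exact h1
  · exact SmoothUnibranch.isGeomUnibranch_of_ringEquiv (ε.symm : B' ≃+* B) h.2

end Loc

theorem ring_main {R S : Type u} [CommRing R] [CommRing S] [Algebra R S] [Algebra.IsIntegral R S]
    (hb : RingBirat R S) (p : Ideal R) [p.IsPrime]
    (A : Type u) [CommRing A] [IsLocalRing A] [Algebra R A] [IsLocalization.AtPrime A p] :
    CAlg2.IsGeomUnibranch A ↔
      (∀ Q Q' : Ideal S, Q.IsPrime → Q'.IsPrime → Q.comap (algebraMap R S) = p →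
        Q'.comap (algebraMap R S) = p → Q = Q') ∧
      ∀ (Q : Ideal S) [Q.IsPrime], Q.comap (algebraMap R S) = p →
        ∀ (B : Type u) [CommRing B] [IsLocalRing B] [Algebra S B] [IsLocalization.AtPrime B Q]
          (φ : A →+* B), φ.comp (algebraMap R A) = (algebraMap S B).comp (algebraMap R S) →
          PIel φ ∧ CAlg2.IsGeomUnibranch B := by
  let M := Algebra.algebraMapSubmonoid S p.primeCompl
  let D := Localization M
  let f0 : A →+* D := IsLocalization.map D (algebraMap R S)
    (show p.primeCompl ≤ M.comap (algebraMap R S) from fun r hr => ⟨r, hr, rfl⟩)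
  letI : Algebra A D := f0.toAlgebra
  have hf0 : ∀ r, f0 (algebraMap R A r) = algebraMap S D (algebraMap R S r) :=
    fun r => IsLocalization.map_eq _ r
  haveI : IsScalarTower R A D := IsScalarTower.of_algebraMap_eq (fun r => by
    rw [IsScalarTower.algebraMap_apply R S D]; exact (hf0 r).symm)
  haveI : Algebra.IsIntegral A D :=
    ⟨isIntegral_localization (M := p.primeCompl) (Rₘ := A) (Sₘ := D)⟩
  have comm : (algebraMap A D).comp (algebraMap R A) = (algebraMap S D).comp (algebraMap R S) :=
    RingHom.ext hf0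
  constructor
  · intro hA
    have hnA : (nilradical A).IsPrime := (Ideal.Quotient.isDomain_iff_prime _).mp hA.1.1
    obtain ⟨hnD, hcomap⟩ := forward_hyp p A D hb hnA
    have H := hyp_of p A D hb hnD hcomap
    obtain ⟨hD, hpi, hgu⟩ := forward H hA
    haveI := hD
    have huniq := uniq_of_isLocalRing (S := S) p A D
    refine ⟨huniq, ?_⟩
    intro Q hQprime hQ B _ _ _ _ φ hφ
    obtain ⟨-, hat⟩ := isLocalRing_of_uniq p A D Q hQ huniq
    haveI := hat
    exact transport p A Q D B (algebraMap A D) comm φ hφ ⟨hpi, hgu⟩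
  · rintro ⟨huniq, hall⟩
    have hker : (⊥ : Ideal S).comap (algebraMap R S) ≤ p := by
      intro r hr
      obtain ⟨P, hP, hPp⟩ := Ideal.exists_minimalPrimes_le (I := (⊥ : Ideal R)) (J := p) bot_le
      obtain ⟨Q', hQ'prime, hQ'⟩ := hb.exists_over P hP
      apply hPp
      rw [← hQ']
      show algebraMap R S r ∈ Q'
      have h0 : algebraMap R S r = 0 := hr
      rw [h0]
      exact Q'.zero_mem
    obtain ⟨Q₀, -, hQ₀prime, hQ₀⟩ :=
      Ideal.exists_ideal_over_prime_of_isIntegral p (⊥ : Ideal S) hker
    haveI := hQ₀prime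
    obtain ⟨hD, hat⟩ := isLocalRing_of_uniq p A D Q₀ hQ₀ huniq
    haveI := hD
    haveI := hat
    obtain ⟨hpi, hgu⟩ := hall Q₀ hQ₀ D (algebraMap A D) comm
    have hnD : (nilradical D).IsPrime := (Ideal.Quotient.isDomain_iff_prime _).mp hgu.1.1
    have hcomap := backward_hyp p A D hb hnD
    exact backward (hyp_of p A D hb hnD hcomap) hpi hgu

end Groth.Agent.Lib.Helper8.BiratUnib
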