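import Mathlib
import Groth.Prelude
import Groth.Agent.Lib.Helper8.BiratUnibB

/-!
# Geometric unibranchness along an integral birational morphism of schemes (S5865, S5866)
-/

set_option autoImplicit false
universe u
open CategoryTheory AlgebraicGeometry TopologicalSpace Topology IsLocalRing

namespace Groth.Agent.Lib.Helper8.BiratUnib

section Top

variable {A B : Type*} [TopologicalSpace A] [TopologicalSpace B]

theorem closure_mem_irreducibleComponents_of_isInducing {e : A → B} (he : IsInducing e) (p : A)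
    (h : closure {e p} ∈ irreducibleComponents B) : closure {p} ∈ irreducibleComponents A := by
  refine ⟨isIrreducible_singleton.closure, ?_⟩
  intro Z hZ hpZ z hz
  have h1 : IsIrreducible (closure (e '' Z)) := (hZ.image e he.continuous.continuousOn).closure
  have hp : p ∈ Z := hpZ (subset_closure rfl)
  have h2 : closure {e p} ⊆ closure (e '' Z) :=
    closure_mono (Set.singleton_subset_iff.2 ⟨p, hp, rfl⟩)
  have h3 : closure (e '' Z) ⊆ closure {e p} := h.2 h1 h2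
  have h4 : e z ∈ closure {e p} := h3 (subset_closure ⟨z, hz, rfl⟩)
  rw [← specializes_iff_mem_closure] at h4 ⊢
  exact he.specializes_iff.1 h4

theorem closure_mem_irreducibleComponents_of_isOpenEmbedding [QuasiSober B] {e : A → B}
    (he : IsOpenEmbedding e) (p : A) (h : closure {p} ∈ irreducibleComponents A) :
    closure {e p} ∈ irreducibleComponents B := by
  obtain ⟨Z, hZ, hsub⟩ := exists_mem_irreducibleComponents_subset_of_isIrreducible (closure {e p})
    isIrreducible_singleton.closure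
  have hZc : IsClosed Z := isClosed_of_mem_irreducibleComponents Z hZ
  obtain ⟨η, hη⟩ := QuasiSober.sober hZ.1 hZc
  have hep : e p ∈ Z := hsub (subset_closure rfl)
  have h1 : η ⤳ e p := by
    rw [specializes_iff_mem_closure, hη.def]
    exact hep
  have h2 : η ∈ Set.range e := h1.mem_open he.isOpen_range ⟨p, rfl⟩
  obtain ⟨q, rfl⟩ := h2
  have h3 : q ⤳ p := he.isInducing.specializes_iff.1 h1
  have h4 : closure {p} ⊆ closure {q} := specializes_iff_closure_subset.1 h3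
  have h5 : closure {q} ⊆ closure {p} := h.2 isIrreducible_singleton.closure h4
  have h6 : p ⤳ q := specializes_iff_closure_subset.2 h5
  have h7 : e p ⤳ e q := h6.map he.continuous
  have h8 : closure {e p} = Z := by
    apply subset_antisymm hsub
    rw [← hη.def]
    exact specializes_iff_closure_subset.1 h7
  rw [h8]
  exact hZ

theorem mem_genericPoints_iff_of_isOpenEmbedding [QuasiSober B] {e : A → B} (he : IsOpenEmbedding e)
    (p : A) : closure {p} ∈ irreducibleComponents A ↔ e p ∈ genericPoints B :=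
  ⟨closure_mem_irreducibleComponents_of_isOpenEmbedding he p,
   closure_mem_irreducibleComponents_of_isInducing he.isInducing p⟩

end Top

section Affine

variable {X : Scheme.{u}} {U : X.Opens} (hU : IsAffineOpen U)

theorem mem_genericPoints_iff (x : X) (hx : x ∈ U) :
    x ∈ genericPoints X ↔ (hU.primeIdealOf ⟨x, hx⟩).asIdeal ∈ minimalPrimes Γ(X, U) := by
  have he : IsOpenEmbedding (fun q : Spec Γ(X, U) => hU.fromSpec q) :=
    hU.fromSpec.isOpenEmbedding
  have h1 := mem_genericPoints_iff_of_isOpenEmbedding he (hU.primeIdealOf ⟨x, hx⟩)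
  simp only [hU.fromSpec_primeIdealOf ⟨x, hx⟩] at h1
  rw [← h1]
  have h2 := PrimeSpectrum.vanishingIdeal_mem_minimalPrimes (R := Γ(X, U))
    (s := {hU.primeIdealOf ⟨x, hx⟩})
  rw [PrimeSpectrum.vanishingIdeal_singleton] at h2
  exact h2.symm

theorem fromSpec_mem (q : PrimeSpectrum Γ(X, U)) : hU.fromSpec q ∈ U := by
  have h := hU.range_fromSpec
  rw [← SetLike.mem_coe, ← h]
  exact ⟨q, rfl⟩

theorem primeIdealOf_fromSpec (q : PrimeSpectrum Γ(X, U)) (h : hU.fromSpec q ∈ U) :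
    hU.primeIdealOf ⟨hU.fromSpec q, h⟩ = q := by
  apply hU.fromSpec.isOpenEmbedding.injective
  exact hU.fromSpec_primeIdealOf ⟨_, h⟩

theorem exists_point_of_prime (Q : Ideal Γ(X, U)) (hQ : Q.IsPrime) :
    ∃ (x : X) (hx : x ∈ U), (hU.primeIdealOf ⟨x, hx⟩).asIdeal = Q := by
  refine ⟨hU.fromSpec ⟨Q, hQ⟩, fromSpec_mem hU _, ?_⟩
  rw [primeIdealOf_fromSpec]

theorem eq_of_primeIdealOf_eq {y y' : X} (hy : y ∈ U) (hy' : y' ∈ U)
    (h : (hU.primeIdealOf ⟨y, hy⟩).asIdeal = (hU.primeIdealOf ⟨y', hy'⟩).asIdeal) : y = y' := by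
  have h2 : hU.primeIdealOf ⟨y, hy⟩ = hU.primeIdealOf ⟨y', hy'⟩ := PrimeSpectrum.ext h
  have h3 := congrArg (fun q => hU.fromSpec q) h2
  simp only [hU.fromSpec_primeIdealOf] at h3
  exact h3

end Affine

theorem comap_primeIdealOf {X Y : Scheme.{u}} (f : X ⟶ Y) {V : Y.Opens} (hV : IsAffineOpen V)
    (hU : IsAffineOpen (f ⁻¹ᵁ V)) (x : X) (hx : x ∈ f ⁻¹ᵁ V) :
    (hU.primeIdealOf ⟨x, hx⟩).asIdeal.comap (f.app V).hom =
      (hV.primeIdealOf ⟨f x, hx⟩).asIdeal := by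
  have h := IsAffineOpen.comap_primeIdealOf_appLE V hV (f ⁻¹ᵁ V) hU le_rfl hx
  rw [Scheme.Hom.appLE_eq_app] at h
  exact congrArg PrimeSpectrum.asIdeal h

theorem ringBirat_of_isBirational {X Y : Scheme.{u}} (f : X ⟶ Y) [IsAffineHom f]
    (hf : RadPt.IsBirational f) (V : Y.Opens) (hV : IsAffineOpen V) :
    @RingBirat Γ(Y, V) Γ(X, f ⁻¹ᵁ V) _ _ (f.app V).hom.toAlgebra := by
  letI : Algebra Γ(Y, V) Γ(X, f ⁻¹ᵁ V) := (f.app V).hom.toAlgebra
  have hU : IsAffineOpen (f ⁻¹ᵁ V) := hV.preimage f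
  refine ⟨?_, ?_, ?_, ?_⟩
  · intro Q hQ
    obtain ⟨x, hx, rfl⟩ := exists_point_of_prime hU Q hQ.1.1
    have hgen := (mem_genericPoints_iff hU x hx).mpr hQ
    have h2 := hf.1.mapsTo hgen
    have h3 := (mem_genericPoints_iff hV (f x) hx).mp h2
    rw [← comap_primeIdealOf f hV hU x hx] at h3
    exact h3
  · intro P hP
    obtain ⟨y, hy, rfl⟩ := exists_point_of_prime hV P hP.1.1
    have hgen := (mem_genericPoints_iff hV y hy).mpr hP
    obtain ⟨x, hxgen, rfl⟩ := hf.1.surjOn hgen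
    exact ⟨(hU.primeIdealOf ⟨x, hy⟩).asIdeal, (hU.primeIdealOf ⟨x, hy⟩).isPrime,
      comap_primeIdealOf f hV hU x hy⟩
  · intro P hP Q Q' hQ hQ' h1 h2
    obtain ⟨x, hx, rfl⟩ := exists_point_of_prime hU Q hQ
    obtain ⟨x', hx', rfl⟩ := exists_point_of_prime hU Q' hQ'
    have h1' : (hV.primeIdealOf ⟨f x, hx⟩).asIdeal = P :=
      (comap_primeIdealOf f hV hU x hx).symm.trans h1
    have h2' : (hV.primeIdealOf ⟨f x', hx'⟩).asIdeal = P :=
      (comap_primeIdealOf f hV hU x' hx').symm.trans h2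
    have hyy : f x = f x' := eq_of_primeIdealOf_eq hV hx hx' (h1'.trans h2'.symm)
    have hgen : f x ∈ genericPoints Y := (mem_genericPoints_iff hV (f x) hx).mpr (h1' ▸ hP)
    have hxx := (hf.2 (f x) hgen).1 x x' rfl hyy.symm
    subst hxx
    rfl
  · intro P hP Q hQ h1 s
    obtain ⟨x, hx, rfl⟩ := exists_point_of_prime hU Q hQ
    have h1' : (hV.primeIdealOf ⟨f x, hx⟩).asIdeal = P :=
      (comap_primeIdealOf f hV hU x hx).symm.trans h1
    subst h1'
    have hgen : f x ∈ genericPoints Y := (mem_genericPoints_iff hV (f x) hx).mpr hP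
    have hbij := (hf.2 (f x) hgen).2 x rfl
    letI algA := Y.presheaf.algebra_section_stalk ⟨f x, hx⟩
    letI algB := X.presheaf.algebra_section_stalk ⟨x, hx⟩
    have locA := hV.isLocalization_stalk ⟨f x, hx⟩
    have locB := hU.isLocalization_stalk ⟨x, hx⟩
    obtain ⟨z, hz⟩ := hbij.2 (IsLocalRing.residue _
      (algebraMap Γ(X, f ⁻¹ᵁ V) (X.presheaf.stalk x) s))
    obtain ⟨a, rfl⟩ := IsLocalRing.residue_surjective z
    have hz' : IsLocalRing.residue _ ((f.stalkMap x).hom a) =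
        IsLocalRing.residue _ (algebraMap Γ(X, f ⁻¹ᵁ V) (X.presheaf.stalk x) s) := hz
    have h2 : algebraMap Γ(X, f ⁻¹ᵁ V) (X.presheaf.stalk x) s - (f.stalkMap x).hom a ∈
        maximalIdeal (X.presheaf.stalk x) := by
      rw [← IsLocalRing.residue_eq_zero_iff, map_sub, sub_eq_zero]
      exact hz'.symm
    obtain ⟨⟨a', t⟩, hat⟩ := IsLocalization.surj (hV.primeIdealOf ⟨f x, hx⟩).asIdeal.primeCompl a
    refine ⟨a', t.1, t.2, ?_⟩
    rw [← IsLocalization.AtPrime.to_map_mem_maximal_iff (X.presheaf.stalk x)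
      (hU.primeIdealOf ⟨x, hx⟩).asIdeal]
    have hcomm : ∀ r : Γ(Y, V), (f.stalkMap x).hom (algebraMap Γ(Y, V) (Y.presheaf.stalk (f x)) r) =
        algebraMap Γ(X, f ⁻¹ᵁ V) (X.presheaf.stalk x) (algebraMap Γ(Y, V) Γ(X, f ⁻¹ᵁ V) r) :=
      fun r => Scheme.Hom.germ_stalkMap_apply f V x hx r
    have key : algebraMap Γ(X, f ⁻¹ᵁ V) (X.presheaf.stalk x)
        (algebraMap Γ(Y, V) Γ(X, f ⁻¹ᵁ V) t.1 * s - algebraMap Γ(Y, V) Γ(X, f ⁻¹ᵁ V) a') =
        (f.stalkMap x).hom (algebraMap Γ(Y, V) (Y.presheaf.stalk (f x)) t.1) *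
          (algebraMap Γ(X, f ⁻¹ᵁ V) (X.presheaf.stalk x) s - (f.stalkMap x).hom a) +
        (f.stalkMap x).hom (a * algebraMap Γ(Y, V) (Y.presheaf.stalk (f x)) t.1 -
          algebraMap Γ(Y, V) (Y.presheaf.stalk (f x)) a') := by
      rw [map_sub, map_mul, ← hcomm, ← hcomm, map_sub, map_mul]
      ring
    rw [key, hat, sub_self, map_zero, add_zero]
    exact Ideal.mul_mem_left _ _ h2

theorem exists_prime_over {R S : Type u} [CommRing R] [CommRing S] [Algebra R S]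
    [Algebra.IsIntegral R S] (hb : RingBirat R S) (p : Ideal R) [p.IsPrime] :
    ∃ Q : Ideal S, Q.IsPrime ∧ Q.comap (algebraMap R S) = p := by
  have hker : (⊥ : Ideal S).comap (algebraMap R S) ≤ p := by
    intro r hr
    obtain ⟨P, hP, hPp⟩ := Ideal.exists_minimalPrimes_le (I := (⊥ : Ideal R)) (J := p) bot_le
    obtain ⟨Q', hQ'prime, hQ'⟩ := hb.exists_over P hP
    apply hPp
    rw [← hQ']
    show algebraMap R S r ∈ Q'
    have h0 : algebraMap R S r = 0 := hr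
    rw [h0]
    exact Q'.zero_mem
  obtain ⟨Q₀, -, hQ₀prime, hQ₀⟩ :=
    Ideal.exists_ideal_over_prime_of_isIntegral p (⊥ : Ideal S) hker
  exact ⟨Q₀, hQ₀prime, hQ₀⟩

theorem surjective_of_isBirational {X Y : Scheme.{u}} (f : X ⟶ Y) [IsIntegralHom f]
    (hf : RadPt.IsBirational f) (y : Y) : ∃ x : X, f x = y := by
  obtain ⟨V, hV, hyV, -⟩ := exists_isAffineOpen_mem_and_subset (x := y) (U := ⊤) trivial
  have hU : IsAffineOpen (f ⁻¹ᵁ V) := hV.preimage f
  letI : Algebra Γ(Y, V) Γ(X, f ⁻¹ᵁ V) := (f.app V).hom.toAlgebra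
  haveI : Algebra.IsIntegral Γ(Y, V) Γ(X, f ⁻¹ᵁ V) := ⟨IsIntegralHom.isIntegral_app f V hV⟩
  have hb := ringBirat_of_isBirational f hf V hV
  obtain ⟨Q, hQ, hQp⟩ := exists_prime_over hb (hV.primeIdealOf ⟨y, hyV⟩).asIdeal
  obtain ⟨x, hx, rfl⟩ := exists_point_of_prime hU Q hQ
  refine ⟨x, ?_⟩
  exact eq_of_primeIdealOf_eq hV hx hyV ((comap_primeIdealOf f hV hU x hx).symm.trans hQp)

theorem at_point {X Y : Scheme.{u}} (f : X ⟶ Y) [IsIntegralHom f] (hf : RadPt.IsBirational f)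
    (x : X) :
    CAlg2.IsGeomUnibranch (Y.presheaf.stalk (f x)) ↔
      ((∀ x' : X, f x' = f x → x' = x) ∧ (f.residueFieldMap x).hom.IsPurelyInseparable ∧
        CAlg2.IsGeomUnibranch (X.presheaf.stalk x)) := by
  obtain ⟨V, hV, hx, -⟩ := exists_isAffineOpen_mem_and_subset (x := f x) (U := ⊤) trivial
  have hU : IsAffineOpen (f ⁻¹ᵁ V) := hV.preimage f
  letI : Algebra Γ(Y, V) Γ(X, f ⁻¹ᵁ V) := (f.app V).hom.toAlgebra
  haveI : Algebra.IsIntegral Γ(Y, V) Γ(X, f ⁻¹ᵁ V) := ⟨IsIntegralHom.isIntegral_app f V hV⟩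
  have hb := ringBirat_of_isBirational f hf V hV
  letI algA := Y.presheaf.algebra_section_stalk ⟨f x, hx⟩
  letI algB := X.presheaf.algebra_section_stalk (U := f ⁻¹ᵁ V) ⟨x, hx⟩
  haveI locA := hV.isLocalization_stalk ⟨f x, hx⟩
  haveI locB := hU.isLocalization_stalk ⟨x, hx⟩
  have hQx : (hU.primeIdealOf ⟨x, hx⟩).asIdeal.comap (algebraMap Γ(Y, V) Γ(X, f ⁻¹ᵁ V)) =
      (hV.primeIdealOf ⟨f x, hx⟩).asIdeal := comap_primeIdealOf f hV hU x hx
  have comm₀ : (f.stalkMap x).hom.comp (algebraMap Γ(Y, V) (Y.presheaf.stalk (f x))) =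
      (algebraMap Γ(X, f ⁻¹ᵁ V) (X.presheaf.stalk x)).comp
        (algebraMap Γ(Y, V) Γ(X, f ⁻¹ᵁ V)) :=
    RingHom.ext fun r => Scheme.Hom.germ_stalkMap_apply f V x hx r
  have hpiiff : (f.residueFieldMap x).hom.IsPurelyInseparable ↔ PIel (f.stalkMap x).hom :=
    isPurelyInseparable_residueField_iff (f.stalkMap x).hom
  have hmain := ring_main hb (hV.primeIdealOf ⟨f x, hx⟩).asIdeal (Y.presheaf.stalk (f x))
  constructor
  · intro hgu0
    obtain ⟨huniq, hall⟩ := hmain.mp hgu0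
    obtain ⟨h1, h2⟩ := hall (hU.primeIdealOf ⟨x, hx⟩).asIdeal hQx (X.presheaf.stalk x)
      (f.stalkMap x).hom comm₀
    refine ⟨?_, hpiiff.mpr h1, h2⟩
    intro x' hx'
    have hx'U : x' ∈ f ⁻¹ᵁ V := by
      show f x' ∈ V
      rw [hx']; exact hx
    have hQ' : (hU.primeIdealOf ⟨x', hx'U⟩).asIdeal.comap (algebraMap Γ(Y, V) Γ(X, f ⁻¹ᵁ V)) =
        (hV.primeIdealOf ⟨f x, hx⟩).asIdeal := by
      refine (comap_primeIdealOf f hV hU x' hx'U).trans ?_
      congr 2
      exact Subtype.ext hx'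
    exact eq_of_primeIdealOf_eq hU hx'U hx
      (huniq _ _ (hU.primeIdealOf ⟨x', hx'U⟩).isPrime (hU.primeIdealOf ⟨x, hx⟩).isPrime hQ' hQx)
  · rintro ⟨hu, hpi0, hgu⟩
    have hpi := hpiiff.mp hpi0
    apply hmain.mpr
    have huniqQ : ∀ Q : Ideal Γ(X, f ⁻¹ᵁ V), Q.IsPrime →
        Q.comap (algebraMap Γ(Y, V) Γ(X, f ⁻¹ᵁ V)) = (hV.primeIdealOf ⟨f x, hx⟩).asIdeal →
        Q = (hU.primeIdealOf ⟨x, hx⟩).asIdeal := by
      intro Q hQ hQp
      obtain ⟨x', hx'U, rfl⟩ := exists_point_of_prime hU Q hQ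
      have hfx' : f x' = f x := eq_of_primeIdealOf_eq hV hx'U hx
        ((comap_primeIdealOf f hV hU x' hx'U).symm.trans hQp)
      have hxx := hu x' hfx'
      subst hxx
      rfl
    refine ⟨fun Q Q' hQ hQ' h h' => (huniqQ Q hQ h).trans (huniqQ Q' hQ' h').symm, ?_⟩
    intro Q hQprime hQ B _ _ _ _ φ hφ
    obtain rfl := huniqQ Q hQprime hQ
    exact transport (hV.primeIdealOf ⟨f x, hx⟩).asIdeal (Y.presheaf.stalk (f x))
      (hU.primeIdealOf ⟨x, hx⟩).asIdeal (X.presheaf.stalk x) B (f.stalkMap x).hom comm₀ φ hφ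
      ⟨hpi, hgu⟩

theorem main_at {X Y : Scheme.{u}} (f : X ⟶ Y) [IsIntegralHom f] (hf : RadPt.IsBirational f)
    (y : Y) :
    CAlg2.IsGeomUnibranch (Y.presheaf.stalk y) ↔
      (RadPt.IsRadicialAt f y ∧
        ∀ x : X, f x = y → CAlg2.IsGeomUnibranch (X.presheaf.stalk x)) := by
  constructor
  · intro hgu
    refine ⟨⟨?_, ?_⟩, ?_⟩
    · intro x x' hx hx'
      subst hx
      exact (((at_point f hf x).mp hgu).1 x' hx').symm
    · intro x hx
      subst hx
      exact ((at_point f hf x).mp hgu).2.1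
    · intro x hx
      subst hx
      exact ((at_point f hf x).mp hgu).2.2
  · rintro ⟨⟨h1, h2⟩, h3⟩
    obtain ⟨x, hx⟩ := surjective_of_isBirational f hf y
    subst hx
    exact (at_point f hf x).mpr ⟨fun x' hx' => h1 x' x hx' rfl, h2 x rfl, h3 x rfl⟩

theorem main_global {X Y : Scheme.{u}} (f : X ⟶ Y) [IsIntegralHom f]
    (hf : RadPt.IsBirational f) :
    (∀ y : Y, CAlg2.IsGeomUnibranch (Y.presheaf.stalk y)) ↔
      ((∀ x : X, CAlg2.IsGeomUnibranch (X.presheaf.stalk x)) ∧ UniversallyInjective f) := by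
  have hui : UniversallyInjective f ↔
      Function.Injective f ∧ ∀ x, (f.residueFieldMap x).hom.IsPurelyInseparable :=
    (tfae_universallyInjective f).out 0 2
  rw [hui]
  constructor
  · intro h
    have h' := fun y => (main_at f hf y).mp (h y)
    exact ⟨fun x => (h' (f x)).2 x rfl, fun x x' hxx' => (h' (f x')).1.1 x x' hxx' rfl,
      fun x => (h' (f x)).1.2 x rfl⟩
  · rintro ⟨hgu, hinj, hpi⟩ y
    exact (main_at f hf y).mpr
      ⟨⟨fun x x' hx hx' => hinj (hx.trans hx'.symm), fun x _ => hpi x⟩, fun x _ => hgu x⟩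

end Groth.Agent.Lib.Helper8.BiratUnib
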