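import Mathlib
import Groth.Prelude
import Groth.Agent.Lib.Helper6.FiberStalkIso
import Groth.Agent.Lib.Helper8.BranchFibre
import Groth.Agent.Lib.Helper8.BranchNbhdMain

/-!
# Branches of a fibre at a point via étale neighbourhoods
-/

set_option autoImplicit false
universe u

open AlgebraicGeometry CategoryTheory Limits IsLocalRing

namespace Groth.Agent.Lib.Helper8.BranchFibre

open Groth.Agent.Lib.Helper8.Hzl Groth.Agent.Lib.Helper6

section comps

/-- The irreducible components of the fibre through a point correspond to the minimal primes over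
`𝔪_s 𝒪_{Y,y}`. -/
theorem encard_fibre_components {Y S : Scheme.{u}} (h : Y ⟶ S) (y : Y) :
    {Z : Set ↑(h.fiber (h y)) | Z ∈ irreducibleComponents ↑(h.fiber (h y)) ∧
        ∃ y' ∈ Z, h.fiberι (h y) y' = y}.encard =
      (fiberIdeal h y).minimalPrimes.encard := by
  have hset : {Z : Set ↑(h.fiber (h y)) | Z ∈ irreducibleComponents ↑(h.fiber (h y)) ∧
        ∃ y' ∈ Z, h.fiberι (h y) y' = y} =
      {Z : Set ↑(h.fiber (h y)) | Z ∈ irreducibleComponents ↑(h.fiber (h y)) ∧
        h.asFiber y ∈ Z} := by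
    ext Z
    constructor
    · rintro ⟨hZ, y', hy', hyy⟩
      refine ⟨hZ, ?_⟩
      have h1 : y' = h.asFiber y :=
        (h.fiberι (h y)).isEmbedding.injective (hyy.trans (h.fiberι_asFiber y).symm)
      rwa [← h1]
    · rintro ⟨hZ, hy⟩
      exact ⟨hZ, h.asFiber y, hy, h.fiberι_asFiber y⟩
  rw [hset, BranchNbhd.encard_irreducibleComponents_mem,
    BranchSum.encard_minimalPrimes_ringEquiv (fiberStalkEquiv h y),
    BranchSum.encard_minimalPrimes_quotient]

theorem encard_fibre_components' {Y S : Scheme.{u}} (h : Y ⟶ S) (y : Y) (s : S) (hs : h y = s) :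
    {Z : Set ↑(h.fiber s) | Z ∈ irreducibleComponents ↑(h.fiber s) ∧
        ∃ y' ∈ Z, h.fiberι s y' = y}.encard =
      (fiberIdeal h y).minimalPrimes.encard := by
  subst hs
  exact encard_fibre_components h y

end comps

section fiberIdeal

theorem fiberIdeal_comp {U X S : Scheme.{u}} (g : U ⟶ X) (f : X ⟶ S) (u : U) :
    fiberIdeal (g ≫ f) u = (fiberIdeal f (g u)).map (g.stalkMap u).hom := by
  have h : ((g ≫ f).stalkMap u).hom = (g.stalkMap u).hom.comp (f.stalkMap (g u)).hom :=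
    congrArg CommRingCat.Hom.hom (Scheme.Hom.stalkMap_comp g f u)
  calc fiberIdeal (g ≫ f) u
      = (maximalIdeal (S.presheaf.stalk (f (g u)))).map
          ((g.stalkMap u).hom.comp (f.stalkMap (g u)).hom) := by
        unfold fiberIdeal
        exact congrArg (fun φ => Ideal.map φ (maximalIdeal (S.presheaf.stalk (f (g u))))) h
    _ = _ := (Ideal.map_map _ _).symm

theorem comap_germ_fiberIdeal_congr {X S : Scheme.{u}} (f : X ⟶ S) (V : X.Opens) {x x' : X}
    (h : x' = x) (hx' : x' ∈ V) (hx : x ∈ V) :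
    (fiberIdeal f x').comap (X.presheaf.germ V x' hx').hom =
      (fiberIdeal f x).comap (X.presheaf.germ V x hx).hom := by
  subst h
  rfl

end fiberIdeal

section upper

/-- Upper bound: the extension of an ideal to the local ring of an étale neighbourhood has at most
as many minimal primes as its extension to the strict henselization (henselization, for trivial
residue field extension). -/
theorem encard_map_stalk_le {X U : Scheme.{u}} (g : U ⟶ X) [Etale g] (u : U)
    (I : Ideal (X.presheaf.stalk (g u))) :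
    (I.map (g.stalkMap u).hom).minimalPrimes.encard ≤
        (I.map (algebraMap (X.presheaf.stalk (g u))
          (SHens (X.presheaf.stalk (g u))))).minimalPrimes.encard ∧
    (Function.Bijective (g.residueFieldMap u) →
      (I.map (g.stalkMap u).hom).minimalPrimes.encard ≤
        (I.map (algebraMap (X.presheaf.stalk (g u))
          (Hens (X.presheaf.stalk (g u))))).minimalPrimes.encard) := by
  have hf : ∃ U' : U.Opens, u ∈ U' ∧ Etale (U'.ι ≫ g) := ⟨⊤, trivial, inferInstance⟩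
  obtain ⟨W, V, hW, hV, hVW, hxV, het⟩ :=
    Groth.Agent.Lib.Helper8.EtaleAffineNhd.exists_affine_etale_appLE g u hf
  have hyW : g u ∈ W := hVW hxV
  have hcomm : X.presheaf.germ W (g u) hyW ≫ g.stalkMap u =
      g.appLE W V hVW ≫ U.presheaf.germ V u hxV := by
    rw [Scheme.Hom.germ_stalkMap, Scheme.Hom.appLE, Category.assoc, TopCat.Presheaf.germ_res]
  letI algAC : Algebra Γ(X, W) Γ(U, V) := (g.appLE W V hVW).hom.toAlgebra
  haveI : Algebra.Etale Γ(X, W) Γ(U, V) := het
  letI algA : Algebra Γ(X, W) (X.presheaf.stalk (g u)) :=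
    X.presheaf.algebra_section_stalk ⟨g u, hyW⟩
  letI algB : Algebra Γ(U, V) (U.presheaf.stalk u) := U.presheaf.algebra_section_stalk ⟨u, hxV⟩
  letI algAB : Algebra (X.presheaf.stalk (g u)) (U.presheaf.stalk u) :=
    (g.stalkMap u).hom.toAlgebra
  letI algA₀B : Algebra Γ(X, W) (U.presheaf.stalk u) :=
    ((U.presheaf.germ V u hxV).hom.comp (g.appLE W V hVW).hom).toAlgebra
  haveI : IsScalarTower Γ(X, W) Γ(U, V) (U.presheaf.stalk u) :=
    IsScalarTower.of_algebraMap_eq (fun _ => rfl)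
  haveI : IsScalarTower Γ(X, W) (X.presheaf.stalk (g u)) (U.presheaf.stalk u) := by
    refine IsScalarTower.of_algebraMap_eq (fun a => ?_)
    have := congrArg (fun φ => φ.hom a) hcomm
    exact this.symm
  haveI : IsLocalHom (algebraMap (X.presheaf.stalk (g u)) (U.presheaf.stalk u)) :=
    (inferInstance : IsLocalHom (g.stalkMap u).hom)
  haveI := hW.isLocalization_stalk ⟨g u, hyW⟩
  haveI := hV.isLocalization_stalk ⟨u, hxV⟩
  obtain ⟨h1, h2⟩ := encard_map_le_of_etale
    (hW.primeIdealOf ⟨g u, hyW⟩).asIdeal (hV.primeIdealOf ⟨u, hxV⟩).asIdeal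
    (X.presheaf.stalk (g u)) (U.presheaf.stalk u) I
  exact ⟨h1, fun hres => h2 hres⟩

end upper

section lower

theorem germ_stalkMap_spec {X : Scheme.{u}} {V : X.Opens} (hV : IsAffineOpen V)
    {E : CommRingCat.{u}} (φ : Γ(X, V) ⟶ E) (u : Spec E)
    (hu : (Spec.map φ ≫ hV.fromSpec) u ∈ V) :
    X.presheaf.germ V _ hu ≫ (Spec.map φ ≫ hV.fromSpec).stalkMap u =
      φ ≫ (Scheme.ΓSpecIso E).inv ≫ (Spec E).presheaf.germ ⊤ u trivial := by
  haveI : IsOpenImmersion hV.fromSpec := hV.isOpenImmersion_fromSpec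
  apply Spec.map_injective
  rw [← cancel_mono hV.fromSpec, Spec.map_comp, Category.assoc]
  have h1 : Spec.map (X.presheaf.germ V _ hu) ≫ hV.fromSpec = X.fromSpecStalk _ :=
    hV.fromSpecStalk_eq_fromSpecStalk hu
  rw [h1, Scheme.SpecMap_stalkMap_fromSpecStalk, Spec.fromSpecStalk_eq, Spec.map_comp φ,
    Category.assoc]

/-- Lower bound: every stage of the colimit is the local ring of an étale neighbourhood;
fibre version. -/
theorem exists_etale_nbhd_of_idx_fibre {X S : Scheme.{u}} (f : X ⟶ S) (x : X) {V : X.Opens}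
    (hV : IsAffineOpen V)
    (hx : x ∈ V) (Ω : Type u) [Field Ω] [Algebra Γ(X, V) Ω]
    (hker : ∀ r : Γ(X, V), algebraMap Γ(X, V) Ω r = 0 ↔ r ∈ (hV.primeIdealOf ⟨x, hx⟩).asIdeal)
    (k : Idx Γ(X, V) Ω) :
    ∃ (U : Scheme.{u}) (g : U ⟶ X) (u : U), Etale g ∧ g u = x ∧
      (fiberIdeal (g ≫ f) u).minimalPrimes.encard =
        (((fiberIdeal f x).comap (X.presheaf.germ V x hx).hom).map
          (algebraMap Γ(X, V) k.B)).minimalPrimes.encard ∧
      ((∀ ω : Ω, ∃ a t : Γ(X, V), algebraMap Γ(X, V) Ω t ≠ 0 ∧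
          ω * algebraMap Γ(X, V) Ω t = algebraMap Γ(X, V) Ω a) →
        Function.Bijective (g.residueFieldMap u)) := by
  haveI : Etale (Spec.map (CommRingCat.ofHom (algebraMap Γ(X, V) k.E))) :=
    HasRingHomProperty.Spec_iff.mpr (RingHom.etale_algebraMap.mpr inferInstance)
  haveI : IsOpenImmersion hV.fromSpec := hV.isOpenImmersion_fromSpec
  have hgu : (Spec.map (CommRingCat.ofHom (algebraMap Γ(X, V) k.E)) ≫ hV.fromSpec)
      (⟨k.q, inferInstance⟩ : Spec (CommRingCat.of k.E)) = x := by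
    rw [Scheme.Hom.comp_apply]
    have hse : hV.fromSpec (hV.primeIdealOf ⟨x, hx⟩) = x := hV.fromSpec_primeIdealOf ⟨x, hx⟩
    refine Eq.trans ?_ hse
    congr 1
    refine PrimeSpectrum.ext ?_
    ext r
    change algebraMap Γ(X, V) k.E r ∈ k.q ↔ _
    rw [k.mem_q, AlgHom.commutes, hker]
  refine ⟨Spec (.of k.E), Spec.map (CommRingCat.ofHom (algebraMap Γ(X, V) k.E)) ≫ hV.fromSpec,
    (⟨k.q, inferInstance⟩ : Spec (CommRingCat.of k.E)), inferInstance, hgu, ?_, ?_⟩
  · obtain ⟨g, hg⟩ : ∃ g : Spec (.of k.E) ⟶ X,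
        g = Spec.map (CommRingCat.ofHom (algebraMap Γ(X, V) k.E)) ≫ hV.fromSpec := ⟨_, rfl⟩
    obtain ⟨u, hu⟩ : ∃ u : Spec (CommRingCat.of k.E),
        u = (⟨k.q, inferInstance⟩ : Spec (CommRingCat.of k.E)) := ⟨_, rfl⟩
    rw [← hg, ← hu] at hgu ⊢
    have hx' : g u ∈ V := hgu ▸ hx
    letI algA : Algebra Γ(X, V) (X.presheaf.stalk (g u)) :=
      X.presheaf.algebra_section_stalk ⟨g u, hx'⟩
    haveI := hV.isLocalization_stalk ⟨g u, hx'⟩
    have h2 : ((fiberIdeal f (g u)).comap (X.presheaf.germ V (g u) hx').hom).map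
        (X.presheaf.germ V (g u) hx').hom = fiberIdeal f (g u) :=
      IsLocalization.map_comap (hV.primeIdealOf ⟨g u, hx'⟩).asIdeal.primeCompl
        (X.presheaf.stalk (g u)) _
    have h3 : (fiberIdeal f (g u)).comap (X.presheaf.germ V (g u) hx').hom =
        (fiberIdeal f x).comap (X.presheaf.germ V x hx).hom :=
      comap_germ_fiberIdeal_congr f V hgu hx' hx
    obtain ⟨𝔞, h𝔞⟩ : ∃ 𝔞 : Ideal Γ(X, V),
        𝔞 = (fiberIdeal f x).comap (X.presheaf.germ V x hx).hom := ⟨_, rfl⟩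
    rw [← h𝔞] at h3 ⊢
    rw [h3] at h2
    have key : fiberIdeal (g ≫ f) u =
        𝔞.map ((g.stalkMap u).hom.comp (X.presheaf.germ V (g u) hx').hom) := by
      rw [fiberIdeal_comp, ← Ideal.map_map, h2]
    rw [key]
    have hcompat : ∀ r : Γ(X, V), (g.stalkMap u).hom ((X.presheaf.germ V (g u) hx').hom r) =
        (Spec.stalkIso (.of k.E) u).inv.hom
          (algebraMap k.E (Localization.AtPrime u.asIdeal) (algebraMap Γ(X, V) k.E r)) := by
      intro r
      subst hg
      have e1 := congrArg (fun ψ => ψ.hom r)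
        (germ_stalkMap_spec hV (CommRingCat.ofHom (algebraMap Γ(X, V) k.E)) u hx')
      have e2 := congrArg (fun ψ => ψ.hom (algebraMap Γ(X, V) k.E r))
        (Spec.algebraMap_stalkIso_inv (R := .of k.E) (x := u))
      exact e1.trans e2.symm
    subst hu
    have hφ : (g.stalkMap _).hom.comp (X.presheaf.germ V (g _) hx').hom =
        ((Spec.stalkIso (.of k.E) ⟨k.q, inferInstance⟩).inv.hom).comp
          (algebraMap Γ(X, V) k.B) := by
      ext r
      rw [RingHom.comp_apply, RingHom.comp_apply, hcompat r,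
        IsScalarTower.algebraMap_apply Γ(X, V) k.E k.B]
    rw [hφ, ← Ideal.map_map]
    exact encard_minimalPrimes_map_ringEquiv
      (Spec.stalkIso (.of k.E) ⟨k.q, inferInstance⟩).symm.commRingCatIsoToRingEquiv
      _ (fun _ => rfl) _
  · intro hfrac
    refine ⟨(Scheme.Hom.residueFieldMap _ _).hom.injective, ?_⟩
    refine EtLocSch.residueFieldMap_comp_openImm_surjective (algebraMap Γ(X, V) k.E)
      hV.fromSpec _ ?_
    intro b
    obtain ⟨a, t, ht, hω⟩ := hfrac (k.χ b)
    refine ⟨a, t, ?_, ?_⟩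
    · change algebraMap Γ(X, V) k.E t ∉ k.q
      rw [k.mem_q, AlgHom.commutes]
      exact ht
    · change algebraMap Γ(X, V) k.E t * b - algebraMap Γ(X, V) k.E a ∈ k.q
      rw [k.mem_q, map_sub, map_mul, AlgHom.commutes, AlgHom.commutes, mul_comm, hω, sub_self]

end lower

section main

theorem numGeomBranchesAt_fibre_eq_iSup
    (hbr : ∀ (R S : Type u) [CommRing R] [IsLocalRing R] [CommRing S] [IsLocalRing S]
      [Algebra R S] [IsLocalHom (algebraMap R S)] [Hensel.IsStrictHenselization R S],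
      ENat.card (minimalPrimes S) = Brnch.numGeomBranches R)
    {X S : Scheme.{u}} (f : X ⟶ S) (x : X) :
    Brnch.numGeomBranchesAt (f.fiber (f x)) (f.asFiber x) =
      ⨆ (U : Scheme.{u}) (g : U ⟶ X) (u : U) (_ : Etale g ∧ g u = x),
      {Z : Set ↑((g ≫ f).fiber (f x)) | Z ∈ irreducibleComponents ↑((g ≫ f).fiber (f x)) ∧
        ∃ u' ∈ Z, (g ≫ f).fiberι (f x) u' = u}.encard := by
  have hL : ∀ (x : X), Brnch.numGeomBranchesAt (f.fiber (f x)) (f.asFiber x) =
      Brnch.numGeomBranches (X.presheaf.stalk x ⧸ fiberIdeal f x) := fun x =>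
    numGeomBranches_eq_of_ringEquiv hbr (fiberStalkEquiv f x)
  apply le_antisymm
  · rw [hL x]
    obtain ⟨_, ⟨V, hV, rfl⟩, hxV, -⟩ :=
      X.isBasis_affineOpens.exists_subset_of_mem_open (Set.mem_univ x) isOpen_univ
    letI algA : Algebra Γ(X, V) (X.presheaf.stalk x) :=
      X.presheaf.algebra_section_stalk ⟨x, hxV⟩
    haveI := hV.isLocalization_stalk ⟨x, hxV⟩
    letI algΩ : Algebra Γ(X, V) (Ωs (X.presheaf.stalk x)) :=
      ((algebraMap (X.presheaf.stalk x) (Ωs (X.presheaf.stalk x))).comp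
        (algebraMap Γ(X, V) (X.presheaf.stalk x))).toAlgebra
    haveI : IsScalarTower Γ(X, V) (X.presheaf.stalk x) (Ωs (X.presheaf.stalk x)) :=
      IsScalarTower.of_algebraMap_eq (fun _ => rfl)
    letI algAH := AtPrimeGen.algebraHz Γ(X, V) (hV.primeIdealOf ⟨x, hxV⟩).asIdeal
      (X.presheaf.stalk x) (Ωs (X.presheaf.stalk x))
    haveI := AtPrimeGen.isScalarTower_algebraHz Γ(X, V) (hV.primeIdealOf ⟨x, hxV⟩).asIdeal
      (X.presheaf.stalk x) (Ωs (X.presheaf.stalk x))
    haveI := AtPrimeGen.isLocalHom_algebraMap Γ(X, V) (hV.primeIdealOf ⟨x, hxV⟩).asIdeal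
      (X.presheaf.stalk x) (Ωs (X.presheaf.stalk x))
    haveI := AtPrimeGen.isStrictHenselization Γ(X, V) (hV.primeIdealOf ⟨x, hxV⟩).asIdeal
      (X.presheaf.stalk x)
    have hN : Brnch.numGeomBranches (X.presheaf.stalk x ⧸ fiberIdeal f x) =
        ((fiberIdeal f x).map (algebraMap (X.presheaf.stalk x)
          (Hz Γ(X, V) (Ωs (X.presheaf.stalk x))))).minimalPrimes.encard :=
      numGeomBranches_quotient_eq (X.presheaf.stalk x) (Hz Γ(X, V) (Ωs (X.presheaf.stalk x)))
        (fiberIdeal f x) hbr (fiberIdeal_ne_top f x)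
    obtain ⟨𝔞, h𝔞⟩ : ∃ 𝔞 : Ideal Γ(X, V),
        𝔞 = (fiberIdeal f x).comap (X.presheaf.germ V x hxV).hom := ⟨_, rfl⟩
    have hI : 𝔞.map (algebraMap Γ(X, V) (X.presheaf.stalk x)) = fiberIdeal f x := by
      rw [h𝔞]
      exact IsLocalization.map_comap (hV.primeIdealOf ⟨x, hxV⟩).asIdeal.primeCompl
        (X.presheaf.stalk x) _
    have hmap : (𝔞.map (algebraMap Γ(X, V) (X.presheaf.stalk x))).map
        (algebraMap (X.presheaf.stalk x) (Hz Γ(X, V) (Ωs (X.presheaf.stalk x)))) =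
        𝔞.map (algebraMap Γ(X, V) (Hz Γ(X, V) (Ωs (X.presheaf.stalk x)))) := by
      rw [Ideal.map_map, ← IsScalarTower.algebraMap_eq Γ(X, V) (X.presheaf.stalk x)
        (Hz Γ(X, V) (Ωs (X.presheaf.stalk x)))]
    rw [hI] at hmap
    rw [hN, hmap]
    refine ENat.forall_natCast_le_iff_le.mp fun n hn => ?_
    obtain ⟨k, hk⟩ := exists_idx_natCast_le_encard_map 𝔞 n hn
    obtain ⟨U, g, u, hg, hgu, hcard, -⟩ := exists_etale_nbhd_of_idx_fibre f x hV hxV
      (Ωs (X.presheaf.stalk x))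
      (fun r => AtPrimeGen.algebraMap_eq_zero_iff Γ(X, V) _ (X.presheaf.stalk x) _ r) k
    rw [← h𝔞] at hcard
    refine le_trans ?_ (le_iSup_of_le U (le_iSup_of_le g (le_iSup_of_le u
      (le_iSup_of_le ⟨hg, hgu⟩ le_rfl))))
    have hgu' : (g ≫ f) u = f x := by rw [Scheme.Hom.comp_apply, hgu]
    rw [encard_fibre_components' (g ≫ f) u (f x) hgu', hcard]
    exact hk
  · refine iSup_le fun U => iSup_le fun g => iSup_le fun u => iSup_le fun h => ?_
    obtain ⟨hg, hgu⟩ := h
    subst hgu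
    haveI := hg
    refine le_trans (le_of_eq (encard_fibre_components' (g ≫ f) u (f (g u)) rfl)) ?_
    rw [fiberIdeal_comp, hL (g u)]
    haveI := isStrictHenselization (X.presheaf.stalk (g u))
    have h1 := (encard_map_stalk_le g u (fiberIdeal f (g u))).1
    have h2 := numGeomBranches_quotient_eq (X.presheaf.stalk (g u))
      (SHens (X.presheaf.stalk (g u))) (fiberIdeal f (g u)) hbr (fiberIdeal_ne_top f (g u))
    exact h1.trans (le_of_eq h2.symm)

theorem numBranchesAt_fibre_eq_iSup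
    (hbr : ∀ (R S : Type u) [CommRing R] [IsLocalRing R] [CommRing S] [IsLocalRing S]
      [Algebra R S] [IsLocalHom (algebraMap R S)] [Hensel.IsHenselization R S],
      ENat.card (minimalPrimes S) = Brnch.numBranches R)
    {X S : Scheme.{u}} (f : X ⟶ S) (x : X) :
    Brnch.numBranchesAt (f.fiber (f x)) (f.asFiber x) =
      ⨆ (U : Scheme.{u}) (g : U ⟶ X) (u : U) (_ : Hens2.IsEtaleNbhd g u x),
      {Z : Set ↑((g ≫ f).fiber (f x)) | Z ∈ irreducibleComponents ↑((g ≫ f).fiber (f x)) ∧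
        ∃ u' ∈ Z, (g ≫ f).fiberι (f x) u' = u}.encard := by
  have hL : ∀ (x : X), Brnch.numBranchesAt (f.fiber (f x)) (f.asFiber x) =
      Brnch.numBranches (X.presheaf.stalk x ⧸ fiberIdeal f x) := fun x =>
    numBranches_eq_of_ringEquiv hbr (fiberStalkEquiv f x)
  apply le_antisymm
  · rw [hL x]
    obtain ⟨_, ⟨V, hV, rfl⟩, hxV, -⟩ :=
      X.isBasis_affineOpens.exists_subset_of_mem_open (Set.mem_univ x) isOpen_univ
    letI algA : Algebra Γ(X, V) (X.presheaf.stalk x) :=
      X.presheaf.algebra_section_stalk ⟨x, hxV⟩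
    haveI := hV.isLocalization_stalk ⟨x, hxV⟩
    letI algΩ : Algebra Γ(X, V) (ResidueField (X.presheaf.stalk x)) :=
      ((algebraMap (X.presheaf.stalk x) (ResidueField (X.presheaf.stalk x))).comp
        (algebraMap Γ(X, V) (X.presheaf.stalk x))).toAlgebra
    haveI : IsScalarTower Γ(X, V) (X.presheaf.stalk x) (ResidueField (X.presheaf.stalk x)) :=
      IsScalarTower.of_algebraMap_eq (fun _ => rfl)
    letI algAH := AtPrimeGen.algebraHz Γ(X, V) (hV.primeIdealOf ⟨x, hxV⟩).asIdeal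
      (X.presheaf.stalk x) (ResidueField (X.presheaf.stalk x))
    haveI := AtPrimeGen.isScalarTower_algebraHz Γ(X, V) (hV.primeIdealOf ⟨x, hxV⟩).asIdeal
      (X.presheaf.stalk x) (ResidueField (X.presheaf.stalk x))
    haveI := AtPrimeGen.isLocalHom_algebraMap Γ(X, V) (hV.primeIdealOf ⟨x, hxV⟩).asIdeal
      (X.presheaf.stalk x) (ResidueField (X.presheaf.stalk x))
    haveI := AtPrimeGen.isHenselization Γ(X, V) (hV.primeIdealOf ⟨x, hxV⟩).asIdeal
      (X.presheaf.stalk x)
    have hN : Brnch.numBranches (X.presheaf.stalk x ⧸ fiberIdeal f x) =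
        ((fiberIdeal f x).map (algebraMap (X.presheaf.stalk x)
          (Hz Γ(X, V) (ResidueField (X.presheaf.stalk x))))).minimalPrimes.encard :=
      numBranches_quotient_eq (X.presheaf.stalk x)
        (Hz Γ(X, V) (ResidueField (X.presheaf.stalk x)))
        (fiberIdeal f x) hbr (fiberIdeal_ne_top f x)
    obtain ⟨𝔞, h𝔞⟩ : ∃ 𝔞 : Ideal Γ(X, V),
        𝔞 = (fiberIdeal f x).comap (X.presheaf.germ V x hxV).hom := ⟨_, rfl⟩
    have hI : 𝔞.map (algebraMap Γ(X, V) (X.presheaf.stalk x)) = fiberIdeal f x := by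
      rw [h𝔞]
      exact IsLocalization.map_comap (hV.primeIdealOf ⟨x, hxV⟩).asIdeal.primeCompl
        (X.presheaf.stalk x) _
    have hmap : (𝔞.map (algebraMap Γ(X, V) (X.presheaf.stalk x))).map
        (algebraMap (X.presheaf.stalk x) (Hz Γ(X, V) (ResidueField (X.presheaf.stalk x)))) =
        𝔞.map (algebraMap Γ(X, V) (Hz Γ(X, V) (ResidueField (X.presheaf.stalk x)))) := by
      rw [Ideal.map_map, ← IsScalarTower.algebraMap_eq Γ(X, V) (X.presheaf.stalk x)
        (Hz Γ(X, V) (ResidueField (X.presheaf.stalk x)))]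
    rw [hI] at hmap
    rw [hN, hmap]
    refine ENat.forall_natCast_le_iff_le.mp fun n hn => ?_
    obtain ⟨k, hk⟩ := exists_idx_natCast_le_encard_map 𝔞 n hn
    obtain ⟨U, g, u, hg, hgu, hcard, hres⟩ := exists_etale_nbhd_of_idx_fibre f x hV hxV
      (ResidueField (X.presheaf.stalk x))
      (fun r => AtPrimeGen.algebraMap_eq_zero_iff Γ(X, V) _ (X.presheaf.stalk x) _ r) k
    rw [← h𝔞] at hcard
    have hnb : Hens2.IsEtaleNbhd g u x :=
      ⟨hg, hgu, hres (AtPrimeGen.exists_frac Γ(X, V) (hV.primeIdealOf ⟨x, hxV⟩).asIdeal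
        (X.presheaf.stalk x))⟩
    refine le_trans ?_ (le_iSup_of_le U (le_iSup_of_le g (le_iSup_of_le u
      (le_iSup_of_le hnb le_rfl))))
    have hgu' : (g ≫ f) u = f x := by rw [Scheme.Hom.comp_apply, hgu]
    rw [encard_fibre_components' (g ≫ f) u (f x) hgu', hcard]
    exact hk
  · refine iSup_le fun U => iSup_le fun g => iSup_le fun u => iSup_le fun h => ?_
    obtain ⟨hg, hgu, hres⟩ := h
    subst hgu
    haveI := hg
    refine le_trans (le_of_eq (encard_fibre_components' (g ≫ f) u (f (g u)) rfl)) ?_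
    rw [fiberIdeal_comp, hL (g u)]
    haveI := isHenselization (X.presheaf.stalk (g u))
    have h1 := (encard_map_stalk_le g u (fiberIdeal f (g u))).2 hres
    have h2 := numBranches_quotient_eq (X.presheaf.stalk (g u))
      (Hens (X.presheaf.stalk (g u))) (fiberIdeal f (g u)) hbr (fiberIdeal_ne_top f (g u))
    exact h1.trans (le_of_eq h2.symm)

end main

end Groth.Agent.Lib.Helper8.BranchFibre
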