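import Mathlib
import Groth.Prelude
import Groth.Agent.Lib.Helper8.UnibranchMain

/-!
# Branches of a local ring: counting lemmas

* `sum_length_quotient_le`: for `C` integral over a local ring `A` and distinct maximal ideals
  `m_i` of `C`: `∑ length_A (C / m_i) ≤ length_A (C / A) + 1`.
* `card_emb_le_length`: the number of embeddings of a residue field extension into the algebraic
  closure is at most its length.
* `normEquiv`: for reduced `A`, the integral closure of `A` in its total fraction ring is
  `CAlg2.normRed A`.
* `numGeomBranches_le`: `numGeomBranches A ≤ length_A (A'/A) + 1`.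
-/

set_option autoImplicit false
universe u
open IsLocalRing

namespace Groth.Agent.Lib.Helper8.Branches

open Groth.Agent.Lib.Helper8.UnibranchHens


/-- For an integral algebra `C` over a local ring `A` and finitely many distinct maximal ideals of
`C`, the sum of the lengths of the residue fields is at most `length (C / A) + 1`. -/
theorem sum_length_quotient_le (A C : Type u) [CommRing A] [IsLocalRing A] [CommRing C]
    [Algebra A C] [Algebra.IsIntegral A C] {ι : Type u} [Fintype ι] (I : ι → Ideal C)
    (hmax : ∀ i, (I i).IsMaximal) (hinj : Function.Injective I) :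
    ∑ i, Module.length A (C ⧸ I i) ≤
      Module.length A (C ⧸ LinearMap.range (Algebra.linearMap A C)) + 1 := by
  have hI : Pairwise (Function.onFun IsCoprime I) := fun i j hij =>
    haveI := hmax i
    haveI := hmax j
    Ideal.isCoprime_of_isMaximal (fun h => hij (hinj h))
  let π : C →ₗ[A] (Π i, C ⧸ I i) := (LinearMap.pi fun i ↦ (I i).mkQ).restrictScalars A
  have hπ : Function.Surjective π := Ideal.pi_mkQ_surjective hI
  let g : A →ₗ[A] (Π i, C ⧸ I i) := π ∘ₗ Algebra.linearMap A C
  have hle : LinearMap.range (Algebra.linearMap A C) ≤ (LinearMap.range g).comap π := by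
    rintro _ ⟨a, rfl⟩
    exact ⟨a, rfl⟩
  let π' := Submodule.mapQ (LinearMap.range (Algebra.linearMap A C)) (LinearMap.range g) π hle
  have hπ' : Function.Surjective π' := by
    intro y
    obtain ⟨y, rfl⟩ := Submodule.Quotient.mk_surjective _ y
    obtain ⟨c, rfl⟩ := hπ y
    exact ⟨Submodule.Quotient.mk c, rfl⟩
  have h1 : Module.length A ((Π i, C ⧸ I i) ⧸ LinearMap.range g) ≤
      Module.length A (C ⧸ LinearMap.range (Algebra.linearMap A C)) :=
    Module.length_le_of_surjective π' hπ'
  have h2 : Module.length A (Π i, C ⧸ I i) = Module.length A (LinearMap.range g) +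
      Module.length A ((Π i, C ⧸ I i) ⧸ LinearMap.range g) :=
    Module.length_eq_add_of_exact (LinearMap.range g).subtype (LinearMap.range g).mkQ
      (Submodule.subtype_injective _) (Submodule.mkQ_surjective _)
      (LinearMap.exact_subtype_mkQ _)
  have hker : maximalIdeal A ≤ LinearMap.ker g.rangeRestrict := by
    intro a ha
    rw [LinearMap.mem_ker]
    apply Subtype.ext
    funext i
    change Ideal.Quotient.mk (I i) (algebraMap A C a) = 0
    rw [Ideal.Quotient.eq_zero_iff_mem]
    have h3 : ((I i).comap (algebraMap A C)).IsMaximal :=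
      Ideal.isMaximal_comap_of_isIntegral_of_isMaximal (I i)
    have h4 := eq_maximalIdeal h3
    have : a ∈ (I i).comap (algebraMap A C) := h4 ▸ ha
    exact this
  let g' : (A ⧸ maximalIdeal A) →ₗ[A] LinearMap.range g :=
    (maximalIdeal A).liftQ g.rangeRestrict hker
  have hg' : Function.Surjective g' := by
    rintro ⟨_, ⟨a, rfl⟩⟩
    exact ⟨Submodule.Quotient.mk a, rfl⟩
  have h5 : Module.length A (A ⧸ maximalIdeal A) = 1 := by
    have h6 : Module.length A (ResidueField A) = Module.length (ResidueField A) (ResidueField A) :=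
      Module.length_eq_of_surjective (S := A) (R := ResidueField A) (M := ResidueField A)
        residue_surjective
    rw [Module.length_eq_finrank, Module.finrank_self] at h6
    exact h6
  have h7 : Module.length A (LinearMap.range g) ≤ 1 :=
    h5 ▸ Module.length_le_of_surjective g' hg'
  rw [← Module.length_pi_of_fintype, h2, add_comm]
  exact add_le_add h1 h7


/-- The number of embeddings over the residue field of `A` of a field `L` (receiving `A` with the
maximal ideal in the kernel) into the algebraic closure is at most the `A`-length of `L`. -/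
theorem card_emb_le_length (A L : Type u) [CommRing A] [IsLocalRing A] [Field L] [Algebra A L]
    (hker : ∀ a ∈ maximalIdeal A, algebraMap A L a = 0) :
    ENat.card {σ : L →+* AlgebraicClosure (ResidueField A) //
      σ.comp (algebraMap A L) = Brnch.toClosure A} ≤ Module.length A L := by
  by_cases hfin : Module.length A L = ⊤
  · rw [hfin]; exact le_top
  let φ : ResidueField A →+* L := Ideal.Quotient.lift (maximalIdeal A) (algebraMap A L) hker
  letI : Algebra (ResidueField A) L := φ.toAlgebra
  haveI : IsScalarTower A (ResidueField A) L := IsScalarTower.of_algebraMap_eq (fun a => rfl)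
  have h1 : Module.length A L = Module.length (ResidueField A) L :=
    Module.length_eq_of_surjective (S := A) (R := ResidueField A) (M := L) residue_surjective
  have h2 : Module.Finite (ResidueField A) L := by
    rw [h1, Module.length_eq_rank] at hfin
    rw [← Module.rank_lt_aleph0_iff]
    by_contra hlt
    exact hfin (Cardinal.toENat_eq_top.mpr (not_lt.mp hlt))
  let e : {σ : L →+* AlgebraicClosure (ResidueField A) //
      σ.comp (algebraMap A L) = Brnch.toClosure A} ≃
      (L →ₐ[ResidueField A] AlgebraicClosure (ResidueField A)) :=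
    { toFun := fun σ => { σ.1 with
        commutes' := fun k => by
          obtain ⟨a, rfl⟩ := residue_surjective k
          exact congr($(σ.2) a) }
      invFun := fun τ => ⟨τ.toRingHom, RingHom.ext fun a => τ.commutes (residue A a)⟩
      left_inv := fun σ => rfl
      right_inv := fun τ => rfl }
  haveI : Algebra.IsAlgebraic (ResidueField A) L := Algebra.IsAlgebraic.of_finite _ _
  have h3 : Nat.card (L →ₐ[ResidueField A] AlgebraicClosure (ResidueField A)) =
      Field.finSepDegree (ResidueField A) L :=
    (Field.finSepDegree_eq_of_isAlgClosed (ResidueField A) L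
      (AlgebraicClosure (ResidueField A))).symm
  haveI : Finite (L →ₐ[ResidueField A] AlgebraicClosure (ResidueField A)) := inferInstance
  haveI : Finite {σ : L →+* AlgebraicClosure (ResidueField A) //
      σ.comp (algebraMap A L) = Brnch.toClosure A} := Finite.of_equiv _ e.symm
  rw [h1, Module.length_eq_finrank, ENat.card_eq_coe_natCard, Nat.card_congr e, h3]
  exact_mod_cast Field.finSepDegree_le_finrank (ResidueField A) L


section iso
variable (A : Type u) [CommRing A] [IsReduced A]

/-- `A ≃ A_red` for a reduced ring. -/
noncomputable def redEquiv : A ≃+* CAlg2.red A :=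
  RingEquiv.ofBijective (Ideal.Quotient.mk (nilradical A)) ⟨by
    rw [injective_iff_map_eq_zero]
    intro x hx
    have : x ∈ nilradical A := Ideal.Quotient.eq_zero_iff_mem.mp hx
    rwa [nilradical_eq_zero, Ideal.zero_eq_bot, Ideal.mem_bot] at this,
    Ideal.Quotient.mk_surjective⟩

lemma redEquiv_apply (a : A) : redEquiv A a = Ideal.Quotient.mk (nilradical A) a := rfl

/-- The induced isomorphism of total fraction rings. -/
noncomputable def fracEquiv : FractionRing A ≃+* FractionRing (CAlg2.red A) :=
  IsFractionRing.ringEquivOfRingEquiv (redEquiv A)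

lemma fracEquiv_algebraMap (a : A) : fracEquiv A (algebraMap A (FractionRing A) a) =
    algebraMap (CAlg2.red A) (FractionRing (CAlg2.red A)) (Ideal.Quotient.mk (nilradical A) a) := by
  rw [fracEquiv, IsFractionRing.ringEquivOfRingEquiv_algebraMap, redEquiv_apply]

lemma fracEquiv_symm_algebraMap (a : A) : (fracEquiv A).symm
    (algebraMap (CAlg2.red A) (FractionRing (CAlg2.red A)) (Ideal.Quotient.mk (nilradical A) a)) =
      algebraMap A (FractionRing A) a := by
  rw [← fracEquiv_algebraMap, RingEquiv.symm_apply_apply]

lemma isIntegral_fracEquiv {x : FractionRing A} (hx : IsIntegral A x) :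
    IsIntegral (CAlg2.red A) (fracEquiv A x) := by
  refine IsIntegral.map_of_comp_eq (redEquiv A).toRingHom (fracEquiv A).toRingHom ?_ hx
  ext a
  exact (fracEquiv_algebraMap A a).symm

lemma isIntegral_fracEquiv_symm {y : FractionRing (CAlg2.red A)}
    (hy : IsIntegral (CAlg2.red A) y) : IsIntegral A ((fracEquiv A).symm y) := by
  refine IsIntegral.map_of_comp_eq (redEquiv A).symm.toRingHom (fracEquiv A).symm.toRingHom ?_ hy
  ext a
  change algebraMap A (FractionRing A) ((redEquiv A).symm (redEquiv A a)) =
    (fracEquiv A).symm (algebraMap _ _ (Ideal.Quotient.mk _ a))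
  rw [RingEquiv.symm_apply_apply]
  exact (fracEquiv_symm_algebraMap A a).symm

/-- The `A`-linear isomorphism between the integral closure of `A` in its total fraction ring and
`CAlg2.normRed A`. -/
noncomputable def normEquiv : integralClosure A (FractionRing A) ≃ₗ[A] CAlg2.normRed A where
  toFun x := ⟨fracEquiv A x.1, isIntegral_fracEquiv A x.2⟩
  invFun y := ⟨(fracEquiv A).symm y.1, isIntegral_fracEquiv_symm A y.2⟩
  map_add' x y := Subtype.ext (map_add (fracEquiv A) _ _)
  map_smul' a x := by
    apply Subtype.ext
    change fracEquiv A (a • x.1) = a • fracEquiv A x.1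
    rw [Algebra.smul_def, map_mul, fracEquiv_algebraMap, Algebra.smul_def,
      IsScalarTower.algebraMap_apply A (CAlg2.red A) (FractionRing (CAlg2.red A))]
    rfl
  left_inv x := Subtype.ext ((fracEquiv A).symm_apply_apply _)
  right_inv y := Subtype.ext ((fracEquiv A).apply_symm_apply _)

lemma normEquiv_algebraMap (a : A) :
    normEquiv A (algebraMap A (integralClosure A (FractionRing A)) a) =
      algebraMap A (CAlg2.normRed A) a := by
  apply Subtype.ext
  exact fracEquiv_algebraMap A a

theorem length_quotient_normRed :
    Module.length A (CAlg2.normRed A ⧸ LinearMap.range (Algebra.linearMap A (CAlg2.normRed A))) =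
      Curv2.deltaInv A := by
  have hmap : (LinearMap.range (Algebra.linearMap A (integralClosure A (FractionRing A)))).map
      (normEquiv A).toLinearMap = LinearMap.range (Algebra.linearMap A (CAlg2.normRed A)) := by
    rw [← LinearMap.range_comp]
    congr 1
    exact LinearMap.ext fun a => normEquiv_algebraMap A a
  exact (Submodule.Quotient.equiv _ _ (normEquiv A) hmap).length_eq.symm

end iso

theorem numGeomBranches_le (A : Type u) [CommRing A] [IsLocalRing A]
    (hfin : (minimalPrimes A).Finite) :
    Brnch.numGeomBranches A ≤ Module.length A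
      (CAlg2.normRed A ⧸ LinearMap.range (Algebra.linearMap A (CAlg2.normRed A))) + 1 := by
  classical
  unfold Brnch.numGeomBranches
  rw [if_pos hfin]
  by_cases htop : Module.length A
      (CAlg2.normRed A ⧸ LinearMap.range (Algebra.linearMap A (CAlg2.normRed A))) = ⊤
  · rw [htop]; exact le_top
  obtain ⟨n, hn⟩ := ENat.ne_top_iff_exists.mp htop
  rw [← hn]
  -- step a
  have ha : ∀ s : Finset (MaximalSpectrum (CAlg2.normRed A)),
      ∑ m : {x // x ∈ s}, Module.length A (CAlg2.normRed A ⧸ m.1.asIdeal) ≤ (n : ℕ∞) + 1 := by
    intro s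
    have := sum_length_quotient_le A (CAlg2.normRed A)
      (fun m : {x // x ∈ s} => m.1.asIdeal) (fun m => m.1.isMaximal)
      (fun m m' h => Subtype.ext (MaximalSpectrum.ext h))
    rwa [← hn] at this
  have hpos : ∀ m : MaximalSpectrum (CAlg2.normRed A),
      1 ≤ Module.length A (CAlg2.normRed A ⧸ m.asIdeal) := by
    intro m
    haveI : Nontrivial (CAlg2.normRed A ⧸ m.asIdeal) :=
      Ideal.Quotient.nontrivial_iff.mpr m.isMaximal.ne_top
    exact Order.one_le_iff_pos.mpr Module.length_pos
  -- step b
  haveI hfinM : Finite (MaximalSpectrum (CAlg2.normRed A)) := by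
    by_contra hinf
    rw [not_finite_iff_infinite] at hinf
    obtain ⟨s, hs⟩ := Infinite.exists_subset_card_eq (MaximalSpectrum (CAlg2.normRed A)) (n + 2)
    have h1 := ha s
    have h2 : ((n + 2 : ℕ) : ℕ∞) ≤
        ∑ m : {x // x ∈ s}, Module.length A (CAlg2.normRed A ⧸ m.1.asIdeal) := by
      calc ((n + 2 : ℕ) : ℕ∞) = ∑ m : {x // x ∈ s}, (1 : ℕ∞) := by
            simp [hs]
        _ ≤ _ := Finset.sum_le_sum (fun m _ => hpos m.1)
    have h3 := h2.trans h1
    have : ((n + 2 : ℕ) : ℕ∞) ≤ ((n + 1 : ℕ) : ℕ∞) := by exact_mod_cast h3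
    have := ENat.coe_le_coe.mp this
    omega
  haveI : Fintype (MaximalSpectrum (CAlg2.normRed A)) := Fintype.ofFinite _
  have hall : ∑ m : MaximalSpectrum (CAlg2.normRed A),
      Module.length A (CAlg2.normRed A ⧸ m.asIdeal) ≤ (n : ℕ∞) + 1 := by
    have := ha Finset.univ
    rw [← Finset.sum_coe_sort Finset.univ
      (fun m : MaximalSpectrum (CAlg2.normRed A) => Module.length A (CAlg2.normRed A ⧸ m.asIdeal))]
    exact this
  -- step c
  have hemb : ∀ m : MaximalSpectrum (CAlg2.normRed A),
      ENat.card (Brnch.Emb A m) ≤ Module.length A (CAlg2.normRed A ⧸ m.asIdeal) := by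
    intro m
    letI : Field (CAlg2.normRed A ⧸ m.asIdeal) := Ideal.Quotient.field _
    have hker : ∀ a ∈ maximalIdeal A, algebraMap A (CAlg2.normRed A ⧸ m.asIdeal) a = 0 := by
      intro a ha
      have h3 : (m.asIdeal.comap (algebraMap A (CAlg2.normRed A))).IsMaximal :=
        Ideal.isMaximal_comap_of_isIntegral_of_isMaximal m.asIdeal
      have h4 := eq_maximalIdeal h3
      have h5 : a ∈ m.asIdeal.comap (algebraMap A (CAlg2.normRed A)) := h4 ▸ ha
      exact Ideal.Quotient.eq_zero_iff_mem.mpr h5
    exact card_emb_le_length A (CAlg2.normRed A ⧸ m.asIdeal) hker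
  have hfinE : ∀ m : MaximalSpectrum (CAlg2.normRed A), Finite (Brnch.Emb A m) := by
    intro m
    rw [← ENat.card_lt_top]
    refine lt_of_le_of_lt (hemb m) ?_
    refine lt_of_le_of_lt ?_ (lt_of_le_of_lt hall (by exact_mod_cast ENat.coe_lt_top (n + 1)))
    exact Finset.single_le_sum (f := fun m : MaximalSpectrum (CAlg2.normRed A) =>
      Module.length A (CAlg2.normRed A ⧸ m.asIdeal)) (fun _ _ => zero_le) (Finset.mem_univ m)
  haveI := hfinE
  rw [ENat.card_eq_coe_natCard, Nat.card_sigma, Nat.cast_sum]
  refine le_trans (Finset.sum_le_sum (fun m _ => ?_)) hall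
  rw [← ENat.card_eq_coe_natCard]
  exact hemb m

end Groth.Agent.Lib.Helper8.Branches
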