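import Mathlib
import Groth.Prelude
import Groth.Agent.Lib.Helper8.Main16449
import Groth.Agent.Lib.Helper8.FracFgIff

/-!
# Base change of normalizations along essentially étale local algebras (abstract ambient ring)
-/

set_option autoImplicit false
set_option linter.style.haveILetI false
set_option linter.unusedSectionVars false

open IsLocalRing TensorProduct Polynomial

universe u

namespace Groth.Agent.Lib.Helper8.NormBC

/-- Fractions in `K` of elements of `D` with denominators nonzerodivisors of `A`. -/
def fracK (A D K : Type u) [CommRing A] [CommRing D] [CommRing K] [Algebra A D] [Algebra A K]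
    [Algebra D K] [IsScalarTower A D K] : Subalgebra A K where
  carrier := {x | ∃ a ∈ nonZeroDivisors A, ∃ d : D, algebraMap A K a * x = algebraMap D K d}
  mul_mem' := by
    rintro x y ⟨a, ha, d, h1⟩ ⟨b, hb, d', h2⟩
    refine ⟨a * b, mul_mem ha hb, d * d', ?_⟩
    rw [map_mul, map_mul, ← h1, ← h2]
    ring
  add_mem' := by
    rintro x y ⟨a, ha, d, h1⟩ ⟨b, hb, d', h2⟩
    refine ⟨a * b, mul_mem ha hb, algebraMap A D b * d + algebraMap A D a * d', ?_⟩
    rw [map_add, map_mul, map_mul, map_mul, ← h1, ← h2,
      ← IsScalarTower.algebraMap_apply A D K, ← IsScalarTower.algebraMap_apply A D K]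
    ring
  algebraMap_mem' := fun r => ⟨1, one_mem _, algebraMap A D r, by
    rw [map_one, one_mul, ← IsScalarTower.algebraMap_apply A D K]⟩

theorem mem_fracK {A D K : Type u} [CommRing A] [CommRing D] [CommRing K] [Algebra A D]
    [Algebra A K] [Algebra D K] [IsScalarTower A D K] {x : K} :
    x ∈ fracK A D K ↔ ∃ a ∈ nonZeroDivisors A, ∃ d : D,
      algebraMap A K a * x = algebraMap D K d := Iff.rfl

theorem exists_prime_over {R S : Type*} [CommRing R] [CommRing S] (f : R →+* S)
    (hf : f.IsIntegral) (P : Ideal R) [P.IsPrime] (I : Ideal S) (hIP : I.comap f ≤ P) :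
    ∃ Q : Ideal S, I ≤ Q ∧ Q.IsPrime ∧ Q.comap f = P := by
  letI : Algebra R S := f.toAlgebra
  haveI : Algebra.IsIntegral R S := ⟨hf⟩
  obtain ⟨Q, hQ, hQp, hQc⟩ := Ideal.exists_ideal_over_prime_of_isIntegral P I hIP
  exact ⟨Q, hQ, hQp, hQc⟩

theorem isMaximal_of_comap_isMaximal {R S : Type*} [CommRing R] [CommRing S] (f : R →+* S)
    (hf : f.IsIntegral) (Q : Ideal S) [Q.IsPrime] (h : (Q.comap f).IsMaximal) : Q.IsMaximal := by
  letI : Algebra R S := f.toAlgebra
  haveI : Algebra.IsIntegral R S := ⟨hf⟩
  exact Ideal.isMaximal_of_isIntegral_of_isMaximal_comap (R := R) Q h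

theorem finite_isMaximal_of_surjective {S S' : Type*} [CommRing S] [CommRing S'] (f : S →+* S')
    (hf : Function.Surjective f) (h : {N : Ideal S | N.IsMaximal}.Finite) :
    {N : Ideal S' | N.IsMaximal}.Finite := by
  refine Set.Finite.subset (h.image (Ideal.map f)) ?_
  intro N hN
  haveI : N.IsMaximal := hN
  exact ⟨N.comap f, Ideal.comap_isMaximal_of_surjective f hf,
    Ideal.map_comap_of_surjective f hf N⟩

section SL

variable (R : Type*) [CommRing R] [IsLocalRing R] (S : Type*) [CommRing S] [Algebra R S]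
  [Module.Finite R S]

theorem map_maximalIdeal_le (m : Ideal S) (hm : m.IsMaximal) :
    (maximalIdeal R).map (algebraMap R S) ≤ m := by
  haveI := hm
  haveI : Algebra.IsIntegral R S := Algebra.IsIntegral.of_finite R S
  have h1 : (m.comap (algebraMap R S)).IsMaximal :=
    Ideal.isMaximal_comap_of_isIntegral_of_isMaximal (R := R) m
  rw [Ideal.map_le_iff_le_comap, IsLocalRing.eq_maximalIdeal h1]

theorem isArtinianRing_quot :
    IsArtinianRing (S ⧸ (maximalIdeal R).map (algebraMap R S)) := by
  letI : Field (R ⧸ maximalIdeal R) := Ideal.Quotient.field _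
  haveI : Module.Finite R (S ⧸ (maximalIdeal R).map (algebraMap R S)) :=
    Module.Finite.of_surjective (Ideal.Quotient.mkₐ R _).toLinearMap Ideal.Quotient.mk_surjective
  haveI : Module.Finite (R ⧸ maximalIdeal R) (S ⧸ (maximalIdeal R).map (algebraMap R S)) :=
    Module.Finite.of_restrictScalars_finite R _ _
  exact IsArtinianRing.of_finite (R ⧸ maximalIdeal R) _

include R in
theorem finite_isMaximal : {N : Ideal S | N.IsMaximal}.Finite := by
  haveI := isArtinianRing_quot R S
  have hfin : {M : Ideal (S ⧸ (maximalIdeal R).map (algebraMap R S)) | M.IsMaximal}.Finite :=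
    Set.Finite.subset (Set.finite_range
      (fun m : MaximalSpectrum (S ⧸ (maximalIdeal R).map (algebraMap R S)) => m.asIdeal))
      (fun M hM => ⟨⟨M, hM⟩, rfl⟩)
  refine Set.Finite.subset (hfin.image
    (Ideal.comap (Ideal.Quotient.mk ((maximalIdeal R).map (algebraMap R S))))) ?_
  intro m hm
  have hle : (maximalIdeal R).map (algebraMap R S) ≤ m := map_maximalIdeal_le R S m hm
  have hcm : (m.map (Ideal.Quotient.mk ((maximalIdeal R).map (algebraMap R S)))).comap
      (Ideal.Quotient.mk ((maximalIdeal R).map (algebraMap R S))) = m := by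
    rw [Ideal.comap_map_of_surjective _ Ideal.Quotient.mk_surjective, ← RingHom.ker_eq_comap_bot,
      Ideal.mk_ker]
    exact sup_eq_left.2 hle
  have hmax : (m.map (Ideal.Quotient.mk ((maximalIdeal R).map (algebraMap R S)))).IsMaximal := by
    rcases Ideal.map_eq_top_or_isMaximal_of_surjective
      (Ideal.Quotient.mk ((maximalIdeal R).map (algebraMap R S)))
      Ideal.Quotient.mk_surjective hm with h | h
    · exfalso
      rw [h, Ideal.comap_top] at hcm
      exact hm.ne_top hcm.symm
    · exact h
  exact ⟨_, hmax, hcm⟩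

end SL

/-- Base change of the normalization of `A` along an essentially étale local algebra `E`, inside an
ambient ring `K`. -/
theorem baseChange_normalization
    (A E K : Type u) [CommRing A] [IsLocalRing A] [CommRing E] [CommRing K] [Algebra A E]
    [Algebra A K] [Algebra E K] [IsScalarTower A E K] (hE : EGA4loc.IsEssentiallyEtale A E)
    (hEK : Function.Injective (algebraMap E K))
    (hun : ∀ a ∈ nonZeroDivisors A, IsUnit (algebraMap A K a))
    (A' : Subalgebra A K)
    (hA' : ∀ x : K, x ∈ A' ↔ (IsIntegral A x ∧ ∃ a ∈ nonZeroDivisors A, ∃ b : A,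
      algebraMap A K a * x = algebraMap A K b)) :
    Function.Injective (Algebra.TensorProduct.productMap A'.val (IsScalarTower.toAlgHom A E K)) ∧
    ∀ x : K, IsIntegral E x → (∃ a ∈ nonZeroDivisors A, ∃ e : E,
      algebraMap A K a * x = algebraMap E K e) →
      ∃ z : A' ⊗[A] E,
        Algebra.TensorProduct.productMap A'.val (IsScalarTower.toAlgHom A E K) z = x := by
  classical
  haveI : Module.Flat A E := FracFgIff.flat_base_of_essEtale A E hE
  obtain ⟨C₀, _, _, algCE, _, q, _, hCet, hloc⟩ := EssEtUtil.exists_isLocalization A E hE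
  haveI := hCet
  haveI := hloc
  let LA : Subalgebra A K := fracK A A K
  let μ : E ⊗[A] LA →ₐ[E] K :=
    Algebra.TensorProduct.lift (Algebra.ofId E K) LA.val (fun _ _ => Commute.all _ _)
  have hμ : ∀ (e : E) (x : LA), μ (e ⊗ₜ x) = algebraMap E K e * (x : K) :=
    fun e x => Algebra.TensorProduct.lift_tmul _ _ _ _ _
  have hinv : ∀ a ∈ nonZeroDivisors A, ∃ y : LA, algebraMap A K a * (y : K) = 1 := by
    intro a ha
    obtain ⟨y, hy⟩ := (hun a ha).exists_right_inv
    exact ⟨⟨y, a, ha, 1, by rw [hy, map_one]⟩, hy⟩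
  have hclear : ∀ z : E ⊗[A] LA, ∃ a ∈ nonZeroDivisors A, ∃ e : E,
      a • z = e ⊗ₜ[A] (1 : LA) := by
    intro z
    induction z using TensorProduct.induction_on with
    | zero => exact ⟨1, one_mem _, 0, by simp⟩
    | tmul e x =>
      obtain ⟨a, ha, b, hab⟩ := mem_fracK.mp x.2
      refine ⟨a, ha, b • e, ?_⟩
      have h1 : a • x = b • (1 : LA) := by
        rw [Algebra.smul_def, Algebra.smul_def, mul_one]
        apply Subtype.ext
        rw [Subalgebra.coe_mul, Subalgebra.coe_algebraMap, Subalgebra.coe_algebraMap]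
        exact hab
      calc a • (e ⊗ₜ[A] x) = e ⊗ₜ[A] (a • x) := (TensorProduct.tmul_smul a e x).symm
        _ = e ⊗ₜ[A] (b • (1 : LA)) := by rw [h1]
        _ = (b • e) ⊗ₜ[A] (1 : LA) := (TensorProduct.smul_tmul b e 1).symm
    | add z w hz hw =>
      obtain ⟨a, ha, e, h1⟩ := hz
      obtain ⟨a', ha', e', h2⟩ := hw
      refine ⟨a * a', mul_mem ha ha', a' • e + a • e', ?_⟩
      have e1 : (a * a') • z = (a' • e) ⊗ₜ[A] (1 : LA) := by
        rw [mul_comm, mul_smul, h1, TensorProduct.smul_tmul']
      have e2 : (a * a') • w = (a • e') ⊗ₜ[A] (1 : LA) := by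
        rw [mul_smul, h2, TensorProduct.smul_tmul']
      rw [smul_add, e1, e2, ← TensorProduct.add_tmul]
  have hμinj : Function.Injective μ := by
    rw [injective_iff_map_eq_zero]
    intro z hz
    obtain ⟨a, ha, e, hae⟩ := hclear z
    have h1 : μ (a • z) = 0 := by
      rw [← algebraMap_smul E a z, map_smul, hz, smul_zero]
    rw [hae, hμ, OneMemClass.coe_one, mul_one] at h1
    have h2 : e = 0 := hEK (by rw [h1, map_zero])
    rw [h2, TensorProduct.zero_tmul] at hae
    obtain ⟨y, hy⟩ := hinv a ha
    have h3 : a • ((1 : E) ⊗ₜ[A] y) = (1 : E ⊗[A] LA) := by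
      rw [← TensorProduct.tmul_smul]
      have h4 : a • y = (1 : LA) := by
        rw [Algebra.smul_def]
        apply Subtype.ext
        rw [Subalgebra.coe_mul, Subalgebra.coe_algebraMap, OneMemClass.coe_one]
        exact hy
      rw [h4]
      rfl
    calc z = (a • ((1 : E) ⊗ₜ[A] y)) * z := by rw [h3, one_mul]
      _ = ((1 : E) ⊗ₜ[A] y) * (a • z) := by rw [smul_mul_assoc, mul_smul_comm]
      _ = 0 := by rw [hae, mul_zero]
  have hbij : Function.Bijective (TensorProduct.toIntegralClosure A E LA) := by
    refine TensorProduct.toIntegralClosure_bijective_of_tower (R := A) (S := C₀) (T := E)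
      (B := LA) TensorProduct.toIntegralClosure_bijective_of_smooth ?_
    exact TensorProduct.toIntegralClosure_bijective_of_isLocalization q.primeCompl
  have hA'LA : A' ≤ LA := fun x hx => ((hA' x).mp hx).2
  let κ : A' →ₐ[A] LA := Subalgebra.inclusion hA'LA
  let τ : A' ⊗[A] E →ₐ[A] E ⊗[A] LA :=
    (Algebra.TensorProduct.map (AlgHom.id A E) κ).comp
      (Algebra.TensorProduct.comm A A' E).toAlgHom
  have hτ : ∀ (x : A') (e : E), τ (x ⊗ₜ e) = e ⊗ₜ κ x := fun x e => rfl
  have hmapinj : Function.Injective (Algebra.TensorProduct.map (AlgHom.id A E) κ) := by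
    have h1 : Function.Injective (LinearMap.lTensor E κ.toLinearMap) :=
      Module.Flat.lTensor_preserves_injective_linearMap (M := E) κ.toLinearMap
        (Subalgebra.inclusion_injective hA'LA)
    have h2 : ∀ t, Algebra.TensorProduct.map (AlgHom.id A E) κ t =
        LinearMap.lTensor E κ.toLinearMap t := by
      intro t
      induction t using TensorProduct.induction_on with
      | zero => simp
      | tmul e x => rfl
      | add a b ha hb => rw [map_add, map_add, ha, hb]
    intro s t hst
    apply h1
    rw [← h2, ← h2, hst]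
  have hτinj : Function.Injective τ := by
    intro s t hst
    have hst' : Algebra.TensorProduct.map (AlgHom.id A E) κ
        ((Algebra.TensorProduct.comm A A' E) s) =
        Algebra.TensorProduct.map (AlgHom.id A E) κ ((Algebra.TensorProduct.comm A A' E) t) := hst
    exact (Algebra.TensorProduct.comm A A' E).injective (hmapinj hst')
  have hPμτ : ∀ z : A' ⊗[A] E,
      Algebra.TensorProduct.productMap A'.val (IsScalarTower.toAlgHom A E K) z = μ (τ z) := by
    intro z
    induction z using TensorProduct.induction_on with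
    | zero => simp
    | tmul x e =>
      rw [Algebra.TensorProduct.productMap_apply_tmul, hτ, hμ, mul_comm]
      rfl
    | add a b ha hb => rw [map_add, map_add, map_add, ha, hb]
  refine ⟨fun s t h => hτinj (hμinj (by rw [← hPμτ, ← hPμτ]; exact h)), ?_⟩
  rintro x hx ⟨a, ha, e, hax⟩
  obtain ⟨y, hy⟩ := hinv a ha
  have hμw : μ (e ⊗ₜ y) = x := by
    rw [hμ, ← hax]
    calc algebraMap A K a * x * (y : K) = (algebraMap A K a * (y : K)) * x := by ring
      _ = x := by rw [hy, one_mul]
  have hw : IsIntegral E (e ⊗ₜ[A] y : E ⊗[A] LA) := by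
    refine (isIntegral_algHom_iff μ hμinj).mp ?_
    rw [hμw]
    exact hx
  obtain ⟨w', hw'⟩ := hbij.2 ⟨_, hw⟩
  have hw'' : Algebra.TensorProduct.map (AlgHom.id E E) (integralClosure A LA).val w' =
      e ⊗ₜ[A] y := congrArg Subtype.val hw'
  let j : integralClosure A LA →ₐ[A] A' :=
    AlgHom.codRestrict (LA.val.comp (integralClosure A LA).val) A'
      (fun t => (hA' _).mpr
        ⟨IsIntegral.map LA.val (show IsIntegral A (t : LA) from t.2), mem_fracK.mp (t : LA).2⟩)
  let σ : E ⊗[A] integralClosure A LA →ₐ[A] A' ⊗[A] E :=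
    (Algebra.TensorProduct.comm A E A').toAlgHom.comp
      (Algebra.TensorProduct.map (AlgHom.id A E) j)
  have hτσ : ∀ w : E ⊗[A] integralClosure A LA,
      τ (σ w) = Algebra.TensorProduct.map (AlgHom.id E E) (integralClosure A LA).val w := by
    intro w
    induction w using TensorProduct.induction_on with
    | zero => simp
    | tmul e t => rfl
    | add a b ha hb => rw [map_add, map_add, map_add, ha, hb]
  exact ⟨σ w', by rw [hPμτ, hτσ, hw'', hμw]⟩

/-- The ring of fractions of a subalgebra of a flat quasi-finite algebra is artinian. -/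
theorem isArtinianRing_fracK (A D E K : Type u) [CommRing A] [IsReduced A] [CommRing D]
    [CommRing E] [CommRing K] [Algebra A D] [Algebra A E] [Algebra D E] [IsScalarTower A D E]
    [Algebra A K] [Algebra D K] [IsScalarTower A D K] [Module.Flat A E] [Algebra.QuasiFinite A E]
    (hmin : (minimalPrimes A).Finite)
    (hun : ∀ a ∈ nonZeroDivisors A, IsUnit (algebraMap A K a))
    (hDE : Function.Injective (algebraMap D E)) :
    IsArtinianRing (fracK A D K) := by
  classical
  haveI : IsArtinianRing (FractionRing A) := TotalFrac.isArtinianRing_of_isFractionRing A hmin _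
  haveI : Module.Finite (FractionRing A) (FractionRing A ⊗[A] E) :=
    TotalFrac.finite_tensor A E hmin
  haveI : IsNoetherian (FractionRing A) (FractionRing A ⊗[A] E) :=
    isNoetherian_of_isNoetherianRing_of_finite _ _
  have hinj : Function.Injective
      ((IsScalarTower.toAlgHom A D E).toLinearMap.baseChange (FractionRing A)) := by
    rw [LinearMap.baseChange_eq_ltensor]
    exact Module.Flat.lTensor_preserves_injective_linearMap _ hDE
  haveI : Module.Finite (FractionRing A) (FractionRing A ⊗[A] D) :=
    Module.Finite.of_injective _ hinj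
  haveI : IsArtinianRing (FractionRing A ⊗[A] D) := IsArtinianRing.of_finite (FractionRing A) _
  let ιA : FractionRing A →ₐ[A] K :=
    IsLocalization.liftAlgHom (M := nonZeroDivisors A) (f := Algebra.ofId A K)
      (fun y => hun y.1 y.2)
  have hιA : ∀ a, ιA (algebraMap A (FractionRing A) a) = algebraMap A K a :=
    fun a => IsLocalization.lift_eq _ _
  let f : FractionRing A ⊗[A] D →ₐ[A] K :=
    Algebra.TensorProduct.productMap ιA (IsScalarTower.toAlgHom A D K)
  have hf : ∀ c d, f (c ⊗ₜ d) = ιA c * algebraMap D K d :=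
    fun c d => Algebra.TensorProduct.productMap_apply_tmul _ _ _ _
  have hfmem : ∀ z, f z ∈ fracK A D K := by
    intro z
    induction z using TensorProduct.induction_on with
    | zero => rw [map_zero]; exact Subalgebra.zero_mem _
    | tmul c d =>
      rw [hf]
      refine Subalgebra.mul_mem _ ?_ ⟨1, one_mem _, d, by rw [map_one, one_mul]⟩
      obtain ⟨⟨b, s⟩, hbs⟩ := IsLocalization.surj (nonZeroDivisors A) c
      refine ⟨s, s.2, algebraMap A D b, ?_⟩
      have h1 := congrArg ιA hbs
      rw [map_mul, hιA, hιA] at h1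
      rw [mul_comm, h1, ← IsScalarTower.algebraMap_apply A D K]
    | add z w hz hw => rw [map_add]; exact Subalgebra.add_mem _ hz hw
  have hsurj : Function.Surjective (f.codRestrict (fracK A D K) hfmem) := by
    rintro ⟨x, a, ha, d, hax⟩
    refine ⟨(IsLocalization.mk' (FractionRing A) (1 : A) (⟨a, ha⟩ : nonZeroDivisors A)) ⊗ₜ d,
      Subtype.ext ?_⟩
    show f (_ ⊗ₜ _) = x
    rw [hf]
    have h1 : ιA (IsLocalization.mk' (FractionRing A) (1 : A) (⟨a, ha⟩ : nonZeroDivisors A)) *
        algebraMap A K a = 1 := by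
      rw [← hιA a, ← map_mul, IsLocalization.mk'_spec, map_one, map_one]
    rw [← hax, ← mul_assoc, h1, one_mul]
  exact hsurj.isArtinianRing

/-- The idempotent cutting out the kernel of `C₀ ⊗ D' → K` lies in `C₀ ⊗ D'`. -/
theorem exists_idem (A C₀ K : Type u) [CommRing A] [CommRing C₀] [CommRing K] [Algebra A C₀]
    [Algebra A K] [Algebra C₀ K] [IsScalarTower A C₀ K] [Algebra.Etale A C₀]
    (L D' : Subalgebra A K) [IsArtinianRing L] [IsReduced L]
    (hD'L : D' ≤ L) (hint : ∀ x ∈ L, IsIntegral A x → x ∈ D')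
    (ρ : C₀ ⊗[A] D' →ₐ[A] K)
    (hρ : ∀ (c : C₀) (x : D'), ρ (c ⊗ₜ x) = algebraMap C₀ K c * (x : K)) :
    ∃ ε : C₀ ⊗[A] D', ρ ε = 1 ∧ ∀ z, ρ z = 0 → ε * z = 0 := by
  classical
  let μ : C₀ ⊗[A] L →ₐ[C₀] K :=
    Algebra.TensorProduct.lift (Algebra.ofId C₀ K) L.val (fun _ _ => Commute.all _ _)
  have hμ : ∀ (c : C₀) (b : L), μ (c ⊗ₜ b) = algebraMap C₀ K c * (b : K) :=
    fun c b => Algebra.TensorProduct.lift_tmul _ _ _ _ _
  obtain ⟨e, he1, heI⟩ := Main16449.hcompl_tensor A C₀ L (RingHom.ker (μ : C₀ ⊗[A] L →+* K))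
  have hμe : μ e = 1 := by
    have h := RingHom.mem_ker.mp he1
    rw [map_sub, map_one, sub_eq_zero] at h
    exact h
  have hee : e * e = e := by
    have h := heI _ he1
    linear_combination h
  have hei : IsIntegral C₀ e := by
    refine ⟨X * (X - Polynomial.C 1), monic_X.mul (monic_X_sub_C 1), ?_⟩
    have h1 := DiagIdem.aeval_idem_mul (C := C₀) e 1 hee (X - Polynomial.C 1)
    rw [mul_one] at h1
    rw [← Polynomial.aeval_def, h1]
    simp
  obtain ⟨e', he'⟩ := DiagIdem.mem_range_of_isIntegral A C₀ L e hei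
  let j : integralClosure A L →ₐ[A] D' :=
    AlgHom.codRestrict (L.val.comp (integralClosure A L).val) D'
      (fun t => hint _ (t : L).2 (IsIntegral.map L.val (show IsIntegral A (t : L) from t.2)))
  let κ : D' →ₐ[A] L := Subalgebra.inclusion hD'L
  let Φ : C₀ ⊗[A] D' →ₐ[A] C₀ ⊗[A] L := Algebra.TensorProduct.map (AlgHom.id A C₀) κ
  have hΦinj : Function.Injective Φ := by
    have h1 : Function.Injective (LinearMap.lTensor C₀ κ.toLinearMap) :=
      Module.Flat.lTensor_preserves_injective_linearMap (M := C₀) κ.toLinearMap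
        (Subalgebra.inclusion_injective hD'L)
    have h2 : ∀ t, Φ t = LinearMap.lTensor C₀ κ.toLinearMap t := by
      intro t
      induction t using TensorProduct.induction_on with
      | zero => simp
      | tmul c x => rfl
      | add a b ha hb => rw [map_add, map_add, ha, hb]
    intro s t hst
    apply h1
    rw [← h2, ← h2, hst]
  have hΦj : ∀ w : C₀ ⊗[A] integralClosure A L,
      Φ (Algebra.TensorProduct.map (AlgHom.id A C₀) j w) =
        (LinearMap.lTensor C₀ (integralClosure A L).val.toLinearMap) w := by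
    intro w
    induction w using TensorProduct.induction_on with
    | zero => simp
    | tmul c t => rfl
    | add a b ha hb => rw [map_add, map_add, map_add, ha, hb]
  have hρμ : ∀ z, ρ z = μ (Φ z) := by
    intro z
    induction z using TensorProduct.induction_on with
    | zero => simp
    | tmul c x =>
      rw [hρ]
      exact (hμ c (κ x)).symm
    | add a b ha hb => rw [map_add, map_add, map_add, ha, hb]
  refine ⟨Algebra.TensorProduct.map (AlgHom.id A C₀) j e', ?_, ?_⟩
  · rw [hρμ, hΦj, he', hμe]
  · intro z hz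
    apply hΦinj
    rw [map_mul, map_zero, hΦj, he']
    have h0 : μ (Φ z) = 0 := by rw [← hρμ]; exact hz
    exact heI _ (RingHom.mem_ker.mpr h0)

/-- The normalization of a Nagata reduced ring inside an ambient ring is a finite module. -/
theorem fg_normalization (A K : Type u) [CommRing A] [IsReduced A] [CommRing K] [Algebra A K]
    (hmin : (minimalPrimes A).Finite) (hNag : CAlg.IsNagata A)
    (hinj : Function.Injective (algebraMap A K))
    (hun : ∀ a ∈ nonZeroDivisors A, IsUnit (algebraMap A K a))
    (A' : Subalgebra A K)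
    (hA' : ∀ x : K, x ∈ A' ↔ (IsIntegral A x ∧ ∃ a ∈ nonZeroDivisors A, ∃ b : A,
      algebraMap A K a * x = algebraMap A K b)) :
    (Subalgebra.toSubmodule A').FG := by
  classical
  let ιA : FractionRing A →ₐ[A] K :=
    IsLocalization.liftAlgHom (M := nonZeroDivisors A) (f := Algebra.ofId A K)
      (fun y => hun y.1 y.2)
  have hιA : ∀ a, ιA (algebraMap A (FractionRing A) a) = algebraMap A K a :=
    fun a => IsLocalization.lift_eq _ _
  have hιAinj : Function.Injective ιA := by
    rw [injective_iff_map_eq_zero]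
    intro t ht
    obtain ⟨⟨b, s⟩, hbs⟩ := IsLocalization.surj (nonZeroDivisors A) t
    have h1 := congrArg ιA hbs
    rw [map_mul, hιA, hιA, ht, zero_mul] at h1
    have hb : b = 0 := hinj (by rw [← h1, map_zero])
    have h2 : t * algebraMap A (FractionRing A) (s : A) = 0 := by
      rw [hbs, hb, map_zero]
    exact ((IsLocalization.map_units (FractionRing A) s).mul_left_eq_zero).mp h2
  have hICfg := FiniteIC.fg_integralClosure A A hmin hNag
  have hmap : Subalgebra.toSubmodule A' =
      (Subalgebra.toSubmodule (integralClosure A (FractionRing A))).map ιA.toLinearMap := by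
    ext x
    constructor
    · intro hx
      obtain ⟨hxi, a, ha, b, hab⟩ := (hA' x).mp hx
      have h1 : ιA (IsLocalization.mk' (FractionRing A) b (⟨a, ha⟩ : nonZeroDivisors A)) = x := by
        have h2 : ιA (IsLocalization.mk' (FractionRing A) b (⟨a, ha⟩ : nonZeroDivisors A)) *
            algebraMap A K a = algebraMap A K b := by
          rw [← hιA a, ← map_mul, IsLocalization.mk'_spec, hιA]
        have h3 : ιA (IsLocalization.mk' (FractionRing A) b (⟨a, ha⟩ : nonZeroDivisors A)) *
            algebraMap A K a = x * algebraMap A K a := by rw [h2, ← hab, mul_comm]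
        exact (hun a ha).mul_left_injective h3
      refine ⟨IsLocalization.mk' (FractionRing A) b (⟨a, ha⟩ : nonZeroDivisors A), ?_, h1⟩
      show IsIntegral A (IsLocalization.mk' (FractionRing A) b (⟨a, ha⟩ : nonZeroDivisors A))
      exact (isIntegral_algHom_iff ιA hιAinj).mp (by rw [h1]; exact hxi)
    · rintro ⟨t, ht, rfl⟩
      have ht' : IsIntegral A t := ht
      refine (hA' _).mpr ⟨ht'.map ιA, ?_⟩
      obtain ⟨⟨b, s⟩, hbs⟩ := IsLocalization.surj (nonZeroDivisors A) t
      refine ⟨s, s.2, b, ?_⟩
      have h1 := congrArg ιA hbs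
      rw [map_mul, hιA, hιA] at h1
      rw [mul_comm]
      exact h1
  rw [hmap]
  exact hICfg.map _

end Groth.Agent.Lib.Helper8.NormBC
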