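import Mathlib
import Groth.Prelude
import Groth.Agent.Lib.Helper8.NormBCEss

/-!
# S16450, backward direction (abstract ambient ring)
-/

set_option autoImplicit false
set_option linter.style.haveILetI false
set_option linter.unusedSectionVars false

open IsLocalRing TensorProduct

universe u

namespace Groth.Agent.Lib.Helper8.Bwd16450

open Groth.Agent.Lib.Helper8.NormBC

theorem map_maximalIdeal_of_essEtale (A E : Type u) [CommRing A] [IsLocalRing A] [CommRing E]
    [IsLocalRing E] [Algebra A E] [IsLocalHom (algebraMap A E)]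
    (hE : EGA4loc.IsEssentiallyEtale A E) :
    (maximalIdeal A).map (algebraMap A E) = maximalIdeal E := by
  obtain ⟨C₀, _, _, algCE, _, q, _, hCet, hloc⟩ := EssEtUtil.exists_isLocalization A E hE
  haveI := hCet
  haveI := hloc
  haveI : Algebra.FormallyUnramified A C₀ := inferInstance
  haveI : Algebra.FormallyUnramified C₀ E := Algebra.FormallyUnramified.of_isLocalization q.primeCompl
  haveI : Algebra.FormallyUnramified A E := Algebra.FormallyUnramified.comp A C₀ E
  haveI : Algebra.EssFiniteType C₀ E := Algebra.EssFiniteType.of_isLocalization _ q.primeCompl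
  haveI : Algebra.FinitePresentation A C₀ := hCet.finitePresentation
  haveI : Algebra.FiniteType A C₀ := inferInstance
  haveI : Algebra.EssFiniteType A C₀ := inferInstance
  haveI : Algebra.EssFiniteType A E := Algebra.EssFiniteType.comp A C₀ E
  exact Algebra.FormallyUnramified.map_maximalIdeal (R := A) (S := E)

/-- The key step: a homomorphism from `D' ⊗ C₀` to a field lying over the point of `E` kills the
kernel of `D' ⊗ C₀ → K`. -/
theorem ker_le
    (A D E K C₀ F : Type u) [CommRing A] [IsLocalRing A] [CommRing D] [IsLocalRing D]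
    [CommRing E] [IsLocalRing E] [CommRing K] [CommRing C₀] [Field F]
    [Algebra A D] [Algebra A E] [Algebra D E] [IsScalarTower A D E]
    [Algebra A K] [Algebra D K] [Algebra E K] [IsScalarTower A D K] [IsScalarTower A E K]
    [IsScalarTower D E K]
    [Algebra A C₀] [Algebra C₀ E] [IsScalarTower A C₀ E] [Algebra C₀ K] [IsScalarTower A C₀ K]
    [IsScalarTower C₀ E K]
    [IsLocalHom (algebraMap D E)]
    (hE : EGA4loc.IsEssentiallyEtale A E)
    (q : Ideal C₀) [q.IsPrime] [IsLocalization.AtPrime E q]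
    (hEK : Function.Injective (algebraMap E K))
    (hun : ∀ a ∈ nonZeroDivisors A, IsUnit (algebraMap A K a))
    (A' D' : Subalgebra A K)
    (hA' : ∀ x : K, x ∈ A' ↔ (IsIntegral A x ∧ ∃ a ∈ nonZeroDivisors A, ∃ b : A,
      algebraMap A K a * x = algebraMap A K b))
    (hD' : ∀ x : K, x ∈ D' ↔ (IsIntegral D x ∧ ∃ a ∈ nonZeroDivisors A, ∃ d : D,
      algebraMap A K a * x = algebraMap D K d))
    (hle : A' ≤ D') (ι : D →ₐ[A] D') (hι : ∀ d : D, (ι d : K) = algebraMap D K d)
    (hΨ : Function.Surjective ((Ideal.Quotient.mkₐ A (Ideal.jacobson (⊥ : Ideal D'))).comp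
      (Algebra.TensorProduct.productMap (Subalgebra.inclusion hle) ι)))
    (ν : D ⊗[A] C₀ →ₐ[D] E)
    (hν : ∀ d c, ν (d ⊗ₜ c) = algebraMap D E d * algebraMap C₀ E c)
    (φ : D ⊗[A] C₀ →ₐ[A] D' ⊗[A] C₀) (hφ : ∀ d c, φ (d ⊗ₜ c) = ι d ⊗ₜ c)
    (ρT : D' ⊗[A] C₀ →ₐ[A] K)
    (hρT : ∀ (x : D') (c : C₀), ρT (x ⊗ₜ c) = (x : K) * algebraMap C₀ K c)
    (γ₁ : D' ⊗[A] C₀ →+* F)
    (hγ : ∀ t : D ⊗[A] C₀, γ₁ (φ t) = 0 ↔ ν t ∈ maximalIdeal E)
    (z : D' ⊗[A] C₀) (hz : ρT z = 0) : γ₁ z = 0 := by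
  classical
  obtain ⟨hPinj, hPsurj⟩ := baseChange_normalization A E K hE hEK hun A' hA'
  have hPE : ∀ (x : A') (e : E),
      Algebra.TensorProduct.productMap A'.val (IsScalarTower.toAlgHom A E K) (x ⊗ₜ e) =
        (x : K) * algebraMap E K e :=
    fun x e => Algebra.TensorProduct.productMap_apply_tmul _ _ _ _
  have hD'range : D' ≤
      (Algebra.TensorProduct.productMap A'.val (IsScalarTower.toAlgHom A E K)).range := by
    intro x hx
    obtain ⟨hxi, a, ha, d, hax⟩ := (hD' x).mp hx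
    obtain ⟨w, hw⟩ := hPsurj x (hxi.tower_top) ⟨a, ha, algebraMap D E d, by
      rw [hax, ← IsScalarTower.algebraMap_apply D E K]⟩
    exact ⟨w, hw⟩
  let eqv : (A' ⊗[A] E) ≃ₐ[A]
      (Algebra.TensorProduct.productMap A'.val (IsScalarTower.toAlgHom A E K)).range :=
    AlgEquiv.ofInjective _ hPinj
  let θ : D' →ₐ[A] A' ⊗[A] E :=
    (eqv.symm : _ →ₐ[A] A' ⊗[A] E).comp (Subalgebra.inclusion hD'range)
  have hθ : ∀ x : D',
      Algebra.TensorProduct.productMap A'.val (IsScalarTower.toAlgHom A E K) (θ x) = (x : K) := by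
    intro x
    have h1 : eqv (θ x) = Subalgebra.inclusion hD'range x := eqv.apply_symm_apply _
    exact congrArg Subtype.val h1
  have hθuniq : ∀ (x : D') (w : A' ⊗[A] E),
      Algebra.TensorProduct.productMap A'.val (IsScalarTower.toAlgHom A E K) w = (x : K) →
        θ x = w :=
    fun x w hw => hPinj (by rw [hθ, hw])
  -- the homomorphism `E → F`
  have hq : ∀ s : q.primeCompl, γ₁ (φ ((1 : D) ⊗ₜ[A] (s : C₀))) ≠ 0 := by
    intro s h
    have h1 := (hγ _).mp h
    rw [hν, map_one, one_mul] at h1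
    exact (mem_maximalIdeal _).mp h1 (IsLocalization.map_units E s)
  let g₀ : C₀ →+* F := (γ₁.comp φ.toRingHom).comp
    (Algebra.TensorProduct.includeRight : C₀ →ₐ[A] D ⊗[A] C₀).toRingHom
  let γb : E →+* F :=
    IsLocalization.lift (M := q.primeCompl) (g := g₀) (fun s => (hq s).isUnit)
  have hγb : ∀ c, γb (algebraMap C₀ E c) = γ₁ (φ ((1 : D) ⊗ₜ[A] c)) :=
    fun c => IsLocalization.lift_eq _ _
  have hγbD : ∀ d : D, γb (algebraMap D E d) = γ₁ (φ (d ⊗ₜ[A] (1 : C₀))) := by
    intro d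
    obtain ⟨⟨c, s⟩, hcs⟩ := IsLocalization.surj q.primeCompl (algebraMap D E d)
    have h1 : γ₁ (φ (d ⊗ₜ[A] (s : C₀) - (1 : D) ⊗ₜ[A] c)) = 0 := by
      rw [hγ, map_sub, hν, hν, map_one, one_mul, hcs, sub_self]
      exact Ideal.zero_mem _
    rw [map_sub, map_sub, sub_eq_zero] at h1
    have h2 : d ⊗ₜ[A] (s : C₀) = (d ⊗ₜ[A] (1 : C₀)) * ((1 : D) ⊗ₜ[A] (s : C₀)) := by
      rw [Algebra.TensorProduct.tmul_mul_tmul, mul_one, one_mul]
    rw [h2, map_mul, map_mul] at h1
    have h3 := congrArg γb hcs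
    rw [map_mul, hγb, hγb] at h3
    exact mul_right_cancel₀ (hq s) (h3.trans h1.symm)
  have hγbν : ∀ t, γb (ν t) = γ₁ (φ t) := by
    intro t
    induction t using TensorProduct.induction_on with
    | zero => simp
    | tmul d c =>
      have h2 : d ⊗ₜ[A] c = (d ⊗ₜ[A] (1 : C₀)) * ((1 : D) ⊗ₜ[A] c) := by
        rw [Algebra.TensorProduct.tmul_mul_tmul, mul_one, one_mul]
      rw [hν, map_mul, hγbD, hγb, h2, map_mul, map_mul]
    | add a b ha hb => rw [map_add, map_add, map_add, map_add, ha, hb]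
  -- `F` as an `A`-algebra
  letI algAF : Algebra A F := (γ₁.comp (algebraMap A (D' ⊗[A] C₀))).toAlgebra
  have halgAF : ∀ a, algebraMap A F a = γ₁ (algebraMap A (D' ⊗[A] C₀) a) := fun a => rfl
  let f₁ : A' →ₐ[A] F :=
    { toRingHom := (γ₁.comp
        (Algebra.TensorProduct.includeLeft : D' →ₐ[A] D' ⊗[A] C₀).toRingHom).comp
        (Subalgebra.inclusion hle).toRingHom
      commutes' := fun a => by
        show γ₁ ((Subalgebra.inclusion hle (algebraMap A A' a)) ⊗ₜ[A] (1 : C₀)) = _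
        rw [halgAF, AlgHom.commutes, Algebra.TensorProduct.algebraMap_apply] }
  let f₂ : E →ₐ[A] F :=
    { toRingHom := γb
      commutes' := fun a => by
        show γb (algebraMap A E a) = _
        have h1 : ν (algebraMap A (D ⊗[A] C₀) a) = algebraMap A E a := by
          rw [Algebra.TensorProduct.algebraMap_apply, hν, map_one, mul_one,
            ← IsScalarTower.algebraMap_apply A D E]
        rw [← h1, hγbν, AlgHom.commutes]
        rfl }
  let g : A' ⊗[A] E →ₐ[A] F := Algebra.TensorProduct.productMap f₁ f₂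
  have hg : ∀ (x : A') (e : E),
      g (x ⊗ₜ e) = γ₁ ((Subalgebra.inclusion hle x) ⊗ₜ[A] (1 : C₀)) * γb e :=
    fun x e => Algebra.TensorProduct.productMap_apply_tmul _ _ _ _
  let δ₁ : D' →+* F :=
    γ₁.comp (Algebra.TensorProduct.includeLeft : D' →ₐ[A] D' ⊗[A] C₀).toRingHom
  let δ₂ : D' →+* F := (g : A' ⊗[A] E →+* F).comp θ.toRingHom
  have hδ₁ : ∀ x, δ₁ x = γ₁ (x ⊗ₜ[A] (1 : C₀)) := fun x => rfl
  have hδ₂ : ∀ x, δ₂ x = g (θ x) := fun x => rfl
  have hθι : ∀ d : D, θ (ι d) = (1 : A') ⊗ₜ[A] (algebraMap D E d) := by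
    intro d
    apply hθuniq
    rw [hPE, OneMemClass.coe_one, one_mul, hι, ← IsScalarTower.algebraMap_apply D E K]
  have hθA : ∀ x : A', θ (Subalgebra.inclusion hle x) = x ⊗ₜ[A] (1 : E) := by
    intro x
    apply hθuniq
    rw [hPE, map_one, mul_one, Subalgebra.coe_inclusion]
  have hδι : ∀ d : D, δ₂ (ι d) = δ₁ (ι d) := by
    intro d
    rw [hδ₂, hθι, hg, hγbD, hφ, hδ₁, map_one, ← Algebra.TensorProduct.one_def, map_one, one_mul]
  have hδA : ∀ x : A', δ₂ (Subalgebra.inclusion hle x) = δ₁ (Subalgebra.inclusion hle x) := by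
    intro x
    rw [hδ₂, hθA, hg, map_one, mul_one, hδ₁]
  have hδP : ∀ w : A' ⊗[A] D,
      δ₂ (Algebra.TensorProduct.productMap (Subalgebra.inclusion hle) ι w) =
        δ₁ (Algebra.TensorProduct.productMap (Subalgebra.inclusion hle) ι w) := by
    intro w
    induction w using TensorProduct.induction_on with
    | zero => simp
    | tmul x d =>
      rw [Algebra.TensorProduct.productMap_apply_tmul, map_mul, map_mul, hδA, hδι]
    | add a b ha hb => rw [map_add, map_add, map_add, ha, hb]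
  have hιint : (ι : D →+* D').IsIntegral := by
    intro x
    obtain ⟨p, hp, hpx⟩ := ((hD' x.1).mp x.2).1
    refine ⟨p, hp, ?_⟩
    apply Subtype.ext
    have h1 := Polynomial.hom_eval₂ p (ι : D →+* D') (D'.val.toRingHom) x
    have h2 : (D'.val.toRingHom).comp (ι : D →+* D') = algebraMap D K :=
      RingHom.ext fun d => hι d
    rw [h2] at h1
    exact h1.trans hpx
  have hmaxker : ∀ δ : D' →+* F, (∀ d : D, δ (ι d) = γ₁ (φ (d ⊗ₜ[A] (1 : C₀)))) →
      Ideal.jacobson (⊥ : Ideal D') ≤ RingHom.ker δ := by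
    intro δ hδ
    haveI : (RingHom.ker δ).IsPrime := RingHom.ker_isPrime δ
    have hcomap : (RingHom.ker δ).comap (ι : D →+* D') = maximalIdeal D := by
      ext d
      rw [Ideal.mem_comap, RingHom.mem_ker]
      show δ (ι d) = 0 ↔ _
      rw [hδ, hγ, hν, map_one, mul_one, mem_maximalIdeal, mem_maximalIdeal, mem_nonunits_iff,
        mem_nonunits_iff, isUnit_map_iff]
    have hmax : (RingHom.ker δ).IsMaximal :=
      isMaximal_of_comap_isMaximal (ι : D →+* D') hιint _
        (by rw [hcomap]; exact maximalIdeal.isMaximal D)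
    exact sInf_le ⟨bot_le, hmax⟩
  have hδeq : ∀ x : D', δ₂ x = δ₁ x := by
    intro x
    obtain ⟨w, hw⟩ := hΨ (Ideal.Quotient.mk _ x)
    have h1 : x - Algebra.TensorProduct.productMap (Subalgebra.inclusion hle) ι w ∈
        Ideal.jacobson (⊥ : Ideal D') := by
      rw [← Ideal.Quotient.eq]
      exact hw.symm
    have h2 := hmaxker δ₂ (fun d => by rw [hδι, hδ₁, hφ]) h1
    have h3 := hmaxker δ₁ (fun d => by rw [hδ₁, hφ]) h1
    rw [RingHom.mem_ker, map_sub, sub_eq_zero] at h2 h3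
    rw [h2, h3, hδP]
  let θT : D' ⊗[A] C₀ →ₐ[A] A' ⊗[A] E :=
    Algebra.TensorProduct.productMap θ
      ((Algebra.TensorProduct.includeRight : E →ₐ[A] A' ⊗[A] E).comp
        (IsScalarTower.toAlgHom A C₀ E))
  have hθT : ∀ (x : D') (c : C₀),
      θT (x ⊗ₜ c) = θ x * ((1 : A') ⊗ₜ[A] (algebraMap C₀ E c)) :=
    fun x c => Algebra.TensorProduct.productMap_apply_tmul _ _ _ _
  have hPEθT : ∀ w,
      Algebra.TensorProduct.productMap A'.val (IsScalarTower.toAlgHom A E K) (θT w) = ρT w := by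
    intro w
    induction w using TensorProduct.induction_on with
    | zero => simp
    | tmul x c =>
      rw [hθT, map_mul, hθ, hPE, OneMemClass.coe_one, one_mul, hρT,
        ← IsScalarTower.algebraMap_apply C₀ E K]
    | add a b ha hb => rw [map_add, map_add, map_add, ha, hb]
  have hgθT : ∀ w, g (θT w) = γ₁ w := by
    intro w
    induction w using TensorProduct.induction_on with
    | zero => simp
    | tmul x c =>
      have h2 : x ⊗ₜ[A] c = (x ⊗ₜ[A] (1 : C₀)) * ((1 : D') ⊗ₜ[A] c) := by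
        rw [Algebra.TensorProduct.tmul_mul_tmul, mul_one, one_mul]
      have h3 : g (θ x) = γ₁ (x ⊗ₜ[A] (1 : C₀)) := hδeq x
      have h4 : g ((1 : A') ⊗ₜ[A] (algebraMap C₀ E c)) = γ₁ ((1 : D') ⊗ₜ[A] c) := by
        rw [hg, map_one, ← Algebra.TensorProduct.one_def, map_one, one_mul, hγb, hφ, map_one]
      rw [hθT, map_mul, h3, h4, h2, map_mul]
    | add a b ha hb => rw [map_add, map_add, map_add, ha, hb]
  have h1 : Algebra.TensorProduct.productMap A'.val (IsScalarTower.toAlgHom A E K) (θT z) = 0 := by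
    rw [hPEθT, hz]
  have h2 : θT z = 0 := hPinj (by rw [h1, map_zero])
  rw [← hgθT, h2, map_zero]

theorem flat_of_surjective
    (A D E K : Type u) [CommRing A] [IsLocalRing A] [IsReduced A] [IsNoetherianRing A]
    [CommRing D] [IsLocalRing D] [CommRing E] [IsLocalRing E] [CommRing K] [IsReduced K]
    [Algebra A D] [Algebra A E] [Algebra D E] [IsScalarTower A D E]
    [Algebra A K] [Algebra D K] [Algebra E K] [IsScalarTower A D K] [IsScalarTower A E K]
    [IsScalarTower D E K]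
    [IsLocalHom (algebraMap D E)]
    (hE : EGA4loc.IsEssentiallyEtale A E)
    (hDE : Function.Injective (algebraMap D E)) (hEK : Function.Injective (algebraMap E K))
    (hun : ∀ a ∈ nonZeroDivisors A, IsUnit (algebraMap A K a))
    (A' D' : Subalgebra A K)
    (hA' : ∀ x : K, x ∈ A' ↔ (IsIntegral A x ∧ ∃ a ∈ nonZeroDivisors A, ∃ b : A,
      algebraMap A K a * x = algebraMap A K b))
    (hD' : ∀ x : K, x ∈ D' ↔ (IsIntegral D x ∧ ∃ a ∈ nonZeroDivisors A, ∃ d : D,
      algebraMap A K a * x = algebraMap D K d))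
    (hle : A' ≤ D') (ι : D →ₐ[A] D') (hι : ∀ d : D, (ι d : K) = algebraMap D K d)
    (hΨ : Function.Surjective ((Ideal.Quotient.mkₐ A (Ideal.jacobson (⊥ : Ideal D'))).comp
      (Algebra.TensorProduct.productMap (Subalgebra.inclusion hle) ι))) :
    Module.Flat D E := by
  classical
  have hmin : (minimalPrimes A).Finite := minimalPrimes.finite_of_isNoetherianRing A
  haveI : Module.Flat A E := FracFgIff.flat_base_of_essEtale A E hE
  haveI : Algebra.QuasiFinite A E := FracFgIff.quasiFinite_of_essEtale A E hE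
  obtain ⟨C₀, _, _, algCE, _, q, _, hCet, hloc⟩ := EssEtUtil.exists_isLocalization A E hE
  haveI := hCet
  haveI := hloc
  letI algCK : Algebra C₀ K := ((algebraMap E K).comp (algebraMap C₀ E)).toAlgebra
  haveI : IsScalarTower C₀ E K := IsScalarTower.of_algebraMap_eq (fun c => rfl)
  haveI : IsScalarTower A C₀ K := IsScalarTower.of_algebraMap_eq (fun a => by
    rw [IsScalarTower.algebraMap_apply A E K, IsScalarTower.algebraMap_apply A C₀ E]
    rfl)
  haveI : IsArtinianRing (fracK A D K) := isArtinianRing_fracK A D E K hmin hun hDE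
  haveI : IsReduced (fracK A D K) :=
    isReduced_of_injective (fracK A D K).val.toRingHom Subtype.val_injective
  have hD'L : D' ≤ fracK A D K := fun x hx => ((hD' x).mp hx).2
  have hint : ∀ x ∈ fracK A D K, IsIntegral A x → x ∈ D' :=
    fun x hx hi => (hD' x).mpr ⟨hi.tower_top, hx⟩
  let ρT : D' ⊗[A] C₀ →ₐ[A] K :=
    Algebra.TensorProduct.productMap D'.val (IsScalarTower.toAlgHom A C₀ K)
  have hρT : ∀ (x : D') (c : C₀), ρT (x ⊗ₜ c) = (x : K) * algebraMap C₀ K c :=
    fun x c => Algebra.TensorProduct.productMap_apply_tmul _ _ _ _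
  obtain ⟨ε', hε'1, hε'0⟩ := exists_idem A C₀ K (fracK A D K) D' hD'L hint
    (ρT.comp (Algebra.TensorProduct.comm A C₀ D').toAlgHom)
    (fun c x => by
      show ρT ((Algebra.TensorProduct.comm A C₀ D') (c ⊗ₜ x)) = _
      rw [Algebra.TensorProduct.comm_tmul, hρT, mul_comm])
  have hε1 : ρT ((Algebra.TensorProduct.comm A C₀ D') ε') = 1 := hε'1
  have hε0 : ∀ z, ρT z = 0 → (Algebra.TensorProduct.comm A C₀ D') ε' * z = 0 := by
    intro z hz
    have h1 := hε'0 ((Algebra.TensorProduct.comm A C₀ D').symm z) (by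
      show ρT ((Algebra.TensorProduct.comm A C₀ D')
        ((Algebra.TensorProduct.comm A C₀ D').symm z)) = 0
      rw [AlgEquiv.apply_symm_apply]
      exact hz)
    have h2 := congrArg (Algebra.TensorProduct.comm A C₀ D') h1
    rw [map_mul, AlgEquiv.apply_symm_apply, map_zero] at h2
    exact h2
  generalize (Algebra.TensorProduct.comm A C₀ D') ε' = ε at hε1 hε0
  have hεε : ε * (1 - ε) = 0 := hε0 _ (by rw [map_sub, map_one, hε1, sub_self])
  -- the maps `ν` and `φ`
  let ν : D ⊗[A] C₀ →ₐ[D] E :=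
    Algebra.TensorProduct.lift (Algebra.ofId D E) (IsScalarTower.toAlgHom A C₀ E)
      (fun _ _ => Commute.all _ _)
  have hν : ∀ d c, ν (d ⊗ₜ c) = algebraMap D E d * algebraMap C₀ E c :=
    fun d c => Algebra.TensorProduct.lift_tmul _ _ _ _ _
  let φ : D ⊗[A] C₀ →ₐ[A] D' ⊗[A] C₀ := Algebra.TensorProduct.map ι (AlgHom.id A C₀)
  have hφ : ∀ d c, φ (d ⊗ₜ c) = ι d ⊗ₜ c := fun d c => rfl
  have hρφ : ∀ t, ρT (φ t) = algebraMap E K (ν t) := by
    intro t
    induction t using TensorProduct.induction_on with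
    | zero => simp
    | tmul d c =>
      rw [hφ, hρT, hι, hν, map_mul, ← IsScalarTower.algebraMap_apply D E K]
      rfl
    | add a b ha hb => rw [map_add, map_add, map_add, map_add, ha, hb]
  have hιinj : Function.Injective ι := by
    intro d₁ d₂ h
    apply hDE
    apply hEK
    rw [← IsScalarTower.algebraMap_apply D E K, ← IsScalarTower.algebraMap_apply D E K, ← hι, ← hι,
      h]
  have hφinj : Function.Injective φ := by
    have h1 : Function.Injective (LinearMap.rTensor C₀ ι.toLinearMap) :=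
      Module.Flat.rTensor_preserves_injective_linearMap (M := C₀) ι.toLinearMap hιinj
    have h2 : ∀ t, φ t = LinearMap.rTensor C₀ ι.toLinearMap t := by
      intro t
      induction t using TensorProduct.induction_on with
      | zero => simp
      | tmul d c => rfl
      | add a b ha hb => rw [map_add, map_add, ha, hb]
    intro s t hst
    apply h1
    rw [← h2, ← h2, hst]
  have hιint : ∀ x : D', (ι : D →+* D').IsIntegralElem x := by
    intro x
    obtain ⟨p, hp, hpx⟩ := ((hD' x.1).mp x.2).1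
    refine ⟨p, hp, ?_⟩
    apply Subtype.ext
    have h1 := Polynomial.hom_eval₂ p (ι : D →+* D') (D'.val.toRingHom) x
    have h2 : (D'.val.toRingHom).comp (ι : D →+* D') = algebraMap D K :=
      RingHom.ext fun d => hι d
    rw [h2] at h1
    exact h1.trans hpx
  have hφint : (φ : D ⊗[A] C₀ →+* D' ⊗[A] C₀).IsIntegral := by
    intro w
    induction w using TensorProduct.induction_on with
    | zero => exact RingHom.isIntegralElem_zero _
    | tmul x c =>
      have h1 : x ⊗ₜ[A] c = (x ⊗ₜ[A] (1 : C₀)) *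
          (φ : D ⊗[A] C₀ →+* D' ⊗[A] C₀) ((1 : D) ⊗ₜ[A] c) := by
        show _ = _ * φ ((1 : D) ⊗ₜ[A] c)
        rw [hφ, map_one, Algebra.TensorProduct.tmul_mul_tmul, mul_one, one_mul]
      rw [h1]
      refine RingHom.IsIntegralElem.mul _ ?_ (RingHom.isIntegralElem_map _)
      obtain ⟨p, hp, hpx⟩ := hιint x
      refine ⟨p.map (Algebra.TensorProduct.includeLeft : D →ₐ[A] D ⊗[A] C₀).toRingHom,
        hp.map _, ?_⟩
      have h3 : ((φ : D ⊗[A] C₀ →+* D' ⊗[A] C₀)).comp
          (Algebra.TensorProduct.includeLeft : D →ₐ[A] D ⊗[A] C₀).toRingHom =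
          ((Algebra.TensorProduct.includeLeft : D' →ₐ[A] D' ⊗[A] C₀).toRingHom).comp
            (ι : D →+* D') := RingHom.ext fun d => rfl
      rw [Polynomial.eval₂_map, h3]
      have h2 := Polynomial.hom_eval₂ p (ι : D →+* D')
        (Algebra.TensorProduct.includeLeft : D' →ₐ[A] D' ⊗[A] C₀).toRingHom x
      rw [hpx, map_zero] at h2
      exact h2.symm
    | add a b ha hb => exact RingHom.IsIntegralElem.add _ ha hb
  -- the prime `𝔮`
  let 𝔮 : Ideal (D ⊗[A] C₀) := (maximalIdeal E).comap ν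
  haveI : 𝔮.IsPrime := Ideal.comap_isPrime _ _
  have hkey : ∃ t₀ : D ⊗[A] C₀, t₀ ∉ 𝔮 ∧ φ t₀ * (1 - ε) = 0 := by
    by_contra hcon
    push_neg at hcon
    have hIP : (Ideal.span {ε}).comap (φ : D ⊗[A] C₀ →+* D' ⊗[A] C₀) ≤ 𝔮 := by
      intro t ht
      by_contra htq
      apply hcon t htq
      obtain ⟨u, hu⟩ := Ideal.mem_span_singleton'.mp ht
      have hu' : φ t = u * ε := hu.symm
      rw [hu', mul_assoc, hεε, mul_zero]
    obtain ⟨𝔐, hε𝔐, h𝔐prime, h𝔐q⟩ :=
      exists_prime_over (φ : D ⊗[A] C₀ →+* D' ⊗[A] C₀) hφint 𝔮 _ hIP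
    haveI := h𝔐prime
    have hγ : ∀ t : D ⊗[A] C₀,
        algebraMap (D' ⊗[A] C₀) 𝔐.ResidueField (φ t) = 0 ↔ ν t ∈ maximalIdeal E := by
      intro t
      rw [Ideal.algebraMap_residueField_eq_zero]
      have h1 : φ t ∈ 𝔐 ↔ t ∈ 𝔮 := by
        rw [← h𝔐q]
        rfl
      rw [h1]
      rfl
    have hker : ∀ z, ρT z = 0 → algebraMap (D' ⊗[A] C₀) 𝔐.ResidueField z = 0 :=
      fun z hz => ker_le A D E K C₀ 𝔐.ResidueField hE q hEK hun A' D' hA' hD' hle ι hι hΨ
        ν hν φ hφ ρT hρT (algebraMap (D' ⊗[A] C₀) 𝔐.ResidueField) hγ z hz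
    have h1 : algebraMap (D' ⊗[A] C₀) 𝔐.ResidueField (1 - ε) = 0 :=
      hker _ (by rw [map_sub, map_one, hε1, sub_self])
    have h2 : algebraMap (D' ⊗[A] C₀) 𝔐.ResidueField ε = 0 :=
      Ideal.algebraMap_residueField_eq_zero.mpr (hε𝔐 (Ideal.subset_span rfl))
    rw [map_sub, map_one, h2, sub_zero] at h1
    exact one_ne_zero h1
  obtain ⟨t₀, ht₀q, ht₀⟩ := hkey
  have hkerν : ∀ t, ν t = 0 → t₀ * t = 0 := by
    intro t ht
    apply hφinj
    rw [map_mul, map_zero]
    have h1 : ρT (φ t) = 0 := by rw [hρφ, ht, map_zero]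
    have h2 := hε0 _ h1
    calc φ t₀ * φ t = φ t₀ * (1 - ε) * φ t + φ t₀ * (ε * φ t) := by ring
      _ = 0 := by rw [ht₀, h2, zero_mul, mul_zero, add_zero]
  -- `E` is the localization of `D ⊗ C₀` at `𝔮`
  have hunit : ∀ y : 𝔮.primeCompl, IsUnit (ν y) := by
    intro y
    have h1 : ν y ∉ maximalIdeal E := y.2
    exact IsLocalRing.notMem_maximalIdeal.mp h1
  let ν' : Localization.AtPrime 𝔮 →ₐ[D] E :=
    IsLocalization.liftAlgHom (M := 𝔮.primeCompl) (f := ν) hunit
  have hν' : ∀ t : D ⊗[A] C₀, ν' (algebraMap _ (Localization.AtPrime 𝔮) t) = ν t :=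
    fun t => IsLocalization.lift_eq _ _
  have hsurj : Function.Surjective ν' := by
    intro e
    obtain ⟨⟨c, s⟩, hcs⟩ := IsLocalization.surj q.primeCompl e
    have hsu : IsUnit (algebraMap C₀ E (s : C₀)) := IsLocalization.map_units E s
    have hts : ((1 : D) ⊗ₜ[A] (s : C₀)) ∈ 𝔮.primeCompl := by
      show ((1 : D) ⊗ₜ[A] (s : C₀)) ∉ 𝔮
      intro h
      have h1 : ν ((1 : D) ⊗ₜ[A] (s : C₀)) ∈ maximalIdeal E := h
      rw [hν, map_one, one_mul] at h1
      exact (mem_maximalIdeal _).mp h1 hsu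
    refine ⟨IsLocalization.mk' (Localization.AtPrime 𝔮) ((1 : D) ⊗ₜ[A] c) ⟨_, hts⟩, ?_⟩
    have h2 := IsLocalization.mk'_spec (Localization.AtPrime 𝔮) ((1 : D) ⊗ₜ[A] c) ⟨_, hts⟩
    have h3 := congrArg ν' h2
    rw [map_mul, hν', hν', hν, hν, map_one, one_mul, one_mul] at h3
    have h4 : ν' (IsLocalization.mk' _ ((1 : D) ⊗ₜ[A] c) ⟨_, hts⟩) * algebraMap C₀ E s =
        e * algebraMap C₀ E s := by rw [h3, hcs]
    exact hsu.mul_left_injective h4
  have hinj : Function.Injective ν' := by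
    rw [injective_iff_map_eq_zero]
    intro x hx
    obtain ⟨t, s, rfl⟩ := IsLocalization.exists_mk'_eq 𝔮.primeCompl x
    have h1 := IsLocalization.mk'_spec (Localization.AtPrime 𝔮) t s
    have h2 := congrArg ν' h1
    rw [map_mul, hν', hν', hx, zero_mul] at h2
    have h3 : t₀ * t = 0 := hkerν t h2.symm
    rw [IsLocalization.mk'_eq_zero_iff]
    exact ⟨⟨t₀, ht₀q⟩, h3⟩
  haveI : Module.Flat (D ⊗[A] C₀) (Localization.AtPrime 𝔮) := IsLocalization.flat _ 𝔮.primeCompl
  haveI : Module.Flat D (D ⊗[A] C₀) := inferInstance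
  haveI : Module.Flat D (Localization.AtPrime 𝔮) := Module.Flat.trans D (D ⊗[A] C₀) _
  let eq : Localization.AtPrime 𝔮 ≃ₐ[D] E := AlgEquiv.ofBijective ν' ⟨hinj, hsurj⟩
  exact Module.Flat.of_linearEquiv eq.symm.toLinearEquiv

end Groth.Agent.Lib.Helper8.Bwd16450
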