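import Mathlib
import Groth.Agent.Lib.Helper8.SmoothBranches

/-!
# Geometric unibranchness ascends along smooth morphisms; affine space is smooth
-/

set_option autoImplicit false
open CategoryTheory CategoryTheory.Limits AlgebraicGeometry Opposite
universe u

namespace Groth.Agent.Lib.Helper8.SmoothUnibranchSch

/-- If `f` is smooth and the local ring of `Y` at `f x` is geometrically unibranch, then so is the
local ring of `X` at `x`. -/
theorem stalk_isGeomUnibranch_of_smooth {X Y : Scheme.{u}} (f : X ⟶ Y) [Smooth f] (x : X)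
    (hY' : CAlg2.IsGeomUnibranch (Y.presheaf.stalk (f.base x))) :
    CAlg2.IsGeomUnibranch (X.presheaf.stalk x) := by
  obtain ⟨_, ⟨W, hW, rfl⟩, hsW, -⟩ :=
    Y.isBasis_affineOpens.exists_subset_of_mem_open (Set.mem_univ (f.base x)) isOpen_univ
  obtain ⟨_, ⟨V, hV, rfl⟩, hxV, hVW⟩ :=
    X.isBasis_affineOpens.exists_subset_of_mem_open
      (show x ∈ ((f ⁻¹ᵁ W : X.Opens) : Set X) from hsW) (f ⁻¹ᵁ W).2
  replace hVW : V ≤ f ⁻¹ᵁ W := hVW
  have hsm : (f.appLE W V hVW).hom.Smooth :=
    HasRingHomProperty.appLE @Smooth f inferInstance ⟨W, hW⟩ ⟨V, hV⟩ hVW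
  have hyW : f.base x ∈ W := hVW hxV
  have hcomm : Y.presheaf.germ W (f.base x) hyW ≫ f.stalkMap x =
      f.appLE W V hVW ≫ X.presheaf.germ V x hxV := by
    rw [Scheme.Hom.germ_stalkMap, Scheme.Hom.appLE, Category.assoc, TopCat.Presheaf.germ_res]
  letI algAC : Algebra Γ(Y, W) Γ(X, V) := (f.appLE W V hVW).hom.toAlgebra
  haveI : Algebra.Smooth Γ(Y, W) Γ(X, V) := hsm
  letI algA : Algebra Γ(Y, W) (Y.presheaf.stalk (f.base x)) :=
    Y.presheaf.algebra_section_stalk ⟨f.base x, hyW⟩
  letI algB : Algebra Γ(X, V) (X.presheaf.stalk x) := X.presheaf.algebra_section_stalk ⟨x, hxV⟩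
  letI algAB : Algebra (Y.presheaf.stalk (f.base x)) (X.presheaf.stalk x) :=
    (f.stalkMap x).hom.toAlgebra
  letI algA₀B : Algebra Γ(Y, W) (X.presheaf.stalk x) :=
    ((X.presheaf.germ V x hxV).hom.comp (f.appLE W V hVW).hom).toAlgebra
  haveI : IsScalarTower Γ(Y, W) Γ(X, V) (X.presheaf.stalk x) :=
    IsScalarTower.of_algebraMap_eq (fun _ => rfl)
  haveI : IsScalarTower Γ(Y, W) (Y.presheaf.stalk (f.base x)) (X.presheaf.stalk x) := by
    refine IsScalarTower.of_algebraMap_eq (fun a => ?_)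
    have := congrArg (fun φ => φ.hom a) hcomm
    exact this.symm
  haveI : IsLocalHom (algebraMap (Y.presheaf.stalk (f.base x)) (X.presheaf.stalk x)) :=
    (inferInstance : IsLocalHom (f.stalkMap x).hom)
  haveI := hW.isLocalization_stalk ⟨f.base x, hyW⟩
  haveI := hV.isLocalization_stalk ⟨x, hxV⟩
  exact Groth.Agent.Lib.Helper8.SmoothBranches.isGeomUnibranch_of_smooth_isLocalization
    (hW.primeIdealOf ⟨f.base x, hyW⟩).asIdeal (hV.primeIdealOf ⟨x, hxV⟩).asIdeal
    (Y.presheaf.stalk (f.base x)) (X.presheaf.stalk x) hY'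

set_option backward.isDefEq.respectTransparency.types false in
/-- Affine space over any base is smooth. -/
theorem smooth_affineSpace_over (n : Type u) [Finite n] (S : Scheme.{u}) :
    Smooth (𝔸(n; S) ↘ S) :=
  MorphismProperty.pullback_fst _ _ <| by
  have := isIso_of_isTerminal specULiftZIsTerminal.{u} terminalIsTerminal (terminal.from _)
  rw [← terminal.comp_from (Spec.map (CommRingCat.ofHom
      (MvPolynomial.C (σ := n) (R := ULift.{u} ℤ)))),
    MorphismProperty.cancel_right_of_respectsIso (P := @Smooth),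
    HasRingHomProperty.Spec_iff (P := @Smooth), RingHom.Smooth]
  convert! (⟨inferInstance, inferInstance⟩ :
    Algebra.Smooth (ULift.{u} ℤ) (MvPolynomial n (ULift.{u} ℤ)))
  exact Algebra.algebra_ext _ _ fun _ ↦ rfl

end Groth.Agent.Lib.Helper8.SmoothUnibranchSch
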