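import Mathlib
import Groth.Prelude
import Groth.Agent.Lib.Helper8.QFUnivOpenAt
import Groth.Agent.Lib.Helper8.SmoothUnibranchSch
import Groth.Agent.Lib.Helper12.QFAffine
import Groth.Agent.S4925
import Groth.Agent.S4926

/-!
# Chevalley's criterion for universal openness, pointwise form (EGA IV 14.4.1 / 14.4.4)

`isUnivOpenAt_of_isEquidimAt`: a morphism locally of finite type to a locally Noetherian scheme
which is equidimensional at a point `x` whose image is geometrically unibranch is universally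
open at `x`.
-/

set_option autoImplicit false
universe u
open AlgebraicGeometry CategoryTheory CategoryTheory.Limits

namespace Groth.Agent.Lib.Helper8.EquidimUnivOpenAt

open Groth.Agent.Lib.Helper8

/-- **Chevalley's criterion, pointwise.** -/
theorem isUnivOpenAt_of_isEquidimAt {X Y : Scheme.{u}} [IsLocallyNoetherian Y] (f : X ⟶ Y)
    [LocallyOfFiniteType f] (x : X)
    (hy : CAlg2.IsGeomUnibranch (Y.presheaf.stalk (f.base x)))
    (h : EGA43.IsEquidimAt f x) : EGA43.IsUnivOpenAt f x := by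
  obtain ⟨e, U, g, hxU, hg, hqf, hcomp⟩ :=
    Groth.Agent.Lib.Helper12.QFAffine.exists_quasiFinite_of_isEquidimAt f x h
  haveI := hqf
  haveI : Smooth (𝔸(ULift.{u} (Fin e); Y) ↘ Y) :=
    SmoothUnibranchSch.smooth_affineSpace_over _ Y
  haveI : LocallyOfFiniteType (g ≫ (𝔸(ULift.{u} (Fin e); Y) ↘ Y)) := by
    rw [hg]; infer_instance
  haveI : LocallyOfFiniteType g :=
    locallyOfFiniteType_of_comp g (𝔸(ULift.{u} (Fin e); Y) ↘ Y)
  haveI : IsLocallyNoetherian 𝔸(ULift.{u} (Fin e); Y) :=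
    LocallyOfFiniteType.isLocallyNoetherian (𝔸(ULift.{u} (Fin e); Y) ↘ Y)
  haveI : LocallyOfFinitePresentation g := inferInstance
  obtain ⟨x₀, hx₀⟩ : ∃ x₀ : (U : Scheme.{u}), U.ι.base x₀ = x := ⟨⟨x, hxU⟩, rfl⟩
  have hπ : (𝔸(ULift.{u} (Fin e); Y) ↘ Y).base (g.base x₀) = f.base x := by
    rw [← Scheme.Hom.comp_apply, hg, Scheme.Hom.comp_apply, hx₀]
  have hgx : CAlg2.IsGeomUnibranch (𝔸(ULift.{u} (Fin e); Y).presheaf.stalk (g.base x₀)) :=
    SmoothUnibranchSch.stalk_isGeomUnibranch_of_smooth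
      (𝔸(ULift.{u} (Fin e); Y) ↘ Y) (g.base x₀) (by rw [hπ]; exact hy)
  have hmaxg : ∀ ξ : (U : Scheme.{u}), (∀ ξ' : (U : Scheme.{u}), ξ' ⤳ ξ → ξ' = ξ) →
      ∀ η' : 𝔸(ULift.{u} (Fin e); Y), η' ⤳ g ξ → η' = g ξ := by
    intro ξ hξ η' hη'
    have hZ := QFUnivOpen.closure_singleton_mem_irreducibleComponents ξ hξ
    have hW := hcomp _ hZ
    have hgen : IsGenericPoint (g ξ) (closure (g.base '' closure {ξ})) := by
      rw [isGenericPoint_def, closure_image_closure g.continuous, Set.image_singleton]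
    exact QFUnivOpen.eq_of_specializes_genericPoint hW hgen η' hη'
  have h1 : EGA43.IsUnivOpenAt g x₀ :=
    QFUnivOpenAt.isUnivOpenAt_of_geomUnibranch g x₀ hgx hmaxg
  have h2 : EGA43.IsUnivOpenAt (𝔸(ULift.{u} (Fin e); Y) ↘ Y) (g.base x₀) :=
    QFUnivOpenAt.isUnivOpenAt_of_universallyOpen _ _
  have h3 : EGA43.IsUnivOpenAt (g ≫ (𝔸(ULift.{u} (Fin e); Y) ↘ Y)) x₀ :=
    Groth.Agent.S4925.result g _ x₀ h1 h2
  rw [hg] at h3
  have h4 := Groth.Agent.S4926.result U.ι f x₀ h3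
  rw [hx₀] at h4
  exact h4

end Groth.Agent.Lib.Helper8.EquidimUnivOpenAt
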