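import Mathlib
import Groth.Prelude
import Groth.Agent.Lib.Helper8.EquidimUnivOpenAt
import Groth.Agent.Lib.Helper8.UnivOpen
import Groth.Agent.Lib.Helper12.EquidimSub
import Groth.Agent.Lib.Helper12.EquidimComp
import Groth.Agent.Lib.Helper12.UnivOpenDim
import Groth.Agent.Lib.Helper12.OpenGen
import Groth.Agent.S4926

/-!
# Chevalley's criterion at a maximal point of a fibre (EGA IV 14.4.1)

* `isEquidimAt_clSub'`: version of helper12's `EquidimSub.isEquidimAt_clSub` without the
  irreducibility hypothesis on the base (proof adapted from theirs).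
* `isUnivOpenAt_of_component`: condition b) of EGA IV 14.4.1 implies universal openness at `x`.
* `le_dim_of_isOpenAt`: openness at a maximal point `x` of its fibre implies condition b').
-/

set_option autoImplicit false
universe u v
open Polynomial Cardinal AlgebraicGeometry CategoryTheory

namespace Groth.Agent.Lib.Helper8.ChevalleyPt

open Groth.Agent.Lib.Helper8
open Groth.Agent.Lib.Helper12.OrdTools Groth.Agent.Lib.Helper12.DimIneq
open Groth.Agent.Lib.Helper12 Groth.Agent.Lib.Helper12.SchemeDimFT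
open Groth.Agent.Lib.Helper12.ChevalleyCor Groth.Agent.Lib.Helper12.SchemeDimIneq
open Groth.Agent.Lib.Helper14 Order Groth.Agent.Lib.Helper12.Equidim
open Groth.Agent.Lib.Helper12.ClosedSub Groth.Agent.Lib.Helper12.JacDim
open Groth.Agent.Lib.Helper12.FibreMax Groth.Agent.Lib.Helper12.EquidimSub
open Groth.Agent.Lib.Helper12.EquidimComp

/-- Universal openness at a point implies openness at this point. -/
theorem isOpenAt_of_isUnivOpenAt {X Y : Scheme.{u}} (f : X ⟶ Y) (x : X)
    (h : EGA43.IsUnivOpenAt f x) : EGA43.IsOpenAt f.base x :=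
  isOpenAt_of_isPullback (IsPullback.id_horiz f) x h x rfl

section Main

variable {X Y : Scheme.{u}} (f : X ⟶ Y) [LocallyOfFiniteType f]

/-- The restriction of `f` to the closure of a point `x'` mapping to a maximal point of `Y` is
equidimensional at every point where the fibre dimension is at most that of the generic fibre.
(Adapted from helper12's `EquidimSub.isEquidimAt_clSub`, dropping irreducibility of `Y`.) -/
theorem isEquidimAt_clSub' (x' : X) (t : ℕ) (ht : trn f x' = (t : ℕ∞))
    (hgen : IsMaxPt (f x')) (w : clSub X x')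
    (hw : FlatMor.fibreDimAt (clSubι X x' ≫ f) w ≤ t) :
    EGA43.IsEquidimAt (clSubι X x' ≫ f) w := by
  have hgp : trn (clSubι X x' ≫ f) (genericPoint (clSub X x')) = (t : ℕ∞) := by
    rw [trn_comp_preimmersion (clSubι X x') f, clSubι_genericPoint, ht]
  have hggp : (clSubι X x' ≫ f) (genericPoint (clSub X x')) = f x' := by
    have : (clSubι X x' ≫ f) (genericPoint (clSub X x')) =
      f (clSubι X x' (genericPoint (clSub X x'))) := rfl
    rw [this, clSubι_genericPoint]
  obtain ⟨V, hV⟩ : ∃ V : (clSub X x').Opens,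
      (V : Set (clSub X x')) = {w' | FlatMor.fibreDimAt (clSubι X x' ≫ f) w' ≤ t} :=
    ⟨⟨{w' | FlatMor.fibreDimAt (clSubι X x' ≫ f) w' ≤ t},
      Groth.Agent.Lib.Helper12.Chevalley.isOpen_setOf_fibreDimAt_le (clSubι X x' ≫ f) t⟩, rfl⟩
  have hVmem : ∀ w' : clSub X x', w' ∈ V ↔ FlatMor.fibreDimAt (clSubι X x' ≫ f) w' ≤ t := by
    intro w'
    have : w' ∈ V ↔ w' ∈ (V : Set (clSub X x')) := Iff.rfl
    rw [this, hV]
    rfl
  refine ⟨t, V, (hVmem w).mpr hw, ?_, ?_⟩
  · intro Z hZ
    refine ⟨closure {f x'}, ?_, ?_, ?_⟩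
    · exact (closure_singleton_mem_irreducibleComponents_iff (f x')).mpr hgen
    · have h1 : genericPoint (clSub X x') ⤳ w := genericPoint_specializes _
      have h2 := h1.map (clSubι X x' ≫ f).continuous
      rw [hggp] at h2
      exact specializes_iff_mem_closure.mp h2
    · obtain ⟨η, hη, rfl⟩ := (mem_irreducibleComponents_iff (X := V.toScheme) Z).mp hZ
      have h1 : genericPoint (clSub X x') ⤳ V.ι η := genericPoint_specializes _
      have h2 : genericPoint (clSub X x') ∈ V := h1.mem_open V.2 η.2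
      have h3 : (⟨genericPoint (clSub X x'), h2⟩ : V) ⤳ η :=
        V.ι.isEmbedding.isInducing.specializes_iff.mp h1
      have h4 := hη _ h3
      rw [closure_image_closure (V.ι ≫ clSubι X x' ≫ f).continuous, Set.image_singleton]
      congr 2
      rw [← h4]
      exact hggp
  · intro w' Z hZ
    obtain ⟨z, hz1, hz2, hz3⟩ :=
      exists_of_mem_irreducibleComponents_fiber (V.ι ≫ clSubι X x' ≫ f) _ Z hZ
    rw [hz3, trn_comp_openImmersion V.ι (clSubι X x' ≫ f) z]
    have hle : trn (clSubι X x' ≫ f) (V.ι z) ≤ (t : ℕ∞) := by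
      have h1 := trn_le_fibreDimAt_of_specializes (clSubι X x' ≫ f) (V.ι z) (V.ι z) rfl
        specializes_rfl
      have h2 : FlatMor.fibreDimAt (clSubι X x' ≫ f) (V.ι z) ≤ t := (hVmem _).mp z.2
      exact_mod_cast h1.trans h2
    have hge : (t : ℕ∞) ≤ trn (clSubι X x' ≫ f) (V.ι z) := by
      obtain ⟨z₂, hz₂1, hz₂2, hz₂3, hz₂4⟩ := exists_between_trn_le (clSubι X x' ≫ f) (V.ι z)
        (genericPoint _) (genericPoint_specializes _)
      have hz₂V : z₂ ∈ V := hz₂3.mem_open V.2 z.2
      have h5 : (⟨z₂, hz₂V⟩ : V) = z := by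
        apply hz2
        · exact hz₂1.trans hz1
        · exact V.ι.isEmbedding.isInducing.specializes_iff.mp hz₂3
      rw [hgp] at hz₂4
      rw [← h5]
      exact hz₂4
    rw [le_antisymm hle hge]
    rfl

/-- **EGA IV 14.4.1, b) ⟹ a).** If `x` lies on an irreducible component `Z` of `X` dominating an
irreducible component of `Y` such that the local dimension at `x` of `Z ∩ X_y` is the dimension
of the generic fibre of `Z`, and `y = f x` is geometrically unibranch, then `f` is universally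
open at `x`. -/
theorem isUnivOpenAt_of_component [IsLocallyNoetherian Y] (x : X)
    (hy : CAlg2.IsGeomUnibranch (Y.presheaf.stalk (f.base x)))
    (Z : Set X) (hZ : Z ∈ irreducibleComponents (X : Type u)) (hx : x ∈ Z)
    (Y₀ : Set Y) (hY₀ : Y₀ ∈ irreducibleComponents (Y : Type u))
    (hcl : closure (f.base '' Z) = Y₀)
    (hdim : ∀ η : Y, closure ({η} : Set Y) = Y₀ →
      FlatMor.localDim ↥(Z ∩ f.base ⁻¹' {f.base x}) ⟨x, ⟨hx, rfl⟩⟩ =
        topologicalKrullDim ↥(Z ∩ f.base ⁻¹' {η})) :
    EGA43.IsUnivOpenAt f x := by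
  obtain ⟨ξ, hξmax, rfl⟩ := (mem_irreducibleComponents_iff Z).mp hZ
  have hξx : ξ ⤳ x := specializes_iff_mem_closure.mpr hx
  have hcl' : closure (f.base '' closure ({ξ} : Set X)) = closure {f ξ} :=
    closure_image_closure_singleton' f ξ
  have hgen : IsMaxPt (f ξ) := by
    apply (closure_singleton_mem_irreducibleComponents_iff (f ξ)).mp
    rw [← hcl', hcl]; exact hY₀
  obtain ⟨t, ht⟩ := exists_trn_eq f ξ
  obtain ⟨w, hw⟩ := exists_clSubι_eq X ξ x hξx
  have hE := hdim (f ξ) (hcl'.symm.trans hcl)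
  have h1 := localDim_inter_fibre_eq (clSubι X ξ) f (clSubι X ξ).isEmbedding (closure {ξ})
    (range_clSubι X ξ) w x hw hx
  have h2 := dim_generic_fibre_closure f ξ
  have hwle : FlatMor.fibreDimAt (clSubι X ξ ≫ f) w ≤ t := by
    rw [← h1, hE, h2, ht]
    exact le_refl _
  have heq := isEquidimAt_clSub' f ξ t ht hgen w hwle
  have hfw : (clSubι X ξ ≫ f).base w = f.base x := by
    rw [Scheme.Hom.comp_apply, hw]
  have hy' : CAlg2.IsGeomUnibranch (Y.presheaf.stalk ((clSubι X ξ ≫ f).base w)) := by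
    rw [hfw]; exact hy
  have h3 := EquidimUnivOpenAt.isUnivOpenAt_of_isEquidimAt (clSubι X ξ ≫ f) w hy' heq
  have h4 := Groth.Agent.S4926.result (clSubι X ξ) f w h3
  rw [hw] at h4
  exact h4

/-- **EGA IV 14.4.1, c) ⟹ b').** -/
theorem le_dim_of_isOpenAt [IsLocallyNoetherian Y] (x : X)
    (hmax : ∀ x' : X, f.base x' = f.base x → x ∈ closure {x'} → x' = x)
    (hopen : EGA43.IsOpenAt f.base x) (U : X.Opens) (hxU : x ∈ U) (y' : Y)
    (hy' : y' ⤳ f.base x) :
    FlatMor.fibreDimAt f x ≤ topologicalKrullDim ↥((U : Set X) ∩ f.base ⁻¹' {y'}) := by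
  rw [Groth.Agent.Lib.Helper12.UnivOpenDim.fibreDimAt_eq_trn_of_max f x hmax]
  obtain ⟨ξ, hξx, hfξ, -, htrn⟩ := Groth.Agent.Lib.Helper12.OpenGen.exists_generization_trn_eq f x
    (fun z' h1 h2 => hmax z' h1 (specializes_iff_mem_closure.mp h2)) hopen y' hy'
  have hξU : ξ ∈ U := hξx.mem_open U.2 hxU
  have h1 := Groth.Agent.Lib.Helper12.UnivOpenDim.trn_le_dim_inter_fibre_of_isLocallyClosed f
    (U : Set X) U.2.isLocallyClosed ξ hξU
  rw [htrn] at h1
  have h2 : f.base ξ = y' := hfξ
  rw [h2] at h1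
  exact h1

end Main

end Groth.Agent.Lib.Helper8.ChevalleyPt
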