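import Mathlib
import Groth.Prelude
import Groth.Agent.Lib.Helper8.ChevalleyPt
import Groth.Agent.Lib.Helper12.UnivOpenDim
import Groth.Agent.Lib.Helper12.EquidimOpen

/-!
# Chevalley's criterion along a fibre (EGA IV 14.4.2 / 14.4.3)

* `exists_component_of_le_dim'`: helper12's `UnivOpenDim.exists_component_of_le_dim` with the
  hypothesis only at the generic point of the component of the base (proof adapted from theirs).
* `localDim_closure_inter_fibre_eq`: local dimension at `x` of the fibre of the closure of a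
  generization `a` of `x` with `trn f a = dim_x(X_y)`.
* `exists_component_fibre`: condition b) of EGA IV 14.4.2 at an arbitrary point of the fibre.
-/

set_option autoImplicit false
universe u v
open AlgebraicGeometry CategoryTheory CategoryTheory.Limits IsLocalRing

namespace Groth.Agent.Lib.Helper8.ChevalleyFibre

open Groth.Agent.Lib.Helper8
open Groth.Agent.Lib.Helper12 Groth.Agent.Lib.Helper12.SchemeDimFT
open Groth.Agent.Lib.Helper12.SchemeDimIneq Groth.Agent.Lib.Helper12.ClosedSub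
open Groth.Agent.Lib.Helper12.FibreMax Groth.Agent.Lib.Helper12.SecComp
open Groth.Agent.Lib.Helper12.ValBase Groth.Agent.Lib.Helper12.ValBaseFib
open Groth.Agent.Lib.Helper12.ValStalk Groth.Agent.Lib.Helper12.UnivOpenDim
open Groth.Agent.Lib.Helper12.EquidimComp

variable {X Y : Scheme.{u}} (f : X ⟶ Y) [LocallyOfFiniteType f]

/-- Local dimension at `x` of the trace on the fibre through `x` of the closure of a
generization `a` of `x` whose transcendence degree is the fibre dimension at `x`.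
(Adapted from the last step of helper12's `exists_component_of_le_dim`.) -/
theorem localDim_closure_inter_fibre_eq (x a : X) (hax : a ⤳ x)
    (hxa : x ∈ closure ({a} : Set X)) (m : ℕ)
    (hm : FlatMor.fibreDimAt f x = (m : WithBot ℕ∞)) (hatrn : trn f a = (m : ℕ∞)) :
    FlatMor.localDim ↥(closure ({a} : Set X) ∩ f.base ⁻¹' {f.base x})
      ⟨x, ⟨hxa, rfl⟩⟩ = (m : WithBot ℕ∞) := by
  apply le_antisymm
  · have h1 := localDim_subtype_mono (closure ({a} : Set X) ∩ f.base ⁻¹' {f.base x})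
      (f.base ⁻¹' {f.base x}) Set.inter_subset_right x ⟨hxa, rfl⟩
    refine h1.trans (le_of_eq ?_)
    rw [← hm, TopFibreDim.fibreDimAt_eq_topFibreDim]
    rfl
  · refine le_localDim_subtype (closure ({a} : Set X) ∩ f.base ⁻¹' {f.base x}) x
      ⟨hxa, rfl⟩ _ fun O hO hxO => ?_
    obtain ⟨z, hzF, haz, hzx, htr⟩ := exists_between_trn_le f x a hax
    have hzO : z ∈ O := hzx.mem_open hO hxO
    have hzZ : z ∈ closure ({a} : Set X) := specializes_iff_mem_closure.mp haz
    have h1 := trn_le_dim_inter_fibre_of_isLocallyClosed f (O ∩ closure ({a} : Set X))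
      (hO.isLocallyClosed.inter isClosed_closure.isLocallyClosed) z ⟨hzO, hzZ⟩
    rw [hzF, Set.inter_assoc] at h1
    refine le_trans ?_ h1
    rw [hatrn] at htr
    have : ((m : ℕ∞) : WithBot ℕ∞) ≤ ((trn f z : ℕ∞) : WithBot ℕ∞) :=
      WithBot.coe_le_coe.mpr htr
    exact_mod_cast this

/-- Version of helper12's `exists_component_of_le_dim` where the dimension inequality is only
required over the generic point of the given irreducible component of the base. -/
theorem exists_component_of_le_dim' (x : X)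
    (hmax : ∀ x' : X, f.base x' = f.base x → x ∈ closure {x'} → x' = x)
    (Y₀ : Set Y) (hY₀ : Y₀ ∈ irreducibleComponents (Y : Type u)) (hxY₀ : f.base x ∈ Y₀)
    (hb' : ∀ U : X.Opens, x ∈ U → ∀ η : Y, closure ({η} : Set Y) = Y₀ →
      FlatMor.fibreDimAt f x ≤ topologicalKrullDim ↥((U : Set X) ∩ f.base ⁻¹' {η})) :
    ∃ Z ∈ irreducibleComponents (X : Type u), ∃ hx : x ∈ Z, closure (f.base '' Z) = Y₀ ∧
      ∀ η : Y, closure ({η} : Set Y) = Y₀ →
        FlatMor.fibreDimAt f x =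
          FlatMor.localDim ↥(Z ∩ f.base ⁻¹' {f.base x}) ⟨x, ⟨hx, rfl⟩⟩ ∧
        FlatMor.localDim ↥(Z ∩ f.base ⁻¹' {f.base x}) ⟨x, ⟨hx, rfl⟩⟩ =
          topologicalKrullDim ↥(Z ∩ f.base ⁻¹' {η}) := by
  obtain ⟨m, hm⟩ := exists_nat_fibreDimAt f x
  have htrn : trn f x = (m : ℕ∞) := by
    have h1 := fibreDimAt_eq_trn_of_max f x hmax
    rw [hm] at h1
    have h2 : ((m : ℕ∞) : WithBot ℕ∞) = ((trn f x : ℕ∞) : WithBot ℕ∞) := by exact_mod_cast h1
    exact (WithBot.coe_injective h2).symm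
  obtain ⟨η₀, hη₀⟩ := QuasiSober.sober hY₀.1 (isClosed_of_mem_irreducibleComponents Y₀ hY₀)
  have hη₀def : closure ({η₀} : Set Y) = Y₀ := hη₀.def
  have hη₀x : η₀ ⤳ f.base x := hη₀.specializes hxY₀
  have hη₀max : ∀ y : Y, y ⤳ η₀ → y = η₀ :=
    (closure_singleton_mem_irreducibleComponents_iff η₀).mp (hη₀def ▸ hY₀)
  have hOopen := Chevalley.isOpen_setOf_fibreDimAt_le f m
  have hxO : x ∈ {x' : X | FlatMor.fibreDimAt f x' ≤ m} := by
    show FlatMor.fibreDimAt f x ≤ m
    rw [hm]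
  obtain ⟨_, ⟨V₀, hV₀, rfl⟩, hxV₀, -⟩ := Y.isBasis_affineOpens.exists_subset_of_mem_open
    (Set.mem_univ (f.base x)) isOpen_univ
  obtain ⟨_, ⟨U₀, hU₀, rfl⟩, hxU₀, hU₀sub⟩ := X.isBasis_affineOpens.exists_subset_of_mem_open
    (show x ∈ ((f ⁻¹ᵁ V₀ : X.Opens) : Set X) ∩ {x' : X | FlatMor.fibreDimAt f x' ≤ m} from
      ⟨hxV₀, hxO⟩) ((f ⁻¹ᵁ V₀).2.inter hOopen)
  have e : U₀ ≤ f ⁻¹ᵁ V₀ := fun t ht => (hU₀sub ht).1
  have hU₀O : ∀ t ∈ U₀, FlatMor.fibreDimAt f t ≤ m := fun t ht => (hU₀sub ht).2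
  have htrnle : ∀ t ∈ U₀, trn f t ≤ (m : ℕ∞) := by
    intro t ht
    have h1 := (trn_le_fibreDimAt_of_specializes f t t rfl specializes_rfl).trans (hU₀O t ht)
    have h2 : ((trn f t : ℕ∞) : WithBot ℕ∞) ≤ ((m : ℕ∞) : WithBot ℕ∞) := by exact_mod_cast h1
    exact WithBot.coe_le_coe.mp h2
  set Bad : Set X := {a : X | a ∈ U₀ ∧ f.base a = η₀ ∧ (m : ℕ∞) ≤ trn f a} with hBad
  have hBadmax : ∀ a ∈ Bad, (∀ a' : X, a' ⤳ a → a' = a) ∧ trn f a = (m : ℕ∞) := by
    rintro a ⟨haU, haη, ham⟩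
    refine ⟨?_, le_antisymm (htrnle a haU) ham⟩
    intro a' ha'
    have h1 : f.base a' ⤳ f.base a := ha'.map f.continuous
    rw [haη] at h1
    have h2 : f.base a' = η₀ := hη₀max _ h1
    have ha'U : a' ∈ U₀ := ha'.mem_open U₀.2 haU
    by_contra hne
    have h3 := trn_lt_of_specializes f a a' (h2.trans haη.symm) ha' hne
    exact absurd (lt_of_le_of_lt ham h3) (not_lt.mpr (htrnle a' ha'U))
  have hBadfin : Bad.Finite :=
    (finite_maxPts_fibre f U₀ hU₀ V₀ hV₀ e η₀).subset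
      (fun a ha => ⟨ha.1, ha.2.1, fun a' h _ => (hBadmax a ha).1 a' h⟩)
  have hxBad : x ∈ closure Bad := by
    by_contra hx'
    let U : X.Opens := U₀ ⊓ ⟨(closure Bad)ᶜ, isClosed_closure.isOpen_compl⟩
    have hxU : x ∈ U := ⟨hxU₀, hx'⟩
    have h1 := hb' U hxU η₀ hη₀def
    rw [hm] at h1
    have h2 := dim_inter_fibre_lt_of_isLocallyClosed f (U : Set X) U.2.isLocallyClosed η₀ m (by
      rintro z ⟨⟨hzU₀, hzB⟩, hzη⟩
      by_contra hlt
      exact hzB (subset_closure ⟨hzU₀, hzη, not_lt.mp hlt⟩))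
    exact absurd (lt_of_le_of_lt h1 h2) (lt_irrefl _)
  obtain ⟨a, haBad, hxa⟩ : ∃ a ∈ Bad, x ∈ closure ({a} : Set X) := by
    have h1 : closure Bad = ⋃ a ∈ Bad, closure ({a} : Set X) := by
      conv_lhs => rw [← Set.biUnion_of_singleton Bad]
      exact hBadfin.closure_biUnion _
    rw [h1] at hxBad
    simp only [Set.mem_iUnion] at hxBad
    obtain ⟨a, ha, hxa⟩ := hxBad
    exact ⟨a, ha, hxa⟩
  have hax : a ⤳ x := specializes_iff_mem_closure.mpr hxa
  have haη : f.base a = η₀ := haBad.2.1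
  have hatrn : trn f a = (m : ℕ∞) := (hBadmax a haBad).2
  refine ⟨closure {a}, (mem_irreducibleComponents_iff _).mpr ⟨a, (hBadmax a haBad).1, rfl⟩, hxa,
    ?_, ?_⟩
  · apply Set.Subset.antisymm
    · refine closure_minimal ?_ (isClosed_of_mem_irreducibleComponents Y₀ hY₀)
      rintro _ ⟨t, ht, rfl⟩
      have h1 : f.base a ⤳ f.base t := (specializes_iff_mem_closure.mpr ht).map f.continuous
      rw [haη] at h1
      rw [← hη₀def]
      exact specializes_iff_mem_closure.mp h1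
    · rw [← hη₀def]
      refine closure_mono ?_
      rw [Set.singleton_subset_iff]
      exact ⟨a, subset_closure rfl, haη⟩
  · intro η hη
    have hηeq : η = η₀ := (isGenericPoint_def.mpr hη).eq hη₀
    subst hηeq
    have hB : topologicalKrullDim ↥(closure ({a} : Set X) ∩ f.base ⁻¹' {η}) = (m : WithBot ℕ∞) := by
      rw [← haη, dim_closure_inter_fibre f a, hatrn]
      rfl
    have hA := localDim_closure_inter_fibre_eq f x a hax hxa m hm hatrn
    exact ⟨hm.trans hA.symm, hA.trans hB.symm⟩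

/-- **EGA IV 14.4.2, condition b) at an arbitrary point of the fibre.** If for every maximal point
`z` of the fibre through `x` the dimension of the fibres over the generic point of `Y₀` near `z`
is at least `dim_z(X_y)`, then `x` lies on an irreducible component `Z` of `X` dominating `Y₀`
with `dim_x(Z ∩ X_y) = dim(Z ∩ X_η)`. -/
theorem exists_component_fibre (x : X)
    (Y₀ : Set Y) (hY₀ : Y₀ ∈ irreducibleComponents (Y : Type u)) (hxY₀ : f.base x ∈ Y₀)
    (H : ∀ z : X, f.base z = f.base x →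
      (∀ x' : X, f.base x' = f.base z → z ∈ closure {x'} → x' = z) →
      ∀ U : X.Opens, z ∈ U → ∀ η : Y, closure ({η} : Set Y) = Y₀ →
        FlatMor.fibreDimAt f z ≤ topologicalKrullDim ↥((U : Set X) ∩ f.base ⁻¹' {η})) :
    ∃ Z ∈ irreducibleComponents (X : Type u), ∃ hx : x ∈ Z, closure (f.base '' Z) = Y₀ ∧
      ∀ η : Y, closure ({η} : Set Y) = Y₀ →
        FlatMor.localDim ↥(Z ∩ f.base ⁻¹' {f.base x}) ⟨x, ⟨hx, rfl⟩⟩ =
          topologicalKrullDim ↥(Z ∩ f.base ⁻¹' {η}) := by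
  obtain ⟨m, hm⟩ := exists_nat_fibreDimAt f x
  obtain ⟨z, hz1, hz2, hz3⟩ := exists_generization_trn_eq_fibreDimAt f x
  have hz4 := trn_le_fibreDimAt_of_specializes f x z hz1 hz2
  have htz : ((trn f z : ℕ∞) : WithBot ℕ∞) = (m : WithBot ℕ∞) := by
    rw [hm] at hz3 hz4
    exact le_antisymm hz4 hz3
  have hzmax : ∀ z' : X, f z' = f z → z' ⤳ z → z' = z := by
    intro z' hz' hsp
    by_contra hne
    have h1 := trn_lt_of_specializes f z z' hz' hsp hne
    have h2 := trn_le_fibreDimAt_of_specializes f x z' (hz'.trans hz1) (hsp.trans hz2)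
    rw [hm, ← htz] at h2
    have h3 : trn f z' ≤ trn f z := WithBot.coe_le_coe.mp h2
    exact absurd (lt_of_lt_of_le h1 h3) (lt_irrefl _)
  have hzmax' : ∀ x' : X, f.base x' = f.base z → z ∈ closure {x'} → x' = z :=
    fun x' h1 h2 => hzmax x' h1 (specializes_iff_mem_closure.mpr h2)
  have hzY₀ : f.base z ∈ Y₀ := by
    have : f.base z = f.base x := hz1
    rw [this]; exact hxY₀
  obtain ⟨Z, hZ, hzZ, hcl, hη⟩ :=
    exists_component_of_le_dim' f z hzmax' Y₀ hY₀ hzY₀ (H z hz1 hzmax')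
  obtain ⟨ξ, hξmax, rfl⟩ := (mem_irreducibleComponents_iff Z).mp hZ
  have hξz : ξ ⤳ z := specializes_iff_mem_closure.mpr hzZ
  have hξx : ξ ⤳ x := hξz.trans hz2
  have hcl' : closure (f.base '' closure ({ξ} : Set X)) = closure {f ξ} :=
    closure_image_closure_singleton' f ξ
  have hfz : FlatMor.fibreDimAt f z = (m : WithBot ℕ∞) := by
    rw [fibreDimAt_eq_trn_of_max f z hzmax', htz]
  have htξ : trn f ξ = (m : ℕ∞) := by
    obtain ⟨h1, h2⟩ := hη (f ξ) (hcl'.symm.trans hcl)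
    have h3 := h1.trans h2
    rw [dim_closure_inter_fibre f ξ, hfz] at h3
    have h4 : ((m : ℕ∞) : WithBot ℕ∞) = ((trn f ξ : ℕ∞) : WithBot ℕ∞) := by exact_mod_cast h3
    exact (WithBot.coe_injective h4).symm
  have hxξ : x ∈ closure ({ξ} : Set X) := specializes_iff_mem_closure.mp hξx
  refine ⟨closure {ξ}, hZ, hxξ, hcl, ?_⟩
  intro η hηY
  obtain ⟨h1', h2'⟩ := hη η hηY
  rw [localDim_closure_inter_fibre_eq f x ξ hξx hxξ m hm htξ, ← h2', ← h1', hfz]

end Groth.Agent.Lib.Helper8.ChevalleyFibre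

namespace Groth.Agent.Lib.Helper8.ChevalleyFibre

open Groth.Agent.Lib.Helper8

/-- A map which is open at every point is open. -/
theorem isOpenMap_of_forall_isOpenAt {α β : Type*} [TopologicalSpace α] [TopologicalSpace β]
    (φ : α → β) (h : ∀ a, EGA43.IsOpenAt φ a) : IsOpenMap φ := by
  intro U hU
  rw [isOpen_iff_mem_nhds]
  rintro _ ⟨a, ha, rfl⟩
  exact h a U (hU.mem_nhds ha)

/-- A morphism which is universally open at every point is universally open. -/
theorem universallyOpen_of_forall_isUnivOpenAt {X Y : Scheme.{u}} (f : X ⟶ Y)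
    (h : ∀ x : X, EGA43.IsUnivOpenAt f x) : UniversallyOpen f := by
  refine ⟨fun X' Y' i₁ i₂ f' sq => ?_⟩
  exact isOpenMap_of_forall_isOpenAt _
    (fun p => isOpenAt_of_isPullback sq.flip (i₁.base p) (h _) p rfl)

end Groth.Agent.Lib.Helper8.ChevalleyFibre
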