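/-
Helper8 library: universal openness of `Spec B → Spec A` can be tested on the polynomial rings
`A[X₁,…,Xₙ] → A[X₁,…,Xₙ] ⊗ B` (no finiteness hypotheses).
-/
import Mathlib
import Groth.Agent.Lib.Helper8.QFGoingDown

set_option autoImplicit false
universe u
open AlgebraicGeometry CategoryTheory CategoryTheory.Limits TensorProduct PrimeSpectrum

namespace Groth.Agent.Lib.Helper8.UnivOpenPoly

section Ring

variable {A B : Type u} [CommRing A] [CommRing B] [Algebra A B]

theorem exists_fin_sum (C : Type u) [CommRing C] [Algebra A C] (β : C ⊗[A] B) :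
    ∃ (n : ℕ) (c : Fin n → C) (b : Fin n → B), β = ∑ i, c i ⊗ₜ[A] b i := by
  induction β using TensorProduct.induction_on with
  | zero => exact ⟨0, Fin.elim0, Fin.elim0, by simp⟩
  | tmul c b => exact ⟨1, fun _ => c, fun _ => b, by simp⟩
  | add x y hx hy =>
    obtain ⟨n, c, b, rfl⟩ := hx
    obtain ⟨m, c', b', rfl⟩ := hy
    refine ⟨n + m, Fin.append c c', Fin.append b b', ?_⟩
    rw [Fin.sum_univ_add]
    simp

set_option maxHeartbeats 800000 in
/-- If `Spec (A[X₁..Xₙ] ⊗ B) → Spec A[X₁..Xₙ]` is open for all `n`, then `Spec (C ⊗ B) → Spec C` is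
open for every `A`-algebra `C`. -/
theorem isOpenMap_comap_tensor
    (h : ∀ n : ℕ, IsOpenMap (comap (algebraMap (MvPolynomial (Fin n) A)
      (MvPolynomial (Fin n) A ⊗[A] B))))
    (C : Type u) [CommRing C] [Algebra A C] :
    IsOpenMap (comap (algebraMap C (C ⊗[A] B))) := by
  rw [isBasis_basic_opens.isOpenMap_iff]
  rintro _ ⟨_, ⟨β, rfl⟩, rfl⟩
  obtain ⟨n, c, b, rfl⟩ := exists_fin_sum C β
  let ψ : MvPolynomial (Fin n) A →ₐ[A] C := MvPolynomial.aeval c
  letI algTC : Algebra (MvPolynomial (Fin n) A) C := ψ.toRingHom.toAlgebra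
  haveI : IsScalarTower A (MvPolynomial (Fin n) A) C :=
    IsScalarTower.of_algebraMap_eq' ψ.comp_algebraMap.symm
  have hψX : ∀ i, algebraMap (MvPolynomial (Fin n) A) C (MvPolynomial.X i) = c i := fun i =>
    MvPolynomial.aeval_X c i
  let β₀ : MvPolynomial (Fin n) A ⊗[A] B := ∑ i, (MvPolynomial.X i : MvPolynomial (Fin n) A) ⊗ₜ[A] b i
  let e : C ⊗[MvPolynomial (Fin n) A] (MvPolynomial (Fin n) A ⊗[A] B) ≃ₐ[MvPolynomial (Fin n) A]
      C ⊗[A] B :=
    Algebra.TensorProduct.cancelBaseChange A (MvPolynomial (Fin n) A) (MvPolynomial (Fin n) A) C B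
  let incR : (MvPolynomial (Fin n) A ⊗[A] B) →ₐ[MvPolynomial (Fin n) A]
      C ⊗[MvPolynomial (Fin n) A] (MvPolynomial (Fin n) A ⊗[A] B) :=
    Algebra.TensorProduct.includeRight
  have hβ : e (incR β₀) = ∑ i, c i ⊗ₜ[A] b i := by
    show e ((1 : C) ⊗ₜ[MvPolynomial (Fin n) A] β₀) = _
    simp only [β₀, TensorProduct.tmul_sum, map_sum]
    refine Finset.sum_congr rfl fun i _ => ?_
    rw [Algebra.TensorProduct.cancelBaseChange_tmul, Algebra.smul_def, mul_one, hψX]
  have hβ' : e.symm (∑ i, c i ⊗ₜ[A] b i) = incR β₀ := by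
    rw [← hβ, AlgEquiv.symm_apply_apply]
  have hkey : comap (algebraMap C (C ⊗[A] B)) ''
        (basicOpen (∑ i, c i ⊗ₜ[A] b i) : Set (PrimeSpectrum (C ⊗[A] B))) =
      comap (algebraMap (MvPolynomial (Fin n) A) C) ⁻¹'
        (comap (algebraMap (MvPolynomial (Fin n) A) (MvPolynomial (Fin n) A ⊗[A] B)) ''
          (basicOpen β₀ : Set (PrimeSpectrum (MvPolynomial (Fin n) A ⊗[A] B)))) := by
    ext P
    constructor
    · rintro ⟨Q, hQ, rfl⟩
      let θ : (MvPolynomial (Fin n) A ⊗[A] B) →+* C ⊗[A] B :=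
        (e : _ →+* C ⊗[A] B).comp incR.toRingHom
      refine ⟨comap θ Q, ?_, ?_⟩
      · show θ β₀ ∉ Q.asIdeal
        have : θ β₀ = ∑ i, c i ⊗ₜ[A] b i := hβ
        rw [this]; exact hQ
      · rw [← comap_comp_apply, ← comap_comp_apply]
        congr 1
        refine RingHom.ext fun t => ?_
        show e (incR (algebraMap (MvPolynomial (Fin n) A) (MvPolynomial (Fin n) A ⊗[A] B) t)) =
          algebraMap C (C ⊗[A] B) (algebraMap (MvPolynomial (Fin n) A) C t)
        rw [AlgHom.commutes, AlgEquiv.commutes]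
        rw [Algebra.TensorProduct.algebraMap_apply, Algebra.TensorProduct.algebraMap_apply]
        rfl
    · rintro ⟨Q₀, hQ₀, hQ₀P⟩
      have hc : P.asIdeal.comap (algebraMap (MvPolynomial (Fin n) A) C) =
          Q₀.asIdeal.comap (algebraMap (MvPolynomial (Fin n) A) (MvPolynomial (Fin n) A ⊗[A] B)) :=
        (congrArg PrimeSpectrum.asIdeal hQ₀P).symm
      obtain ⟨Q', hQ', h1, h2⟩ := QFGoingDown.exists_prime_tensor (R := MvPolynomial (Fin n) A)
        (R₁ := C) (R₂ := MvPolynomial (Fin n) A ⊗[A] B) P.asIdeal Q₀.asIdeal hc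
      refine ⟨comap (e.symm : C ⊗[A] B →+* _) ⟨Q', hQ'⟩, ?_, ?_⟩
      · show e.symm (∑ i, c i ⊗ₜ[A] b i) ∉ Q'
        rw [hβ']
        intro hmem
        apply hQ₀
        show β₀ ∈ Q₀.asIdeal
        rw [← h2]
        exact hmem
      · apply PrimeSpectrum.ext
        rw [← h1]
        ext x
        show e.symm (algebraMap C (C ⊗[A] B) x) ∈ Q' ↔ algebraMap C _ x ∈ Q'
        rw [Algebra.TensorProduct.algebraMap_apply, Algebra.TensorProduct.algebraMap_apply]
        show e.symm (x ⊗ₜ[A] (1 : B)) ∈ Q' ↔ _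
        rw [Algebra.TensorProduct.cancelBaseChange_symm_tmul]
        rfl
  rw [hkey]
  exact (h n _ (basicOpen β₀).2).preimage (continuous_comap _)

end Ring

section Sch

/-- Openness of `Spec (C ⊗[R] S) → Spec C`. -/
theorem isOpenMap_fst_Spec (R C S : Type u) [CommRing R] [CommRing C] [CommRing S]
    [Algebra R C] [Algebra R S] (h : IsOpenMap (comap (algebraMap C (C ⊗[R] S)))) :
    IsOpenMap (pullback.fst (Spec.map (CommRingCat.ofHom (algebraMap R C)))
      (Spec.map (CommRingCat.ofHom (algebraMap R S)))).base := by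
  change topologically @IsOpenMap _
  rw [← pullbackSpecIso_hom_fst' R C S,
    MorphismProperty.cancel_left_of_respectsIso (P := topologically @IsOpenMap)]
  exact h

/-- Openness of a base change can be checked on affine test schemes. -/
theorem isOpenMap_fst_of_affine {X Y : Scheme.{u}} (f : X ⟶ Y)
    (H : ∀ (C : CommRingCat.{u}) (t : Spec C ⟶ Y), IsOpenMap (pullback.fst t f).base)
    {T : Scheme.{u}} (t : T ⟶ Y) : IsOpenMap (pullback.fst t f).base := by
  change topologically @IsOpenMap (pullback.fst t f)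
  rw [IsZariskiLocalAtTarget.iff_of_openCover (P := topologically @IsOpenMap) T.affineCover]
  intro i
  dsimp only [Scheme.Cover.pullbackHom]
  have e : pullback.snd (pullback.fst t f) (T.affineCover.f i) =
      (pullbackSymmetry _ _).hom ≫ (pullbackRightPullbackFstIso t f (T.affineCover.f i)).hom ≫
        pullback.fst (T.affineCover.f i ≫ t) f := by
    rw [pullbackRightPullbackFstIso_hom_fst, pullbackSymmetry_hom_comp_fst]
  rw [e]
  refine (MorphismProperty.cancel_left_of_respectsIso (topologically @IsOpenMap) _ _).mpr ?_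
  refine (MorphismProperty.cancel_left_of_respectsIso (topologically @IsOpenMap) _ _).mpr ?_
  exact H _ _

/-- `Spec B → Spec A` is universally open as soon as `Spec (C ⊗ B) → Spec C` is open for all `C`. -/
theorem universallyOpen_of_tensor {A B : Type u} [CommRing A] [CommRing B] [Algebra A B]
    (h : ∀ (C : Type u) [CommRing C] [Algebra A C], IsOpenMap (comap (algebraMap C (C ⊗[A] B)))) :
    UniversallyOpen (Spec.map (CommRingCat.ofHom (algebraMap A B))) := by
  refine ⟨MorphismProperty.universally_mk' _ _ fun {T} t _ => ?_⟩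
  refine isOpenMap_fst_of_affine _ (fun C t' => ?_) t
  obtain ⟨γ, rfl⟩ := Spec.map_surjective t'
  letI : Algebra A C := γ.hom.toAlgebra
  exact isOpenMap_fst_Spec A C B (h C)

/-- `Spec B → Spec A` is universally open as soon as it is open after base change to all polynomial
rings in finitely many variables. -/
theorem universallyOpen_of_polynomial {A B : Type u} [CommRing A] [CommRing B] [Algebra A B]
    (h : ∀ n : ℕ, IsOpenMap (comap (algebraMap (MvPolynomial (Fin n) A)
      (MvPolynomial (Fin n) A ⊗[A] B)))) :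
    UniversallyOpen (Spec.map (CommRingCat.ofHom (algebraMap A B))) :=
  universallyOpen_of_tensor fun C _ _ => isOpenMap_comap_tensor h C

end Sch

end Groth.Agent.Lib.Helper8.UnivOpenPoly
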