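/-
Helper8 library: quasi-finite dominant morphisms from integral schemes to geometrically unibranch
irreducible bases are universally open — without noetherian / finite presentation hypotheses.
-/
import Mathlib
import Groth.Prelude
import Groth.Agent.Lib.Helper8.OpenIntegral
import Groth.Agent.Lib.Helper8.UnivOpenPoly
import Groth.Agent.Lib.Helper8.SmoothBranches

set_option autoImplicit false
universe u
open AlgebraicGeometry CategoryTheory CategoryTheory.Limits TensorProduct

namespace Groth.Agent.Lib.Helper8.QFUnivOpenGen

open Groth.Agent.Lib.Helper8

section Ring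

variable {A B : Type u} [CommRing A] [IsDomain A] [CommRing B] [IsDomain B] [Algebra A B]

/-- Integral injective extension of domains over a geometrically unibranch base: universally open. -/
theorem universallyOpen_of_integral_domain [Algebra.IsIntegral A B]
    (hinj : Function.Injective (algebraMap A B))
    (hgu : ∀ (p : Ideal A) [p.IsPrime], CAlg2.IsGeomUnibranch (Localization.AtPrime p)) :
    UniversallyOpen (Spec.map (CommRingCat.ofHom (algebraMap A B))) := by
  apply UnivOpenPoly.universallyOpen_of_polynomial
  intro n
  let e : MvPolynomial (Fin n) A ⊗[A] B ≃+* MvPolynomial (Fin n) B :=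
    ((Algebra.TensorProduct.comm A (MvPolynomial (Fin n) A) B).toRingEquiv).trans
      (MvPolynomial.algebraTensorAlgEquiv A B).toRingEquiv
  haveI : IsDomain (MvPolynomial (Fin n) A ⊗[A] B) :=
    Function.Injective.isDomain e.toRingHom e.injective
  have hinjT : Function.Injective (algebraMap (MvPolynomial (Fin n) A)
      (MvPolynomial (Fin n) A ⊗[A] B)) :=
    Algebra.TensorProduct.includeLeft_injective (S := MvPolynomial (Fin n) A) hinj
  have hguT : ∀ (P : Ideal (MvPolynomial (Fin n) A)) [P.IsPrime],
      CAlg2.IsGeomUnibranch (Localization.AtPrime P) := by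
    intro P hP
    haveI : P.LiesOver (P.comap (algebraMap A (MvPolynomial (Fin n) A))) := ⟨rfl⟩
    haveI : Algebra.Smooth A (MvPolynomial (Fin n) A) := ⟨inferInstance, inferInstance⟩
    exact SmoothBranches.isGeomUnibranch_localization_of_smooth A (MvPolynomial (Fin n) A)
      (P.comap (algebraMap A (MvPolynomial (Fin n) A))) P (hgu _)
  exact OpenIntegral.isOpenMap_comap_of_geomUnibranch hinjT hguT

/-- Quasi-finite injective extension of domains (finite type) over a geometrically unibranch base:
universally open (Zariski's main theorem reduces to the integral case). -/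
theorem universallyOpen_of_quasiFinite_domain [Algebra.FiniteType A B] [Algebra.QuasiFinite A B]
    (hinj : Function.Injective (algebraMap A B))
    (hgu : ∀ (p : Ideal A) [p.IsPrime], CAlg2.IsGeomUnibranch (Localization.AtPrime p)) :
    UniversallyOpen (Spec.map (CommRingCat.ofHom (algebraMap A B))) := by
  have key : ∀ q : PrimeSpectrum B, ∃ r : B, r ∉ q.asIdeal ∧
      UniversallyOpen (Spec.map (CommRingCat.ofHom (algebraMap A (Localization.Away r)))) := by
    intro q
    haveI : Algebra.QuasiFiniteAt A q.asIdeal := inferInstance
    obtain ⟨B', hB'fg, r, hrq, hbij⟩ :=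
      Algebra.QuasiFiniteAt.exists_fg_and_exists_notMem_and_awayMap_bijective (R := A) q.asIdeal
    refine ⟨r.1, hrq, ?_⟩
    haveI : Module.Finite A B' := ⟨(Submodule.fg_top _).mpr hB'fg⟩
    haveI : Algebra.IsIntegral A B' := inferInstance
    have hinj' : Function.Injective (algebraMap A B') := by
      intro x y hxy
      apply hinj
      have := congrArg (algebraMap B' B) hxy
      rwa [← IsScalarTower.algebraMap_apply, ← IsScalarTower.algebraMap_apply] at this
    have h1 : UniversallyOpen (Spec.map (CommRingCat.ofHom (algebraMap A B'))) :=
      universallyOpen_of_integral_domain hinj' hgu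
    let ε : Localization.Away r ≃+* Localization.Away r.1 :=
      RingEquiv.ofBijective (Localization.awayMap B'.val.toRingHom r) hbij
    have hfac : algebraMap A (Localization.Away r.1) =
        (ε : Localization.Away r →+* Localization.Away r.1).comp
          ((algebraMap B' (Localization.Away r)).comp (algebraMap A B')) := by
      ext a
      show _ = Localization.awayMap B'.val.toRingHom r
        (algebraMap B' (Localization.Away r) (algebraMap A B' a))
      rw [Localization.awayMap, IsLocalization.Away.map, IsLocalization.map_eq]
      rw [IsScalarTower.algebraMap_apply A B (Localization.Away r.1)]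
      rfl
    rw [hfac, CommRingCat.ofHom_comp, CommRingCat.ofHom_comp, Spec.map_comp, Spec.map_comp]
    haveI : IsIso (Spec.map (CommRingCat.ofHom (ε : Localization.Away r →+* Localization.Away r.1))) := by
      have : IsIso (CommRingCat.ofHom (ε : Localization.Away r →+* Localization.Away r.1)) :=
        (ε.toCommRingCatIso).isIso_hom
      infer_instance
    infer_instance
  choose r hr hopen using key
  have hspan : Ideal.span (Set.range r) = ⊤ := by
    by_contra hne
    obtain ⟨m, hm, hle⟩ := Ideal.exists_le_maximal _ hne
    exact hr ⟨m, hm.isPrime⟩ (hle (Ideal.subset_span ⟨⟨m, hm.isPrime⟩, rfl⟩))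
  apply IsZariskiLocalAtSource.of_openCover (Scheme.affineOpenCoverOfSpanRangeEqTop
    (R := CommRingCat.of B) r hspan).openCover
  intro q
  simp only [CommRingCat.coe_of,
    Scheme.AffineOpenCover.openCover_f, Scheme.affineOpenCoverOfSpanRangeEqTop_f]
  change UniversallyOpen (Spec.map (CommRingCat.ofHom (algebraMap B (Localization.Away (r q)))) ≫
      Spec.map (CommRingCat.ofHom (algebraMap A B)))
  rw [← Spec.map_comp, ← CommRingCat.ofHom_comp, ← IsScalarTower.algebraMap_eq]
  exact hopen q

end Ring

end Groth.Agent.Lib.Helper8.QFUnivOpenGen
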