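/-
Helper8 library: scheme-level non-noetherian Chevalley criterion in the quasi-finite case:
a locally quasi-finite, locally finite type morphism from a reduced preirreducible scheme to a
preirreducible scheme with geometrically unibranch local rings which maps maximal points to maximal
points is universally open.
-/
import Mathlib
import Groth.Prelude
import Groth.Agent.Lib.Helper8.QFUnivOpenGen
import Groth.Agent.Lib.Helper8.UnibranchRed
import Groth.Agent.Lib.Helper8.QFUnivOpen

set_option autoImplicit false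
universe u
open AlgebraicGeometry CategoryTheory CategoryTheory.Limits TensorProduct

namespace Groth.Agent.Lib.Helper8.QFUnivOpenGenSch

open Groth.Agent.Lib.Helper8

/-- A surjective closed immersion is universally open (it is a universal homeomorphism). -/
theorem universallyOpen_of_surjective_closedImmersion {Z Y : Scheme.{u}} (i : Z ⟶ Y)
    [IsClosedImmersion i] [Surjective i] : UniversallyOpen i := by
  rw [UniversallyOpen.eq]
  intro X' Y' i₁ i₂ f' hf
  haveI : IsClosedImmersion f' := MorphismProperty.of_isPullback hf.flip inferInstance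
  haveI : Surjective f' := MorphismProperty.of_isPullback hf.flip inferInstance
  exact (f'.isEmbedding.toHomeomorphOfSurjective f'.surjective).isOpenMap

/-- A morphism with empty source is universally open. -/
theorem universallyOpen_of_isEmpty {X Y : Scheme.{u}} (f : X ⟶ Y) [IsEmpty X] :
    UniversallyOpen f := by
  rw [UniversallyOpen.eq]
  intro X' Y' i₁ i₂ f' hf
  haveI : IsEmpty X' := Function.isEmpty (fun x => i₁.base x)
  intro U _
  rw [Set.eq_empty_of_isEmpty U, Set.image_empty]
  exact isOpen_empty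

section Affine

theorem universallyOpen_SpecMap {R S : CommRingCat.{u}} (φ : R ⟶ S)
    [LocallyQuasiFinite (Spec.map φ)] [LocallyOfFiniteType (Spec.map φ)]
    [IsReduced (Spec S)] [PreirreducibleSpace (Spec S)] [PreirreducibleSpace (Spec R)]
    (hY : ∀ y : Spec R, CAlg2.IsGeomUnibranch ((Spec R).presheaf.stalk y))
    (hmax : ∀ ξ : Spec S, (∀ ξ' : Spec S, ξ' ⤳ ξ → ξ' = ξ) →
      ∀ η' : Spec R, η' ⤳ Spec.map φ ξ → η' = Spec.map φ ξ) :
    UniversallyOpen (Spec.map φ) := by
  cases isEmpty_or_nonempty (Spec S)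
  · exact universallyOpen_of_isEmpty _
  haveI : IrreducibleSpace (Spec S) := ⟨‹_›⟩
  haveI : IsDomain S := (affine_isIntegral_iff S).mp (isIntegral_of_irreducibleSpace_of_isReduced _)
  haveI : Nonempty (Spec R) := ⟨Spec.map φ (Classical.arbitrary _)⟩
  haveI : IrreducibleSpace (Spec R) := ⟨‹_›⟩
  have h1 : φ.hom.FiniteType :=
    (HasRingHomProperty.Spec_iff (P := @LocallyOfFiniteType)).mp inferInstance
  have h2 : φ.hom.QuasiFinite :=
    (HasRingHomProperty.Spec_iff (P := @LocallyQuasiFinite)).mp inferInstance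
  algebraize [φ.hom]
  have hgu : ∀ (p : Ideal R) [p.IsPrime], CAlg2.IsGeomUnibranch (Localization.AtPrime p) := by
    intro p hp
    have h3 := hY (⟨p, hp⟩ : PrimeSpectrum R)
    let e : (Spec R).presheaf.stalk (⟨p, hp⟩ : PrimeSpectrum R) ≃+* Localization.AtPrime p :=
      (Spec.stalkIso R ⟨p, hp⟩).commRingCatIsoToRingEquiv
    exact SmoothUnibranch.isGeomUnibranch_of_ringEquiv e.symm h3
  -- the kernel is the nilradical
  have hker : RingHom.ker (algebraMap R S) ≤ nilradical R := by
    let ξ₀ : Spec S := (⟨⊥, Ideal.isPrime_bot⟩ : PrimeSpectrum S)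
    have hξ₀ : ∀ ξ' : Spec S, ξ' ⤳ ξ₀ → ξ' = ξ₀ := by
      intro ξ' h
      have hle : ξ'.asIdeal ≤ ⊥ := (PrimeSpectrum.le_iff_specializes ξ' ξ₀).mpr h
      exact PrimeSpectrum.ext (le_antisymm hle bot_le)
    have h3 := hmax ξ₀ hξ₀
    have hcomp := QFUnivOpen.closure_singleton_mem_irreducibleComponents (Spec.map φ ξ₀) h3
    rw [irreducibleComponents_eq_singleton, Set.mem_singleton_iff] at hcomp
    rw [nilradical_eq_sInf, le_sInf_iff]
    intro p hp
    have hsp : (Spec.map φ ξ₀) ⤳ (⟨p, hp⟩ : PrimeSpectrum R) := by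
      rw [specializes_iff_mem_closure, hcomp]; trivial
    have hle := (PrimeSpectrum.le_iff_specializes (Spec.map φ ξ₀) (⟨p, hp⟩ : PrimeSpectrum R)).mpr hsp
    intro a ha
    apply hle
    show a ∈ Ideal.comap φ.hom ⊥
    rw [Ideal.mem_comap]
    exact (Submodule.mem_bot S).mpr ha
  -- factor through the quotient by the kernel
  let I : Ideal R := RingHom.ker (algebraMap R S)
  haveI : I.IsPrime := RingHom.ker_isPrime _
  let φ₀ : R ⧸ I →+* S := RingHom.kerLift (algebraMap R S)
  have hφ₀inj : Function.Injective φ₀ := RingHom.kerLift_injective _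
  letI : Algebra (R ⧸ I) S := φ₀.toAlgebra
  haveI : IsScalarTower R (R ⧸ I) S := IsScalarTower.of_algebraMap_eq (fun _ => rfl)
  haveI : Algebra.FiniteType (R ⧸ I) S := Algebra.FiniteType.of_restrictScalars_finiteType R _ _
  haveI : Algebra.QuasiFinite (R ⧸ I) S := Algebra.QuasiFinite.of_restrictScalars R _ _
  have hgu₀ := UnibranchRed.isGeomUnibranch_localization_quotient I hker hgu
  have hopen₀ : UniversallyOpen (Spec.map (CommRingCat.ofHom (algebraMap (R ⧸ I) S))) :=
    QFUnivOpenGen.universallyOpen_of_quasiFinite_domain hφ₀inj (fun p _ => hgu₀ p)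
  haveI : IsClosedImmersion (Spec.map (CommRingCat.ofHom (Ideal.Quotient.mk I))) :=
    IsClosedImmersion.spec_of_surjective _ Ideal.Quotient.mk_surjective
  haveI : Surjective (Spec.map (CommRingCat.ofHom (Ideal.Quotient.mk I))) := by
    refine ⟨fun p => ?_⟩
    have hr : Set.range (PrimeSpectrum.comap (Ideal.Quotient.mk I)) =
        PrimeSpectrum.zeroLocus (RingHom.ker (Ideal.Quotient.mk I)) :=
      range_comap_of_surjective _ (Ideal.Quotient.mk I) Ideal.Quotient.mk_surjective
    have hp : (show PrimeSpectrum R from p) ∈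
        Set.range (PrimeSpectrum.comap (Ideal.Quotient.mk I)) := by
      rw [hr, Ideal.mk_ker]
      exact (PrimeSpectrum.mem_zeroLocus _ _).mpr
        (hker.trans (nilradical_le_prime (show PrimeSpectrum R from p).asIdeal))
    obtain ⟨q, hq⟩ := hp
    exact ⟨q, hq⟩
  have h4 := universallyOpen_of_surjective_closedImmersion
    (Spec.map (CommRingCat.ofHom (Ideal.Quotient.mk I)))
  have hfac : φ = CommRingCat.ofHom (Ideal.Quotient.mk I) ≫
      CommRingCat.ofHom (algebraMap (R ⧸ I) S) := by
    ext a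
    rfl
  rw [hfac, Spec.map_comp]
  infer_instance

end Affine

section Main

/-- **Quasi-finite Chevalley criterion, no noetherian hypotheses.** -/
theorem universallyOpen_of_dominant {X Y : Scheme.{u}} (f : X ⟶ Y) [LocallyQuasiFinite f]
    [LocallyOfFiniteType f] [IsReduced X] [PreirreducibleSpace X] [PreirreducibleSpace Y]
    (hY : ∀ y : Y, CAlg2.IsGeomUnibranch (Y.presheaf.stalk y))
    (hmax : ∀ ξ : X, (∀ ξ' : X, ξ' ⤳ ξ → ξ' = ξ) → ∀ η' : Y, η' ⤳ f ξ → η' = f ξ) :
    UniversallyOpen f := by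
  wlog hYaff : ∃ R, Y = Spec R generalizing X Y with H
  · rw [IsZariskiLocalAtTarget.iff_of_openCover (P := @UniversallyOpen) Y.affineCover]
    intro i
    dsimp only [Scheme.Cover.pullbackHom]
    haveI : IsReduced (pullback f (Y.affineCover.f i)) :=
      isReduced_of_isOpenImmersion (pullback.fst f (Y.affineCover.f i))
    haveI : PreirreducibleSpace ↥(pullback f (Y.affineCover.f i) : Scheme.{u}) :=
      (pullback.fst f (Y.affineCover.f i)).isOpenEmbedding.preirreducibleSpace
    haveI : PreirreducibleSpace (Y.affineCover.X i) :=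
      (Y.affineCover.f i).isOpenEmbedding.preirreducibleSpace
    refine H (pullback.snd f (Y.affineCover.f i)) ?_ ?_ ⟨_, rfl⟩
    · intro y'
      let e : Y.presheaf.stalk ((Y.affineCover.f i) y') ≃+* (Y.affineCover.X i).presheaf.stalk y' :=
        (asIso ((Y.affineCover.f i).stalkMap y')).commRingCatIsoToRingEquiv
      exact SmoothUnibranch.isGeomUnibranch_of_ringEquiv e.symm (hY _)
    · intro ξ hξ η' h
      have h1 : ∀ x₀ : X, x₀ ⤳ (pullback.fst f (Y.affineCover.f i)) ξ →
          x₀ = (pullback.fst f (Y.affineCover.f i)) ξ :=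
        QFUnivOpen.max_of_isOpenEmbedding _ (pullback.fst f (Y.affineCover.f i)).isOpenEmbedding ξ hξ
      have h2 := hmax _ h1 ((Y.affineCover.f i) η')
      have hcond : f ((pullback.fst f (Y.affineCover.f i)) ξ) =
          (Y.affineCover.f i) ((pullback.snd f (Y.affineCover.f i)) ξ) := by
        rw [← Scheme.Hom.comp_apply, ← Scheme.Hom.comp_apply, pullback.condition]
      rw [hcond] at h2
      exact (Y.affineCover.f i).isOpenEmbedding.injective
        (h2 (h.map (Y.affineCover.f i).continuous))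
  obtain ⟨R, rfl⟩ := hYaff
  wlog hXaff : ∃ S, X = Spec S generalizing X with H
  · rw [IsZariskiLocalAtSource.iff_of_openCover (P := @UniversallyOpen) X.affineCover]
    intro i
    haveI : IsReduced (X.affineCover.X i) := isReduced_of_isOpenImmersion (X.affineCover.f i)
    haveI : PreirreducibleSpace (X.affineCover.X i) :=
      (X.affineCover.f i).isOpenEmbedding.preirreducibleSpace
    refine H (X.affineCover.f i ≫ f) ?_ ⟨_, rfl⟩
    intro ξ hξ η' h
    have h1 : ∀ x₀ : X, x₀ ⤳ (X.affineCover.f i) ξ → x₀ = (X.affineCover.f i) ξ :=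
      QFUnivOpen.max_of_isOpenEmbedding _ (X.affineCover.f i).isOpenEmbedding ξ hξ
    rw [Scheme.Hom.comp_apply] at h ⊢
    exact hmax _ h1 η' h
  obtain ⟨S, rfl⟩ := hXaff
  obtain ⟨φ, rfl⟩ := Spec.map_surjective f
  exact universallyOpen_SpecMap φ hY hmax

/-- Version with the target replaced by an irreducible open containing the image. -/
theorem universallyOpen_of_range_subset {X Y : Scheme.{u}} (f : X ⟶ Y) [LocallyQuasiFinite f]
    [LocallyOfFiniteType f] [IsReduced X] [PreirreducibleSpace X]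
    (hY : ∀ y : Y, CAlg2.IsGeomUnibranch (Y.presheaf.stalk y))
    (Y₀ : Y.Opens) (hirr : IsPreirreducible (Y₀ : Set Y)) (hrange : Set.range f.base ⊆ Y₀)
    (hmax : ∀ ξ : X, (∀ ξ' : X, ξ' ⤳ ξ → ξ' = ξ) → ∀ η' : Y, η' ⤳ f ξ → η' = f ξ) :
    UniversallyOpen f := by
  have hr : Set.range f.base ⊆ Set.range Y₀.ι.base := by
    rw [Scheme.Opens.range_ι]; exact hrange
  let f₀ : X ⟶ (Y₀ : Scheme.{u}) := IsOpenImmersion.lift Y₀.ι f hr
  have hf₀ : f₀ ≫ Y₀.ι = f := IsOpenImmersion.lift_fac _ _ _
  haveI : LocallyQuasiFinite (f₀ ≫ Y₀.ι) := by rw [hf₀]; infer_instance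
  haveI : LocallyOfFiniteType (f₀ ≫ Y₀.ι) := by rw [hf₀]; infer_instance
  haveI : LocallyQuasiFinite f₀ := LocallyQuasiFinite.of_comp f₀ Y₀.ι
  haveI : LocallyOfFiniteType f₀ := locallyOfFiniteType_of_comp f₀ Y₀.ι
  haveI : PreirreducibleSpace (Y₀ : Scheme.{u}) := Subtype.preirreducibleSpace hirr
  haveI : UniversallyOpen f₀ := by
    refine universallyOpen_of_dominant f₀ ?_ ?_
    · intro y'
      let e : Y.presheaf.stalk (Y₀.ι y') ≃+* (Y₀ : Scheme.{u}).presheaf.stalk y' :=
        (asIso (Y₀.ι.stalkMap y')).commRingCatIsoToRingEquiv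
      exact SmoothUnibranch.isGeomUnibranch_of_ringEquiv e.symm (hY _)
    · intro ξ hξ η' h
      have h2 := hmax ξ hξ (Y₀.ι η')
      have hcond : f ξ = Y₀.ι (f₀ ξ) := by
        rw [← Scheme.Hom.comp_apply, hf₀]
      rw [hcond] at h2
      exact Y₀.ι.isOpenEmbedding.injective (h2 (h.map Y₀.ι.continuous))
  rw [← hf₀]
  infer_instance

end Main

end Groth.Agent.Lib.Helper8.QFUnivOpenGenSch
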