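/-
Helper8 library: Chevalley's criterion for universal openness over a geometrically unibranch base with
finitely many irreducible components, without noetherian hypotheses (morphisms locally of finite type).
-/
import Mathlib
import Groth.Prelude
import Groth.Agent.Lib.Helper8.QFUnivOpenGenSch
import Groth.Agent.Lib.Helper8.SmoothUnibranchSch
import Groth.Agent.Lib.Helper8.ChevalleyFibre
import Groth.Agent.Lib.Helper8.QFUnivOpenAt
import Groth.Agent.Lib.Helper12.QFAffine
import Groth.Agent.S4926
import Groth.Agent.Lib.Helper7.RedLib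

set_option autoImplicit false
universe u
open AlgebraicGeometry CategoryTheory CategoryTheory.Limits

namespace Groth.Agent.Lib.Helper8.ChevalleyGen

open Groth.Agent.Lib.Helper8

section Components

/-- Through a unibranch point passes exactly one irreducible component. -/
theorem eq_of_mem_of_isUnibranch {S : Scheme.{u}} (s : S)
    (hs : CAlg2.IsUnibranch (S.presheaf.stalk s)) {Z₁ Z₂ : Set S}
    (h₁ : Z₁ ∈ irreducibleComponents (S : Type u)) (h₂ : Z₂ ∈ irreducibleComponents (S : Type u))
    (hs₁ : s ∈ Z₁) (hs₂ : s ∈ Z₂) : Z₁ = Z₂ := by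
  haveI : (nilradical (S.presheaf.stalk s)).IsPrime :=
    (Ideal.Quotient.isDomain_iff_prime _).mp hs.1
  let ζ : Spec (S.presheaf.stalk s) :=
    (⟨nilradical (S.presheaf.stalk s), inferInstance⟩ : PrimeSpectrum (S.presheaf.stalk s))
  have key : ∀ Z ∈ irreducibleComponents (S : Type u), s ∈ Z →
      Z = closure {S.fromSpecStalk s ζ} := by
    intro Z hZ hsZ
    obtain ⟨η, hη⟩ := QuasiSober.sober hZ.1 (isClosed_of_mem_irreducibleComponents Z hZ)
    have hηs : η ⤳ s := by rw [specializes_iff_mem_closure, hη.def]; exact hsZ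
    obtain ⟨q, hq⟩ : η ∈ Set.range (S.fromSpecStalk s) := by
      rw [Scheme.range_fromSpecStalk]; exact hηs
    have hζq : ζ ⤳ q :=
      (PrimeSpectrum.le_iff_specializes (R := S.presheaf.stalk s) ζ q).mp
        (nilradical_le_prime (q : PrimeSpectrum (S.presheaf.stalk s)).asIdeal)
    have hzη : S.fromSpecStalk s ζ ⤳ η := hq ▸ hζq.map (S.fromSpecStalk s).continuous
    have hsub : Z ⊆ closure {S.fromSpecStalk s ζ} := by
      rw [← hη.def]; exact specializes_iff_closure_subset.mp hzη
    exact Set.Subset.antisymm hsub (hZ.2 isIrreducible_singleton.closure hsub)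
  rw [key Z₁ h₁ hs₁, key Z₂ h₂ hs₂]

/-- If all local rings are unibranch and there are finitely many irreducible components, each
irreducible component is open. -/
theorem isOpen_of_mem_irreducibleComponents {S : Scheme.{u}}
    (hS : ∀ s : S, CAlg2.IsGeomUnibranch (S.presheaf.stalk s))
    (hfin : (irreducibleComponents (S : Type u)).Finite) (Z : Set S)
    (hZ : Z ∈ irreducibleComponents (S : Type u)) : IsOpen Z := by
  have hZeq : Z = (⋃₀ (irreducibleComponents (S : Type u) \ {Z}))ᶜ := by
    ext s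
    constructor
    · rintro hsZ ⟨Z', ⟨hZ', hne⟩, hsZ'⟩
      exact hne (eq_of_mem_of_isUnibranch s (hS s).1 hZ' hZ hsZ' hsZ)
    · intro hs
      by_contra hsZ
      apply hs
      have h1 : s ∈ ⋃₀ irreducibleComponents (S : Type u) := by
        rw [sUnion_irreducibleComponents]; trivial
      obtain ⟨Z', hZ', hsZ'⟩ := h1
      exact ⟨Z', ⟨hZ', fun h => hsZ (h ▸ hsZ')⟩, hsZ'⟩
  rw [hZeq]
  rw [isOpen_compl_iff, Set.sUnion_eq_biUnion]
  exact (hfin.subset Set.diff_subset).isClosed_biUnion
    (fun t ht => isClosed_of_mem_irreducibleComponents t ht.1)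

end Components

section Main

/-- Key step: for a reduced preirreducible source, equidimensionality at a point implies universal
openness at that point (base with geometrically unibranch local rings and open components). -/
theorem isUnivOpenAt_of_isEquidimAt_integral {W S : Scheme.{u}} (h : W ⟶ S) [LocallyOfFiniteType h]
    [IsReduced W] [PreirreducibleSpace W]
    (hS : ∀ s : S, CAlg2.IsGeomUnibranch (S.presheaf.stalk s))
    (hopen : ∀ Z ∈ irreducibleComponents (S : Type u), IsOpen Z)
    (w : W) (hE : EGA43.IsEquidimAt h w) : EGA43.IsUnivOpenAt h w := by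
  obtain ⟨e, U, g, hwU, hg, hqf, hcomp⟩ :=
    Groth.Agent.Lib.Helper12.QFAffine.exists_quasiFinite_of_isEquidimAt h w hE
  haveI := hqf
  haveI : PreirreducibleSpace ↥(U : Scheme.{u}) := U.ι.isOpenEmbedding.preirreducibleSpace
  haveI : IsReduced (U : Scheme.{u}) := isReduced_of_isOpenImmersion U.ι
  haveI : Smooth (𝔸(ULift.{u} (Fin e); S) ↘ S) :=
    SmoothUnibranchSch.smooth_affineSpace_over _ S
  haveI : LocallyOfFiniteType (g ≫ (𝔸(ULift.{u} (Fin e); S) ↘ S)) := by
    rw [hg]; infer_instance
  haveI : LocallyOfFiniteType g :=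
    locallyOfFiniteType_of_comp g (𝔸(ULift.{u} (Fin e); S) ↘ S)
  have hP : ∀ a : 𝔸(ULift.{u} (Fin e); S),
      CAlg2.IsGeomUnibranch (𝔸(ULift.{u} (Fin e); S).presheaf.stalk a) :=
    fun a => SmoothUnibranchSch.stalk_isGeomUnibranch_of_smooth
      (𝔸(ULift.{u} (Fin e); S) ↘ S) a (hS _)
  -- an irreducible open of the base containing the image
  haveI : Nonempty ↥(U : Scheme.{u}) := ⟨⟨w, hwU⟩⟩
  haveI : IrreducibleSpace ↥(U : Scheme.{u}) := ⟨‹_›⟩
  have hTirr : IsIrreducible (Set.range (g ≫ (𝔸(ULift.{u} (Fin e); S) ↘ S)).base) := by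
    rw [← Set.image_univ]
    exact (IrreducibleSpace.isIrreducible_univ _).image _
      (g ≫ (𝔸(ULift.{u} (Fin e); S) ↘ S)).continuous.continuousOn
  obtain ⟨S₁, hS₁pre, hTS₁, hS₁max⟩ := exists_preirreducible _ hTirr.isPreirreducible
  have hS₁ne : S₁.Nonempty := hTirr.nonempty.mono hTS₁
  have hS₁comp : S₁ ∈ irreducibleComponents (S : Type u) :=
    ⟨⟨hS₁ne, hS₁pre⟩, fun b hb hle => (hS₁max b hb.isPreirreducible hle).le⟩
  have hS₁open : IsOpen S₁ := hopen S₁ hS₁comp
  let P₀ : (𝔸(ULift.{u} (Fin e); S)).Opens :=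
    ⟨(𝔸(ULift.{u} (Fin e); S) ↘ S).base ⁻¹' S₁,
      hS₁open.preimage (𝔸(ULift.{u} (Fin e); S) ↘ S).continuous⟩
  have hP₀irr : IsPreirreducible (P₀ : Set 𝔸(ULift.{u} (Fin e); S)) :=
    ((𝔸(ULift.{u} (Fin e); S) ↘ S).isIrreducible_preimage
      (AffineSpace.isOpenMap_over S) hS₁comp.1).isPreirreducible
  have hrange : Set.range g.base ⊆ P₀ := by
    rintro _ ⟨u₁, rfl⟩
    show (𝔸(ULift.{u} (Fin e); S) ↘ S).base (g.base u₁) ∈ S₁
    apply hTS₁
    exact ⟨u₁, Scheme.Hom.comp_apply _ _ _⟩
  haveI : UniversallyOpen g := by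
    refine QFUnivOpenGenSch.universallyOpen_of_range_subset g hP P₀ hP₀irr hrange ?_
    intro ξ hξ η' hη'
    have hZ := QFUnivOpen.closure_singleton_mem_irreducibleComponents ξ hξ
    have hW := hcomp _ hZ
    have hgen : IsGenericPoint (g ξ) (closure (g.base '' closure {ξ})) := by
      rw [isGenericPoint_def, closure_image_closure g.continuous, Set.image_singleton]
    exact QFUnivOpen.eq_of_specializes_genericPoint hW hgen η' hη'
  haveI : UniversallyOpen (U.ι ≫ h) := by
    rw [← hg]; infer_instance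
  have h1 : EGA43.IsUnivOpenAt (U.ι ≫ h) ⟨w, hwU⟩ :=
    QFUnivOpenAt.isUnivOpenAt_of_universallyOpen (U.ι ≫ h) _
  exact Groth.Agent.S4926.result U.ι h ⟨w, hwU⟩ h1

/-- **Chevalley's criterion (families-of-cycles form).** -/
theorem universallyOpen_of_conditionT {X S : Scheme.{u}}
    (hS : ∀ s : S, CAlg2.IsGeomUnibranch (S.presheaf.stalk s))
    (hfin : (irreducibleComponents (S : Type u)).Finite)
    (f : X ⟶ S) [LocallyOfFiniteType f]
    (hT : ∀ x : X, ∃ W : TopologicalSpace.Closeds X,
      (W : Set X) ∈ irreducibleComponents (X : Type u) ∧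
      ∃ w : ↥((Scheme.IdealSheafData.vanishingIdeal W).subscheme),
        (Scheme.IdealSheafData.vanishingIdeal W).subschemeι.base w = x ∧
        EGA43.IsEquidimAt ((Scheme.IdealSheafData.vanishingIdeal W).subschemeι ≫ f) w) :
    UniversallyOpen f := by
  apply ChevalleyFibre.universallyOpen_of_forall_isUnivOpenAt
  intro x
  obtain ⟨W, hW, w, hwx, hE⟩ := hT x
  rw [← hwx]
  apply Groth.Agent.S4926.result
  haveI : IsReduced (Scheme.IdealSheafData.vanishingIdeal W).subscheme :=
    Groth.Agent.Lib.Helper7.isReduced_vanishingIdeal_subscheme W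
  haveI : PreirreducibleSpace ↥((Scheme.IdealSheafData.vanishingIdeal W).subscheme) := by
    have hemb := (Scheme.IdealSheafData.vanishingIdeal W).subschemeι.isEmbedding
    have hr : Set.range (Scheme.IdealSheafData.vanishingIdeal W).subschemeι = (W : Set X) := by
      rw [Scheme.IdealSheafData.range_subschemeι]
      exact Scheme.IdealSheafData.coe_support_vanishingIdeal _
    let e : ↥((Scheme.IdealSheafData.vanishingIdeal W).subscheme) ≃ₜ ↥(W : Set X) :=
      hemb.toHomeomorph.trans (Homeomorph.setCongr hr)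
    haveI : IrreducibleSpace ↥(W : Set X) := Subtype.irreducibleSpace hW.1
    exact (e.irreducibleSpace_iff.mpr inferInstance).toPreirreducibleSpace
  exact isUnivOpenAt_of_isEquidimAt_integral _ hS
    (isOpen_of_mem_irreducibleComponents hS hfin) w hE

end Main

end Groth.Agent.Lib.Helper8.ChevalleyGen
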