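/-
Helper8 library: Chevalley's criterion for irreducible source and base, no noetherian hypotheses
(EGA IV 14.4.4 in the form of S2568).
-/
import Mathlib
import Groth.Prelude
import Groth.Agent.Lib.Helper8.ChevalleyGen
import Groth.Agent.Lib.Helper12.FibreDimsConstr
import Groth.Agent.Lib.Helper12.EquidimOpen

set_option autoImplicit false
universe u
open AlgebraicGeometry CategoryTheory CategoryTheory.Limits

namespace Groth.Agent.Lib.Helper8.ChevalleyGen2

open Groth.Agent.Lib.Helper8
open Groth.Agent.Lib.Helper12 Groth.Agent.Lib.Helper12.SchemeDimFT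
open Groth.Agent.Lib.Helper12.SchemeDimIneq

theorem universallyOpen_of_fibreDim_const {X Y : Scheme.{u}} [IrreducibleSpace X] [IrreducibleSpace Y]
    (hY : ∀ y : Y, CAlg2.IsGeomUnibranch (Y.presheaf.stalk y)) (f : X ⟶ Y) [LocallyOfFiniteType f]
    [IsDominant f]
    (h : ∀ x : X, FlatMor.fibreDimAt f x =
      topologicalKrullDim ↥(f.fiber (f.base (genericPoint X)))) :
    UniversallyOpen f := by
  apply ChevalleyFibre.universallyOpen_of_forall_isUnivOpenAt
  intro x
  -- the reduced structure
  let W : TopologicalSpace.Closeds X := ⊤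
  let ι := (Scheme.IdealSheafData.vanishingIdeal W).subschemeι
  have hemb := ι.isEmbedding
  have hr : Set.range ι = (Set.univ : Set X) := by
    rw [Scheme.IdealSheafData.range_subschemeι]
    exact Scheme.IdealSheafData.coe_support_vanishingIdeal _
  have hsurj : Function.Surjective ι := Set.range_eq_univ.mp hr
  haveI : IsReduced (Scheme.IdealSheafData.vanishingIdeal W).subscheme :=
    Groth.Agent.Lib.Helper7.isReduced_vanishingIdeal_subscheme W
  haveI : PreirreducibleSpace ↥((Scheme.IdealSheafData.vanishingIdeal W).subscheme) := by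
    let e : ↥((Scheme.IdealSheafData.vanishingIdeal W).subscheme) ≃ₜ X :=
      hemb.toHomeomorphOfSurjective hsurj
    exact (e.irreducibleSpace_iff.mpr inferInstance).toPreirreducibleSpace
  obtain ⟨w, hwx⟩ := hsurj x
  rw [← hwx]
  apply Groth.Agent.S4926.result
  have hopen : ∀ Z ∈ irreducibleComponents (Y : Type u), IsOpen Z := by
    intro Z hZ
    rw [irreducibleComponents_eq_singleton, Set.mem_singleton_iff] at hZ
    rw [hZ]; exact isOpen_univ
  refine ChevalleyGen.isUnivOpenAt_of_isEquidimAt_integral _ hY hopen w ?_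
  -- equidimensionality
  have hηmax : ∀ t : X, t ⤳ genericPoint X → t = genericPoint X := fun t ht =>
    (ht.antisymm (genericPoint_specializes t)).eq
  have hgenY : ∀ y : Y, f.base (genericPoint X) ⤳ y := by
    intro y
    have h1 : closure {f.base (genericPoint X)} = Set.univ := by
      have h2 : closure (f.base '' closure {genericPoint X}) = closure {f.base (genericPoint X)} := by
        rw [closure_image_closure f.continuous, Set.image_singleton]
      rw [← h2, (genericPoint_spec (↥X : Type u)).def, Set.image_univ]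
      exact f.denseRange.closure_eq
    rw [specializes_iff_mem_closure, h1]; trivial
  have hηfm : ∀ z' : X, f z' = f (genericPoint X) → z' ⤳ genericPoint X → z' = genericPoint X :=
    fun z' _ hz' => hηmax z' hz'
  obtain ⟨e, he⟩ : ∃ e : ℕ, trn f (genericPoint X) = (e : ℕ∞) :=
    ⟨(trn f (genericPoint X)).toNat, (ENat.coe_toNat (trn_ne_top f _)).symm⟩
  have hD : topologicalKrullDim ↥(f.fiber (f.base (genericPoint X))) = ((e : ℕ∞) : WithBot ℕ∞) := by
    rw [← h (genericPoint X), FibreDimConstr.fibreDimAt_eq_trn_of_max f _ hηfm, he]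
  rw [EquidimOpen.isEquidimAt_iff_pointwise']
  refine ⟨e, ⊤, trivial, ?_, ?_⟩
  · intro ξ _ hξ
    have h2 : ∀ t : X, t ⤳ ι ξ → t = ι ξ := by
      intro t ht
      obtain ⟨t', rfl⟩ := hsurj t
      rw [hξ t' (hemb.toIsInducing.specializes_iff.mp ht)]
    have h3 : ι ξ = genericPoint X :=
      (h2 _ (genericPoint_specializes _)).symm
    constructor
    · intro y hy
      have hfy : (ι ≫ f) ξ = f.base (genericPoint X) := by
        rw [Scheme.Hom.comp_apply, h3]
      rw [hfy] at hy ⊢
      exact (hy.antisymm (hgenY y)).eq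
    · have hfy : (ι ≫ f) ξ = f.base (genericPoint X) := by
        rw [Scheme.Hom.comp_apply, h3]
      rw [hfy]; exact hgenY _
  · intro z _ hz
    have h1 : trn (ι ≫ f) z = trn f (ι z) := ClosedSub.trn_comp_preimmersion ι f z
    have hmaxz : ∀ z' : X, f z' = f (ι z) → z' ⤳ ι z → z' = ι z := by
      intro t ht hsp
      obtain ⟨t', rfl⟩ := hsurj t
      have := hz t' (by rw [Scheme.Hom.comp_apply, Scheme.Hom.comp_apply]; exact ht)
        (hemb.toIsInducing.specializes_iff.mp hsp)
      rw [this]
    have h2 := FibreDimConstr.fibreDimAt_eq_trn_of_max f (ι z) hmaxz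
    rw [h (ι z), hD] at h2
    rw [h1]
    have h3 : ((e : ℕ∞) : WithBot ℕ∞) = ((trn f (ι z) : ℕ∞) : WithBot ℕ∞) := h2
    exact (WithBot.coe_injective h3).symm

end Groth.Agent.Lib.Helper8.ChevalleyGen2
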