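import Mathlib
import Groth.Prelude
import Groth.Agent.Lib.Helper8.ChevalleyFibre
import Groth.Agent.Lib.Helper12.QuasiSection

/-!
# Quasi-sections and universal openness along a fibre (EGA IV 14.5.9)

* `exists_isEquidimAt_clSub_of_component`: an irreducible component satisfying condition b) of
  EGA IV 14.4.1 is equidimensional over the base at the given point.
* `exists_quasiSection_of_component`: existence of quasi-sections through points closed in
  their fibre.
* `isOpenAt_of_quasiSections`: if there are quasi-sections through all the closed points of a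
  fibre over a geometrically unibranch point, then `f` is open at all points of this fibre.
-/

set_option autoImplicit false
universe u v
open Polynomial Cardinal AlgebraicGeometry CategoryTheory

namespace Groth.Agent.Lib.Helper8.ChevalleyQS

open Groth.Agent.Lib.Helper8 Groth.Agent.Lib.Helper8.ChevalleyPt
open Groth.Agent.Lib.Helper12.OrdTools Groth.Agent.Lib.Helper12.DimIneq
open Groth.Agent.Lib.Helper12 Groth.Agent.Lib.Helper12.SchemeDimFT
open Groth.Agent.Lib.Helper12.ChevalleyCor Groth.Agent.Lib.Helper12.SchemeDimIneq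
open Groth.Agent.Lib.Helper14 Order Groth.Agent.Lib.Helper12.Equidim
open Groth.Agent.Lib.Helper12.ClosedSub Groth.Agent.Lib.Helper12.JacDim
open Groth.Agent.Lib.Helper12.FibreMax Groth.Agent.Lib.Helper12.EquidimSub
open Groth.Agent.Lib.Helper12.EquidimComp

variable {X Y : Scheme.{u}} (f : X ⟶ Y) [LocallyOfFiniteType f]

/-- Transport of the local dimension of a fibre along an equality of base points. -/
theorem localDim_fibre_congr (Z : Set X) (z : X) (hzZ : z ∈ Z) (y : Y) (hzy : f.base z = y) :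
    FlatMor.localDim ↥(Z ∩ f.base ⁻¹' {y}) ⟨z, ⟨hzZ, hzy⟩⟩ =
      FlatMor.localDim ↥(Z ∩ f.base ⁻¹' {f.base z}) ⟨z, ⟨hzZ, rfl⟩⟩ := by
  subst hzy; rfl

/-- An irreducible component through `x` satisfying condition b) of EGA IV 14.4.1 is, with its
reduced structure, equidimensional over the base at `x`. -/
theorem exists_isEquidimAt_clSub_of_component (x : X)
    (Z : Set X) (hZ : Z ∈ irreducibleComponents (X : Type u)) (hx : x ∈ Z)
    (Y₀ : Set Y) (hY₀ : Y₀ ∈ irreducibleComponents (Y : Type u))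
    (hcl : closure (f.base '' Z) = Y₀)
    (hdim : ∀ η : Y, closure ({η} : Set Y) = Y₀ →
      FlatMor.localDim ↥(Z ∩ f.base ⁻¹' {f.base x}) ⟨x, ⟨hx, rfl⟩⟩ =
        topologicalKrullDim ↥(Z ∩ f.base ⁻¹' {η})) :
    ∃ (ξ : X) (w : clSub X ξ), clSubι X ξ w = x ∧ EGA43.IsEquidimAt (clSubι X ξ ≫ f) w := by
  obtain ⟨ξ, hξmax, rfl⟩ := (mem_irreducibleComponents_iff Z).mp hZ
  have hξx : ξ ⤳ x := specializes_iff_mem_closure.mpr hx
  have hcl' : closure (f.base '' closure ({ξ} : Set X)) = closure {f ξ} :=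
    closure_image_closure_singleton' f ξ
  have hgen : IsMaxPt (f ξ) := by
    apply (closure_singleton_mem_irreducibleComponents_iff (f ξ)).mp
    rw [← hcl', hcl]; exact hY₀
  obtain ⟨t, ht⟩ := exists_trn_eq f ξ
  obtain ⟨w, hw⟩ := exists_clSubι_eq X ξ x hξx
  have hE := hdim (f ξ) (hcl'.symm.trans hcl)
  have h1 := localDim_inter_fibre_eq (clSubι X ξ) f (clSubι X ξ).isEmbedding (closure {ξ})
    (range_clSubι X ξ) w x hw hx
  have h2 := dim_generic_fibre_closure f ξ
  have hwle : FlatMor.fibreDimAt (clSubι X ξ ≫ f) w ≤ t := by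
    rw [← h1, hE, h2, ht]
    exact le_refl _
  exact ⟨ξ, w, hw, isEquidimAt_clSub' f ξ t ht hgen w hwle⟩

/-- Existence of a quasi-section through a point closed in its fibre lying on a component
satisfying condition b) of EGA IV 14.4.1. -/
theorem exists_quasiSection_of_component [IrreducibleSpace Y] [IsLocallyNoetherian Y] (x : X)
    (hxcl : ∀ x' : X, f.base x' = f.base x → x ⤳ x' → x' = x)
    (Z : Set X) (hZ : Z ∈ irreducibleComponents (X : Type u)) (hx : x ∈ Z)
    (Y₀ : Set Y) (hY₀ : Y₀ ∈ irreducibleComponents (Y : Type u))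
    (hcl : closure (f.base '' Z) = Y₀)
    (hdim : ∀ η : Y, closure ({η} : Set Y) = Y₀ →
      FlatMor.localDim ↥(Z ∩ f.base ⁻¹' {f.base x}) ⟨x, ⟨hx, rfl⟩⟩ =
        topologicalKrullDim ↥(Z ∩ f.base ⁻¹' {η})) :
    ∃ (T : Scheme.{u}) (i : T ⟶ X), IsImmersion i ∧ IrreducibleSpace ↥T ∧ IsReduced T ∧
      x ∈ Set.range i.base ∧ LocallyOfFiniteType (i ≫ f) ∧ LocallyQuasiFinite (i ≫ f) ∧
      QuasiCompact (i ≫ f) ∧ IsDominant (i ≫ f) := by
  obtain ⟨ξ, w, hw, heq⟩ := exists_isEquidimAt_clSub_of_component f x Z hZ hx Y₀ hY₀ hcl hdim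
  have hfw : (clSubι X ξ ≫ f).base w = f.base x := by
    rw [Scheme.Hom.comp_apply, hw]
  have hclw : ∀ w' : clSub X ξ, (clSubι X ξ ≫ f) w' = (clSubι X ξ ≫ f) w → w ⤳ w' → w' = w := by
    intro w' hw' hsp
    have h1 : f.base (clSubι X ξ w') = f.base x := by
      have : (clSubι X ξ ≫ f).base w' = (clSubι X ξ ≫ f).base w := hw'
      rw [hfw, Scheme.Hom.comp_apply] at this
      exact this
    have h2 : x ⤳ clSubι X ξ w' := by
      have := hsp.map (clSubι X ξ).continuous
      rwa [hw] at this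
    have h3 := hxcl _ h1 h2
    exact (clSubι X ξ).isEmbedding.injective (h3.trans hw.symm)
  obtain ⟨e, he, -⟩ := exists_e_of_isEquidimAt (clSubι X ξ ≫ f) w heq
  obtain ⟨T, i', hi1, hi2, hi3, ⟨t, ht⟩, hi5, hi6, hi7, hi8⟩ :=
    Groth.Agent.Lib.Helper12.QuasiSection.quasiSection_aux e (clSub X ξ) (clSubι X ξ ≫ f) w heq he
      hclw
  have e1 : (i' ≫ clSubι X ξ) ≫ f = i' ≫ clSubι X ξ ≫ f := Category.assoc _ _ _
  refine ⟨T, i' ≫ clSubι X ξ, inferInstance, hi2, hi3, ⟨t, ?_⟩, ?_, ?_, ?_, ?_⟩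
  · rw [Scheme.Hom.comp_apply, ht, hw]
  · rw [e1]; exact hi5
  · rw [e1]; exact hi6
  · rw [e1]; exact hi7
  · rw [e1]; exact hi8

/-- If there are quasi-sections through all the points closed in the fibre of `f` through `x₀`,
and `f x₀` is geometrically unibranch, then `f` is open at `x₀`. -/
theorem isOpenAt_of_quasiSections [IrreducibleSpace Y] [IsLocallyNoetherian Y] (x₀ : X)
    (hy : CAlg2.IsGeomUnibranch (Y.presheaf.stalk (f.base x₀)))
    (hd : ∀ x : X, f.base x = f.base x₀ →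
      (∀ x' : X, f.base x' = f.base x₀ → x ⤳ x' → x' = x) →
      ∃ (T : Scheme.{u}) (i : T ⟶ X), IsImmersion i ∧ IrreducibleSpace ↥T ∧ IsReduced T ∧
        x ∈ Set.range i.base ∧ LocallyOfFiniteType (i ≫ f) ∧ LocallyQuasiFinite (i ≫ f) ∧
        QuasiCompact (i ≫ f) ∧ IsDominant (i ≫ f)) :
    EGA43.IsOpenAt f.base x₀ := by
  intro N hN
  obtain ⟨O, hON, hO, hx₀O⟩ := mem_nhds_iff.mp hN
  have hOF : IsOpen ((f.fiberι (f.base x₀)).base ⁻¹' O) :=
    hO.preimage (f.fiberι (f.base x₀)).continuous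
  have hne : ((f.fiberι (f.base x₀)).base ⁻¹' O).Nonempty := by
    refine ⟨f.asFiber x₀, ?_⟩
    show (f.fiberι (f.base x₀)).base (f.asFiber x₀) ∈ O
    rw [f.fiberι_asFiber x₀]; exact hx₀O
  obtain ⟨w, hwO, hwcl⟩ := nonempty_inter_closedPoints hne hOF.isLocallyClosed
  have hwcl' : IsClosed ({w} : Set (f.fiber (f.base x₀))) := hwcl
  obtain ⟨x, hxdef⟩ : ∃ x : X, x = (f.fiberι (f.base x₀)).base w := ⟨_, rfl⟩
  have hxO : x ∈ O := by rw [hxdef]; exact hwO
  have hfx : f.base x = f.base x₀ := by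
    rw [hxdef]; exact apply_fiberι f (f.base x₀) w
  have hxcl : ∀ x' : X, f.base x' = f.base x₀ → x ⤳ x' → x' = x := by
    intro x' hx' hsp
    obtain ⟨w', rfl⟩ : x' ∈ Set.range (f.fiberι (f.base x₀)).base := by
      rw [Scheme.Hom.range_fiberι]; exact hx'
    rw [hxdef] at hsp ⊢
    have h1 : w ⤳ w' := (f.fiberι (f.base x₀)).isEmbedding.isInducing.specializes_iff.mp hsp
    have h2 : w' ∈ ({w} : Set (f.fiber (f.base x₀))) := h1.mem_closed hwcl' (Set.mem_singleton w)
    rw [Set.mem_singleton_iff.mp h2]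
  obtain ⟨T, i, hi1, hi2, hi3, ⟨t, ht⟩, hi5, hi6, hi7, hi8⟩ := hd x hfx hxcl
  haveI := hi1
  haveI := hi2
  haveI := hi5
  haveI := hi6
  haveI := hi8
  haveI : LocallyOfFinitePresentation (i ≫ f) := inferInstance
  have hft : (i ≫ f).base t = f.base x₀ := by
    rw [Scheme.Hom.comp_apply, ht, hfx]
  have hyt : CAlg2.IsGeomUnibranch (Y.presheaf.stalk ((i ≫ f).base t)) := by
    rw [hft]; exact hy
  have hgenT : (i ≫ f).base (genericPoint T) = genericPoint Y :=
    Groth.Agent.Lib.Helper12.ChevalleyCor.map_genericPoint (i ≫ f)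
  have hmaxT : ∀ ξ : T, (∀ ξ' : T, ξ' ⤳ ξ → ξ' = ξ) →
      ∀ η' : Y, η' ⤳ (i ≫ f) ξ → η' = (i ≫ f) ξ := by
    intro ξ hξ η' hη'
    have h1 : genericPoint T = ξ := hξ _ (genericPoint_specializes ξ)
    have h2 : (i ≫ f) ξ = genericPoint Y := by rw [← h1]; exact hgenT
    rw [h2] at hη' ⊢
    exact (hη'.antisymm (genericPoint_specializes η')).eq
  have h1 := QFUnivOpenAt.isUnivOpenAt_of_geomUnibranch (i ≫ f) t hyt hmaxT
  have h2 := isOpenAt_of_isUnivOpenAt (i ≫ f) t h1
  rw [coe_comp_base] at h2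
  have h3 := isOpenAt_of_comp_right i.base i.continuous f.base t h2
  rw [ht] at h3
  have h4 := h3 O (hO.mem_nhds hxO)
  rw [hfx] at h4
  exact Filter.mem_of_superset h4 (Set.image_mono hON)

/-- Chevalley's criterion at a point `z` over `y` for an irreducible base, in the form of
condition c) of EGA IV 14.5.9. -/
theorem isUnivOpenAt_of_dense_component [IrreducibleSpace Y] [IsLocallyNoetherian Y] (z : X)
    (y : Y) (hzy : f.base z = y) (hy : CAlg2.IsGeomUnibranch (Y.presheaf.stalk y))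
    (Z : Set X) (hZ : Z ∈ irreducibleComponents (X : Type u)) (hz : z ∈ Z)
    (hdense : Dense (f.base '' Z))
    (hdim : FlatMor.localDim ↥(Z ∩ f.base ⁻¹' {y}) ⟨z, ⟨hz, hzy⟩⟩ =
      topologicalKrullDim ↥(Z ∩ f.base ⁻¹' {genericPoint Y})) :
    EGA43.IsUnivOpenAt f z := by
  subst hzy
  have huniv : (Set.univ : Set Y) ∈ irreducibleComponents (Y : Type u) := by
    rw [irreducibleComponents_eq_singleton]; rfl
  refine isUnivOpenAt_of_component f z hy Z hZ hz Set.univ huniv hdense.closure_eq ?_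
  intro η hη
  have h1 : IsGenericPoint η (Set.univ : Set Y) := isGenericPoint_def.mpr hη
  have h2 : η = genericPoint Y := h1.eq (genericPoint_spec Y)
  rw [h2]; exact hdim

end Groth.Agent.Lib.Helper8.ChevalleyQS
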