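import Mathlib

/-!
# Helper8 library: going down through a quasi-finite map to an affine space over an integrally
closed domain (Zariski's main theorem + going down)

`exists_prime_of_quasiFiniteAt`: `A` an integrally closed domain, `C` a domain of finite type over
`A` of transcendence degree `n`, `v : ι → C` a family of at most `n` elements such that `C` is
quasi-finite over `A[T_i]` (via `T_i ↦ v i`) at the prime `𝔮`, and `v i₀ ∈ 𝔮`.  Then there is a
prime `𝔭 ≤ 𝔮` containing `v i₀` with `𝔭 ∩ A = 0`.
-/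

set_option autoImplicit false
universe u

namespace Groth.Agent.Lib.Helper8.CoreGD

theorem isIntegrallyClosed_mvPolynomial_fin (R : Type u) [CommRing R] [IsDomain R]
    [IsIntegrallyClosed R] : ∀ n : ℕ, IsIntegrallyClosed (MvPolynomial (Fin n) R)
  | 0 => IsIntegrallyClosed.of_equiv (MvPolynomial.isEmptyAlgEquiv R (Fin 0)).symm.toRingEquiv
  | n + 1 => by
    haveI := isIntegrallyClosed_mvPolynomial_fin R n
    exact IsIntegrallyClosed.of_equiv (MvPolynomial.finSuccEquiv R n).symm.toRingEquiv

theorem isIntegrallyClosed_mvPolynomial_finite (R : Type u) [CommRing R] [IsDomain R]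
    [IsIntegrallyClosed R] (ι : Type*) [Finite ι] : IsIntegrallyClosed (MvPolynomial ι R) := by
  haveI := isIntegrallyClosed_mvPolynomial_fin R (Nat.card ι)
  exact IsIntegrallyClosed.of_equiv
    (MvPolynomial.renameEquiv R (Finite.equivFin ι)).symm.toRingEquiv

/-- A family of at most `trdeg` elements over whose subalgebra everything is algebraic is
algebraically independent. -/
theorem algebraicIndependent_of_card_le {A C : Type u} [CommRing A] [IsDomain A] [CommRing C]
    [IsDomain C] [Algebra A C] (hinj : Function.Injective (algebraMap A C))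
    {ι : Type u} [Finite ι] (v : ι → C) (n : ℕ) (hn : Algebra.trdeg A C = n)
    (hcard : Nat.card ι ≤ n)
    [halg : Algebra.IsAlgebraic (Algebra.adjoin A (Set.range v)) C] :
    AlgebraicIndependent A v := by
  classical
  haveI := Fintype.ofFinite ι
  haveI : FaithfulSMul A C := (faithfulSMul_iff_algebraMap_injective A C).mpr hinj
  obtain ⟨u, -, hut, hu⟩ := exists_isTranscendenceBasis_between (R := A) (∅ : Set C)
    (Set.range v) (Set.empty_subset _)
    (algebraicIndependent_empty_type_iff.mpr hinj)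
  have hucard : Cardinal.mk u = n := hu.cardinalMk_eq_trdeg.trans hn
  have hrfin : (Set.range v).Finite := Set.finite_range v
  have hufin : u.Finite := hrfin.subset hut
  have h1 : u.ncard = n := by
    have : (u.ncard : Cardinal) = n := by
      rw [← hucard, Set.cast_ncard hufin]
    exact_mod_cast this
  have h2 : (Set.range v).ncard ≤ Nat.card ι := by
    rw [← Set.image_univ, ← Set.ncard_univ]
    exact Set.ncard_image_le Set.finite_univ
  have h3 : u.ncard ≤ (Set.range v).ncard := Set.ncard_le_ncard hut hrfin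
  have hueq : u = Set.range v := Set.eq_of_subset_of_ncard_le hut (by omega) hrfin
  have hvinj : Function.Injective v := by
    have h4 : (Set.range v).ncard = Nat.card ι := by omega
    rw [← Set.image_univ, ← Set.ncard_univ] at h4
    have := (Set.ncard_image_iff Set.finite_univ).mp h4
    exact Set.injOn_univ.mp this
  have h5 : AlgebraicIndependent A ((↑) : Set.range v → C) := hueq ▸ hu.1
  exact (algebraicIndependent_subtype_range hvinj).mp h5

/-- **Going down through a quasi-finite map to an affine space.** -/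
theorem exists_prime_of_quasiFiniteAt {A C : Type u} [CommRing A] [IsDomain A]
    [IsIntegrallyClosed A] [CommRing C] [IsDomain C] [Algebra A C] [Algebra.FiniteType A C]
    (hinj : Function.Injective (algebraMap A C)) (𝔮 : Ideal C) [𝔮.IsPrime]
    {ι : Type u} [Finite ι] (v : ι → C) (i₀ : ι) (hi₀ : v i₀ ∈ 𝔮)
    (n : ℕ) (hn : Algebra.trdeg A C = n) (hcard : Nat.card ι ≤ n)
    (hqf : letI : Algebra (MvPolynomial ι A) C := (MvPolynomial.aeval v).toRingHom.toAlgebra
      Algebra.QuasiFiniteAt (MvPolynomial ι A) 𝔮) :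
    ∃ 𝔭 : Ideal C, 𝔭.IsPrime ∧ 𝔭 ≤ 𝔮 ∧ v i₀ ∈ 𝔭 ∧ 𝔭.under A = ⊥ := by
  classical
  letI : Algebra (MvPolynomial ι A) C := (MvPolynomial.aeval v).toRingHom.toAlgebra
  haveI : IsScalarTower A (MvPolynomial ι A) C :=
    IsScalarTower.of_algebraMap_eq (fun a => ((MvPolynomial.aeval v).commutes a).symm)
  haveI : Algebra.FiniteType (MvPolynomial ι A) C :=
    Algebra.FiniteType.of_restrictScalars_finiteType A _ C
  have halgmap : ∀ p, algebraMap (MvPolynomial ι A) C p = MvPolynomial.aeval v p := fun p => rfl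
  haveI : Algebra.QuasiFiniteAt (MvPolynomial ι A) 𝔮 := hqf
  obtain ⟨r', hr𝔮, hbij⟩ := Algebra.ZariskisMainProperty.of_finiteType (R := MvPolynomial ι A) 𝔮
  have hr0 : r'.1 ≠ 0 := fun h => hr𝔮 (h ▸ zero_mem _)
  have hpow : ∀ x : C, ∃ m : ℕ, IsIntegral (MvPolynomial ι A) (r'.1 ^ m * x) := by
    intro x
    have h1 := Localization.awayMap_surjective_iff.mp hbij.2 x
    obtain ⟨b, m, hb⟩ := h1
    refine ⟨m, ?_⟩
    have : r'.1 ^ m * x = b.1 := hb.symm
    rw [this]
    exact b.2
  -- everything is algebraic over the subalgebra generated by `v`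
  haveI halg : Algebra.IsAlgebraic (Algebra.adjoin A (Set.range v)) C := by
    rw [← MvPolynomial.aeval_range]
    have hint : ∀ y : C, IsIntegral (MvPolynomial ι A) y →
        IsAlgebraic (MvPolynomial.aeval v : MvPolynomial ι A →ₐ[A] C).range y := by
      intro y hy
      have h1 : (algebraMap (MvPolynomial.aeval v : MvPolynomial ι A →ₐ[A] C).range
          C).IsIntegralElem y := by
        refine RingHom.IsIntegralElem.of_comp
          (f := (MvPolynomial.aeval v : MvPolynomial ι A →ₐ[A] C).rangeRestrict.toRingHom) ?_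
        exact hy
      exact IsIntegral.isAlgebraic h1
    refine ⟨fun x => ?_⟩
    obtain ⟨m, hm⟩ := hpow x
    have hrm : IsIntegral (MvPolynomial ι A) (r'.1 ^ m) := r'.2.pow m
    exact IsAlgebraic.of_mul (mem_nonZeroDivisors_of_ne_zero (pow_ne_zero m hr0))
      (hint _ hrm) (hint _ hm)
  have hvind : AlgebraicIndependent A v := algebraicIndependent_of_card_le hinj v n hn hcard
  have hφinj : Function.Injective (algebraMap (MvPolynomial ι A) C) :=
    algebraicIndependent_iff_injective_aeval.mp hvind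
  -- going down
  haveI : IsIntegrallyClosed (MvPolynomial ι A) := isIntegrallyClosed_mvPolynomial_finite A ι
  haveI : FaithfulSMul (MvPolynomial ι A) (integralClosure (MvPolynomial ι A) C) := by
    rw [faithfulSMul_iff_algebraMap_injective]
    intro a b hab
    apply hφinj
    exact congrArg Subtype.val hab
  let ρ : MvPolynomial ι A →ₐ[A] MvPolynomial ι A :=
    MvPolynomial.aeval (fun i => if i = i₀ then 0 else MvPolynomial.X i)
  have hρ : ∀ p : MvPolynomial ι A,
      Ideal.Quotient.mk 𝔮 (MvPolynomial.aeval v (ρ p)) =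
        Ideal.Quotient.mk 𝔮 (MvPolynomial.aeval v p) := by
    intro p
    have h1 : ((Ideal.Quotient.mkₐ A 𝔮).comp ((MvPolynomial.aeval v).comp ρ)) =
        (Ideal.Quotient.mkₐ A 𝔮).comp (MvPolynomial.aeval v) := by
      apply MvPolynomial.algHom_ext
      intro i
      simp only [AlgHom.comp_apply, ρ, MvPolynomial.aeval_X, Ideal.Quotient.mkₐ_eq_mk]
      by_cases hi : i = i₀
      · subst hi
        rw [if_pos rfl, map_zero, map_zero]
        exact (Ideal.Quotient.eq_zero_iff_mem.mpr hi₀).symm
      · rw [if_neg hi, MvPolynomial.aeval_X]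
    exact congrArg (fun f => f p) h1
  haveI h𝔶prime : (RingHom.ker ρ.toRingHom).IsPrime := RingHom.ker_isPrime _
  have h𝔶le : RingHom.ker ρ.toRingHom ≤
      (𝔮.under (integralClosure (MvPolynomial ι A) C)).under (MvPolynomial ι A) := by
    intro p hp
    rw [RingHom.mem_ker] at hp
    show MvPolynomial.aeval v p ∈ 𝔮
    rw [← Ideal.Quotient.eq_zero_iff_mem, ← hρ p]
    have : ρ p = 0 := hp
    rw [this, map_zero, map_zero]
  obtain ⟨𝔭₀, h𝔭₀le, h𝔭₀prime, h𝔭₀over⟩ := Ideal.exists_ideal_le_liesOver_of_le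
    (p := RingHom.ker ρ.toRingHom)
    (q := (𝔮.under (integralClosure (MvPolynomial ι A) C)).under (MvPolynomial ι A))
    (𝔮.under (integralClosure (MvPolynomial ι A) C)) h𝔶le
  haveI := h𝔭₀prime
  have hr𝔭₀ : r' ∉ 𝔭₀ := fun h => hr𝔮 (h𝔭₀le h)
  -- transfer to `C`
  let ψ : Localization.Away r' ≃+* Localization.Away r'.1 := RingEquiv.ofBijective _ hbij
  have hψ : ∀ x : integralClosure (MvPolynomial ι A) C,
      ψ (algebraMap _ (Localization.Away r') x) = algebraMap C (Localization.Away r'.1) x.1 := by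
    intro x
    show Localization.awayMap (integralClosure (MvPolynomial ι A) C).val.toRingHom r'
      (algebraMap _ _ x) = _
    simp only [Localization.awayMap, IsLocalization.Away.map]
    rw [IsLocalization.map_eq]
    rfl
  have hdisj : Disjoint (Submonoid.powers r' : Set (integralClosure (MvPolynomial ι A) C))
      (𝔭₀ : Set (integralClosure (MvPolynomial ι A) C)) :=
    (Ideal.disjoint_powers_iff_notMem _ (Ideal.IsPrime.isRadical h𝔭₀prime)).mpr hr𝔭₀
  haveI hP₁ : (𝔭₀.map (algebraMap _ (Localization.Away r'))).IsPrime :=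
    IsLocalization.isPrime_of_isPrime_disjoint (Submonoid.powers r') _ 𝔭₀ h𝔭₀prime hdisj
  have hP₁comap : (𝔭₀.map (algebraMap _ (Localization.Away r'))).comap
      (algebraMap _ (Localization.Away r')) = 𝔭₀ :=
    IsLocalization.under_map_of_isPrime_disjoint (Submonoid.powers r') _ h𝔭₀prime hdisj
  let 𝔭 : Ideal C := ((𝔭₀.map (algebraMap _ (Localization.Away r'))).comap
    (ψ.symm : Localization.Away r'.1 →+* Localization.Away r')).comap
      (algebraMap C (Localization.Away r'.1))
  haveI h𝔭prime : 𝔭.IsPrime := Ideal.comap_isPrime _ _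
  have h𝔭mem : ∀ x : integralClosure (MvPolynomial ι A) C, x.1 ∈ 𝔭 ↔ x ∈ 𝔭₀ := by
    intro x
    have h1 : x.1 ∈ 𝔭 ↔ ψ.symm (algebraMap C (Localization.Away r'.1) x.1) ∈
        𝔭₀.map (algebraMap _ (Localization.Away r')) := Iff.rfl
    rw [h1, ← hψ x, RingEquiv.symm_apply_apply, ← Ideal.mem_comap, hP₁comap]
  refine ⟨𝔭, h𝔭prime, ?_, ?_, ?_⟩
  · intro x hx
    obtain ⟨m, hm⟩ := hpow x
    have h1 : r'.1 ^ m * x ∈ 𝔭 := 𝔭.mul_mem_left _ hx
    have h2 : (⟨r'.1 ^ m * x, hm⟩ : integralClosure (MvPolynomial ι A) C) ∈ 𝔭₀ :=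
      (h𝔭mem ⟨_, hm⟩).mp h1
    have h3 : r'.1 ^ m * x ∈ 𝔮 := h𝔭₀le h2
    rcases Ideal.IsPrime.mem_or_mem inferInstance h3 with h4 | h4
    · exact absurd (Ideal.IsPrime.mem_of_pow_mem inferInstance m h4) hr𝔮
    · exact h4
  · have h1 : MvPolynomial.X i₀ ∈ RingHom.ker ρ.toRingHom := by
      rw [RingHom.mem_ker]
      show ρ (MvPolynomial.X i₀) = 0
      simp [ρ]
    have h2 : algebraMap (MvPolynomial ι A) (integralClosure (MvPolynomial ι A) C)
        (MvPolynomial.X i₀) ∈ 𝔭₀ := by
      rw [h𝔭₀over.over] at h1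
      exact h1
    have h3 := (h𝔭mem _).mpr h2
    have h4 : (algebraMap (MvPolynomial ι A) (integralClosure (MvPolynomial ι A) C)
        (MvPolynomial.X i₀)).1 = v i₀ := by
      show MvPolynomial.aeval v (MvPolynomial.X i₀) = v i₀
      rw [MvPolynomial.aeval_X]
    rwa [h4] at h3
  · rw [eq_bot_iff]
    intro a ha
    rw [Ideal.mem_bot]
    have h1 : algebraMap A C a ∈ 𝔭 := ha
    have h2 : (algebraMap (MvPolynomial ι A) (integralClosure (MvPolynomial ι A) C)
        (MvPolynomial.C a)).1 = algebraMap A C a := by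
      show MvPolynomial.aeval v (MvPolynomial.C a) = algebraMap A C a
      rw [MvPolynomial.aeval_C]
    rw [← h2] at h1
    have h3 := (h𝔭mem _).mp h1
    have h4 : MvPolynomial.C a ∈ RingHom.ker ρ.toRingHom := by
      rw [h𝔭₀over.over]
      exact h3
    rw [RingHom.mem_ker] at h4
    have h5 : ρ (MvPolynomial.C a) = MvPolynomial.C a := by
      show MvPolynomial.aeval _ (MvPolynomial.C a) = _
      rw [MvPolynomial.aeval_C]; rfl
    have h6 : (MvPolynomial.C a : MvPolynomial ι A) = 0 := by
      rw [← h5]; exact h4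
    exact MvPolynomial.C_injective ι A (h6.trans (MvPolynomial.C_0).symm)

end Groth.Agent.Lib.Helper8.CoreGD
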