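import Mathlib
import Groth.Agent.Lib.Helper12.DimIneq

/-!
# Helper8 library: quasi-finiteness at an isolated point of the fibre; systems of parameters with a
prescribed first element
-/

set_option autoImplicit false
universe u

namespace Groth.Agent.Lib.Helper8.CoreQF

open Groth.Agent.Lib.Helper12

/-- A prime of a finite type algebra which is comparable to no other prime of its fibre is
quasi-finite. -/
theorem quasiFiniteAt_of_forall_eq {R S : Type*} [CommRing R] [CommRing S] [Algebra R S]
    [Algebra.FiniteType R S] (q : Ideal S) [hq : q.IsPrime]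
    (h : ∀ r : Ideal S, r.IsPrime → r.under R = q.under R → (r ≤ q ∨ q ≤ r) → r = q) :
    Algebra.QuasiFiniteAt R q := by
  let q' : PrimeSpectrum S := ⟨q, hq⟩
  refine Algebra.QuasiFiniteAt.of_isOpen_singleton_fiber q' ?_
  let e := PrimeSpectrum.preimageHomeomorphFiber R S (q'.comap (algebraMap R S))
  haveI : IsNoetherianRing ((q'.comap (algebraMap R S)).asIdeal.Fiber S) :=
    Algebra.FiniteType.isNoetherianRing (q'.comap (algebraMap R S)).asIdeal.ResidueField _
  haveI : IsJacobsonRing ((q'.comap (algebraMap R S)).asIdeal.Fiber S) :=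
    isJacobsonRing_of_finiteType (A := (q'.comap (algebraMap R S)).asIdeal.ResidueField)
  have key : ∀ y : (PrimeSpectrum.comap (algebraMap R S)) ⁻¹' {q'.comap (algebraMap R S)},
      (y.1 ≤ q' ∨ q' ≤ y.1) → y = ⟨q', rfl⟩ := by
    intro y hy
    have := h y.1.asIdeal y.1.2 (congrArg PrimeSpectrum.asIdeal y.2) hy
    exact Subtype.ext (PrimeSpectrum.ext this)
  rw [← e.isOpen_image, Set.image_singleton,
    (PrimeSpectrum.isOpen_singleton_tfae_of_isNoetherian_of_isJacobsonRing _).out 0 2 rfl rfl]
  constructor
  · rw [← Set.image_singleton, e.isClosed_image, ← closure_eq_iff_isClosed]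
    ext y
    constructor
    · intro hy
      have h1 : (⟨q', rfl⟩ : (PrimeSpectrum.comap (algebraMap R S)) ⁻¹'
          {q'.comap (algebraMap R S)}) ⤳ y := specializes_iff_mem_closure.mpr hy
      have h2 : q' ⤳ y.1 := h1.map continuous_subtype_val
      exact key y (Or.inr ((PrimeSpectrum.le_iff_specializes _ _).mpr h2))
    · rintro rfl
      exact subset_closure rfl
  · intro b a hab hb
    rw [Set.mem_singleton_iff] at hb ⊢
    subst hb
    obtain ⟨a', rfl⟩ := e.surjective a
    have h1 : a' ⤳ ⟨q', rfl⟩ := e.isInducing.specializes_iff.mp hab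
    have h2 : a'.1 ⤳ q' := h1.map continuous_subtype_val
    rw [key a' (Or.inl ((PrimeSpectrum.le_iff_specializes _ _).mpr h2))]

/-- In a Noetherian ring, an element `g` of a prime `q` lying in no minimal prime contained in `q`
is the first element of a system of at most `ht q` elements over which `q` is minimal. -/
theorem exists_finset_insert_minimalPrimes {R : Type*} [CommRing R] [IsNoetherianRing R]
    (q : Ideal R) [hq : q.IsPrime] (g : R) (hg : g ∈ q)
    (hmin : ∀ P ∈ minimalPrimes R, P ≤ q → g ∉ P) :
    ∃ s : Finset R, q ∈ (Ideal.span (insert g (s : Set R))).minimalPrimes ∧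
      (s.card : ℕ∞) + 1 ≤ q.height := by
  classical
  set I : Ideal R := Ideal.span {g} with hI
  have hIq : I ≤ q := by rw [hI, Ideal.span_singleton_le_iff_mem]; exact hg
  have hsurj : Function.Surjective (Ideal.Quotient.mk I) := Ideal.Quotient.mk_surjective
  haveI hq' : (q.map (Ideal.Quotient.mk I)).IsPrime := DimIneq.isPrime_map_mk_of_le I q hIq
  have hcomap : (q.map (Ideal.Quotient.mk I)).comap (Ideal.Quotient.mk I) = q :=
    DimIneq.comap_map_mk_of_le I q hIq
  obtain ⟨t, ht, hcard⟩ :=
    Ideal.exists_finset_card_eq_height_of_isNoetherianRing (q.map (Ideal.Quotient.mk I))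
  let lift : R ⧸ I → R := Function.surjInv hsurj
  have hlift : ∀ y, Ideal.Quotient.mk I (lift y) = y := Function.surjInv_eq hsurj
  refine ⟨t.image lift, ?_, ?_⟩
  · have h1 : Ideal.span (insert g ((t.image lift : Finset R) : Set R)) =
        (Ideal.span (t : Set (R ⧸ I))).comap (Ideal.Quotient.mk I) := by
      have h2 : (Ideal.span ((t.image lift : Finset R) : Set R)).map (Ideal.Quotient.mk I) =
          Ideal.span (t : Set (R ⧸ I)) := by
        rw [Ideal.map_span]
        congr 1
        ext y
        simp only [Finset.coe_image, Set.mem_image, Finset.mem_coe]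
        constructor
        · rintro ⟨x, ⟨z, hz, rfl⟩, rfl⟩
          rw [hlift]; exact hz
        · intro hy
          exact ⟨lift y, ⟨y, hy, rfl⟩, hlift y⟩
      rw [← h2, Ideal.comap_map_of_surjective _ hsurj, ← RingHom.ker_eq_comap_bot, Ideal.mk_ker,
        Ideal.span_insert, sup_comm]
    rw [h1, Ideal.comap_minimalPrimes_eq_of_surjective hsurj]
    exact ⟨_, ht, hcomap⟩
  · -- the height estimate
    have hfin : (q.map (Ideal.Quotient.mk I)).height ≠ ⊤ := Ideal.height_ne_top hq'.ne_top
    obtain ⟨l, hlast, hlen⟩ := (q.map (Ideal.Quotient.mk I)).exists_ltSeries_length_eq_height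
    have hmono : StrictMono (PrimeSpectrum.comap (Ideal.Quotient.mk I)) := by
      intro a b hab
      refine lt_of_le_of_ne (Ideal.comap_mono hab.le) ?_
      intro heq
      exact hab.ne (PrimeSpectrum.comap_injective_of_surjective _ hsurj heq)
    let l' : LTSeries (PrimeSpectrum R) := l.map _ hmono
    have h3 := DimIneq.height_head_add_length_le l'
    have hl'last : l'.last = ⟨q, hq⟩ := by
      rw [LTSeries.last_map, hlast]
      exact PrimeSpectrum.ext hcomap
    have hghead : g ∈ l'.head.asIdeal := by
      rw [LTSeries.head_map]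
      show Ideal.Quotient.mk I g ∈ l.head.asIdeal
      rw [Ideal.Quotient.eq_zero_iff_mem.mpr (Ideal.mem_span_singleton_self g)]
      exact zero_mem _
    have hheadle : l'.head.asIdeal ≤ q := by
      have : l'.head ≤ l'.last := LTSeries.head_le_last l'
      rw [hl'last] at this
      exact this
    have hhead : 1 ≤ l'.head.asIdeal.height := by
      rw [Order.one_le_iff_ne_zero]
      intro h0
      have hmem : l'.head.asIdeal ∈ minimalPrimes R := by
        haveI := l'.head.2
        exact Ideal.height_eq_zero_iff.mp h0
      exact hmin _ hmem hheadle hghead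
    rw [hl'last] at h3
    have h4 : (t.image lift).card ≤ t.card := Finset.card_image_le
    have h5 : ((t.image lift).card : ℕ∞) ≤ (q.map (Ideal.Quotient.mk I)).height := by
      rw [← hcard]; exact_mod_cast h4
    calc ((t.image lift).card : ℕ∞) + 1 ≤ (q.map (Ideal.Quotient.mk I)).height + 1 := by gcongr
      _ = 1 + l'.length := by
          rw [add_comm]; congr 1
          rw [LTSeries.map_length, hlen]
      _ ≤ l'.head.asIdeal.height + l'.length := by gcongr
      _ ≤ q.height := h3

end Groth.Agent.Lib.Helper8.CoreQF
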