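import Mathlib

/-!
# Helper8 library: algebraically independent elements lift along flat algebras over a local ring

* `algebraicIndependent_of_flat`: `T` a flat algebra over the local ring `R`, `P` an ideal of `T`
  lying over the maximal ideal; a family of elements of `T` whose images in `T ⧸ P` are
  algebraically independent over the residue field is algebraically independent over `R`.
* `trdeg_eq_of_injective_of_isAlgebraic`: transcendence degree does not change along an injective
  algebraic extension.
-/

set_option autoImplicit false
universe u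
open IsLocalRing MvPolynomial TensorProduct

namespace Groth.Agent.Lib.Helper8.FlatTrdeg

theorem algebraicIndependent_of_flat {R T : Type u} [CommRing R] [CommRing T] [IsLocalRing R]
    [Algebra R T] [Module.Flat R T] (P : Ideal T) [P.LiesOver (maximalIdeal R)]
    {ι : Type u} (x : ι → T)
    (hx : AlgebraicIndependent (R ⧸ maximalIdeal R) (fun i => Ideal.Quotient.mk P (x i))) :
    AlgebraicIndependent R x := by
  classical
  letI : Algebra (ResidueField R) (T ⧸ P) := Ideal.Quotient.algebraOfLiesOver P (maximalIdeal R)
  haveI : IsScalarTower R (ResidueField R) (T ⧸ P) :=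
    Ideal.Quotient.isScalarTower_of_liesOver R P (maximalIdeal R)
  let v : (ι →₀ ℕ) → T := fun m => m.prod (fun i n => x i ^ n)
  have hv : LinearIndependent R v := by
    apply Module.IsLocalRing.linearIndependent_of_flat
    let ψ : (ResidueField R) ⊗[R] T →ₗ[ResidueField R] (T ⧸ P) :=
      LinearMap.liftBaseChange (ResidueField R) ((Ideal.Quotient.mkₐ R P).toLinearMap)
    refine LinearIndependent.of_comp ψ ?_
    have h1 : (ψ ∘ (TensorProduct.mk R (ResidueField R) T 1 ∘ v)) =
        fun m : ι →₀ ℕ => aeval (fun i => Ideal.Quotient.mk P (x i))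
          (monomial m (1 : R ⧸ maximalIdeal R)) := by
      funext m
      simp only [Function.comp_apply, TensorProduct.mk_apply, ψ, LinearMap.liftBaseChange_tmul,
        one_smul, AlgHom.toLinearMap_apply, Ideal.Quotient.mkₐ_eq_mk, aeval_monomial, map_one,
        one_mul, v]
      rw [map_finsuppProd]
      simp
    rw [h1]
    have hinj := algebraicIndependent_iff_injective_aeval.mp hx
    have hb : LinearIndependent (R ⧸ maximalIdeal R) (fun m : ι →₀ ℕ =>
        (monomial m (1 : R ⧸ maximalIdeal R) : MvPolynomial ι (R ⧸ maximalIdeal R))) := by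
      have := (MvPolynomial.basisMonomials ι (R ⧸ maximalIdeal R)).linearIndependent
      rwa [MvPolynomial.coe_basisMonomials] at this
    exact hb.map' (aeval (fun i => Ideal.Quotient.mk P (x i))).toLinearMap
      (LinearMap.ker_eq_bot.mpr hinj)
  rw [algebraicIndependent_iff_injective_aeval, injective_iff_map_eq_zero]
  intro p hp
  have h2 : aeval x p = ∑ m ∈ p.support, p.coeff m • v m := by
    conv_lhs => rw [p.as_sum]
    rw [map_sum]
    refine Finset.sum_congr rfl fun m _ => ?_
    rw [aeval_monomial, Algebra.smul_def]
  rw [h2] at hp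
  have h3 := linearIndependent_iff'.mp hv p.support (fun m => p.coeff m) hp
  ext m
  by_cases hm : m ∈ p.support
  · simpa using h3 m hm
  · simpa using notMem_support_iff.mp hm

/-- Transcendence degree along an injective algebraic extension. -/
theorem trdeg_eq_of_injective_of_isAlgebraic {R S S' : Type u} [CommRing R] [Nontrivial R]
    [CommRing S] [CommRing S'] [NoZeroDivisors S'] [Algebra R S] [Algebra R S']
    (g : S →ₐ[R] S') (hg : Function.Injective g) (hRS : Function.Injective (algebraMap R S))
    (halg : ∀ y : S', ∃ s c : S, g s ≠ 0 ∧ y * g s = g c) :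
    Algebra.trdeg R S = Algebra.trdeg R S' := by
  letI : Algebra S S' := g.toRingHom.toAlgebra
  haveI : IsScalarTower R S S' := IsScalarTower.of_algebraMap_eq (fun r => (g.commutes r).symm)
  haveI : FaithfulSMul R S := (faithfulSMul_iff_algebraMap_injective R S).mpr hRS
  haveI : FaithfulSMul S S' := (faithfulSMul_iff_algebraMap_injective S S').mpr hg
  haveI : Algebra.IsAlgebraic S S' := by
    refine ⟨fun y => ?_⟩
    obtain ⟨s, c, hs, hy⟩ := halg y
    refine ⟨Polynomial.C s * Polynomial.X - Polynomial.C c, ?_, ?_⟩
    · intro h0
      have h1 : (Polynomial.C s * Polynomial.X - Polynomial.C c : Polynomial S).coeff 1 = s := by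
        rw [Polynomial.coeff_sub, Polynomial.coeff_C_mul, Polynomial.coeff_X_one, mul_one,
          Polynomial.coeff_C_ne_zero one_ne_zero, sub_zero]
      rw [h0, Polynomial.coeff_zero] at h1
      apply hs
      rw [← h1, map_zero]
    · rw [map_sub, map_mul, Polynomial.aeval_C, Polynomial.aeval_C, Polynomial.aeval_X, mul_comm]
      exact sub_eq_zero.mpr hy
  have h1 := trdeg_add_eq R S (A := S')
  rw [trdeg_eq_zero (R := S) (A := S'), add_zero] at h1
  exact h1

end Groth.Agent.Lib.Helper8.FlatTrdeg
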