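import Mathlib
import Groth.Agent.Lib.Helper8.FlatTrdeg
import Groth.Agent.Lib.Helper12.ValDim4
import Groth.Agent.Lib.Helper12.DimFT2

/-!
# Helper8 library: the closed fibre of a finite type algebra over a local ring

`C` an algebra of finite type over the local ring `A`; the fibre ring `C ⧸ 𝔪C` over the residue
field `A ⧸ 𝔪`.

* `exists_trdeg_eq_coheight`: residue transcendence degree = coheight in the fibre ring.
* `under_ne_of_lt_of_minimalPrimes`: minimal primes of the fibre ring are minimal in their fibre.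
* `trdeg_quotient_le_of_flat`: for `P ≤ 𝔮` in the closed fibre with `C_𝔮` flat over `A`,
  `trdeg (A⧸𝔪) (C⧸P) ≤ trdeg A C`.
* `exists_dim_formula`: the dimension formula `trdeg A C = ht(𝔮 / 𝔪C) + trdeg (A⧸𝔪) (C⧸𝔮)` when
  `C_𝔮` is flat over `A` (`A`, `C` domains).
* `isLocalization_atPrime_essFiniteType`: an essentially finite type local algebra is the
  localization of `EssFiniteType.subalgebra` at the contraction of the maximal ideal.
-/

set_option autoImplicit false
universe u
open IsLocalRing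

namespace Groth.Agent.Lib.Helper8.EssLocDim

open Groth.Agent.Lib.Helper12

/-- The ideal of `C` generated by the maximal ideal of `A`. -/
abbrev mC (A C : Type u) [CommRing A] [IsLocalRing A] [CommRing C] [Algebra A C] : Ideal C :=
  (maximalIdeal A).map (algebraMap A C)

section Fibre

variable {A C : Type u} [CommRing A] [IsLocalRing A] [CommRing C] [Algebra A C]

theorem liesOver_of_map_le (P : Ideal C) [hP : P.IsPrime] (h : mC A C ≤ P) :
    P.LiesOver (maximalIdeal A) := by
  refine ⟨?_⟩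
  have h1 : maximalIdeal A ≤ P.under A := Ideal.map_le_iff_le_comap.mp h
  have h2 : P.under A ≠ ⊤ := (inferInstance : (P.under A).IsPrime).ne_top
  exact (maximalIdeal.isMaximal A).eq_of_le h2 h1

theorem map_le_of_liesOver (P : Ideal C) [P.LiesOver (maximalIdeal A)] : mC A C ≤ P := by
  rw [Ideal.map_le_iff_le_comap, ← Ideal.under_def, ← Ideal.over_def P (maximalIdeal A)]

theorem le_comap_mk (P' : Ideal (C ⧸ mC A C)) :
    mC A C ≤ P'.comap (Ideal.Quotient.mk (mC A C)) := by
  intro x hx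
  rw [Ideal.mem_comap, Ideal.Quotient.eq_zero_iff_mem.mpr hx]
  exact zero_mem _

theorem finiteType_fibre [Algebra.FiniteType A C] :
    Algebra.FiniteType (A ⧸ maximalIdeal A) (C ⧸ mC A C) := by
  haveI : Algebra.FiniteType A (C ⧸ mC A C) :=
    Algebra.FiniteType.of_surjective (Ideal.Quotient.mkₐ A _) Ideal.Quotient.mk_surjective
  haveI : IsScalarTower A (A ⧸ maximalIdeal A) (C ⧸ mC A C) :=
    IsScalarTower.of_algebraMap_eq (fun x => rfl)
  exact Algebra.FiniteType.of_restrictScalars_finiteType A (A ⧸ maximalIdeal A) (C ⧸ mC A C)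

/-- Residue transcendence degree = coheight in the fibre ring. -/
theorem exists_trdeg_eq_coheight [Algebra.FiniteType A C] (P : Ideal C) [P.IsPrime]
    [P.LiesOver (maximalIdeal A)] (P' : Ideal (C ⧸ mC A C)) [P'.IsPrime]
    (hP : P'.comap (Ideal.Quotient.mk (mC A C)) = P) :
    ∃ n : ℕ, Algebra.trdeg (A ⧸ maximalIdeal A) (C ⧸ P) = n ∧
      Order.coheight (⟨P', inferInstance⟩ : PrimeSpectrum (C ⧸ mC A C)) = n := by
  letI : Field (A ⧸ maximalIdeal A) := Ideal.Quotient.field _
  haveI : Algebra.FiniteType (A ⧸ maximalIdeal A) (C ⧸ mC A C) := finiteType_fibre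
  obtain ⟨n, -, hdim, hco⟩ :=
    DimFT2.exists_trdeg_residueField (A ⧸ maximalIdeal A) (C ⧸ mC A C) P'
  haveI : IsDomain ((C ⧸ mC A C) ⧸ P') := Ideal.Quotient.isDomain P'
  haveI : Algebra.FiniteType (A ⧸ maximalIdeal A) ((C ⧸ mC A C) ⧸ P') :=
    Algebra.FiniteType.of_surjective (Ideal.Quotient.mkₐ _ P') Ideal.Quotient.mk_surjective
  obtain ⟨s, hs, htr, -⟩ := DimFT.exists_dim_eq_trdeg (A ⧸ maximalIdeal A) ((C ⧸ mC A C) ⧸ P')
  have hsn : s = n := by
    have : ((s : ℕ) : WithBot ℕ∞) = (n : WithBot ℕ∞) := by rw [← hs, ← hdim]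
    exact_mod_cast this
  refine ⟨n, ?_, hco⟩
  let α : A →+* (A ⧸ maximalIdeal A) := Ideal.Quotient.mk _
  let β : C →+* ((C ⧸ mC A C) ⧸ P') :=
    (Ideal.Quotient.mk P').comp (Ideal.Quotient.mk (mC A C))
  have hα : Function.Surjective α := Ideal.Quotient.mk_surjective
  have hβ : Function.Surjective β :=
    Ideal.Quotient.mk_surjective.comp Ideal.Quotient.mk_surjective
  have hcomm : ∀ a : A, β (algebraMap A C a) =
      algebraMap (A ⧸ maximalIdeal A) ((C ⧸ mC A C) ⧸ P') (α a) := fun a => rfl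
  have hαker : RingHom.ker α = maximalIdeal A := Ideal.mk_ker
  have hβker : RingHom.ker β = P := by
    rw [RingHom.ker_eq_comap_bot, ← Ideal.comap_comap, ← RingHom.ker_eq_comap_bot, Ideal.mk_ker,
      hP]
  rw [DimIneq.trdeg_quotient_eq α β hα hβ hcomm (maximalIdeal A) P hαker hβker, htr, hsn]

/-- Minimal primes of the fibre ring are minimal in their fibre. -/
theorem under_ne_of_lt_of_minimalPrimes (P' : Ideal (C ⧸ mC A C))
    (hP' : P' ∈ minimalPrimes (C ⧸ mC A C)) (Z : Ideal C) [Z.IsPrime]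
    (hZ : Z < P'.comap (Ideal.Quotient.mk (mC A C))) :
    Z.under A ≠ (P'.comap (Ideal.Quotient.mk (mC A C))).under A := by
  intro heq
  haveI := hP'.1.1
  have hIP : mC A C ≤ P'.comap (Ideal.Quotient.mk (mC A C)) := le_comap_mk P'
  have hIZ : mC A C ≤ Z := by
    rw [Ideal.map_le_iff_le_comap]
    have : maximalIdeal A ≤ (P'.comap (Ideal.Quotient.mk (mC A C))).under A :=
      Ideal.map_le_iff_le_comap.mp hIP
    rw [← heq] at this
    exact this
  haveI := DimIneq.isPrime_map_mk_of_le _ Z hIZ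
  have hle : Z.map (Ideal.Quotient.mk (mC A C)) ≤ P' := by
    rw [Ideal.map_le_iff_le_comap]; exact hZ.le
  have h2 : P' ≤ Z.map (Ideal.Quotient.mk (mC A C)) := hP'.2 ⟨inferInstance, bot_le⟩ hle
  have h3 : P'.comap (Ideal.Quotient.mk (mC A C)) ≤ Z := by
    rw [← DimIneq.comap_map_mk_of_le _ Z hIZ]
    exact Ideal.comap_mono h2
  exact absurd hZ (not_lt_of_ge h3)

/-- Flatness at `𝔮` bounds the residue transcendence degree at the primes of the closed fibre
below `𝔮`. -/
theorem trdeg_quotient_le_of_flat (𝔮 : Ideal C) [𝔮.IsPrime]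
    [Module.Flat A (Localization.AtPrime 𝔮)]
    (P : Ideal C) [P.IsPrime] [P.LiesOver (maximalIdeal A)] (hPq : P ≤ 𝔮) :
    Algebra.trdeg (A ⧸ maximalIdeal A) (C ⧸ P) ≤ Algebra.trdeg A C := by
  have hdisj : Disjoint (𝔮.primeCompl : Set C) (P : Set C) := by
    rw [Set.disjoint_left]
    intro x hx hxP
    exact hx (hPq hxP)
  have hcomap : (P.map (algebraMap C (Localization.AtPrime 𝔮))).comap
      (algebraMap C (Localization.AtPrime 𝔮)) = P :=
    IsLocalization.comap_map_of_isPrime_disjoint 𝔮.primeCompl (Localization.AtPrime 𝔮)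
      inferInstance hdisj
  haveI : (P.map (algebraMap C (Localization.AtPrime 𝔮))).LiesOver (maximalIdeal A) := by
    refine ⟨?_⟩
    rw [Ideal.under_def, IsScalarTower.algebraMap_eq A C (Localization.AtPrime 𝔮),
      ← Ideal.comap_comap, hcomap]
    exact Ideal.over_def P (maximalIdeal A)
  rw [Algebra.trdeg]
  refine ciSup_le' fun i => ?_
  obtain ⟨s, hs⟩ := i
  choose lift hlift using fun y : s => Ideal.Quotient.mk_surjective (y : C ⧸ P)
  let g : C ⧸ P →+* Localization.AtPrime 𝔮 ⧸ P.map (algebraMap C (Localization.AtPrime 𝔮)) :=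
    Ideal.quotientMap _ (algebraMap C (Localization.AtPrime 𝔮)) (le_of_eq hcomap.symm)
  have hginj : Function.Injective g := Ideal.quotientMap_injective' (le_of_eq hcomap)
  have hcomp : (algebraMap (A ⧸ maximalIdeal A)
      (Localization.AtPrime 𝔮 ⧸ P.map (algebraMap C (Localization.AtPrime 𝔮)))).comp
        (RingHom.id _) = g.comp (algebraMap (A ⧸ maximalIdeal A) (C ⧸ P)) := by
    apply Ideal.Quotient.ringHom_ext
    ext a
    simp only [RingHom.comp_id, RingHom.coe_comp, Function.comp_apply,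
      Ideal.Quotient.algebraMap_mk_of_liesOver, g, Ideal.quotientMap_mk]
    rw [← IsScalarTower.algebraMap_apply]
  have h0 := hs.ringHom_of_comp_eq (RingHom.id _) g Function.surjective_id hginj hcomp
  have h1 : AlgebraicIndependent A
      (fun y : s => algebraMap C (Localization.AtPrime 𝔮) (lift y)) := by
    apply FlatTrdeg.algebraicIndependent_of_flat
      (P.map (algebraMap C (Localization.AtPrime 𝔮)))
    convert h0 using 1
    funext y
    simp only [Function.comp_apply, id_eq, g]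
    rw [← hlift y, Ideal.quotientMap_mk]
  have h2 : AlgebraicIndependent A lift :=
    AlgebraicIndependent.of_comp (IsScalarTower.toAlgHom A C (Localization.AtPrime 𝔮)) h1
  exact h2.cardinalMk_le_trdeg

/-- **The dimension formula at a flat point of the closed fibre.** -/
theorem exists_dim_formula [IsDomain A] [IsDomain C] [Algebra.FiniteType A C]
    (hinj : Function.Injective (algebraMap A C)) (𝔮 : Ideal C) [𝔮.IsPrime]
    [𝔮.LiesOver (maximalIdeal A)] [Module.Flat A (Localization.AtPrime 𝔮)] :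
    ∃ d e : ℕ, (𝔮.map (Ideal.Quotient.mk (mC A C))).height = d ∧
      Algebra.trdeg (A ⧸ maximalIdeal A) (C ⧸ 𝔮) = e ∧ Algebra.trdeg A C = (d + e : ℕ) := by
  classical
  letI : Field (A ⧸ maximalIdeal A) := Ideal.Quotient.field _
  haveI : Algebra.FiniteType (A ⧸ maximalIdeal A) (C ⧸ mC A C) := finiteType_fibre
  haveI : IsNoetherianRing (C ⧸ mC A C) :=
    Algebra.FiniteType.isNoetherianRing (A ⧸ maximalIdeal A) _
  have hIq : mC A C ≤ 𝔮 := map_le_of_liesOver 𝔮
  haveI hQ' : (𝔮.map (Ideal.Quotient.mk (mC A C))).IsPrime :=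
    DimIneq.isPrime_map_mk_of_le _ 𝔮 hIq
  have hQcomap : (𝔮.map (Ideal.Quotient.mk (mC A C))).comap (Ideal.Quotient.mk (mC A C)) = 𝔮 :=
    DimIneq.comap_map_mk_of_le _ 𝔮 hIq
  obtain ⟨P', hP'min, hP'le, hsum⟩ := DimFT2.exists_minimalPrimes_coheight_eq
    (A ⧸ maximalIdeal A) (C ⧸ mC A C) ⟨𝔮.map (Ideal.Quotient.mk (mC A C)), hQ'⟩
  haveI hP'prime : P'.IsPrime := hP'min.1.1
  haveI : (P'.comap (Ideal.Quotient.mk (mC A C))).IsPrime := Ideal.comap_isPrime _ _
  haveI : (P'.comap (Ideal.Quotient.mk (mC A C))).LiesOver (maximalIdeal A) :=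
    liesOver_of_map_le _ (le_comap_mk P')
  have hPq : P'.comap (Ideal.Quotient.mk (mC A C)) ≤ 𝔮 := by
    rw [← hQcomap]; exact Ideal.comap_mono hP'le
  obtain ⟨a, ha1, ha2⟩ := exists_trdeg_eq_coheight (P'.comap (Ideal.Quotient.mk (mC A C))) P' rfl
  obtain ⟨e, he1, he2⟩ :=
    exists_trdeg_eq_coheight 𝔮 (𝔮.map (Ideal.Quotient.mk (mC A C))) hQcomap
  have hht : (𝔮.map (Ideal.Quotient.mk (mC A C))).height ≠ ⊤ := Ideal.height_ne_top hQ'.ne_top
  obtain ⟨d, hd⟩ := ENat.ne_top_iff_exists.mp hht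
  have hda : d + e = a := by
    have h1 : (𝔮.map (Ideal.Quotient.mk (mC A C))).height =
        Order.height (⟨𝔮.map (Ideal.Quotient.mk (mC A C)), hQ'⟩ : PrimeSpectrum (C ⧸ mC A C)) :=
      PrimeSpectrum.height_eq_orderHeight ⟨_, hQ'⟩
    have h2 : (Order.height (⟨𝔮.map (Ideal.Quotient.mk (mC A C)), hQ'⟩ :
        PrimeSpectrum (C ⧸ mC A C)) : ℕ∞) = d := by rw [← h1, ← hd]
    rw [h2, he2, ha2] at hsum
    exact_mod_cast hsum
  refine ⟨d, e, hd.symm, he1, ?_⟩
  rw [hda]
  apply le_antisymm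
  · have h5 := ValDim.trdeg_le_trdeg_quotient_of_minimal hinj
      (P'.comap (Ideal.Quotient.mk (mC A C)))
      (fun Z hZ hlt => by
        haveI := hZ
        exact under_ne_of_lt_of_minimalPrimes P' hP'min Z hlt)
    rw [← ValDim.trdeg_quotient_liesOver_eq (P'.comap (Ideal.Quotient.mk (mC A C)))
      (maximalIdeal A), ha1] at h5
    exact h5
  · rw [← ha1]
    exact trdeg_quotient_le_of_flat 𝔮 _ hPq

end Fibre

section Ess

variable {A B : Type u} [CommRing A] [CommRing B] [IsLocalRing B] [Algebra A B]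
  [Algebra.EssFiniteType A B]

instance : ((maximalIdeal B).comap
    (algebraMap (Algebra.EssFiniteType.subalgebra A B) B)).IsPrime :=
  Ideal.comap_isPrime _ _

theorem isLocalization_atPrime_essFiniteType :
    IsLocalization.AtPrime B ((maximalIdeal B).comap
      (algebraMap (Algebra.EssFiniteType.subalgebra A B) B)) := by
  have h : Algebra.EssFiniteType.submonoid A B = ((maximalIdeal B).comap
      (algebraMap (Algebra.EssFiniteType.subalgebra A B) B)).primeCompl := by
    ext x
    simp only [Algebra.EssFiniteType.submonoid, Submonoid.mem_comap, IsUnit.mem_submonoid_iff,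
      Ideal.mem_primeCompl_iff, Ideal.mem_comap, mem_maximalIdeal, mem_nonunits_iff, not_not]
  rw [IsLocalization.AtPrime, ← h]
  infer_instance

end Ess

end Groth.Agent.Lib.Helper8.EssLocDim
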