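import Mathlib
import Groth.Agent.Lib.Helper8.EssLocDim
import Groth.Agent.Lib.Helper8.CoreQF

/-!
# Helper8 library: a quasi-finite map to an affine space with a prescribed first coordinate

`exists_quasiFinite_family`: `C` of finite type over the local ring `A`, `𝔮` a prime of the closed
fibre at which all fibre components have dimension `≤ n`, `g ∈ 𝔮` vanishing on no component of
the fibre through `𝔮`.  Then there is a finite set `s ∋ g` of at most `n` elements of `C` such
that `C` is quasi-finite at `𝔮` over `A[T_c, c ∈ s]`.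
-/

set_option autoImplicit false
universe u
open IsLocalRing

namespace Groth.Agent.Lib.Helper8.CoreQF

open Groth.Agent.Lib.Helper12 Groth.Agent.Lib.Helper8.EssLocDim

/-- Transfer of algebraic independence of residues between two primes. -/
theorem algebraicIndependent_quotient_of_imp {A C : Type u} [CommRing A] [CommRing C]
    [Algebra A C] (𝔪 : Ideal A) (P Q : Ideal C) [P.LiesOver 𝔪] [Q.LiesOver 𝔪] {ι : Type*}
    (x : ι → C)
    (h : ∀ p : MvPolynomial ι A, MvPolynomial.aeval x p ∈ Q → MvPolynomial.aeval x p ∈ P)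
    (hx : AlgebraicIndependent (A ⧸ 𝔪) (fun i => Ideal.Quotient.mk P (x i))) :
    AlgebraicIndependent (A ⧸ 𝔪) (fun i => Ideal.Quotient.mk Q (x i)) := by
  have key : ∀ (P' : Ideal C) [P'.LiesOver 𝔪] (p : MvPolynomial ι A),
      MvPolynomial.aeval (fun i => Ideal.Quotient.mk P' (x i))
        (MvPolynomial.map (Ideal.Quotient.mk 𝔪) p) =
          Ideal.Quotient.mk P' (MvPolynomial.aeval x p) := by
    intro P' _ p
    have h1 := MvPolynomial.aeval_map_algebraMap (A ⧸ 𝔪)
      (fun i => Ideal.Quotient.mk P' (x i)) p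
    rw [show (Ideal.Quotient.mk 𝔪) = algebraMap A (A ⧸ 𝔪) from rfl, h1]
    exact (MvPolynomial.comp_aeval_apply x (Ideal.Quotient.mkₐ A P') p).symm
  rw [algebraicIndependent_iff] at hx ⊢
  intro p hp
  obtain ⟨p', rfl⟩ :=
    MvPolynomial.map_surjective (Ideal.Quotient.mk 𝔪) Ideal.Quotient.mk_surjective p
  rw [key Q] at hp
  have h2 := h p' (Ideal.Quotient.eq_zero_iff_mem.mp hp)
  apply hx
  rw [key P]
  exact Ideal.Quotient.eq_zero_iff_mem.mpr h2

theorem exists_quasiFinite_family {A C : Type u} [CommRing A] [IsLocalRing A]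
    [CommRing C] [Algebra A C] [Algebra.FiniteType A C]
    (𝔮 : Ideal C) [𝔮.IsPrime] [𝔮.LiesOver (maximalIdeal A)] (g : C) (hg : g ∈ 𝔮) (n : ℕ)
    (H1 : ∀ (P : Ideal C) [P.IsPrime] [P.LiesOver (maximalIdeal A)], P ≤ 𝔮 →
        Algebra.trdeg (A ⧸ maximalIdeal A) (C ⧸ P) ≤ n)
    (H2 : ∀ P' ∈ minimalPrimes (C ⧸ mC A C), P' ≤ 𝔮.map (Ideal.Quotient.mk (mC A C)) →
        Ideal.Quotient.mk (mC A C) g ∉ P') :
    ∃ s : Finset C, g ∈ s ∧ s.card ≤ n ∧
      (letI : Algebra (MvPolynomial s A) C :=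
        (MvPolynomial.aeval (fun i : s => (i : C))).toRingHom.toAlgebra
       Algebra.QuasiFiniteAt (MvPolynomial s A) 𝔮) := by
  classical
  letI : Field (A ⧸ maximalIdeal A) := Ideal.Quotient.field _
  haveI : Algebra.FiniteType (A ⧸ maximalIdeal A) (C ⧸ mC A C) := finiteType_fibre
  haveI : IsNoetherianRing (C ⧸ mC A C) :=
    Algebra.FiniteType.isNoetherianRing (A ⧸ maximalIdeal A) _
  have hIq : mC A C ≤ 𝔮 := map_le_of_liesOver 𝔮
  haveI hQ' : (𝔮.map (Ideal.Quotient.mk (mC A C))).IsPrime :=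
    DimIneq.isPrime_map_mk_of_le _ 𝔮 hIq
  have hQcomap : (𝔮.map (Ideal.Quotient.mk (mC A C))).comap (Ideal.Quotient.mk (mC A C)) = 𝔮 :=
    DimIneq.comap_map_mk_of_le _ 𝔮 hIq
  -- (1) the dimension count
  obtain ⟨P', hP'min, hP'le, hsum⟩ := DimFT2.exists_minimalPrimes_coheight_eq
    (A ⧸ maximalIdeal A) (C ⧸ mC A C) ⟨𝔮.map (Ideal.Quotient.mk (mC A C)), hQ'⟩
  haveI hP'prime : P'.IsPrime := hP'min.1.1
  haveI : (P'.comap (Ideal.Quotient.mk (mC A C))).IsPrime := Ideal.comap_isPrime _ _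
  haveI : (P'.comap (Ideal.Quotient.mk (mC A C))).LiesOver (maximalIdeal A) :=
    liesOver_of_map_le _ (le_comap_mk P')
  have hPq : P'.comap (Ideal.Quotient.mk (mC A C)) ≤ 𝔮 := by
    rw [← hQcomap]; exact Ideal.comap_mono hP'le
  obtain ⟨a, ha1, ha2⟩ := exists_trdeg_eq_coheight (P'.comap (Ideal.Quotient.mk (mC A C))) P' rfl
  obtain ⟨e, he1, he2⟩ :=
    exists_trdeg_eq_coheight 𝔮 (𝔮.map (Ideal.Quotient.mk (mC A C))) hQcomap
  have hht : (𝔮.map (Ideal.Quotient.mk (mC A C))).height ≠ ⊤ := Ideal.height_ne_top hQ'.ne_top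
  obtain ⟨d, hd⟩ := ENat.ne_top_iff_exists.mp hht
  have hda : d + e = a := by
    have h1 : (𝔮.map (Ideal.Quotient.mk (mC A C))).height =
        Order.height (⟨𝔮.map (Ideal.Quotient.mk (mC A C)), hQ'⟩ : PrimeSpectrum (C ⧸ mC A C)) :=
      PrimeSpectrum.height_eq_orderHeight ⟨_, hQ'⟩
    have h2 : (Order.height (⟨𝔮.map (Ideal.Quotient.mk (mC A C)), hQ'⟩ :
        PrimeSpectrum (C ⧸ mC A C)) : ℕ∞) = d := by rw [← h1, ← hd]
    rw [h2, he2, ha2] at hsum
    exact_mod_cast hsum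
  have han : a ≤ n := by
    have := H1 (P'.comap (Ideal.Quotient.mk (mC A C))) hPq
    rw [ha1] at this
    exact_mod_cast this
  -- (2) a system of parameters in the fibre starting with `g`
  obtain ⟨t₁, ht₁min, ht₁card⟩ := exists_finset_insert_minimalPrimes
    (𝔮.map (Ideal.Quotient.mk (mC A C))) (Ideal.Quotient.mk (mC A C) g)
    (Ideal.mem_map_of_mem _ hg) H2
  have ht₁d : t₁.card + 1 ≤ d := by
    rw [← hd] at ht₁card
    exact_mod_cast ht₁card
  have hsurj₁ : Function.Surjective (Ideal.Quotient.mk (mC A C)) := Ideal.Quotient.mk_surjective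
  let lift₁ : C ⧸ mC A C → C := Function.surjInv hsurj₁
  have hlift₁ : ∀ y, Ideal.Quotient.mk (mC A C) (lift₁ y) = y := Function.surjInv_eq hsurj₁
  -- (3) a transcendence basis of the residue field
  obtain ⟨u, hu⟩ := exists_isTranscendenceBasis (A ⧸ maximalIdeal A) (C ⧸ 𝔮)
  have hucard : Cardinal.mk u = e := hu.cardinalMk_eq_trdeg.trans he1
  have hufin : u.Finite := by
    rw [← Cardinal.lt_aleph0_iff_set_finite, hucard]
    exact Cardinal.nat_lt_aleph0 e
  have hsurj₂ : Function.Surjective (Ideal.Quotient.mk 𝔮) := Ideal.Quotient.mk_surjective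
  let lift₂ : C ⧸ 𝔮 → C := Function.surjInv hsurj₂
  have hlift₂ : ∀ y, Ideal.Quotient.mk 𝔮 (lift₂ y) = y := Function.surjInv_eq hsurj₂
  have hlift₂inj : Function.Injective lift₂ := Function.injective_surjInv hsurj₂
  let s₂ : Finset C := hufin.toFinset.image lift₂
  have hs₂card : s₂.card = e := by
    rw [Finset.card_image_of_injective _ hlift₂inj]
    have h1 : (hufin.toFinset.card : Cardinal) = e := by
      rw [← hucard, ← Set.ncard_eq_toFinset_card u hufin, Set.cast_ncard hufin]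
    exact_mod_cast h1
  let s : Finset C := insert g (t₁.image lift₁ ∪ s₂)
  have hgs : g ∈ s := Finset.mem_insert_self _ _
  have hscard : s.card ≤ n := by
    have h1 : s.card ≤ (t₁.image lift₁ ∪ s₂).card + 1 := Finset.card_insert_le _ _
    have h2 : (t₁.image lift₁ ∪ s₂).card ≤ (t₁.image lift₁).card + s₂.card :=
      Finset.card_union_le _ _
    have h3 : (t₁.image lift₁).card ≤ t₁.card := Finset.card_image_le
    omega
  refine ⟨s, hgs, hscard, ?_⟩
  letI : Algebra (MvPolynomial s A) C :=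
    (MvPolynomial.aeval (fun i : s => (i : C))).toRingHom.toAlgebra
  haveI : IsScalarTower A (MvPolynomial s A) C :=
    IsScalarTower.of_algebraMap_eq
      (fun a => ((MvPolynomial.aeval (fun i : s => (i : C))).commutes a).symm)
  haveI : Algebra.FiniteType (MvPolynomial s A) C :=
    Algebra.FiniteType.of_restrictScalars_finiteType A _ C
  apply quasiFiniteAt_of_forall_eq
  intro 𝔯 h𝔯prime h𝔯under hcomp
  haveI := h𝔯prime
  have h𝔯A : 𝔯.under A = 𝔮.under A := by
    rw [← Ideal.under_under (B := MvPolynomial s A) 𝔯, h𝔯under, Ideal.under_under]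
  haveI : 𝔯.LiesOver (maximalIdeal A) := ⟨by rw [h𝔯A]; exact Ideal.over_def 𝔮 _⟩
  have hmemiff : ∀ p : MvPolynomial s A,
      MvPolynomial.aeval (fun i : s => (i : C)) p ∈ 𝔯 ↔
        MvPolynomial.aeval (fun i : s => (i : C)) p ∈ 𝔮 := by
    intro p
    have h1 : p ∈ 𝔯.under (MvPolynomial s A) ↔ p ∈ 𝔮.under (MvPolynomial s A) := by
      rw [h𝔯under]
    exact h1
  have hsmem : ∀ c (hc : c ∈ s), (c ∈ 𝔯 ↔ c ∈ 𝔮) := by
    intro c hc
    have := hmemiff (MvPolynomial.X ⟨c, hc⟩)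
    rwa [MvPolynomial.aeval_X] at this
  rcases hcomp with hle | hle
  · -- `𝔯 ≤ 𝔮`: minimality over the parameters
    have hI𝔯 : mC A C ≤ 𝔯 := map_le_of_liesOver 𝔯
    haveI h𝔯' : (𝔯.map (Ideal.Quotient.mk (mC A C))).IsPrime :=
      DimIneq.isPrime_map_mk_of_le _ 𝔯 hI𝔯
    have h𝔯'le : 𝔯.map (Ideal.Quotient.mk (mC A C)) ≤ 𝔮.map (Ideal.Quotient.mk (mC A C)) :=
      Ideal.map_mono hle
    have hspan : Ideal.span (insert (Ideal.Quotient.mk (mC A C) g) (t₁ : Set (C ⧸ mC A C))) ≤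
        𝔯.map (Ideal.Quotient.mk (mC A C)) := by
      rw [Ideal.span_le]
      intro y hy
      rcases hy with rfl | hy
      · exact Ideal.mem_map_of_mem _ ((hsmem g hgs).mpr hg)
      · have hy𝔮 : lift₁ y ∈ 𝔮 := by
          rw [← hQcomap, Ideal.mem_comap, hlift₁]
          exact ht₁min.1.2 (Ideal.subset_span (Set.mem_insert_of_mem _ hy))
        have hys : lift₁ y ∈ s :=
          Finset.mem_insert_of_mem (Finset.mem_union_left _ (Finset.mem_image_of_mem _ hy))
        have := Ideal.mem_map_of_mem (Ideal.Quotient.mk (mC A C)) ((hsmem _ hys).mpr hy𝔮)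
        rwa [hlift₁] at this
    have h1 : 𝔮.map (Ideal.Quotient.mk (mC A C)) ≤ 𝔯.map (Ideal.Quotient.mk (mC A C)) :=
      ht₁min.2 ⟨h𝔯', hspan⟩ h𝔯'le
    have h2 : 𝔮 ≤ 𝔯 := by
      rw [← hQcomap, ← DimIneq.comap_map_mk_of_le _ 𝔯 hI𝔯]
      exact Ideal.comap_mono h1
    exact le_antisymm hle h2
  · -- `𝔮 ≤ 𝔯`: the residue transcendence degree cannot drop
    by_contra hne
    have hlt : 𝔮 < 𝔯 := lt_of_le_of_ne hle (Ne.symm hne)
    obtain ⟨a', b', ha', hb', hlt'⟩ :=
      ValDim.trdeg_lt_of_lt_of_liesOver (maximalIdeal A) 𝔮 𝔯 hlt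
    have hae : a' = e := by
      have := ha'.symm.trans he1
      exact_mod_cast this
    have hind𝔮 : AlgebraicIndependent (A ⧸ maximalIdeal A)
        (fun i : s₂ => Ideal.Quotient.mk 𝔮 (i : C)) := by
      have hmem : ∀ i : s₂, Ideal.Quotient.mk 𝔮 (i : C) ∈ u := by
        intro i
        obtain ⟨y, hy, hyi⟩ := Finset.mem_image.mp i.2
        rw [← hyi, hlift₂]
        exact hufin.mem_toFinset.mp hy
      let f : s₂ → u := fun i => ⟨_, hmem i⟩
      have hf : Function.Injective f := by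
        intro i j hij
        have h1 : Ideal.Quotient.mk 𝔮 (i : C) = Ideal.Quotient.mk 𝔮 (j : C) :=
          congrArg Subtype.val hij
        obtain ⟨y, hy, hyi⟩ := Finset.mem_image.mp i.2
        obtain ⟨z, hz, hzj⟩ := Finset.mem_image.mp j.2
        rw [← hyi, ← hzj, hlift₂, hlift₂] at h1
        exact Subtype.ext (by rw [← hyi, ← hzj, h1])
      exact hu.1.comp f hf
    have hind𝔯 : AlgebraicIndependent (A ⧸ maximalIdeal A)
        (fun i : s₂ => Ideal.Quotient.mk 𝔯 (i : C)) := by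
      refine algebraicIndependent_quotient_of_imp (maximalIdeal A) 𝔮 𝔯
        (fun i : s₂ => (i : C)) ?_ hind𝔮
      intro p hp
      let ι₂ : s₂ → s := fun i =>
        ⟨i.1, Finset.mem_insert_of_mem (Finset.mem_union_right _ i.2)⟩
      have h1 : MvPolynomial.aeval (fun i : s₂ => (i : C)) p =
          MvPolynomial.aeval (fun i : s => (i : C)) (MvPolynomial.rename ι₂ p) := by
        rw [MvPolynomial.aeval_rename]; rfl
      rw [h1] at hp ⊢
      exact (hmemiff _).mp hp
    have h2 := hind𝔯.cardinalMk_le_trdeg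
    rw [hb', Cardinal.mk_coe_finset, hs₂card] at h2
    have : e ≤ b' := by exact_mod_cast h2
    omega

end Groth.Agent.Lib.Helper8.CoreQF
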