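import Mathlib
import Groth.Agent.Lib.Helper8.CoreQF2
import Groth.Agent.Lib.Helper8.CoreGD
import Groth.Agent.Lib.Helper12.ValDim2

/-!
# Helper8 library: horizontal components of hypersurfaces through a point of the closed fibre

* `exists_horizontal_prime`: over an integrally closed local domain `A`, for `C` a domain of
  finite type containing `A`, `𝔮` a prime of the closed fibre at which the fibre components have
  dimension `≤ trdeg A C`, and `g ∈ 𝔮` vanishing on no component of the fibre through `𝔮`, there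
  is a prime `𝔭 ≤ 𝔮` containing `g` with `𝔭 ∩ A = 0`.
* `exists_horizontal_prime_of_valuationRing`: the same over a valuation ring, where the dimension
  hypothesis is automatic.
-/

set_option autoImplicit false
universe u
open IsLocalRing

namespace Groth.Agent.Lib.Helper8.CoreMain

open Groth.Agent.Lib.Helper12 Groth.Agent.Lib.Helper8.EssLocDim

theorem exists_horizontal_prime {A C : Type u} [CommRing A] [IsDomain A] [IsLocalRing A]
    [IsIntegrallyClosed A] [CommRing C] [IsDomain C] [Algebra A C] [Algebra.FiniteType A C]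
    (hinj : Function.Injective (algebraMap A C)) (𝔮 : Ideal C) [𝔮.IsPrime]
    [𝔮.LiesOver (maximalIdeal A)] (g : C) (hg : g ∈ 𝔮)
    (H1 : ∀ (P : Ideal C) [P.IsPrime] [P.LiesOver (maximalIdeal A)], P ≤ 𝔮 →
        Algebra.trdeg (A ⧸ maximalIdeal A) (C ⧸ P) ≤ Algebra.trdeg A C)
    (H2 : ∀ P' ∈ minimalPrimes (C ⧸ mC A C), P' ≤ 𝔮.map (Ideal.Quotient.mk (mC A C)) →
        Ideal.Quotient.mk (mC A C) g ∉ P') :
    ∃ 𝔭 : Ideal C, 𝔭.IsPrime ∧ 𝔭 ≤ 𝔮 ∧ g ∈ 𝔭 ∧ 𝔭.under A = ⊥ := by
  obtain ⟨n, hn⟩ := Cardinal.lt_aleph0.mp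
    (trdeg_lt_aleph0_of_finiteType (R := A) (S := C))
  obtain ⟨s, hgs, hscard, hqf⟩ := CoreQF.exists_quasiFinite_family 𝔮 g hg n
    (fun P _ _ hP => by rw [← hn]; exact H1 P hP) H2
  exact CoreGD.exists_prime_of_quasiFiniteAt hinj 𝔮 (fun i : s => (i : C)) ⟨g, hgs⟩ hg n hn
    (by rw [Nat.card_eq_fintype_card, Fintype.card_coe]; exact hscard) hqf

theorem isIntegrallyClosed_of_valuationRing (V : Type u) [CommRing V] [IsDomain V]
    [ValuationRing V] : IsIntegrallyClosed V := by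
  classical
  letI := IsBezout.toGCDDomain V
  infer_instance

theorem exists_horizontal_prime_of_valuationRing {V C : Type u} [CommRing V] [IsDomain V]
    [ValuationRing V] [CommRing C] [IsDomain C] [Algebra V C] [Algebra.FiniteType V C]
    (hinj : Function.Injective (algebraMap V C)) (𝔮 : Ideal C) [𝔮.IsPrime]
    [𝔮.LiesOver (maximalIdeal V)] (g : C) (hg : g ∈ 𝔮)
    (H2 : ∀ P' ∈ minimalPrimes (C ⧸ mC V C), P' ≤ 𝔮.map (Ideal.Quotient.mk (mC V C)) →
        Ideal.Quotient.mk (mC V C) g ∉ P') :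
    ∃ 𝔭 : Ideal C, 𝔭.IsPrime ∧ 𝔭 ≤ 𝔮 ∧ g ∈ 𝔭 ∧ 𝔭.under V = ⊥ := by
  haveI := isIntegrallyClosed_of_valuationRing V
  exact exists_horizontal_prime hinj 𝔮 g hg
    (fun P _ _ _ => ValDim.trdeg_quotient_le_of_valuationRing' hinj P (maximalIdeal V)) H2

end Groth.Agent.Lib.Helper8.CoreMain
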