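import Mathlib

/-!
# Helper8 library: transcendence degree of a compositum

`trdeg_le_of_adjoin_eq_top`: if `E₁` is generated over `k₁` by the image of `E₀`, then
`trdeg k₁ E₁ ≤ trdeg k₀ E₀`.
-/

set_option autoImplicit false
universe u

namespace Groth.Agent.Lib.Helper8.TrdegComp

theorem trdeg_le_of_adjoin_eq_top {k₀ k₁ E₀ E₁ : Type u} [CommRing k₀] [CommRing k₁]
    [CommRing E₀] [IsDomain E₀] [CommRing E₁] [IsDomain E₁] [Algebra k₀ E₀] [Algebra k₁ E₁]
    (hk₀ : Function.Injective (algebraMap k₀ E₀))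
    (i : k₀ →+* k₁) (j : E₀ →+* E₁) (hj : Function.Injective j)
    (hcomm : ∀ a, j (algebraMap k₀ E₀ a) = algebraMap k₁ E₁ (i a))
    (hgen : Algebra.adjoin k₁ (Set.range j) = ⊤) :
    Algebra.trdeg k₁ E₁ ≤ Algebra.trdeg k₀ E₀ := by
  classical
  haveI : Nontrivial k₀ := RingHom.domain_nontrivial (algebraMap k₀ E₀)
  haveI : FaithfulSMul k₀ E₀ := (faithfulSMul_iff_algebraMap_injective k₀ E₀).mpr hk₀
  obtain ⟨u, hu⟩ := exists_isTranscendenceBasis k₀ E₀
  have hualg : Algebra.IsAlgebraic (Algebra.adjoin k₀ (Set.range ((↑) : u → E₀))) E₀ :=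
    hu.isAlgebraic
  rw [Subtype.range_coe] at hualg
  -- the restriction of `j`
  have hjmem : ∀ x ∈ Algebra.adjoin k₀ u, j x ∈ Algebra.adjoin k₁ (j '' u) := by
    intro x hx
    induction hx using Algebra.adjoin_induction with
    | mem x hx => exact Algebra.subset_adjoin ⟨x, hx, rfl⟩
    | algebraMap r => rw [hcomm]; exact Subalgebra.algebraMap_mem _ _
    | add x y _ _ hx hy => rw [map_add]; exact Subalgebra.add_mem _ hx hy
    | mul x y _ _ hx hy => rw [map_mul]; exact Subalgebra.mul_mem _ hx hy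
  let f : Algebra.adjoin k₀ u →+* Algebra.adjoin k₁ (j '' u) :=
    (j.comp (Algebra.adjoin k₀ u).val.toRingHom).codRestrict _ (fun x => hjmem x.1 x.2)
  have hf : Function.Injective f := by
    intro x y hxy
    have h1 : j x.1 = j y.1 := congrArg Subtype.val hxy
    exact Subtype.ext (hj h1)
  have hsq : RingHom.comp (algebraMap (Algebra.adjoin k₁ (j '' u)) E₁) f =
      RingHom.comp j (algebraMap (Algebra.adjoin k₀ u) E₀) := RingHom.ext fun x => rfl
  haveI : Algebra.IsAlgebraic (Algebra.adjoin k₁ (j '' u)) E₁ := by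
    refine ⟨fun x => ?_⟩
    have hx : x ∈ Algebra.adjoin k₁ (Set.range j) := by rw [hgen]; trivial
    induction hx using Algebra.adjoin_induction with
    | mem x hx =>
      obtain ⟨c, rfl⟩ := hx
      exact (hualg.isAlgebraic c).ringHom_of_comp_eq f j hf hsq
    | algebraMap r =>
      have : algebraMap k₁ E₁ r = algebraMap (Algebra.adjoin k₁ (j '' u)) E₁
          (algebraMap k₁ (Algebra.adjoin k₁ (j '' u)) r) := rfl
      rw [this]
      exact isAlgebraic_algebraMap _
    | add x y _ _ hx hy => exact hx.add hy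
    | mul x y _ _ hx hy => exact hx.mul hy
  have h1 := Algebra.IsAlgebraic.trdeg_le_cardinalMk k₁ (j '' u)
  refine h1.trans ?_
  rw [← hu.cardinalMk_eq_trdeg]
  exact Cardinal.mk_image_le

end Groth.Agent.Lib.Helper8.TrdegComp
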