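import Mathlib

/-!
# Helper8 library: a valuation ring model of a finite type domain around a prime

`exists_valuation_model`: for a domain `C` of finite type over a subdomain `A` and a prime `𝔮` of
`C` there are a valuation ring `V` of the fraction field of `A` and the `V`-subalgebra `C₁ = V[C]`
of the fraction field of `C`, with a prime `𝔮₁` of `C₁` over `𝔮` and over the maximal ideal of `V`.
-/

set_option autoImplicit false
universe u
open IsLocalRing

namespace Groth.Agent.Lib.Helper8.ValModel

/-- Units of a valuation subring. -/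
theorem isUnit_iff_inv_mem {F : Type*} [Field F] (W : ValuationSubring F) (x : W) :
    IsUnit x ↔ (x : F) ≠ 0 ∧ (x : F)⁻¹ ∈ W := by
  constructor
  · intro h
    obtain ⟨y, hy⟩ := h.exists_right_inv
    have h1 : (x : F) * (y : F) = 1 := by
      have := congrArg Subtype.val hy
      simpa using this
    have hx0 : (x : F) ≠ 0 := left_ne_zero_of_mul_eq_one h1
    refine ⟨hx0, ?_⟩
    have : (x : F)⁻¹ = y := inv_eq_of_mul_eq_one_right h1
    rw [this]; exact y.2
  · rintro ⟨hx0, hinv⟩
    refine IsUnit.of_mul_eq_one ⟨(x : F)⁻¹, hinv⟩ ?_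
    apply Subtype.ext
    show (x : F) * (x : F)⁻¹ = 1
    exact mul_inv_cancel₀ hx0

theorem mem_maximalIdeal_iff_of_isLocalHom {R S : Type*} [CommRing R] [CommRing S]
    [IsLocalRing R] [IsLocalRing S] (φ : R →+* S) [IsLocalHom φ] (x : R) :
    φ x ∈ maximalIdeal S ↔ x ∈ maximalIdeal R := by
  rw [mem_maximalIdeal, mem_maximalIdeal, mem_nonunits_iff, mem_nonunits_iff, isUnit_map_iff]

theorem exists_valuation_model {A C : Type u} [CommRing A] [IsDomain A] [CommRing C] [IsDomain C]
    [Algebra A C] [Algebra.FiniteType A C] (hinj : Function.Injective (algebraMap A C))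
    (𝔮 : Ideal C) [𝔮.IsPrime] :
    ∃ (V : Type u) (_ : CommRing V) (_ : IsDomain V) (_ : ValuationRing V)
      (C₁ : Type u) (_ : CommRing C₁) (_ : IsDomain C₁) (_ : Algebra V C₁)
      (_ : Algebra.FiniteType V C₁) (i : A →+* V) (j : C →+* C₁) (𝔮₁ : Ideal C₁),
      Function.Injective (algebraMap V C₁) ∧ Function.Injective i ∧ Function.Injective j ∧
      (∀ a, j (algebraMap A C a) = algebraMap V C₁ (i a)) ∧
      𝔮₁.IsPrime ∧ 𝔮₁.under V = maximalIdeal V ∧ 𝔮₁.comap j = 𝔮 ∧
      Algebra.adjoin V (Set.range j) = ⊤ ∧
      (∀ x : V, ∃ a b : A, b ≠ 0 ∧ i b * x = i a) ∧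
      Algebra.trdeg V C₁ = Algebra.trdeg A C := by
  classical
  haveI : FaithfulSMul A C := (faithfulSMul_iff_algebraMap_injective A C).mpr hinj
  haveI : FaithfulSMul A (FractionRing C) := by
    rw [faithfulSMul_iff_algebraMap_injective, IsScalarTower.algebraMap_eq A C (FractionRing C)]
    exact (IsFractionRing.injective C (FractionRing C)).comp hinj
  letI : Algebra (FractionRing A) (FractionRing C) := FractionRing.liftAlgebra A (FractionRing C)
  haveI : IsScalarTower A (FractionRing A) (FractionRing C) :=
    FractionRing.isScalarTower_liftAlgebra A (FractionRing C)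
  -- the valuation ring dominating the local ring at `𝔮`
  have hunit : ∀ y : 𝔮.primeCompl, IsUnit (algebraMap C (FractionRing C) y) := by
    intro y
    refine IsUnit.mk0 _ ?_
    rw [Ne, IsFractionRing.to_map_eq_zero_iff]
    intro h0
    exact y.2 (h0 ▸ zero_mem _)
  let fB : Localization.AtPrime 𝔮 →+* FractionRing C := IsLocalization.lift hunit
  have hfB : ∀ c : C, fB (algebraMap C (Localization.AtPrime 𝔮) c) =
      algebraMap C (FractionRing C) c := fun c => IsLocalization.lift_eq hunit c
  obtain ⟨W, hW, hWloc⟩ := IsLocalRing.exists_factor_valuationRing fB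
  have hCW : ∀ c : C, algebraMap C (FractionRing C) c ∈ W := fun c => by
    rw [← hfB]; exact hW _
  let V : ValuationSubring (FractionRing A) := W.comap (algebraMap (FractionRing A) (FractionRing C))
  letI : Algebra V (FractionRing C) :=
    ((algebraMap (FractionRing A) (FractionRing C)).comp (algebraMap V (FractionRing A))).toAlgebra
  haveI : IsScalarTower V (FractionRing A) (FractionRing C) :=
    IsScalarTower.of_algebraMap_eq (fun x => rfl)
  have hVL : ∀ v : V, algebraMap V (FractionRing C) v =
      algebraMap (FractionRing A) (FractionRing C) (v : FractionRing A) := fun v => rfl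
  have hVW : ∀ v : V, algebraMap V (FractionRing C) v ∈ W := fun v => by
    rw [hVL]; exact ValuationSubring.mem_comap.mp v.2
  have hAV : ∀ a : A, algebraMap A (FractionRing A) a ∈ V.toSubring := by
    intro a
    show algebraMap A (FractionRing A) a ∈ V
    rw [ValuationSubring.mem_comap, ← IsScalarTower.algebraMap_apply A (FractionRing A),
      IsScalarTower.algebraMap_apply A C (FractionRing C)]
    exact hCW _
  let i : A →+* V := (algebraMap A (FractionRing A)).codRestrict V.toSubring hAV
  have hi : ∀ a, ((i a : V) : FractionRing A) = algebraMap A (FractionRing A) a := fun a => rfl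
  have hiinj : Function.Injective i := by
    intro a b hab
    apply IsFractionRing.injective A (FractionRing A)
    rw [← hi, ← hi, hab]
  -- the algebra `C₁`
  let C₁ : Subalgebra V (FractionRing C) :=
    Algebra.adjoin V (Set.range (algebraMap C (FractionRing C)))
  have hjmem : ∀ c, algebraMap C (FractionRing C) c ∈ C₁ := fun c =>
    Algebra.subset_adjoin ⟨c, rfl⟩
  let j : C →+* C₁ := (algebraMap C (FractionRing C)).codRestrict C₁ hjmem
  have hj : ∀ c, ((j c : C₁) : FractionRing C) = algebraMap C (FractionRing C) c := fun c => rfl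
  have hjinj : Function.Injective j := by
    intro a b hab
    apply IsFractionRing.injective C (FractionRing C)
    rw [← hj, ← hj, hab]
  have hji : ∀ a, j (algebraMap A C a) = algebraMap V C₁ (i a) := by
    intro a
    apply Subtype.ext
    show algebraMap C (FractionRing C) (algebraMap A C a) =
      algebraMap (FractionRing A) (FractionRing C) (algebraMap A (FractionRing A) a)
    rw [← IsScalarTower.algebraMap_apply, ← IsScalarTower.algebraMap_apply]
  haveI hFT : Algebra.FiniteType V C₁ := by
    obtain ⟨t, ht⟩ := (Algebra.FiniteType.out : (⊤ : Subalgebra A C).FG)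
    have hC₁ : C₁ = Algebra.adjoin V ((algebraMap C (FractionRing C)) '' (t : Set C)) := by
      apply le_antisymm
      · apply Algebra.adjoin_le
        rintro _ ⟨c, rfl⟩
        have hc : c ∈ Algebra.adjoin A (t : Set C) := by rw [ht]; trivial
        induction hc using Algebra.adjoin_induction with
        | mem x hx => exact Algebra.subset_adjoin ⟨x, hx, rfl⟩
        | algebraMap a =>
          have h1 : algebraMap C (FractionRing C) (algebraMap A C a) =
              algebraMap V (FractionRing C) (i a) := congrArg Subtype.val (hji a)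
          rw [h1]
          exact Subalgebra.algebraMap_mem _ _
        | add x y _ _ hx hy => rw [map_add]; exact Subalgebra.add_mem _ hx hy
        | mul x y _ _ hx hy => rw [map_mul]; exact Subalgebra.mul_mem _ hx hy
      · exact Algebra.adjoin_mono (Set.image_subset_range _ _)
    rw [← Subalgebra.fg_iff_finiteType, hC₁]
    exact Subalgebra.fg_def.mpr ⟨_, t.finite_toSet.image _, rfl⟩
  have hC₁W : ∀ x ∈ C₁, x ∈ W := by
    intro x hx
    induction hx using Algebra.adjoin_induction with
    | mem x hx => obtain ⟨c, rfl⟩ := hx; exact hCW c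
    | algebraMap v => exact hVW v
    | add x y _ _ hx hy => exact W.add_mem _ _ hx hy
    | mul x y _ _ hx hy => exact W.mul_mem _ _ hx hy
  let ι₁ : C₁ →+* W := (C₁.val.toRingHom).codRestrict W.toSubring (fun x => hC₁W x.1 x.2)
  let 𝔮₁ : Ideal C₁ := (maximalIdeal W).comap ι₁
  haveI h𝔮₁ : 𝔮₁.IsPrime := Ideal.comap_isPrime _ _
  have hVC₁inj : Function.Injective (algebraMap V C₁) := by
    intro a b hab
    have h1 : algebraMap V (FractionRing C) a = algebraMap V (FractionRing C) b :=
      congrArg Subtype.val hab
    rw [hVL, hVL] at h1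
    exact Subtype.ext ((algebraMap (FractionRing A) (FractionRing C)).injective h1)
  have hfrac : ∀ x : V, ∃ a b : A, b ≠ 0 ∧ i b * x = i a := by
    intro x
    obtain ⟨⟨a, b⟩, hab⟩ := IsLocalization.surj (nonZeroDivisors A) (x : FractionRing A)
    refine ⟨a, b, nonZeroDivisors.ne_zero b.2, ?_⟩
    apply Subtype.ext
    show algebraMap A (FractionRing A) b * (x : FractionRing A) = algebraMap A (FractionRing A) a
    rw [mul_comm]; exact hab
  refine ⟨V, inferInstance, inferInstance, inferInstance, C₁, inferInstance, inferInstance,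
    inferInstance, hFT, i, j, 𝔮₁, hVC₁inj, hiinj, hjinj, hji, h𝔮₁, ?_, ?_, ?_, hfrac, ?_⟩
  · -- `𝔮₁` lies over the maximal ideal of `V`
    ext v
    rw [Ideal.under_def, Ideal.mem_comap]
    show ι₁ (algebraMap V C₁ v) ∈ maximalIdeal W ↔ _
    rw [mem_maximalIdeal, mem_maximalIdeal, mem_nonunits_iff, mem_nonunits_iff, not_iff_not,
      isUnit_iff_inv_mem, isUnit_iff_inv_mem]
    have h1 : ((ι₁ (algebraMap V C₁ v) : W) : FractionRing C) =
        algebraMap (FractionRing A) (FractionRing C) (v : FractionRing A) := rfl
    rw [h1, ← map_inv₀, ← ValuationSubring.mem_comap, map_ne_zero]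
  · -- `𝔮₁ ∩ C = 𝔮`
    ext c
    rw [Ideal.mem_comap]
    show ι₁ (j c) ∈ maximalIdeal W ↔ _
    have h1 : ι₁ (j c) = (fB.codRestrict W.toSubring hW) (algebraMap C (Localization.AtPrime 𝔮) c) := by
      apply Subtype.ext
      show algebraMap C (FractionRing C) c = fB _
      rw [hfB]
    rw [h1, mem_maximalIdeal_iff_of_isLocalHom, IsLocalization.AtPrime.to_map_mem_maximal_iff _ 𝔮]
  · -- generation
    have h1 := Algebra.adjoin_adjoin_coe_preimage (R := V)
      (s := Set.range (algebraMap C (FractionRing C)))
    have h2 : ((↑) : C₁ → FractionRing C) ⁻¹' (Set.range (algebraMap C (FractionRing C))) =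
        Set.range j := by
      ext x
      constructor
      · rintro ⟨c, hc⟩
        exact ⟨c, Subtype.ext hc⟩
      · rintro ⟨c, rfl⟩
        exact ⟨c, rfl⟩
    rw [← h2]
    exact h1
  · -- transcendence degrees
    letI : Algebra A V := i.toAlgebra
    letI : Algebra C C₁ := j.toAlgebra
    haveI : IsScalarTower A V (FractionRing C) := IsScalarTower.of_algebraMap_eq
      (fun a => IsScalarTower.algebraMap_apply A (FractionRing A) (FractionRing C) a)
    haveI : IsScalarTower C C₁ (FractionRing C) := IsScalarTower.of_algebraMap_eq (fun c => rfl)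
    haveI : FaithfulSMul A V := (faithfulSMul_iff_algebraMap_injective A V).mpr hiinj
    haveI : FaithfulSMul V (FractionRing C) := by
      rw [faithfulSMul_iff_algebraMap_injective]
      intro a b hab
      rw [hVL, hVL] at hab
      exact Subtype.ext ((algebraMap (FractionRing A) (FractionRing C)).injective hab)
    haveI : FaithfulSMul V C₁ := (faithfulSMul_iff_algebraMap_injective V C₁).mpr hVC₁inj
    haveI : FaithfulSMul C₁ (FractionRing C) :=
      (faithfulSMul_iff_algebraMap_injective C₁ (FractionRing C)).mpr Subtype.val_injective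
    haveI : Algebra.IsAlgebraic C (FractionRing C) :=
      IsLocalization.isAlgebraic _ (nonZeroDivisors C)
    haveI : Algebra.IsAlgebraic C₁ (FractionRing C) :=
      Algebra.IsAlgebraic.extendScalars (R := C) hjinj
    haveI : Algebra.IsAlgebraic A V := by
      refine ⟨fun x => ?_⟩
      obtain ⟨a, b, hb, hab⟩ := hfrac x
      refine ⟨Polynomial.C b * Polynomial.X - Polynomial.C a, ?_, ?_⟩
      · intro h0
        have h1 : (Polynomial.C b * Polynomial.X - Polynomial.C a : Polynomial A).coeff 1 = b := by
          rw [Polynomial.coeff_sub, Polynomial.coeff_C_mul, Polynomial.coeff_X_one, mul_one,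
            Polynomial.coeff_C_ne_zero one_ne_zero, sub_zero]
        rw [h0, Polynomial.coeff_zero] at h1
        exact hb h1.symm
      · rw [map_sub, map_mul, Polynomial.aeval_C, Polynomial.aeval_C, Polynomial.aeval_X]
        exact sub_eq_zero.mpr hab
    have h1 := trdeg_add_eq A C (A := FractionRing C)
    have h2 := trdeg_add_eq A V (A := FractionRing C)
    have h3 := trdeg_add_eq V C₁ (A := FractionRing C)
    rw [trdeg_eq_zero (R := C) (A := FractionRing C), add_zero] at h1
    rw [trdeg_eq_zero (R := A) (A := V), zero_add] at h2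
    rw [trdeg_eq_zero (R := C₁) (A := FractionRing C), add_zero] at h3
    rw [h3, h2, h1]

end Groth.Agent.Lib.Helper8.ValModel
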