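import Mathlib
import Groth.Agent.Lib.Helper8.CoreMain
import Groth.Agent.Lib.Helper8.TrdegComp
import Groth.Agent.Lib.Helper8.ValModel
import Groth.Agent.Lib.Helper12.ValDim4

/-!
# Helper8 library: horizontal components of hypersurfaces, general local base

`exists_horizontal_prime_general`: the statement of `CoreMain.exists_horizontal_prime` without
the hypothesis that the local base domain is integrally closed; it is reduced to the case of a
valuation ring through `ValModel.exists_valuation_model`.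
-/

set_option autoImplicit false
universe u
open IsLocalRing

namespace Groth.Agent.Lib.Helper8.CoreGen

open Groth.Agent.Lib.Helper12 Groth.Agent.Lib.Helper8.EssLocDim

/-- Residue transcendence degrees do not go up along a "model" map `(A, C) → (V, C₁)` with `C₁`
generated over `V` by the image of `C`. -/
theorem trdeg_quotient_le_of_model {A C V C₁ : Type u} [CommRing A] [CommRing C] [Algebra A C]
    [CommRing V] [CommRing C₁] [Algebra V C₁]
    (i : A →+* V) (j : C →+* C₁)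
    (hcomm : ∀ a, j (algebraMap A C a) = algebraMap V C₁ (i a))
    (hgen : Algebra.adjoin V (Set.range j) = ⊤)
    (𝔪 : Ideal A) (𝔫 : Ideal V) (P₁ : Ideal C₁) [P₁.IsPrime] [P₁.LiesOver 𝔫]
    [(P₁.comap j).LiesOver 𝔪] (h𝔪 : 𝔪 ≤ 𝔫.comap i) :
    Algebra.trdeg (V ⧸ 𝔫) (C₁ ⧸ P₁) ≤ Algebra.trdeg (A ⧸ 𝔪) (C ⧸ P₁.comap j) := by
  haveI : (P₁.comap j).IsPrime := Ideal.comap_isPrime _ _
  refine TrdegComp.trdeg_le_of_adjoin_eq_top (k₀ := A ⧸ 𝔪) (k₁ := V ⧸ 𝔫)
    (E₀ := C ⧸ P₁.comap j) (E₁ := C₁ ⧸ P₁)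
    (FaithfulSMul.algebraMap_injective _ _) (Ideal.quotientMap 𝔫 i h𝔪)
    (Ideal.quotientMap P₁ j le_rfl) (Ideal.quotientMap_injective' le_rfl) ?_ ?_
  · intro a
    obtain ⟨a, rfl⟩ := Ideal.Quotient.mk_surjective a
    rw [Ideal.Quotient.algebraMap_mk_of_liesOver, Ideal.quotientMap_mk, Ideal.quotientMap_mk,
      Ideal.Quotient.algebraMap_mk_of_liesOver, hcomm]
  · rw [eq_top_iff]
    rintro x -
    obtain ⟨y, rfl⟩ := Ideal.Quotient.mk_surjective x
    have hy : y ∈ Algebra.adjoin V (Set.range j) := by rw [hgen]; trivial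
    induction hy using Algebra.adjoin_induction with
    | mem y hy =>
      obtain ⟨c, rfl⟩ := hy
      exact Algebra.subset_adjoin ⟨Ideal.Quotient.mk _ c, Ideal.quotientMap_mk⟩
    | algebraMap v =>
      rw [← Ideal.Quotient.algebraMap_mk_of_liesOver P₁ 𝔫]
      exact Subalgebra.algebraMap_mem _ _
    | add x y _ _ hx hy => rw [map_add]; exact Subalgebra.add_mem _ hx hy
    | mul x y _ _ hx hy => rw [map_mul]; exact Subalgebra.mul_mem _ hx hy

theorem exists_horizontal_prime_general {A C : Type u} [CommRing A] [IsDomain A] [IsLocalRing A]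
    [CommRing C] [IsDomain C] [Algebra A C] [Algebra.FiniteType A C]
    (hinj : Function.Injective (algebraMap A C)) (𝔮 : Ideal C) [𝔮.IsPrime]
    [𝔮.LiesOver (maximalIdeal A)] (g : C) (hg : g ∈ 𝔮)
    (H1 : ∀ (P : Ideal C) [P.IsPrime] [P.LiesOver (maximalIdeal A)], P ≤ 𝔮 →
        Algebra.trdeg (A ⧸ maximalIdeal A) (C ⧸ P) ≤ Algebra.trdeg A C)
    (H2 : ∀ P' ∈ minimalPrimes (C ⧸ mC A C), P' ≤ 𝔮.map (Ideal.Quotient.mk (mC A C)) →
        Ideal.Quotient.mk (mC A C) g ∉ P') :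
    ∃ 𝔭 : Ideal C, 𝔭.IsPrime ∧ 𝔭 ≤ 𝔮 ∧ g ∈ 𝔭 ∧ 𝔭.under A = ⊥ := by
  obtain ⟨V, _, _, _, C₁, _, _, _, _, i, j, 𝔮₁, hVinj, hi, hj, hcomm, h𝔮₁, h𝔮₁V, h𝔮₁j, hgen,
    hfrac, htr⟩ := ValModel.exists_valuation_model hinj 𝔮
  haveI := h𝔮₁
  haveI : 𝔮₁.LiesOver (maximalIdeal V) := ⟨h𝔮₁V.symm⟩
  -- the maximal ideal of `A` is the preimage of that of `V`
  have hunder : ∀ P₁ : Ideal C₁, (P₁.comap j).under A = (P₁.under V).comap i := by
    intro P₁
    ext a
    simp only [Ideal.under_def, Ideal.mem_comap, hcomm]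
  have hmA : maximalIdeal A = (maximalIdeal V).comap i := by
    rw [Ideal.over_def 𝔮 (maximalIdeal A), ← h𝔮₁j, hunder, h𝔮₁V]
  have hsurjA : Function.Surjective (Ideal.Quotient.mk (mC A C)) := Ideal.Quotient.mk_surjective
  have hsurjV : Function.Surjective (Ideal.Quotient.mk (mC V C₁)) := Ideal.Quotient.mk_surjective
  have H2' : ∀ P₁' ∈ minimalPrimes (C₁ ⧸ mC V C₁),
      P₁' ≤ 𝔮₁.map (Ideal.Quotient.mk (mC V C₁)) →
        Ideal.Quotient.mk (mC V C₁) (j g) ∉ P₁' := by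
    intro P₁' hP₁' hle hmem
    haveI hP₁'prime : P₁'.IsPrime := hP₁'.1.1
    set P₁ : Ideal C₁ := P₁'.comap (Ideal.Quotient.mk (mC V C₁)) with hP₁def
    haveI hP₁prime : P₁.IsPrime := Ideal.comap_isPrime _ _
    have hmCP₁ : mC V C₁ ≤ P₁ := le_comap_mk P₁'
    haveI hP₁over : P₁.LiesOver (maximalIdeal V) := liesOver_of_map_le P₁ hmCP₁
    have hP₁q : P₁ ≤ 𝔮₁ := by
      have h1 : P₁ ≤ (𝔮₁.map (Ideal.Quotient.mk (mC V C₁))).comap (Ideal.Quotient.mk _) :=
        Ideal.comap_mono hle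
      rw [Ideal.comap_map_of_surjective _ hsurjV, ← RingHom.ker_eq_comap_bot, Ideal.mk_ker,
        sup_eq_left.mpr (map_le_of_liesOver 𝔮₁)] at h1
      exact h1
    set P : Ideal C := P₁.comap j with hPdef
    haveI hPprime : P.IsPrime := Ideal.comap_isPrime _ _
    have hPq : P ≤ 𝔮 := by rw [← h𝔮₁j]; exact Ideal.comap_mono hP₁q
    haveI hPover : P.LiesOver (maximalIdeal A) := by
      refine ⟨?_⟩
      rw [hPdef, hunder, ← Ideal.over_def P₁ (maximalIdeal V), hmA]
    -- minimality of `P₁` in its fibre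
    have hminP₁ : ∀ Z : Ideal C₁, Z.IsPrime → Z < P₁ → Z.under V ≠ P₁.under V := by
      intro Z hZ hlt heq
      haveI := hZ
      haveI : Z.LiesOver (maximalIdeal V) := ⟨by rw [heq]; exact Ideal.over_def P₁ _⟩
      have hmCZ : mC V C₁ ≤ Z := map_le_of_liesOver Z
      have hZ'prime : (Z.map (Ideal.Quotient.mk (mC V C₁))).IsPrime := by
        apply Ideal.map_isPrime_of_surjective hsurjV
        rw [Ideal.mk_ker]; exact hmCZ
      have hZ'le : Z.map (Ideal.Quotient.mk (mC V C₁)) ≤ P₁' := by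
        rw [← Ideal.map_comap_of_surjective _ hsurjV P₁']
        exact Ideal.map_mono hlt.le
      have h2 : P₁' ≤ Z.map (Ideal.Quotient.mk (mC V C₁)) :=
        hP₁'.2 ⟨hZ'prime, bot_le⟩ hZ'le
      have h3 : P₁ ≤ Z := by
        have h4 : P₁ ≤ (Z.map (Ideal.Quotient.mk (mC V C₁))).comap (Ideal.Quotient.mk _) :=
          Ideal.comap_mono h2
        rw [Ideal.comap_map_of_surjective _ hsurjV, ← RingHom.ker_eq_comap_bot, Ideal.mk_ker,
          sup_eq_left.mpr hmCZ] at h4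
        exact h4
      exact absurd hlt (not_lt_of_ge h3)
    -- the chain of inequalities
    have hc1 : Algebra.trdeg V C₁ ≤ Algebra.trdeg (V ⧸ maximalIdeal V) (C₁ ⧸ P₁) := by
      rw [ValDim.trdeg_quotient_liesOver_eq P₁ (maximalIdeal V)]
      exact ValDim.trdeg_le_trdeg_quotient_of_minimal hVinj P₁ hminP₁
    have hc2 : Algebra.trdeg (V ⧸ maximalIdeal V) (C₁ ⧸ P₁) ≤
        Algebra.trdeg (A ⧸ maximalIdeal A) (C ⧸ P) :=
      trdeg_quotient_le_of_model i j hcomm hgen (maximalIdeal A) (maximalIdeal V) P₁ hmA.le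
    have hc3 : Algebra.trdeg (A ⧸ maximalIdeal A) (C ⧸ P) ≤ Algebra.trdeg A C := H1 P hPq
    have hPeq : Algebra.trdeg (A ⧸ maximalIdeal A) (C ⧸ P) = Algebra.trdeg A C :=
      le_antisymm hc3 (by rw [← htr]; exact hc1.trans hc2)
    -- `P` gives a minimal prime of the closed fibre of `C`
    have hmCP : mC A C ≤ P := map_le_of_liesOver P
    have hP'prime : (P.map (Ideal.Quotient.mk (mC A C))).IsPrime := by
      apply Ideal.map_isPrime_of_surjective hsurjA
      rw [Ideal.mk_ker]; exact hmCP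
    have hP'comap : (P.map (Ideal.Quotient.mk (mC A C))).comap (Ideal.Quotient.mk _) = P := by
      rw [Ideal.comap_map_of_surjective _ hsurjA, ← RingHom.ker_eq_comap_bot, Ideal.mk_ker]
      exact sup_eq_left.mpr hmCP
    have hP'min : P.map (Ideal.Quotient.mk (mC A C)) ∈ minimalPrimes (C ⧸ mC A C) := by
      refine ⟨⟨hP'prime, bot_le⟩, ?_⟩
      rintro Z' ⟨hZ'prime, -⟩ hZ'le
      haveI := hZ'prime
      set Z : Ideal C := Z'.comap (Ideal.Quotient.mk (mC A C)) with hZdef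
      haveI hZprime : Z.IsPrime := Ideal.comap_isPrime _ _
      haveI hZover : Z.LiesOver (maximalIdeal A) := liesOver_of_map_le Z (le_comap_mk Z')
      have hZP : Z ≤ P := by
        rw [← hP'comap]; exact Ideal.comap_mono hZ'le
      rcases eq_or_lt_of_le hZP with heq | hlt
      · rw [← heq, hZdef, Ideal.map_comap_of_surjective _ hsurjA]
      · exfalso
        obtain ⟨a, b, ha, hb, hab⟩ := ValDim.trdeg_lt_of_lt_of_liesOver (maximalIdeal A) Z P hlt
        have h5 := H1 Z (hZP.trans hPq)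
        rw [← hPeq, ha, hb] at h5
        have : a ≤ b := by exact_mod_cast h5
        omega
    refine H2 _ hP'min (Ideal.map_mono hPq) ?_
    apply Ideal.mem_map_of_mem
    change j g ∈ P₁
    exact hmem
  obtain ⟨𝔭₁, h𝔭₁, h𝔭₁le, hgmem, hbot⟩ := CoreMain.exists_horizontal_prime_of_valuationRing hVinj
    𝔮₁ (j g) (by rw [← h𝔮₁j] at hg; exact hg) H2'
  haveI := h𝔭₁
  refine ⟨𝔭₁.comap j, Ideal.comap_isPrime _ _, ?_, hgmem, ?_⟩
  · rw [← h𝔮₁j]; exact Ideal.comap_mono h𝔭₁le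
  · rw [hunder, hbot, ← RingHom.ker_eq_comap_bot]
    exact (RingHom.injective_iff_ker_eq_bot i).mp hi

end Groth.Agent.Lib.Helper8.CoreGen
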