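import Mathlib
import Groth.Agent.Lib.Helper8.CoreGen

/-!
# Helper8 library: horizontal components of hypersurfaces, base not necessarily local

`exists_horizontal_prime_of_domain`: the statement of `CoreGen.exists_horizontal_prime_general`
with the fibre conditions expressed through `Ideal.under`, for an arbitrary base domain.
-/

set_option autoImplicit false
universe u
open IsLocalRing

namespace Groth.Agent.Lib.Helper8.CoreNL

open Groth.Agent.Lib.Helper12 Groth.Agent.Lib.Helper8.EssLocDim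

theorem exists_horizontal_prime_of_domain {A C : Type u} [CommRing A] [IsDomain A]
    [CommRing C] [IsDomain C] [Algebra A C] [Algebra.FiniteType A C]
    (hinj : Function.Injective (algebraMap A C)) (𝔮 : Ideal C) [𝔮.IsPrime] (g : C) (hg : g ∈ 𝔮)
    (H1 : ∀ (P : Ideal C) [P.IsPrime], P ≤ 𝔮 → P.under A = 𝔮.under A →
        Algebra.trdeg (A ⧸ P.under A) (C ⧸ P) ≤ Algebra.trdeg A C)
    (H2 : ∀ (P : Ideal C) [P.IsPrime], P ≤ 𝔮 → P.under A = 𝔮.under A →
        (∀ Z : Ideal C, Z.IsPrime → Z < P → Z.under A ≠ P.under A) → g ∉ P) :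
    ∃ 𝔭 : Ideal C, 𝔭.IsPrime ∧ 𝔭 ≤ 𝔮 ∧ g ∈ 𝔭 ∧ 𝔭.under A = ⊥ := by
  obtain ⟨V, _, _, _, C₁, _, _, _, _, i, j, 𝔮₁, hVinj, hi, hj, hcomm, h𝔮₁, h𝔮₁V, h𝔮₁j, hgen,
    hfrac, htr⟩ := ValModel.exists_valuation_model hinj 𝔮
  haveI := h𝔮₁
  haveI : 𝔮₁.LiesOver (maximalIdeal V) := ⟨h𝔮₁V.symm⟩
  subst h𝔮₁j
  have hunder : ∀ P₁ : Ideal C₁, (P₁.comap j).under A = (P₁.under V).comap i := by
    intro P₁
    ext a
    simp only [Ideal.under_def, Ideal.mem_comap, hcomm]
  have hsurjV : Function.Surjective (Ideal.Quotient.mk (mC V C₁)) := Ideal.Quotient.mk_surjective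
  have H2' : ∀ P₁' ∈ minimalPrimes (C₁ ⧸ mC V C₁),
      P₁' ≤ 𝔮₁.map (Ideal.Quotient.mk (mC V C₁)) →
        Ideal.Quotient.mk (mC V C₁) (j g) ∉ P₁' := by
    intro P₁' hP₁' hle hmem
    haveI hP₁'prime : P₁'.IsPrime := hP₁'.1.1
    set P₁ : Ideal C₁ := P₁'.comap (Ideal.Quotient.mk (mC V C₁)) with hP₁def
    haveI hP₁prime : P₁.IsPrime := Ideal.comap_isPrime _ _
    have hmCP₁ : mC V C₁ ≤ P₁ := le_comap_mk P₁'
    haveI hP₁over : P₁.LiesOver (maximalIdeal V) := liesOver_of_map_le P₁ hmCP₁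
    have hP₁q : P₁ ≤ 𝔮₁ := by
      have h1 : P₁ ≤ (𝔮₁.map (Ideal.Quotient.mk (mC V C₁))).comap (Ideal.Quotient.mk _) :=
        Ideal.comap_mono hle
      rw [Ideal.comap_map_of_surjective _ hsurjV, ← RingHom.ker_eq_comap_bot, Ideal.mk_ker,
        sup_eq_left.mpr (map_le_of_liesOver 𝔮₁)] at h1
      exact h1
    haveI hPprime : (P₁.comap j).IsPrime := Ideal.comap_isPrime _ _
    have hPq : P₁.comap j ≤ 𝔮₁.comap j := Ideal.comap_mono hP₁q
    have hPunderV : (P₁.comap j).under A = (maximalIdeal V).comap i := by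
      rw [hunder, ← Ideal.over_def P₁ (maximalIdeal V)]
    have hPunder : (P₁.comap j).under A = (𝔮₁.comap j).under A := by
      rw [hPunderV, hunder, h𝔮₁V]
    -- minimality of `P₁` in its fibre
    have hminP₁ : ∀ Z : Ideal C₁, Z.IsPrime → Z < P₁ → Z.under V ≠ P₁.under V := by
      intro Z hZ hlt heq
      haveI := hZ
      haveI : Z.LiesOver (maximalIdeal V) := ⟨by rw [heq]; exact Ideal.over_def P₁ _⟩
      have hmCZ : mC V C₁ ≤ Z := map_le_of_liesOver Z
      have hZ'prime : (Z.map (Ideal.Quotient.mk (mC V C₁))).IsPrime := by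
        apply Ideal.map_isPrime_of_surjective hsurjV
        rw [Ideal.mk_ker]; exact hmCZ
      have hZ'le : Z.map (Ideal.Quotient.mk (mC V C₁)) ≤ P₁' := by
        rw [← Ideal.map_comap_of_surjective _ hsurjV P₁']
        exact Ideal.map_mono hlt.le
      have h2 : P₁' ≤ Z.map (Ideal.Quotient.mk (mC V C₁)) :=
        hP₁'.2 ⟨hZ'prime, bot_le⟩ hZ'le
      have h3 : P₁ ≤ Z := by
        have h4 : P₁ ≤ (Z.map (Ideal.Quotient.mk (mC V C₁))).comap (Ideal.Quotient.mk _) :=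
          Ideal.comap_mono h2
        rw [Ideal.comap_map_of_surjective _ hsurjV, ← RingHom.ker_eq_comap_bot, Ideal.mk_ker,
          sup_eq_left.mpr hmCZ] at h4
        exact h4
      exact absurd hlt (not_lt_of_ge h3)
    -- the chain of inequalities
    have hc1 : Algebra.trdeg V C₁ ≤ Algebra.trdeg (V ⧸ maximalIdeal V) (C₁ ⧸ P₁) := by
      rw [ValDim.trdeg_quotient_liesOver_eq P₁ (maximalIdeal V)]
      exact ValDim.trdeg_le_trdeg_quotient_of_minimal hVinj P₁ hminP₁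
    have hc2 : Algebra.trdeg (V ⧸ maximalIdeal V) (C₁ ⧸ P₁) ≤
        Algebra.trdeg (A ⧸ (P₁.comap j).under A) (C ⧸ P₁.comap j) :=
      CoreGen.trdeg_quotient_le_of_model i j hcomm hgen ((P₁.comap j).under A) (maximalIdeal V)
        P₁ hPunderV.le
    have hc3 : Algebra.trdeg (A ⧸ (P₁.comap j).under A) (C ⧸ P₁.comap j) ≤ Algebra.trdeg A C :=
      H1 (P₁.comap j) hPq hPunder
    have hPeq : Algebra.trdeg (A ⧸ (P₁.comap j).under A) (C ⧸ P₁.comap j) = Algebra.trdeg A C :=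
      le_antisymm hc3 (by rw [← htr]; exact hc1.trans hc2)
    -- minimality of `P` in its fibre
    have hPmin : ∀ Z : Ideal C, Z.IsPrime → Z < P₁.comap j →
        Z.under A ≠ (P₁.comap j).under A := by
      intro Z hZ hlt heq
      haveI := hZ
      haveI : Z.LiesOver ((P₁.comap j).under A) := ⟨heq.symm⟩
      obtain ⟨a, b, ha, hb, hab⟩ :=
        ValDim.trdeg_lt_of_lt_of_liesOver ((P₁.comap j).under A) Z (P₁.comap j) hlt
      have h5 := H1 Z (hlt.le.trans hPq) (heq.trans hPunder)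
      have h6 : Algebra.trdeg (A ⧸ (P₁.comap j).under A) (C ⧸ Z) ≤ Algebra.trdeg A C :=
        (ValDim.trdeg_quotient_liesOver_eq Z ((P₁.comap j).under A)).le.trans h5
      rw [ha, ← hPeq, hb] at h6
      have : a ≤ b := by exact_mod_cast h6
      omega
    exact H2 (P₁.comap j) hPq hPunder hPmin hmem
  obtain ⟨𝔭₁, h𝔭₁, h𝔭₁le, hgmem, hbot⟩ := CoreMain.exists_horizontal_prime_of_valuationRing hVinj
    𝔮₁ (j g) hg H2'
  haveI := h𝔭₁
  refine ⟨𝔭₁.comap j, Ideal.comap_isPrime _ _, Ideal.comap_mono h𝔭₁le, hgmem, ?_⟩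
  rw [hunder, hbot, ← RingHom.ker_eq_comap_bot]
  exact (RingHom.injective_iff_ker_eq_bot i).mp hi

end Groth.Agent.Lib.Helper8.CoreNL
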