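import Mathlib

/-
Principal parts and formally étale maps: for `R → S → S'` with `S → S'` formally étale,
`(S' ⊗_R S)/I^{k+1} → (S' ⊗_R S')/J'^{k+1}` is bijective (`PPEt.pp_bijective`).
Also ring-hom forms of the formally étale lifting property.
-/

open TensorProduct

universe u

namespace Groth.Agent.Lib.Helper8.PPEt

theorem exists_lift_ringHom {S S' Q : Type*} [CommRing S] [CommRing S'] [CommRing Q] [Algebra S S']
    [Algebra.FormallyEtale S S'] (ρ : S →+* Q) (I : Ideal Q) (hI : IsNilpotent I)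
    (ε : S' →+* Q ⧸ I) (hε : ε.comp (algebraMap S S') = (Ideal.Quotient.mk I).comp ρ) :
    ∃ l : S' →+* Q, (Ideal.Quotient.mk I).comp l = ε ∧ l.comp (algebraMap S S') = ρ := by
  let _ : Algebra S Q := ρ.toAlgebra
  let ε' : S' →ₐ[S] Q ⧸ I := { ε with commutes' := fun s => RingHom.congr_fun hε s }
  refine ⟨(Algebra.FormallySmooth.lift I hI ε').toRingHom, ?_, ?_⟩
  · ext x
    exact Algebra.FormallySmooth.mk_lift I hI ε' x
  · ext s
    exact (Algebra.FormallySmooth.lift I hI ε').commutes s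

theorem lift_ringHom_unique {S S' Q : Type*} [CommRing S] [CommRing S'] [CommRing Q] [Algebra S S']
    [Algebra.FormallyEtale S S'] (I : Ideal Q) (hI : IsNilpotent I)
    (l₁ l₂ : S' →+* Q) (h1 : (Ideal.Quotient.mk I).comp l₁ = (Ideal.Quotient.mk I).comp l₂)
    (h2 : l₁.comp (algebraMap S S') = l₂.comp (algebraMap S S')) : l₁ = l₂ := by
  let _ : Algebra S Q := (l₁.comp (algebraMap S S')).toAlgebra
  let m₁ : S' →ₐ[S] Q := { l₁ with commutes' := fun s => rfl }
  let m₂ : S' →ₐ[S] Q := { l₂ with commutes' := fun s => (RingHom.congr_fun h2 s).symm }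
  have : m₁ = m₂ := Algebra.FormallyUnramified.ext I hI (fun x => RingHom.congr_fun h1 x)
  ext x
  exact AlgHom.congr_fun this x

end Groth.Agent.Lib.Helper8.PPEt

namespace Groth.Agent.Lib.Helper8.PPEt

set_option maxHeartbeats 800000 in
theorem pp_bijective (R S S' : Type u) [CommRing R] [CommRing S] [Algebra R S] [CommRing S']
    [Algebra R S'] [Algebra S S'] [IsScalarTower R S S'] [Algebra.FormallyEtale S S'] (k : ℕ) :
    Function.Bijective (Ideal.quotientMap (KaehlerDifferential.ideal R S' ^ (k + 1))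
      (Algebra.TensorProduct.map (AlgHom.id S' S') (IsScalarTower.toAlgHom R S S')).toRingHom
      (Ideal.le_comap_pow
        (Algebra.TensorProduct.map (AlgHom.id S' S') (IsScalarTower.toAlgHom R S S')).toRingHom
        (K := KaehlerDifferential.ideal R S') (k + 1))) := by
  set f : S' ⊗[R] S →+* S' ⊗[R] S' :=
    (Algebra.TensorProduct.map (AlgHom.id S' S') (IsScalarTower.toAlgHom R S S')).toRingHom with hf
  have hf_tmul : ∀ (b : S') (s : S), f (b ⊗ₜ s) = b ⊗ₜ (algebraMap S S' s) := fun b s => rfl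
  set J' := KaehlerDifferential.ideal R S' with hJ'
  set I₀ := J'.comap f with hI₀
  set n := k + 1 with hn
  set g := Ideal.quotientMap (J' ^ n) f (Ideal.le_comap_pow f n) with hg
  have hg_mk : ∀ t, g (Ideal.Quotient.mk _ t) = Ideal.Quotient.mk _ (f t) := fun t => rfl
  let mkQ : S' ⊗[R] S →+* (S' ⊗[R] S) ⧸ I₀ ^ n := Ideal.Quotient.mk _
  let mkQ' : S' ⊗[R] S' →+* (S' ⊗[R] S') ⧸ J' ^ n := Ideal.Quotient.mk _
  let ρ : S →+* (S' ⊗[R] S) ⧸ I₀ ^ n :=
    mkQ.comp (Algebra.TensorProduct.includeRight : S →ₐ[R] S' ⊗[R] S).toRingHom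
  let lft : S' →+* (S' ⊗[R] S) ⧸ I₀ ^ n :=
    mkQ.comp (Algebra.TensorProduct.includeLeftRingHom)
  let Ib : Ideal ((S' ⊗[R] S) ⧸ I₀ ^ n) := I₀.map mkQ
  have hIb : IsNilpotent Ib := ⟨n, by
    change (I₀.map mkQ) ^ n = 0
    rw [← Ideal.map_pow, Ideal.map_quotient_self]; rfl⟩
  let Jb : Ideal ((S' ⊗[R] S') ⧸ J' ^ n) := J'.map mkQ'
  have hJb : IsNilpotent Jb := ⟨n, by
    change (J'.map mkQ') ^ n = 0
    rw [← Ideal.map_pow, Ideal.map_quotient_self]; rfl⟩
  have hmemI : ∀ s : S, (algebraMap S S' s) ⊗ₜ[R] (1 : S) - (1 : S') ⊗ₜ[R] s ∈ I₀ := by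
    intro s
    rw [hI₀, Ideal.mem_comap, map_sub, hf_tmul, hf_tmul, map_one]
    have := KaehlerDifferential.one_smul_sub_smul_one_mem_ideal R (algebraMap S S' s)
    rw [← neg_sub]
    exact neg_mem this
  let ε : S' →+* ((S' ⊗[R] S) ⧸ I₀ ^ n) ⧸ Ib := (Ideal.Quotient.mk Ib).comp lft
  have hε : ε.comp (algebraMap S S') = (Ideal.Quotient.mk Ib).comp ρ := by
    ext s
    change Ideal.Quotient.mk Ib (mkQ ((algebraMap S S' s) ⊗ₜ 1)) =
      Ideal.Quotient.mk Ib (mkQ (1 ⊗ₜ s))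
    rw [Ideal.Quotient.eq, ← map_sub]
    exact Ideal.mem_map_of_mem _ (hmemI s)
  obtain ⟨l, hl1, hl2⟩ := exists_lift_ringHom ρ Ib hIb ε hε
  have hl2' : ∀ s, l (algebraMap S S' s) = mkQ (1 ⊗ₜ s) := fun s => RingHom.congr_fun hl2 s
  have hl1' : ∀ b, l b - lft b ∈ Ib := by
    intro b
    rw [← Ideal.Quotient.eq]
    exact RingHom.congr_fun hl1 b
  let lftₐ : S' →ₐ[R] (S' ⊗[R] S) ⧸ I₀ ^ n :=
    (Ideal.Quotient.mkₐ R _).comp (Algebra.TensorProduct.includeLeft)
  let lₐ : S' →ₐ[R] (S' ⊗[R] S) ⧸ I₀ ^ n :=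
    { l with
      commutes' := fun r => by
        change l (algebraMap R S' r) = _
        rw [IsScalarTower.algebraMap_apply R S S', hl2']
        change mkQ (Algebra.TensorProduct.includeRight (algebraMap R S r)) = _
        rw [AlgHom.commutes]
        rfl }
  let h₀ : S' ⊗[R] S' →ₐ[R] (S' ⊗[R] S) ⧸ I₀ ^ n :=
    Algebra.TensorProduct.lift lftₐ lₐ (fun _ _ => Commute.all _ _)
  have hh₀ : ∀ b b', h₀ (b ⊗ₜ b') = lft b * l b' := fun b b' => by
    simp only [h₀, Algebra.TensorProduct.lift_tmul]; rfl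
  have hJ'le : J' ≤ Ib.comap h₀.toRingHom := by
    rw [hJ', ← KaehlerDifferential.span_range_eq_ideal, Ideal.span_le]
    rintro _ ⟨b, rfl⟩
    change h₀ _ ∈ Ib
    rw [map_sub, hh₀, hh₀, map_one, map_one, one_mul, mul_one]
    exact hl1' b
  have hker : J' ^ n ≤ RingHom.ker h₀.toRingHom := by
    refine (Ideal.pow_right_mono hJ'le n).trans ((Ideal.le_comap_pow _ n).trans ?_)
    obtain ⟨m, hm⟩ := hIb
    have : Ib ^ n = ⊥ := by
      change (I₀.map mkQ) ^ n = ⊥
      rw [← Ideal.map_pow, Ideal.map_quotient_self]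
    rw [this]
    exact le_of_eq rfl
  let h : (S' ⊗[R] S') ⧸ J' ^ n →+* (S' ⊗[R] S) ⧸ I₀ ^ n :=
    Ideal.Quotient.lift (J' ^ n) h₀.toRingHom (fun x hx => hker hx)
  have hh_mk : ∀ t, h (mkQ' t) = h₀ t := fun t => rfl
  -- uniqueness: g ∘ l = mkQ' ∘ includeRight
  have hgl : ∀ b', g (l b') = mkQ' (1 ⊗ₜ b') := by
    have hgIb : ∀ x ∈ Ib, g x ∈ Jb := by
      intro x hx
      have : Ib ≤ Jb.comap g := by
        change I₀.map mkQ ≤ _
        rw [Ideal.map_le_iff_le_comap]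
        intro t ht
        change g (mkQ t) ∈ Jb
        rw [hg_mk]
        exact Ideal.mem_map_of_mem _ ht
      exact this hx
    have := lift_ringHom_unique (S := S) (S' := S') Jb hJb (g.comp l)
      (mkQ'.comp (Algebra.TensorProduct.includeRight : S' →ₐ[R] S' ⊗[R] S').toRingHom) ?_ ?_
    · intro b'; exact RingHom.congr_fun this b'
    · ext b'
      change Ideal.Quotient.mk Jb (g (l b')) = Ideal.Quotient.mk Jb (mkQ' (1 ⊗ₜ b'))
      rw [Ideal.Quotient.eq]
      have e1 : g (l b') - mkQ' (1 ⊗ₜ b') = g (l b' - lft b') + mkQ' (b' ⊗ₜ 1 - 1 ⊗ₜ b') := by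
        rw [map_sub, map_sub]
        change _ = g (l b') - g (mkQ (b' ⊗ₜ 1)) + _
        rw [hg_mk, hf_tmul, map_one]
        change _ = g (l b') - mkQ' (b' ⊗ₜ 1) + _
        ring
      rw [e1]
      refine add_mem (hgIb _ (hl1' b')) (Ideal.mem_map_of_mem _ ?_)
      rw [← neg_sub]
      exact neg_mem (KaehlerDifferential.one_smul_sub_smul_one_mem_ideal R b')
    · ext s
      change g (l (algebraMap S S' s)) = mkQ' (1 ⊗ₜ (algebraMap S S' s))
      rw [hl2']
      change g (Ideal.Quotient.mk _ _) = _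
      rw [hg_mk, hf_tmul]
  refine Function.bijective_iff_has_inverse.mpr ⟨h, ?_, ?_⟩
  · intro q
    obtain ⟨t, rfl⟩ := Ideal.Quotient.mk_surjective q
    induction t using TensorProduct.induction_on with
    | zero => simp
    | tmul b s =>
      rw [hg_mk, hf_tmul]
      change h (mkQ' _) = _
      rw [hh_mk, hh₀, hl2']
      change mkQ (b ⊗ₜ 1) * mkQ (1 ⊗ₜ s) = mkQ (b ⊗ₜ s)
      rw [← map_mul, Algebra.TensorProduct.tmul_mul_tmul, mul_one, one_mul]
    | add x y hx hy => rw [map_add, map_add, map_add, hx, hy]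
  · intro q'
    obtain ⟨t, rfl⟩ := Ideal.Quotient.mk_surjective q'
    induction t using TensorProduct.induction_on with
    | zero => simp
    | tmul b b' =>
      change g (h (mkQ' _)) = _
      rw [hh_mk, hh₀, map_mul, hgl]
      change g (mkQ (b ⊗ₜ 1)) * _ = _
      rw [hg_mk, hf_tmul, map_one]
      change mkQ' (b ⊗ₜ 1) * mkQ' (1 ⊗ₜ b') = mkQ' (b ⊗ₜ b')
      rw [← map_mul, Algebra.TensorProduct.tmul_mul_tmul, mul_one, one_mul]
    | add x y hx hy => rw [map_add, map_add, map_add, hx, hy]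

end Groth.Agent.Lib.Helper8.PPEt
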