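import Mathlib
import Groth.Prelude
import Groth.Agent.Lib.Helper5.DiffOp
import Groth.Agent.Lib.Helper6.PPDiffOp
import Groth.Agent.Lib.Helper14.DiffUniv
import Groth.Agent.Lib.Helper8.PPEt

/-!
# Differential operators and formally étale base change (EGA IV 16.8-type results)

`R → S → S'` with `S → S'` formally étale: a differential operator on `S' ⊗_S M` (relative to
`R → S'`) is determined by its values on `1 ⊗ m` (`eq_zero_of_restrict_eq_zero`); its
restriction to `M` is a differential operator relative to `R → S` (`isDiffOpLE_restrict`);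
universal operators base change (`universal_baseChange`).
-/

set_option autoImplicit false

universe u

namespace Groth.Agent.Lib.Helper8.DiffEt

open TensorProduct Diff16 Groth.Agent.Lib.Helper5 Groth.Agent.Lib.Helper6.PPDiffOp

variable (R S S' : Type u) [CommRing R] [CommRing S] [CommRing S'] [Algebra R S] [Algebra R S']
  [Algebra S S'] [IsScalarTower R S S']

section restrict

variable (M : Type u) [AddCommGroup M] [Module S M] [Module R M] [IsScalarTower R S M]
  (N' : Type u) [AddCommGroup N'] [Module S' N'] [Module R N'] [IsScalarTower R S' N']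
  [Module S N'] [IsScalarTower S S' N'] [IsScalarTower R S N']

/-- `m ↦ 1 ⊗ m` as an `R`-linear map. -/
noncomputable abbrev ι : M →ₗ[R] S' ⊗[S] M := (TensorProduct.mk S S' M 1).restrictScalars R

theorem ι_smul (s : S) (m : M) : ι R S S' M (s • m) = (algebraMap S S' s) • ι R S S' M m := by
  change (1 : S') ⊗ₜ[S] (s • m) = (algebraMap S S' s) • ((1 : S') ⊗ₜ[S] m)
  rw [TensorProduct.tmul_smul, TensorProduct.smul_tmul', TensorProduct.smul_tmul', smul_eq_mul,
    mul_one, Algebra.smul_def, mul_one]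

theorem commutator_restrict (D' : S' ⊗[S] M →ₗ[R] N') (s : S) :
    commutator R S M N' (D' ∘ₗ ι R S S' M) s =
      commutator R S' (S' ⊗[S] M) N' D' (algebraMap S S' s) ∘ₗ ι R S S' M := by
  ext m
  rw [commutator_apply, LinearMap.comp_apply, LinearMap.comp_apply, LinearMap.comp_apply,
    commutator_apply, ι_smul]
  congr 1
  exact (algebraMap_smul S' s _).symm

theorem isDiffOpLE_restrict : ∀ (k : ℕ) (D' : S' ⊗[S] M →ₗ[R] N'),
    IsDiffOpLE R S' (S' ⊗[S] M) N' k D' → IsDiffOpLE R S M N' k (D' ∘ₗ ι R S S' M)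
  | 0, D', hD' => by
    intro s m
    rw [LinearMap.comp_apply, LinearMap.comp_apply, ι_smul, hD', algebraMap_smul]
  | k + 1, D', hD' => by
    intro s
    rw [commutator_restrict]
    exact isDiffOpLE_restrict k _ (hD' (algebraMap S S' s))

end restrict

section uniqueness

variable [Algebra.FormallyEtale S S']
  (M : Type u) [AddCommGroup M] [Module S M] [Module R M] [IsScalarTower R S M]
  (N' : Type u) [AddCommGroup N'] [Module S' N'] [Module R N'] [IsScalarTower R S' N']

omit [Module R M] [IsScalarTower R S M] in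
/-- A differential operator on `S' ⊗_S M` relative to `R → S'` (with `S → S'` formally étale)
vanishing on the elements `1 ⊗ m` is zero. -/
theorem eq_zero_of_restrict_eq_zero (k : ℕ) (E : S' ⊗[S] M →ₗ[R] N')
    (hE : IsDiffOpLE R S' (S' ⊗[S] M) N' k E) (h0 : ∀ m : M, E ((1 : S') ⊗ₜ[S] m) = 0) : E = 0 := by
  have key : ∀ (b : S') (m : M), E (b ⊗ₜ[S] m) = 0 := by
    intro b m
    have hsurj := (PPEt.pp_bijective R S S' k).2
    obtain ⟨q, hq⟩ := hsurj (Ideal.Quotient.mk _ ((1 : S') ⊗ₜ[R] b))
    obtain ⟨t, rfl⟩ := Ideal.Quotient.mk_surjective q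
    rw [Ideal.quotientMap_mk, Ideal.Quotient.eq] at hq
    have h1 := Lam_eq_zero_of_mem_pow S' k E hE _ hq
    rw [map_sub, sub_eq_zero] at h1
    have h2 : E (b ⊗ₜ[S] m) = Lam S' E ((1 : S') ⊗ₜ[R] b) ((1 : S') ⊗ₜ[S] m) := by
      rw [Lam_tmul, one_smul, TensorProduct.smul_tmul', smul_eq_mul, mul_one]
    rw [h2, ← h1]
    clear h1 hq h2
    induction t using TensorProduct.induction_on with
    | zero => simp
    | tmul b' s =>
      change Lam S' E (b' ⊗ₜ[R] (algebraMap S S' s)) ((1 : S') ⊗ₜ[S] m) = 0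
      rw [Lam_tmul, TensorProduct.smul_tmul', smul_eq_mul, mul_one]
      have : (algebraMap S S' s) ⊗ₜ[S] m = (1 : S') ⊗ₜ[S] (s • m) := by
        rw [TensorProduct.tmul_smul, TensorProduct.smul_tmul', Algebra.smul_def, mul_one]
      rw [this, h0, smul_zero]
    | add x y hx hy => rw [map_add, map_add, LinearMap.add_apply, hx, hy, add_zero]
  ext x
  induction x using TensorProduct.induction_on with
  | zero => simp
  | tmul b m => rw [key]; rfl
  | add x y hx hy => rw [map_add, hx, hy]; simp

end uniqueness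

section universal

variable [Algebra.FormallyEtale S S']
  (M : Type u) [AddCommGroup M] [Module S M] [Module R M] [IsScalarTower R S M]

theorem universal_baseChange (k : ℕ) (P : Type u) [AddCommGroup P] [Module S P] [Module R P]
    [IsScalarTower R S P] (Du : M →ₗ[R] P)
    (huniv : ∀ (N : Type u) [AddCommGroup N] [Module S N] [Module R N] [IsScalarTower R S N]
      (D : M →ₗ[R] N), Diff16.IsDiffOpLE R S M N k D →
        ∃! α : P →ₗ[S] N, α.restrictScalars R ∘ₗ Du = D)
    (Du' : S' ⊗[S] M →ₗ[R] S' ⊗[S] P)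
    (hDu' : Diff16.IsDiffOpLE R S' (S' ⊗[S] M) (S' ⊗[S] P) k Du')
    (hext : Du' ∘ₗ (TensorProduct.mk S S' M 1).restrictScalars R =
      (TensorProduct.mk S S' P 1).restrictScalars R ∘ₗ Du) :
    ∀ (N' : Type u) [AddCommGroup N'] [Module S' N'] [Module R N'] [IsScalarTower R S' N']
      (D' : S' ⊗[S] M →ₗ[R] N'), Diff16.IsDiffOpLE R S' (S' ⊗[S] M) N' k D' →
        ∃! α : S' ⊗[S] P →ₗ[S'] N', α.restrictScalars R ∘ₗ Du' = D' := by
  intro N' _ _ _ _ D' hD'
  let _ : Module S N' := Module.compHom N' (algebraMap S S')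
  have : IsScalarTower S S' N' := ⟨fun s b n => by
    change (s • b) • n = (algebraMap S S' s) • (b • n)
    rw [Algebra.smul_def, mul_smul]⟩
  have : IsScalarTower R S N' := ⟨fun r s n => by
    change (algebraMap S S' (r • s)) • n = r • ((algebraMap S S' s) • n)
    have h1 : algebraMap S S' (r • s) = r • algebraMap S S' s := by
      rw [Algebra.smul_def, map_mul, ← IsScalarTower.algebraMap_apply, ← Algebra.smul_def]
    rw [h1, smul_assoc]⟩
  have hD := isDiffOpLE_restrict R S S' M N' k D' hD'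
  obtain ⟨α, hα, hαu⟩ := huniv N' (D' ∘ₗ ι R S S' M) hD
  have hα' : ∀ m, α (Du m) = D' ((1 : S') ⊗ₜ[S] m) := fun m => LinearMap.congr_fun hα m
  have hext' : ∀ m, Du' ((1 : S') ⊗ₜ[S] m) = (1 : S') ⊗ₜ[S] Du m := fun m =>
    LinearMap.congr_fun hext m
  let α' : S' ⊗[S] P →ₗ[S'] N' := LinearMap.liftBaseChange S' α
  refine ⟨α', ?_, ?_⟩
  · change α'.restrictScalars R ∘ₗ Du' = D'
    rw [← sub_eq_zero]
    apply eq_zero_of_restrict_eq_zero R S S' M N' k
    · apply isDiffOpLE_sub _ hD'
      have h0 : IsDiffOpLE R S' (S' ⊗[S] P) N' 0 (α'.restrictScalars R) := fun b x => map_smul α' b x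
      have := isDiffOpLE_comp hDu' h0
      simpa using this
    · intro m
      rw [LinearMap.sub_apply, LinearMap.comp_apply, hext', LinearMap.restrictScalars_apply,
        LinearMap.liftBaseChange_tmul, one_smul, hα', sub_self]
  · intro α'' hα''
    change α''.restrictScalars R ∘ₗ Du' = D' at hα''
    have h1 : (α''.restrictScalars S ∘ₗ TensorProduct.mk S S' P 1) = α := by
      apply hαu
      ext m
      change α'' ((1 : S') ⊗ₜ[S] Du m) = D' ((1 : S') ⊗ₜ[S] m)
      rw [← hext', ← hα'']
      rfl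
    apply TensorProduct.AlgebraTensorModule.ext
    intro b p
    have h2 : α'' ((1 : S') ⊗ₜ[S] p) = α p := LinearMap.congr_fun h1 p
    have h3 : b ⊗ₜ[S] p = b • ((1 : S') ⊗ₜ[S] p) := by
      rw [TensorProduct.smul_tmul', smul_eq_mul, mul_one]
    rw [LinearMap.liftBaseChange_tmul, h3, map_smul, h2]

end universal

end Groth.Agent.Lib.Helper8.DiffEt
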