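import Mathlib
import Groth.Prelude
import Groth.Agent.Lib.Helper8.DiffEt

set_option autoImplicit false

universe u

namespace Groth.Agent.Lib.Helper8.DiffEt

open TensorProduct Diff16 Groth.Agent.Lib.Helper5

section existence

variable (R S S' : Type u) [CommRing R] [CommRing S] [CommRing S'] [Algebra R S] [Algebra R S']
  [Algebra S S'] [IsScalarTower R S S']
  {M N : Type u} [AddCommGroup M] [Module S M] [Module R M] [IsScalarTower R S M]
  [AddCommGroup N] [Module S N] [Module R N] [IsScalarTower R S N]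

/-- `b' ⊗ s ↦ (m ↦ b' ⊗ D (s • m))`. -/
noncomputable def Lam' (D : M →ₗ[R] N) : S' ⊗[R] S →ₗ[R] (M →ₗ[R] S' ⊗[S] N) :=
  TensorProduct.lift (LinearMap.mk₂ R
    (fun b' s => ((TensorProduct.mk S S' N b').restrictScalars R) ∘ₗ D ∘ₗ
      ((LinearMap.lsmul S M s).restrictScalars R))
    (fun b₁ b₂ s => LinearMap.ext fun m => by
      change (b₁ + b₂) ⊗ₜ[S] D (s • m) = b₁ ⊗ₜ[S] D (s • m) + b₂ ⊗ₜ[S] D (s • m)
      rw [TensorProduct.add_tmul])
    (fun r b s => LinearMap.ext fun m => by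
      change (r • b) ⊗ₜ[S] D (s • m) = r • (b ⊗ₜ[S] D (s • m))
      rw [TensorProduct.smul_tmul'])
    (fun b s₁ s₂ => LinearMap.ext fun m => by
      change b ⊗ₜ[S] D ((s₁ + s₂) • m) = b ⊗ₜ[S] D (s₁ • m) + b ⊗ₜ[S] D (s₂ • m)
      rw [add_smul, map_add, TensorProduct.tmul_add])
    (fun r b s => LinearMap.ext fun m => by
      change b ⊗ₜ[S] D ((r • s) • m) = r • (b ⊗ₜ[S] D (s • m))
      rw [smul_assoc, map_smul, TensorProduct.tmul_smul]))

lemma Lam'_tmul (D : M →ₗ[R] N) (b : S') (s : S) (m : M) :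
    Lam' R S S' D (b ⊗ₜ s) m = b ⊗ₜ[S] D (s • m) := rfl

lemma Lam'_left_mul (D : M →ₗ[R] N) (c : S') (t : S' ⊗[R] S) (m : M) :
    Lam' R S S' D ((c ⊗ₜ[R] (1 : S)) * t) m = c • Lam' R S S' D t m := by
  induction t using TensorProduct.induction_on with
  | zero => simp
  | tmul x y =>
    rw [Algebra.TensorProduct.tmul_mul_tmul, one_mul, Lam'_tmul, Lam'_tmul,
      TensorProduct.smul_tmul', smul_eq_mul]
  | add t₁ t₂ h₁ h₂ => rw [mul_add, map_add, LinearMap.add_apply, h₁, h₂, map_add,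
      LinearMap.add_apply, smul_add]

lemma Lam'_right_mul (D : M →ₗ[R] N) (s : S) (t : S' ⊗[R] S) (m : M) :
    Lam' R S S' D (t * ((1 : S') ⊗ₜ[R] s)) m = Lam' R S S' D t (s • m) := by
  induction t using TensorProduct.induction_on with
  | zero => simp
  | tmul x y =>
    rw [Algebra.TensorProduct.tmul_mul_tmul, mul_one, Lam'_tmul, Lam'_tmul, mul_smul]
  | add t₁ t₂ h₁ h₂ => rw [add_mul, map_add, LinearMap.add_apply, h₁, h₂, map_add,
      LinearMap.add_apply]

lemma Lam'_mul_delta (D : M →ₗ[R] N) (s : S) (t : S' ⊗[R] S) :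
    Lam' R S S' D (t * ((1 : S') ⊗ₜ[R] s - (algebraMap S S' s) ⊗ₜ[R] (1 : S))) =
      Lam' R S S' (commutator R S M N D s) t := by
  induction t using TensorProduct.induction_on with
  | zero => rw [zero_mul, map_zero, map_zero]
  | tmul x y =>
    ext m
    rw [mul_sub, Algebra.TensorProduct.tmul_mul_tmul, Algebra.TensorProduct.tmul_mul_tmul,
      mul_one, mul_one, map_sub, LinearMap.sub_apply, Lam'_tmul, Lam'_tmul, Lam'_tmul,
      commutator_apply, TensorProduct.tmul_sub]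
    congr 1
    · rw [mul_comm y s, mul_smul]
    · rw [TensorProduct.tmul_smul, TensorProduct.smul_tmul', Algebra.smul_def, mul_comm]
  | add t₁ t₂ h₁ h₂ => rw [add_mul, map_add, h₁, h₂, map_add]

/-- The map `S' ⊗_R S → S' ⊗_R S'`. -/
noncomputable abbrev fTT : S' ⊗[R] S →+* S' ⊗[R] S' :=
  (Algebra.TensorProduct.map (AlgHom.id S' S') (IsScalarTower.toAlgHom R S S')).toRingHom

lemma fTT_tmul (b : S') (s : S) : fTT R S S' (b ⊗ₜ s) = b ⊗ₜ (algebraMap S S' s) := rfl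

/-- The kernel of `S' ⊗_R S → S'`. -/
noncomputable abbrev I₀ : Ideal (S' ⊗[R] S) := (KaehlerDifferential.ideal R S').comap (fTT R S S')

lemma delta_mem_I₀ (s : S) :
    (1 : S') ⊗ₜ[R] s - (algebraMap S S' s) ⊗ₜ[R] (1 : S) ∈ I₀ R S S' := by
  rw [Ideal.mem_comap, map_sub, fTT_tmul, fTT_tmul, map_one]
  exact KaehlerDifferential.one_smul_sub_smul_one_mem_ideal R (algebraMap S S' s)

lemma sub_mul₀_mem_span (t : S' ⊗[R] S) :
    t - (Algebra.TensorProduct.lmul' R (fTT R S S' t)) ⊗ₜ[R] (1 : S) ∈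
      Ideal.span (Set.range fun s : S =>
        (1 : S') ⊗ₜ[R] s - (algebraMap S S' s) ⊗ₜ[R] (1 : S)) := by
  induction t using TensorProduct.induction_on with
  | zero => simp
  | tmul b s =>
    rw [fTT_tmul, Algebra.TensorProduct.lmul'_apply_tmul]
    have : b ⊗ₜ[R] s - (b * algebraMap S S' s) ⊗ₜ[R] (1 : S) =
        (b ⊗ₜ[R] (1 : S)) * ((1 : S') ⊗ₜ[R] s - (algebraMap S S' s) ⊗ₜ[R] (1 : S)) := by
      rw [mul_sub, Algebra.TensorProduct.tmul_mul_tmul, Algebra.TensorProduct.tmul_mul_tmul,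
        mul_one, one_mul, mul_one]
    rw [this]
    exact Ideal.mul_mem_left _ _ (Ideal.subset_span ⟨s, rfl⟩)
  | add x y hx hy =>
    rw [map_add, map_add, TensorProduct.add_tmul]
    have : x + y - ((Algebra.TensorProduct.lmul' R (fTT R S S' x)) ⊗ₜ[R] (1 : S) +
        (Algebra.TensorProduct.lmul' R (fTT R S S' y)) ⊗ₜ[R] (1 : S)) =
        (x - (Algebra.TensorProduct.lmul' R (fTT R S S' x)) ⊗ₜ[R] (1 : S)) +
        (y - (Algebra.TensorProduct.lmul' R (fTT R S S' y)) ⊗ₜ[R] (1 : S)) := by ring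
    rw [this]
    exact add_mem hx hy

lemma span_eq_I₀ : Ideal.span (Set.range fun s : S =>
    (1 : S') ⊗ₜ[R] s - (algebraMap S S' s) ⊗ₜ[R] (1 : S)) = I₀ R S S' := by
  apply le_antisymm
  · rw [Ideal.span_le]
    rintro _ ⟨s, rfl⟩
    exact delta_mem_I₀ R S S' s
  · intro t ht
    have h1 := sub_mul₀_mem_span R S S' t
    have h2 : Algebra.TensorProduct.lmul' R (fTT R S S' t) = 0 := ht
    rwa [h2, TensorProduct.zero_tmul, sub_zero] at h1

lemma Lam'_of_linear (D : M →ₗ[R] N) (hD : ∀ (s : S) (m : M), D (s • m) = s • D m)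
    (t : S' ⊗[R] S) (m : M) :
    Lam' R S S' D t m = (Algebra.TensorProduct.lmul' R (fTT R S S' t)) ⊗ₜ[S] D m := by
  induction t using TensorProduct.induction_on with
  | zero => simp
  | tmul b s =>
    rw [Lam'_tmul, hD, fTT_tmul, Algebra.TensorProduct.lmul'_apply_tmul, TensorProduct.tmul_smul,
      TensorProduct.smul_tmul', Algebra.smul_def, mul_comm]
  | add t₁ t₂ h₁ h₂ => rw [map_add, LinearMap.add_apply, h₁, h₂, map_add, map_add,
      TensorProduct.add_tmul]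

theorem Lam'_eq_zero_of_mem_pow : ∀ (j : ℕ) (D : M →ₗ[R] N), IsDiffOpLE R S M N j D →
    ∀ t ∈ I₀ R S S' ^ (j + 1), Lam' R S S' D t = 0
  | 0, D, hD, t, ht => by
    rw [zero_add, pow_one] at ht
    ext m
    rw [Lam'_of_linear R S S' D hD, show Algebra.TensorProduct.lmul' R (fTT R S S' t) = 0 from ht,
      TensorProduct.zero_tmul]
    rfl
  | j + 1, D, hD, t, ht => by
    rw [pow_succ] at ht
    refine Submodule.mul_induction_on ht (fun t₁ ht₁ i hi => ?_)
      (fun x y hx hy => by rw [map_add, hx, hy, add_zero])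
    rw [← span_eq_I₀] at hi
    revert t₁
    refine Submodule.span_induction
      (p := fun i _ => ∀ t₁ ∈ I₀ R S S' ^ (j + 1), Lam' R S S' D (t₁ * i) = 0)
      ?_ ?_ ?_ ?_ hi
    · rintro _ ⟨c, rfl⟩ t₁ ht₁
      rw [Lam'_mul_delta]
      exact Lam'_eq_zero_of_mem_pow j _ (hD c) t₁ ht₁
    · intro t₁ _
      rw [mul_zero, map_zero]
    · intro x y _ _ hx hy t₁ ht₁
      rw [mul_add, map_add, hx t₁ ht₁, hy t₁ ht₁, add_zero]
    · intro s x _ hx t₁ ht₁
      rw [smul_eq_mul, ← mul_assoc]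
      exact hx (t₁ * s) (Ideal.mul_mem_right _ _ ht₁)

end existence

section taylor

variable (R S S' : Type u) [CommRing R] [CommRing S] [CommRing S'] [Algebra R S] [Algebra R S']
  [Algebra S S'] [IsScalarTower R S S'] [Algebra.FormallyEtale S S'] (k : ℕ)

/-- The bijection of `PPEt.pp_bijective` as a ring isomorphism. -/
noncomputable def gEquiv : ((S' ⊗[R] S) ⧸ I₀ R S S' ^ (k + 1)) ≃+*
    ((S' ⊗[R] S') ⧸ KaehlerDifferential.ideal R S' ^ (k + 1)) :=
  RingEquiv.ofBijective _ (PPEt.pp_bijective R S S' k)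

lemma gEquiv_mk (t : S' ⊗[R] S) :
    gEquiv R S S' k (Ideal.Quotient.mk _ t) = Ideal.Quotient.mk _ (fTT R S S' t) := rfl

/-- The "Taylor expansion" ring map `S' → (S' ⊗_R S)/I₀^{k+1}`, `c ↦` the class corresponding
to `1 ⊗ c`. -/
noncomputable def taylor : S' →+* (S' ⊗[R] S) ⧸ I₀ R S S' ^ (k + 1) :=
  ((gEquiv R S S' k).symm.toRingHom).comp ((Ideal.Quotient.mk _).comp
    (Algebra.TensorProduct.includeRight : S' →ₐ[R] S' ⊗[R] S').toRingHom)

lemma gEquiv_taylor (c : S') :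
    gEquiv R S S' k (taylor R S S' k c) = Ideal.Quotient.mk _ ((1 : S') ⊗ₜ[R] c) := by
  simp [taylor]

lemma taylor_algebraMap (s : S) :
    taylor R S S' k (algebraMap S S' s) = Ideal.Quotient.mk _ ((1 : S') ⊗ₜ[R] s) := by
  apply (gEquiv R S S' k).injective
  rw [gEquiv_taylor, gEquiv_mk, fTT_tmul]

lemma taylor_sub_mem (c : S') :
    taylor R S S' k c - Ideal.Quotient.mk _ (c ⊗ₜ[R] (1 : S)) ∈
      (I₀ R S S').map (Ideal.Quotient.mk (I₀ R S S' ^ (k + 1))) := by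
  obtain ⟨t, ht⟩ := Ideal.Quotient.mk_surjective (taylor R S S' k c)
  rw [← ht, ← map_sub]
  apply Ideal.mem_map_of_mem
  have h1 := gEquiv_taylor R S S' k c
  rw [← ht, gEquiv_mk, Ideal.Quotient.eq] at h1
  have h2 : fTT R S S' t - (1 : S') ⊗ₜ[R] c ∈ KaehlerDifferential.ideal R S' :=
    Ideal.pow_le_self (Nat.succ_ne_zero k) h1
  have h3 := KaehlerDifferential.one_smul_sub_smul_one_mem_ideal R c
  rw [Ideal.mem_comap, map_sub, fTT_tmul, map_one]
  have : fTT R S S' t - c ⊗ₜ[R] (1 : S') =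
      (fTT R S S' t - (1 : S') ⊗ₜ[R] c) + ((1 : S') ⊗ₜ[R] c - c ⊗ₜ[R] (1 : S')) := by ring
  rw [this]
  exact add_mem h2 h3

end taylor

section construct

variable (R S S' : Type u) [CommRing R] [CommRing S] [CommRing S'] [Algebra R S] [Algebra R S']
  [Algebra S S'] [IsScalarTower R S S'] [Algebra.FormallyEtale S S'] (k : ℕ)
  {M N : Type u} [AddCommGroup M] [Module S M] [Module R M] [IsScalarTower R S M]
  [AddCommGroup N] [Module S N] [Module R N] [IsScalarTower R S N]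
  (D : M →ₗ[R] N) (hD : IsDiffOpLE R S M N k D)

/-- `Lam'` descended to the quotient (defined through a choice of representative). -/
noncomputable def Lbar' (q : (S' ⊗[R] S) ⧸ I₀ R S S' ^ (k + 1)) : M →ₗ[R] S' ⊗[S] N :=
  Lam' R S S' D (Quotient.out q)

include hD in
lemma Lbar'_mk (t : S' ⊗[R] S) :
    Lbar' R S S' k D (Ideal.Quotient.mk (I₀ R S S' ^ (k + 1)) t) = Lam' R S S' D t := by
  unfold Lbar'
  have h1 : Ideal.Quotient.mk (I₀ R S S' ^ (k + 1))
      (Quotient.out (Ideal.Quotient.mk (I₀ R S S' ^ (k + 1)) t)) =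
      Ideal.Quotient.mk (I₀ R S S' ^ (k + 1)) t := Ideal.Quotient.mk_out _
  rw [Ideal.Quotient.eq] at h1
  have h2 := Lam'_eq_zero_of_mem_pow R S S' k D hD _ h1
  rwa [map_sub, sub_eq_zero] at h2

include hD in
lemma Lbar'_add (q q' : (S' ⊗[R] S) ⧸ I₀ R S S' ^ (k + 1)) :
    Lbar' R S S' k D (q + q') = Lbar' R S S' k D q + Lbar' R S S' k D q' := by
  obtain ⟨t, rfl⟩ := Ideal.Quotient.mk_surjective q
  obtain ⟨t', rfl⟩ := Ideal.Quotient.mk_surjective q'
  rw [← map_add, Lbar'_mk R S S' k D hD, Lbar'_mk R S S' k D hD, Lbar'_mk R S S' k D hD, map_add]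

include hD in
lemma Lbar'_zero : Lbar' R S S' k D (0 : (S' ⊗[R] S) ⧸ I₀ R S S' ^ (k + 1)) = 0 := by
  have := Lbar'_mk R S S' k D hD 0
  rwa [map_zero, map_zero] at this

include hD in
lemma Lbar'_sub (q q' : (S' ⊗[R] S) ⧸ I₀ R S S' ^ (k + 1)) :
    Lbar' R S S' k D (q - q') = Lbar' R S S' k D q - Lbar' R S S' k D q' := by
  obtain ⟨t, rfl⟩ := Ideal.Quotient.mk_surjective q
  obtain ⟨t', rfl⟩ := Ideal.Quotient.mk_surjective q'
  rw [← map_sub, Lbar'_mk R S S' k D hD, Lbar'_mk R S S' k D hD, Lbar'_mk R S S' k D hD, map_sub]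

include hD in
lemma Lbar'_left_mul (c : S') (q : (S' ⊗[R] S) ⧸ I₀ R S S' ^ (k + 1)) (m : M) :
    Lbar' R S S' k D (Ideal.Quotient.mk _ (c ⊗ₜ[R] (1 : S)) * q) m =
      c • Lbar' R S S' k D q m := by
  obtain ⟨t, rfl⟩ := Ideal.Quotient.mk_surjective q
  rw [← map_mul, Lbar'_mk R S S' k D hD, Lbar'_mk R S S' k D hD, Lam'_left_mul]

include hD in
lemma Lbar'_right_mul (s : S) (q : (S' ⊗[R] S) ⧸ I₀ R S S' ^ (k + 1)) (m : M) :
    Lbar' R S S' k D (q * Ideal.Quotient.mk _ ((1 : S') ⊗ₜ[R] s)) m =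
      Lbar' R S S' k D q (s • m) := by
  obtain ⟨t, rfl⟩ := Ideal.Quotient.mk_surjective q
  rw [← map_mul, Lbar'_mk R S S' k D hD, Lbar'_mk R S S' k D hD, Lam'_right_mul]

/-- The additive map `b ⊗ m ↦ Lbar' (q * taylor b) m`. -/
noncomputable def DqAdd (q : (S' ⊗[R] S) ⧸ I₀ R S S' ^ (k + 1)) : S' ⊗[S] M →+ S' ⊗[S] N :=
  TensorProduct.liftAddHom
    { toFun := fun b => (LinearMap.toAddMonoidHom' : (M →ₗ[R] S' ⊗[S] N) →+ (M →+ S' ⊗[S] N))
        (Lbar' R S S' k D (q * taylor R S S' k b))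
      map_zero' := by
        rw [map_zero, mul_zero, Lbar'_zero R S S' k D hD, map_zero]
      map_add' := fun b b' => by
        rw [map_add, mul_add, Lbar'_add R S S' k D hD, map_add] }
    (by
      intro s b m
      change Lbar' R S S' k D (q * taylor R S S' k (s • b)) m =
        Lbar' R S S' k D (q * taylor R S S' k b) (s • m)
      rw [Algebra.smul_def, map_mul, taylor_algebraMap, ← Lbar'_right_mul R S S' k D hD]
      congr 2
      ring)

lemma DqAdd_tmul (q : (S' ⊗[R] S) ⧸ I₀ R S S' ^ (k + 1)) (b : S') (m : M) :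
    DqAdd R S S' k D hD q (b ⊗ₜ[S] m) = Lbar' R S S' k D (q * taylor R S S' k b) m := rfl

/-- The operator `b ⊗ m ↦ Lbar' (q * taylor b) m`. -/
noncomputable def Dq (q : (S' ⊗[R] S) ⧸ I₀ R S S' ^ (k + 1)) : S' ⊗[S] M →ₗ[R] S' ⊗[S] N :=
  { DqAdd R S S' k D hD q with
    map_smul' := fun r x => by
      induction x using TensorProduct.induction_on with
      | zero => simp
      | tmul b m =>
        change DqAdd R S S' k D hD q (r • (b ⊗ₜ[S] m)) = r • DqAdd R S S' k D hD q (b ⊗ₜ[S] m)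
        rw [← TensorProduct.tmul_smul, DqAdd_tmul, DqAdd_tmul, map_smul]
      | add x y hx hy =>
        simp only [smul_add, map_add, ZeroHom.toFun_eq_coe, AddMonoidHom.toZeroHom_coe,
          RingHom.id_apply] at hx hy ⊢
        rw [hx, hy] }

lemma Dq_tmul (q : (S' ⊗[R] S) ⧸ I₀ R S S' ^ (k + 1)) (b : S') (m : M) :
    Dq R S S' k D hD q (b ⊗ₜ[S] m) = Lbar' R S S' k D (q * taylor R S S' k b) m := rfl

include hD in
lemma Dq_zero : Dq R S S' k D hD 0 = 0 := by
  ext x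
  induction x using TensorProduct.induction_on with
  | zero => simp
  | tmul b m => rw [Dq_tmul, zero_mul, Lbar'_zero R S S' k D hD]; rfl
  | add x y hx hy => rw [map_add, hx, hy]; simp

theorem commutator_Dq (q : (S' ⊗[R] S) ⧸ I₀ R S S' ^ (k + 1)) (c : S') :
    commutator R S' (S' ⊗[S] M) (S' ⊗[S] N) (Dq R S S' k D hD q) c =
      Dq R S S' k D hD (q * (taylor R S S' k c - Ideal.Quotient.mk _ (c ⊗ₜ[R] (1 : S)))) := by
  ext x
  induction x using TensorProduct.induction_on with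
  | zero => simp
  | tmul b m =>
    rw [commutator_apply, TensorProduct.smul_tmul', smul_eq_mul, Dq_tmul, Dq_tmul, Dq_tmul,
      map_mul, ← Lbar'_left_mul R S S' k D hD, ← LinearMap.sub_apply, ← Lbar'_sub R S S' k D hD]
    congr 2
    ring
  | add x y hx hy => rw [map_add, hx, hy, map_add]

theorem isDiffOpLE_Dq : ∀ (j : ℕ) (q : (S' ⊗[R] S) ⧸ I₀ R S S' ^ (k + 1)),
    (∀ x ∈ ((I₀ R S S').map (Ideal.Quotient.mk (I₀ R S S' ^ (k + 1)))) ^ (j + 1), q * x = 0) →
    IsDiffOpLE R S' (S' ⊗[S] M) (S' ⊗[S] N) j (Dq R S S' k D hD q)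
  | 0, q, hq => by
    intro c x
    have h1 := commutator_Dq R S S' k D hD q c
    rw [hq _ (by simpa using taylor_sub_mem R S S' k c),
      Dq_zero R S S' k D hD] at h1
    have h2 := LinearMap.congr_fun h1 x
    rw [commutator_apply, LinearMap.zero_apply, sub_eq_zero] at h2
    exact h2
  | j + 1, q, hq => by
    intro c
    rw [commutator_Dq]
    apply isDiffOpLE_Dq j
    intro x hx
    rw [mul_assoc]
    apply hq
    have e : ((I₀ R S S').map (Ideal.Quotient.mk (I₀ R S S' ^ (k + 1)))) ^ (j + 1 + 1) =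
        ((I₀ R S S').map (Ideal.Quotient.mk (I₀ R S S' ^ (k + 1)))) *
          ((I₀ R S S').map (Ideal.Quotient.mk (I₀ R S S' ^ (k + 1)))) ^ (j + 1) :=
      Submodule.pow_succ' _ (Nat.succ_ne_zero j)
    rw [e]
    exact Ideal.mul_mem_mul (taylor_sub_mem R S S' k c) hx

include hD in
/-- Existence of the extension. -/
theorem exists_extension :
    ∃ D' : S' ⊗[S] M →ₗ[R] S' ⊗[S] N,
      IsDiffOpLE R S' (S' ⊗[S] M) (S' ⊗[S] N) k D' ∧
        ∀ m : M, D' ((1 : S') ⊗ₜ[S] m) = (1 : S') ⊗ₜ[S] D m := by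
  refine ⟨Dq R S S' k D hD 1, isDiffOpLE_Dq R S S' k D hD k 1 ?_, fun m => ?_⟩
  · intro x hx
    rw [← Ideal.map_pow, Ideal.map_quotient_self] at hx
    rw [one_mul]
    exact hx
  · rw [Dq_tmul, map_one, one_mul, ← map_one (Ideal.Quotient.mk (I₀ R S S' ^ (k + 1))),
      Algebra.TensorProduct.one_def, Lbar'_mk R S S' k D hD, Lam'_tmul, one_smul]

end construct

end Groth.Agent.Lib.Helper8.DiffEt
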