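import Mathlib
import Groth.Prelude
import Groth.Agent.Lib.Helper12.UnivOpenFT
import Groth.Agent.Lib.Helper12.UnivOpenDim
import Groth.Agent.Lib.Helper7.ValSpecDvr

/-!
# The discrete valuation ring criterion for universal openness at a point

`isUnivOpenAt_of_dvrLift` and `dvrLift_of_isUnivOpenAt` are adapted from helper12's proof of
EGA IV 14.5.? (`S2587`), using Helper7's `exists_dvr_through_specialization` for the
existence of discrete valuation rings through a specialization.
-/

set_option autoImplicit false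
universe u
open CategoryTheory CategoryTheory.Limits AlgebraicGeometry IsLocalRing EGA43

namespace Groth.Agent.Lib.Helper8.DvrLiftCrit

open Groth.Agent.Lib.Helper12.UnivOpenFT Groth.Agent.Lib.Helper12.SecCompBC

/-- In a discrete valuation ring, a prime different from the closed point is the zero ideal. -/
theorem asIdeal_eq_bot_of_ne_closedPoint (A : Type u) [CommRing A] [IsDomain A]
    [IsDiscreteValuationRing A] (z : ↥(Spec (CommRingCat.of A))) (hz : z ≠ closedPoint A) :
    z.asIdeal = ⊥ := by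
  by_contra hne
  have hmax : z.asIdeal.IsMaximal := z.isPrime.isMaximal hne
  apply hz
  apply PrimeSpectrum.ext
  exact IsLocalRing.eq_maximalIdeal hmax

/-- The DVR lifting condition of EGA IV 14.5.8-type criteria. -/
def DvrLift {X Y : Scheme.{u}} (f : X ⟶ Y) (x : X) : Prop :=
  ∀ (A : Type u) [CommRing A] [IsDomain A] [IsDiscreteValuationRing A]
    (g : Spec (CommRingCat.of A) ⟶ Y), g.base (IsLocalRing.closedPoint A) = f.base x →
    ∀ x' : ↥(pullback f g), (pullback.fst f g).base x' = x →
      (pullback.snd f g).base x' = IsLocalRing.closedPoint A →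
      ∃ z' : ↥(pullback f g), z' ⤳ x' ∧ (pullback.snd f g).base z' ≠ IsLocalRing.closedPoint A

theorem dvrLift_of_isUnivOpenAt {X Y : Scheme.{u}} (f : X ⟶ Y) (x : X)
    (hUO : EGA43.IsUnivOpenAt f x) : DvrLift f x := by
  intro A _ _ _ g hg x' hx' hs
  have hop : EGA43.IsOpenAt (pullback.snd f g).base x' := hUO _ g x' hx'
  set η : ↥(Spec (CommRingCat.of A)) := ⟨⊥, Ideal.isPrime_bot⟩ with hη
  have hηs : η ⤳ (pullback.snd f g).base x' := by
    rw [hs]; exact IsLocalRing.specializes_closedPoint η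
  obtain ⟨z', hz'1, hz'2⟩ := (Groth.Agent.S3404.result (pullback.snd f g) x').1 hop η hηs
  refine ⟨z', hz'1, ?_⟩
  rw [hz'2]
  intro h
  have h1 : (⊥ : Ideal A) = IsLocalRing.maximalIdeal A := congrArg PrimeSpectrum.asIdeal h
  exact IsDiscreteValuationRing.not_a_field A h1.symm

theorem isUnivOpenAt_of_dvrLift {X Y : Scheme.{u}} [IsLocallyNoetherian Y] (f : X ⟶ Y)
    [LocallyOfFiniteType f] (x : X) (H : DvrLift f x) : EGA43.IsUnivOpenAt f x := by
  apply isUnivOpenAt_of_forall_locallyOfFiniteType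
  intro Y₁ g₁ hg₁ x₁ hx₁
  haveI : LocallyOfFiniteType g₁ := hg₁
  haveI : IsLocallyNoetherian Y₁ := LocallyOfFiniteType.isLocallyNoetherian g₁
  set f₁ := pullback.snd f g₁ with hf₁
  haveI : LocallyOfFiniteType f₁ :=
    MorphismProperty.pullback_snd (P := @LocallyOfFiniteType) f g₁ inferInstance
  haveI : LocallyOfFinitePresentation f₁ := locallyOfFinitePresentation_of_isLocallyNoetherian f₁
  refine ((Groth.Agent.S3404.result f₁ x₁).2 inferInstance).mpr ?_
  intro y'' hy''
  by_cases hne : y'' = f₁.base x₁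
  · exact ⟨x₁, specializes_rfl, hne.symm⟩
  obtain ⟨R, u, hRdvr, hus, hcomp⟩ :=
    Groth.Agent.Lib.Helper7.exists_dvr_through_specialization (𝟙 Y₁) y'' (f₁.base x₁) hy''
      (Ne.symm hne)
  haveI := hRdvr
  set η : ↥(Spec (CommRingCat.of R)) := ⟨⊥, Ideal.isPrime_bot⟩ with hη
  have hηbot : η.asIdeal = ⊥ := rfl
  have huη' : u.base η = y'' := by
    obtain ⟨t₀⟩ : Nonempty ↥(Spec (CommRingCat.of (Y₁.residueField y''))) := inferInstance
    have h1 : (Spec.map (CommRingCat.ofHom R.subtype)).base t₀ = η := by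
      apply PrimeSpectrum.ext
      have ht : t₀.asIdeal = ⊥ := by
        rcases Ideal.eq_bot_or_top t₀.asIdeal with h | h
        · exact h
        · exact absurd h t₀.isPrime.ne_top
      show t₀.asIdeal.comap R.subtype = ⊥
      rw [ht]
      exact (RingHom.injective_iff_ker_eq_bot _).mp Subtype.val_injective
    rw [← h1, ← Scheme.Hom.comp_apply, hcomp, Category.comp_id,
      Scheme.fromSpecResidueField_apply]
  -- the point over x₁ and the closed point
  have hcl : f₁.base x₁ = u.base (closedPoint R) := hus.symm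
  obtain ⟨q₀, hq₀1, hq₀2⟩ :=
    Scheme.Pullback.exists_preimage_pullback (f := f₁) (g := u) x₁ (closedPoint R) hcl
  set qf := pullback.fst f₁ u with hqf
  set qs := pullback.snd f₁ u with hqs
  have big : IsPullback (qf ≫ pullback.fst f g₁) qs f (u ≫ g₁) :=
    (IsPullback.of_hasPullback f₁ u).paste_horiz (IsPullback.of_hasPullback f g₁)
  set e := big.isoPullback with he
  have he1 : e.hom ≫ pullback.fst f (u ≫ g₁) = qf ≫ pullback.fst f g₁ := big.isoPullback_hom_fst
  have he2 : e.hom ≫ pullback.snd f (u ≫ g₁) = qs := big.isoPullback_hom_snd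
  have hgcl : (u ≫ g₁).base (closedPoint R) = f.base x := by
    rw [Scheme.Hom.comp_apply, hus, ← hx₁, hf₁, ← Scheme.Hom.comp_apply, ← Scheme.Hom.comp_apply,
      pullback.condition]
  have hx'1 : (pullback.fst f (u ≫ g₁)).base (e.hom.base q₀) = x := by
    rw [← Scheme.Hom.comp_apply, he1, Scheme.Hom.comp_apply, hq₀1, hx₁]
  have hx'2 : (pullback.snd f (u ≫ g₁)).base (e.hom.base q₀) = closedPoint R := by
    rw [← Scheme.Hom.comp_apply, he2, hq₀2]
  obtain ⟨z', hz'1, hz'2⟩ := H R (u ≫ g₁) hgcl (e.hom.base q₀) hx'1 hx'2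
  set z := e.inv.base z' with hz
  have hez : e.hom.base z = z' := by
    rw [hz, ← Scheme.Hom.comp_apply, e.inv_hom_id]; rfl
  have hzq : z ⤳ q₀ := by
    have h1 : e.inv.base z' ⤳ e.inv.base (e.hom.base q₀) := hz'1.map e.inv.continuous
    have h2 : e.inv.base (e.hom.base q₀) = q₀ := by
      rw [← Scheme.Hom.comp_apply, e.hom_inv_id]; rfl
    rw [h2] at h1
    exact h1
  have hqsz : qs.base z = η := by
    have h1 : qs.base z = (pullback.snd f (u ≫ g₁)).base z' := by
      rw [← he2, Scheme.Hom.comp_apply, hez]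
    have h2 : qs.base z ≠ closedPoint R := by rw [h1]; exact hz'2
    apply PrimeSpectrum.ext
    rw [hηbot]
    exact asIdeal_eq_bot_of_ne_closedPoint R _ h2
  refine ⟨qf.base z, ?_, ?_⟩
  · rw [← hq₀1]; exact hzq.map qf.continuous
  · have hc : qf ≫ f₁ = qs ≫ u := pullback.condition
    rw [← Scheme.Hom.comp_apply, hc, Scheme.Hom.comp_apply, hqsz, huη']

end Groth.Agent.Lib.Helper8.DvrLiftCrit
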