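import Mathlib
import Groth.Prelude
import Groth.Agent.Lib.Helper8.HenselQFSch
import Groth.Agent.Lib.Helper12.QuasiSection

/-!
# Quasi-sections over a henselian local domain (EGA IV 14.5.4)

Over a Noetherian henselian local domain `A`, a morphism locally of finite type which is
equidimensional at a point `x` of the closed fibre, closed in this fibre, has a "finite
quasi-section": a finite local domain `A'` over `A` and an immersion `Spec A' ⟶ X` through `x`.
-/

set_option autoImplicit false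
universe u
open AlgebraicGeometry CategoryTheory Limits IsLocalRing

namespace Groth.Agent.Lib.Helper8.QuasiSectionHens

open Groth.Agent.Lib.Helper8.HenselQFSch

theorem fromSpecStalk_comp_eq {A : Type u} [CommRing A] {X : Scheme.{u}}
    (f : X ⟶ Spec (CommRingCat.of A)) (x : X) :
    X.fromSpecStalk x ≫ f = Spec.map ((Scheme.ΓSpecIso (CommRingCat.of A)).inv ≫ f.appTop ≫
      X.presheaf.germ ⊤ x trivial) := by
  obtain ⟨_, ⟨U, hU, rfl⟩, hxU, -⟩ :=
    X.isBasis_affineOpens.exists_subset_of_mem_open (Set.mem_univ x) isOpen_univ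
  have hfs : X.fromSpecStalk x = Spec.map (X.presheaf.germ U x hxU) ≫ hU.fromSpec := by
    rw [← hU.fromSpecStalk_eq_fromSpecStalk hxU]; rfl
  rw [hfs, Category.assoc, fromSpec_comp f hU, ← Spec.map_comp, chartMap_germ]

theorem exists_finite_local_domain_section {A : Type u} [CommRing A] [IsDomain A]
    [IsNoetherianRing A] [HenselianLocalRing A] {X : Scheme.{u}}
    (f : X ⟶ Spec (CommRingCat.of A)) [LocallyOfFiniteType f] (x : X)
    (hx : f.base x = IsLocalRing.closedPoint A)
    (hf : EGA43.IsEquidimAt f x) (hcl : ∀ x' : X, f.base x' = f.base x → x ⤳ x' → x' = x) :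
    ∃ (A' : Type u) (_ : CommRing A') (_ : IsDomain A') (_ : IsLocalRing A') (_ : Algebra A A')
      (_ : Module.Finite A A'),
      Function.Injective (algebraMap A A') ∧
      ∃ h : Spec (CommRingCat.of A') ⟶ X,
        h ≫ f = Spec.map (CommRingCat.ofHom (algebraMap A A')) ∧
        IsImmersion h ∧ x ∈ Set.range h.base := by
  haveI : IsIntegral (Spec (CommRingCat.of A)) := inferInstance
  haveI : IrreducibleSpace ↥(Spec (CommRingCat.of A)) := inferInstance
  haveI : IsLocallyNoetherian (Spec (CommRingCat.of A)) := inferInstance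
  obtain ⟨e, he, -⟩ := Groth.Agent.Lib.Helper12.Equidim.exists_e_of_isEquidimAt f x hf
  obtain ⟨T, i, hi1, hi2, hi3, ⟨t, ht⟩, hi5, hi6, hi7, hi8⟩ :=
    Groth.Agent.Lib.Helper12.QuasiSection.quasiSection_aux e X f x hf he hcl
  haveI := hi1; haveI := hi2; haveI := hi3; haveI := hi5; haveI := hi6; haveI := hi8
  haveI : IsIntegral T := isIntegral_of_irreducibleSpace_of_isReduced T
  obtain ⟨_, ⟨(V : T.Opens), hV, rfl⟩, htV, -⟩ :=
    T.isBasis_affineOpens.exists_subset_of_mem_open (Set.mem_univ t) isOpen_univ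
  haveI : IsAffine (V : Scheme) := hV
  haveI : Nonempty ↥(V : Scheme) := ⟨⟨t, htV⟩⟩
  haveI : IsIntegral (V : Scheme) := isIntegral_of_isOpenImmersion V.ι
  obtain ⟨t', ht'⟩ : ∃ t' : ↥V, V.ι.base t' = t := ⟨⟨t, htV⟩, rfl⟩
  obtain ⟨k, hk⟩ : ∃ k : (V : Scheme) ⟶ Spec (CommRingCat.of A), k = V.ι ≫ i ≫ f := ⟨_, rfl⟩
  haveI : LocallyOfFiniteType k := by rw [hk]; infer_instance
  haveI : LocallyQuasiFinite k := by rw [hk]; infer_instance
  haveI : IsSeparated k := inferInstance
  have hkt : k.base t' = IsLocalRing.closedPoint A := by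
    rw [hk, Scheme.Hom.comp_apply, Scheme.Hom.comp_apply, ht', ht]
    exact hx
  have hqf : k.QuasiFiniteAt t' := k.quasiFiniteAt t'
  obtain ⟨hfin, hO, -, -⟩ := finite_stalk_and_fromSpecStalk k t' hkt hqf
  haveI := hO
  obtain ⟨φ, hφ⟩ : ∃ φ : CommRingCat.of A ⟶ (V : Scheme).presheaf.stalk t',
      φ = (Scheme.ΓSpecIso (CommRingCat.of A)).inv ≫ k.appTop ≫
        (V : Scheme).presheaf.germ ⊤ t' trivial := ⟨_, rfl⟩
  rw [← hφ] at hfin
  have hcomp : (V : Scheme).fromSpecStalk t' ≫ k = Spec.map φ := by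
    rw [hφ]; exact fromSpecStalk_comp_eq k t'
  haveI : IsDominant ((V : Scheme).fromSpecStalk t') := by
    refine ⟨?_⟩
    exact IsOpen.dense ((V : Scheme).fromSpecStalk t').isOpenEmbedding.isOpen_range
      ⟨_, ⟨IsLocalRing.closedPoint _, rfl⟩⟩
  haveI : IsDominant V.ι := Opens.isDominant_ι (V.isOpen.dense ⟨t, htV⟩)
  haveI : IsDominant (Spec.map φ) := by
    rw [← hcomp, hk]; infer_instance
  have hinj : Function.Injective φ.hom := by
    have h1 : DenseRange (PrimeSpectrum.comap φ.hom) := (Spec.map φ).denseRange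
    rw [PrimeSpectrum.denseRange_comap_iff_ker_le_nilRadical] at h1
    have h2 : RingHom.ker φ.hom ≤ ⊥ := by
      rw [← Ideal.zero_eq_bot, ← nilradical_eq_zero A]; exact h1
    exact (RingHom.injective_iff_ker_eq_bot _).mpr (le_bot_iff.mp h2)
  refine ⟨(V : Scheme).presheaf.stalk t', inferInstance, inferInstance, inferInstance,
    φ.hom.toAlgebra, hfin, hinj, (V : Scheme).fromSpecStalk t' ≫ V.ι ≫ i, ?_, ?_, ?_⟩
  · have : ((V : Scheme).fromSpecStalk t' ≫ V.ι ≫ i) ≫ f = Spec.map φ := by
      rw [← hcomp, hk]; simp only [Category.assoc]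
    exact this
  · infer_instance
  · refine ⟨IsLocalRing.closedPoint _, ?_⟩
    rw [Scheme.Hom.comp_apply, Scheme.Hom.comp_apply, Scheme.fromSpecStalk_closedPoint, ht', ht]

end Groth.Agent.Lib.Helper8.QuasiSectionHens
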