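import Mathlib
import Groth.Prelude
import Groth.Agent.Lib.Helper8.DvrLiftCrit
import Groth.Agent.Lib.Helper8.DvrExtComplete
import Groth.Agent.Lib.Helper8.QuasiSectionHens
import Groth.Agent.Lib.Helper12.QuasiSectionDed

/-!
# EGA IV 14.5.8, necessity: lifting of points with values in complete discrete valuation rings
-/

set_option autoImplicit false
universe u
open CategoryTheory CategoryTheory.Limits AlgebraicGeometry IsLocalRing EGA43

namespace Groth.Agent.Lib.Helper8.DvrLiftFwd

open Groth.Agent.Lib.Helper12 Groth.Agent.Lib.Helper12.SchemeDimFT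
open Groth.Agent.Lib.Helper12.SchemeDimIneq Groth.Agent.Lib.Helper12.ClosedSub
open Groth.Agent.Lib.Helper12.FibreMax Groth.Agent.Lib.Helper12.DimIneq

section field

theorem eq_closedPoint_of_field (K : Type u) [Field K] (t : ↥(Spec (CommRingCat.of K))) :
    t = closedPoint K := by
  apply PrimeSpectrum.ext
  have h1 : t.asIdeal = ⊥ := by
    rcases Ideal.eq_bot_or_top t.asIdeal with h | h
    · exact h
    · exact absurd h t.isPrime.ne_top
  rw [h1]
  exact (IsLocalRing.maximalIdeal_eq_bot (R := K)).symm

theorem specMap_closedPoint {R S : Type u} [CommRing R] [CommRing S] [IsLocalRing R]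
    [IsLocalRing S] (φ : R →+* S) [IsLocalHom φ] :
    (Spec.map (CommRingCat.ofHom φ)).base (closedPoint S) = closedPoint R :=
  IsLocalRing.comap_closedPoint φ

theorem desc_surjective_of_eq_residue {A : Type u} [CommRing A] [IsLocalRing A]
    (r : Spec (CommRingCat.of (ResidueField A)) ⟶ Spec (CommRingCat.of A))
    (hr : r = Spec.map (CommRingCat.ofHom (residue A))) :
    Function.Surjective (Scheme.descResidueField (Scheme.stalkClosedPointTo r)).hom := by
  have h1 := Scheme.descResidueField_stalkClosedPointTo_fromSpecResidueField (ResidueField A) _ r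
  rw [← Scheme.Spec.map_residueFieldIso_inv_eq_fromSpecResidueField, ← Spec.map_comp,
    ← Spec.map_comp] at h1
  subst hr
  have h2 := Spec.map_injective h1
  have h3 : Function.Surjective
      ((Scheme.descResidueField (Scheme.stalkClosedPointTo
        (Spec.map (CommRingCat.ofHom (residue A))))).hom ∘
        ((CommRingCat.ofHom (algebraMap A _) ≫ (Scheme.Spec.residueFieldIso _ _).inv).hom)) := by
    have h4 : Function.Surjective (CommRingCat.ofHom (residue A)).hom := residue_surjective
    rw [← h2] at h4
    exact h4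
  exact Function.Surjective.of_comp h3

theorem rational_point_facts {A : Type u} [CommRing A] [IsLocalRing A] {P : Scheme.{u}}
    (p : P ⟶ Spec (CommRingCat.of A)) (s₀ : Spec (CommRingCat.of (ResidueField A)) ⟶ P)
    (hs : s₀ ≫ p = Spec.map (CommRingCat.ofHom (residue A))) :
    Function.Surjective (p.residueFieldMap (s₀.base (closedPoint (ResidueField A)))).hom ∧
      Function.Bijective (Scheme.descResidueField (Scheme.stalkClosedPointTo s₀)).hom := by
  have hτ0 := desc_surjective_of_eq_residue (s₀ ≫ p) hs
  have hc := Scheme.descResidueField_stalkClosedPointTo_comp p s₀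
  have hτ : Function.Surjective ((p.residueFieldMap (s₀.base (closedPoint (ResidueField A))) ≫
      Scheme.descResidueField (Scheme.stalkClosedPointTo s₀)).hom) := by
    rw [← hc]; exact hτ0
  have hσs : Function.Surjective (Scheme.descResidueField (Scheme.stalkClosedPointTo s₀)).hom := by
    have h5 : Function.Surjective
        ((Scheme.descResidueField (Scheme.stalkClosedPointTo s₀)).hom ∘
          (p.residueFieldMap (s₀.base (closedPoint (ResidueField A)))).hom) := hτ
    exact Function.Surjective.of_comp h5
  have hσi : Function.Injective (Scheme.descResidueField (Scheme.stalkClosedPointTo s₀)).hom :=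
    RingHom.injective _
  refine ⟨?_, hσi, hσs⟩
  intro y
  obtain ⟨z, hz⟩ := hτ ((Scheme.descResidueField (Scheme.stalkClosedPointTo s₀)).hom y)
  exact ⟨z, hσi hz⟩

theorem closed_in_fibre_of_surjective {P T : Scheme.{u}} (p : P ⟶ T) [LocallyOfFiniteType p]
    (x' : P) (h : Function.Surjective (p.residueFieldMap x').hom) :
    ∀ x'' : P, p.base x'' = p.base x' → x' ⤳ x'' → x'' = x' := by
  intro x'' h1 h2
  by_contra hne
  have h3 := trn_lt_of_specializes p x'' x' h1.symm h2 (Ne.symm hne)
  have h0 : trn p x' = 0 := by
    unfold trn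
    rw [trdeg_eq_zero_of_surjective _ h]
    simp
  rw [h0] at h3
  simp at h3

theorem exists_factor_of_rational {P : Scheme.{u}} {K K' : Type u} [Field K] [Field K']
    (s₀ : Spec (CommRingCat.of K) ⟶ P)
    (hσ : Function.Bijective (Scheme.descResidueField (Scheme.stalkClosedPointTo s₀)).hom)
    (b : Spec (CommRingCat.of K') ⟶ P) (hb : b.base (closedPoint K') = s₀.base (closedPoint K)) :
    ∃ b' : Spec (CommRingCat.of K') ⟶ Spec (CommRingCat.of K), b = b' ≫ s₀ := by
  haveI : IsIso (Scheme.descResidueField (Scheme.stalkClosedPointTo s₀)) :=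
    (ConcreteCategory.isIso_iff_bijective _).mpr hσ
  have h1 := Scheme.descResidueField_stalkClosedPointTo_fromSpecResidueField K P s₀
  have h2 := Scheme.descResidueField_stalkClosedPointTo_fromSpecResidueField K' P b
  have h3 := P.residueFieldCongr_fromSpecResidueField hb.symm
  have h4 : Spec.map (inv (Scheme.descResidueField (Scheme.stalkClosedPointTo s₀))) ≫ s₀ =
      P.fromSpecResidueField (s₀.base (closedPoint K)) := by
    have h5 : Spec.map (inv (Scheme.descResidueField (Scheme.stalkClosedPointTo s₀))) ≫ s₀ =
        Spec.map (inv (Scheme.descResidueField (Scheme.stalkClosedPointTo s₀))) ≫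
          Spec.map (Scheme.descResidueField (Scheme.stalkClosedPointTo s₀)) ≫
            P.fromSpecResidueField (s₀.base (closedPoint K)) := by
      rw [h1]
    rw [h5, ← Category.assoc, ← Spec.map_comp, IsIso.hom_inv_id, Spec.map_id, Category.id_comp]
  refine ⟨Spec.map (Scheme.descResidueField (Scheme.stalkClosedPointTo b)) ≫
    Spec.map (P.residueFieldCongr hb.symm).hom ≫
    Spec.map (inv (Scheme.descResidueField (Scheme.stalkClosedPointTo s₀))), ?_⟩
  calc b = Spec.map (Scheme.descResidueField (Scheme.stalkClosedPointTo b)) ≫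
        P.fromSpecResidueField (b.base (closedPoint K')) := h2.symm
    _ = Spec.map (Scheme.descResidueField (Scheme.stalkClosedPointTo b)) ≫
        Spec.map (P.residueFieldCongr hb.symm).hom ≫
          P.fromSpecResidueField (s₀.base (closedPoint K)) := by rw [h3]
    _ = Spec.map (Scheme.descResidueField (Scheme.stalkClosedPointTo b)) ≫
        Spec.map (P.residueFieldCongr hb.symm).hom ≫
          Spec.map (inv (Scheme.descResidueField (Scheme.stalkClosedPointTo s₀))) ≫ s₀ := by
      rw [h4]
    _ = _ := by simp only [Category.assoc]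

theorem eq_comp_of_rational {P T : Scheme.{u}} (p : P ⟶ T) {K K' : Type u} [Field K] [Field K']
    (s₀ : Spec (CommRingCat.of K) ⟶ P)
    (hσ : Function.Bijective (Scheme.descResidueField (Scheme.stalkClosedPointTo s₀)).hom)
    [Mono (s₀ ≫ p)] (b : Spec (CommRingCat.of K') ⟶ P)
    (hb : b.base (closedPoint K') = s₀.base (closedPoint K))
    (e : Spec (CommRingCat.of K') ⟶ Spec (CommRingCat.of K)) (he : b ≫ p = e ≫ s₀ ≫ p) :
    b = e ≫ s₀ := by
  obtain ⟨b', hb'⟩ := exists_factor_of_rational s₀ hσ b hb
  have h1 : b' ≫ (s₀ ≫ p) = e ≫ (s₀ ≫ p) := by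
    rw [← he, hb', Category.assoc]
  rw [hb', (cancel_mono (s₀ ≫ p)).mp h1]

end field

theorem ringKrullDim_stalk_le_one (A : Type u) [CommRing A] [IsDomain A]
    [IsDiscreteValuationRing A] (y : ↥(Spec (CommRingCat.of A))) :
    ringKrullDim ((Spec (CommRingCat.of A)).presheaf.stalk y) ≤ 1 := by
  let k : Algebra A ↑((Spec (CommRingCat.of A)).presheaf.stalk y) :=
    StructureSheaf.stalkAlgebra A y
  have : IsLocalization.AtPrime (↑((Spec (CommRingCat.of A)).presheaf.stalk y)) y.asIdeal :=
    StructureSheaf.IsLocalization.to_stalk A y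
  rw [IsLocalization.AtPrime.ringKrullDim_eq_height y.asIdeal
    ((Spec (CommRingCat.of A)).presheaf.stalk y)]
  have h1 := Ideal.height_le_ringKrullDim_of_ne_top (I := y.asIdeal) y.isPrime.ne_top
  rw [IsDiscreteValuationRing.ringKrullDim_eq_one A] at h1
  exact h1

end Groth.Agent.Lib.Helper8.DvrLiftFwd
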