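import Mathlib
import Groth.Prelude
import Groth.Agent.Lib.Helper8.DvrLiftFwd

/-!
# EGA IV 14.5.8, sufficiency
-/

set_option autoImplicit false
universe u
open CategoryTheory CategoryTheory.Limits AlgebraicGeometry IsLocalRing EGA43

namespace Groth.Agent.Lib.Helper8.DvrLiftBwd

open Groth.Agent.Lib.Helper8.DvrLiftFwd

/-- The lifting condition of EGA IV 14.5.8. -/
def CompleteLift {X Y : Scheme.{u}} (f : X ⟶ Y) (x : X) : Prop :=
  ∀ (A : Type u) [CommRing A] [IsDomain A] [IsDiscreteValuationRing A]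
    [IsAdicComplete (IsLocalRing.maximalIdeal A) A] [IsAlgClosed (IsLocalRing.ResidueField A)]
    (g : Spec (CommRingCat.of A) ⟶ Y), g.base (IsLocalRing.closedPoint A) = f.base x →
    ∀ u₀ : Spec (CommRingCat.of (IsLocalRing.ResidueField A)) ⟶ X,
      u₀ ≫ f = Spec.map (CommRingCat.ofHom (IsLocalRing.residue A)) ≫ g → x ∈ Set.range u₀.base →
      ∃ (B : CommRingCat.{u}) (_ : IsDomain B) (_ : IsDiscreteValuationRing B) (φ : A →+* B)
        (_ : IsLocalHom φ) (v : Spec B ⟶ X),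
        φ.Finite ∧ v ≫ f = Spec.map (CommRingCat.ofHom φ) ≫ g ∧
        Spec.map (CommRingCat.ofHom (IsLocalRing.ResidueField.map φ)) ≫ u₀ =
          Spec.map (CommRingCat.ofHom (IsLocalRing.residue B)) ≫ v

theorem exists_generization_of_completeLift {X Y : Scheme.{u}} (f : X ⟶ Y) (x : X)
    (LP : CompleteLift f x)
    (R : Type u) [CommRing R] [IsDomain R] [IsDiscreteValuationRing R]
    (g : Spec (CommRingCat.of R) ⟶ Y) (hg : g.base (closedPoint R) = f.base x)
    (x' : ↥(pullback f g)) (hx'1 : (pullback.fst f g).base x' = x)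
    (hx'2 : (pullback.snd f g).base x' = closedPoint R)
    (k : Type u) [Field k] [IsAlgClosed k] (j : Spec (CommRingCat.of k) ⟶ pullback f g)
    (hj : ∀ t, j.base t = x') :
    ∃ z' : ↥(pullback f g), z' ⤳ x' ∧ (pullback.snd f g).base z' ≠ closedPoint R := by
  obtain ⟨φ₀c, hφ₀c⟩ : ∃ φ : CommRingCat.of R ⟶ CommRingCat.of k,
      Spec.map φ = j ≫ pullback.snd f g := ⟨Spec.preimage _, Spec.map_preimage _⟩
  obtain ⟨φ₀, hφ₀⟩ : ∃ φ₀ : R →+* k, CommRingCat.ofHom φ₀ = φ₀c := ⟨φ₀c.hom, rfl⟩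
  subst hφ₀
  haveI : IsLocalHom φ₀ := by
    have h1 : (Spec.map (CommRingCat.ofHom φ₀)).base (closedPoint k) = closedPoint R := by
      rw [hφ₀c, Scheme.Hom.comp_apply, hj, hx'2]
    exact (IsLocalRing.isLocalHom_iff_comap_closedPoint φ₀).mpr h1
  obtain ⟨A, hAr, hAd, hAdvr, ψ, Φ, hAc, hmax, hΦs, hΦk, hΦψ⟩ :=
    DvrExtComplete.exists_complete_dvr_ext φ₀
  letI := hAr
  haveI := hAd
  haveI := hAdvr
  haveI := hAc
  obtain ⟨ε, hε⟩ := DvrExtComplete.exists_residueField_equiv Φ hΦs hΦk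
  haveI : IsAlgClosed (ResidueField A) := IsAlgClosed.of_ringEquiv (k := k) _ ε.symm
  haveI : IsLocalHom ψ := ((IsLocalRing.local_hom_TFAE ψ).out 0 2).mpr hmax.le
  -- the data for the lifting property
  obtain ⟨g', hg'def⟩ : ∃ g', g' = Spec.map (CommRingCat.ofHom ψ) ≫ g := ⟨_, rfl⟩
  have hg' : g'.base (closedPoint A) = f.base x := by
    rw [hg'def, Scheme.Hom.comp_apply, specMap_closedPoint ψ, hg]
  obtain ⟨u₀, hu₀def⟩ : ∃ u₀, u₀ = Spec.map (CommRingCat.ofHom (ε.symm : k →+* ResidueField A)) ≫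
      j ≫ pullback.fst f g := ⟨_, rfl⟩
  have hring : ((ε.symm : k →+* ResidueField A)).comp φ₀ = (residue A).comp ψ := by
    ext r
    show ε.symm (φ₀ r) = residue A (ψ r)
    rw [RingEquiv.symm_apply_eq, hε, ← RingHom.comp_apply, hΦψ]
  have hu₀ : u₀ ≫ f = Spec.map (CommRingCat.ofHom (residue A)) ≫ g' := by
    calc u₀ ≫ f = Spec.map (CommRingCat.ofHom (ε.symm : k →+* ResidueField A)) ≫
          (j ≫ pullback.fst f g ≫ f) := by rw [hu₀def]; simp only [Category.assoc]
      _ = Spec.map (CommRingCat.ofHom (ε.symm : k →+* ResidueField A)) ≫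
          (j ≫ pullback.snd f g) ≫ g := by rw [pullback.condition, Category.assoc]
      _ = Spec.map (CommRingCat.ofHom (ε.symm : k →+* ResidueField A)) ≫
          Spec.map (CommRingCat.ofHom φ₀) ≫ g := by rw [hφ₀c]
      _ = Spec.map (CommRingCat.ofHom (((ε.symm : k →+* ResidueField A)).comp φ₀)) ≫ g := by
        rw [CommRingCat.ofHom_comp, Spec.map_comp, Category.assoc]
      _ = Spec.map (CommRingCat.ofHom ((residue A).comp ψ)) ≫ g := by rw [hring]
      _ = Spec.map (CommRingCat.ofHom (residue A)) ≫ g' := by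
        rw [hg'def, CommRingCat.ofHom_comp, Spec.map_comp, Category.assoc]
  have hxu₀ : x ∈ Set.range u₀.base := by
    refine ⟨closedPoint _, ?_⟩
    rw [hu₀def, Scheme.Hom.comp_apply, Scheme.Hom.comp_apply, hj, hx'1]
  obtain ⟨B₁, hB₁d, hB₁dvr, φ₁, hφ₁loc, v, hφ₁fin, hv, hcompat⟩ := LP A g' hg' u₀ hu₀ hxu₀
  haveI := hB₁d
  haveI := hB₁dvr
  haveI := hφ₁loc
  have hvcond : v ≫ f = (Spec.map (CommRingCat.ofHom φ₁) ≫ Spec.map (CommRingCat.ofHom ψ)) ≫ g := by
    rw [hv, hg'def, Category.assoc]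
  obtain ⟨t, ht⟩ : ∃ t, t = pullback.lift v
      (Spec.map (CommRingCat.ofHom φ₁) ≫ Spec.map (CommRingCat.ofHom ψ)) hvcond := ⟨_, rfl⟩
  have ht1 : t ≫ pullback.fst f g = v := by rw [ht]; exact pullback.lift_fst _ _ _
  have ht2 : t ≫ pullback.snd f g =
      Spec.map (CommRingCat.ofHom φ₁) ≫ Spec.map (CommRingCat.ofHom ψ) := by
    rw [ht]; exact pullback.lift_snd _ _ _
  have hR : (residue B₁).comp (φ₁.comp ψ) =
      (ResidueField.map φ₁).comp (((ε.symm : k →+* ResidueField A)).comp φ₀) := by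
    rw [hring, ← RingHom.comp_assoc, ← RingHom.comp_assoc,
      IsLocalRing.ResidueField.map_comp_residue]
  have hr : Spec.map (CommRingCat.ofHom (residue B₁)) ≫ t =
      Spec.map (CommRingCat.ofHom (ResidueField.map φ₁)) ≫
        Spec.map (CommRingCat.ofHom (ε.symm : k →+* ResidueField A)) ≫ j := by
    apply pullback.hom_ext
    · rw [Category.assoc, ht1, ← hcompat, hu₀def]
      simp only [Category.assoc]
    · rw [Category.assoc, ht2, Category.assoc, Category.assoc, ← hφ₀c]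
      have hL : Spec.map (CommRingCat.ofHom (residue B₁)) ≫
          Spec.map (CommRingCat.ofHom φ₁) ≫ Spec.map (CommRingCat.ofHom ψ) =
          Spec.map (CommRingCat.ofHom ((residue B₁).comp (φ₁.comp ψ))) := by
        simp only [CommRingCat.ofHom_comp, Spec.map_comp, Category.assoc]
      have hRR : Spec.map (CommRingCat.ofHom (ResidueField.map φ₁)) ≫
          Spec.map (CommRingCat.ofHom (ε.symm : k →+* ResidueField A)) ≫
            Spec.map (CommRingCat.ofHom φ₀) =
          Spec.map (CommRingCat.ofHom ((ResidueField.map φ₁).comp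
            (((ε.symm : k →+* ResidueField A)).comp φ₀))) := by
        simp only [CommRingCat.ofHom_comp, Spec.map_comp, Category.assoc]
      rw [hL, hRR, hR]
  have hxcl : t.base (closedPoint B₁) = x' := by
    have h1 : (Spec.map (CommRingCat.ofHom (residue B₁)) ≫ t).base
        (closedPoint (ResidueField B₁)) = x' := by
      rw [hr, Scheme.Hom.comp_apply, Scheme.Hom.comp_apply, hj]
    rw [Scheme.Hom.comp_apply, specMap_closedPoint (residue B₁)] at h1
    exact h1
  -- the generic point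
  obtain ⟨η₁, hη₁⟩ : ∃ η₁ : ↥(Spec B₁), η₁.asIdeal = ⊥ := ⟨⟨⊥, Ideal.isPrime_bot⟩, rfl⟩
  refine ⟨t.base η₁, ?_, ?_⟩
  · rw [← hxcl]
    exact (IsLocalRing.specializes_closedPoint η₁).map t.continuous
  · intro hcontra
    have h1 : (Spec.map (CommRingCat.ofHom φ₁) ≫ Spec.map (CommRingCat.ofHom ψ)).base η₁ =
        closedPoint R := by
      rw [← ht2, Scheme.Hom.comp_apply]; exact hcontra
    have h2 : ((η₁.asIdeal).comap φ₁).comap ψ = maximalIdeal R :=
      congrArg PrimeSpectrum.asIdeal h1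
    rw [hη₁] at h2
    have h3 : maximalIdeal A ≤ (⊥ : Ideal B₁).comap φ₁ := by
      rw [← hmax, Ideal.map_le_iff_le_comap, h2]
    have hp : ((⊥ : Ideal B₁).comap φ₁).IsPrime := Ideal.comap_isPrime φ₁ ⊥
    have h4 : maximalIdeal A = (⊥ : Ideal B₁).comap φ₁ :=
      (IsLocalRing.maximalIdeal.isMaximal A).eq_of_le hp.ne_top h3
    have h5 : (⊥ : Ideal B₁).IsMaximal :=
      Ideal.isMaximal_of_isIntegral_of_isMaximal_comap' φ₁ hφ₁fin.to_isIntegral ⊥
        (by rw [← h4]; infer_instance)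
    exact IsDiscreteValuationRing.not_isField B₁ (Ring.isField_iff_maximal_bot.mpr h5)

theorem isUnivOpenAt_of_completeLift {X Y : Scheme.{u}} [IsLocallyNoetherian Y] (f : X ⟶ Y)
    [LocallyOfFiniteType f] (x : X) (LP : CompleteLift f x) : EGA43.IsUnivOpenAt f x := by
  apply DvrLiftCrit.isUnivOpenAt_of_dvrLift
  intro R _ _ _ g hg x' hx'1 hx'2
  refine exists_generization_of_completeLift f x LP R g hg x' hx'1 hx'2
    (AlgebraicClosure ((pullback f g).residueField x'))
    (Spec.map (CommRingCat.ofHom (algebraMap ((pullback f g).residueField x')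
      (AlgebraicClosure ((pullback f g).residueField x')))) ≫
      (pullback f g).fromSpecResidueField x') ?_
  intro t
  rw [Scheme.Hom.comp_apply, Scheme.fromSpecResidueField_apply]

end Groth.Agent.Lib.Helper8.DvrLiftBwd
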