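import Mathlib
import Groth.Prelude
import Groth.Agent.Lib.Helper8.DvrLiftFwd

/-!
# EGA IV 14.5.8, necessity
-/

set_option autoImplicit false
universe u
open CategoryTheory CategoryTheory.Limits AlgebraicGeometry IsLocalRing EGA43

namespace Groth.Agent.Lib.Helper8.DvrLiftFwd

open Groth.Agent.Lib.Helper12 Groth.Agent.Lib.Helper12.SchemeDimFT
open Groth.Agent.Lib.Helper12.SchemeDimIneq Groth.Agent.Lib.Helper12.ClosedSub
open Groth.Agent.Lib.Helper12.FibreMax Groth.Agent.Lib.Helper12.DimIneq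

theorem exists_dvr_lift {X Y : Scheme.{u}} [IsLocallyNoetherian Y] (f : X ⟶ Y)
    [LocallyOfFiniteType f] (x : X) (hUO : EGA43.IsUnivOpenAt f x)
    (A : Type u) [CommRing A] [IsDomain A] [IsDiscreteValuationRing A]
    [IsAdicComplete (IsLocalRing.maximalIdeal A) A]
    (g : Spec (CommRingCat.of A) ⟶ Y) (hg : g.base (IsLocalRing.closedPoint A) = f.base x)
    (u₀ : Spec (CommRingCat.of (IsLocalRing.ResidueField A)) ⟶ X)
    (hu₀ : u₀ ≫ f = Spec.map (CommRingCat.ofHom (IsLocalRing.residue A)) ≫ g)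
    (hx : x ∈ Set.range u₀.base) :
    ∃ (B : CommRingCat.{u}) (_ : IsDomain B) (_ : IsDiscreteValuationRing B) (φ : A →+* B)
      (_ : IsLocalHom φ) (v : Spec B ⟶ X),
      φ.Finite ∧ v ≫ f = Spec.map (CommRingCat.ofHom φ) ≫ g ∧
      Spec.map (CommRingCat.ofHom (IsLocalRing.ResidueField.map φ)) ≫ u₀ =
        Spec.map (CommRingCat.ofHom (IsLocalRing.residue B)) ≫ v := by
  haveI : HenselianLocalRing A :=
    { is_henselian := fun f hf a₀ h₁ h₂ =>
        HenselianRing.is_henselian (I := IsLocalRing.maximalIdeal A) f hf a₀ h₁ (h₂.map _) }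
  -- the base change
  obtain ⟨fst, hfst⟩ : ∃ q, q = pullback.fst f g := ⟨_, rfl⟩
  obtain ⟨snd, hsnd⟩ : ∃ q, q = pullback.snd f g := ⟨_, rfl⟩
  have hcond : fst ≫ f = snd ≫ g := by rw [hfst, hsnd]; exact pullback.condition
  haveI : LocallyOfFiniteType snd := by
    rw [hsnd]; exact MorphismProperty.pullback_snd (P := @LocallyOfFiniteType) f g inferInstance
  obtain ⟨s₀, hs₀⟩ : ∃ s, s = pullback.lift u₀ (Spec.map (CommRingCat.ofHom (residue A))) hu₀ :=
    ⟨_, rfl⟩
  have hs₀1 : s₀ ≫ fst = u₀ := by rw [hs₀, hfst]; exact pullback.lift_fst _ _ _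
  have hs₀2 : s₀ ≫ snd = Spec.map (CommRingCat.ofHom (residue A)) := by
    rw [hs₀, hsnd]; exact pullback.lift_snd _ _ _
  obtain ⟨hρ, hσ⟩ := rational_point_facts snd s₀ hs₀2
  set x' := s₀.base (closedPoint (ResidueField A)) with hx'
  have hx'1 : fst.base x' = x := by
    obtain ⟨t, ht⟩ := hx
    rw [eq_closedPoint_of_field _ t] at ht
    rw [hx', ← Scheme.Hom.comp_apply, hs₀1]; exact ht
  have hx'2 : snd.base x' = closedPoint A := by
    rw [hx', ← Scheme.Hom.comp_apply, hs₀2]
    exact specMap_closedPoint (residue A)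
  have hclx' : ∀ x'' : ↥(pullback f g), snd.base x'' = snd.base x' → x' ⤳ x'' → x'' = x' :=
    closed_in_fibre_of_surjective snd x' hρ
  -- DVR lifting
  obtain ⟨z', hz'1, hz'2⟩ := DvrLiftCrit.dvrLift_of_isUnivOpenAt f x hUO A g hg x'
    (by rw [← hfst]; exact hx'1) (by rw [← hsnd]; exact hx'2)
  rw [← hsnd] at hz'2
  -- maximal generization
  haveI : IsLocallyNoetherian (pullback f g) := LocallyOfFiniteType.isLocallyNoetherian snd
  obtain ⟨ξ, hξmax, hξz'⟩ := exists_isMaxPt_specializes z'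
  have hξx' : ξ ⤳ x' := hξz'.trans hz'1
  have hsξ : (snd.base ξ).asIdeal = ⊥ := by
    apply DvrLiftCrit.asIdeal_eq_bot_of_ne_closedPoint A
    intro h
    apply hz'2
    have h1 : snd.base ξ ⤳ snd.base z' := hξz'.map snd.continuous
    rw [h] at h1
    exact ((IsLocalRing.specializes_closedPoint (snd.base z')).antisymm h1).eq
  have hξgen : IsMaxPt (snd.base ξ) := by
    apply Groth.Agent.Lib.Helper12.QuasiSection.isMaxPt_of_closure_eq_univ
    apply Set.eq_univ_of_forall
    intro z
    rw [← specializes_iff_mem_closure]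
    exact (PrimeSpectrum.le_iff_specializes (R := A) (snd.base ξ) z).mp (by
      change (snd.base ξ).asIdeal ≤ z.asIdeal
      rw [hsξ]; exact bot_le)
  have hY : ∀ y : ↥(Spec (CommRingCat.of A)),
      ringKrullDim ((Spec (CommRingCat.of A)).presheaf.stalk y) ≤ 1 := ringKrullDim_stalk_le_one A
  haveI : IsIntegral (Spec (CommRingCat.of A)) := inferInstance
  haveI : IrreducibleSpace ↥(Spec (CommRingCat.of A)) := inferInstance
  obtain ⟨w, hw⟩ := exists_clSubι_eq (pullback f g) ξ x' hξx'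
  have heq := Groth.Agent.Lib.Helper12.QuasiSection.isEquidimAt_clSub_of_dim_le_one snd hY ξ hξgen w
  obtain ⟨F, hF⟩ : ∃ F, F = clSubι (pullback f g) ξ ≫ snd := ⟨_, rfl⟩
  rw [← hF] at heq
  haveI : LocallyOfFiniteType F := by rw [hF]; infer_instance
  have hFw : F.base w = closedPoint A := by rw [hF, Scheme.Hom.comp_apply, hw]; exact hx'2
  have hclw : ∀ w' : clSub (pullback f g) ξ, F.base w' = F.base w → w ⤳ w' → w' = w := by
    intro w' hw' hsp
    have h1 : snd.base (clSubι (pullback f g) ξ w') = snd.base x' := by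
      have h0 := hw'
      rw [hFw, hF, Scheme.Hom.comp_apply] at h0
      rw [h0, hx'2]
    have h2 : x' ⤳ clSubι (pullback f g) ξ w' := by
      have := hsp.map (clSubι (pullback f g) ξ).continuous
      rwa [hw] at this
    exact (clSubι (pullback f g) ξ).isEmbedding.injective ((hclx' _ h1 h2).trans hw.symm)
  obtain ⟨A', hA'r, hA'd, hA'l, hA'a, hA'f, hinj, h, hh, himm, t, ht⟩ :=
    QuasiSectionHens.exists_finite_local_domain_section F w hFw heq hclw
  letI := hA'r
  haveI := hA'd
  haveI := hA'l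
  letI := hA'a
  haveI := hA'f
  obtain ⟨B, hBr, hBd, hBdvr, hBa, ι, hBfin, hlocAB, hlocι⟩ :=
    DvrExtComplete.exists_finite_dvr_over (A := A) (A' := A') hinj
  letI := hBr
  haveI := hBd
  haveI := hBdvr
  letI := hBa
  haveI := hBfin
  haveI := hlocAB
  haveI := hlocι
  -- `t` is the closed point of `A'`
  have htcl : t = closedPoint A' := by
    have h1 : (Spec.map (CommRingCat.ofHom (algebraMap A A'))).base t = closedPoint A := by
      rw [← hh, Scheme.Hom.comp_apply, ht, hFw]
    have h2 : t.asIdeal.comap (algebraMap A A') = maximalIdeal A :=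
      congrArg PrimeSpectrum.asIdeal h1
    haveI : Algebra.IsIntegral A A' := inferInstance
    have h3 : t.asIdeal.IsMaximal :=
      Ideal.isMaximal_of_isIntegral_of_isMaximal_comap t.asIdeal (by rw [h2]; infer_instance)
    apply PrimeSpectrum.ext
    exact IsLocalRing.eq_maximalIdeal h3
  -- the morphism from `Spec B`
  obtain ⟨vP, hvP⟩ : ∃ vP : Spec (CommRingCat.of B) ⟶ pullback f g,
      vP = Spec.map (CommRingCat.ofHom ι.toRingHom) ≫ h ≫ clSubι (pullback f g) ξ := ⟨_, rfl⟩
  have hιalg : ι.toRingHom.comp (algebraMap A A') = algebraMap A B := by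
    ext a; exact ι.commutes a
  have hvP2 : vP ≫ snd = Spec.map (CommRingCat.ofHom (algebraMap A B)) := by
    rw [hvP, Category.assoc, Category.assoc, ← hF, hh, ← Spec.map_comp, ← CommRingCat.ofHom_comp,
      hιalg]
  have hvPcl : vP.base (closedPoint B) = x' := by
    rw [hvP, Scheme.Hom.comp_apply, Scheme.Hom.comp_apply, specMap_closedPoint ι.toRingHom,
      ← htcl, ht, hw]
  -- compatibility at the closed point
  obtain ⟨e, he0⟩ : ∃ e, e = Spec.map (CommRingCat.ofHom (ResidueField.map (algebraMap A B))) :=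
    ⟨_, rfl⟩
  obtain ⟨b, hb0⟩ : ∃ b, b = Spec.map (CommRingCat.ofHom (residue B)) ≫ vP := ⟨_, rfl⟩
  haveI : Mono (s₀ ≫ snd) := by
    rw [hs₀2]
    haveI : IsClosedImmersion (Spec.map (CommRingCat.ofHom (residue A))) :=
      IsClosedImmersion.spec_of_surjective _ residue_surjective
    infer_instance
  have hb : b.base (closedPoint (ResidueField B)) = s₀.base (closedPoint (ResidueField A)) := by
    rw [hb0, Scheme.Hom.comp_apply, specMap_closedPoint (residue B), hvPcl]
  have he : b ≫ snd = e ≫ s₀ ≫ snd := by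
    rw [hs₀2, hb0, he0, Category.assoc, hvP2, ← Spec.map_comp, ← Spec.map_comp,
      ← CommRingCat.ofHom_comp, ← CommRingCat.ofHom_comp,
      IsLocalRing.ResidueField.map_comp_residue]
  have hbe := eq_comp_of_rational snd s₀ hσ b hb e he
  refine ⟨CommRingCat.of B, hBd, hBdvr, algebraMap A B, hlocAB, vP ≫ fst, ?_, ?_, ?_⟩
  · exact RingHom.finite_algebraMap.mpr hBfin
  · rw [Category.assoc, hcond, ← Category.assoc, hvP2]
  · rw [← he0, ← hs₀1, ← Category.assoc, ← hbe, hb0, Category.assoc]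

end Groth.Agent.Lib.Helper8.DvrLiftFwd
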