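/-
Helper8 library: the locus where two morphisms into a scheme with open diagonal agree.
-/
import Mathlib

set_option autoImplicit false
universe u

open CategoryTheory AlgebraicGeometry CategoryTheory.Limits

namespace Groth.Agent.Lib.Helper8

/-- The open locus of `X` where `f` and `g : X ⟶ Y` agree, when the diagonal of `h : Y ⟶ S` is an open
immersion. -/
noncomputable def eqOpens {X Y S : Scheme.{u}} (h : Y ⟶ S) [IsOpenImmersion (pullback.diagonal h)]
    (f g : X ⟶ Y) (w : f ≫ h = g ≫ h) : X.Opens :=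
  (pullback.lift f g w) ⁻¹ᵁ (pullback.diagonal h).opensRange

theorem coe_eqOpens {X Y S : Scheme.{u}} (h : Y ⟶ S) [IsOpenImmersion (pullback.diagonal h)]
    (f g : X ⟶ Y) (w : f ≫ h = g ≫ h) :
    ((eqOpens h f g w : X.Opens) : Set X) =
      (pullback.lift f g w).base ⁻¹' Set.range (pullback.diagonal h).base := rfl

theorem eqOpens_ι_comp {X Y S : Scheme.{u}} (h : Y ⟶ S) [IsOpenImmersion (pullback.diagonal h)]
    (f g : X ⟶ Y) (w : f ≫ h = g ≫ h) :
    (eqOpens h f g w).ι ≫ f = (eqOpens h f g w).ι ≫ g := by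
  have hr : Set.range ((eqOpens h f g w).ι ≫ pullback.lift f g w).base ⊆
      Set.range (pullback.diagonal h).base := by
    rintro _ ⟨x, rfl⟩
    rw [Scheme.Hom.comp_apply]
    exact x.2
  have hfac := IsOpenImmersion.lift_fac (pullback.diagonal h)
    ((eqOpens h f g w).ι ≫ pullback.lift f g w) hr
  have h1 := congrArg (fun t => t ≫ pullback.fst h h) hfac
  have h2 := congrArg (fun t => t ≫ pullback.snd h h) hfac
  simp only [Category.assoc, pullback.diagonal_fst, pullback.diagonal_snd, Category.comp_id,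
    pullback.lift_fst, pullback.lift_snd] at h1 h2
  rw [← h1, ← h2]

theorem range_subset_eqOpens {X Y S T : Scheme.{u}} (h : Y ⟶ S)
    [IsOpenImmersion (pullback.diagonal h)]
    (f g : X ⟶ Y) (w : f ≫ h = g ≫ h) (k : T ⟶ X) (hk : k ≫ f = k ≫ g) :
    Set.range k.base ⊆ (eqOpens h f g w : Set X) := by
  rintro _ ⟨z, rfl⟩
  rw [coe_eqOpens]
  have hfac : k ≫ pullback.lift f g w = (k ≫ f) ≫ pullback.diagonal h := by
    apply pullback.hom_ext
    · rw [Category.assoc, pullback.lift_fst, Category.assoc, pullback.diagonal_fst,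
        Category.comp_id]
    · rw [Category.assoc, pullback.lift_snd, Category.assoc, pullback.diagonal_snd,
        Category.comp_id, hk]
  show (pullback.lift f g w).base (k.base z) ∈ Set.range (pullback.diagonal h).base
  rw [← Scheme.Hom.comp_apply, hfac, Scheme.Hom.comp_apply]
  exact ⟨_, rfl⟩

end Groth.Agent.Lib.Helper8
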