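import Mathlib
import Groth.Prelude
import Groth.Agent.Lib.Helper8.ChevalleyPt
import Groth.Agent.Lib.Helper12.EquidimOpen2

/-!
# Equidimensional morphisms over a geometrically unibranch point (EGA IV 14.4.6)

* `isEquidimAt_of_specializes_fibre`: equidimensionality passes to generizations in the fibre.
* `isUnivOpenAt_of_isEquidimAt_fibre`: an equidimensional morphism is universally open at the
  generizations of `x` in its fibre (over a geometrically unibranch point).
* `dim_stalk_add_trn`: the dimension formula.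
* `isEquidim_stalk_of_isEquidimAt`: `O_{X,x}` is equidimensional.
-/

set_option autoImplicit false
universe u v
open Polynomial Cardinal AlgebraicGeometry CategoryTheory

namespace Groth.Agent.Lib.Helper8.EquidimTFAE

open Groth.Agent.Lib.Helper8 Groth.Agent.Lib.Helper8.ChevalleyPt
open Groth.Agent.Lib.Helper8.EquidimUnivOpenAt
open Groth.Agent.Lib.Helper12.OrdTools Groth.Agent.Lib.Helper12.DimIneq
open Groth.Agent.Lib.Helper12 Groth.Agent.Lib.Helper12.SchemeDimFT
open Groth.Agent.Lib.Helper12.ChevalleyCor Groth.Agent.Lib.Helper12.SchemeDimIneq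
open Groth.Agent.Lib.Helper14 Order Groth.Agent.Lib.Helper12.Equidim
open Groth.Agent.Lib.Helper12.ClosedSub Groth.Agent.Lib.Helper12.JacDim
open Groth.Agent.Lib.Helper12.FibreMax Groth.Agent.Lib.Helper12.EquidimSub
open Groth.Agent.Lib.Helper12.EquidimComp Groth.Agent.Lib.Helper12.EquidimOpen

section Basic

variable {X Y : Scheme.{u}} (f : X ⟶ Y)

/-- Equidimensionality at `x` passes to the generizations of `x` in the fibre through `x`. -/
theorem isEquidimAt_of_specializes_fibre (x z : X) (hz : f.base z = f.base x) (hzx : z ⤳ x)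
    (h : EGA43.IsEquidimAt f x) : EGA43.IsEquidimAt f z := by
  obtain ⟨e, U, hxU, hcomp, hfib⟩ := h
  refine ⟨e, U, hzx.mem_open U.2 hxU, ?_, hfib⟩
  intro Z hZ
  obtain ⟨W, hW, hxW, hcl⟩ := hcomp Z hZ
  refine ⟨W, hW, ?_, hcl⟩
  rw [hz]; exact hxW

/-- The dimension of the local ring of the closure of `ξ` at `w` is the dimension of the
interval between the image of `w` and `ξ`. -/
theorem ringKrullDim_stalk_clSub (ξ : X) (w : clSub X ξ) :
    ringKrullDim ((clSub X ξ).presheaf.stalk w) =
      Order.krullDim (Set.Icc (clSubι X ξ w) ξ) := by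
  rw [ringKrullDim_stalk_eq_coheight w]
  have h1 := krullDim_Icc_eq_coheight_of_greatest w (genericPoint (clSub X ξ))
    (fun z => genericPoint_specializes z)
  rw [← h1]
  let e : clSub X ξ ↪o X :=
    { toFun := fun z => clSubι X ξ z
      inj' := (clSubι X ξ).isEmbedding.injective
      map_rel_iff' := fun {a b} =>
        show clSubι X ξ b ⤳ clSubι X ξ a ↔ b ⤳ a from
          (clSubι X ξ).isEmbedding.isInducing.specializes_iff }
  have he : (Set.range e).OrdConnected := by
    refine ⟨?_⟩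
    rintro _ ⟨a, rfl⟩ _ ⟨b, rfl⟩ c ⟨-, hcb⟩
    have h2 : e b ⤳ c := hcb
    have h3 : e b ∈ closure ({ξ} : Set X) := by
      rw [← range_clSubι X ξ]; exact ⟨b, rfl⟩
    have h4 : c ∈ closure ({ξ} : Set X) := h2.mem_closed isClosed_closure h3
    rw [← range_clSubι X ξ] at h4
    exact h4
  have h2 := Groth.Agent.Lib.Helper12.OrdTools.krullDim_Icc_eq e he w (genericPoint (clSub X ξ))
  rw [← h2]
  show Order.krullDim (Set.Icc (clSubι X ξ w) (clSubι X ξ (genericPoint (clSub X ξ)))) = _
  rw [clSubι_genericPoint]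

end Basic

section Main

variable {X Y : Scheme.{u}} (f : X ⟶ Y) [LocallyOfFiniteType f]

/-- Translation between the two ways of quantifying over the maximal points of the fibre
through `x` which generize `x`. -/
theorem forall_fibre_max_iff (x : X) (P : X → Prop) :
    (∀ z : ↥(f.fiber (f.base x)), f.asFiber x ∈ closure {z} →
      (∀ z' : ↥(f.fiber (f.base x)), z ∈ closure {z'} → z' = z) →
        P ((f.fiberι (f.base x)).base z)) ↔
    (∀ z : X, f z = f x → z ⤳ x → (∀ z' : X, f z' = f z → z' ⤳ z → z' = z) → P z) := by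
  constructor
  · intro h z hz hzx hzmax
    have hζ : f.fiberι (f x) ((f.fiberHomeo (f x)).symm ⟨z, hz⟩) = z :=
      f.fiberι_fiberHomeo_symm (f x) ⟨z, hz⟩
    have h1 := h ((f.fiberHomeo (f x)).symm ⟨z, hz⟩) ?_ ?_
    · rw [hζ] at h1; exact h1
    · rw [← specializes_iff_mem_closure]
      apply (f.fiberι (f x)).isEmbedding.isInducing.specializes_iff.mp
      rw [hζ, f.fiberι_asFiber x]
      exact hzx
    · intro z' hz'
      have h2 : z' ⤳ (f.fiberHomeo (f x)).symm ⟨z, hz⟩ := specializes_iff_mem_closure.mpr hz'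
      have h3 := h2.map (f.fiberι (f x)).continuous
      rw [hζ] at h3
      have h4 : f (f.fiberι (f x) z') = f z := by
        rw [hz]
        exact apply_fiberι f (f x) z'
      have h5 := hzmax _ h4 h3
      exact (f.fiberι (f x)).isEmbedding.injective (h5.trans hζ.symm)
  · intro h z hz hzmax
    have hfz : f (f.fiberι (f x) z) = f x := apply_fiberι f (f x) z
    refine h _ hfz ?_ ?_
    · have h1 : z ⤳ f.asFiber x := specializes_iff_mem_closure.mpr hz
      have h2 := h1.map (f.fiberι (f x)).continuous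
      rwa [f.fiberι_asFiber x] at h2
    · intro z'' hz'' hsp
      have hz''x : f z'' = f x := hz''.trans hfz
      have hζ : f.fiberι (f x) ((f.fiberHomeo (f x)).symm ⟨z'', hz''x⟩) = z'' :=
        f.fiberι_fiberHomeo_symm (f x) ⟨z'', hz''x⟩
      have h3 : (f.fiberHomeo (f x)).symm ⟨z'', hz''x⟩ ⤳ z := by
        apply (f.fiberι (f x)).isEmbedding.isInducing.specializes_iff.mp
        rw [hζ]; exact hsp
      have h4 := hzmax _ (specializes_iff_mem_closure.mp h3)
      rw [← hζ, h4]

/-- An equidimensional morphism is universally open at the generizations of `x` in the fibre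
through `x`, when `f x` is geometrically unibranch. -/
theorem isUnivOpenAt_of_isEquidimAt_fibre [IsLocallyNoetherian Y] (x : X)
    (hy : CAlg2.IsGeomUnibranch (Y.presheaf.stalk (f.base x))) (h : EGA43.IsEquidimAt f x)
    (z : X) (hz : f.base z = f.base x) (hzx : z ⤳ x) : EGA43.IsUnivOpenAt f z :=
  isUnivOpenAt_of_isEquidimAt f z (by rw [hz]; exact hy)
    (isEquidimAt_of_specializes_fibre f x z hz hzx h)

/-- The dimension formula for an equidimensional morphism over a geometrically unibranch point. -/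
theorem dim_stalk_add_trn [IsLocallyNoetherian Y] (x : X)
    (hy : CAlg2.IsGeomUnibranch (Y.presheaf.stalk (f.base x))) (h : EGA43.IsEquidimAt f x) :
    ringKrullDim (X.presheaf.stalk x) + ((trn f x : ℕ∞) : WithBot ℕ∞) =
      ringKrullDim (Y.presheaf.stalk (f.base x)) + FlatMor.fibreDimAt f x := by
  have hopen : ∀ z : X, f z = f x → z ⤳ x → (∀ z' : X, f z' = f z → z' ⤳ z → z' = z) →
      EGA43.IsOpenAt f.base z := by
    intro z hz hzx _
    exact isOpenAt_of_isUnivOpenAt f z (isUnivOpenAt_of_isEquidimAt_fibre f x hy h z hz hzx)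
  rw [dim_formula_of_isOpenAt f x hopen, fibreDimAt_eq_trn_add f x, add_assoc,
    add_comm (ringKrullDim ((f.fiber (f.base x)).presheaf.stalk (f.asFiber x)))]

/-- **EGA IV 14.4.6, a) ⟹ `O_{X,x}` equidimensional.** -/
theorem isEquidim_stalk_of_isEquidimAt [IsLocallyNoetherian Y] (x : X)
    (hy : CAlg2.IsGeomUnibranch (Y.presheaf.stalk (f.base x))) (h : EGA43.IsEquidimAt f x) :
    EGA4.IsEquidim (X.presheaf.stalk x) := by
  haveI : IsLocallyNoetherian X := LocallyOfFiniteType.isLocallyNoetherian f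
  intro 𝔭 h𝔭
  haveI h𝔭p : 𝔭.IsPrime := h𝔭.1.1
  obtain ⟨𝔭', h𝔭'⟩ : ∃ 𝔭' : PrimeSpectrum (X.presheaf.stalk x), 𝔭'.asIdeal = 𝔭 := ⟨⟨𝔭, h𝔭p⟩, rfl⟩
  subst h𝔭'
  obtain ⟨ξ, hξ⟩ : ∃ ξ : X, ξ = (X.fromSpecStalk x) 𝔭' := ⟨_, rfl⟩
  have hξmax : IsMaxPt ξ := hξ ▸ isMaxPt_fromSpecStalk x 𝔭' h𝔭
  have hξx : ξ ⤳ x := by
    have : ξ ∈ Set.range (X.fromSpecStalk x) := ⟨𝔭', hξ.symm⟩
    rw [Scheme.range_fromSpecStalk] at this
    exact this
  obtain ⟨e, hcomp⟩ := (isEquidimAt_iff_components f x).mp h
  obtain ⟨e', he'1, he'2⟩ := exists_e_of_isEquidimAt f x h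
  have hXj : closure ({ξ} : Set X) ∈ irreducibleComponents (X : Type u) :=
    (mem_irreducibleComponents_iff _).mpr ⟨ξ, hξmax, rfl⟩
  have hx : x ∈ closure ({ξ} : Set X) := specializes_iff_mem_closure.mp hξx
  obtain ⟨hdom, hgenfib, hloc⟩ := hcomp _ hXj hx
  have hcl' : closure (f.base '' closure ({ξ} : Set X)) = closure {f ξ} :=
    closure_image_closure_singleton' f ξ
  have htrn : trn f ξ = (e : ℕ∞) := by
    have h1 := hgenfib (f ξ) hcl'.symm
    rw [dim_generic_fibre_closure f ξ] at h1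
    exact_mod_cast h1
  have hee' : e = e' := by
    have := he'2 ξ hξmax hξx
    rw [htrn] at this
    exact_mod_cast this
  have hgen : IsMaxPt (f ξ) := by
    apply (closure_singleton_mem_irreducibleComponents_iff (f ξ)).mp
    rw [← hcl']; exact hdom
  obtain ⟨w, hw⟩ := exists_clSubι_eq X ξ x hξx
  have h1 := localDim_inter_fibre_eq (clSubι X ξ) f (clSubι X ξ).isEmbedding (closure {ξ})
    (range_clSubι X ξ) w x hw hx
  have hfdw : FlatMor.fibreDimAt (clSubι X ξ ≫ f) w = e := by rw [← h1]; exact hloc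
  have heq := isEquidimAt_clSub' f ξ e htrn hgen w (le_of_eq hfdw)
  have hfw : (clSubι X ξ ≫ f).base w = f.base x := by
    rw [Scheme.Hom.comp_apply, hw]
  have hy' : CAlg2.IsGeomUnibranch (Y.presheaf.stalk ((clSubι X ξ ≫ f).base w)) := by
    rw [hfw]; exact hy
  have A := dim_stalk_add_trn f x hy h
  have B := dim_stalk_add_trn (clSubι X ξ ≫ f) w hy' heq
  rw [he'1] at A
  rw [hfdw, trn_comp_preimmersion (clSubι X ξ) f w, hw, hfw] at B
  haveI : IsLocallyNoetherian (clSub X ξ) :=
    LocallyOfFiniteType.isLocallyNoetherian (clSubι X ξ ≫ f)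
  obtain ⟨dX, hdX⟩ := exists_nat_ringKrullDim_stalk X x
  obtain ⟨dT, hdT⟩ := exists_nat_ringKrullDim_stalk (clSub X ξ) w
  obtain ⟨t, ht⟩ := exists_trn_eq f x
  have hdim : ringKrullDim ((clSub X ξ).presheaf.stalk w) =
      ringKrullDim (X.presheaf.stalk x) := by
    rw [hdX, ht] at A
    rw [hdT, ht] at B
    subst hee'
    have hAB := A.trans B.symm
    rw [hdX, hdT]
    have h5 : dX + t = dT + t := by exact_mod_cast hAB
    have h6 : dX = dT := by omega
    rw [h6]
  have hq := ringKrullDim_quotient_stalk_eq x 𝔭'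
  have hT := ringKrullDim_stalk_clSub ξ w
  rw [hw] at hT
  rw [← hdim, hT, hq, hξ]

end Main

end Groth.Agent.Lib.Helper8.EquidimTFAE
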