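import Mathlib
import Groth.Prelude
import Groth.Agent.Lib.Helper8.QFUnivOpen
import Groth.Agent.Lib.Helper8.SmoothUnibranchSch

/-!
# Chevalley's criterion for universal openness (EGA IV 14.4.4), reduction step

`universallyOpen_of_locally_toAffineSpace`: a morphism locally of finite type to a locally
Noetherian scheme with geometrically unibranch local rings which, locally on the source, factors
through a locally quasi-finite morphism to an affine space over the base sending maximal points to
maximal points, is universally open.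
-/

set_option autoImplicit false
universe u
open AlgebraicGeometry CategoryTheory CategoryTheory.Limits

namespace Groth.Agent.Lib.Helper8.EquidimUnivOpen

open Groth.Agent.Lib.Helper8

/-- A morphism locally of finite type to a locally Noetherian base with geometrically unibranch
local rings which factors through a locally quasi-finite morphism to an affine space, sending
irreducible components onto dense subsets of irreducible components, is universally open. -/
theorem universallyOpen_of_toAffineSpace {X Y : Scheme.{u}} [IsLocallyNoetherian Y]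
    (hY : ∀ y : Y, CAlg2.IsGeomUnibranch (Y.presheaf.stalk y)) (f : X ⟶ Y)
    [LocallyOfFiniteType f]
    (e : ℕ) (g : X ⟶ 𝔸(ULift.{u} (Fin e); Y)) (hg : g ≫ (𝔸(ULift.{u} (Fin e); Y) ↘ Y) = f)
    [LocallyQuasiFinite g]
    (hcomp : ∀ Z ∈ irreducibleComponents (↥X : Type u),
        closure (g.base '' Z) ∈ irreducibleComponents (↥𝔸(ULift.{u} (Fin e); Y) : Type u)) :
    UniversallyOpen f := by
  haveI : Smooth (𝔸(ULift.{u} (Fin e); Y) ↘ Y) :=
    SmoothUnibranchSch.smooth_affineSpace_over _ Y
  haveI : LocallyOfFiniteType (g ≫ (𝔸(ULift.{u} (Fin e); Y) ↘ Y)) := by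
    rw [hg]; infer_instance
  haveI : LocallyOfFiniteType g :=
    locallyOfFiniteType_of_comp g (𝔸(ULift.{u} (Fin e); Y) ↘ Y)
  haveI : IsLocallyNoetherian 𝔸(ULift.{u} (Fin e); Y) :=
    LocallyOfFiniteType.isLocallyNoetherian (𝔸(ULift.{u} (Fin e); Y) ↘ Y)
  have hA : ∀ a : 𝔸(ULift.{u} (Fin e); Y),
      CAlg2.IsGeomUnibranch (𝔸(ULift.{u} (Fin e); Y).presheaf.stalk a) :=
    fun a => SmoothUnibranchSch.stalk_isGeomUnibranch_of_smooth
      (𝔸(ULift.{u} (Fin e); Y) ↘ Y) a (hY _)
  haveI : UniversallyOpen g := by
    refine QFUnivOpen.universallyOpen_of_max g hA ?_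
    intro ξ hξ η' hη'
    have hZ := QFUnivOpen.closure_singleton_mem_irreducibleComponents ξ hξ
    have hW := hcomp _ hZ
    have hgen : IsGenericPoint (g ξ) (closure (g.base '' closure {ξ})) := by
      rw [isGenericPoint_def, closure_image_closure g.continuous, Set.image_singleton]
    exact QFUnivOpen.eq_of_specializes_genericPoint hW hgen η' hη'
  rw [← hg]
  infer_instance

/-- Local version of `universallyOpen_of_toAffineSpace`. -/
theorem universallyOpen_of_locally_toAffineSpace {X Y : Scheme.{u}} [IsLocallyNoetherian Y]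
    (hY : ∀ y : Y, CAlg2.IsGeomUnibranch (Y.presheaf.stalk y)) (f : X ⟶ Y)
    [LocallyOfFiniteType f]
    (h : ∀ x : X, ∃ (e : ℕ) (U : X.Opens) (g : (U : Scheme.{u}) ⟶ 𝔸(ULift.{u} (Fin e); Y)),
        x ∈ U ∧ g ≫ (𝔸(ULift.{u} (Fin e); Y) ↘ Y) = U.ι ≫ f ∧ LocallyQuasiFinite g ∧
        ∀ Z ∈ irreducibleComponents (↥U : Type u),
          closure (g.base '' Z) ∈ irreducibleComponents (↥𝔸(ULift.{u} (Fin e); Y) : Type u)) :
    UniversallyOpen f := by
  choose e U g hxU hg hqf hcomp using h
  have hsup : iSup U = ⊤ :=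
    top_le_iff.mp fun x _ => TopologicalSpace.Opens.mem_iSup.mpr ⟨x, hxU x⟩
  refine IsZariskiLocalAtSource.of_iSup_eq_top (P := @UniversallyOpen) U hsup fun x => ?_
  haveI := hqf x
  exact universallyOpen_of_toAffineSpace hY ((U x).ι ≫ f) (e x) (g x) (hg x) (hcomp x)

end Groth.Agent.Lib.Helper8.EquidimUnivOpen
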