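import Mathlib
import Groth.Agent.Lib.Helper8.EssLocDim

/-!
# Helper8 library: the dimension formula for a flat essentially finite type local algebra
-/

set_option autoImplicit false
universe u

namespace Groth.Agent.Lib.Helper8.EssLocDim

theorem dim_formula_of_isLocalization {A B C : Type u} [CommRing A] [CommRing B] [CommRing C]
    [IsDomain A] [IsDomain B] [IsDomain C] [IsLocalRing A] [IsLocalRing B] [Algebra A B]
    [Algebra A C] [Algebra C B] [IsScalarTower A C B] [IsLocalHom (algebraMap A B)]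
    [FaithfulSMul A B] [Algebra.FiniteType A C] [Module.Flat A B]
    (hloc : IsLocalization.AtPrime B ((IsLocalRing.maximalIdeal B).comap (algebraMap C B))) :
    ∃ d e : ℕ, ringKrullDim (B ⧸ Ideal.map (algebraMap A B) (IsLocalRing.maximalIdeal A)) = d ∧
      Algebra.trdeg (IsLocalRing.ResidueField A) (IsLocalRing.ResidueField B) = e ∧
      Algebra.trdeg A B = (d + e : ℕ) := by
  classical
  set 𝔮 : Ideal C := (IsLocalRing.maximalIdeal B).comap (algebraMap C B) with h𝔮
  haveI : 𝔮.IsPrime := Ideal.comap_isPrime _ _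
  haveI : IsLocalization 𝔮.primeCompl B := hloc
  have hinjAB : Function.Injective (algebraMap A B) := FaithfulSMul.algebraMap_injective A B
  have hinj : Function.Injective (algebraMap A C) := by
    intro x y hxy
    apply hinjAB
    have := congrArg (algebraMap C B) hxy
    rwa [← IsScalarTower.algebraMap_apply, ← IsScalarTower.algebraMap_apply] at this
  haveI : 𝔮.LiesOver (IsLocalRing.maximalIdeal A) := by
    refine ⟨?_⟩
    rw [Ideal.under_def, h𝔮, Ideal.comap_comap, ← IsScalarTower.algebraMap_eq]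
    exact Ideal.over_def (IsLocalRing.maximalIdeal B) (IsLocalRing.maximalIdeal A)
  let e : B ≃ₐ[C] Localization.AtPrime 𝔮 :=
    IsLocalization.algEquiv 𝔮.primeCompl B (Localization.AtPrime 𝔮)
  haveI : Module.Flat A (Localization.AtPrime 𝔮) :=
    Module.Flat.of_linearEquiv (e.restrictScalars A).symm.toLinearEquiv
  obtain ⟨d, e', hd, he, hn⟩ := Groth.Agent.Lib.Helper8.EssLocDim.exists_dim_formula hinj 𝔮
  refine ⟨d, e', ?_, ?_, ?_⟩
  · have h1 := Groth.Agent.Lib.Helper12.DimFT2.ringKrullDim_fibLocRing (A := A) 𝔮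
    have hcomap : 𝔮.comap (algebraMap A C) = IsLocalRing.maximalIdeal A :=
      (Ideal.over_def 𝔮 (IsLocalRing.maximalIdeal A)).symm
    rw [hcomap] at h1
    have hideal : (IsLocalRing.maximalIdeal A).map (algebraMap A (Localization.AtPrime 𝔮)) =
        ((IsLocalRing.maximalIdeal A).map (algebraMap A B)).map
          ((e.toRingEquiv : B ≃+* Localization.AtPrime 𝔮) : B →+* Localization.AtPrime 𝔮) := by
      rw [Ideal.map_map]
      congr 1
      ext a
      exact ((e.restrictScalars A).commutes a).symm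
    rw [ringKrullDim_eq_of_ringEquiv (Ideal.quotientEquiv _ _ e.toRingEquiv hideal), h1]
    have hd' : (𝔮.map (Ideal.Quotient.mk ((IsLocalRing.maximalIdeal A).map
        (algebraMap A C)))).height = d := hd
    rw [hd']
    rfl
  · show Algebra.trdeg (A ⧸ IsLocalRing.maximalIdeal A) (B ⧸ IsLocalRing.maximalIdeal B) = e'
    rw [← he]
    symm
    let g₀ : C ⧸ 𝔮 →+* B ⧸ IsLocalRing.maximalIdeal B :=
      Ideal.quotientMap (IsLocalRing.maximalIdeal B) (algebraMap C B) le_rfl
    let g : C ⧸ 𝔮 →ₐ[A ⧸ IsLocalRing.maximalIdeal A] B ⧸ IsLocalRing.maximalIdeal B :=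
      { g₀ with
        commutes' := by
          intro r
          obtain ⟨a, rfl⟩ := Ideal.Quotient.mk_surjective r
          show g₀ (Ideal.Quotient.mk 𝔮 (algebraMap A C a)) = _
          rw [Ideal.quotientMap_mk, ← IsScalarTower.algebraMap_apply]
          rfl }
    have hg : Function.Injective g :=
      Ideal.quotientMap_injective' (H := le_rfl) (le_refl _)
    refine Groth.Agent.Lib.Helper8.FlatTrdeg.trdeg_eq_of_injective_of_isAlgebraic g hg
      (FaithfulSMul.algebraMap_injective _ _) ?_
    intro y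
    obtain ⟨b, rfl⟩ := Ideal.Quotient.mk_surjective y
    obtain ⟨⟨c, s⟩, hcs⟩ := IsLocalization.surj 𝔮.primeCompl b
    refine ⟨Ideal.Quotient.mk 𝔮 s.1, Ideal.Quotient.mk 𝔮 c, ?_, ?_⟩
    · show g₀ (Ideal.Quotient.mk 𝔮 s.1) ≠ 0
      rw [Ideal.quotientMap_mk, Ne, Ideal.Quotient.eq_zero_iff_mem]
      exact s.2
    · show Ideal.Quotient.mk _ b * g₀ (Ideal.Quotient.mk 𝔮 s.1) = g₀ (Ideal.Quotient.mk 𝔮 c)
      rw [Ideal.quotientMap_mk, Ideal.quotientMap_mk, ← map_mul]
      exact congrArg _ hcs
  · haveI : Algebra.IsAlgebraic C B :=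
      Groth.Agent.Lib.Helper12.ValDim.isAlgebraic_of_isLocalization 𝔮.primeCompl
        (fun h0 => h0 (zero_mem _))
    haveI : FaithfulSMul A C := (faithfulSMul_iff_algebraMap_injective A C).mpr hinj
    haveI : FaithfulSMul C B := by
      rw [faithfulSMul_iff_algebraMap_injective]
      exact IsLocalization.injective B (M := 𝔮.primeCompl)
        (fun x hx => mem_nonZeroDivisors_of_ne_zero (fun h0 => hx (h0 ▸ zero_mem _)))
    have h1 := trdeg_add_eq A C (A := B)
    rw [trdeg_eq_zero (R := C) (A := B), add_zero] at h1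
    rw [← h1, hn]

end Groth.Agent.Lib.Helper8.EssLocDim
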