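import Mathlib
import Groth.Agent.Lib.Helper8.EssLocDimMain
import Groth.Agent.Lib.Helper8.CoreGen

/-!
# Helper8 library: local rings essentially of finite type as localizations of finite type
algebras (dimension bridges), and horizontal hypersurfaces

For local rings `A → B` with `B` the localization at a prime `𝔮` of an `A`-algebra `C`:

* `ringKrullDim_quotient_eq_height`: `dim B/𝔪_A B` is the height of `𝔮` in the closed fibre
  of `C`;
* `trdeg_residueField_eq`: `trdeg κ(A) κ(B) = trdeg (A/𝔪_A) (C/𝔮)`;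
* `trdeg_eq_of_atPrime`: `trdeg A B = trdeg A C`;
* `injective_algebraMap_quotient_span`: if `dim B/𝔪_A B + trdeg κ(A) κ(B) = trdeg A B` and
  `g ∈ 𝔪_B` lies in no minimal prime of `𝔪_A B`, then `A → B/gB` is injective.
-/

set_option autoImplicit false
universe u
open IsLocalRing

namespace Groth.Agent.Lib.Helper8.EssLocBridge

open Groth.Agent.Lib.Helper12 Groth.Agent.Lib.Helper8.EssLocDim

section

variable {A B C : Type u} [CommRing A] [CommRing B] [CommRing C]
    [IsLocalRing A] [IsLocalRing B] [Algebra A B]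
    [Algebra A C] [Algebra C B] [IsScalarTower A C B] [IsLocalHom (algebraMap A B)]
    (𝔮 : Ideal C) [𝔮.IsPrime] [IsLocalization.AtPrime B 𝔮]

theorem comap_maximalIdeal_eq : (maximalIdeal B).comap (algebraMap C B) = 𝔮 :=
  IsLocalization.AtPrime.under_maximalIdeal B 𝔮

include B in
theorem liesOver_of_atPrime : 𝔮.LiesOver (maximalIdeal A) := by
  refine ⟨?_⟩
  rw [Ideal.under_def, ← comap_maximalIdeal_eq (B := B) 𝔮, Ideal.comap_comap,
    ← IsScalarTower.algebraMap_eq]
  exact Ideal.over_def (maximalIdeal B) (maximalIdeal A)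

theorem ringKrullDim_quotient_eq_height [𝔮.LiesOver (maximalIdeal A)] :
    ringKrullDim (B ⧸ (maximalIdeal A).map (algebraMap A B)) =
      ((𝔮.map (Ideal.Quotient.mk (mC A C))).height : WithBot ℕ∞) := by
  haveI : IsLocalization 𝔮.primeCompl B := ‹IsLocalization.AtPrime B 𝔮›
  let e : B ≃ₐ[C] Localization.AtPrime 𝔮 :=
    IsLocalization.algEquiv 𝔮.primeCompl B (Localization.AtPrime 𝔮)
  have h1 := DimFT2.ringKrullDim_fibLocRing (A := A) 𝔮
  have hcomap : 𝔮.comap (algebraMap A C) = maximalIdeal A :=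
    (Ideal.over_def 𝔮 (maximalIdeal A)).symm
  rw [hcomap] at h1
  have hideal : (maximalIdeal A).map (algebraMap A (Localization.AtPrime 𝔮)) =
      ((maximalIdeal A).map (algebraMap A B)).map
        ((e.toRingEquiv : B ≃+* Localization.AtPrime 𝔮) : B →+* Localization.AtPrime 𝔮) := by
    rw [Ideal.map_map]
    congr 1
    ext a
    exact ((e.restrictScalars A).commutes a).symm
  rw [ringKrullDim_eq_of_ringEquiv (Ideal.quotientEquiv _ _ e.toRingEquiv hideal), h1]

theorem trdeg_residueField_eq [𝔮.LiesOver (maximalIdeal A)] :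
    Algebra.trdeg (ResidueField A) (ResidueField B) =
      Algebra.trdeg (A ⧸ maximalIdeal A) (C ⧸ 𝔮) := by
  haveI : IsLocalization 𝔮.primeCompl B := ‹IsLocalization.AtPrime B 𝔮›
  show Algebra.trdeg (A ⧸ maximalIdeal A) (B ⧸ maximalIdeal B) = _
  symm
  let g₀ : C ⧸ 𝔮 →+* B ⧸ maximalIdeal B :=
    Ideal.quotientMap (maximalIdeal B) (algebraMap C B) (comap_maximalIdeal_eq (B := B) 𝔮).ge
  let g : C ⧸ 𝔮 →ₐ[A ⧸ maximalIdeal A] B ⧸ maximalIdeal B :=
    { g₀ with
      commutes' := by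
        intro r
        obtain ⟨a, rfl⟩ := Ideal.Quotient.mk_surjective r
        show g₀ (Ideal.Quotient.mk 𝔮 (algebraMap A C a)) = _
        rw [Ideal.quotientMap_mk, ← IsScalarTower.algebraMap_apply]
        rfl }
  have hg : Function.Injective g :=
    Ideal.quotientMap_injective' (H := (comap_maximalIdeal_eq (B := B) 𝔮).ge)
      (comap_maximalIdeal_eq (B := B) 𝔮).le
  refine FlatTrdeg.trdeg_eq_of_injective_of_isAlgebraic g hg
    (FaithfulSMul.algebraMap_injective _ _) ?_
  intro y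
  obtain ⟨b, rfl⟩ := Ideal.Quotient.mk_surjective y
  obtain ⟨⟨c, s⟩, hcs⟩ := IsLocalization.surj 𝔮.primeCompl b
  refine ⟨Ideal.Quotient.mk 𝔮 s.1, Ideal.Quotient.mk 𝔮 c, ?_, ?_⟩
  · show g₀ (Ideal.Quotient.mk 𝔮 s.1) ≠ 0
    rw [Ideal.quotientMap_mk, Ne, Ideal.Quotient.eq_zero_iff_mem]
    exact IsLocalRing.notMem_maximalIdeal.mpr (IsLocalization.map_units B s)
  · show Ideal.Quotient.mk _ b * g₀ (Ideal.Quotient.mk 𝔮 s.1) = g₀ (Ideal.Quotient.mk 𝔮 c)
    rw [Ideal.quotientMap_mk, Ideal.quotientMap_mk, ← map_mul]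
    exact congrArg _ hcs

include 𝔮 in
theorem trdeg_eq_of_atPrime [IsDomain A] [IsDomain B] [IsDomain C] [FaithfulSMul A B] :
    Algebra.trdeg A B = Algebra.trdeg A C := by
  haveI : IsLocalization 𝔮.primeCompl B := ‹IsLocalization.AtPrime B 𝔮›
  have hinjAB : Function.Injective (algebraMap A B) := FaithfulSMul.algebraMap_injective A B
  have hinj : Function.Injective (algebraMap A C) := by
    intro x y hxy
    apply hinjAB
    have := congrArg (algebraMap C B) hxy
    rwa [← IsScalarTower.algebraMap_apply, ← IsScalarTower.algebraMap_apply] at this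
  haveI : Algebra.IsAlgebraic C B :=
    ValDim.isAlgebraic_of_isLocalization 𝔮.primeCompl (fun h0 => h0 (zero_mem _))
  haveI : FaithfulSMul A C := (faithfulSMul_iff_algebraMap_injective A C).mpr hinj
  haveI : FaithfulSMul C B := by
    rw [faithfulSMul_iff_algebraMap_injective]
    exact IsLocalization.injective B (M := 𝔮.primeCompl)
      (fun x hx => mem_nonZeroDivisors_of_ne_zero (fun h0 => hx (h0 ▸ zero_mem _)))
  have h1 := trdeg_add_eq A C (A := B)
  rw [trdeg_eq_zero (R := C) (A := B), add_zero] at h1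
  exact h1.symm

include 𝔮 in
theorem injective_algebraMap_quotient_span [IsDomain A] [IsDomain B] [IsDomain C]
    [FaithfulSMul A B] [Algebra.FiniteType A C]
    (g : B) (hg : g ∈ maximalIdeal B)
    (hmin : ∀ q ∈ (Ideal.map (algebraMap A B) (maximalIdeal A)).minimalPrimes, g ∉ q)
    (d e : ℕ) (hd : ringKrullDim (B ⧸ Ideal.map (algebraMap A B) (maximalIdeal A)) = d)
    (he : Algebra.trdeg (ResidueField A) (ResidueField B) = e)
    (hsum : Algebra.trdeg A B = (d + e : ℕ)) :
    Function.Injective (algebraMap A (B ⧸ Ideal.span {g})) := by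
  classical
  haveI : IsLocalization 𝔮.primeCompl B := ‹IsLocalization.AtPrime B 𝔮›
  haveI h𝔮over : 𝔮.LiesOver (maximalIdeal A) := liesOver_of_atPrime (B := B) 𝔮
  have hinjAB : Function.Injective (algebraMap A B) := FaithfulSMul.algebraMap_injective A B
  have hinj : Function.Injective (algebraMap A C) := by
    intro x y hxy
    apply hinjAB
    have := congrArg (algebraMap C B) hxy
    rwa [← IsScalarTower.algebraMap_apply, ← IsScalarTower.algebraMap_apply] at this
  letI : Field (A ⧸ maximalIdeal A) := Ideal.Quotient.field _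
  haveI : Algebra.FiniteType (A ⧸ maximalIdeal A) (C ⧸ mC A C) := finiteType_fibre
  have hsurj : Function.Surjective (Ideal.Quotient.mk (mC A C)) := Ideal.Quotient.mk_surjective
  -- the element
  obtain ⟨⟨c, s⟩, hcs⟩ := IsLocalization.surj 𝔮.primeCompl g
  have hcs' : g * algebraMap C B s.1 = algebraMap C B c := hcs
  have hsunit : IsUnit (algebraMap C B s.1) := IsLocalization.map_units B s
  have hc𝔮 : c ∈ 𝔮 := by
    rw [← comap_maximalIdeal_eq (B := B) 𝔮, Ideal.mem_comap, ← hcs']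
    exact Ideal.mul_mem_right _ _ hg
  have hgmem : ∀ P : Ideal C, c ∈ P → g ∈ P.map (algebraMap C B) := by
    intro P hcP
    obtain ⟨u, hu⟩ := hsunit
    have hgu : g = algebraMap C B c * ↑u⁻¹ := by
      rw [← hcs', ← hu, mul_assoc, Units.mul_inv, mul_one]
    rw [hgu]
    exact Ideal.mul_mem_right _ _ (Ideal.mem_map_of_mem _ hcP)
  set 𝔮' := 𝔮.map (Ideal.Quotient.mk (mC A C)) with h𝔮'
  have hmC𝔮 : mC A C ≤ 𝔮 := map_le_of_liesOver 𝔮
  haveI h𝔮'prime : 𝔮'.IsPrime :=
    Ideal.map_isPrime_of_surjective hsurj (by rw [Ideal.mk_ker]; exact hmC𝔮)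
  have h𝔮'comap : 𝔮'.comap (Ideal.Quotient.mk (mC A C)) = 𝔮 := by
    rw [h𝔮', Ideal.comap_map_of_surjective _ hsurj, ← RingHom.ker_eq_comap_bot, Ideal.mk_ker]
    exact sup_eq_left.mpr hmC𝔮
  -- numerical data
  have hd' : Order.height (⟨𝔮', h𝔮'prime⟩ : PrimeSpectrum (C ⧸ mC A C)) = (d : ℕ∞) := by
    have h1 : ((𝔮'.height : ℕ∞) : WithBot ℕ∞) = (d : WithBot ℕ∞) := by
      rw [← hd, ringKrullDim_quotient_eq_height (B := B) 𝔮]
    have h2 : 𝔮'.height = (d : ℕ∞) := by exact_mod_cast h1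
    rw [← h2]
    exact (PrimeSpectrum.height_eq_orderHeight
      (⟨𝔮', h𝔮'prime⟩ : PrimeSpectrum (C ⧸ mC A C))).symm
  obtain ⟨e', he'1, he'2⟩ := exists_trdeg_eq_coheight 𝔮 𝔮' h𝔮'comap
  have hee' : e' = e := by
    rw [trdeg_residueField_eq (C := C) 𝔮, he'1] at he
    exact_mod_cast he
  subst hee'
  have htrC : Algebra.trdeg A C = (d + e' : ℕ) := by
    rw [← trdeg_eq_of_atPrime (B := B) 𝔮]; exact hsum
  have H1 : ∀ (P : Ideal C) [P.IsPrime] [P.LiesOver (maximalIdeal A)], P ≤ 𝔮 →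
      Algebra.trdeg (A ⧸ maximalIdeal A) (C ⧸ P) ≤ Algebra.trdeg A C := by
    intro P _ _ hP𝔮
    have hmCP : mC A C ≤ P := map_le_of_liesOver P
    set P' := P.map (Ideal.Quotient.mk (mC A C)) with hP'
    haveI hP'prime : P'.IsPrime :=
      Ideal.map_isPrime_of_surjective hsurj (by rw [Ideal.mk_ker]; exact hmCP)
    have hP'comap : P'.comap (Ideal.Quotient.mk (mC A C)) = P := by
      rw [hP', Ideal.comap_map_of_surjective _ hsurj, ← RingHom.ker_eq_comap_bot, Ideal.mk_ker]
      exact sup_eq_left.mpr hmCP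
    obtain ⟨m, hm1, hm2⟩ := exists_trdeg_eq_coheight P P' hP'comap
    have h1 := DimFT2.ringKrullDim_quotient_le_height_add_coheight (A ⧸ maximalIdeal A)
      (C ⧸ mC A C) P' ⟨𝔮', h𝔮'prime⟩ (Ideal.map_mono hP𝔮)
    have h2 := DimFT.ringKrullDim_quotient_eq_coheight
      (⟨P', hP'prime⟩ : PrimeSpectrum (C ⧸ mC A C))
    change ringKrullDim ((C ⧸ mC A C) ⧸ P') = _ at h2
    rw [h2, hm2, he'2, hd'] at h1
    have h3 : m ≤ d + e' := by exact_mod_cast h1
    rw [hm1, htrC]
    exact_mod_cast h3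
  have H2 : ∀ P' ∈ minimalPrimes (C ⧸ mC A C), P' ≤ 𝔮' →
      Ideal.Quotient.mk (mC A C) c ∉ P' := by
    intro P' hP'min hP'le hcP'
    haveI : P'.IsPrime := hP'min.1.1
    set P := P'.comap (Ideal.Quotient.mk (mC A C)) with hP
    haveI hPprime : P.IsPrime := Ideal.comap_isPrime _ _
    have hP𝔮 : P ≤ 𝔮 := by rw [← h𝔮'comap]; exact Ideal.comap_mono hP'le
    have hPmin : P ∈ (mC A C).minimalPrimes := by
      rw [Ideal.minimalPrimes_eq_comap]
      exact ⟨P', hP'min, rfl⟩
    have hdisj : Disjoint (𝔮.primeCompl : Set C) (P : Set C) := by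
      rw [Set.disjoint_left]; intro x hx hxP; exact hx (hP𝔮 hxP)
    have hPBmin : P.map (algebraMap C B) ∈
        ((maximalIdeal A).map (algebraMap A B)).minimalPrimes := by
      have hmap : (maximalIdeal A).map (algebraMap A B) = (mC A C).map (algebraMap C B) := by
        rw [Ideal.map_map, ← IsScalarTower.algebraMap_eq]
      rw [hmap, IsLocalization.minimalPrimes_map 𝔮.primeCompl B, Set.mem_preimage,
        IsLocalization.under_map_of_isPrime_disjoint 𝔮.primeCompl B hPprime hdisj]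
      exact hPmin
    exact hmin _ hPBmin (hgmem P hcP')
  obtain ⟨𝔭, h𝔭prime, h𝔭le, hc𝔭, h𝔭bot⟩ :=
    CoreGen.exists_horizontal_prime_general hinj 𝔮 c hc𝔮 H1 H2
  -- conclusion
  rw [injective_iff_map_eq_zero]
  intro a ha
  have ha' : algebraMap A B a ∈ Ideal.span {g} := by
    rw [IsScalarTower.algebraMap_apply A B (B ⧸ Ideal.span {g})] at ha
    exact Ideal.Quotient.eq_zero_iff_mem.mp ha
  have hdisj : Disjoint (𝔮.primeCompl : Set C) (𝔭 : Set C) := by
    rw [Set.disjoint_left]; intro x hx hx𝔭; exact hx (h𝔭le hx𝔭)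
  have h1 : algebraMap A B a ∈ 𝔭.map (algebraMap C B) := by
    have : Ideal.span {g} ≤ 𝔭.map (algebraMap C B) := by
      rw [Ideal.span_le, Set.singleton_subset_iff]
      exact hgmem 𝔭 hc𝔭
    exact this ha'
  have h2 : algebraMap A C a ∈ (𝔭.map (algebraMap C B)).under C := by
    rw [Ideal.under_def, Ideal.mem_comap, ← IsScalarTower.algebraMap_apply]
    exact h1
  rw [IsLocalization.under_map_of_isPrime_disjoint 𝔮.primeCompl B h𝔭prime hdisj] at h2
  have h3 : a ∈ 𝔭.under A := h2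
  rw [h𝔭bot] at h3
  exact h3

end

end Groth.Agent.Lib.Helper8.EssLocBridge
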