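import Mathlib

/-!
# Lifting standard étale algebras along "localisation-surjective" ring maps (helper8)

`LS φ`: every element of the target is `φ a / φ b` with `φ b` a unit.  `ring_lift`: a standard étale
algebra over the target of an `LS` map is the pushout of an étale algebra over the source.
-/

set_option autoImplicit false
set_option linter.style.haveILetI false
set_option linter.unusedSectionVars false
universe u
open Polynomial CategoryTheory CategoryTheory.Limits TensorProduct

namespace Groth.Agent.Lib.Helper8.EtFibLiftA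

section LS

variable {A Ā : Type u} [CommRing A] [CommRing Ā] (φ : A →+* Ā)

/-- every element of the target is a fraction `φ a / φ b` with `φ b` a unit. -/
def LS : Prop := ∀ c : Ā, ∃ a b : A, IsUnit (φ b) ∧ c * φ b = φ a

variable {φ}

theorem LS.common_denom (h : LS φ) (T : Finset Ā) :
    ∃ b : A, IsUnit (φ b) ∧ ∀ c ∈ T, ∃ a : A, c * φ b = φ a := by
  classical
  induction T using Finset.induction_on with
  | empty => exact ⟨1, by simp, by simp⟩
  | insert c T hc ih =>
    obtain ⟨b₀, hb₀, h₀⟩ := ih
    obtain ⟨a, b₁, hb₁, h₁⟩ := h c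
    refine ⟨b₀ * b₁, by rw [map_mul]; exact hb₀.mul hb₁, ?_⟩
    intro c' hc'
    rcases Finset.mem_insert.mp hc' with rfl | hc'
    · exact ⟨a * b₀, by rw [map_mul, map_mul, ← h₁]; ring⟩
    · obtain ⟨a', ha'⟩ := h₀ c' hc'
      exact ⟨a' * b₁, by rw [map_mul, map_mul, ← ha']; ring⟩

theorem LS.exists_poly_lifts (h : LS φ) (qs : Finset Ā[X]) :
    ∃ (b : A) (hb : IsUnit (φ b)), ∀ q ∈ qs,
      q ∈ Polynomial.lifts (IsLocalization.Away.lift (S := Localization.Away b) b hb) := by
  classical
  obtain ⟨b, hb, hT⟩ := h.common_denom (qs.biUnion fun q => q.coeffs)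
  refine ⟨b, hb, fun q hq => ?_⟩
  rw [Polynomial.lifts_iff_coeff_lifts]
  intro n
  by_cases h0 : q.coeff n = 0
  · exact ⟨0, by rw [map_zero, h0]⟩
  · obtain ⟨a, ha⟩ := hT (q.coeff n)
      (Finset.mem_biUnion.mpr ⟨q, hq, Polynomial.coeff_mem_coeffs h0⟩)
    have e1 : IsLocalization.Away.lift (S := Localization.Away b) b hb
        (IsLocalization.Away.invSelf b) * φ b = 1 := by
      rw [← IsLocalization.Away.lift_eq (S := Localization.Away b) b hb b, ← map_mul, mul_comm,
        IsLocalization.Away.mul_invSelf, map_one]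
    refine ⟨algebraMap A (Localization.Away b) a * IsLocalization.Away.invSelf b, ?_⟩
    rw [map_mul, IsLocalization.Away.lift_eq, ← ha, mul_assoc, mul_comm (φ b), e1, mul_one]

end LS

set_option maxHeartbeats 800000 in
theorem ring_lift {A Ā C : Type u} [CommRing A] [CommRing Ā] [Nontrivial Ā] [CommRing C]
    (φ : A →+* Ā) (hLS : LS φ) [Algebra Ā C] [Algebra.IsStandardEtale Ā C] :
    ∃ (B : Type u) (_ : CommRing B) (_ : Algebra A B) (_ : Algebra.Etale A B) (β : B →+* C),
      IsPushout (CommRingCat.ofHom φ) (CommRingCat.ofHom (algebraMap A B))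
        (CommRingCat.ofHom (algebraMap Ā C)) (CommRingCat.ofHom β) := by
  classical
  obtain ⟨pres⟩ := Algebra.IsStandardEtale.nonempty_standardEtalePresentation (R := Ā) (S := C)
  obtain ⟨p₁, p₂, n, hcond⟩ := pres.cond
  obtain ⟨b, hb, hlifts⟩ := hLS.exists_poly_lifts {pres.f, pres.g, p₁, p₂}
  let φb : Localization.Away b →+* Ā := IsLocalization.Away.lift b hb
  obtain ⟨F, hF, -, hFm⟩ := lifts_and_degree_eq_and_monic (hlifts pres.f (by simp)) pres.monic_f
  obtain ⟨G, hG⟩ := (mem_lifts _).mp (hlifts pres.g (by simp))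
  obtain ⟨q₁, hq₁⟩ := (mem_lifts _).mp (hlifts p₁ (by simp))
  obtain ⟨q₂, hq₂⟩ := (mem_lifts _).mp (hlifts p₂ (by simp))
  let H : (Localization.Away b)[X] := G * (derivative F * q₁ + F * q₂)
  let Pt : StandardEtalePair (Localization.Away b) :=
    ⟨F, hFm, H, ⟨G * q₁, G * q₂, 1, by simp only [H, pow_one]; ring⟩⟩
  have hH : H.map φb = pres.g ^ (n + 1) := by
    simp only [H, Polynomial.map_mul, Polynomial.map_add, ← Polynomial.derivative_map]
    rw [hF, hG, hq₁, hq₂, hcond, pow_succ']
  letI algAbĀ : Algebra (Localization.Away b) Ā := φb.toAlgebra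
  letI algAbC : Algebra (Localization.Away b) C := ((algebraMap Ā C).comp φb).toAlgebra
  haveI : IsScalarTower (Localization.Away b) Ā C := IsScalarTower.of_algebraMap_eq' rfl
  have haeval : ∀ {T : Type u} [CommRing T] [Algebra Ā T] [Algebra (Localization.Away b) T]
      [IsScalarTower (Localization.Away b) Ā T] (t : T) (q : (Localization.Away b)[X]),
      aeval t q = aeval t (q.map φb) := by
    intro T _ _ _ _ t q
    exact (aeval_map_algebraMap Ā t q).symm
  have hmap : Pt.HasMap pres.x := by
    refine ⟨?_, ?_⟩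
    · show aeval pres.x F = 0
      rw [haeval, hF]; exact pres.hasMap.1
    · show IsUnit (aeval pres.x H)
      rw [haeval, hH, map_pow]; exact pres.hasMap.2.pow _
  let βa : Pt.Ring →ₐ[Localization.Away b] C := Pt.lift pres.x hmap
  letI : Algebra A Pt.Ring :=
    ((algebraMap (Localization.Away b) Pt.Ring).comp (algebraMap A (Localization.Away b))).toAlgebra
  haveI : IsScalarTower A (Localization.Away b) Pt.Ring := IsScalarTower.of_algebraMap_eq' rfl
  haveI : Algebra.Etale A (Localization.Away b) := Algebra.Etale.of_isLocalizationAway b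
  haveI : Algebra.Etale A Pt.Ring := Algebra.Etale.comp A (Localization.Away b) Pt.Ring
  refine ⟨Pt.Ring, inferInstance, inferInstance, inferInstance, βa.toRingHom, ?_⟩
  -- the pushout over the localisation
  have hmap' : pres.P.HasMap ((1 : Ā) ⊗ₜ[Localization.Away b] Pt.X) := by
    refine ⟨?_, ?_⟩
    · have h1 : aeval ((1 : Ā) ⊗ₜ[Localization.Away b] Pt.X) F = 0 := by
        have := (Pt.hasMap_X.map
          (Algebra.TensorProduct.includeRight (R := Localization.Away b) (A := Ā))).1
        exact this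
      rw [haeval, hF] at h1
      exact h1
    · have h1 : IsUnit (aeval ((1 : Ā) ⊗ₜ[Localization.Away b] Pt.X) H) :=
        (Pt.hasMap_X.map
          (Algebra.TensorProduct.includeRight (R := Localization.Away b) (A := Ā))).2
      rw [haeval, hH, map_pow] at h1
      exact (isUnit_pow_iff (Nat.succ_ne_zero n)).mp h1
  let ψ : Ā ⊗[Localization.Away b] Pt.Ring →ₐ[Ā] C :=
    Algebra.TensorProduct.lift (Algebra.ofId Ā C) βa (fun _ _ => .all _ _)
  let inv : C →ₐ[Ā] Ā ⊗[Localization.Away b] Pt.Ring :=
    (pres.P.lift _ hmap').comp pres.equivRing.toAlgHom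
  have h₁ : ψ.comp inv = AlgHom.id Ā C := by
    apply pres.hom_ext
    simp [ψ, inv, βa]
  have h₂ : inv.comp ψ = AlgHom.id Ā _ := by
    apply Algebra.TensorProduct.ext
    · ext
    · apply Pt.hom_ext
      simp [ψ, inv, βa]
  let e : Ā ⊗[Localization.Away b] Pt.Ring ≃ₐ[Ā] C := AlgEquiv.ofAlgHom ψ inv h₁ h₂
  have hsq : IsPushout (CommRingCat.ofHom φb)
      (CommRingCat.ofHom (algebraMap (Localization.Away b) Pt.Ring))
      (CommRingCat.ofHom (algebraMap Ā C)) (CommRingCat.ofHom βa.toRingHom) := by
    refine (CommRingCat.isPushout_tensorProduct (Localization.Away b) Ā Pt.Ring).of_iso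
      (Iso.refl _) (Iso.refl _) (Iso.refl _) e.toRingEquiv.toCommRingCatIso (by simp)
      (by simp) ?_ ?_
    · ext a
      simp [e, ψ]
    · ext y
      simp [e, ψ]
  have hunits : ((Submonoid.powers b).map φ) ≤ IsUnit.submonoid Ā := by
    rintro _ ⟨_, ⟨k, rfl⟩, rfl⟩
    show IsUnit (φ (b ^ k))
    rw [map_pow]; exact hb.pow k
  haveI : IsLocalization ((Submonoid.powers b).map φ) Ā := IsLocalization.self hunits
  have hloc := CommRingCat.isPushout_of_isLocalization φ φb
    (RingHom.ext fun a => by
      show φb (algebraMap A _ a) = φ a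
      exact IsLocalization.Away.lift_eq b hb a) (Submonoid.powers b)
  have := hloc.paste_vert hsq
  have e3 : CommRingCat.ofHom (algebraMap A Pt.Ring) =
      CommRingCat.ofHom (algebraMap A (Localization.Away b)) ≫
        CommRingCat.ofHom (algebraMap (Localization.Away b) Pt.Ring) := rfl
  rw [e3]
  simpa using this

end Groth.Agent.Lib.Helper8.EtFibLiftA
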