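import Mathlib
import Groth.Prelude.Def_MoreMor
import Groth.Agent.Lib.Helper8.EtFibLiftA
import Groth.Agent.Lib.Helper11.EtaleNbhd

/-!
# The fibre of an affine chart: affineness, the `LS` property, cartesian squares (helper8)
-/

set_option autoImplicit false
set_option linter.style.haveILetI false
set_option linter.unusedSectionVars false
universe u
open CategoryTheory CategoryTheory.Limits AlgebraicGeometry TensorProduct

namespace Groth.Agent.Lib.Helper8.EtFibLiftB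

open Groth.Agent.Lib.Helper8.EtFibLiftA

theorem LS_includeLeft {R A κ : Type u} [CommRing R] [CommRing A] [CommRing κ] [Algebra R A]
    [Algebra R κ]
    (hκ : ∀ k : κ, ∃ r₁ r₂ : R, IsUnit (algebraMap R κ r₂) ∧
      k * algebraMap R κ r₂ = algebraMap R κ r₁) :
    LS (Algebra.TensorProduct.includeLeftRingHom : A →+* A ⊗[R] κ) := by
  intro c
  induction c using TensorProduct.induction_on with
  | zero => exact ⟨0, 1, by rw [map_one]; exact isUnit_one, by simp⟩
  | tmul a k =>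
    obtain ⟨r₁, r₂, h2, h3⟩ := hκ k
    have e1 : (algebraMap R A r₂) ⊗ₜ[R] (1 : κ) = (1 : A) ⊗ₜ[R] (algebraMap R κ r₂) := by
      rw [Algebra.algebraMap_eq_smul_one, Algebra.algebraMap_eq_smul_one, TensorProduct.smul_tmul]
    refine ⟨r₁ • a, algebraMap R A r₂, ?_, ?_⟩
    · show IsUnit ((algebraMap R A r₂) ⊗ₜ[R] (1 : κ))
      rw [e1]
      exact h2.map (Algebra.TensorProduct.includeRight : κ →ₐ[R] A ⊗[R] κ)
    · show a ⊗ₜ[R] k * ((algebraMap R A r₂) ⊗ₜ[R] (1 : κ)) = (r₁ • a) ⊗ₜ[R] (1 : κ)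
      rw [e1, Algebra.TensorProduct.tmul_mul_tmul, mul_one, h3, Algebra.algebraMap_eq_smul_one,
        TensorProduct.smul_tmul]
  | add x y hx hy =>
    obtain ⟨a₁, b₁, hb₁, h₁⟩ := hx
    obtain ⟨a₂, b₂, hb₂, h₂⟩ := hy
    refine ⟨a₁ * b₂ + a₂ * b₁, b₁ * b₂, by rw [map_mul]; exact hb₁.mul hb₂, ?_⟩
    rw [map_mul, map_add, map_mul, map_mul, ← h₁, ← h₂]
    ring

theorem LS_of_isPushout {R A κ Ā : CommRingCat.{u}} (ρ : R ⟶ A) (ev : R ⟶ κ) (φ' : A ⟶ Ā)
    (σ : κ ⟶ Ā) (h : IsPushout ρ ev φ' σ)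
    (hκ : ∀ k : κ, ∃ r₁ r₂ : R, IsUnit (ev.hom r₂) ∧ k * ev.hom r₂ = ev.hom r₁) : LS φ'.hom := by
  letI := ρ.hom.toAlgebra
  letI := ev.hom.toAlgebra
  have h0 := CommRingCat.isPushout_tensorProduct R A κ
  let e := h0.isoIsPushout _ _ h
  have he : ∀ a : A, e.hom.hom (Algebra.TensorProduct.includeLeftRingHom a) = φ'.hom a := by
    intro a
    exact congr($(IsPushout.inl_isoIsPushout_hom _ _ h0 h).hom a)
  have hLS := LS_includeLeft (R := R) (A := A) (κ := κ) hκ
  intro c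
  obtain ⟨a, b, hb, hab⟩ := hLS (e.inv.hom c)
  refine ⟨a, b, ?_, ?_⟩
  · rw [← he]; exact hb.map e.hom.hom
  · rw [← he, ← he, ← hab, map_mul]
    congr 1
    exact (congr($(e.inv_hom_id).hom c)).symm

/-- The square relating the fibre of `p ≫ f` to the fibre of `f` is cartesian. -/
theorem isPullback_fiberMap {X Y S : Scheme.{u}} (p : X ⟶ Y) (g : Y ⟶ S) (s : S) :
    IsPullback ((p ≫ g).fiberι s) (MoreMor.fiberMap p g s) p (g.fiberι s) := by
  have hbig : IsPullback ((p ≫ g).fiberι s) ((p ≫ g).fiberToSpecResidueField s) (p ≫ g)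
      (S.fromSpecResidueField s) := IsPullback.of_hasPullback _ _
  have hright : IsPullback (g.fiberι s) (g.fiberToSpecResidueField s) g
      (S.fromSpecResidueField s) := IsPullback.of_hasPullback _ _
  have e1 : MoreMor.fiberMap p g s ≫ g.fiberι s = (p ≫ g).fiberι s ≫ p := by
    simp only [MoreMor.fiberMap, Scheme.Hom.fiberι]
    exact pullback.lift_fst _ _ _
  have e2 : MoreMor.fiberMap p g s ≫ g.fiberToSpecResidueField s =
      (p ≫ g).fiberToSpecResidueField s := by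
    simp only [MoreMor.fiberMap, Scheme.Hom.fiberToSpecResidueField]
    exact pullback.lift_snd _ _ _
  have hbig' : IsPullback ((p ≫ g).fiberι s)
      (MoreMor.fiberMap p g s ≫ g.fiberToSpecResidueField s) (p ≫ g)
      (S.fromSpecResidueField s) := by
    rw [e2]; exact hbig
  exact IsPullback.of_bot hbig' e1.symm hright

/-- The fibre of an affine chart is affine and its coordinate ring is a localisation of a quotient
of the coordinate ring of the chart. -/
theorem fiber_affine_LS {X S : Scheme.{u}} (f : X ⟶ S) (s : S) {S₀ : S.Opens}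
    (hS₀ : IsAffineOpen S₀) (hs : s ∈ S₀) {X₁ : X.Opens} (hX₁ : IsAffineOpen X₁)
    (hle : X₁ ≤ f ⁻¹ᵁ S₀) :
    IsAffine ((hX₁.fromSpec ≫ f).fiber s) ∧
      LS ((Scheme.ΓSpecIso Γ(X, X₁)).inv ≫ ((hX₁.fromSpec ≫ f).fiberι s).appTop).hom := by
  have hbig : IsPullback ((hX₁.fromSpec ≫ f).fiberι s)
      ((hX₁.fromSpec ≫ f).fiberToSpecResidueField s) (hX₁.fromSpec ≫ f)
      (S.fromSpecResidueField s) := IsPullback.of_hasPullback _ _
  have hx : Spec.map (f.appLE S₀ X₁ hle) ≫ hS₀.fromSpec = hX₁.fromSpec ≫ f :=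
    hS₀.SpecMap_appLE_fromSpec f hX₁ hle
  have hy : Spec.map (S.evaluation S₀ s hs) ≫ hS₀.fromSpec = S.fromSpecResidueField s := by
    rw [Scheme.evaluation, Spec.map_comp, Category.assoc]
    show _ ≫ hS₀.fromSpecStalk hs = _
    rw [hS₀.fromSpecStalk_eq]
    rfl
  have hsm : IsPullback ((hX₁.fromSpec ≫ f).fiberι s)
      ((hX₁.fromSpec ≫ f).fiberToSpecResidueField s) (Spec.map (f.appLE S₀ X₁ hle))
      (Spec.map (S.evaluation S₀ s hs)) :=
    IsPullback.of_isLimit (PullbackCone.isLimitOfFactors _ _ hS₀.fromSpec _ _ hx hy _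
      hbig.isLimit)
  haveI : IsAffine ((hX₁.fromSpec ≫ f).fiber s) := IsAffine.of_isPullback hsm
  refine ⟨inferInstance, ?_⟩
  have hpo := isPushout_appTop_of_isPullback hsm
  have hpo2 : IsPushout (f.appLE S₀ X₁ hle) (S.evaluation S₀ s hs)
      ((Scheme.ΓSpecIso Γ(X, X₁)).inv ≫ ((hX₁.fromSpec ≫ f).fiberι s).appTop)
      ((Scheme.ΓSpecIso (S.residueField s)).inv ≫
        ((hX₁.fromSpec ≫ f).fiberToSpecResidueField s).appTop) := by
    refine hpo.of_iso (Scheme.ΓSpecIso _) (Scheme.ΓSpecIso _) (Scheme.ΓSpecIso _) (Iso.refl _)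
      ?_ ?_ ?_ ?_
    · exact Scheme.ΓSpecIso_naturality _
    · exact Scheme.ΓSpecIso_naturality _
    · simp
    · simp
  refine LS_of_isPushout _ _ _ _ hpo2 ?_
  intro k
  obtain ⟨a, b, hb, hk⟩ := Groth.Agent.Lib.Helper11.EtaleNbhd.evaluation_fraction hS₀ s hs k
  exact ⟨a, b, (isUnit_iff_ne_zero.mpr hb), by rw [hk, div_mul_cancel₀ _ hb]⟩

end Groth.Agent.Lib.Helper8.EtFibLiftB
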