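import Mathlib
import Groth.Prelude.Def_MoreMor
import Groth.Agent.Lib.Helper8.EtFibLiftB

/-!
# Étale neighbourhoods of a point in its fibre lift to the total space (helper8)
-/

set_option autoImplicit false
set_option linter.style.haveILetI false
set_option linter.unusedSectionVars false
universe u
open CategoryTheory CategoryTheory.Limits AlgebraicGeometry TensorProduct

namespace Groth.Agent.Lib.Helper8.EtFibLiftC

open Groth.Agent.Lib.Helper8.EtFibLiftA Groth.Agent.Lib.Helper8.EtFibLiftB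

set_option maxHeartbeats 1600000 in
theorem main {X S V : Scheme.{u}} (f : X ⟶ S) (x : X)
    (g : V ⟶ f.fiber (f x)) [Etale g] (v : V) (hv : g v = f.asFiber x) :
    ∃ (U : Scheme.{u}) (p : U ⟶ X) (u : U) (m : (p ≫ f).fiber (f x) ⟶ V)
      (u' : ↑((p ≫ f).fiber (f x))),
      Etale p ∧ p u = x ∧ IsOpenImmersion m ∧ m ≫ g = MoreMor.fiberMap p f (f x) ∧
      (p ≫ f).fiberι (f x) u' = u ∧ m u' = v := by
  -- charts
  obtain ⟨_, ⟨S₀, hS₀, rfl⟩, hsS₀, -⟩ := S.isBasis_affineOpens.exists_subset_of_mem_open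
    (Set.mem_univ (f x)) isOpen_univ
  obtain ⟨_, ⟨X₁, hX₁, rfl⟩, hxX₁, hle⟩ := X.isBasis_affineOpens.exists_subset_of_mem_open
    (show x ∈ (f ⁻¹ᵁ S₀ : Set X) from hsS₀) (f ⁻¹ᵁ S₀).2
  obtain ⟨hQaff, hLS⟩ := fiber_affine_LS f (f x) hS₀ hsS₀ hX₁ hle
  set i₁ : Spec Γ(X, X₁) ⟶ X := hX₁.fromSpec with hi₁
  set Q : Scheme.{u} := (i₁ ≫ f).fiber (f x) with hQ
  set ιQ : Q ⟶ f.fiber (f x) := MoreMor.fiberMap i₁ f (f x) with hιQ
  have hQsq : IsPullback ((i₁ ≫ f).fiberι (f x)) ιQ i₁ (f.fiberι (f x)) :=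
    isPullback_fiberMap i₁ f (f x)
  haveI hi₁o : IsOpenImmersion i₁ := hX₁.isOpenImmersion_fromSpec
  haveI : IsOpenImmersion ιQ := MorphismProperty.of_isPullback hQsq hi₁o
  haveI : IsAffine Q := hQaff
  -- the point of `Q` over `x`
  obtain ⟨x₁, hx₁⟩ : ∃ x₁ : Spec Γ(X, X₁), i₁ x₁ = x := by
    have : x ∈ Set.range i₁ := by rw [hX₁.range_fromSpec]; exact hxX₁
    exact this
  obtain ⟨z, hz1, hz2⟩ := Scheme.Pullback.exists_preimage_pullback (f := i₁)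
    (g := f.fiberι (f x)) x₁ (f.asFiber x) (by rw [hx₁, f.fiberι_asFiber])
  set q : Q := hQsq.isoPullback.inv z with hq
  have hqι : ιQ q = f.asFiber x := by
    rw [hq, ← Scheme.Hom.comp_apply, hQsq.isoPullback_inv_snd]; exact hz2
  -- the étale `Q`-scheme
  set pr₁ : pullback g ιQ ⟶ V := pullback.fst g ιQ with hpr₁
  set pr₂ : pullback g ιQ ⟶ Q := pullback.snd g ιQ with hpr₂
  obtain ⟨v', hv'1, hv'2⟩ := Scheme.Pullback.exists_preimage_pullback (f := g) (g := ιQ) v q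
    (hv.trans hqι.symm)
  obtain ⟨_, ⟨V₁, hV₁, rfl⟩, hv'V₁, -⟩ :=
    (pullback g ιQ).isBasis_affineOpens.exists_subset_of_mem_open (Set.mem_univ v') isOpen_univ
  -- the ring map
  let γ : Γ(Q, ⊤) ⟶ Γ(pullback g ιQ, V₁) := pr₂.appLE ⊤ V₁ le_top
  letI algC : Algebra Γ(Q, ⊤) Γ(pullback g ιQ, V₁) := γ.hom.toAlgebra
  have hγet : γ.hom.Etale := HasRingHomProperty.appLE (P := @Etale) pr₂ inferInstance
    ⟨⊤, isAffineOpen_top Q⟩ ⟨V₁, hV₁⟩ le_top
  haveI hCet : Algebra.Etale Γ(Q, ⊤) Γ(pullback g ιQ, V₁) := RingHom.etale_algebraMap.mp hγet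
  -- the prime of `v'`
  set 𝔮 : Ideal Γ(pullback g ιQ, V₁) := (IsLocalRing.maximalIdeal
    ((pullback g ιQ).presheaf.stalk v')).comap
      ((pullback g ιQ).presheaf.germ V₁ v' hv'V₁).hom with h𝔮
  haveI : 𝔮.IsPrime := Ideal.comap_isPrime _ _
  haveI : Algebra.IsEtaleAt Γ(Q, ⊤) 𝔮 := by
    have h1 : (⟨𝔮, inferInstance⟩ : PrimeSpectrum Γ(pullback g ιQ, V₁)) ∈
        Algebra.etaleLocus Γ(Q, ⊤) Γ(pullback g ιQ, V₁) := by
      rw [Algebra.etaleLocus_eq_univ_iff_etale.mpr inferInstance]; trivial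
    exact h1
  obtain ⟨c, hc𝔮, hstd⟩ := Algebra.IsEtaleAt.exists_isStandardEtale (R := Γ(Q, ⊤)) 𝔮
  have hV₂ : IsAffineOpen ((pullback g ιQ).basicOpen c) := hV₁.basicOpen c
  have hv'V₂ : v' ∈ (pullback g ιQ).basicOpen c := by
    rw [Scheme.mem_basicOpen _ _ _ hv'V₁]
    by_contra hnu
    exact hc𝔮 ((IsLocalRing.mem_maximalIdeal _).mpr hnu)
  haveI := hV₁.isLocalization_basicOpen c
  letI algC' : Algebra Γ(Q, ⊤) Γ(pullback g ιQ, (pullback g ιQ).basicOpen c) :=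
    ((algebraMap Γ(pullback g ιQ, V₁) Γ(pullback g ιQ, (pullback g ιQ).basicOpen c)).comp
      γ.hom).toAlgebra
  haveI : IsScalarTower Γ(Q, ⊤) Γ(pullback g ιQ, V₁)
      Γ(pullback g ιQ, (pullback g ιQ).basicOpen c) := IsScalarTower.of_algebraMap_eq' rfl
  haveI : Algebra.IsStandardEtale Γ(Q, ⊤) Γ(pullback g ιQ, (pullback g ιQ).basicOpen c) :=
    Algebra.IsStandardEtale.of_equiv
      ((IsLocalization.algEquiv (Submonoid.powers c) (Localization.Away c)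
        Γ(pullback g ιQ, (pullback g ιQ).basicOpen c)).restrictScalars Γ(Q, ⊤))
  haveI : Nonempty ↥((⊤ : Q.Opens) : Scheme.{u}) := ⟨⟨q, trivial⟩⟩
  haveI : Nontrivial Γ(Q, ⊤) := Scheme.component_nontrivial Q ⊤
  obtain ⟨B, instB, instAB, hBet, β, hpo⟩ := ring_lift
    ((Scheme.ΓSpecIso Γ(X, X₁)).inv ≫ ((i₁ ≫ f).fiberι (f x)).appTop).hom hLS
    (C := Γ(pullback g ιQ, (pullback g ιQ).basicOpen c))
  -- schemes
  let pA : Spec (CommRingCat.of B) ⟶ Spec Γ(X, X₁) :=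
    Spec.map (CommRingCat.ofHom (algebraMap Γ(X, X₁) B))
  haveI : Etale pA :=
    (HasRingHomProperty.Spec_iff (P := @Etale)).mpr (RingHom.etale_algebraMap.mpr hBet)
  have hpb1 := isPullback_SpecMap_of_isPushout _ _ _ _ hpo
  set j₂ : Spec Γ(pullback g ιQ, (pullback g ιQ).basicOpen c) ⟶ pullback g ιQ :=
    hV₂.fromSpec with hj₂
  have halg : CommRingCat.ofHom (algebraMap Γ(Q, ⊤)
      Γ(pullback g ιQ, (pullback g ιQ).basicOpen c)) =
      pr₂.appLE ⊤ ((pullback g ιQ).basicOpen c) le_top := by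
    have : pr₂.appLE ⊤ ((pullback g ιQ).basicOpen c) le_top =
        pr₂.appLE ⊤ V₁ le_top ≫ (pullback g ιQ).presheaf.map
          (homOfLE ((pullback g ιQ).basicOpen_le c)).op := (Scheme.Hom.appLE_map _ _ _).symm
    rw [this]
    rfl
  have hC'Q : Spec.map (CommRingCat.ofHom (algebraMap Γ(Q, ⊤)
      Γ(pullback g ιQ, (pullback g ιQ).basicOpen c))) ≫ Q.isoSpec.inv = j₂ ≫ pr₂ := by
    rw [halg, ← IsAffineOpen.fromSpec_top]
    exact (isAffineOpen_top Q).SpecMap_appLE_fromSpec pr₂ hV₂ le_top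
  have hQφ : Spec.map ((Scheme.ΓSpecIso Γ(X, X₁)).inv ≫ ((i₁ ≫ f).fiberι (f x)).appTop) =
      Q.isoSpec.inv ≫ (i₁ ≫ f).fiberι (f x) := by
    rw [Spec.map_comp, ← Scheme.isoSpec_Spec_inv]
    exact Scheme.isoSpec_inv_naturality ((i₁ ≫ f).fiberι (f x))
  have hpb2 : IsPullback (j₂ ≫ pr₂) (Spec.map (CommRingCat.ofHom β))
      ((i₁ ≫ f).fiberι (f x)) pA := by
    refine hpb1.of_iso (Iso.refl _) Q.isoSpec.symm (Iso.refl _) (Iso.refl _) ?_ ?_ ?_ ?_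
    · simpa using hC'Q
    · simp
    · simpa using hQφ
    · simp [pA]
  have hbigV := hpb2.flip.paste_vert hQsq
  set j : Spec Γ(pullback g ιQ, (pullback g ιQ).basicOpen c) ⟶ V := j₂ ≫ pr₁ with hj
  have hjg : (j₂ ≫ pr₂) ≫ ιQ = j ≫ g := by
    rw [hj, Category.assoc, Category.assoc, hpr₁, hpr₂, pullback.condition]
  rw [hjg] at hbigV
  set p : Spec (CommRingCat.of B) ⟶ X := pA ≫ i₁ with hp
  have hU := isPullback_fiberMap p f (f x)
  let ε := hU.isoIsPullback _ _ hbigV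
  have hε1 : ε.hom ≫ Spec.map (CommRingCat.ofHom β) = (p ≫ f).fiberι (f x) :=
    hU.isoIsPullback_hom_fst _ _ hbigV
  have hε2 : ε.hom ≫ j ≫ g = MoreMor.fiberMap p f (f x) :=
    hU.isoIsPullback_hom_snd _ _ hbigV
  have hε3 : ε.inv ≫ (p ≫ f).fiberι (f x) = Spec.map (CommRingCat.ofHom β) :=
    hU.isoIsPullback_inv_fst _ _ hbigV
  -- points
  obtain ⟨w, hw⟩ : ∃ w, j₂ w = v' := by
    have : v' ∈ Set.range j₂ := by rw [hV₂.range_fromSpec]; exact hv'V₂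
    exact this
  refine ⟨Spec (CommRingCat.of B), p, Spec.map (CommRingCat.ofHom β) w, ε.hom ≫ j, ε.inv w,
    inferInstance, ?_, inferInstance, (Category.assoc _ _ _).trans hε2, ?_, ?_⟩
  · have h1 : p (Spec.map (CommRingCat.ofHom β) w) = f.fiberι (f x) ((j ≫ g) w) := by
      rw [← Scheme.Hom.comp_apply, ← Scheme.Hom.comp_apply, hbigV.w]
    rw [h1, hj, Scheme.Hom.comp_apply, Scheme.Hom.comp_apply, hw, hv'1, hv, f.fiberι_asFiber]
  · rw [← Scheme.Hom.comp_apply, hε3]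
  · rw [← Scheme.Hom.comp_apply, Iso.inv_hom_id_assoc, hj, Scheme.Hom.comp_apply, hw, hv'1]

end Groth.Agent.Lib.Helper8.EtFibLiftC
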