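import Mathlib

/-!
# Splitting algebras and standard étale algebras

* `exists_splitting_algebra`: a monic polynomial `f` over `A` of degree `n` splits into linear
  factors over a finite free `A`-algebra `T` with `A → T` injective.
* `exists_common_field`: two primes over the same prime of the base have a common field-valued
  point.
* `key`: if `P` is a standard étale pair over `A`, `T` splits `P.f` with roots `α i`, and
  `𝔮u ⊂ P.Ring`, `𝔮t ⊂ T` are primes over the same prime of `A`, then for some `i` the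
  `A`-morphism `P.Ring → T[1/g(α i)]`, `X ↦ α i`, is defined near `𝔮t` and sends `𝔮t` to `𝔮u`.
* `ring_main`: the ring-level form of "an étale neighbourhood is dominated by a finite locally free
  cover Zariski locally".
-/

set_option autoImplicit false
universe u
open Polynomial TensorProduct AlgebraicGeometry CategoryTheory CategoryTheory.Limits

namespace Groth.Agent.Lib.Helper8.EtSplit

/-- Splitting algebra of a monic polynomial: finite free, `A → T` injective, `f` splits. -/
theorem exists_splitting_algebra (n : ℕ) : ∀ (A : Type u) [CommRing A] (f : A[X]), f.Monic →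
    f.natDegree = n →
    ∃ (T : Type u) (_ : CommRing T) (_ : Algebra A T), Module.Free A T ∧ Module.Finite A T ∧
      Function.Injective (algebraMap A T) ∧
      ∃ α : Fin n → T, f.map (algebraMap A T) = ∏ i, (X - C (α i)) := by
  induction n with
  | zero =>
    intro A _ f hf hn
    refine ⟨A, inferInstance, inferInstance, inferInstance, inferInstance, fun _ _ h => h,
      Fin.elim0, ?_⟩
    rw [show f = 1 from hf.natDegree_eq_zero.mp hn]
    simp
  | succ n ih =>
    intro A _ f hf hn
    haveI : Nontrivial A := by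
      by_contra hA
      rw [not_nontrivial_iff_subsingleton] at hA
      have h0 : f = 0 := Subsingleton.elim _ _
      rw [h0, natDegree_zero] at hn
      omega
    have hinj : Function.Injective (algebraMap A (AdjoinRoot f)) := by
      rw [injective_iff_map_eq_zero]
      intro a ha
      by_contra h0
      have h1 := AdjoinRoot.mk_ne_zero_of_natDegree_lt hf (g := C a) (by simpa using h0)
        (by rw [natDegree_C, hn]; omega)
      rw [AdjoinRoot.mk_C] at h1
      rw [AdjoinRoot.algebraMap_eq] at ha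
      exact h1 ha
    haveI : Nontrivial (AdjoinRoot f) := hinj.nontrivial
    haveI : Module.Free A (AdjoinRoot f) := hf.free_adjoinRoot
    haveI : Module.Finite A (AdjoinRoot f) := hf.finite_adjoinRoot
    have hroot : IsRoot (f.map (algebraMap A (AdjoinRoot f))) (AdjoinRoot.root f) := by
      rw [AdjoinRoot.algebraMap_eq]; exact AdjoinRoot.isRoot_root f
    have hq : (X - C (AdjoinRoot.root f)) *
        (f.map (algebraMap A (AdjoinRoot f)) /ₘ (X - C (AdjoinRoot.root f))) =
        f.map (algebraMap A (AdjoinRoot f)) :=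
      mul_divByMonic_eq_iff_isRoot.mpr hroot
    set q := f.map (algebraMap A (AdjoinRoot f)) /ₘ (X - C (AdjoinRoot.root f)) with hqdef
    have hfm : (f.map (algebraMap A (AdjoinRoot f))).Monic := hf.map _
    have hqm : q.Monic := by
      have h1 : ((X - C (AdjoinRoot.root f)) * q).Monic := by rw [hq]; exact hfm
      exact (monic_X_sub_C _).of_mul_monic_left h1
    have hqn : q.natDegree = n := by
      have h1 := congrArg natDegree hq
      rw [(monic_X_sub_C _).natDegree_mul hqm, natDegree_X_sub_C, hf.natDegree_map, hn] at h1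
      omega
    obtain ⟨T, instT, instAlg, hfree, hfin, hinjT, β, hβ⟩ := ih (AdjoinRoot f) q hqm hqn
    letI : Algebra A T :=
      ((algebraMap (AdjoinRoot f) T).comp (algebraMap A (AdjoinRoot f))).toAlgebra
    haveI : IsScalarTower A (AdjoinRoot f) T := IsScalarTower.of_algebraMap_eq (fun _ => rfl)
    refine ⟨T, instT, inferInstance, Module.Free.trans (R := A) (S := AdjoinRoot f) (M := T),
      Module.Finite.trans (AdjoinRoot f) T, hinjT.comp hinj,
      Fin.cons (algebraMap (AdjoinRoot f) T (AdjoinRoot.root f)) β, ?_⟩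
    have h1 : f.map (algebraMap A T) =
        (f.map (algebraMap A (AdjoinRoot f))).map (algebraMap (AdjoinRoot f) T) := by
      rw [Polynomial.map_map]; rfl
    rw [h1, ← hq, Polynomial.map_mul, hβ, Fin.prod_univ_succ]
    simp

/-- Two primes with the same contraction to the base come from a prime of the tensor product. -/
theorem exists_prime_tensor {R R₁ R₂ : Type u} [CommRing R] [CommRing R₁] [CommRing R₂]
    [Algebra R R₁] [Algebra R R₂] (P₁ : Ideal R₁) [P₁.IsPrime] (P₂ : Ideal R₂) [P₂.IsPrime]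
    (h : P₁.comap (algebraMap R R₁) = P₂.comap (algebraMap R R₂)) :
    ∃ P : Ideal (R₁ ⊗[R] R₂), P.IsPrime ∧ P.comap (algebraMap R₁ (R₁ ⊗[R] R₂)) = P₁ ∧
      P.comap (Algebra.TensorProduct.includeRight : R₂ →ₐ[R] R₁ ⊗[R] R₂).toRingHom = P₂ := by
  let x₁ : Spec (CommRingCat.of R₁) := (⟨P₁, inferInstance⟩ : PrimeSpectrum R₁)
  let x₂ : Spec (CommRingCat.of R₂) := (⟨P₂, inferInstance⟩ : PrimeSpectrum R₂)
  have hx : Spec.map (CommRingCat.ofHom (algebraMap R R₁)) x₁ =
      Spec.map (CommRingCat.ofHom (algebraMap R R₂)) x₂ := PrimeSpectrum.ext h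
  obtain ⟨z, hz1, hz2⟩ := Scheme.Pullback.exists_preimage_pullback x₁ x₂ hx
  let w : Spec (CommRingCat.of (R₁ ⊗[R] R₂)) := (pullbackSpecIso R R₁ R₂).hom z
  have hw1 : Spec.map (CommRingCat.ofHom (algebraMap R₁ (R₁ ⊗[R] R₂))) w = x₁ := by
    rw [← hz1, ← pullbackSpecIso_hom_fst' R R₁ R₂, Scheme.Hom.comp_apply]
  have hw2 : Spec.map (CommRingCat.ofHom
      (Algebra.TensorProduct.includeRight : R₂ →ₐ[R] R₁ ⊗[R] R₂).toRingHom) w = x₂ := by
    rw [← hz2, ← pullbackSpecIso_hom_snd R R₁ R₂, Scheme.Hom.comp_apply]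
    rfl
  refine ⟨w.asIdeal, w.isPrime, ?_, ?_⟩
  · exact congrArg PrimeSpectrum.asIdeal hw1
  · exact congrArg PrimeSpectrum.asIdeal hw2

/-- Two primes over the same prime of the base have a common field-valued point. -/
theorem exists_common_field {A R₁ R₂ : Type u} [CommRing A] [CommRing R₁] [CommRing R₂]
    [Algebra A R₁] [Algebra A R₂] (P₁ : Ideal R₁) [P₁.IsPrime] (P₂ : Ideal R₂) [P₂.IsPrime]
    (h : P₁.comap (algebraMap A R₁) = P₂.comap (algebraMap A R₂)) :
    ∃ (Ω : Type u) (_ : Field Ω) (σ : R₁ →+* Ω) (τ : R₂ →+* Ω),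
      σ.comp (algebraMap A R₁) = τ.comp (algebraMap A R₂) ∧
        RingHom.ker σ = P₁ ∧ RingHom.ker τ = P₂ := by
  obtain ⟨P, hP, hP1, hP2⟩ := exists_prime_tensor P₁ P₂ h
  haveI : IsDomain ((R₁ ⊗[A] R₂) ⧸ P) := Ideal.Quotient.isDomain P
  have hι : Function.Injective (algebraMap ((R₁ ⊗[A] R₂) ⧸ P) (FractionRing ((R₁ ⊗[A] R₂) ⧸ P))) :=
    IsFractionRing.injective _ _
  refine ⟨FractionRing ((R₁ ⊗[A] R₂) ⧸ P), inferInstance,
    (algebraMap ((R₁ ⊗[A] R₂) ⧸ P) (FractionRing ((R₁ ⊗[A] R₂) ⧸ P))).comp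
      ((Ideal.Quotient.mk P).comp (algebraMap R₁ (R₁ ⊗[A] R₂))),
    (algebraMap ((R₁ ⊗[A] R₂) ⧸ P) (FractionRing ((R₁ ⊗[A] R₂) ⧸ P))).comp
      ((Ideal.Quotient.mk P).comp
        (Algebra.TensorProduct.includeRight : R₂ →ₐ[A] R₁ ⊗[A] R₂).toRingHom), ?_, ?_, ?_⟩
  · ext a
    simp only [RingHom.comp_apply]
    congr 2
    show algebraMap R₁ (R₁ ⊗[A] R₂) (algebraMap A R₁ a) =
      (Algebra.TensorProduct.includeRight : R₂ →ₐ[A] R₁ ⊗[A] R₂) (algebraMap A R₂ a)
    rw [AlgHom.commutes, ← IsScalarTower.algebraMap_apply]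
  · ext x
    rw [RingHom.mem_ker, RingHom.comp_apply, RingHom.comp_apply, map_eq_zero_iff _ hι,
      Ideal.Quotient.eq_zero_iff_mem, ← hP1, Ideal.mem_comap]
  · ext x
    rw [RingHom.mem_ker, RingHom.comp_apply, RingHom.comp_apply, map_eq_zero_iff _ hι,
      Ideal.Quotient.eq_zero_iff_mem, ← hP2, Ideal.mem_comap]

/-- The key lemma: matching a point of a standard étale algebra with a point of a splitting
algebra of `P.f` over the same point of the base. -/
theorem key {A : Type u} [CommRing A] (P : StandardEtalePair A) {T : Type u} [CommRing T]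
    [Algebra A T] {n : ℕ} (α : Fin n → T)
    (hα : P.f.map (algebraMap A T) = ∏ i, (X - C (α i)))
    (𝔮u : Ideal P.Ring) [𝔮u.IsPrime] (𝔮t : Ideal T) [𝔮t.IsPrime]
    (h : 𝔮u.comap (algebraMap A P.Ring) = 𝔮t.comap (algebraMap A T)) :
    ∃ i, aeval (α i) P.g ∉ 𝔮t ∧
      ∀ (φ : P.Ring →ₐ[A] Localization.Away (aeval (α i) P.g)),
        φ P.X = algebraMap T (Localization.Away (aeval (α i) P.g)) (α i) →
        ∀ (t' : Ideal (Localization.Away (aeval (α i) P.g))) [t'.IsPrime],
          t'.comap (algebraMap T (Localization.Away (aeval (α i) P.g))) = 𝔮t →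
            t'.comap φ = 𝔮u := by
  obtain ⟨Ω, _, σ, τ, hcompat, hσ, hτ⟩ := exists_common_field 𝔮u 𝔮t h
  letI : Algebra A Ω := (σ.comp (algebraMap A P.Ring)).toAlgebra
  let σ' : P.Ring →ₐ[A] Ω := { σ with commutes' := fun _ => rfl }
  let τ' : T →ₐ[A] Ω := { τ with commutes' := fun a => (congr($hcompat a)).symm }
  have hroot : aeval (σ' P.X) P.f = 0 := by
    rw [Polynomial.aeval_algHom_apply, P.hasMap_X.1, map_zero]
  have hprod : aeval (σ' P.X) P.f = ∏ i, (σ' P.X - τ' (α i)) := by
    have h1 : (P.f.map (algebraMap A T)).map (τ' : T →+* Ω) = P.f.map (algebraMap A Ω) := by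
      rw [Polynomial.map_map, AlgHom.comp_algebraMap]
    rw [← Polynomial.eval_map_algebraMap, ← h1, hα, Polynomial.map_prod, Polynomial.eval_prod]
    simp
  obtain ⟨i, -, hi⟩ := Finset.prod_eq_zero_iff.mp (hprod.symm.trans hroot)
  have hi' : σ' P.X = τ' (α i) := sub_eq_zero.mp hi
  have hunit : IsUnit (τ' (aeval (α i) P.g)) := by
    rw [← Polynomial.aeval_algHom_apply, ← hi', Polynomial.aeval_algHom_apply]
    exact P.hasMap_X.2.map σ'
  refine ⟨i, fun hmem => ?_, ?_⟩
  · have h1 : aeval (α i) P.g ∈ RingHom.ker τ := hτ ▸ hmem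
    have h2 : τ' (aeval (α i) P.g) = 0 := h1
    exact hunit.ne_zero h2
  · intro φ hφ t' _ ht'
    let τi : Localization.Away (aeval (α i) P.g) →ₐ[A] Ω :=
      IsLocalization.Away.liftAlgHom (aeval (α i) P.g) (f := τ') hunit
    have hτi : ∀ x, τi (algebraMap T _ x) = τ' x := fun x => by
      rw [IsLocalization.Away.liftAlgHom_apply, IsLocalization.Away.lift_eq]
      rfl
    have hcomp : τi.comp φ = σ' :=
      StandardEtalePair.hom_ext (by rw [AlgHom.comp_apply, hφ, hτi, ← hi'])
    have h1 : (RingHom.ker τi).comap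
        (algebraMap T (Localization.Away (aeval (α i) P.g))) = 𝔮t := by
      ext x
      rw [Ideal.mem_comap, RingHom.mem_ker, hτi, ← hτ, RingHom.mem_ker]
      rfl
    have hker : t' = RingHom.ker τi := by
      calc t' = Ideal.map (algebraMap T _) (t'.under T) :=
            (IsLocalization.map_under (Submonoid.powers (aeval (α i) P.g)) _ t').symm
        _ = Ideal.map (algebraMap T _) ((RingHom.ker τi).under T) := by
            rw [Ideal.under_def, Ideal.under_def, ht', h1]
        _ = RingHom.ker τi :=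
            IsLocalization.map_under (Submonoid.powers (aeval (α i) P.g)) _ _
    rw [hker]
    ext x
    rw [Ideal.mem_comap, RingHom.mem_ker, ← AlgHom.comp_apply, hcomp, ← hσ, RingHom.mem_ker]
    rfl

/-- Ring-level form: an étale algebra `B` at a prime `𝔮` is dominated, Zariski locally on a finite
free cover `T` of the base, by `T`. -/
theorem ring_main {A B : Type u} [CommRing A] [CommRing B] [Algebra A B] [Algebra.Etale A B]
    (𝔮 : Ideal B) [𝔮.IsPrime] :
    ∃ (T : Type u) (_ : CommRing T) (_ : Algebra A T), Module.Free A T ∧ Module.Finite A T ∧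
      Function.Injective (algebraMap A T) ∧
      ∀ (𝔱 : Ideal T) [𝔱.IsPrime], 𝔱.comap (algebraMap A T) = 𝔮.comap (algebraMap A B) →
        ∃ (r : T) (ψ : B →ₐ[A] Localization.Away r), r ∉ 𝔱 ∧
          ∀ (t' : Ideal (Localization.Away r)) [t'.IsPrime],
            t'.comap (algebraMap T (Localization.Away r)) = 𝔱 → t'.comap ψ = 𝔮 := by
  classical
  haveI : Algebra.IsEtaleAt A 𝔮 := by
    have h1 : (⟨𝔮, inferInstance⟩ : PrimeSpectrum B) ∈ Algebra.etaleLocus A B := by
      rw [Algebra.etaleLocus_eq_univ_iff_etale.mpr inferInstance]; trivial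
    exact h1
  obtain ⟨h, hh𝔮, hstd⟩ := Algebra.IsEtaleAt.exists_isStandardEtale (R := A) 𝔮
  obtain ⟨⟨pres⟩⟩ := hstd
  obtain ⟨T, instT, instAlg, hfree, hfin, hinj, α, hα⟩ :=
    exists_splitting_algebra pres.P.f.natDegree A pres.P.f pres.P.monic_f rfl
  refine ⟨T, instT, instAlg, hfree, hfin, hinj, ?_⟩
  intro 𝔱 _ h𝔱
  have hdisj : Disjoint (Submonoid.powers h : Set B) (𝔮 : Set B) :=
    (Ideal.disjoint_powers_iff_notMem_of_isPrime h).mpr hh𝔮
  haveI h𝔮hp : (𝔮.map (algebraMap B (Localization.Away h))).IsPrime :=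
    IsLocalization.isPrime_of_isPrime_disjoint (Submonoid.powers h) _ 𝔮 inferInstance hdisj
  have h𝔮h : (𝔮.map (algebraMap B (Localization.Away h))).comap
      (algebraMap B (Localization.Away h)) = 𝔮 :=
    IsLocalization.under_map_of_isPrime_disjoint (Submonoid.powers h) _ inferInstance hdisj
  haveI h𝔮Pp : ((𝔮.map (algebraMap B (Localization.Away h))).comap
      (pres.equivRing.symm : pres.P.Ring →+* Localization.Away h)).IsPrime :=
    Ideal.comap_isPrime _ _
  have hcomap : ((𝔮.map (algebraMap B (Localization.Away h))).comap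
      (pres.equivRing.symm : pres.P.Ring →+* Localization.Away h)).comap
        (algebraMap A pres.P.Ring) = 𝔱.comap (algebraMap A T) := by
    ext x
    rw [h𝔱]
    show (pres.equivRing.symm (algebraMap A pres.P.Ring x)) ∈
      𝔮.map (algebraMap B (Localization.Away h)) ↔ algebraMap A B x ∈ 𝔮
    rw [AlgEquiv.commutes, IsScalarTower.algebraMap_apply A B (Localization.Away h),
      ← Ideal.mem_comap, h𝔮h]
  obtain ⟨i, hri, hkey⟩ := key pres.P α hα _ 𝔱 hcomap
  have hmap : pres.P.HasMap
      (algebraMap T (Localization.Away (aeval (α i) pres.P.g)) (α i)) := by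
    constructor
    · rw [aeval_algebraMap_apply]
      have h0 : aeval (α i) pres.P.f = 0 := by
        rw [← Polynomial.eval_map_algebraMap, hα, Polynomial.eval_prod]
        exact Finset.prod_eq_zero (Finset.mem_univ i) (by simp)
      rw [h0, map_zero]
    · rw [aeval_algebraMap_apply]
      exact IsLocalization.Away.algebraMap_isUnit _
  refine ⟨aeval (α i) pres.P.g,
    ((pres.P.lift _ hmap).comp pres.equivRing.toAlgHom).comp
      (IsScalarTower.toAlgHom A B (Localization.Away h)), hri, ?_⟩
  intro t' _ ht'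
  have h2 := hkey (pres.P.lift _ hmap) (pres.P.lift_X _ hmap) t' ht'
  ext x
  have h3 : (((pres.P.lift _ hmap).comp pres.equivRing.toAlgHom).comp
      (IsScalarTower.toAlgHom A B (Localization.Away h))) x =
      (pres.P.lift _ hmap) (pres.equivRing (algebraMap B (Localization.Away h) x)) := rfl
  rw [Ideal.mem_comap, h3, ← Ideal.mem_comap, h2]
  show pres.equivRing.symm (pres.equivRing (algebraMap B (Localization.Away h) x)) ∈
    𝔮.map (algebraMap B (Localization.Away h)) ↔ x ∈ 𝔮
  rw [AlgEquiv.symm_apply_apply, ← Ideal.mem_comap, h𝔮h]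

end Groth.Agent.Lib.Helper8.EtSplit
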