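import Mathlib
import Groth.Agent.Lib.Helper8.EtSplit

/-!
# An étale neighbourhood is dominated by a finite locally free cover, Zariski locally

`exists_finite_flat_dominating`: for `e : U ⟶ S` étale and `u ↦ s` there are an affine open
neighbourhood `V` of `s` and a surjective finite flat finitely presented `π : T ⟶ V` such that every
point `t` of `T` over `s` has an open neighbourhood `W` with an `S`-morphism `W ⟶ U`, `t ↦ u`.
-/

set_option autoImplicit false
universe u
open AlgebraicGeometry CategoryTheory CategoryTheory.Limits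

namespace Groth.Agent.Lib.Helper8.EtSplitSch

open Groth.Agent.Lib.Helper8.EtSplit

theorem exists_finite_flat_dominating {U S : Scheme.{u}} (e : U ⟶ S) [Etale e] (u : U) (s : S)
    (hu : e u = s) :
    ∃ (V : S.Opens) (T : Scheme.{u}) (π : T ⟶ (V : Scheme.{u})), s ∈ V ∧ IsAffineOpen V ∧
      Surjective π ∧ IsFinite π ∧ Flat π ∧ LocallyOfFinitePresentation π ∧
      ∀ t : T, V.ι (π t) = s → ∃ (W : T.Opens) (h : (W : Scheme.{u}) ⟶ U), t ∈ W ∧
        h ≫ e = W.ι ≫ π ≫ V.ι ∧ ∀ ht : t ∈ W, h ⟨t, ht⟩ = u := by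
  subst hu
  obtain ⟨V, hV, hsV, -⟩ := exists_isAffineOpen_mem_and_subset (x := e u) (U := ⊤) trivial
  obtain ⟨U₀, hU₀, huU₀, hle'⟩ :=
    exists_isAffineOpen_mem_and_subset (x := u) (U := e ⁻¹ᵁ V) hsV
  have hle : U₀ ≤ e ⁻¹ᵁ V := hle'
  letI : Algebra Γ(S, V) Γ(U, U₀) := (e.appLE V U₀ hle).hom.toAlgebra
  haveI : Algebra.Etale Γ(S, V) Γ(U, U₀) :=
    HasRingHomProperty.appLE @Etale e inferInstance ⟨V, hV⟩ ⟨U₀, hU₀⟩ hle
  obtain ⟨TA, instT, instAlg, hfree, hfin, hinj, hkey⟩ :=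
    ring_main (A := Γ(S, V)) (B := Γ(U, U₀)) (hU₀.primeIdealOf ⟨u, huU₀⟩).asIdeal
  let φ₀ : Γ(S, V) ⟶ CommRingCat.of TA := CommRingCat.ofHom (algebraMap Γ(S, V) TA)
  let π : Spec (CommRingCat.of TA) ⟶ (V : Scheme.{u}) := Spec.map φ₀ ≫ hV.isoSpec.inv
  refine ⟨V, Spec (CommRingCat.of TA), π, hsV, hV, ?_, ?_, ?_, ?_, ?_⟩
  · refine (MorphismProperty.cancel_right_of_respectsIso @Surjective (Spec.map φ₀)
      hV.isoSpec.inv).mpr ?_
    have hs : Function.Surjective (PrimeSpectrum.comap (algebraMap Γ(S, V) TA)) :=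
      PrimeSpectrum.comap_surjective_iff_injective_of_finite.mpr hinj
    exact ⟨fun x => by obtain ⟨y, hy⟩ := hs x; exact ⟨y, hy⟩⟩
  · refine (MorphismProperty.cancel_right_of_respectsIso @IsFinite (Spec.map φ₀)
      hV.isoSpec.inv).mpr ?_
    exact (IsFinite.SpecMap_iff φ₀).mpr (RingHom.finite_algebraMap.mpr hfin)
  · refine (MorphismProperty.cancel_right_of_respectsIso @Flat (Spec.map φ₀)
      hV.isoSpec.inv).mpr ?_
    exact Flat.SpecMap_iff.mpr (RingHom.flat_algebraMap_iff.mpr inferInstance)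
  · refine (MorphismProperty.cancel_right_of_respectsIso @LocallyOfFinitePresentation
      (Spec.map φ₀) hV.isoSpec.inv).mpr ?_
    haveI : Module.FinitePresentation Γ(S, V) TA := Module.finitePresentation_of_projective _ _
    exact (LocallyOfFinitePresentation.SpecMap_iff φ₀).mpr
      (RingHom.finitePresentation_algebraMap.mpr inferInstance)
  · intro t ht
    have h𝔱 : t.asIdeal.comap (algebraMap Γ(S, V) TA) =
        (hU₀.primeIdealOf ⟨u, huU₀⟩).asIdeal.comap (algebraMap Γ(S, V) Γ(U, U₀)) := by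
      have h1 := IsAffineOpen.comap_primeIdealOf_appLE V hV U₀ hU₀ hle huU₀
      have h2 : Spec.map φ₀ t = hV.primeIdealOf ⟨e u, hle huU₀⟩ := by
        have h3 : π t = ⟨e u, hle huU₀⟩ := Subtype.ext ht
        have h4 : hV.isoSpec.hom (π t) = Spec.map φ₀ t := by
          show hV.isoSpec.hom ((Spec.map φ₀ ≫ hV.isoSpec.inv) t) = _
          rw [Scheme.Hom.comp_apply, Scheme.inv_hom_apply]
        rw [← h4, h3]
        rfl
      exact congrArg PrimeSpectrum.asIdeal (h2.trans h1.symm)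
    obtain ⟨r, ψ, hr, hψ⟩ := hkey t.asIdeal h𝔱
    let k : Spec (CommRingCat.of (Localization.Away r)) ⟶ Spec (CommRingCat.of TA) :=
      Spec.map (CommRingCat.ofHom (algebraMap TA (Localization.Away r)))
    haveI : IsOpenImmersion k := IsOpenImmersion.of_isLocalization r
    have hW : k.opensRange.ι = k.isoOpensRange.inv ≫ k := (k.isoOpensRange_inv_comp).symm
    let ψ₀ : Γ(U, U₀) ⟶ CommRingCat.of (Localization.Away r) := CommRingCat.ofHom ψ.toRingHom
    refine ⟨k.opensRange, k.isoOpensRange.inv ≫ Spec.map ψ₀ ≫ hU₀.fromSpec, ?_, ?_, ?_⟩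
    · have h1 : k.opensRange = PrimeSpectrum.basicOpen r :=
        Scheme.Hom.opensRange_localizationAway (R := CommRingCat.of TA) r
      rw [h1]
      exact hr
    · have hcomm : e.appLE V U₀ hle ≫ ψ₀ =
          φ₀ ≫ CommRingCat.ofHom (algebraMap TA (Localization.Away r)) := by
        ext a
        show ψ (algebraMap Γ(S, V) Γ(U, U₀) a) =
          algebraMap TA (Localization.Away r) (algebraMap Γ(S, V) TA a)
        rw [ψ.commutes, IsScalarTower.algebraMap_apply Γ(S, V) TA (Localization.Away r)]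
      calc (k.isoOpensRange.inv ≫ Spec.map ψ₀ ≫ hU₀.fromSpec) ≫ e
          = k.isoOpensRange.inv ≫ Spec.map ψ₀ ≫ (hU₀.fromSpec ≫ e) := by
            simp only [Category.assoc]
        _ = k.isoOpensRange.inv ≫ Spec.map ψ₀ ≫ Spec.map (e.appLE V U₀ hle) ≫ hV.fromSpec := by
            rw [← IsAffineOpen.SpecMap_appLE_fromSpec e hV hU₀ hle]
        _ = k.isoOpensRange.inv ≫ Spec.map (e.appLE V U₀ hle ≫ ψ₀) ≫ hV.fromSpec := by
            rw [Spec.map_comp, Category.assoc]
        _ = k.isoOpensRange.inv ≫ (k ≫ Spec.map φ₀) ≫ hV.fromSpec := by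
            rw [hcomm, Spec.map_comp]
        _ = k.opensRange.ι ≫ π ≫ V.ι := by
            rw [hW]
            simp only [π, Category.assoc, IsAffineOpen.isoSpec_inv_ι]
    · intro ht'
      have hkt' : k (k.isoOpensRange.inv ⟨t, ht'⟩) = t := by
        rw [← Scheme.Hom.comp_apply, ← hW]
        rfl
      have h1 : (k.isoOpensRange.inv ⟨t, ht'⟩).asIdeal.comap
          (algebraMap TA (Localization.Away r)) = t.asIdeal :=
        congrArg PrimeSpectrum.asIdeal hkt'
      have h2 := hψ (k.isoOpensRange.inv ⟨t, ht'⟩).asIdeal h1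
      have h3 : Spec.map ψ₀ (k.isoOpensRange.inv ⟨t, ht'⟩) = hU₀.primeIdealOf ⟨u, huU₀⟩ :=
        PrimeSpectrum.ext h2
      rw [Scheme.Hom.comp_apply, Scheme.Hom.comp_apply, h3, hU₀.fromSpec_primeIdealOf]

end Groth.Agent.Lib.Helper8.EtSplitSch
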