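import Mathlib
import Groth.Agent.Lib.Helper8.EtLift

/-
Étale algebras over square-zero thickenings: if `A' → A`, `B' → B` are square-zero surjections,
`A → B` étale, `ker(B' → B) = I B'` and `I ⊗ B' → B'` injective, then `A' → B'` is étale
(`EtSq.etale_of_squareZero_lift`).
-/

open TensorProduct

universe u

namespace Groth.Agent.Lib.Helper8.EtSq

variable {A' : Type*} [CommRing A'] (I : Ideal A') (hI : I ^ 2 = ⊥)
   {B'' B' : Type*} [CommRing B''] [CommRing B'] [Algebra A' B''] [Algebra A' B']

include hI in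
theorem smul_eq_zero_of_mem {M : Type*} [CommRing M] [Algebra A' M] {a : A'} (ha : a ∈ I) {y : M}
    (hy : y ∈ I.map (algebraMap A' M)) : a • y = 0 := by
  have h1 : algebraMap A' M a * y ∈ (I.map (algebraMap A' M)) ^ 2 := by
    rw [pow_two]; exact Ideal.mul_mem_mul (Ideal.mem_map_of_mem _ ha) hy
  rw [← Ideal.map_pow, hI, Ideal.map_bot] at h1
  rw [Algebra.smul_def]; exact h1

include hI in
theorem surjective_of_lift (φ : B'' →ₐ[A'] B')
    (h2 : ∀ y, ∃ x, y - φ x ∈ I.map (algebraMap A' B')) : Function.Surjective φ := by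
  have key : ∀ j ∈ I.map (algebraMap A' B'), j ∈ φ.range := by
    intro j hj
    unfold Ideal.map at hj
    induction hj using Submodule.span_induction with
    | mem x hx =>
      obtain ⟨a, ha, rfl⟩ := hx
      exact ⟨algebraMap A' B'' a, by simp⟩
    | zero => exact zero_mem _
    | add x y _ _ hx hy => exact add_mem hx hy
    | smul b x hx hx' =>
      obtain ⟨y, rfl⟩ := hx'
      obtain ⟨z, hz⟩ := h2 b
      have h0 : (b - φ z) * φ y = 0 := by
        have h1 : (b - φ z) * φ y ∈ (I.map (algebraMap A' B')) ^ 2 := by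
          rw [pow_two]; exact Ideal.mul_mem_mul hz hx
        rw [← Ideal.map_pow, hI, Ideal.map_bot] at h1
        exact h1
      refine ⟨z * y, ?_⟩
      rw [map_mul, smul_eq_mul]
      rw [sub_mul, sub_eq_zero] at h0
      exact h0.symm
  intro y
  obtain ⟨x, hx⟩ := h2 y
  obtain ⟨z, hz⟩ := key _ hx
  exact ⟨x + z, by rw [map_add]; erw [hz]; ring⟩

include hI in
theorem injective_of_lift (φ : B'' →ₐ[A'] B') (hφ : Function.Surjective φ)
    (h1 : ∀ x, φ x = 0 → x ∈ I.map (algebraMap A' B''))
    (hinj : Function.Injective (LinearMap.lTensor B' I.subtype)) : Function.Injective φ := by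
  rw [injective_iff_map_eq_zero]
  intro x hx
  let K : Submodule A' B'' := LinearMap.ker φ.toLinearMap
  have hx1 : x ∈ I.map (algebraMap A' B'') := h1 x hx
  let μ'' : B'' ⊗[A'] I →ₗ[A'] B'' :=
    (TensorProduct.rid A' B'').toLinearMap ∘ₗ LinearMap.lTensor B'' I.subtype
  have hμ'' : ∀ y ∈ I.map (algebraMap A' B''), ∃ t, μ'' t = y := by
    intro y hy
    unfold Ideal.map at hy
    induction hy using Submodule.span_induction with
    | mem x hx =>
      obtain ⟨a, ha, rfl⟩ := hx
      exact ⟨1 ⊗ₜ ⟨a, ha⟩, by simp [μ'', Algebra.algebraMap_eq_smul_one]⟩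
    | zero => exact ⟨0, map_zero _⟩
    | add x y _ _ hx hy =>
      obtain ⟨t, rfl⟩ := hx
      obtain ⟨t', rfl⟩ := hy
      exact ⟨t + t', map_add _ _ _⟩
    | smul b x hx hx' =>
      obtain ⟨t, rfl⟩ := hx'
      refine ⟨LinearMap.rTensor I (LinearMap.mulLeft A' b) t, ?_⟩
      clear hx
      induction t using TensorProduct.induction_on with
      | zero => simp
      | tmul c a => simp [μ'']
      | add x y hx hy => simp only [map_add, hx, hy, smul_add]
  obtain ⟨t, ht⟩ := hμ'' x hx1
  have h3 : LinearMap.rTensor I φ.toLinearMap t = 0 := by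
    apply hinj
    rw [map_zero]
    apply (TensorProduct.rid A' B').injective
    rw [map_zero]
    have : (TensorProduct.rid A' B') (LinearMap.lTensor B' I.subtype
        (LinearMap.rTensor I φ.toLinearMap t)) = φ (μ'' t) := by
      clear ht
      induction t using TensorProduct.induction_on with
      | zero => simp
      | tmul b a => simp [μ'']
      | add x y hx hy => simp only [map_add, hx, hy]
    rw [this, ht, hx]
  have hex : Function.Exact K.subtype φ.toLinearMap := by
    intro y; constructor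
    · intro hy; exact ⟨⟨y, hy⟩, rfl⟩
    · rintro ⟨z, rfl⟩; exact z.2
  have hex2 := rTensor_exact I hex hφ
  obtain ⟨s, rfl⟩ := (hex2 t).mp h3
  have h4 : ∀ s : K ⊗[A'] I, μ'' (LinearMap.rTensor I K.subtype s) = 0 := by
    intro s
    induction s using TensorProduct.induction_on with
    | zero => simp
    | tmul k a =>
      simp only [μ'', LinearMap.rTensor_tmul, LinearMap.coe_comp, LinearEquiv.coe_coe,
        Function.comp_apply, LinearMap.lTensor_tmul, Submodule.subtype_apply,
        TensorProduct.rid_tmul]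
      exact smul_eq_zero_of_mem I hI a.2 (h1 k k.2)
    | add x y hx hy => simp only [map_add, hx, hy, add_zero]
  rw [← ht, h4]

open Groth.Agent.Lib.Helper8 in
theorem etale_of_squareZero_lift (A' : Type u) [CommRing A'] (A : Type u) [CommRing A]
    [Algebra A' A] (hA : Function.Surjective (algebraMap A' A))
    (hI : RingHom.ker (algebraMap A' A) ^ 2 = ⊥)
    (B' : Type u) [CommRing B'] [Algebra A' B'] (B : Type u) [CommRing B] [Algebra B' B]
    [Algebra A B] [Algebra A' B] [IsScalarTower A' A B] [IsScalarTower A' B' B]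
    (hB : Function.Surjective (algebraMap B' B)) (hJ : RingHom.ker (algebraMap B' B) ^ 2 = ⊥)
    [Algebra.Etale A B]
    (hJI : RingHom.ker (algebraMap B' B) = (RingHom.ker (algebraMap A' A)).map (algebraMap A' B'))
    (hinj : Function.Injective ((RingHom.ker (algebraMap A' A)).subtype.baseChange B')) :
    Algebra.Etale A' B' := by
  set I := RingHom.ker (algebraMap A' A) with hIdef
  let ψ : A' ⧸ I →+* B := Ideal.Quotient.lift I (algebraMap A' B) (fun a ha => by
    rw [IsScalarTower.algebraMap_apply A' A B, (RingHom.mem_ker).mp ha, map_zero])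
  let : Algebra (A' ⧸ I) B := ψ.toAlgebra
  have : IsScalarTower A' (A' ⧸ I) B := IsScalarTower.of_algebraMap_eq (fun x => rfl)
  have : Algebra.Etale (A' ⧸ I) B := by
    let e : (A' ⧸ I) ≃+* A := RingHom.quotientKerEquivOfSurjective hA
    let : Algebra (A' ⧸ I) A := e.toRingHom.toAlgebra
    have : IsScalarTower (A' ⧸ I) A B := IsScalarTower.of_algebraMap_eq (fun x => by
      obtain ⟨x, rfl⟩ := Ideal.Quotient.mk_surjective x
      change ψ _ = algebraMap A B (e _)
      simp only [ψ, e, Ideal.Quotient.lift_mk, IsScalarTower.algebraMap_apply A' A B]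
      rfl)
    have : Algebra.Etale (A' ⧸ I) A :=
      Algebra.Etale.of_equiv (AlgEquiv.ofRingEquiv (f := e) (fun x => rfl))
    exact Algebra.Etale.comp (A' ⧸ I) A B
  obtain ⟨B'', _, _, hB'', ⟨e⟩⟩ := EtLift.exists_lift A' I B
  let φ₀ : B'' →ₐ[A'] B :=
    (e.toAlgHom.restrictScalars A').comp (Algebra.TensorProduct.includeRight)
  have hnil : IsNilpotent (RingHom.ker ((IsScalarTower.toAlgHom A' B' B) : B' →+* B)) := ⟨2, hJ⟩
  let φ : B'' →ₐ[A'] B' :=
    Algebra.FormallySmooth.liftOfSurjective φ₀ (IsScalarTower.toAlgHom A' B' B) hB hnil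
  have hφ : ∀ x, algebraMap B' B (φ x) = φ₀ x :=
    Algebra.FormallySmooth.liftOfSurjective_apply φ₀ (IsScalarTower.toAlgHom A' B' B) hB hnil
  have hφ₀ : ∀ x, φ₀ x = 0 → x ∈ I.map (algebraMap A' B'') := by
    intro x hx
    have h1 : (1 : A' ⧸ I) ⊗ₜ[A'] x = 0 := e.injective (by simpa [φ₀] using hx)
    have h2 := (TensorProduct.quotTensorEquivQuotSMul B'' I).symm.injective
      (a₁ := Submodule.Quotient.mk x) (a₂ := 0) (by simpa using h1)
    rw [Submodule.Quotient.mk_eq_zero, Ideal.smul_top_eq_map] at h2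
    exact h2
  have hφ₀s : Function.Surjective φ₀ := by
    intro b
    obtain ⟨t, rfl⟩ := e.surjective b
    induction t using TensorProduct.induction_on with
    | zero => exact ⟨0, by simp⟩
    | tmul a x =>
      obtain ⟨a, rfl⟩ := Ideal.Quotient.mk_surjective a
      refine ⟨a • x, ?_⟩
      have h1 : (1 : A' ⧸ I) ⊗ₜ[A'] (a • x) = (Ideal.Quotient.mk I a) ⊗ₜ x := by
        rw [← TensorProduct.smul_tmul, Algebra.smul_def, mul_one]
        rfl
      change e ((1 : A' ⧸ I) ⊗ₜ[A'] (a • x)) = _
      rw [h1]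
    | add x y hx hy =>
      obtain ⟨x', hx'⟩ := hx
      obtain ⟨y', hy'⟩ := hy
      exact ⟨x' + y', by rw [map_add, hx', hy', map_add]⟩
  have hsurj : Function.Surjective φ := surjective_of_lift I hI φ (fun y => by
    obtain ⟨x, hx⟩ := hφ₀s (algebraMap B' B y)
    refine ⟨x, ?_⟩
    rw [← hJI, RingHom.mem_ker, map_sub, hφ, hx, sub_self])
  have hinj' : Function.Injective φ := injective_of_lift I hI φ hsurj
    (fun x hx => hφ₀ x (by rw [← hφ, hx, map_zero]))
    (fun x y h => hinj (by simpa [LinearMap.baseChange_eq_ltensor] using h))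
  exact Algebra.Etale.of_equiv (AlgEquiv.ofBijective φ ⟨hinj', hsurj⟩)

end Groth.Agent.Lib.Helper8.EtSq
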