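import Mathlib

/-!
# Noetherian rings whose local rings are domains are finite products of domains
-/

set_option autoImplicit false
universe u

namespace Groth.Agent.Lib.Helper8.LocDomainProd

variable {R : Type u} [CommRing R]

/-- If `R_m` is a domain and `P ≤ m` is a minimal prime then `P` is the kernel of `R → R_m`. -/
theorem ker_eq_of_minimal (m : Ideal R) [m.IsPrime] [IsDomain (Localization.AtPrime m)]
    (P : Ideal R) (hP : P ∈ minimalPrimes R) (hPm : P ≤ m) :
    RingHom.ker (algebraMap R (Localization.AtPrime m)) = P := by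
  have hprime : (RingHom.ker (algebraMap R (Localization.AtPrime m))).IsPrime :=
    RingHom.ker_isPrime _
  have hP' : P.IsPrime := hP.1.1
  have hle : RingHom.ker (algebraMap R (Localization.AtPrime m)) ≤ P := by
    intro x hx
    rw [RingHom.mem_ker, IsLocalization.map_eq_zero_iff m.primeCompl] at hx
    obtain ⟨s, hs⟩ := hx
    have : (s : R) * x ∈ P := by rw [hs]; exact P.zero_mem
    rcases hP'.mem_or_mem this with h | h
    · exact absurd (hPm h) s.2
    · exact h
  exact le_antisymm hle (hP.2 ⟨hprime, bot_le⟩ hle)

theorem isReduced_of_locally_domain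
    (h : ∀ m : Ideal R, ∀ _ : m.IsMaximal, IsDomain (Localization.AtPrime m)) : IsReduced R := by
  constructor
  intro x hx
  by_contra hx0
  have hann : (Ideal.span {x}).annihilator ≠ ⊤ := by
    intro htop
    have : (1 : R) ∈ (Ideal.span {x}).annihilator := by rw [htop]; trivial
    rw [Submodule.mem_annihilator_span_singleton] at this
    exact hx0 (by simpa using this)
  obtain ⟨m, hm, hle⟩ := Ideal.exists_le_maximal _ hann
  haveI := h m hm
  have h0 : algebraMap R (Localization.AtPrime m) x = 0 := (hx.map _).eq_zero
  rw [IsLocalization.map_eq_zero_iff m.primeCompl] at h0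
  obtain ⟨s, hs⟩ := h0
  have : (s : R) ∈ (Ideal.span {x}).annihilator := by
    rw [Submodule.mem_annihilator_span_singleton]
    exact hs
  exact s.2 (hle this)

theorem exists_equiv_pi [IsNoetherianRing R]
    (h : ∀ m : Ideal R, ∀ _ : m.IsMaximal, IsDomain (Localization.AtPrime m)) :
    ∃ (n : ℕ) (f : Fin n → Ideal R), (∀ i, f i ∈ minimalPrimes R) ∧
      ∃ e : R ≃+* (∀ i, R ⧸ f i), ∀ r i, e r i = Ideal.Quotient.mk (f i) r := by
  classical
  have hfin : (minimalPrimes R).Finite := minimalPrimes.finite_of_isNoetherianRing R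
  haveI : Finite (minimalPrimes R) := hfin
  obtain ⟨n, ⟨en⟩⟩ := Finite.exists_equiv_fin (minimalPrimes R)
  let f : Fin n → Ideal R := fun i => (en.symm i).1
  have hf : ∀ i, f i ∈ minimalPrimes R := fun i => (en.symm i).2
  have hinj : Function.Injective f := fun i j hij => en.symm.injective (Subtype.ext hij)
  have hcop : Pairwise (Function.onFun IsCoprime f) := by
    intro i j hij
    rw [Function.onFun, Ideal.isCoprime_iff_sup_eq]
    by_contra hne
    obtain ⟨m, hm, hle⟩ := Ideal.exists_le_maximal _ hne
    haveI := h m hm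
    have h1 := ker_eq_of_minimal m (f i) (hf i) (le_sup_left.trans hle)
    have h2 := ker_eq_of_minimal m (f j) (hf j) (le_sup_right.trans hle)
    exact hij (hinj (h1.symm.trans h2))
  haveI := isReduced_of_locally_domain h
  have hinf : ⨅ i, f i = ⊥ := by
    have h1 : sInf (minimalPrimes R) = ⊥ := by
      have := Ideal.sInf_minimalPrimes (I := (⊥ : Ideal R))
      rw [show (⊥ : Ideal R).minimalPrimes = minimalPrimes R from rfl] at this
      rw [this]
      exact nilradical_eq_zero R
    rw [← h1]
    apply le_antisymm
    · apply le_sInf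
      intro P hP
      have : f (en ⟨P, hP⟩) = P := by simp [f]
      rw [← this]
      exact iInf_le _ _
    · apply le_iInf
      intro i
      exact sInf_le (hf i)
  let e1 : R ≃+* R ⧸ (⨅ i, f i) :=
    (RingEquiv.quotientBot R).symm.trans (Ideal.quotEquivOfEq hinf.symm)
  refine ⟨n, f, hf, e1.trans (Ideal.quotientInfRingEquivPiQuotient f hcop), ?_⟩
  intro r i
  rfl

end Groth.Agent.Lib.Helper8.LocDomainProd
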