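import Mathlib
import Groth.Agent.Lib.Helper8.NormalSmooth
import Groth.Agent.Lib.Helper8.LocDomainProd

/-!
# Étale algebras over Dedekind domains
-/

set_option autoImplicit false
universe u
open IsLocalRing

namespace Groth.Agent.Lib.Helper8.EtaleDedekind

variable (A B : Type u) [CommRing A] [IsDedekindDomain A] [CommRing B] [Algebra A B]
  [Algebra.Etale A B]

/-- A prime of `B` with nonzero contraction to `A` is maximal. -/
theorem isMaximal_of_under_ne_bot (Q : Ideal B) [Q.IsPrime] (h : Q.under A ≠ ⊥) : Q.IsMaximal := by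
  have hq : (Q.under A).IsMaximal := Ideal.IsPrime.isMaximal inferInstance h
  obtain ⟨M, hM, hQM⟩ := Ideal.exists_le_maximal Q (Ideal.IsPrime.ne_top inferInstance)
  have h1 : Q.under A ≤ M.under A := Ideal.comap_mono hQM
  have h2 : (M.under A) ≠ ⊤ := Ideal.IsPrime.ne_top inferInstance
  have h3 : Q.under A = M.under A := hq.eq_of_le h2 h1
  have := Algebra.QuasiFinite.eq_of_le_of_under_eq (R := A) Q M hQM h3
  rw [this]; exact hM

/-- Comparable primes of `B` over the zero ideal are equal. -/
theorem eq_of_le_of_under_eq_bot (P Q : Ideal B) [P.IsPrime] [Q.IsPrime] (hPQ : P ≤ Q)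
    (h : Q.under A = ⊥) : P = Q := by
  have h1 : P.under A ≤ Q.under A := Ideal.comap_mono hPQ
  rw [h, le_bot_iff] at h1
  exact Algebra.QuasiFinite.eq_of_le_of_under_eq (R := A) P Q hPQ (h1.trans h.symm)

include A in
/-- An étale algebra over a Dedekind domain which is a domain is a Dedekind domain. -/
theorem isDedekindDomain_of_isDomain [IsDomain B] : IsDedekindDomain B := by
  haveI : IsNoetherianRing B := Algebra.FiniteType.isNoetherianRing A B
  have hdim : Ring.DimensionLEOne B := by
    constructor
    intro Q hQ0 hQ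
    by_cases h : Q.under A = ⊥
    · exact absurd (eq_of_le_of_under_eq_bot A B ⊥ Q bot_le h).symm hQ0
    · exact isMaximal_of_under_ne_bot A B Q h
  have hic : IsIntegrallyClosed B := by
    apply IsIntegrallyClosed.of_localization_maximal
    intro p _ _
    exact (NormalSmooth.isDomain_isIntegrallyClosed_of_etale A B p).2
  exact { hdim, hic with }

include A in
/-- The local ring of an étale algebra over a Dedekind domain at a maximal ideal is a DVR or a
field. -/
theorem isDiscreteValuationRing_localization (q : Ideal B) [q.IsMaximal]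
    (hq : ¬ IsField (Localization.AtPrime q)) :
    ∃ _ : IsDomain (Localization.AtPrime q), IsDiscreteValuationRing (Localization.AtPrime q) := by
  haveI : IsNoetherianRing B := Algebra.FiniteType.isNoetherianRing A B
  obtain ⟨hd, hic⟩ := NormalSmooth.isDomain_isIntegrallyClosed_of_etale A B q
  refine ⟨hd, ?_⟩
  haveI : IsNoetherianRing (Localization.AtPrime q) :=
    IsLocalization.isNoetherianRing q.primeCompl _ inferInstance
  have tf := (IsDiscreteValuationRing.TFAE (Localization.AtPrime q) hq).out 0 3
  rw [tf]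
  refine ⟨hic, ?_⟩
  have hmax0 : maximalIdeal (Localization.AtPrime q) ≠ ⊥ := isField_iff_maximalIdeal_eq.not.mp hq
  refine ⟨maximalIdeal _, ⟨hmax0, inferInstance⟩, ?_⟩
  rintro 𝔭 ⟨h𝔭0, h𝔭⟩
  let Q : Ideal B := 𝔭.comap (algebraMap B (Localization.AtPrime q))
  haveI : Q.IsPrime := Ideal.comap_isPrime _ _
  have hQq : Q ≤ q := by
    have := IsLocalization.AtPrime.comap_maximalIdeal (Localization.AtPrime q) q
    rw [← this]
    exact Ideal.comap_mono (le_maximalIdeal h𝔭.ne_top)
  have hmap : Q.map (algebraMap B (Localization.AtPrime q)) = 𝔭 :=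
    IsLocalization.map_comap q.primeCompl _ 𝔭
  by_cases h : Q.under A = ⊥
  · exfalso
    obtain ⟨P, hP, hPQ⟩ := Ideal.exists_minimalPrimes_le (I := (⊥ : Ideal B)) (J := Q) bot_le
    haveI : P.IsPrime := hP.1.1
    have hPeq : P = Q := eq_of_le_of_under_eq_bot A B P Q hPQ h
    have hker := LocDomainProd.ker_eq_of_minimal q P hP (hPQ.trans hQq)
    apply h𝔭0
    rw [← hmap, ← hPeq, ← hker, Ideal.map_eq_bot_iff_le_ker]
  · have hQmax := isMaximal_of_under_ne_bot A B Q h
    have hQeq : Q = q := hQmax.eq_of_le (Ideal.IsPrime.ne_top inferInstance) hQq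
    rw [← hmap, hQeq]
    exact IsLocalization.AtPrime.map_eq_maximalIdeal q (Localization.AtPrime q)

end Groth.Agent.Lib.Helper8.EtaleDedekind
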