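import Mathlib
import Groth.Agent.S2782

/-!
# Étale algebras with a point of trivial residue field extension

Pairs `(S, q)` with `S` étale over `R` and `q` a prime over `p` with `κ(p) = κ(q)` are the same as
étale algebras with a character `S →ₐ[R] κ(p)`. They form a filtered system.
-/

open TensorProduct

universe u

namespace Groth.Agent.Lib.Helper8

/-- From a prime with trivial residue field extension to a character with values in `κ(p)`. -/
theorem exists_character_of_bijective {R : Type*} [CommRing R] (p : Ideal R) [p.IsPrime]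
    {S : Type*} [CommRing S] [Algebra R S] (q : Ideal S) [q.IsPrime]
    (hq : p = q.comap (algebraMap R S))
    (hbij : Function.Bijective (Ideal.ResidueField.map p q (algebraMap R S) hq)) :
    ∃ χ : S →ₐ[R] p.ResidueField, RingHom.ker χ.toRingHom = q ∧
      ∀ s, Ideal.ResidueField.map p q (algebraMap R S) hq (χ s) = algebraMap S q.ResidueField s := by
  let e := RingEquiv.ofBijective _ hbij
  let χ : S →ₐ[R] p.ResidueField :=
    { toRingHom := (e.symm : q.ResidueField →+* p.ResidueField).comp (algebraMap S q.ResidueField)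
      commutes' := fun r => by
        change e.symm (algebraMap S q.ResidueField (algebraMap R S r)) = _
        rw [RingEquiv.symm_apply_eq]
        change _ = Ideal.ResidueField.map p q (algebraMap R S) hq (algebraMap R p.ResidueField r)
        rw [Ideal.ResidueField.map_algebraMap] }
  have hχ : ∀ s, χ s = e.symm (algebraMap S q.ResidueField s) := fun s => rfl
  refine ⟨χ, ?_, fun s => ?_⟩
  · ext s
    change χ s = 0 ↔ _
    rw [hχ, map_eq_zero_iff _ e.symm.injective, Ideal.algebraMap_residueField_eq_zero]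
  · rw [hχ]
    exact e.apply_symm_apply _

/-- From a character with values in `κ(p)` to a prime with trivial residue field extension. -/
theorem bijective_of_character {R : Type*} [CommRing R] (p : Ideal R) [p.IsPrime]
    {S : Type*} [CommRing S] [Algebra R S] (χ : S →ₐ[R] p.ResidueField) (q : Ideal S)
    (hqχ : q = RingHom.ker χ.toRingHom) :
    ∃ (_ : q.IsPrime) (hq : p = q.comap (algebraMap R S)),
      Function.Bijective (Ideal.ResidueField.map p q (algebraMap R S) hq) := by
  subst hqχ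
  have hprime : (RingHom.ker χ.toRingHom).IsPrime := RingHom.ker_isPrime _
  have hq : p = (RingHom.ker χ.toRingHom).comap (algebraMap R S) := by
    ext r
    rw [Ideal.mem_comap, RingHom.mem_ker]
    change _ ↔ χ (algebraMap R S r) = 0
    rw [χ.commutes, Ideal.algebraMap_residueField_eq_zero]
  refine ⟨hprime, hq, (RingHom.injective _), ?_⟩
  let l : (RingHom.ker χ.toRingHom).ResidueField →+* p.ResidueField :=
    Ideal.ResidueField.lift _ χ.toRingHom le_rfl (by
      intro s hs
      rw [Submonoid.mem_comap, IsUnit.mem_submonoid_iff]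
      exact IsUnit.mk0 _ (fun h => hs (RingHom.mem_ker.mpr h)))
  have hl : l.comp (Ideal.ResidueField.map p _ (algebraMap R S) hq) = RingHom.id _ := by
    apply Ideal.ResidueField.ringHom_ext
    ext r
    simp only [RingHom.comp_apply, RingHom.id_apply]
    rw [Ideal.ResidueField.map_algebraMap]
    change l (algebraMap S _ (algebraMap R S r)) = _
    rw [Ideal.ResidueField.lift_algebraMap]
    exact χ.commutes r
  intro y
  refine ⟨l y, ?_⟩
  apply l.injective
  exact DFunLike.congr_fun hl (l y)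

/-- Any two pairs are dominated by a third. -/
theorem etale_pairs_dominating (R : Type u) [CommRing R]
    (p : Ideal R) [p.IsPrime] (S₁ : Type u) [CommRing S₁] [Algebra R S₁] [Algebra.Etale R S₁] (q₁ : Ideal S₁) [q₁.IsPrime] (hq₁ : p = q₁.comap (algebraMap R S₁))
    (hq₁κ : Function.Bijective (Ideal.ResidueField.map p q₁ (algebraMap R S₁) hq₁))
    (S₂ : Type u) [CommRing S₂] [Algebra R S₂] [Algebra.Etale R S₂] (q₂ : Ideal S₂) [q₂.IsPrime] (hq₂ : p = q₂.comap (algebraMap R S₂))
    (hq₂κ : Function.Bijective (Ideal.ResidueField.map p q₂ (algebraMap R S₂) hq₂)) :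
    ∃ (S₃ : Type u) (_ : CommRing S₃) (_ : Algebra R S₃) (_ : Algebra.Etale R S₃) (q₃ : Ideal S₃)
      (_ : q₃.IsPrime) (hq₃ : p = q₃.comap (algebraMap R S₃)),
      Function.Bijective (Ideal.ResidueField.map p q₃ (algebraMap R S₃) hq₃) ∧
        ∃ (φ₁ : S₁ →ₐ[R] S₃) (φ₂ : S₂ →ₐ[R] S₃),
          q₃.comap φ₁.toRingHom = q₁ ∧ q₃.comap φ₂.toRingHom = q₂ := by
  obtain ⟨χ₁, hχ₁, -⟩ := exists_character_of_bijective p q₁ hq₁ hq₁κ
  obtain ⟨χ₂, hχ₂, -⟩ := exists_character_of_bijective p q₂ hq₂ hq₂κ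
  let χ₃ : S₁ ⊗[R] S₂ →ₐ[R] p.ResidueField :=
    Algebra.TensorProduct.lift χ₁ χ₂ (fun _ _ => Commute.all _ _)
  obtain ⟨hprime, hq₃, hbij⟩ := bijective_of_character p χ₃ (RingHom.ker χ₃.toRingHom) rfl
  have : Algebra.Etale R (S₁ ⊗[R] S₂) := Algebra.Etale.comp R S₁ (S₁ ⊗[R] S₂)
  refine ⟨S₁ ⊗[R] S₂, inferInstance, inferInstance, inferInstance, RingHom.ker χ₃.toRingHom,
    hprime, hq₃, hbij, Algebra.TensorProduct.includeLeft, Algebra.TensorProduct.includeRight, ?_, ?_⟩
  · rw [← hχ₁]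
    ext x
    rw [Ideal.mem_comap, RingHom.mem_ker, RingHom.mem_ker]
    change χ₃ (x ⊗ₜ 1) = 0 ↔ χ₁ x = 0
    simp [χ₃]
  · rw [← hχ₂]
    ext x
    rw [Ideal.mem_comap, RingHom.mem_ker, RingHom.mem_ker]
    change χ₃ (1 ⊗ₜ x) = 0 ↔ χ₂ x = 0
    simp [χ₃]

/-- Two characters with values in `κ(p)` with the same kernel, at which the residue field extension
is trivial, are equal. -/
theorem character_eq_of_ker_eq {R : Type*} [CommRing R] (p : Ideal R) [p.IsPrime]
    {S : Type*} [CommRing S] [Algebra R S] (χ χ' : S →ₐ[R] p.ResidueField)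
    (h : RingHom.ker χ.toRingHom = RingHom.ker χ'.toRingHom) : χ = χ' := by
  obtain ⟨hprime, hq, hbij⟩ := bijective_of_character p χ (RingHom.ker χ.toRingHom) rfl
  set q := RingHom.ker χ.toRingHom with hqdef
  have hunit : ∀ (ψ : S →ₐ[R] p.ResidueField), RingHom.ker ψ.toRingHom = q →
      q.primeCompl ≤ (IsUnit.submonoid p.ResidueField).comap ψ := by
    intro ψ hψ s hs
    rw [Submonoid.mem_comap, IsUnit.mem_submonoid_iff]
    exact IsUnit.mk0 _ (fun h0 => hs (hψ ▸ RingHom.mem_ker.mpr h0))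
  let l := Ideal.ResidueField.liftₐ q χ le_rfl (hunit χ rfl)
  let l' := Ideal.ResidueField.liftₐ q χ' (le_of_eq h) (hunit χ' h.symm)
  let m : p.ResidueField →ₐ[R] q.ResidueField :=
    Ideal.ResidueField.mapₐ p q (Algebra.ofId R S) hq
  have hm : Function.Surjective m := hbij.2
  have hll' : l = l' := by
    have h1 : l.comp m = l'.comp m := Ideal.ResidueField.algHom_ext (by ext)
    ext y
    obtain ⟨z, hz⟩ := hm (algebraMap S q.ResidueField y)
    have := DFunLike.congr_fun h1 z
    simp only [AlgHom.comp_apply, hz] at this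
    exact this
  ext s
  have h1 : χ s = l (algebraMap S q.ResidueField s) :=
    (Ideal.ResidueField.liftₐ_algebraMap q χ le_rfl (hunit χ rfl) s).symm
  have h2 : χ' s = l' (algebraMap S q.ResidueField s) :=
    (Ideal.ResidueField.liftₐ_algebraMap q χ' (le_of_eq h) (hunit χ' h.symm) s).symm
  rw [h1, h2, hll']

/-- Parallel morphisms of pairs are coequalized. -/
theorem etale_pairs_coequalizing (R : Type u) [CommRing R]
    (p : Ideal R) [p.IsPrime] (S₁ : Type u) [CommRing S₁] [Algebra R S₁] [Algebra.Etale R S₁] (q₁ : Ideal S₁) [q₁.IsPrime]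
    (S₂ : Type u) [CommRing S₂] [Algebra R S₂] [Algebra.Etale R S₂] (q₂ : Ideal S₂) [q₂.IsPrime] (hq₂ : p = q₂.comap (algebraMap R S₂))
    (hq₂κ : Function.Bijective (Ideal.ResidueField.map p q₂ (algebraMap R S₂) hq₂))
    (φ ψ : S₁ →ₐ[R] S₂) (hφ : q₂.comap φ.toRingHom = q₁) (hψ : q₂.comap ψ.toRingHom = q₁) :
    ∃ (S₃ : Type u) (_ : CommRing S₃) (_ : Algebra R S₃) (_ : Algebra.Etale R S₃) (q₃ : Ideal S₃)
      (_ : q₃.IsPrime) (hq₃ : p = q₃.comap (algebraMap R S₃)),
      Function.Bijective (Ideal.ResidueField.map p q₃ (algebraMap R S₃) hq₃) ∧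
        ∃ χ : S₂ →ₐ[R] S₃, q₃.comap χ.toRingHom = q₂ ∧ χ.comp φ = χ.comp ψ := by
  classical
  obtain ⟨χ₂, hχ₂, hχ₂map⟩ := exists_character_of_bijective p q₂ hq₂ hq₂κ
  have hc : χ₂.comp φ = χ₂.comp ψ := by
    apply character_eq_of_ker_eq p
    have h1 : RingHom.ker (χ₂.comp φ).toRingHom = q₁ := by
      rw [← hφ, ← hχ₂]; rfl
    have h2 : RingHom.ker (χ₂.comp ψ).toRingHom = q₁ := by
      rw [← hψ, ← hχ₂]; rfl
    rw [h1, h2]
  have hL : (IsScalarTower.toAlgHom R S₂ (Localization.AtPrime q₂)).comp φ =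
      (IsScalarTower.toAlgHom R S₂ (Localization.AtPrime q₂)).comp ψ := by
    apply Groth.Agent.S2782.algHom_eq_of_residue_eq_of_unramified R S₁ (Localization.AtPrime q₂)
    intro x
    have h1 : ∀ y : S₂, IsLocalRing.residue (Localization.AtPrime q₂)
        (algebraMap S₂ (Localization.AtPrime q₂) y) = algebraMap S₂ q₂.ResidueField y :=
      fun y => rfl
    change IsLocalRing.residue _ (algebraMap S₂ _ (φ x)) =
      IsLocalRing.residue _ (algebraMap S₂ _ (ψ x))
    rw [h1, h1, ← hχ₂map, ← hχ₂map]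
    exact congrArg _ (DFunLike.congr_fun hc x)
  obtain ⟨s, hs⟩ := Algebra.FiniteType.out (R := R) (A := S₁)
  have hex : ∀ x : S₁, ∃ t : S₂, t ∉ q₂ ∧ t * (φ x - ψ x) = 0 := by
    intro x
    have h1 : algebraMap S₂ (Localization.AtPrime q₂) (φ x - ψ x) = 0 := by
      rw [map_sub, sub_eq_zero]
      exact DFunLike.congr_fun hL x
    obtain ⟨m, hm⟩ := (IsLocalization.map_eq_zero_iff q₂.primeCompl _ _).mp h1
    exact ⟨m.1, m.2, hm⟩
  choose t ht1 ht2 using hex
  set T : S₂ := ∏ x ∈ s, t x with hT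
  have hTq : T ∉ q₂ := by
    rw [hT]
    intro h
    obtain ⟨x, -, hx⟩ := (Ideal.IsPrime.prod_mem_iff).mp h
    exact ht1 x hx
  have hχ₂T : ∀ y : Submonoid.powers T, IsUnit (χ₂ y) := by
    rintro ⟨_, n, rfl⟩
    rw [map_pow]
    refine (IsUnit.mk0 _ (fun h0 => hTq ?_)).pow n
    rw [← hχ₂]; exact RingHom.mem_ker.mpr h0
  let χ₃ : Localization.Away T →ₐ[R] p.ResidueField :=
    IsLocalization.liftAlgHom (M := Submonoid.powers T) (f := χ₂) hχ₂T
  have hχ₃ : ∀ y : S₂, χ₃ (algebraMap S₂ (Localization.Away T) y) = χ₂ y := fun y => by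
    simp [χ₃]
  obtain ⟨hprime, hq₃, hbij⟩ := bijective_of_character p χ₃ (RingHom.ker χ₃.toRingHom) rfl
  refine ⟨Localization.Away T, inferInstance, inferInstance, inferInstance,
    RingHom.ker χ₃.toRingHom, hprime, hq₃, hbij,
    IsScalarTower.toAlgHom R S₂ (Localization.Away T), ?_, ?_⟩
  · rw [← hχ₂]
    ext y
    rw [Ideal.mem_comap, RingHom.mem_ker, RingHom.mem_ker]
    change χ₃ (algebraMap S₂ _ y) = 0 ↔ χ₂ y = 0
    rw [hχ₃]
  · apply AlgHom.ext_of_adjoin_eq_top hs
    intro x hx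
    change algebraMap S₂ (Localization.Away T) (φ x) = algebraMap S₂ (Localization.Away T) (ψ x)
    rw [IsLocalization.eq_iff_exists (Submonoid.powers T)]
    refine ⟨⟨T, 1, pow_one T⟩, ?_⟩
    obtain ⟨c, hc⟩ := Finset.dvd_prod_of_mem t hx
    have : T * (φ x - ψ x) = 0 := by
      rw [hT, hc, mul_comm (t x) c, mul_assoc, ht2, mul_zero]
    rw [mul_sub, sub_eq_zero] at this
    exact this

end Groth.Agent.Lib.Helper8
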