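import Mathlib

/-!
# Binary products of étale algebras are étale
-/

universe u

namespace Groth.Agent.Lib.Helper8.EtaleProd

variable (R B C : Type u) [CommRing R] [CommRing B] [CommRing C] [Algebra R B] [Algebra R C]

/-- The two-element family `true ↦ B`, `false ↦ C`. -/
def F : Bool → Type u
  | true => B
  | false => C

instance instCommRingF : ∀ b, CommRing (F B C b)
  | true => inferInstanceAs (CommRing B)
  | false => inferInstanceAs (CommRing C)

instance instAlgebraF : ∀ b, Algebra R (F B C b)
  | true => inferInstanceAs (Algebra R B)
  | false => inferInstanceAs (Algebra R C)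

/-- `Π b, F b ≃ B × C`. -/
def equiv : (∀ b, F B C b) ≃ₐ[R] B × C where
  toFun f := (f true, f false)
  invFun p := fun b => match b with
    | true => p.1
    | false => p.2
  left_inv f := by
    funext b
    cases b <;> rfl
  right_inv p := rfl
  map_mul' f g := rfl
  map_add' f g := rfl
  commutes' r := rfl

instance etale_prod [Algebra.Etale R B] [Algebra.Etale R C] : Algebra.Etale R (B × C) := by
  haveI : ∀ b, Algebra.Etale R (F B C b) := fun b => by
    cases b
    · exact inferInstanceAs (Algebra.Etale R C)
    · exact inferInstanceAs (Algebra.Etale R B)
  exact Algebra.Etale.of_equiv (equiv R B C)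

end Groth.Agent.Lib.Helper8.EtaleProd
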