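import Mathlib
import Groth.Agent.Lib.Helper8.EtaleSlice
set_option autoImplicit false
open TensorProduct KaehlerDifferential IsLocalRing

/-! Étale quotient of a smooth algebra cut out by elements of a prescribed ideal whose quotient
is a quotient of the base. -/

namespace Groth.Agent.Lib.Helper8.EtaleSliceQuot
open Groth.Agent.Lib.Helper8.SmoothQuot Groth.Agent.Lib.Helper8.SmoothQuotChart
open Groth.Agent.Lib.Helper8.EtaleSlice
universe v w

theorem exists_away_quotient_etale (C : Type v) (B : Type w)
    [CommRing C] [CommRing B] [Algebra C B] [Algebra.Smooth C B] (J : Ideal B)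
    (hsurj : Function.Surjective ((Ideal.Quotient.mk J).comp (algebraMap C B)))
    (x : PrimeSpectrum (B ⧸ J)) :
    ∃ f : B, Ideal.Quotient.mk J f ∉ x.asIdeal ∧
      ∃ J₀ : Ideal (Localization.Away f), J₀ ≤ J.map (algebraMap B (Localization.Away f)) ∧
        ((Ideal.Quotient.mk J₀).comp
          ((algebraMap B (Localization.Away f)).comp (algebraMap C B))).Etale := by
  classical
  set q : Ideal B := x.asIdeal.comap (Ideal.Quotient.mk J) with hq
  haveI : q.IsPrime := Ideal.comap_isPrime _ _
  haveI : Algebra.FormallySmooth B (Localization.AtPrime q) :=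
    Algebra.FormallySmooth.of_isLocalization q.primeCompl
  haveI : Algebra.IsSmoothAt C q := Algebra.FormallySmooth.comp C B (Localization.AtPrime q)
  have hc : Submodule.span q.ResidueField
      (Set.range fun j : J => (1 : q.ResidueField) ⊗ₜ[B] D C B (j : B)) = ⊤ := by
    have h1 : Submodule.span q.ResidueField
        (Set.range fun b : B => (1 : q.ResidueField) ⊗ₜ[B] D C B b) = ⊤ := by
      have h1 := Submodule.baseChange_span (R := B) q.ResidueField (Set.range (D C B))
      rw [KaehlerDifferential.span_range_derivation, Submodule.baseChange_top,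
        ← Set.range_comp] at h1
      exact h1.symm
    rw [eq_top_iff, ← h1, Submodule.span_le]
    rintro _ ⟨b, rfl⟩
    obtain ⟨c, hc⟩ := hsurj (Ideal.Quotient.mk J b)
    have hj : b - algebraMap C B c ∈ J := by
      rw [← Ideal.Quotient.eq]
      exact hc.symm
    have h2 : D C B b = D C B (b - algebraMap C B c) := by
      rw [map_sub, Derivation.map_algebraMap, sub_zero]
    show (1 : q.ResidueField) ⊗ₜ[B] D C B b ∈ _
    rw [h2]
    exact Submodule.subset_span ⟨⟨_, hj⟩, rfl⟩
  obtain ⟨m, a, hbij⟩ := exists_extension_bijective (K := q.ResidueField)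
    (V := q.ResidueField ⊗[B] Ω[B⁄C]) (fun e : Empty => e.elim) linearIndependent_empty_type
    (fun j : J => (1 : q.ResidueField) ⊗ₜ[B] D C B (j : B)) hc
  let xs : Empty ⊕ Fin m → B := Sum.elim (fun e => e.elim) (fun j => (a j : B))
  have hxJ : ∀ i, xs i ∈ J := by
    rintro (e | j)
    · exact e.elim
    · exact (a j).2
  have hfun : (fun i => (1 : q.ResidueField) ⊗ₜ[B] D C B (xs i)) =
      Sum.elim (fun e : Empty => e.elim)
        ((fun j : J => (1 : q.ResidueField) ⊗ₜ[B] D C B (j : B)) ∘ a) := by
    funext i
    rcases i with e | j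
    · exact e.elim
    · rfl
  have hbij' : Function.Bijective (Finsupp.linearCombination q.ResidueField
      (fun i => (1 : q.ResidueField) ⊗ₜ[B] D C B (xs i))) := by
    rw [hfun]; exact hbij
  obtain ⟨f₁, hf₁, hét⟩ := exists_etale_aeval C B q xs hbij'
  have hét₁ := hét f₁ dvd_rfl
  letI algPB : Algebra (MvPolynomial (Empty ⊕ Fin m) C) (Localization.Away f₁) :=
    (MvPolynomial.aeval (fun i => algebraMap B (Localization.Away f₁) (xs i)) :
      MvPolynomial (Empty ⊕ Fin m) C →ₐ[C] Localization.Away f₁).toRingHom.toAlgebra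
  haveI : IsScalarTower C (MvPolynomial (Empty ⊕ Fin m) C) (Localization.Away f₁) :=
    .of_algebraMap_eq' (MvPolynomial.aeval
      (fun i => algebraMap B (Localization.Away f₁) (xs i))).comp_algebraMap.symm
  haveI : Algebra.Etale (MvPolynomial (Empty ⊕ Fin m) C) (Localization.Away f₁) := hét₁
  refine ⟨f₁, fun h => hf₁ h, (MvPolynomial.idealOfVars (Empty ⊕ Fin m) C).map
      (algebraMap (MvPolynomial (Empty ⊕ Fin m) C) (Localization.Away f₁)), ?_, ?_⟩
  · rw [Ideal.map_le_iff_le_comap, Ideal.span_le]
    rintro _ ⟨i, rfl⟩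
    show algebraMap (MvPolynomial (Empty ⊕ Fin m) C) (Localization.Away f₁)
      (MvPolynomial.X i) ∈ J.map (algebraMap B (Localization.Away f₁))
    have h2 : algebraMap (MvPolynomial (Empty ⊕ Fin m) C) (Localization.Away f₁)
        (MvPolynomial.X i) = algebraMap B (Localization.Away f₁) (xs i) :=
      MvPolynomial.aeval_X _ i
    rw [h2]
    exact Ideal.mem_map_of_mem _ (hxJ i)
  · haveI hE : Algebra.Etale C (Localization.Away f₁ ⧸
        (MvPolynomial.idealOfVars (Empty ⊕ Fin m) C).map
          (algebraMap (MvPolynomial (Empty ⊕ Fin m) C) (Localization.Away f₁))) :=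
      etale_quotient_map_idealOfVars
    have e : (Ideal.Quotient.mk ((MvPolynomial.idealOfVars (Empty ⊕ Fin m) C).map
          (algebraMap (MvPolynomial (Empty ⊕ Fin m) C) (Localization.Away f₁)))).comp
        ((algebraMap B (Localization.Away f₁)).comp (algebraMap C B)) =
        algebraMap C (Localization.Away f₁ ⧸
          (MvPolynomial.idealOfVars (Empty ⊕ Fin m) C).map
            (algebraMap (MvPolynomial (Empty ⊕ Fin m) C) (Localization.Away f₁))) := by
      refine RingHom.ext fun c => ?_
      show Ideal.Quotient.mk _ (algebraMap B (Localization.Away f₁) (algebraMap C B c)) =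
        Ideal.Quotient.mk _ (algebraMap C (Localization.Away f₁) c)
      rw [← IsScalarTower.algebraMap_apply C B (Localization.Away f₁)]
    rw [e, RingHom.etale_algebraMap]
    exact hE

end Groth.Agent.Lib.Helper8.EtaleSliceQuot
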