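import Mathlib
import Groth.Prelude.Def_MoreMor
import Groth.Agent.Lib.Helper8.FibIntS

set_option autoImplicit false
universe u
open AlgebraicGeometry CategoryTheory Limits

namespace Groth.Agent.Lib.Helper8.FibIntC

open Groth.Agent.Lib.Helper8.FibInt Groth.Agent.Lib.Helper8.FibIntGP
  Groth.Agent.Lib.Helper8.FibIntW Groth.Agent.Lib.Helper8.FibIntS
  Groth.Agent.Lib.Helper8.EtLocUnr Groth.Agent.Lib.Helper8.EtLocPI

section Tower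

variable {T S V : Scheme.{u}}

lemma sepDeg_comp (ρ : T ⟶ S) (σ : S ⟶ V) (t : T) (hfin : (ρ.residueFieldMap t).hom.Finite) :
    sepDeg (ρ ≫ σ) t = sepDeg σ (ρ t) * sepDeg ρ t := by
  letI a₁ : Algebra (V.residueField (σ (ρ t))) (S.residueField (ρ t)) :=
    (σ.residueFieldMap (ρ t)).hom.toAlgebra
  letI a₂ : Algebra (S.residueField (ρ t)) (T.residueField t) := (ρ.residueFieldMap t).hom.toAlgebra
  letI a₃ : Algebra (V.residueField (σ (ρ t))) (T.residueField t) :=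
    ((ρ ≫ σ).residueFieldMap t).hom.toAlgebra
  haveI : IsScalarTower (V.residueField (σ (ρ t))) (S.residueField (ρ t)) (T.residueField t) :=
    IsScalarTower.of_algebraMap_eq' (by
      show ((ρ ≫ σ).residueFieldMap t).hom =
        (ρ.residueFieldMap t).hom.comp (σ.residueFieldMap (ρ t)).hom
      rw [Scheme.residueFieldMap_comp]
      rfl)
  haveI : Module.Finite (S.residueField (ρ t)) (T.residueField t) := hfin
  haveI : Algebra.IsAlgebraic (S.residueField (ρ t)) (T.residueField t) :=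
    Algebra.IsAlgebraic.of_finite _ _
  exact (Field.finSepDegree_mul_finSepDegree_of_isAlgebraic (V.residueField (σ (ρ t)))
    (S.residueField (ρ t)) (T.residueField t)).symm

lemma fibreIntegral_tower (ρ : T ⟶ S) (σ : S ⟶ V) [LocallyQuasiFinite ρ] [LocallyOfFiniteType ρ]
    (wT : T → ℤ) (wS : S → ℤ) (v : V) (hfin : {t : T | σ (ρ t) = v}.Finite) :
    MoreMor.fibreIntegral (ρ ≫ σ) (fun t => wT t * wS (ρ t)) v =
      MoreMor.fibreIntegral σ (fun s => wS s * MoreMor.fibreIntegral ρ wT s) v := by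
  classical
  have key : ∀ t₀ ∈ hfin.toFinset,
      (wS (ρ t₀) * MoreMor.fibreIntegral ρ wT (ρ t₀)) * (sepDeg σ (ρ t₀) : ℤ) =
      ∑ t ∈ hfin.toFinset with ρ t = ρ t₀, (wT t * wS (ρ t)) * (sepDeg (ρ ≫ σ) t : ℤ) := by
    intro t₀ ht₀
    have hσ : σ (ρ t₀) = v := (Set.Finite.mem_toFinset hfin).mp ht₀
    have hset2 : {t : T | ρ t = ρ t₀} =
        (↑(hfin.toFinset.filter (fun t => ρ t = ρ t₀)) : Set T) := by
      ext t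
      rw [Finset.coe_filter]
      constructor
      · intro ht
        have ht' : ρ t = ρ t₀ := ht
        exact ⟨(Set.Finite.mem_toFinset hfin).mpr (by show σ (ρ t) = v; rw [ht', hσ]), ht⟩
      · rintro ⟨_, ht⟩
        exact ht
    rw [fibreIntegral_eq_mem, hset2, finsum_mem_coe_finset, Finset.mul_sum, Finset.sum_mul]
    refine Finset.sum_congr rfl fun t ht => ?_
    have htρ : ρ t = ρ t₀ := (Finset.mem_filter.mp ht).2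
    rw [sepDeg_comp ρ σ t (finite_residueFieldMap_of_quasiFiniteAt ρ t (ρ.quasiFiniteAt t)), htρ]
    push_cast
    ring
  have h₁ : {s : S | σ s = v} ∩ Function.support (fun s =>
      (wS s * MoreMor.fibreIntegral ρ wT s) * (sepDeg σ s : ℤ)) ⊆ ↑(hfin.toFinset.image ρ) := by
    rintro s ⟨hs, hF⟩
    have hs' : σ s = v := hs
    have hI : MoreMor.fibreIntegral ρ wT s ≠ 0 := by
      intro hI
      apply hF
      show (wS s * MoreMor.fibreIntegral ρ wT s) * (sepDeg σ s : ℤ) = 0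
      rw [hI, mul_zero, zero_mul]
    obtain ⟨t, ht⟩ := exists_of_fibreIntegral_ne_zero ρ wT s hI
    rw [Finset.coe_image]
    exact ⟨t, (Set.Finite.mem_toFinset hfin).mpr (by show σ (ρ t) = v; rw [ht, hs']), ht⟩
  have h₂ : (↑(hfin.toFinset.image ρ) : Set S) ⊆ {s : S | σ s = v} := by
    intro s hs
    rw [Finset.coe_image] at hs
    obtain ⟨t, ht, rfl⟩ := hs
    exact (Set.Finite.mem_toFinset hfin).mp ht
  calc MoreMor.fibreIntegral (ρ ≫ σ) (fun t => wT t * wS (ρ t)) v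
      = ∑ t ∈ hfin.toFinset, (wT t * wS (ρ t)) * (sepDeg (ρ ≫ σ) t : ℤ) := by
        rw [fibreIntegral_eq_mem]
        exact finsum_mem_eq_finite_toFinset_sum _ hfin
    _ = ∑ s ∈ hfin.toFinset.image ρ,
          (wS s * MoreMor.fibreIntegral ρ wT s) * (sepDeg σ s : ℤ) :=
        (Finset.sum_image' _ key).symm
    _ = MoreMor.fibreIntegral σ (fun s => wS s * MoreMor.fibreIntegral ρ wT s) v := by
        rw [fibreIntegral_eq_mem]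
        exact (finsum_mem_eq_sum_of_subset _ h₁ h₂).symm

lemma fibreIntegral_congr_of_fibre (π : T ⟶ V) (w₁ w₂ : T → ℤ) (v : V)
    (h : ∀ u, π u = v → w₁ u = w₂ u) :
    MoreMor.fibreIntegral π w₁ v = MoreMor.fibreIntegral π w₂ v := by
  rw [fibreIntegral_eq', fibreIntegral_eq']
  exact finsum_congr fun u => by rw [h u.1 u.2]

lemma fibreIntegral_mul_const (π : T ⟶ V) (w : T → ℤ) (c : ℤ) (v : V) :
    MoreMor.fibreIntegral π (fun u => w u * c) v = c * MoreMor.fibreIntegral π w v := by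
  rw [fibreIntegral_eq', fibreIntegral_eq', mul_finsum]
  refine finsum_congr fun u => ?_
  show w u.1 * c * (sepDeg π u.1 : ℤ) = c * (w u.1 * (sepDeg π u.1 : ℤ))
  ring

lemma const_of_tower (σ : S ⟶ V) [IsFinite σ] (Hf : S → ℤ) (hH : IsLocallyConstant Hf)
    (wS : S → ℤ) (hS : IsLocallyConstant (MoreMor.fibreIntegral σ wS)) (v : V) (s₀ : S)
    (huniq : ∀ s, σ s = v → s = s₀) :
    ∃ N : Set V, IsOpen N ∧ v ∈ N ∧ ∀ v' ∈ N,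
      MoreMor.fibreIntegral σ (fun s => wS s * Hf s) v' =
        MoreMor.fibreIntegral σ (fun s => wS s * Hf s) v := by
  have hC₀ : IsOpen (Hf ⁻¹' {Hf s₀}) := hH.isOpen_fiber _
  have hcl : IsClosed (σ '' (Hf ⁻¹' {Hf s₀})ᶜ) := σ.isClosedMap _ hC₀.isClosed_compl
  obtain ⟨N₂, hN₂o, hvN₂, hN₂c⟩ := (IsLocallyConstant.iff_exists_open _).mp hS v
  have hkey : ∀ v' ∈ (σ '' (Hf ⁻¹' {Hf s₀})ᶜ)ᶜ,
      MoreMor.fibreIntegral σ (fun s => wS s * Hf s) v' =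
        Hf s₀ * MoreMor.fibreIntegral σ wS v' := by
    intro v' hv'
    rw [← fibreIntegral_mul_const]
    apply fibreIntegral_congr_of_fibre
    intro s hs
    have hHs : Hf s = Hf s₀ := by
      by_contra hne
      exact hv' ⟨s, hne, hs⟩
    show wS s * Hf s = wS s * Hf s₀
    rw [hHs]
  have hv1 : v ∈ (σ '' (Hf ⁻¹' {Hf s₀})ᶜ)ᶜ := by
    rintro ⟨s, hs, hsv⟩
    exact hs (by rw [huniq s hsv]; rfl)
  refine ⟨(σ '' (Hf ⁻¹' {Hf s₀})ᶜ)ᶜ ∩ N₂, hcl.isOpen_compl.inter hN₂o, ⟨hv1, hvN₂⟩, ?_⟩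
  rintro v' ⟨h1, h2⟩
  rw [hkey v' h1, hkey v hv1, hN₂c v' h2]

lemma fibreIntegral_tower_open {P Q : Scheme.{u}} (φ : P ⟶ Q) (q : Q ⟶ V) (B : P.Opens)
    (C : Q.Opens) (hBC : B ≤ φ ⁻¹ᵁ C) (hB : IsFinite (B.ι ≫ φ ≫ q)) (hC : IsFinite (C.ι ≫ q))
    (wP : P → ℤ) (wQ : Q → ℤ) (v : V) :
    IsFinite (((φ ⁻¹ᵁ C).ι ⁻¹ᵁ B).ι ≫ φ ∣_ C) ∧
    MoreMor.fibreIntegral (B.ι ≫ φ ≫ q) (fun u => wP (B.ι u) * wQ (φ (B.ι u))) v =
      MoreMor.fibreIntegral (C.ι ≫ q) (fun s => wQ (C.ι s) *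
        MoreMor.fibreIntegral (((φ ⁻¹ᵁ C).ι ⁻¹ᵁ B).ι ≫ φ ∣_ C)
          (fun u => wP ((φ ⁻¹ᵁ C).ι (((φ ⁻¹ᵁ C).ι ⁻¹ᵁ B).ι u))) s) v := by
  haveI := hB
  haveI := hC
  have hiso : (Scheme.Opens.isoOfLE hBC).hom ≫ B.ι =
      ((φ ⁻¹ᵁ C).ι ⁻¹ᵁ B).ι ≫ (φ ⁻¹ᵁ C).ι := Scheme.Opens.isoOfLE_hom_ι hBC
  have hρσ : (((φ ⁻¹ᵁ C).ι ⁻¹ᵁ B).ι ≫ φ ∣_ C) ≫ (C.ι ≫ q) =
      (Scheme.Opens.isoOfLE hBC).hom ≫ B.ι ≫ φ ≫ q := by
    rw [Category.assoc, morphismRestrict_ι_assoc, ← Category.assoc, ← hiso, Category.assoc]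
  haveI hfin1 : IsFinite ((((φ ⁻¹ᵁ C).ι ⁻¹ᵁ B).ι ≫ φ ∣_ C) ≫ (C.ι ≫ q)) := by
    rw [hρσ]
    exact (MorphismProperty.cancel_left_of_respectsIso @IsFinite _ _).mpr hB
  haveI hfin2 : IsFinite (((φ ⁻¹ᵁ C).ι ⁻¹ᵁ B).ι ≫ φ ∣_ C) := IsFinite.of_comp _ (C.ι ≫ q)
  refine ⟨hfin2, ?_⟩
  rw [← fibreIntegral_tower (((φ ⁻¹ᵁ C).ι ⁻¹ᵁ B).ι ≫ φ ∣_ C) (C.ι ≫ q)
    (fun u => wP ((φ ⁻¹ᵁ C).ι (((φ ⁻¹ᵁ C).ι ⁻¹ᵁ B).ι u))) (fun s => wQ (C.ι s)) v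
    (((((φ ⁻¹ᵁ C).ι ⁻¹ᵁ B).ι ≫ φ ∣_ C) ≫ (C.ι ≫ q)).finite_preimage_singleton v),
    ← fibreIntegral_comp_iso (Scheme.Opens.isoOfLE hBC).hom (B.ι ≫ φ ≫ q) _ v, ← hρσ]
  congr 1
  funext t
  have hp : B.ι ((Scheme.Opens.isoOfLE hBC).hom t) =
      (φ ⁻¹ᵁ C).ι (((φ ⁻¹ᵁ C).ι ⁻¹ᵁ B).ι t) := by
    rw [← Scheme.Hom.comp_apply, hiso, Scheme.Hom.comp_apply]
  have hq : C.ι ((φ ∣_ C) (((φ ⁻¹ᵁ C).ι ⁻¹ᵁ B).ι t)) =
      φ ((φ ⁻¹ᵁ C).ι (((φ ⁻¹ᵁ C).ι ⁻¹ᵁ B).ι t)) := by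
    rw [← Scheme.Hom.comp_apply, morphismRestrict_ι, Scheme.Hom.comp_apply]
  show wP (B.ι ((Scheme.Opens.isoOfLE hBC).hom t)) *
      wQ (φ (B.ι ((Scheme.Opens.isoOfLE hBC).hom t))) =
    wP ((φ ⁻¹ᵁ C).ι (((φ ⁻¹ᵁ C).ι ⁻¹ᵁ B).ι t)) *
      wQ (C.ι ((φ ∣_ C) (((φ ⁻¹ᵁ C).ι ⁻¹ᵁ B).ι t)))
  rw [hp, hq]

end Tower

end Groth.Agent.Lib.Helper8.FibIntC
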