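import Mathlib
import Groth.Prelude.Def_MoreMor
import Groth.Agent.Lib.Helper8.FibIntC

set_option autoImplicit false
universe u
open AlgebraicGeometry CategoryTheory Limits

namespace Groth.Agent.Lib.Helper8.FibIntC2

open Groth.Agent.Lib.Helper8.FibInt Groth.Agent.Lib.Helper8.FibIntGP
  Groth.Agent.Lib.Helper8.FibIntW Groth.Agent.Lib.Helper8.FibIntS Groth.Agent.Lib.Helper8.FibIntC
  Groth.Agent.Lib.Helper8.EtLocUnr Groth.Agent.Lib.Helper8.EtLocPI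

section W

variable {X Y : Scheme.{u}} (f : X ⟶ Y)

theorem isLocallyConstant_of_isPullback [LocallyQuasiFinite f] [LocallyOfFiniteType f]
    (w : X → ℤ) (hw : MoreMor.IsWeighting f w) {X' Y' : Scheme.{u}} (f' : X' ⟶ Y') (h : X' ⟶ X)
    (g : Y' ⟶ Y) (hc : IsPullback h f' f g) (O' : X'.Opens) (hO' : IsFinite (O'.ι ≫ f')) :
    IsLocallyConstant (MoreMor.fibreIntegral (O'.ι ≫ f') (fun u => w (h (O'.ι u)))) := by
  have hΦ1 : hc.isoPullback.hom ≫ pullback.fst f g = h := hc.isoPullback_hom_fst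
  have hΦ2 : hc.isoPullback.hom ≫ pullback.snd f g = f' := hc.isoPullback_hom_snd
  have e : O'.ι ≫ f' = (hc.isoPullback.hom.isoImage O').hom ≫
      (hc.isoPullback.hom ''ᵁ O').ι ≫ pullback.snd f g := by
    rw [Scheme.Hom.isoImage_hom_ι_assoc, hΦ2]
  have hA : IsFinite ((hc.isoPullback.hom ''ᵁ O').ι ≫ pullback.snd f g) := by
    rw [e] at hO'
    exact (MorphismProperty.cancel_left_of_respectsIso @IsFinite _ _).mp hO'
  have hW := isLocallyConstant_IA f w hw g (hc.isoPullback.hom ''ᵁ O') hA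
  have hpt : ∀ t : ↥O', (hc.isoPullback.hom ''ᵁ O').ι ((hc.isoPullback.hom.isoImage O').hom t) =
      hc.isoPullback.hom (O'.ι t) := fun t => by
    rw [← Scheme.Hom.comp_apply, Scheme.Hom.isoImage_hom_ι, Scheme.Hom.comp_apply]
  have key : (MoreMor.fibreIntegral (O'.ι ≫ f') fun u => w (h (O'.ι u))) =
      IA f g w (hc.isoPullback.hom ''ᵁ O') := by
    funext v
    rw [IA, ← fibreIntegral_comp_iso (hc.isoPullback.hom.isoImage O').hom, e]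
    congr 1
    funext t
    rw [hpt]
    have h5 : (hc.isoPullback.hom ≫ pullback.fst f g) (O'.ι t) = h (O'.ι t) := by rw [hΦ1]
    exact (congrArg w h5).symm
  rw [key]
  exact hW

lemma IA_const_of_bc {V V₂ : Scheme.{u}} (w : X → ℤ) (g : V ⟶ Y) (A : (pullback f g).Opens)
    (hA : IsFinite (A.ι ≫ pullback.snd f g)) (k : V₂ ⟶ V) (hk : IsOpenMap ⇑k) (v₂ : V₂)
    (h : ∃ N : Set V₂, IsOpen N ∧ v₂ ∈ N ∧ ∀ v' ∈ N,
      IA f (k ≫ g) w (bcMap f g (k ≫ g) k rfl ⁻¹ᵁ A) v' =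
        IA f (k ≫ g) w (bcMap f g (k ≫ g) k rfl ⁻¹ᵁ A) v₂) :
    ∃ N : Set V, IsOpen N ∧ k v₂ ∈ N ∧ ∀ v' ∈ N, IA f g w A v' = IA f g w A (k v₂) := by
  obtain ⟨N, hNo, hvN, hNc⟩ := h
  refine ⟨k '' N, hk N hNo, ⟨v₂, hvN, rfl⟩, ?_⟩
  rintro _ ⟨v', hv', rfl⟩
  rw [← bc_IA f g (k ≫ g) k rfl w A hA v', hNc v' hv', bc_IA f g (k ≫ g) k rfl w A hA v₂]

end W

section Criterion

variable {X Y : Scheme.{u}} (f : X ⟶ Y)

theorem exists_open_IA_const_core' (w : X → ℤ) {V₂ : Scheme.{u}} (g₂ : V₂ ⟶ Y) (v₂ : V₂)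
    (A₂ : (pullback f g₂).Opens) (hA₂ : IsFinite (A₂.ι ≫ pullback.snd f g₂))
    {K : Type*} [Finite K] (B : K → (pullback f g₂).Opens)
    (hBfin : ∀ k, IsFinite ((B k).ι ≫ pullback.snd f g₂))
    (hIB : ∀ k, (∃ t, pullback.snd f g₂ t = v₂ ∧ t ∈ B k) →
      ∃ Nk : Set V₂, IsOpen Nk ∧ v₂ ∈ Nk ∧ ∀ v' ∈ Nk, IA f g₂ w (B k) v' = IA f g₂ w (B k) v₂)
    (huniqB : ∀ k t t', pullback.snd f g₂ t = v₂ → t ∈ B k → pullback.snd f g₂ t' = v₂ →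
      t' ∈ B k → t = t')
    (hcov : ∀ t, pullback.snd f g₂ t = v₂ → t ∈ A₂ → ∃ k, t ∈ B k)
    (hdisj : ∀ k k' t, pullback.snd f g₂ t = v₂ → t ∈ B k → t ∈ B k' → k = k') :
    ∃ U : Set V₂, IsOpen U ∧ v₂ ∈ U ∧ ∀ v' ∈ U, IA f g₂ w A₂ v' = IA f g₂ w A₂ v₂ := by
  have h1 : ∀ t, pullback.snd f g₂ t = v₂ → t ∈ A₂ →
      ∃ k : {k : K // ∃ t, pullback.snd f g₂ t = v₂ ∧ t ∈ B k ∧ t ∈ A₂}, t ∈ B k.1 := by
    intro t ht htA
    obtain ⟨k, hk⟩ := hcov t ht htA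
    exact ⟨⟨k, t, ht, hk, htA⟩, hk⟩
  have h2 : ∀ (k : {k : K // ∃ t, pullback.snd f g₂ t = v₂ ∧ t ∈ B k ∧ t ∈ A₂}) t,
      pullback.snd f g₂ t = v₂ → t ∈ B k.1 → t ∈ A₂ := by
    rintro ⟨k, t₀, ht₀, ht₀B, ht₀A⟩ t ht htB
    rw [huniqB k t t₀ ht htB ht₀ ht₀B]
    exact ht₀A
  have h3 : ∀ (k k' : {k : K // ∃ t, pullback.snd f g₂ t = v₂ ∧ t ∈ B k ∧ t ∈ A₂}) t,
      pullback.snd f g₂ t = v₂ → t ∈ B k.1 → t ∈ B k'.1 → k = k' :=
    fun k k' t ht hk hk' => Subtype.ext (hdisj k.1 k'.1 t ht hk hk')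
  obtain ⟨N, hvN, hN⟩ := exists_nbhd_split (pullback.snd f g₂) v₂ A₂
    (fun k : {k : K // ∃ t, pullback.snd f g₂ t = v₂ ∧ t ∈ B k ∧ t ∈ A₂} => B k.1)
    hA₂ (fun k => hBfin k.1) h1 h2 h3
  have hsum : ∀ v' ∈ N, IA f g₂ w A₂ v' =
      ∑ᶠ k : {k : K // ∃ t, pullback.snd f g₂ t = v₂ ∧ t ∈ B k ∧ t ∈ A₂}, IA f g₂ w (B k.1) v' :=
    by
    intro v' hv'
    refine IA_eq_sum f g₂ w A₂
      (fun k : {k : K // ∃ t, pullback.snd f g₂ t = v₂ ∧ t ∈ B k ∧ t ∈ A₂} => B k.1)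
      (fun k => hBfin k.1) v' ?_
    intro t ht
    have ht' : pullback.snd f g₂ t ∈ N := by rw [ht]; exact hv'
    exact hN t ht'
  have hconst : ∀ k : {k : K // ∃ t, pullback.snd f g₂ t = v₂ ∧ t ∈ B k ∧ t ∈ A₂},
      ∃ Nk : Set V₂, IsOpen Nk ∧ v₂ ∈ Nk ∧ ∀ v' ∈ Nk,
        IA f g₂ w (B k.1) v' = IA f g₂ w (B k.1) v₂ :=
    fun k => hIB k.1 (by obtain ⟨t, h1, h2, _⟩ := k.2; exact ⟨t, h1, h2⟩)
  choose Nk hNko hNkv hNkc using hconst
  refine ⟨(N : Set V₂) ∩ ⋂ k, Nk k, N.2.inter (isOpen_iInter_of_finite hNko),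
    ⟨hvN, Set.mem_iInter.mpr hNkv⟩, ?_⟩
  rintro v' ⟨hv'N, hv'k⟩
  rw [hsum v' hv'N, hsum v₂ hvN]
  exact finsum_congr fun k => hNkc k v' (Set.mem_iInter.mp hv'k k)

theorem exists_open_IA_const' [LocallyQuasiFinite f] [LocallyOfFiniteType f] (w : X → ℤ)
    (H : ∀ (V : Scheme.{u}) (e : V ⟶ Y) [Etale e] (v : V) (B : (pullback f e).Opens),
      IsFinite (B.ι ≫ pullback.snd f e) → (∃ t, pullback.snd f e t = v ∧ t ∈ B) →
      IA f e (fun _ => 1) B v = 1 →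
      ∃ N : Set V, IsOpen N ∧ v ∈ N ∧ ∀ v' ∈ N, IA f e w B v' = IA f e w B v)
    {V : Scheme.{u}} (g : V ⟶ Y) [Etale g] (A : (pullback f g).Opens)
    (hA : IsFinite (A.ι ≫ pullback.snd f g)) (v : V) {ι : Type*} [Finite ι] (x : ι → X)
    (hinj : Function.Injective x) (hs : ∀ i, f (x i) = g v)
    (hcover : ∀ t, pullback.snd f g t = v → t ∈ A → ∃ i, pullback.fst f g t = x i) :
    ∃ U : Set V, IsOpen U ∧ v ∈ U ∧ ∀ v' ∈ U, IA f g w A v' = IA f g w A v := by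
  obtain ⟨E, e, e₀, he, hee₀, n, VV, vv, hV, hvinj, hexh⟩ :=
    EtLocPI2.exists_etale_nbhd_split_pi f (g v) x hs (fun i => f.quasiFiniteAt (x i))
  haveI := he
  obtain ⟨v₂, hv₂1, hv₂2⟩ :=
    Scheme.Pullback.exists_preimage_pullback (f := g) (g := e) v e₀ hee₀.symm
  have hk₂ : pullback.snd g e ≫ e = pullback.fst g e ≫ g := pullback.condition.symm
  have hIA₂ : ∀ v', IA f (pullback.fst g e ≫ g) w
      (bcMap f g (pullback.fst g e ≫ g) (pullback.fst g e) rfl ⁻¹ᵁ A) v' =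
      IA f g w A (pullback.fst g e v') := fun v' => bc_IA f g _ _ rfl w A hA v'
  have hBfin : ∀ k : Σ i, Fin (n i),
      IsFinite ((bcMap f e (pullback.fst g e ≫ g) (pullback.snd g e) hk₂ ⁻¹ᵁ VV k.1 k.2).ι ≫
        pullback.snd f (pullback.fst g e ≫ g)) :=
    fun k => bc_isFinite f e _ _ hk₂ _ (hV k.1 k.2).2.1
  have hone : ∀ k : Σ i, Fin (n i), IA f (pullback.fst g e ≫ g) (fun _ => 1)
      (bcMap f e (pullback.fst g e ≫ g) (pullback.snd g e) hk₂ ⁻¹ᵁ VV k.1 k.2) v₂ = 1 := by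
    intro k
    rw [bc_IA f e _ _ hk₂ (fun _ => 1) _ (hV k.1 k.2).2.1 v₂, hv₂2]
    exact IA_single f e (fun _ => 1) (VV k.1 k.2) e₀ (vv k.1 k.2) (hV k.1 k.2).1
      (hV k.1 k.2).2.2.1 (hV k.1 k.2).2.2.2.1 (hV k.1 k.2).2.2.2.2.2.1
  haveI : Etale (pullback.fst g e) := MorphismProperty.pullback_fst (P := @Etale) g e he
  haveI : Etale (pullback.fst g e ≫ g) := inferInstance
  have hIB : ∀ k : Σ i, Fin (n i),
      (∃ t, pullback.snd f (pullback.fst g e ≫ g) t = v₂ ∧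
        t ∈ bcMap f e (pullback.fst g e ≫ g) (pullback.snd g e) hk₂ ⁻¹ᵁ VV k.1 k.2) →
      ∃ Nk : Set ↥(pullback g e), IsOpen Nk ∧ v₂ ∈ Nk ∧ ∀ v' ∈ Nk,
        IA f (pullback.fst g e ≫ g) w
          (bcMap f e (pullback.fst g e ≫ g) (pullback.snd g e) hk₂ ⁻¹ᵁ VV k.1 k.2) v' =
        IA f (pullback.fst g e ≫ g) w
          (bcMap f e (pullback.fst g e ≫ g) (pullback.snd g e) hk₂ ⁻¹ᵁ VV k.1 k.2) v₂ :=
    fun k hpt => H _ (pullback.fst g e ≫ g) v₂ _ (hBfin k) hpt (hone k)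
  have huniqB : ∀ (k : Σ i, Fin (n i)) (t t' : ↥(pullback f (pullback.fst g e ≫ g))),
      pullback.snd f (pullback.fst g e ≫ g) t = v₂ →
      t ∈ bcMap f e (pullback.fst g e ≫ g) (pullback.snd g e) hk₂ ⁻¹ᵁ VV k.1 k.2 →
      pullback.snd f (pullback.fst g e ≫ g) t' = v₂ →
      t' ∈ bcMap f e (pullback.fst g e ≫ g) (pullback.snd g e) hk₂ ⁻¹ᵁ VV k.1 k.2 → t = t' := by
    intro k t t' ht htB ht' htB'
    have hone' := hone k
    rw [IA_eq_points] at hone'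
    exact eq_of_sum_sepDeg_eq_one (pullback.snd f (pullback.fst g e ≫ g)) _ (hBfin k) v₂ hone'
      t t' ht htB ht' htB'
  have hinjK : ∀ k k' : Σ i, Fin (n i), vv k.1 k.2 = vv k'.1 k'.2 → k = k' := by
    rintro ⟨i, j⟩ ⟨i', j'⟩ hkk
    have hkk' : vv i j = vv i' j' := hkk
    have hii : i = i' := hinj (by
      rw [← (hV i j).2.2.2.2.2.2, ← (hV i' j').2.2.2.2.2.2, hkk'])
    subst hii
    rw [hvinj i hkk']
  have hcov : ∀ t : ↥(pullback f (pullback.fst g e ≫ g)),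
      pullback.snd f (pullback.fst g e ≫ g) t = v₂ →
      t ∈ bcMap f g (pullback.fst g e ≫ g) (pullback.fst g e) rfl ⁻¹ᵁ A →
      ∃ k : Σ i, Fin (n i),
      t ∈ bcMap f e (pullback.fst g e ≫ g) (pullback.snd g e) hk₂ ⁻¹ᵁ VV k.1 k.2 := by
    intro t ht htA
    have hbc₁v : pullback.snd f g
        (bcMap f g (pullback.fst g e ≫ g) (pullback.fst g e) rfl t) = v := by
      rw [bcMap_snd_apply, ht, hv₂1]
    obtain ⟨i, hi⟩ := hcover _ hbc₁v htA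
    rw [bcMap_fst_apply] at hi
    have hbc₂e : pullback.snd f e
        (bcMap f e (pullback.fst g e ≫ g) (pullback.snd g e) hk₂ t) = e₀ := by
      rw [bcMap_snd_apply, ht, hv₂2]
    have hbc₂x : pullback.fst f e
        (bcMap f e (pullback.fst g e ≫ g) (pullback.snd g e) hk₂ t) = x i := by
      rw [bcMap_fst_apply, hi]
    obtain ⟨j, hj⟩ := hexh _ i hbc₂e hbc₂x
    refine ⟨⟨i, j⟩, ?_⟩
    show bcMap f e (pullback.fst g e ≫ g) (pullback.snd g e) hk₂ t ∈ VV i j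
    rw [hj]
    exact (hV i j).1
  have hdisj : ∀ (k k' : Σ i, Fin (n i)) (t : ↥(pullback f (pullback.fst g e ≫ g))),
      pullback.snd f (pullback.fst g e ≫ g) t = v₂ →
      t ∈ bcMap f e (pullback.fst g e ≫ g) (pullback.snd g e) hk₂ ⁻¹ᵁ VV k.1 k.2 →
      t ∈ bcMap f e (pullback.fst g e ≫ g) (pullback.snd g e) hk₂ ⁻¹ᵁ VV k'.1 k'.2 →
      k = k' := by
    intro k k' t ht hk hk'
    have hbc₂e : pullback.snd f e
        (bcMap f e (pullback.fst g e ≫ g) (pullback.snd g e) hk₂ t) = e₀ := by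
      rw [bcMap_snd_apply, ht, hv₂2]
    have e1 := (hV k.1 k.2).2.2.2.1 _ hk hbc₂e
    have e2 := (hV k'.1 k'.2).2.2.2.1 _ hk' hbc₂e
    exact hinjK _ _ (e1.symm.trans e2)
  obtain ⟨U, hUo, hvU, hUc⟩ := exists_open_IA_const_core' f w (pullback.fst g e ≫ g) v₂
    (bcMap f g (pullback.fst g e ≫ g) (pullback.fst g e) rfl ⁻¹ᵁ A)
    (bc_isFinite f g _ _ rfl A hA)
    (fun k : Σ i, Fin (n i) =>
      bcMap f e (pullback.fst g e ≫ g) (pullback.snd g e) hk₂ ⁻¹ᵁ VV k.1 k.2)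
    hBfin hIB huniqB hcov hdisj
  haveI : UniversallyOpen (pullback.fst g e) := UniversallyOpen.of_flat _
  refine ⟨pullback.fst g e '' U, (pullback.fst g e).isOpenMap _ hUo, ⟨v₂, hvU, hv₂1⟩, ?_⟩
  rintro _ ⟨v', hv', rfl⟩
  rw [← hIA₂, hUc v' hv', hIA₂, hv₂1]

theorem isWeighting_of_local [LocallyQuasiFinite f] [LocallyOfFiniteType f] (w : X → ℤ)
    (H : ∀ (V : Scheme.{u}) (e : V ⟶ Y) [Etale e] (v : V) (B : (pullback f e).Opens),
      IsFinite (B.ι ≫ pullback.snd f e) → (∃ t, pullback.snd f e t = v ∧ t ∈ B) →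
      IA f e (fun _ => 1) B v = 1 →
      ∃ N : Set V, IsOpen N ∧ v ∈ N ∧ ∀ v' ∈ N, IA f e w B v' = IA f e w B v) :
    MoreMor.IsWeighting f w := by
  intro V g _ A hA
  show IsLocallyConstant (IA f g w A)
  rw [IsLocallyConstant.iff_exists_open]
  intro v
  have hF := finite_fibre_open (pullback.snd f g) A hA v
  haveI : Finite ↥(pullback.fst f g '' {t | pullback.snd f g t = v ∧ t ∈ A}) :=
    (hF.image _).to_subtype
  refine exists_open_IA_const' f w H g A hA v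
    (fun i : ↥(pullback.fst f g '' {t | pullback.snd f g t = v ∧ t ∈ A}) => i.1)
    Subtype.val_injective ?_ ?_
  · rintro ⟨_, t, ⟨ht1, _⟩, rfl⟩
    show f (pullback.fst f g t) = g v
    rw [← ht1, ← Scheme.Hom.comp_apply, pullback.condition, Scheme.Hom.comp_apply]
  · intro t ht htA
    exact ⟨⟨_, t, ⟨ht, htA⟩, rfl⟩, rfl⟩

end Criterion

end Groth.Agent.Lib.Helper8.FibIntC2
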