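import Mathlib
import Groth.Prelude.Def_MoreMor
import Groth.Agent.Lib.Helper8.FibIntC2

set_option autoImplicit false
universe u
open AlgebraicGeometry CategoryTheory Limits

namespace Groth.Agent.Lib.Helper8.FibIntC3

open Groth.Agent.Lib.Helper8.FibInt Groth.Agent.Lib.Helper8.FibIntGP
  Groth.Agent.Lib.Helper8.FibIntW Groth.Agent.Lib.Helper8.FibIntS Groth.Agent.Lib.Helper8.FibIntC
  Groth.Agent.Lib.Helper8.FibIntC2
  Groth.Agent.Lib.Helper8.EtLocUnr Groth.Agent.Lib.Helper8.EtLocPI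

section Comp

variable {X Y Z : Scheme.{u}} (f : X ⟶ Y) (g : Y ⟶ Z)

/-- The canonical map `X ×_Z V ⟶ Y ×_Z V`. -/
noncomputable def φm {V : Scheme.{u}} (e : V ⟶ Z) : pullback (f ≫ g) e ⟶ pullback g e :=
  pullback.lift (pullback.fst (f ≫ g) e ≫ f) (pullback.snd (f ≫ g) e)
    (by rw [Category.assoc, pullback.condition])

variable {V : Scheme.{u}} (e : V ⟶ Z)

lemma φm_fst : φm f g e ≫ pullback.fst g e = pullback.fst (f ≫ g) e ≫ f :=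
  pullback.lift_fst _ _ _

lemma φm_snd : φm f g e ≫ pullback.snd g e = pullback.snd (f ≫ g) e :=
  pullback.lift_snd _ _ _

lemma φm_fst_apply (t : ↥(pullback (f ≫ g) e)) :
    pullback.fst g e (φm f g e t) = f (pullback.fst (f ≫ g) e t) := by
  rw [← Scheme.Hom.comp_apply, φm_fst, Scheme.Hom.comp_apply]

lemma φm_snd_apply (t : ↥(pullback (f ≫ g) e)) :
    pullback.snd g e (φm f g e t) = pullback.snd (f ≫ g) e t := by
  rw [← Scheme.Hom.comp_apply, φm_snd]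

lemma isPullback_φm : IsPullback (pullback.fst (f ≫ g) e) (φm f g e) f (pullback.fst g e) := by
  have big : IsPullback (φm f g e ≫ pullback.snd g e) (pullback.fst (f ≫ g) e) e (f ≫ g) := by
    rw [φm_snd]
    exact (IsPullback.of_hasPullback (f ≫ g) e).flip
  exact (IsPullback.of_right big (φm_fst f g e) (IsPullback.of_hasPullback g e).flip).flip

lemma φm_bcMap {V₂ : Scheme.{u}} (e₂ : V₂ ⟶ Z) (k : V₂ ⟶ V) (hk : k ≫ e = e₂) :
    φm f g e₂ ≫ bcMap g e e₂ k hk = bcMap (f ≫ g) e e₂ k hk ≫ φm f g e := by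
  apply pullback.hom_ext
  · rw [Category.assoc, Category.assoc, bcMap_fst, φm_fst, φm_fst, ← Category.assoc, bcMap_fst]
  · rw [Category.assoc, Category.assoc, bcMap_snd, φm_snd, ← Category.assoc, φm_snd, bcMap_snd]

lemma φm_bcMap_apply {V₂ : Scheme.{u}} (e₂ : V₂ ⟶ Z) (k : V₂ ⟶ V) (hk : k ≫ e = e₂)
    (t : ↥(pullback (f ≫ g) e₂)) :
    bcMap g e e₂ k hk (φm f g e₂ t) = φm f g e (bcMap (f ≫ g) e e₂ k hk t) := by
  rw [← Scheme.Hom.comp_apply, φm_bcMap, Scheme.Hom.comp_apply]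

variable [LocallyQuasiFinite f] [LocallyOfFiniteType f] [LocallyQuasiFinite g]
  [LocallyOfFiniteType g] (wf : X → ℤ) (wg : Y → ℤ) (hf : MoreMor.IsWeighting f wf)
  (hg : MoreMor.IsWeighting g wg)

include hf hg in
theorem comp_const_global [Etale e] (B : (pullback (f ≫ g) e).Opens)
    (hB : IsFinite (B.ι ≫ pullback.snd (f ≫ g) e)) (C : (pullback g e).Opens)
    (hC : IsFinite (C.ι ≫ pullback.snd g e)) (hBC : B ≤ φm f g e ⁻¹ᵁ C) (v : V)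
    (c : ↥(pullback g e)) (hcC : c ∈ C)
    (huniq : ∀ s ∈ C, pullback.snd g e s = v → s = c) :
    ∃ N : Set V, IsOpen N ∧ v ∈ N ∧ ∀ v' ∈ N,
      IA (f ≫ g) e (fun x => wf x * wg (f x)) B v' =
        IA (f ≫ g) e (fun x => wf x * wg (f x)) B v := by
  haveI := hB
  haveI := hC
  have hB' : IsFinite (B.ι ≫ φm f g e ≫ pullback.snd g e) := by
    rw [φm_snd]; exact hB
  have htow := fun v' => fibreIntegral_tower_open (φm f g e) (pullback.snd g e) B C hBC hB' hC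
    (fun p => wf (pullback.fst (f ≫ g) e p)) (fun s => wg (pullback.fst g e s)) v'
  have hfin2 := (htow v).1
  have hsq : IsPullback ((φm f g e ⁻¹ᵁ C).ι ≫ pullback.fst (f ≫ g) e) (φm f g e ∣_ C) f
      (C.ι ≫ pullback.fst g e) :=
    ((isPullback_morphismRestrict (φm f g e) C).paste_vert (isPullback_φm f g e).flip).flip
  have hH : IsLocallyConstant (MoreMor.fibreIntegral
      (((φm f g e ⁻¹ᵁ C).ι ⁻¹ᵁ B).ι ≫ φm f g e ∣_ C)
      (fun u => (fun p => wf (pullback.fst (f ≫ g) e p))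
        ((φm f g e ⁻¹ᵁ C).ι (((φm f g e ⁻¹ᵁ C).ι ⁻¹ᵁ B).ι u)))) :=
    isLocallyConstant_of_isPullback f wf hf (φm f g e ∣_ C)
      ((φm f g e ⁻¹ᵁ C).ι ≫ pullback.fst (f ≫ g) e) (C.ι ≫ pullback.fst g e) hsq
      ((φm f g e ⁻¹ᵁ C).ι ⁻¹ᵁ B) hfin2
  have hIAeq : ∀ v', IA (f ≫ g) e (fun x => wf x * wg (f x)) B v' =
      MoreMor.fibreIntegral (B.ι ≫ φm f g e ≫ pullback.snd g e)
        (fun u => (fun p => wf (pullback.fst (f ≫ g) e p)) (B.ι u) *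
          (fun s => wg (pullback.fst g e s)) (φm f g e (B.ι u))) v' := by
    intro v'
    have hm : B.ι ≫ pullback.snd (f ≫ g) e = B.ι ≫ φm f g e ≫ pullback.snd g e := by
      rw [φm_snd]
    rw [IA, hm]
    congr 1
    funext u
    show wf (pullback.fst (f ≫ g) e (B.ι u)) * wg (f (pullback.fst (f ≫ g) e (B.ι u))) =
      wf (pullback.fst (f ≫ g) e (B.ι u)) * wg (pullback.fst g e (φm f g e (B.ι u)))
    rw [φm_fst_apply]
  obtain ⟨N, hNo, hvN, hNc⟩ := const_of_tower (C.ι ≫ pullback.snd g e) _ hH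
    (fun s => (fun s => wg (pullback.fst g e s)) (C.ι s)) (hg V e C hC) v ⟨c, hcC⟩
    (fun s hs => Subtype.ext (huniq s.1 s.2 hs))
  refine ⟨N, hNo, hvN, fun v' hv' => ?_⟩
  rw [hIAeq v', hIAeq v, (htow v').2, (htow v).2]
  exact hNc v' hv'

include hf hg in
theorem comp_const_shrink [Etale e] (B : (pullback (f ≫ g) e).Opens)
    (hB : IsFinite (B.ι ≫ pullback.snd (f ≫ g) e)) (C : (pullback g e).Opens)
    (hC : IsFinite (C.ι ≫ pullback.snd g e)) (v : V)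
    (b : ↥(pullback (f ≫ g) e)) (hbB : b ∈ B) (hbv : pullback.snd (f ≫ g) e b = v)
    (hBCv : ∀ t ∈ B, pullback.snd (f ≫ g) e t = v → φm f g e t ∈ C)
    (huniqC : ∀ s ∈ C, ∀ s' ∈ C, pullback.snd g e s = v → pullback.snd g e s' = v → s = s') :
    ∃ N : Set V, IsOpen N ∧ v ∈ N ∧ ∀ v' ∈ N,
      IA (f ≫ g) e (fun x => wf x * wg (f x)) B v' =
        IA (f ≫ g) e (fun x => wf x * wg (f x)) B v := by
  haveI := hB
  have hD : IsClosed ((B.ι ≫ pullback.snd (f ≫ g) e) '' (B.ι ⁻¹'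
      ((φm f g e ⁻¹ᵁ C : (pullback (f ≫ g) e).Opens) : Set ↥(pullback (f ≫ g) e))ᶜ)) :=
    (B.ι ≫ pullback.snd (f ≫ g) e).isClosedMap _
      (IsClosed.preimage B.ι.continuous (φm f g e ⁻¹ᵁ C).2.isClosed_compl)
  obtain ⟨N₁, hN₁def⟩ : ∃ N₁ : V.Opens, (N₁ : Set V) =
      ((B.ι ≫ pullback.snd (f ≫ g) e) '' (B.ι ⁻¹'
        ((φm f g e ⁻¹ᵁ C : (pullback (f ≫ g) e).Opens) : Set ↥(pullback (f ≫ g) e))ᶜ))ᶜ :=
    ⟨⟨_, hD.isOpen_compl⟩, rfl⟩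
  have hmemN₁ : ∀ z : V, z ∈ N₁ ↔ z ∉ ((B.ι ≫ pullback.snd (f ≫ g) e) '' (B.ι ⁻¹'
      ((φm f g e ⁻¹ᵁ C : (pullback (f ≫ g) e).Opens) : Set ↥(pullback (f ≫ g) e))ᶜ)) :=
    fun z => by rw [← SetLike.mem_coe, hN₁def]; rfl
  have hvN₁ : v ∈ N₁ := by
    rw [hmemN₁]
    rintro ⟨t, ht, htv⟩
    exact ht (hBCv t.1 t.2 htv)
  haveI : Etale (N₁.ι ≫ e) := inferInstance
  have hB₁ := bc_isFinite (f ≫ g) e (N₁.ι ≫ e) N₁.ι rfl B hB
  have hC₁ := bc_isFinite g e (N₁.ι ≫ e) N₁.ι rfl C hC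
  have hBC₁ : bcMap (f ≫ g) e (N₁.ι ≫ e) N₁.ι rfl ⁻¹ᵁ B ≤
      φm f g (N₁.ι ≫ e) ⁻¹ᵁ (bcMap g e (N₁.ι ≫ e) N₁.ι rfl ⁻¹ᵁ C) := by
    intro t ht
    show bcMap g e (N₁.ι ≫ e) N₁.ι rfl (φm f g (N₁.ι ≫ e) t) ∈ C
    rw [φm_bcMap_apply]
    by_contra hnot
    have hz : pullback.snd (f ≫ g) e (bcMap (f ≫ g) e (N₁.ι ≫ e) N₁.ι rfl t) ∈ N₁ := by
      rw [bcMap_snd_apply]
      exact (pullback.snd (f ≫ g) (N₁.ι ≫ e) t).2
    rw [hmemN₁] at hz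
    exact hz ⟨⟨_, ht⟩, hnot, rfl⟩
  obtain ⟨b₁, hb₁1, hb₁2⟩ := Scheme.exists_preimage_of_isPullback
    (isPullback_bcMap (f ≫ g) e (N₁.ι ≫ e) N₁.ι rfl) b (⟨v, hvN₁⟩ : ↥N₁) hbv
  have hb₁1' : bcMap (f ≫ g) e (N₁.ι ≫ e) N₁.ι rfl b₁ = b := hb₁1
  have hb₁2' : pullback.snd (f ≫ g) (N₁.ι ≫ e) b₁ = (⟨v, hvN₁⟩ : ↥N₁) := hb₁2
  have hb₁B : b₁ ∈ bcMap (f ≫ g) e (N₁.ι ≫ e) N₁.ι rfl ⁻¹ᵁ B := by
    show bcMap (f ≫ g) e (N₁.ι ≫ e) N₁.ι rfl b₁ ∈ B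
    rw [hb₁1']; exact hbB
  have hc₁C : φm f g (N₁.ι ≫ e) b₁ ∈ bcMap g e (N₁.ι ≫ e) N₁.ι rfl ⁻¹ᵁ C := hBC₁ hb₁B
  have hc₁v : pullback.snd g (N₁.ι ≫ e) (φm f g (N₁.ι ≫ e) b₁) = (⟨v, hvN₁⟩ : ↥N₁) := by
    rw [φm_snd_apply]; exact hb₁2'
  haveI : IsOpenImmersion (bcMap g e (N₁.ι ≫ e) N₁.ι rfl) :=
    MorphismProperty.of_isPullback (P := @IsOpenImmersion)
      (isPullback_bcMap g e (N₁.ι ≫ e) N₁.ι rfl).flip inferInstance
  have huniq₁ : ∀ s ∈ bcMap g e (N₁.ι ≫ e) N₁.ι rfl ⁻¹ᵁ C,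
      pullback.snd g (N₁.ι ≫ e) s = (⟨v, hvN₁⟩ : ↥N₁) → s = φm f g (N₁.ι ≫ e) b₁ := by
    intro s hs hsv
    apply (bcMap g e (N₁.ι ≫ e) N₁.ι rfl).isOpenEmbedding.injective
    exact huniqC _ hs _ hc₁C
      ((bcMap_snd_apply g e (N₁.ι ≫ e) N₁.ι rfl s).trans (congrArg (⇑N₁.ι) hsv))
      ((bcMap_snd_apply g e (N₁.ι ≫ e) N₁.ι rfl _).trans (congrArg (⇑N₁.ι) hc₁v))
  have hG := comp_const_global f g (N₁.ι ≫ e) wf wg hf hg
    (bcMap (f ≫ g) e (N₁.ι ≫ e) N₁.ι rfl ⁻¹ᵁ B) hB₁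
    (bcMap g e (N₁.ι ≫ e) N₁.ι rfl ⁻¹ᵁ C) hC₁ hBC₁ (⟨v, hvN₁⟩ : ↥N₁)
    (φm f g (N₁.ι ≫ e) b₁) hc₁C huniq₁
  exact IA_const_of_bc (f ≫ g) (fun x => wf x * wg (f x)) e B hB N₁.ι
    N₁.ι.isOpenEmbedding.isOpenMap (⟨v, hvN₁⟩ : ↥N₁) hG

include hf hg in
theorem comp_const_local [Etale e] (v : V) (B : (pullback (f ≫ g) e).Opens)
    (hB : IsFinite (B.ι ≫ pullback.snd (f ≫ g) e))
    (hpt : ∃ t, pullback.snd (f ≫ g) e t = v ∧ t ∈ B)
    (hone : IA (f ≫ g) e (fun _ => 1) B v = 1) :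
    ∃ N : Set V, IsOpen N ∧ v ∈ N ∧ ∀ v' ∈ N,
      IA (f ≫ g) e (fun x => wf x * wg (f x)) B v' =
        IA (f ≫ g) e (fun x => wf x * wg (f x)) B v := by
  obtain ⟨b, hbv, hbB⟩ := hpt
  have hy₀ : g (f (pullback.fst (f ≫ g) e b)) = e v := by
    rw [← hbv, ← Scheme.Hom.comp_apply, ← Scheme.Hom.comp_apply, pullback.condition,
      Scheme.Hom.comp_apply]
  obtain ⟨E, e', e₀, he', hee₀, n, VV, vv, hV, -, hexh⟩ :=
    EtLocPI2.exists_etale_nbhd_split_pi g (e v) (fun _ : Unit => f (pullback.fst (f ≫ g) e b))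
      (fun _ => hy₀) (fun _ => g.quasiFiniteAt _)
  haveI := he'
  obtain ⟨v₂, hv₂1, hv₂2⟩ :=
    Scheme.Pullback.exists_preimage_pullback (f := e) (g := e') v e₀ hee₀.symm
  have hk' : pullback.snd e e' ≫ e' = pullback.fst e e' ≫ e := pullback.condition.symm
  haveI : Etale (pullback.fst e e') := MorphismProperty.pullback_fst (P := @Etale) e e' he'
  haveI : Etale (pullback.fst e e' ≫ e) := inferInstance
  haveI : UniversallyOpen (pullback.fst e e') := UniversallyOpen.of_flat _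
  have hB₂ := bc_isFinite (f ≫ g) e (pullback.fst e e' ≫ e) (pullback.fst e e') rfl B hB
  have hone₂ : IA (f ≫ g) (pullback.fst e e' ≫ e) (fun _ => 1)
      (bcMap (f ≫ g) e (pullback.fst e e' ≫ e) (pullback.fst e e') rfl ⁻¹ᵁ B) v₂ = 1 := by
    rw [bc_IA (f ≫ g) e _ _ rfl (fun _ => 1) B hB v₂, hv₂1]
    exact hone
  obtain ⟨b₂, hb₂1, hb₂2⟩ := Scheme.exists_preimage_of_isPullback
    (isPullback_bcMap (f ≫ g) e (pullback.fst e e' ≫ e) (pullback.fst e e') rfl) b v₂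
    (hbv.trans hv₂1.symm)
  have hb₂1' : bcMap (f ≫ g) e (pullback.fst e e' ≫ e) (pullback.fst e e') rfl b₂ = b := hb₂1
  have hb₂2' : pullback.snd (f ≫ g) (pullback.fst e e' ≫ e) b₂ = v₂ := hb₂2
  have hb₂B : b₂ ∈ bcMap (f ≫ g) e (pullback.fst e e' ≫ e) (pullback.fst e e') rfl ⁻¹ᵁ B := by
    show bcMap (f ≫ g) e (pullback.fst e e' ≫ e) (pullback.fst e e') rfl b₂ ∈ B
    rw [hb₂1']; exact hbB
  have huniqB₂ : ∀ t ∈ bcMap (f ≫ g) e (pullback.fst e e' ≫ e) (pullback.fst e e') rfl ⁻¹ᵁ B,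
      pullback.snd (f ≫ g) (pullback.fst e e' ≫ e) t = v₂ → t = b₂ := by
    intro t ht htv
    have hone' := hone₂
    rw [IA_eq_points] at hone'
    exact eq_of_sum_sepDeg_eq_one (pullback.snd (f ≫ g) (pullback.fst e e' ≫ e)) _ hB₂ v₂ hone'
      t b₂ htv ht hb₂2' hb₂B
  -- the point of `Y ×_Z E` below `c₂`
  have hq_snd : pullback.snd g e' (bcMap g e' (pullback.fst e e' ≫ e) (pullback.snd e e') hk'
      (φm f g (pullback.fst e e' ≫ e) b₂)) = e₀ := by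
    rw [bcMap_snd_apply, φm_snd_apply, hb₂2', hv₂2]
  have hq_fst : pullback.fst g e' (bcMap g e' (pullback.fst e e' ≫ e) (pullback.snd e e') hk'
      (φm f g (pullback.fst e e' ≫ e) b₂)) = f (pullback.fst (f ≫ g) e b) := by
    rw [bcMap_fst_apply, φm_fst_apply, ← bcMap_fst_apply (f ≫ g) e (pullback.fst e e' ≫ e)
      (pullback.fst e e') rfl, hb₂1']
  obtain ⟨j, hj⟩ := hexh _ () hq_snd hq_fst
  have hC₂ := bc_isFinite g e' (pullback.fst e e' ≫ e) (pullback.snd e e') hk' (VV () j)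
    (hV () j).2.1
  have hc₂C : φm f g (pullback.fst e e' ≫ e) b₂ ∈
      bcMap g e' (pullback.fst e e' ≫ e) (pullback.snd e e') hk' ⁻¹ᵁ VV () j := by
    show bcMap g e' (pullback.fst e e' ≫ e) (pullback.snd e e') hk'
      (φm f g (pullback.fst e e' ≫ e) b₂) ∈ VV () j
    rw [hj]; exact (hV () j).1
  have honeC : IA g (pullback.fst e e' ≫ e) (fun _ => 1)
      (bcMap g e' (pullback.fst e e' ≫ e) (pullback.snd e e') hk' ⁻¹ᵁ VV () j) v₂ = 1 := by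
    rw [bc_IA g e' _ _ hk' (fun _ => 1) _ (hV () j).2.1 v₂, hv₂2]
    exact IA_single g e' (fun _ => 1) (VV () j) e₀ (vv () j) (hV () j).1
      (hV () j).2.2.1 (hV () j).2.2.2.1 (hV () j).2.2.2.2.2.1
  have huniqC₂ : ∀ s ∈ bcMap g e' (pullback.fst e e' ≫ e) (pullback.snd e e') hk' ⁻¹ᵁ VV () j,
      ∀ s' ∈ bcMap g e' (pullback.fst e e' ≫ e) (pullback.snd e e') hk' ⁻¹ᵁ VV () j,
      pullback.snd g (pullback.fst e e' ≫ e) s = v₂ →
      pullback.snd g (pullback.fst e e' ≫ e) s' = v₂ → s = s' := by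
    intro s hs s' hs' hsv hsv'
    have hone' := honeC
    rw [IA_eq_points] at hone'
    exact eq_of_sum_sepDeg_eq_one (pullback.snd g (pullback.fst e e' ≫ e)) _ hC₂ v₂ hone'
      s s' hsv hs hsv' hs'
  have hS := comp_const_shrink f g (pullback.fst e e' ≫ e) wf wg hf hg
    (bcMap (f ≫ g) e (pullback.fst e e' ≫ e) (pullback.fst e e') rfl ⁻¹ᵁ B) hB₂
    (bcMap g e' (pullback.fst e e' ≫ e) (pullback.snd e e') hk' ⁻¹ᵁ VV () j) hC₂ v₂ b₂ hb₂B hb₂2'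
    (fun t ht htv => by rw [huniqB₂ t ht htv]; exact hc₂C) huniqC₂
  have hfinal := IA_const_of_bc (f ≫ g) (fun x => wf x * wg (f x)) e B hB (pullback.fst e e')
    (pullback.fst e e').isOpenMap v₂ hS
  rw [hv₂1] at hfinal
  exact hfinal

include hf hg in
theorem isWeighting_comp : MoreMor.IsWeighting (f ≫ g) (fun x => wf x * wg (f x)) :=
  isWeighting_of_local (f ≫ g) _ (fun V e _ v B hB hpt hone =>
    comp_const_local f g e wf wg hf hg v B hB hpt hone)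

end Comp

end Groth.Agent.Lib.Helper8.FibIntC3
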