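import Mathlib

/-!
# Uniform bound on the number of points of the geometric fibres of a quasi-finite algebra

For a quasi-finite algebra `B` of finite type over `A` there is `N` such that for every field
`Ω` with an `A`-algebra structure there are at most `N` `A`-algebra maps `B → Ω`.
-/

set_option autoImplicit false
universe u

namespace Groth.Agent.Lib.Helper8.FibreBoundRing

/-- For an algebra generated as a module by a finite set `gens`, there are at most
`gens.card` algebra maps into a field. -/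
lemma card_algHom_le_of_span {A S' Ω : Type*} [CommRing A] [CommRing S'] [Algebra A S']
    [Field Ω] [Algebra A Ω] (gens : Finset S')
    (hspan : Submodule.span A (gens : Set S') = ⊤) :
    Finite (S' →ₐ[A] Ω) ∧ Nat.card (S' →ₐ[A] Ω) ≤ gens.card := by
  classical
  let res : (S' →ₗ[A] Ω) →ₗ[Ω] (gens → Ω) :=
    { toFun := fun l g => l g.1
      map_add' := fun _ _ => rfl
      map_smul' := fun _ _ => rfl }
  have hres : LinearMap.ker res = ⊥ := by
    rw [LinearMap.ker_eq_bot']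
    intro l hl
    apply LinearMap.ext_on hspan
    intro g hg
    exact congrFun hl ⟨g, hg⟩
  have hli : LinearIndependent Ω
      (res ∘ (AlgHom.toLinearMap : (S' →ₐ[A] Ω) → S' →ₗ[A] Ω)) :=
    (linearIndependent_toLinearMap A S' Ω).map' res hres
  haveI : Finite (S' →ₐ[A] Ω) := hli.finite
  refine ⟨inferInstance, ?_⟩
  haveI := Fintype.ofFinite (S' →ₐ[A] Ω)
  rw [Nat.card_eq_fintype_card]
  calc Fintype.card (S' →ₐ[A] Ω) ≤ Module.finrank Ω (gens → Ω) := hli.fintype_card_le_finrank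
    _ = gens.card := by rw [Module.finrank_fintype_fun_eq_card, Fintype.card_coe]

theorem exists_bound_algHom (A B : Type u) [CommRing A] [CommRing B] [Algebra A B]
    [Algebra.FiniteType A B] [Algebra.QuasiFinite A B] :
    ∃ N : ℕ, ∀ (Ω : Type u) [Field Ω] [Algebra A Ω],
      Finite (B →ₐ[A] Ω) ∧ Nat.card (B →ₐ[A] Ω) ≤ N := by
  classical
  have hzmt : ∀ 𝔮 : PrimeSpectrum B, ∃ S' : Subalgebra A B, S'.toSubmodule.FG ∧ ∃ r : S',
      r.1 ∉ 𝔮.asIdeal ∧ ∀ a : B, ∃ (b : S') (m : ℕ), (b : B) = (r : B) ^ m * a := by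
    intro 𝔮
    obtain ⟨S', hfg, r, hr, hbij⟩ :=
      Algebra.QuasiFiniteAt.exists_fg_and_exists_notMem_and_awayMap_bijective (R := A)
        𝔮.asIdeal
    exact ⟨S', hfg, r, hr, Localization.awayMap_surjective_iff.mp hbij.2⟩
  choose S' hfg r hr hsurj using hzmt
  have htop : Ideal.span (Set.range fun 𝔮 => ((r 𝔮 : S' 𝔮) : B)) = ⊤ := by
    by_contra hne
    obtain ⟨𝔪, h𝔪, hle⟩ := Ideal.exists_le_maximal _ hne
    exact hr ⟨𝔪, h𝔪.isPrime⟩ (hle (Ideal.subset_span ⟨⟨𝔪, h𝔪.isPrime⟩, rfl⟩))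
  obtain ⟨T, hT, hTtop⟩ := (Ideal.span_eq_top_iff_finite _).mp htop
  have hTq : ∀ t : ↥T, ∃ 𝔮, ((r 𝔮 : S' 𝔮) : B) = t.1 := fun t => hT t.2
  choose qq hqq using hTq
  have hgens : ∀ t : ↥T, ∃ gens : Finset (S' (qq t)),
      Submodule.span A (gens : Set (S' (qq t))) = ⊤ := by
    intro t
    have : Module.Finite A (S' (qq t)) := ⟨(Submodule.fg_top _).mpr (hfg (qq t))⟩
    exact Module.Finite.fg_top
  choose gens hgens using hgens
  refine ⟨∏ t : ↥T, (gens t).card, fun Ω _ _ => ?_⟩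
  have hR0 := fun t : ↥T => card_algHom_le_of_span (Ω := Ω) (gens t) (hgens t)
  haveI : ∀ t : ↥T, Finite ((S' (qq t)) →ₐ[A] Ω) := fun t => (hR0 t).1
  have hex : ∀ ψ : B →ₐ[A] Ω, ∃ t : ↥T, ψ t.1 ≠ 0 := by
    intro ψ
    by_contra hall
    push Not at hall
    have hle : (⊤ : Ideal B) ≤ RingHom.ker ψ.toRingHom := by
      rw [← hTtop, Ideal.span_le]
      intro t ht
      exact hall ⟨t, ht⟩
    have h1 : (1 : B) ∈ RingHom.ker ψ.toRingHom := hle trivial
    rw [RingHom.mem_ker, map_one] at h1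
    exact one_ne_zero h1
  let G : (B →ₐ[A] Ω) → ∀ t : ↥T, ((S' (qq t)) →ₐ[A] Ω) :=
    fun ψ t => ψ.comp (S' (qq t)).val
  have hG : Function.Injective G := by
    intro ψ ψ' h
    obtain ⟨t, ht⟩ := hex ψ
    have hres : ∀ b : S' (qq t), ψ b = ψ' b := fun b => AlgHom.congr_fun (congrFun h t) b
    have hrr : ψ t.1 = ψ' t.1 := by
      rw [← hqq t]
      exact hres (r (qq t))
    ext x
    obtain ⟨b, m, hb⟩ := hsurj (qq t) x
    rw [hqq t] at hb
    have h1 : ψ t.1 ^ m * ψ x = ψ t.1 ^ m * ψ' x := by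
      calc ψ t.1 ^ m * ψ x = ψ (b : B) := by rw [hb, map_mul, map_pow]
        _ = ψ' (b : B) := hres b
        _ = ψ' t.1 ^ m * ψ' x := by rw [hb, map_mul, map_pow]
        _ = ψ t.1 ^ m * ψ' x := by rw [hrr]
    exact mul_left_cancel₀ (pow_ne_zero m ht) h1
  haveI : Finite (B →ₐ[A] Ω) := Finite.of_injective G hG
  refine ⟨inferInstance, ?_⟩
  calc Nat.card (B →ₐ[A] Ω) ≤ Nat.card (∀ t : ↥T, ((S' (qq t)) →ₐ[A] Ω)) :=
        Nat.card_le_card_of_injective G hG
    _ = ∏ t : ↥T, Nat.card ((S' (qq t)) →ₐ[A] Ω) := Nat.card_pi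
    _ ≤ ∏ t : ↥T, (gens t).card :=
        Finset.prod_le_prod (fun _ _ => Nat.zero_le _) (fun t _ => (hR0 t).2)

end Groth.Agent.Lib.Helper8.FibreBoundRing
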