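import Mathlib

/-!
# Constructibility of the locus of "geometrically injective" fibres (ring level)

For a finite type ring map `φ : A →+* B`, the condition `H φ 𝔭` says that a ring map `B → Ω`
into an algebraically closed field is determined by its restriction to `A`, whenever that
restriction has kernel `𝔭`.  If `H φ 𝔭₀` holds, then `H φ 𝔭` holds on a constructible
neighbourhood of `𝔭₀`.
-/

set_option autoImplicit false
universe u

open TensorProduct Topology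

namespace Groth.Agent.Lib.Helper8.WeightConstrRing

/-- Ring maps `B → Ω` into algebraically closed fields are determined by their restriction to
`A` when that restriction has kernel `𝔭`. -/
def H {A B : Type u} [CommRing A] [CommRing B] (φ : A →+* B) (𝔭 : PrimeSpectrum A) : Prop :=
  ∀ (Ω : Type u) [Field Ω] [IsAlgClosed Ω] (ψ₁ ψ₂ : B →+* Ω),
    ψ₁.comp φ = ψ₂.comp φ → RingHom.ker (ψ₁.comp φ) = 𝔭.asIdeal → ψ₁ = ψ₂

/-- A prime not in the image of `Spec R → Spec A` is separated from the image by a basic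
locally closed set. -/
lemma exists_sep_of_not_mem_range {A R : Type*} [CommRing A] [CommRing R] (χ : A →+* R)
    (𝔭 : PrimeSpectrum A) (h : 𝔭 ∉ Set.range (PrimeSpectrum.comap χ)) :
    ∃ (s : A) (t : Finset A), s ∉ 𝔭.asIdeal ∧ (↑t : Set A) ⊆ 𝔭.asIdeal ∧
      ∀ 𝔮 : PrimeSpectrum R, s ∉ 𝔮.asIdeal.comap χ →
        (↑t : Set A) ⊆ (𝔮.asIdeal.comap χ : Ideal A) → False := by
  classical
  have h1 : (𝔭.asIdeal.map χ).comap χ ≠ 𝔭.asIdeal := by
    intro heq
    obtain ⟨q, hq, hq'⟩ := (Ideal.comap_map_eq_self_iff_of_isPrime 𝔭.asIdeal).mp heq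
    exact h ⟨⟨q, hq⟩, PrimeSpectrum.ext hq'⟩
  have h2 : ¬ (𝔭.asIdeal.map χ).comap χ ≤ 𝔭.asIdeal :=
    fun hle => h1 (le_antisymm hle Ideal.le_comap_map)
  obtain ⟨s, hs, hsp⟩ := SetLike.not_le_iff_exists.mp h2
  have hs' : χ s ∈ Ideal.span (χ '' (𝔭.asIdeal : Set A)) := hs
  obtain ⟨T, hT, hsT⟩ := Submodule.mem_span_finite_of_mem_span hs'
  obtain ⟨t, ht, rfl⟩ := Finset.subset_set_image_iff.mp hT
  refine ⟨s, t, hsp, ht, fun 𝔮 hs𝔮 ht𝔮 => hs𝔮 ?_⟩
  show χ s ∈ 𝔮.asIdeal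
  refine (Ideal.span_le.mpr ?_) hsT
  intro r hr
  rw [Finset.coe_image] at hr
  obtain ⟨a, ha, rfl⟩ := hr
  exact ht𝔮 ha

section Alg

variable (A B : Type u) [CommRing A] [CommRing B] [Algebra A B]

/-- The element `b ⊗ 1 - 1 ⊗ b`. -/
noncomputable def hElt (b : B) : B ⊗[A] B := b ⊗ₜ[A] (1 : B) - (1 : B) ⊗ₜ[A] b

/-- The localization of `B ⊗[A] B` away from `b ⊗ 1 - 1 ⊗ b`. -/
abbrev Rb (b : B) : Type u := Localization.Away (hElt A B b)

lemma not_mem_range_of_H (𝔭₀ : PrimeSpectrum A) (h : H (algebraMap A B) 𝔭₀) (b : B) :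
    𝔭₀ ∉ Set.range (PrimeSpectrum.comap (algebraMap A (Rb A B b))) := by
  rintro ⟨𝔔, h𝔔⟩
  let κ := 𝔔.asIdeal.ResidueField
  let Ω := AlgebraicClosure κ
  let θ : Rb A B b →+* Ω := (algebraMap κ Ω).comp (algebraMap (Rb A B b) κ)
  have hker : RingHom.ker θ = 𝔔.asIdeal := by
    rw [RingHom.ker_comp_of_injective _ (algebraMap κ Ω).injective]
    exact Ideal.ker_algebraMap_residueField _
  let ι : B ⊗[A] B →+* Rb A B b := algebraMap _ _
  let ψ₁ : B →+* Ω := (θ.comp ι).comp Algebra.TensorProduct.includeLeftRingHom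
  let ψ₂ : B →+* Ω := (θ.comp ι).comp
    (Algebra.TensorProduct.includeRight (R := A) (A := B) (B := B)).toRingHom
  have hψ₁ : ψ₁.comp (algebraMap A B) = θ.comp (algebraMap A (Rb A B b)) := by
    ext a
    show θ (ι (algebraMap A B a ⊗ₜ[A] (1 : B))) = θ (algebraMap A (Rb A B b) a)
    rw [IsScalarTower.algebraMap_apply A (B ⊗[A] B) (Rb A B b),
      Algebra.TensorProduct.algebraMap_apply]
  have hψ₂ : ψ₂.comp (algebraMap A B) = θ.comp (algebraMap A (Rb A B b)) := by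
    ext a
    show θ (ι ((1 : B) ⊗ₜ[A] algebraMap A B a)) = θ (algebraMap A (Rb A B b) a)
    have key : (1 : B) ⊗ₜ[A] algebraMap A B a = algebraMap A B a ⊗ₜ[A] (1 : B) := by
      rw [Algebra.algebraMap_eq_smul_one, TensorProduct.smul_tmul]
    rw [key, IsScalarTower.algebraMap_apply A (B ⊗[A] B) (Rb A B b),
      Algebra.TensorProduct.algebraMap_apply]
  have hk : RingHom.ker (ψ₁.comp (algebraMap A B)) = 𝔭₀.asIdeal := by
    rw [hψ₁, ← RingHom.comap_ker, hker, ← h𝔔]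
    rfl
  have h12 := h Ω ψ₁ ψ₂ (hψ₁.trans hψ₂.symm) hk
  have hz : θ (ι (hElt A B b)) = 0 := by
    have h3 : θ (ι (b ⊗ₜ[A] (1 : B))) = θ (ι ((1 : B) ⊗ₜ[A] b)) := RingHom.congr_fun h12 b
    show θ (ι (b ⊗ₜ[A] (1 : B) - (1 : B) ⊗ₜ[A] b)) = 0
    rw [map_sub, map_sub, h3, sub_self]
  have hu : IsUnit (ι (hElt A B b)) := IsLocalization.Away.algebraMap_isUnit _
  exact (hu.map θ).ne_zero hz

theorem keyC_alg [Algebra.FiniteType A B] (𝔭₀ : PrimeSpectrum A)
    (h : H (algebraMap A B) 𝔭₀) :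
    ∃ C : Set (PrimeSpectrum A), IsConstructible C ∧ 𝔭₀ ∈ C ∧
      ∀ 𝔭 ∈ C, H (algebraMap A B) 𝔭 := by
  classical
  obtain ⟨gens, hgens⟩ := (Algebra.FiniteType.out : (⊤ : Subalgebra A B).FG)
  have hsep := fun b : B => exists_sep_of_not_mem_range (algebraMap A (Rb A B b)) 𝔭₀
    (not_mem_range_of_H A B 𝔭₀ h b)
  choose sb tb hsb htb hq using hsep
  refine ⟨⋂ b ∈ (gens : Set B), ((PrimeSpectrum.basicOpen (sb b) : Set (PrimeSpectrum A)) ∩
      ⋂ a ∈ (tb b : Set A), ((PrimeSpectrum.basicOpen a : Set (PrimeSpectrum A)))ᶜ), ?_, ?_, ?_⟩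
  · refine IsConstructible.biInter gens.finite_toSet (fun b _ => ?_)
    refine PrimeSpectrum.isConstructible_basicOpen.inter ?_
    exact IsConstructible.biInter (tb b).finite_toSet
      (fun a _ => PrimeSpectrum.isConstructible_basicOpen.compl)
  · simp only [Set.mem_iInter]
    intro b _
    refine ⟨hsb b, ?_⟩
    simp only [Set.mem_iInter]
    intro a ha hmem
    exact hmem (htb b ha)
  · intro 𝔭 h𝔭 Ω _ _ ψ₁ ψ₂ hc hk
    by_contra hne
    let α : A →+* Ω := ψ₁.comp (algebraMap A B)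
    letI : Algebra A Ω := α.toAlgebra
    let ψ₁' : B →ₐ[A] Ω := { ψ₁ with commutes' := fun a => rfl }
    let ψ₂' : B →ₐ[A] Ω := { ψ₂ with commutes' := fun a => (RingHom.congr_fun hc a).symm }
    have hex : ∃ b ∈ gens, ψ₁ b ≠ ψ₂ b := by
      by_contra hall
      push Not at hall
      apply hne
      have h' : ψ₁' = ψ₂' := AlgHom.ext_of_adjoin_eq_top hgens (fun b hb => hall b hb)
      ext x
      exact AlgHom.congr_fun h' x
    obtain ⟨b, hb, hbne⟩ := hex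
    let Ψ : B ⊗[A] B →ₐ[A] Ω := Algebra.TensorProduct.productMap ψ₁' ψ₂'
    have hΨ : Ψ (hElt A B b) = ψ₁ b - ψ₂ b := by
      show Ψ (b ⊗ₜ[A] (1 : B) - (1 : B) ⊗ₜ[A] b) = _
      rw [map_sub, Algebra.TensorProduct.productMap_apply_tmul,
        Algebra.TensorProduct.productMap_apply_tmul, map_one, map_one, mul_one, one_mul]
      rfl
    have hu : IsUnit (Ψ.toRingHom (hElt A B b)) := by
      show IsUnit (Ψ (hElt A B b))
      rw [hΨ]
      exact (sub_ne_zero.mpr hbne).isUnit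
    let Θ : Rb A B b →+* Ω := IsLocalization.Away.lift (hElt A B b) hu
    have hΘ : ∀ z, Θ (algebraMap (B ⊗[A] B) (Rb A B b) z) = Ψ z :=
      fun z => IsLocalization.Away.lift_eq _ hu z
    let 𝔔 : PrimeSpectrum (Rb A B b) := ⟨RingHom.ker Θ, RingHom.ker_isPrime Θ⟩
    have h𝔔 : 𝔔.asIdeal.comap (algebraMap A (Rb A B b)) = 𝔭.asIdeal := by
      rw [← hk]
      ext a
      show Θ (algebraMap A (Rb A B b) a) = 0 ↔ (ψ₁.comp (algebraMap A B)) a = 0
      rw [IsScalarTower.algebraMap_apply A (B ⊗[A] B) (Rb A B b), hΘ, AlgHom.commutes]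
      rfl
    have hmem := Set.mem_iInter₂.mp h𝔭 b hb
    refine hq b 𝔔 ?_ ?_
    · rw [h𝔔]
      exact hmem.1
    · rw [h𝔔]
      intro a ha
      have := Set.mem_iInter₂.mp hmem.2 a ha
      by_contra hcon
      exact this hcon

end Alg

theorem keyC {A B : Type u} [CommRing A] [CommRing B] (φ : A →+* B) (hφ : φ.FiniteType)
    (𝔭₀ : PrimeSpectrum A) (h : H φ 𝔭₀) :
    ∃ C : Set (PrimeSpectrum A), IsConstructible C ∧ 𝔭₀ ∈ C ∧ ∀ 𝔭 ∈ C, H φ 𝔭 := by
  letI : Algebra A B := φ.toAlgebra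
  haveI : Algebra.FiniteType A B := hφ
  exact keyC_alg A B 𝔭₀ h

end Groth.Agent.Lib.Helper8.WeightConstrRing
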