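import Mathlib
import Groth.Prelude.Def_MoreMor
import Groth.Agent.Lib.Helper8.FibIntGP
import Groth.Agent.Lib.Helper8.WeightConstrRing
import Groth.Agent.Lib.Helper8.WeightConstrTop

/-!
# Level sets of a weighting are locally constructible
-/

set_option autoImplicit false
universe u
open AlgebraicGeometry CategoryTheory Limits Topology

namespace Groth.Agent.Lib.Helper8.WeightConstrGeom

open Groth.Agent.Lib.Helper8.FibInt Groth.Agent.Lib.Helper8.FibIntGP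
  Groth.Agent.Lib.Helper8.EtLocPI Groth.Agent.Lib.Helper8.WeightConstrRing
  Groth.Agent.Lib.Helper8.WeightConstrTop

/-- Geometric points of `T` lying over a given geometric point of `V` centred at `v` are
unique. -/
def UniqGeom {T V : Scheme.{u}} (ρ : T ⟶ V) (v : V) : Prop :=
  ∀ (Ω : Type u) [Field Ω] [IsAlgClosed Ω] (b₁ b₂ : Spec (CommRingCat.of Ω) ⟶ T),
    b₁ ≫ ρ = b₂ ≫ ρ → gpt (b₁ ≫ ρ) = v → b₁ = b₂

lemma UniqGeom.of_mono_square {T V T' V' : Scheme.{u}} {π : T ⟶ V} {π' : T' ⟶ V'}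
    {h : T' ⟶ T} {g : V' ⟶ V} [Mono h] (hsq : h ≫ π = π' ≫ g) (v' : V')
    (hu : UniqGeom π (g v')) : UniqGeom π' v' := by
  intro Ω _ _ b₁ b₂ h12 hv
  have e1 : (b₁ ≫ h) ≫ π = (b₂ ≫ h) ≫ π := by
    rw [Category.assoc, Category.assoc, hsq, ← Category.assoc, ← Category.assoc, h12]
  have e2 : gpt ((b₁ ≫ h) ≫ π) = g v' := by
    rw [Category.assoc, hsq, ← Category.assoc, gpt_comp, hv]
  exact (cancel_mono h).mp (hu Ω _ _ e1 e2)

lemma uniqGeom_of_single {T V : Scheme.{u}} (π : T ⟶ V) [LocallyQuasiFinite π]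
    [LocallyOfFiniteType π] (pt : T) (huniq : ∀ t, π t = π pt → t = pt)
    (hpi : (π.residueFieldMap pt).hom.IsPurelyInseparable) : UniqGeom π (π pt) := by
  intro Ω _ _ b₁ b₂ h12 hv
  have hv2 : gpt (b₂ ≫ π) = π pt := by rw [← h12]; exact hv
  have h1 : gpt b₁ = pt := huniq _ hv
  have h2 : gpt b₂ = pt := huniq _ hv2
  have hcard := card_geomPoints_over π (b₁ ≫ π) pt hv.symm
    (finite_residueFieldMap_of_quasiFiniteAt π pt (π.quasiFiniteAt pt))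
  rw [sepDeg_eq_one_of_pi π pt hpi] at hcard
  haveI := (Nat.card_eq_one_iff_unique.mp hcard).1
  exact congrArg Subtype.val (Subsingleton.elim
    (⟨b₁, rfl, h1⟩ : {b : Spec (CommRingCat.of Ω) ⟶ T // b ≫ π = b₁ ≫ π ∧ gpt b = pt})
    ⟨b₂, h12.symm, h2⟩)

lemma fibreIntegral_of_uniqGeom {T V : Scheme.{u}} (ρ : T ⟶ V) [LocallyQuasiFinite ρ]
    [LocallyOfFiniteType ρ] (w₀ : T → ℤ) (u : T) (hu : UniqGeom ρ (ρ u))
    (hfin : (ρ ⁻¹' {ρ u}).Finite) : MoreMor.fibreIntegral ρ w₀ (ρ u) = w₀ u := by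
  obtain ⟨Ω, _, _, a, ha⟩ := exists_geomPoint_at (ρ u)
  have hfin' : (ρ ⁻¹' {gpt a}).Finite := by rw [ha]; exact hfin
  rw [← ha, fibreIntegral_eq_geom ρ a w₀ hfin']
  obtain ⟨b, hb, hbu⟩ := exists_geomPoint ρ a u ha.symm
    (finite_residueFieldMap_of_quasiFiniteAt ρ u (ρ.quasiFiniteAt u))
  haveI : Subsingleton {b : Spec (CommRingCat.of Ω) ⟶ T // b ≫ ρ = a} :=
    ⟨fun b₁ b₂ => Subtype.ext (hu Ω b₁.1 b₂.1 (b₁.2.trans b₂.2.symm) (by rw [b₁.2]; exact ha))⟩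
  letI : Unique {b : Spec (CommRingCat.of Ω) ⟶ T // b ≫ ρ = a} := uniqueOfSubsingleton ⟨b, hb⟩
  rw [finsum_unique]
  exact congrArg w₀ hbu

lemma gpt_specMap_eq_iff {A : CommRingCat.{u}} {Ω : Type u} [Field Ω]
    (γ : A ⟶ CommRingCat.of Ω) (𝔭 : PrimeSpectrum A) :
    (gpt (Spec.map γ) : ↥(Spec A)) = 𝔭 ↔ RingHom.ker γ.hom = 𝔭.asIdeal := by
  have h0 : (PrimeSpectrum.comap γ.hom (IsLocalRing.closedPoint Ω)).asIdeal =
      RingHom.ker γ.hom := by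
    show Ideal.comap γ.hom (IsLocalRing.maximalIdeal Ω) = _
    rw [IsLocalRing.maximalIdeal_eq_bot, RingHom.ker_eq_comap_bot]
  show PrimeSpectrum.comap γ.hom (IsLocalRing.closedPoint Ω) = 𝔭 ↔ _
  rw [PrimeSpectrum.ext_iff, h0]

lemma uniqGeom_specMap_iff {A B : CommRingCat.{u}} (φ : A ⟶ B) (𝔭 : PrimeSpectrum A) :
    UniqGeom (Spec.map φ) (𝔭 : ↥(Spec A)) ↔ H φ.hom 𝔭 := by
  constructor
  · intro hU Ω _ _ ψ₁ ψ₂ hc hk
    have e : Spec.map (CommRingCat.ofHom ψ₁) ≫ Spec.map φ =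
        Spec.map (CommRingCat.ofHom ψ₂) ≫ Spec.map φ := by
      rw [← Spec.map_comp, ← Spec.map_comp]
      congr 1
      ext a
      exact RingHom.congr_fun hc a
    have hg : gpt (Spec.map (CommRingCat.ofHom ψ₁) ≫ Spec.map φ) = (𝔭 : ↥(Spec A)) := by
      rw [← Spec.map_comp]
      exact (gpt_specMap_eq_iff _ 𝔭).mpr hk
    have h2 := Spec.map_injective (hU Ω _ _ e hg)
    exact congrArg CommRingCat.Hom.hom h2
  · intro hH Ω _ _ b₁ b₂ h12 hv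
    obtain ⟨β₁, rfl⟩ := Spec.map_surjective b₁
    obtain ⟨β₂, rfl⟩ := Spec.map_surjective b₂
    rw [← Spec.map_comp, ← Spec.map_comp] at h12
    have h12' := Spec.map_injective h12
    rw [← Spec.map_comp] at hv
    have hk := (gpt_specMap_eq_iff _ 𝔭).mp hv
    have := hH Ω β₁.hom β₂.hom (congrArg CommRingCat.Hom.hom h12') hk
    congr 1
    exact CommRingCat.hom_ext this

theorem exists_constructible_uniqGeom {T V : Scheme.{u}} [IsAffine T] [IsAffine V] (ρ : T ⟶ V)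
    [LocallyOfFiniteType ρ] (v₀ : V) (h : UniqGeom ρ v₀) :
    ∃ C : Set V, IsConstructible C ∧ v₀ ∈ C ∧ ∀ v ∈ C, UniqGeom ρ v := by
  have hft : RingHom.FiniteType ρ.appTop.hom :=
    (HasRingHomProperty.iff_of_isAffine (P := @LocallyOfFiniteType)).mp inferInstance
  have e : V.isoSpec.inv (V.isoSpec.hom v₀) = v₀ := by
    rw [← Scheme.Hom.comp_apply, Iso.hom_inv_id]
    rfl
  have h1 : UniqGeom (Spec.map ρ.appTop) (V.isoSpec.hom v₀) := by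
    refine UniqGeom.of_mono_square (h := T.isoSpec.inv) (g := V.isoSpec.inv) (π := ρ)
      (Scheme.isoSpec_inv_naturality ρ).symm _ ?_
    rw [e]
    exact h
  obtain ⟨C', hC', hv₀, hC'H⟩ := keyC ρ.appTop.hom hft (V.isoSpec.hom v₀)
    ((uniqGeom_specMap_iff _ _).mp h1)
  refine ⟨V.isoSpec.hom ⁻¹' C', ?_, hv₀, ?_⟩
  · exact hC'.preimage_of_isOpenEmbedding V.isoSpec.hom.isOpenEmbedding
  · intro v hv
    exact UniqGeom.of_mono_square (h := T.isoSpec.hom) (g := V.isoSpec.hom)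
      (π := Spec.map ρ.appTop) (Scheme.isoSpec_hom_naturality ρ) v
      ((uniqGeom_specMap_iff _ _).mpr (hC'H _ hv))

theorem core {O E X : Scheme.{u}} [IsAffine X] (π : O ⟶ E) [IsFinite π] (q : O ⟶ X)
    [LocallyOfFinitePresentation q] (w : X → ℤ)
    (hlc : IsLocallyConstant (MoreMor.fibreIntegral π (fun u => w (q u))))
    (pt : O) (huniq : ∀ t, π t = π pt → t = pt)
    (hpi : (π.residueFieldMap pt).hom.IsPurelyInseparable) :
    ∃ T : Set X, IsConstructible T ∧ q pt ∈ T ∧ ∀ y ∈ T, w y = w (q pt) := by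
  classical
  have hval : MoreMor.fibreIntegral π (fun u => w (q u)) (π pt) = w (q pt) :=
    fibreIntegral_single π (fun u => w (q u)) (π pt) pt rfl huniq hpi
  have hN : IsOpen {v : E | MoreMor.fibreIntegral π (fun u => w (q u)) v = w (q pt)} := by
    rw [← hval]
    exact hlc.isOpen_fiber _
  obtain ⟨E₀, hE₀, he₀, hE₀N⟩ : ∃ E₀ : E.Opens, IsAffineOpen E₀ ∧ π pt ∈ E₀ ∧
      E₀ ≤ (⟨_, hN⟩ : E.Opens) := TopologicalSpace.Opens.isBasis_iff_nbhd.mp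
    E.isBasis_affineOpens (U := ⟨_, hN⟩) (x := π pt) hval
  haveI : IsAffine (E₀ : Scheme.{u}) := hE₀
  haveI : IsAffine ((π ⁻¹ᵁ E₀ : O.Opens) : Scheme.{u}) := hE₀.preimage π
  have hpb : IsPullback (π ⁻¹ᵁ E₀).ι (π ∣_ E₀) π E₀.ι := (isPullback_morphismRestrict π E₀).flip
  haveI : IsFinite (π ∣_ E₀) := MorphismProperty.of_isPullback (P := @IsFinite) hpb inferInstance
  have hU : UniqGeom π (π pt) := uniqGeom_of_single π pt huniq hpi
  have hU₀ : UniqGeom (π ∣_ E₀) ⟨π pt, he₀⟩ :=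
    UniqGeom.of_mono_square (morphismRestrict_ι π E₀).symm ⟨π pt, he₀⟩ hU
  obtain ⟨C, hC, hv₀C, hCU⟩ := exists_constructible_uniqGeom (π ∣_ E₀) ⟨π pt, he₀⟩ hU₀
  haveI : QuasiCompact ((π ⁻¹ᵁ E₀).ι ≫ q) := HasAffineProperty.iff_of_isAffine.mpr
    (inferInstanceAs (CompactSpace ↥((π ⁻¹ᵁ E₀ : O.Opens) : Scheme.{u})))
  refine ⟨((π ⁻¹ᵁ E₀).ι ≫ q) '' ((π ∣_ E₀) ⁻¹' C), ?_, ?_, ?_⟩
  · exact ((π ⁻¹ᵁ E₀).ι ≫ q).isConstructible_image ((π ∣_ E₀).isConstructible_preimage hC)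
  · have hpt : pt ∈ π ⁻¹ᵁ E₀ := he₀
    refine ⟨⟨pt, hpt⟩, ?_, rfl⟩
    show (π ∣_ E₀) ⟨pt, hpt⟩ ∈ C
    have h1 : E₀.ι ((π ∣_ E₀) ⟨pt, hpt⟩) = π ((π ⁻¹ᵁ E₀).ι ⟨pt, hpt⟩) := by
      rw [← Scheme.Hom.comp_apply, ← Scheme.Hom.comp_apply, morphismRestrict_ι]
    have h2 : (π ∣_ E₀) ⟨pt, hpt⟩ = ⟨π pt, he₀⟩ := Subtype.ext h1
    rw [h2]
    exact hv₀C
  · rintro _ ⟨t, ht, rfl⟩
    have hUt := hCU _ ht
    have hfin_t : ((π ∣_ E₀) ⁻¹' {(π ∣_ E₀) t}).Finite :=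
      (π ∣_ E₀).finite_preimage_singleton _
    have h1 := fibreIntegral_of_uniqGeom (π ∣_ E₀)
      ((fun u => w (q u)) ∘ ⇑(π ⁻¹ᵁ E₀).ι) t hUt hfin_t
    have h2 := (fibreIntegral_baseChange π (π ∣_ E₀) (π ⁻¹ᵁ E₀).ι E₀.ι hpb
      (fun u => w (q u)) ((π ∣_ E₀) t) (π.finite_preimage_singleton _)).1
    have h3 : MoreMor.fibreIntegral π (fun u => w (q u)) (E₀.ι ((π ∣_ E₀) t)) = w (q pt) :=
      hE₀N ((π ∣_ E₀) t).2
    calc w (((π ⁻¹ᵁ E₀).ι ≫ q) t) = ((fun u => w (q u)) ∘ ⇑(π ⁻¹ᵁ E₀).ι) t := rfl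
      _ = _ := h1.symm
      _ = _ := h2
      _ = _ := h3

theorem exists_constructible_nbhd {X Y : Scheme.{u}} [IsAffine X] (f : X ⟶ Y)
    [LocallyQuasiFinite f] [LocallyOfFiniteType f] (w : X → ℤ) (hw : MoreMor.IsWeighting f w)
    (x : X) : ∃ T : Set X, IsConstructible T ∧ x ∈ T ∧ ∀ y ∈ T, w y = w x := by
  obtain ⟨E, g, e, hg, hge, O, pt, hfin, hpte, huniq, hpi, hptx⟩ := exists_etale_nbhd_single' f x
  haveI := hg
  haveI := hfin
  haveI : Etale (pullback.fst f g) := MorphismProperty.pullback_fst (P := @Etale) f g hg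
  subst hpte
  obtain ⟨T, hT, hxT, hTw⟩ := core (O.ι ≫ pullback.snd f g) (O.ι ≫ pullback.fst f g) w
    (hw E g O hfin) pt huniq hpi
  have hx : (O.ι ≫ pullback.fst f g) pt = x := hptx
  rw [hx] at hxT hTw
  exact ⟨T, hT, hxT, hTw⟩

theorem isConstructible_levelSet_affine {X Y : Scheme.{u}} [IsAffine X] (f : X ⟶ Y)
    [LocallyQuasiFinite f] [LocallyOfFiniteType f] (w : X → ℤ) (hw : MoreMor.IsWeighting f w)
    (n : ℤ) : IsConstructible {x : X | w x = n} :=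
  isConstructible_levelSet w (fun x => exists_constructible_nbhd f w hw x) n

theorem isLocallyConstructible_levelSet {X Y : Scheme.{u}} (f : X ⟶ Y) [LocallyQuasiFinite f]
    [LocallyOfFiniteType f] (w : X → ℤ) (hw : MoreMor.IsWeighting f w) (n : ℤ) :
    IsLocallyConstructible {x : X | w x = n} := by
  intro x
  obtain ⟨U, hU, hxU, -⟩ : ∃ U : X.Opens, IsAffineOpen U ∧ x ∈ U ∧ U ≤ (⊤ : X.Opens) :=
    TopologicalSpace.Opens.isBasis_iff_nbhd.mp X.isBasis_affineOpens (U := ⊤) (x := x) trivial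
  haveI : IsAffine (U : Scheme.{u}) := hU
  refine ⟨U, U.2.mem_nhds hxU, U.2, ?_⟩
  exact isConstructible_levelSet_affine (U.ι ≫ f) (fun y => w (U.ι y))
    (isWeighting_restrict_open f w hw U) n

end Groth.Agent.Lib.Helper8.WeightConstrGeom
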