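import Mathlib
import Groth.Prelude.Def_MoreMor
import Groth.Agent.Lib.Helper8.FibIntGP
import Groth.Agent.Lib.Helper8.FibreBoundRing
import Groth.Agent.Lib.Helper8.WeightConstrGeom

/-!
# Bounded geometric fibres and the maximum of the fibre integral of a weighting
-/

set_option autoImplicit false
universe u
open AlgebraicGeometry CategoryTheory Limits Topology

namespace Groth.Agent.Lib.Helper8.FibreBoundGeom

open Groth.Agent.Lib.Helper8.FibInt Groth.Agent.Lib.Helper8.FibIntGP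
  Groth.Agent.Lib.Helper8.EtLocPI Groth.Agent.Lib.Helper8.FibreBoundRing
  Groth.Agent.Lib.Helper8.WeightConstrGeom Groth.Agent.Lib.Helper8.WeightConstrTop

/-- Geometric fibres of `ρ` have at most `N` points. -/
def BddGeom {T V : Scheme.{u}} (ρ : T ⟶ V) (N : ℕ) : Prop :=
  ∀ (Ω : Type u) [Field Ω] (a : Spec (CommRingCat.of Ω) ⟶ V),
    Finite {b : Spec (CommRingCat.of Ω) ⟶ T // b ≫ ρ = a} ∧
      Nat.card {b : Spec (CommRingCat.of Ω) ⟶ T // b ≫ ρ = a} ≤ N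

lemma bdd_of_injective {α β : Type*} (F : α → β) (hF : Function.Injective F) {N : ℕ}
    (h : Finite β ∧ Nat.card β ≤ N) : Finite α ∧ Nat.card α ≤ N := by
  haveI := h.1
  haveI : Finite α := Finite.of_injective F hF
  exact ⟨inferInstance, (Nat.card_le_card_of_injective F hF).trans h.2⟩

lemma BddGeom.mono_pre {T T' V : Scheme.{u}} {ρ : T ⟶ V} {N : ℕ} (hρ : BddGeom ρ N)
    (h : T' ⟶ T) [Mono h] : BddGeom (h ≫ ρ) N := by
  intro Ω _ a
  refine bdd_of_injective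
    (fun b : {b : Spec (CommRingCat.of Ω) ⟶ T' // b ≫ h ≫ ρ = a} =>
      (⟨b.1 ≫ h, by rw [Category.assoc]; exact b.2⟩ :
        {b : Spec (CommRingCat.of Ω) ⟶ T // b ≫ ρ = a})) ?_ (hρ Ω a)
  intro b b' hbb'
  exact Subtype.ext ((cancel_mono h).mp (congrArg Subtype.val hbb'))

lemma BddGeom.mono_post {T V Y : Scheme.{u}} {ρ : T ⟶ V} {N : ℕ} (hρ : BddGeom ρ N)
    (j : V ⟶ Y) [Mono j] : BddGeom (ρ ≫ j) N := by
  intro Ω _ a
  by_cases hne : Nonempty {b : Spec (CommRingCat.of Ω) ⟶ T // b ≫ ρ ≫ j = a}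
  · obtain ⟨b₀⟩ := hne
    have key : ∀ b : Spec (CommRingCat.of Ω) ⟶ T, b ≫ ρ ≫ j = a → b ≫ ρ = b₀.1 ≫ ρ := by
      intro b hb
      rw [← cancel_mono j, Category.assoc, Category.assoc, hb, b₀.2]
    refine bdd_of_injective
      (fun b : {b : Spec (CommRingCat.of Ω) ⟶ T // b ≫ ρ ≫ j = a} =>
        (⟨b.1, key b.1 b.2⟩ : {b : Spec (CommRingCat.of Ω) ⟶ T // b ≫ ρ = b₀.1 ≫ ρ}))
      ?_ (hρ Ω (b₀.1 ≫ ρ))
    intro b b' hbb'
    have h1 : b.1 = b'.1 := congrArg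
      (fun z : {b : Spec (CommRingCat.of Ω) ⟶ T // b ≫ ρ = b₀.1 ≫ ρ} => z.1) hbb'
    exact Subtype.ext h1
  · haveI : IsEmpty {b : Spec (CommRingCat.of Ω) ⟶ T // b ≫ ρ ≫ j = a} :=
      not_nonempty_iff.mp hne
    exact ⟨inferInstance, by rw [Nat.card_of_isEmpty]; exact Nat.zero_le _⟩

lemma bddGeom_specMap {A B : CommRingCat.{u}} (φ : A ⟶ B) (hft : φ.hom.FiniteType)
    (hqf : φ.hom.QuasiFinite) : ∃ N, BddGeom (Spec.map φ) N := by
  letI : Algebra A B := φ.hom.toAlgebra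
  haveI : Algebra.FiniteType A B := hft
  haveI : Algebra.QuasiFinite A B := hqf
  obtain ⟨N, hN⟩ := exists_bound_algHom A B
  refine ⟨N, fun Ω _ a => ?_⟩
  letI : Algebra A Ω := (Spec.preimage a).hom.toAlgebra
  have key : ∀ b : Spec (CommRingCat.of Ω) ⟶ Spec B, b ≫ Spec.map φ = a →
      φ ≫ Spec.preimage b = Spec.preimage a := by
    intro b hb
    apply Spec.map_injective
    rw [Spec.map_comp, Spec.map_preimage, Spec.map_preimage, hb]
  refine bdd_of_injective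
    (fun b : {b : Spec (CommRingCat.of Ω) ⟶ Spec B // b ≫ Spec.map φ = a} =>
      ({ (Spec.preimage b.1).hom with
          commutes' := fun x =>
            congrArg (fun γ : A ⟶ CommRingCat.of Ω => γ.hom x) (key b.1 b.2) } : B →ₐ[A] Ω))
    ?_ (hN Ω)
  intro b b' hbb'
  apply Subtype.ext
  have h1 : (Spec.preimage b.1).hom = (Spec.preimage b'.1).hom := by
    ext x
    exact AlgHom.congr_fun hbb' x
  have h2 : Spec.preimage b.1 = Spec.preimage b'.1 := CommRingCat.hom_ext h1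
  rw [← Spec.map_preimage b.1, h2, Spec.map_preimage]

lemma exists_bddGeom_affine {T V : Scheme.{u}} [IsAffine T] [IsAffine V] (ρ : T ⟶ V)
    [LocallyQuasiFinite ρ] [LocallyOfFiniteType ρ] : ∃ N, BddGeom ρ N := by
  have hft : RingHom.FiniteType ρ.appTop.hom :=
    (HasRingHomProperty.iff_of_isAffine (P := @LocallyOfFiniteType)).mp inferInstance
  have hqf : RingHom.QuasiFinite ρ.appTop.hom :=
    (HasRingHomProperty.iff_of_isAffine (P := @LocallyQuasiFinite)).mp inferInstance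
  obtain ⟨N, hN⟩ := bddGeom_specMap ρ.appTop hft hqf
  refine ⟨N, ?_⟩
  have e : ρ = T.isoSpec.hom ≫ (Spec.map ρ.appTop ≫ V.isoSpec.inv) := by
    rw [← Category.assoc, Scheme.isoSpec_hom_naturality, Category.assoc, Iso.hom_inv_id,
      Category.comp_id]
  rw [e]
  exact (hN.mono_post V.isoSpec.inv).mono_pre T.isoSpec.hom

lemma BddGeom.of_cover {X Y : Scheme.{u}} (f : X ⟶ Y) {ι : Type*} [Fintype ι]
    (U : ι → X.Opens) (hU : ∀ x : X, ∃ i, x ∈ U i) (N : ι → ℕ)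
    (h : ∀ i, BddGeom ((U i).ι ≫ f) (N i)) : BddGeom f (∑ i, N i) := by
  intro Ω _ a
  haveI : ∀ i, Finite {b : Spec (CommRingCat.of Ω) ⟶ (U i : Scheme.{u}) //
      b ≫ (U i).ι ≫ f = a} := fun i => (h i Ω a).1
  haveI : Subsingleton ↥(Spec (CommRingCat.of Ω)) :=
    inferInstanceAs (Subsingleton (PrimeSpectrum Ω))
  have hlift : ∀ b : Spec (CommRingCat.of Ω) ⟶ X, ∃ i,
      ∃ b' : Spec (CommRingCat.of Ω) ⟶ (U i : Scheme.{u}), b' ≫ (U i).ι = b := by
    intro b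
    obtain ⟨i, hi⟩ := hU (gpt b)
    have hr : Set.range b ⊆ Set.range (U i).ι := by
      rintro _ ⟨z, rfl⟩
      rw [Scheme.Opens.range_ι]
      have hz : z = IsLocalRing.closedPoint Ω := Subsingleton.elim _ _
      rw [hz]
      exact hi
    exact ⟨i, IsOpenImmersion.lift (U i).ι b hr, IsOpenImmersion.lift_fac _ _ _⟩
  choose ii bb hbb using hlift
  let G : {b : Spec (CommRingCat.of Ω) ⟶ X // b ≫ f = a} →
      Σ i, {b : Spec (CommRingCat.of Ω) ⟶ (U i : Scheme.{u}) // b ≫ (U i).ι ≫ f = a} :=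
    fun b => ⟨ii b.1, bb b.1, by rw [← Category.assoc, hbb]; exact b.2⟩
  let und : (Σ i, {b : Spec (CommRingCat.of Ω) ⟶ (U i : Scheme.{u}) //
      b ≫ (U i).ι ≫ f = a}) → (Spec (CommRingCat.of Ω) ⟶ X) := fun x => x.2.1 ≫ (U x.1).ι
  have e : ∀ b, und (G b) = b.1 := fun b => hbb b.1
  have hG : Function.Injective G := by
    intro b b' hbb'
    exact Subtype.ext ((e b).symm.trans ((congrArg und hbb').trans (e b')))
  refine bdd_of_injective G hG ⟨inferInstance, ?_⟩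
  rw [Nat.card_sigma]
  exact Finset.sum_le_sum fun i _ => (h i Ω a).2

theorem exists_bddGeom {X Y : Scheme.{u}} (f : X ⟶ Y) [LocallyQuasiFinite f]
    [LocallyOfFiniteType f] [CompactSpace X] : ∃ N, BddGeom f N := by
  have hloc : ∀ x : X, ∃ U : X.Opens, x ∈ U ∧ ∃ N, BddGeom (U.ι ≫ f) N := by
    intro x
    obtain ⟨V, hV, hxV, -⟩ : ∃ V : Y.Opens, IsAffineOpen V ∧ f x ∈ V ∧ V ≤ (⊤ : Y.Opens) :=
      TopologicalSpace.Opens.isBasis_iff_nbhd.mp Y.isBasis_affineOpens (U := ⊤) (x := f x)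
        trivial
    obtain ⟨U, hU, hxU, hUV⟩ : ∃ U : X.Opens, IsAffineOpen U ∧ x ∈ U ∧ U ≤ f ⁻¹ᵁ V :=
      TopologicalSpace.Opens.isBasis_iff_nbhd.mp X.isBasis_affineOpens (U := f ⁻¹ᵁ V) (x := x)
        hxV
    haveI : IsAffine (U : Scheme.{u}) := hU
    haveI : IsAffine (V : Scheme.{u}) := hV
    have e : f.resLE V U hUV ≫ V.ι = U.ι ≫ f := Scheme.Hom.resLE_comp_ι f hUV
    haveI : LocallyQuasiFinite (f.resLE V U hUV ≫ V.ι) := by rw [e]; infer_instance
    haveI : LocallyOfFiniteType (f.resLE V U hUV ≫ V.ι) := by rw [e]; infer_instance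
    haveI : LocallyQuasiFinite (f.resLE V U hUV) := LocallyQuasiFinite.of_comp _ V.ι
    haveI : LocallyOfFiniteType (f.resLE V U hUV) := locallyOfFiniteType_of_comp _ V.ι
    obtain ⟨N, hN⟩ := exists_bddGeom_affine (f.resLE V U hUV)
    refine ⟨U, hxU, N, ?_⟩
    rw [← e]
    exact hN.mono_post V.ι
  choose U hxU N hN using hloc
  obtain ⟨t, ht⟩ := CompactSpace.elim_nhds_subcover (fun x => (U x : Set X))
    (fun x => (U x).2.mem_nhds (hxU x))
  refine ⟨∑ i : ↥t, N i.1, BddGeom.of_cover f (fun i : ↥t => U i.1) ?_ (fun i => N i.1)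
    (fun i => hN i.1)⟩
  intro x
  have hx : x ∈ ⋃ y ∈ t, (U y : Set X) := by rw [ht]; trivial
  obtain ⟨y, hy, hxy⟩ := Set.mem_iUnion₂.mp hx
  exact ⟨⟨y, hy⟩, hxy⟩

theorem exists_le_of_weighting {X Y : Scheme.{u}} (f : X ⟶ Y) [LocallyQuasiFinite f]
    [LocallyOfFiniteType f] [CompactSpace X] (w : X → ℤ) (hw : MoreMor.IsWeighting f w) :
    ∃ M : ℤ, ∀ x, w x ≤ M := by
  have hloc : ∀ x : X, ∃ U : X.Opens, x ∈ U ∧
      (Set.range fun y : (U : Scheme.{u}) => w (U.ι y)).Finite := by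
    intro x
    obtain ⟨U, hU, hxU, -⟩ : ∃ U : X.Opens, IsAffineOpen U ∧ x ∈ U ∧ U ≤ (⊤ : X.Opens) :=
      TopologicalSpace.Opens.isBasis_iff_nbhd.mp X.isBasis_affineOpens (U := ⊤) (x := x) trivial
    haveI : IsAffine (U : Scheme.{u}) := hU
    refine ⟨U, hxU, ?_⟩
    exact finite_range (fun y : (U : Scheme.{u}) => w (U.ι y))
      (fun y => exists_constructible_nbhd (U.ι ≫ f) _ (isWeighting_restrict_open f w hw U) y)
  choose U hxU hfin using hloc
  obtain ⟨t, ht⟩ := CompactSpace.elim_nhds_subcover (fun x => (U x : Set X))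
    (fun x => (U x).2.mem_nhds (hxU x))
  have hr : (Set.range w).Finite := by
    refine (t.finite_toSet.biUnion (fun x _ => hfin x)).subset ?_
    rintro _ ⟨x, rfl⟩
    have hx : x ∈ ⋃ y ∈ t, (U y : Set X) := by rw [ht]; trivial
    obtain ⟨y, hy, hxy⟩ := Set.mem_iUnion₂.mp hx
    exact Set.mem_biUnion hy ⟨⟨x, hxy⟩, rfl⟩
  obtain ⟨M, hM⟩ := hr.bddAbove
  exact ⟨M, fun x => hM ⟨x, rfl⟩⟩

theorem exists_max_fibreIntegral {X Y : Scheme.{u}} (f : X ⟶ Y) [LocallyQuasiFinite f]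
    [LocallyOfFiniteType f] [CompactSpace X] (w : X → ℤ) (hw : MoreMor.IsWeighting f w)
    [Nonempty Y] :
    ∃ y₀ : Y, ∀ y : Y, MoreMor.fibreIntegral f w y ≤ MoreMor.fibreIntegral f w y₀ := by
  obtain ⟨N, hN⟩ := exists_bddGeom f
  obtain ⟨M, hM⟩ := exists_le_of_weighting f w hw
  have hbound : ∀ y, MoreMor.fibreIntegral f w y ≤ (N : ℤ) * max M 0 := by
    intro y
    obtain ⟨Ω, _, _, a, rfl⟩ := exists_geomPoint_at y
    obtain ⟨hfinG, hcard⟩ := hN Ω a
    haveI := hfinG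
    have hfin : (f ⁻¹' {gpt a}).Finite := by
      refine Set.Finite.subset (Set.finite_range
        (fun b : {b : Spec (CommRingCat.of Ω) ⟶ X // b ≫ f = a} => gpt b.1)) ?_
      intro x hx
      obtain ⟨b, hb, hbx⟩ := exists_geomPoint f a x hx
        (finite_residueFieldMap_of_quasiFiniteAt f x (f.quasiFiniteAt x))
      exact ⟨⟨b, hb⟩, hbx⟩
    rw [fibreIntegral_eq_geom f a w hfin]
    haveI := Fintype.ofFinite {b : Spec (CommRingCat.of Ω) ⟶ X // b ≫ f = a}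
    rw [finsum_eq_sum_of_fintype]
    calc ∑ b : {b : Spec (CommRingCat.of Ω) ⟶ X // b ≫ f = a}, w (gpt b.1)
        ≤ ∑ _b : {b : Spec (CommRingCat.of Ω) ⟶ X // b ≫ f = a}, max M 0 :=
          Finset.sum_le_sum fun b _ => (hM _).trans (le_max_left _ _)
      _ = (Fintype.card {b : Spec (CommRingCat.of Ω) ⟶ X // b ≫ f = a} : ℤ) * max M 0 := by
          rw [Finset.sum_const, Finset.card_univ, nsmul_eq_mul]
      _ ≤ (N : ℤ) * max M 0 := by
          apply mul_le_mul_of_nonneg_right _ (le_max_right _ _)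
          rw [← Nat.card_eq_fintype_card]
          exact_mod_cast hcard
  obtain ⟨ub, ⟨y₀, hy₀⟩, hub⟩ := Int.exists_greatest_of_bdd
    (P := fun z => ∃ y, MoreMor.fibreIntegral f w y = z)
    ⟨(N : ℤ) * max M 0, fun z hz => by obtain ⟨y, rfl⟩ := hz; exact hbound y⟩
    ⟨_, Classical.arbitrary Y, rfl⟩
  exact ⟨y₀, fun y => hy₀ ▸ hub _ ⟨y, rfl⟩⟩

end Groth.Agent.Lib.Helper8.FibreBoundGeom
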