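/-
Helper8 library: an integral morphism over a quasi-compact quasi-separated base is a directed limit
(in the category of schemes over the base) of finite morphisms. The proof text is adapted from
helper12's proof of S7382 (which is stated with an abstract cone vertex); here the cone has vertex
`Over.mk f` on the nose, which is convenient for base change arguments.
-/
import Mathlib
import Groth.Agent.Lib.Helper12.IntegralApprox
import Groth.Agent.Lib.Helper12.ApproxOver
import Groth.Agent.Lib.Helper12.UpSet
import Groth.Agent.Lib.Helper12.LimCI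

set_option autoImplicit false
universe u
open CategoryTheory AlgebraicGeometry

namespace Groth.Agent.Lib.Helper8.IntegralLimit
open Limits Opposite Groth.Agent.Lib.Helper12 Groth.Agent.Lib.Helper12.UpSet
  Groth.Agent.Lib.Helper12.IntegralApprox
set_option backward.isDefEq.respectTransparency false
set_option linter.style.haveILetI false

theorem exists_limit_finite {X S : Scheme.{u}} (f : X ⟶ S) [IsIntegralHom f]
    [CompactSpace S] [QuasiSeparatedSpace S] :
    ∃ (I : Type u) (_ : Preorder I) (_ : IsDirected I (fun a b => a ≤ b)) (_ : Nonempty I)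
      (D : Iᵒᵖ ⥤ Over S) (π : (Functor.const Iᵒᵖ).obj (Over.mk f) ⟶ D),
      Nonempty (Limits.IsLimit ({ pt := Over.mk f, π := π } : Limits.Cone D)) ∧
      (∀ i, IsFinite (D.obj i).hom) := by
  classical
  haveI : CompactSpace X := QuasiCompact.compactSpace_of_compactSpace f
  haveI : QuasiSeparatedSpace X := quasiSeparatedSpace_of_quasiSeparated f
  obtain ⟨J₀, iJ1, iJ2, iJ3, D₀, π, hlim, hlim', hst, haff⟩ := ApproxOver.exists_approx_over f
  haveI : Nonempty J₀ := iJ3
  obtain ⟨i₀⟩ := iJ3
  let D' : J₀ᵒᵖ ⥤ Scheme.{u} := D₀ ⋙ Over.forget S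
  let t : D' ⟶ (Functor.const J₀ᵒᵖ).obj S :=
    { app := fun i => (D₀.obj i).hom
      naturality := fun i j a => by
        dsimp [D']
        simp }
  haveI : ∀ (i j : J₀ᵒᵖ) (a : i ⟶ j), IsAffineHom (D'.map a) := fun i j a => haff i j a
  haveI : ∀ i, CompactSpace (D'.obj i) := fun i => (hst i).2.2.2.1
  haveI : ∀ i, QuasiSeparatedSpace (D'.obj i) := fun i => (hst i).2.2.2.2
  let c₀ : Cone D₀ := { pt := Over.mk f, π := π }
  let c' : Cone D' := (Over.forget S).mapCone c₀
  have hw : c'.π.app (op i₀) ≫ t.app (op i₀) = f := Over.w (π.app (op i₀))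
  haveI : IsAffineHom (c'.π.app (op i₀) ≫ t.app (op i₀)) := by rw [hw]; infer_instance
  obtain ⟨i₁, hi₁⟩ := Groth.Agent.S9200.result S D' t c' hlim' (op i₀)
  let D : (Up i₁.unop)ᵒᵖ ⥤ Over S := upFunctor i₁.unop ⋙ D₀
  let c : Cone D := c₀.whisker (upFunctor i₁.unop)
  have hc : IsLimit c := (Functor.Initial.isLimitWhiskerEquiv (upFunctor i₁.unop) _).symm hlim
  have hD : ∀ j, IsAffineHom (D.obj j).hom ∧ LocallyOfFinitePresentation (D.obj j).hom :=
    fun j => ⟨hi₁ (op j.unop.1) (homOfLE j.unop.2).op, (hst _).1⟩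
  haveI : IsIntegralHom c.pt.hom := inferInstanceAs (IsIntegralHom f)
  haveI := isDirected_idx D c hD
  haveI := nonempty_idx D c hD
  exact ⟨Idx D c, inferInstance, inferInstance, inferInstance, subF D c, (subC D c).π,
    ⟨isLimitSubC D c hc (cofinal_idx D c hD)⟩, fun p => p.unop.hfin⟩

end Groth.Agent.Lib.Helper8.IntegralLimit
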