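/-
Helper8 library: point-level lemmas for arbitrary pullback squares of schemes
(`IsPullback a b f g`, `a : P ⟶ X`, `b : P ⟶ Y'`, `f : X ⟶ Y`, `g : Y' ⟶ Y`), the hypothesis
"all finite base changes are open at the points over `x`" of EGA IV 14.5, and specializations in
cofiltered limits with affine transition maps.

`eq_of_specializes_of_isIntegralHom` is adapted from helper1's `AssPush2` (proof text copied so as
not to import that library's closure).
-/
import Mathlib
import Groth.Prelude.Def_Found
import Groth.Prelude.Def_EGA43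
import Groth.Agent.Lib.Helper8.PullbackPoint
import Groth.Agent.Lib.Helper8.UnivOpen
import Groth.Agent.Lib.Helper12.EquidimBC
import Groth.Agent.Lib.Helper12.ValBaseFib

set_option autoImplicit false
universe u
open CategoryTheory AlgebraicGeometry CategoryTheory.Limits EGA43

namespace Groth.Agent.Lib.Helper8.PullbackSq

open Groth.Agent.Lib.Helper8 Groth.Agent.Lib.Helper12 Groth.Agent.Lib.Helper12.SchemeDimIneq

section Integral

/-- No nontrivial specializations in the fibres of an integral morphism. -/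
theorem eq_of_specializes_of_isIntegralHom {X Y : Scheme.{u}} (f : X ⟶ Y) [IsIntegralHom f]
    (x x' : X) (h : x' ⤳ x) (hf : f.base x' = f.base x) : x = x' := by
  obtain ⟨V, hV, hyV, -⟩ := exists_isAffineOpen_mem_and_subset (x := f.base x)
    (U := (⊤ : Y.Opens)) trivial
  have hU : IsAffineOpen (f ⁻¹ᵁ V) := hV.preimage f
  have hxU : x ∈ f ⁻¹ᵁ V := hyV
  have hx'U : x' ∈ f ⁻¹ᵁ V := h.mem_open (f ⁻¹ᵁ V).2 hxU
  set φ := f.appLE V (f ⁻¹ᵁ V) le_rfl with hφ
  have hint : φ.hom.IsIntegral := by
    have := IsIntegralHom.isIntegral_app f V hV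
    rw [hφ, Scheme.Hom.appLE, show (homOfLE (le_refl (f ⁻¹ᵁ V))).op = 𝟙 _ from rfl,
      X.presheaf.map_id, Category.comp_id]
    exact this
  have hle : hU.primeIdealOf ⟨x', hx'U⟩ ≤ hU.primeIdealOf ⟨x, hxU⟩ := by
    rw [PrimeSpectrum.le_iff_specializes]
    have h1 : (⟨x', hx'U⟩ : (f ⁻¹ᵁ V : X.Opens)) ⤳ ⟨x, hxU⟩ :=
      (subtype_specializes_iff _ _).2 h
    exact h1.map hU.isoSpec.hom.base.hom.continuous
  have hcomap := IsAffineOpen.comap_primeIdealOf_appLE (f := f) V hV (f ⁻¹ᵁ V) hU le_rfl hxU
  have hcomap' := IsAffineOpen.comap_primeIdealOf_appLE (f := f) V hV (f ⁻¹ᵁ V) hU le_rfl hx'U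
  have heq : (hU.primeIdealOf ⟨x', hx'U⟩).asIdeal.comap φ.hom =
      (hU.primeIdealOf ⟨x, hxU⟩).asIdeal.comap φ.hom := by
    have e1 := congrArg PrimeSpectrum.asIdeal hcomap
    have e2 := congrArg PrimeSpectrum.asIdeal hcomap'
    have e3 : (hV.primeIdealOf ⟨f.base x', hf ▸ hyV⟩).asIdeal =
        (hV.primeIdealOf ⟨f.base x, hyV⟩).asIdeal := by
      congr 2
      exact Subtype.ext hf
    exact e2.trans (e3.trans e1.symm)
  have hPP : hU.primeIdealOf ⟨x', hx'U⟩ = hU.primeIdealOf ⟨x, hxU⟩ := by
    by_contra hne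
    have hlt : (hU.primeIdealOf ⟨x', hx'U⟩).asIdeal < (hU.primeIdealOf ⟨x, hxU⟩).asIdeal :=
      lt_of_le_of_ne hle (fun h => hne (PrimeSpectrum.ext h))
    obtain ⟨-, b, hbJ, hbI⟩ := SetLike.lt_iff_le_and_exists.mp hlt
    obtain ⟨p, p_monic, hpx⟩ := hint b
    have := Ideal.comap_lt_comap_of_root_mem_sdiff (f := φ.hom) hle ⟨hbJ, hbI⟩
      (Polynomial.map_monic_ne_zero p_monic) (by rw [hpx]; exact Ideal.zero_mem _)
    rw [heq] at this
    exact lt_irrefl _ this
  have h14 := congrArg (fun q => hU.fromSpec.base q) hPP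
  simp only [hU.fromSpec_primeIdealOf] at h14
  exact h14.symm

/-- If the residue field extension of a composite at a point is bijective, so is the residue
field extension of the second morphism at the image point. -/
theorem bijective_residueFieldMap_of_comp {A B C : Scheme.{u}} (ρ : A ⟶ B) (g : B ⟶ C) (a : A)
    (h : Function.Bijective ((ρ ≫ g).residueFieldMap a).hom) :
    Function.Bijective (g.residueFieldMap (ρ a)).hom := by
  refine ⟨(g.residueFieldMap (ρ a)).hom.injective, ?_⟩
  intro y
  rw [Scheme.residueFieldMap_comp] at h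
  obtain ⟨z, hz⟩ := h.2 ((ρ.residueFieldMap a).hom y)
  refine ⟨z, (ρ.residueFieldMap a).hom.injective ?_⟩
  exact hz

end Integral

section Sq

variable {P X Y Y' : Scheme.{u}} {a : P ⟶ X} {b : P ⟶ Y'} {f : X ⟶ Y} {g : Y' ⟶ Y}

theorem iso_fst (sq : IsPullback a b f g) (p : P) :
    (pullback.fst f g) (sq.isoPullback.hom p) = a p := by
  rw [← Scheme.Hom.comp_apply, sq.isoPullback_hom_fst]

theorem iso_snd (sq : IsPullback a b f g) (p : P) :
    (pullback.snd f g) (sq.isoPullback.hom p) = b p := by
  rw [← Scheme.Hom.comp_apply, sq.isoPullback_hom_snd]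

theorem iso_inv_hom (sq : IsPullback a b f g) (p : P) :
    sq.isoPullback.inv (sq.isoPullback.hom p) = p := by
  rw [← Scheme.Hom.comp_apply, Iso.hom_inv_id]; rfl

theorem iso_hom_inv (sq : IsPullback a b f g) (q : ↥(pullback f g)) :
    sq.isoPullback.hom (sq.isoPullback.inv q) = q := by
  rw [← Scheme.Hom.comp_apply, Iso.inv_hom_id]; rfl

theorem comm_apply (sq : IsPullback a b f g) (p : P) : f (a p) = g (b p) := by
  have e := congrArg (fun φ : P ⟶ Y => φ p) sq.w
  simp only [Scheme.Hom.comp_apply] at e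
  exact e

/-- Two points of a pullback square with the same projections are equal as soon as the residue
field extension of `g` at the second projection is bijective. -/
theorem point_ext (sq : IsPullback a b f g) (p₁ p₂ : P) (h₁ : a p₁ = a p₂) (h₂ : b p₁ = b p₂)
    (hbij : Function.Bijective (g.residueFieldMap (b p₂)).hom) : p₁ = p₂ := by
  have key : sq.isoPullback.hom p₁ = sq.isoPullback.hom p₂ := by
    apply pullback_point_ext
    · rw [iso_fst, iso_fst, h₁]
    · rw [iso_snd, iso_snd, h₂]
    · rw [iso_snd]; exact hbij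
  calc p₁ = sq.isoPullback.inv (sq.isoPullback.hom p₁) := (iso_inv_hom sq p₁).symm
    _ = sq.isoPullback.inv (sq.isoPullback.hom p₂) := by rw [key]
    _ = p₂ := iso_inv_hom sq p₂

theorem trn_iso (sq : IsPullback a b f g) (p : P) :
    trn (pullback.snd f g) (sq.isoPullback.hom p) = trn b p := by
  rw [← ClosedSub.trn_comp_preimmersion sq.isoPullback.hom (pullback.snd f g) p,
    sq.isoPullback_hom_snd]

theorem trn_eq_of_bijective [LocallyOfFiniteType f] (sq : IsPullback a b f g) (p : P)
    (hbij : Function.Bijective (g.residueFieldMap (b p)).hom) : trn b p = trn f (a p) := by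
  have h1 := ValBaseFib.trn_pullback_of_bijective f g (sq.isoPullback.hom p)
    (by rw [iso_snd]; exact hbij)
  rw [iso_fst, trn_iso] at h1
  exact h1

/-- A point of a pullback square which is maximal in its fibre maps to a point which is maximal
in its fibre, with the same transcendence degree. -/
theorem max_fibre [LocallyOfFiniteType f] (sq : IsPullback a b f g) (p : P)
    (hmax : ∀ t : P, b t = b p → t ⤳ p → t = p) :
    (∀ t : X, f t = f (a p) → t ⤳ a p → t = a p) ∧ trn b p = trn f (a p) := by
  have hmax' : ∀ t : ↥(pullback f g), (pullback.snd f g) t =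
      (pullback.snd f g) (sq.isoPullback.hom p) → t ⤳ sq.isoPullback.hom p →
      t = sq.isoPullback.hom p := by
    intro t ht hsp
    have ht' : b (sq.isoPullback.inv t) = b p := by
      rw [← iso_snd sq, iso_hom_inv, ht, iso_snd]
    have hsp' : sq.isoPullback.inv t ⤳ p := by
      have := hsp.map sq.isoPullback.inv.continuous
      rwa [iso_inv_hom] at this
    have := hmax _ ht' hsp'
    rw [← this, iso_hom_inv]
  have h := BaseChange.max_fibre_pullback f g (sq.isoPullback.hom p) hmax'
  rw [iso_fst, trn_iso] at h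
  exact h

/-- Over an integral `g`, a point lying over a maximal point of a fibre of `f` is maximal in its
fibre of the base change. -/
theorem max_of_integral (sq : IsPullback a b f g) [IsIntegralHom g] (p : P)
    (hmax : ∀ t : X, f t = f (a p) → t ⤳ a p → t = a p) :
    ∀ t : P, b t = b p → t ⤳ p → t = p := by
  intro t ht hsp
  haveI : IsIntegralHom a :=
    MorphismProperty.of_isPullback (P := @IsIntegralHom) sq.flip inferInstance
  have h1 : a t = a p := by
    apply hmax
    · rw [comm_apply sq, comm_apply sq, ht]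
    · exact hsp.map a.continuous
  exact (eq_of_specializes_of_isIntegralHom a p t hsp h1).symm

end Sq

section Fin

/-- The hypothesis of EGA IV 14.5: every finite base change of `f` is open at the points
over `x`. -/
def FinOpenAt {X Y : Scheme.{u}} (f : X ⟶ Y) (x : X) : Prop :=
  ∀ (Y' : Scheme.{u}) (g : Y' ⟶ Y) [IsFinite g], ∀ x' : ↥(pullback f g),
    (pullback.fst f g).base x' = x → IsOpenAt (pullback.snd f g).base x'

variable {P X Y Y' : Scheme.{u}} {a : P ⟶ X} {b : P ⟶ Y'} {f : X ⟶ Y} {g : Y' ⟶ Y}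

theorem FinOpenAt.of_isPullback {x : X} (h : FinOpenAt f x) (sq : IsPullback a b f g)
    [IsFinite g] (p : P) (hp : a.base p = x) : IsOpenAt b.base p := by
  have h1 : IsOpenAt (pullback.snd f g).base (sq.isoPullback.hom.base p) := by
    apply h Y' g
    rw [← Scheme.Hom.comp_apply, sq.isoPullback_hom_fst]; exact hp
  have h2 : IsOpenAt sq.isoPullback.hom.base p :=
    isOpenAt_of_isOpenMap (Scheme.homeoOfIso sq.isoPullback).isOpenMap p
  have h3 := isOpenAt_comp _ _ p h2 h1
  rw [← coe_comp_base, sq.isoPullback_hom_snd] at h3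
  exact h3

theorem FinOpenAt.baseChange {x : X} (h : FinOpenAt f x) (sq : IsPullback a b f g)
    [IsFinite g] (p : P) (hp : a.base p = x) : FinOpenAt b p := by
  intro Y'' g' _ x'' hx''
  have big := (IsPullback.of_hasPullback b g').paste_horiz sq
  apply h.of_isPullback big x''
  rw [Scheme.Hom.comp_apply, hx'', hp]

end Fin

section Limit

variable {J : Type u} [Category.{u} J] [IsCofiltered J] (D : J ⥤ Scheme.{u})
  [∀ {i j} (φ : i ⟶ j), IsAffineHom (D.map φ)] (c : Cone D) (hc : IsLimit c)

omit [IsCofiltered J] [∀ {i j} (φ : i ⟶ j), IsAffineHom (D.map φ)] in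
theorem not_specializes_of_hom {j j' : J} (φ : j' ⟶ j) {p q : c.pt}
    (h : ¬ (c.π.app j) p ⤳ (c.π.app j) q) : ¬ (c.π.app j') p ⤳ (c.π.app j') q := by
  intro hsp
  apply h
  have h1 := hsp.map (D.map φ).continuous
  have e : ∀ r : c.pt, (D.map φ) ((c.π.app j') r) = (c.π.app j) r := by
    intro r
    rw [← Scheme.Hom.comp_apply, c.w φ]
  rw [e, e] at h1
  exact h1

include hc in
/-- In a cofiltered limit of schemes with affine transition maps, a non-specialization is detected
at some stage. -/
theorem exists_not_specializes {p q : c.pt} (h : ¬ p ⤳ q) :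
    ∃ j, ¬ (c.π.app j) p ⤳ (c.π.app j) q := by
  rw [specializes_iff_forall_open] at h
  push Not at h
  obtain ⟨W, hW, hqW, hpW⟩ := h
  obtain ⟨_, ⟨j, V, hV, rfl⟩, hqV, hVW⟩ := TopologicalSpace.Opens.isBasis_iff_nbhd.mp
    (isBasis_preimage_isAffineOpen D c hc) (U := ⟨W, hW⟩) hqW
  refine ⟨j, fun hsp => hpW (hVW ?_)⟩
  exact hsp.mem_open V.2 hqV

include hc in
theorem exists_stage_not_specializes (F : Finset c.pt) (q : c.pt) (h : ∀ p ∈ F, ¬ p ⤳ q) :
    ∃ j, ∀ p ∈ F, ¬ (c.π.app j) p ⤳ (c.π.app j) q := by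
  classical
  induction F using Finset.induction_on with
  | empty => exact ⟨(IsCofiltered.nonempty (C := J)).some, fun p hp => absurd hp (Finset.notMem_empty p)⟩
  | insert p₀ s _ ih =>
    obtain ⟨j₁, h₁⟩ := ih (fun p hp => h p (Finset.mem_insert_of_mem hp))
    obtain ⟨j₂, h₂⟩ := exists_not_specializes D c hc (h p₀ (Finset.mem_insert_self p₀ s))
    refine ⟨IsCofiltered.min j₁ j₂, fun p hp => ?_⟩
    rcases Finset.mem_insert.mp hp with rfl | hp
    · exact not_specializes_of_hom D c (IsCofiltered.minToRight j₁ j₂) h₂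
    · exact not_specializes_of_hom D c (IsCofiltered.minToLeft j₁ j₂) (h₁ p hp)

end Limit

end Groth.Agent.Lib.Helper8.PullbackSq
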