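/-
Helper8 library: descent of (universal) openness at a point along closed surjective base changes.

* `isOpenAt_of_closed_surjective_top`: the topological core;
* `isOpenAt_of_isPullback_of_closed_surjective`: scheme version for an arbitrary pullback square;
* `exists_isPullback_baseChange`: the base change of a pullback square along `g : Y' ⟶ Y`;
* `isUnivOpenAt_of_isPullback_of_universallyClosed_surjective`.
-/
import Groth.Agent.Lib.Helper8.UnivOpen

set_option autoImplicit false
universe u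

open CategoryTheory AlgebraicGeometry CategoryTheory.Limits EGA43

namespace Groth.Agent.Lib.Helper8

section Top

variable {P X Y Y₁ : Type*} [TopologicalSpace P] [TopologicalSpace X] [TopologicalSpace Y]
  [TopologicalSpace Y₁]

theorem isOpenAt_of_closed_surjective_top (a : P → X) (b : P → Y₁) (f : X → Y) (v : Y₁ → Y)
    (ha : Continuous a) (hcomm : ∀ p, f (a p) = v (b p))
    (hpt : ∀ x y₁, f x = v y₁ → ∃ p, a p = x ∧ b p = y₁)
    (hv : IsClosedMap v) (hsurj : Function.Surjective v) (x : X)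
    (h : ∀ p, a p = x → IsOpenAt b p) : IsOpenAt f x := by
  intro U hU
  obtain ⟨U', hU'U, hU'o, hxU'⟩ := mem_nhds_iff.mp hU
  refine Filter.mem_of_superset ?_ (Set.image_mono hU'U)
  set W : Set Y₁ := interior (v ⁻¹' (f '' U')) with hW
  have hfib : ∀ y₁, v y₁ = f x → y₁ ∈ W := by
    intro y₁ hy₁
    obtain ⟨p, hp1, hp2⟩ := hpt x y₁ hy₁.symm
    have h1 : a ⁻¹' U' ∈ nhds p := ha.continuousAt (hU'o.mem_nhds (by rw [hp1]; exact hxU'))
    have h2 := h p hp1 _ h1
    rw [hp2] at h2
    rw [hW, mem_interior_iff_mem_nhds]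
    refine Filter.mem_of_superset h2 ?_
    rintro _ ⟨q, hq, rfl⟩
    exact ⟨a q, hq, hcomm q⟩
  have hVo : IsOpen (v '' Wᶜ)ᶜ := (hv _ isOpen_interior.isClosed_compl).isOpen_compl
  have hfxV : f x ∈ (v '' Wᶜ)ᶜ := by
    rintro ⟨y₁, hy₁, hy₁x⟩
    exact hy₁ (hfib y₁ hy₁x)
  refine Filter.mem_of_superset (hVo.mem_nhds hfxV) ?_
  intro y' hy'
  obtain ⟨y₁', rfl⟩ := hsurj y'
  have hy₁W : y₁' ∈ W := by
    by_contra hcon
    exact hy' ⟨y₁', hcon, rfl⟩
  have h3 : y₁' ∈ v ⁻¹' (f '' U') := interior_subset hy₁W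
  exact h3

/-- A set whose trace on every member of a finite closed cover through `y` is a relative
neighbourhood of `y` is a neighbourhood of `y`. -/
theorem mem_nhds_of_finite_closed_cover {ι : Type*} [Finite ι] (C : ι → Set Y)
    (hC : ∀ i, IsClosed (C i)) (hcov : ⋃ i, C i = Set.univ) (y : Y) (S : Set Y)
    (h : ∀ i, y ∈ C i → ∃ O : Set Y, IsOpen O ∧ y ∈ O ∧ O ∩ C i ⊆ S) : S ∈ nhds y := by
  classical
  choose! O hO using h
  let O' : ι → Set Y := fun i => if y ∈ C i then O i else (C i)ᶜ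
  have hO'o : ∀ i, IsOpen (O' i) := by
    intro i
    by_cases hi : y ∈ C i
    · simp only [O', if_pos hi]; exact (hO i hi).1
    · simp only [O', if_neg hi]; exact (hC i).isOpen_compl
  have hO'y : ∀ i, y ∈ O' i := by
    intro i
    by_cases hi : y ∈ C i
    · simp only [O', if_pos hi]; exact (hO i hi).2.1
    · simp only [O', if_neg hi]; exact hi
  have hopen : IsOpen (⋂ i, O' i) := isOpen_iInter_of_finite hO'o
  refine Filter.mem_of_superset (hopen.mem_nhds (Set.mem_iInter.mpr hO'y)) ?_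
  intro z hz
  rw [Set.mem_iInter] at hz
  have hzu : z ∈ ⋃ i, C i := by rw [hcov]; trivial
  obtain ⟨j, hj⟩ := Set.mem_iUnion.mp hzu
  have hzj := hz j
  by_cases hyj : y ∈ C j
  · simp only [O', if_pos hyj] at hzj
    exact (hO j hyj).2.2 ⟨hzj, hj⟩
  · simp only [O', if_neg hyj] at hzj
    exact absurd hj hzj

end Top

section Sch

theorem isOpenAt_of_isPullback_of_closed_surjective {P X Y Y₁ : Scheme.{u}} {a : P ⟶ X}
    {b : P ⟶ Y₁} {f : X ⟶ Y} {v : Y₁ ⟶ Y} (sq : IsPullback a b f v) (hv : IsClosedMap v.base)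
    (hs : Function.Surjective v.base) (x : X)
    (h : ∀ p : P, a.base p = x → IsOpenAt b.base p) : IsOpenAt f.base x := by
  refine isOpenAt_of_closed_surjective_top a.base b.base f.base v.base a.continuous ?_ ?_ hv hs x h
  · intro p
    have := congrArg (fun φ : P ⟶ Y => φ.base p) sq.w
    simpa only [Scheme.Hom.comp_apply] using this
  · intro x y₁ hxy
    exact Scheme.exists_preimage_of_isPullback sq x y₁ hxy

/-- Base change of a pullback square `(a, b, f, v)` along `g : Y' ⟶ Y`: the pullback of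
`f' = pullback.snd f g` and `v' = pullback.snd v g` maps to `P` and is the pullback of `b` along
`pullback.fst v g`. -/
theorem exists_isPullback_baseChange {P X Y Y₁ Y' : Scheme.{u}} {a : P ⟶ X} {b : P ⟶ Y₁}
    {f : X ⟶ Y} {v : Y₁ ⟶ Y} (sq : IsPullback a b f v) (g : Y' ⟶ Y) :
    ∃ c : pullback (pullback.snd f g) (pullback.snd v g) ⟶ P,
      c ≫ a = pullback.fst (pullback.snd f g) (pullback.snd v g) ≫ pullback.fst f g ∧
      IsPullback c (pullback.snd (pullback.snd f g) (pullback.snd v g)) b (pullback.fst v g) := by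
  have hcomm : (pullback.fst (pullback.snd f g) (pullback.snd v g) ≫ pullback.fst f g) ≫ f =
      (pullback.snd (pullback.snd f g) (pullback.snd v g) ≫ pullback.fst v g) ≫ v := by
    rw [Category.assoc, pullback.condition, ← Category.assoc, pullback.condition, Category.assoc,
      ← pullback.condition, Category.assoc]
  have e1 : sq.lift _ _ hcomm ≫ a =
      pullback.fst (pullback.snd f g) (pullback.snd v g) ≫ pullback.fst f g := sq.lift_fst _ _ _
  have e3 : sq.lift _ _ hcomm ≫ b =
      pullback.snd (pullback.snd f g) (pullback.snd v g) ≫ pullback.fst v g := sq.lift_snd _ _ _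
  have e2 : pullback.fst v g ≫ v = pullback.snd v g ≫ g := pullback.condition
  have big := (IsPullback.of_hasPullback (pullback.snd f g) (pullback.snd v g)).paste_horiz
    (IsPullback.of_hasPullback f g)
  have big' : IsPullback (sq.lift _ _ hcomm ≫ a)
      (pullback.snd (pullback.snd f g) (pullback.snd v g)) f (pullback.fst v g ≫ v) := by
    rw [e1, e2]; exact big
  exact ⟨sq.lift _ _ hcomm, e1, IsPullback.of_right big' e3 sq⟩

theorem isUnivOpenAt_of_isPullback_of_universallyClosed_surjective {P X Y Y₁ : Scheme.{u}}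
    {a : P ⟶ X} {b : P ⟶ Y₁} {f : X ⟶ Y} {v : Y₁ ⟶ Y} (sq : IsPullback a b f v)
    [UniversallyClosed v] [Surjective v] (x : X)
    (h : ∀ p : P, a.base p = x → IsUnivOpenAt b p) : IsUnivOpenAt f x := by
  intro Y' g x' hx'
  obtain ⟨c, hc1, hc2⟩ := exists_isPullback_baseChange sq g
  refine isOpenAt_of_isPullback_of_closed_surjective
    (IsPullback.of_hasPullback (pullback.snd f g) (pullback.snd v g))
    (pullback.snd v g).isClosedMap (pullback.snd v g).surjective x' ?_
  intro p' hp'
  refine isOpenAt_of_isPullback hc2 (c.base p') (h (c.base p') ?_) p' rfl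
  rw [← Scheme.Hom.comp_apply, hc1, Scheme.Hom.comp_apply, hp', hx']

end Sch

end Groth.Agent.Lib.Helper8

namespace Groth.Agent.Lib.Helper8

section Cover

universe w

theorem isOpenAt_of_finite_closed_cover_top {ι : Type w} [Finite ι] {X Y : Type*}
    [TopologicalSpace X] [TopologicalSpace Y] (f : X → Y) (x : X)
    (T : ι → Type*) [∀ i, TopologicalSpace (T i)] (P : ι → Type*) [∀ i, TopologicalSpace (P i)]
    (v : ∀ i, T i → Y) (a : ∀ i, P i → X) (b : ∀ i, P i → T i)
    (hv : ∀ i, Topology.IsClosedEmbedding (v i)) (hcov : ⋃ i, Set.range (v i) = Set.univ)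
    (ha : ∀ i, Continuous (a i)) (hcomm : ∀ i p, f (a i p) = v i (b i p))
    (hpt : ∀ i x y₁, f x = v i y₁ → ∃ p, a i p = x ∧ b i p = y₁)
    (h : ∀ i p, a i p = x → IsOpenAt (b i) p) : IsOpenAt f x := by
  intro U hU
  obtain ⟨U', hU'U, hU'o, hxU'⟩ := mem_nhds_iff.mp hU
  refine Filter.mem_of_superset ?_ (Set.image_mono hU'U)
  refine mem_nhds_of_finite_closed_cover (fun i => Set.range (v i))
    (fun i => (hv i).isClosed_range) hcov (f x) _ ?_
  rintro i ⟨y₁, hy₁⟩
  obtain ⟨p, hp1, hp2⟩ := hpt i x y₁ hy₁.symm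
  have h1 : a i ⁻¹' U' ∈ nhds p :=
    (ha i).continuousAt (hU'o.mem_nhds (by rw [hp1]; exact hxU'))
  have h2 := h i p hp1 _ h1
  rw [hp2] at h2
  obtain ⟨O₁, hO₁sub, hO₁o, hy₁O₁⟩ := mem_nhds_iff.mp h2
  obtain ⟨O, hOo, hOeq⟩ := (hv i).isInducing.isOpen_iff.mp hO₁o
  refine ⟨O, hOo, ?_, ?_⟩
  · rw [← hy₁]
    have : y₁ ∈ v i ⁻¹' O := by rw [hOeq]; exact hy₁O₁
    exact this
  · rintro z ⟨hzO, z₁, rfl⟩
    have hz₁ : z₁ ∈ O₁ := by rw [← hOeq]; exact hzO
    obtain ⟨q, hq, rfl⟩ := hO₁sub hz₁
    exact ⟨a i q, hq, hcomm i q⟩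

theorem isUnivOpenAt_of_finite_closed_cover {X Y : Scheme.{u}} (f : X ⟶ Y) (x : X) {ι : Type w}
    [Finite ι] (T : ι → Scheme.{u}) (g : ∀ i, T i ⟶ Y) [∀ i, IsClosedImmersion (g i)]
    (hcov : ⋃ i, Set.range (g i).base = Set.univ)
    (h : ∀ i, ∀ x' : ↥(pullback f (g i)), (pullback.fst f (g i)).base x' = x →
      IsUnivOpenAt (pullback.snd f (g i)) x') :
    IsUnivOpenAt f x := by
  intro Y' t x' hx'
  choose c hc1 hc2 using fun i =>
    exists_isPullback_baseChange (IsPullback.of_hasPullback f (g i)) t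
  refine isOpenAt_of_finite_closed_cover_top (ι := ι) (pullback.snd f t).base x'
    (fun i => ↥(pullback (g i) t))
    (fun i => ↥(pullback (pullback.snd f t) (pullback.snd (g i) t)))
    (fun i => (pullback.snd (g i) t).base)
    (fun i => (pullback.fst (pullback.snd f t) (pullback.snd (g i) t)).base)
    (fun i => (pullback.snd (pullback.snd f t) (pullback.snd (g i) t)).base)
    (fun i => (pullback.snd (g i) t).isClosedEmbedding) ?_
    (fun i => (pullback.fst (pullback.snd f t) (pullback.snd (g i) t)).continuous) ?_ ?_ ?_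
  · have hr : ∀ i, Set.range (pullback.snd (g i) t).base = t.base ⁻¹' Set.range (g i).base :=
      fun i => Scheme.Pullback.range_snd (g i) t
    simp only [hr]
    rw [← Set.preimage_iUnion, hcov, Set.preimage_univ]
  · intro i p
    have := congrArg (fun φ : pullback (pullback.snd f t) (pullback.snd (g i) t) ⟶ Y' => φ.base p)
      (pullback.condition (f := pullback.snd f t) (g := pullback.snd (g i) t))
    simpa only [Scheme.Hom.comp_apply] using this
  · intro i x₁ y₁ hxy
    exact Scheme.Pullback.exists_preimage_pullback x₁ y₁ hxy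
  · intro i p hp
    refine isOpenAt_of_isPullback (hc2 i) ((c i).base p) (h i ((c i).base p) ?_) p rfl
    rw [← Scheme.Hom.comp_apply, hc1 i, Scheme.Hom.comp_apply, hp, hx']

end Cover

end Groth.Agent.Lib.Helper8
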