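/-
Helper8 library: a valuative criterion for universal openness at a point (for morphisms locally
of finite presentation), and lifting of generizations inside fibres of a base change.
-/
import Mathlib
import Groth.Prelude.Def_Found
import Groth.Prelude.Def_EGA43
import Groth.Agent.Lib.Helper12.UnivOpenDim

set_option autoImplicit false
set_option linter.style.haveILetI false
universe u
open IsLocalRing AlgebraicGeometry CategoryTheory CategoryTheory.Limits

namespace Groth.Agent.Lib.Helper8.UnivOpenVal

open Groth.Agent.Lib.Helper12 Groth.Agent.Lib.Helper12.SchemeDimFT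
open Groth.Agent.Lib.Helper12.SchemeDimIneq Groth.Agent.Lib.Helper12.EquidimSub

/-- **Valuative criterion for universal openness at a point.** -/
theorem isUnivOpenAt_of_valuative {X P : Scheme.{u}} (u : X ⟶ P)
    [LocallyOfFinitePresentation u] (x : X)
    (h : ∀ (V : Type u) [CommRing V] [IsDomain V] [ValuationRing V]
      (ψ : Spec (CommRingCat.of V) ⟶ P) (η : Spec (CommRingCat.of V)),
      (∀ t : Spec (CommRingCat.of V), η ⤳ t) →
      ∀ w₀ : ↥(pullback u ψ), (pullback.fst u ψ).base w₀ = x →
      (pullback.snd u ψ).base w₀ = closedPoint V →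
      ∃ w₁ : ↥(pullback u ψ), w₁ ⤳ w₀ ∧ (pullback.snd u ψ).base w₁ = η) :
    EGA43.IsUnivOpenAt u x := by
  intro Y' g x' hx'
  haveI : LocallyOfFinitePresentation (pullback.snd u g) := inferInstance
  refine ((Groth.Agent.S3404.result (pullback.snd u g) x').2 inferInstance).mpr ?_
  intro y₁ hy₁
  obtain ⟨V, iV1, iV2, iV3, φ, η, hφc, hφη, hηgen, -⟩ :=
    ValBase.exists_valuationRing_spec Y' ((pullback.snd u g).base x') y₁ hy₁
  obtain ⟨w₀', hw₀'1, hw₀'2⟩ := Scheme.Pullback.exists_preimage_pullback
    (f := pullback.snd u g) (g := φ) x' (closedPoint V) hφc.symm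
  let e := pullbackLeftPullbackSndIso u g φ
  have e1 : (pullback.fst u (φ ≫ g)).base (e.hom.base w₀') = x := by
    rw [← Scheme.Hom.comp_apply, pullbackLeftPullbackSndIso_hom_fst, Scheme.Hom.comp_apply,
      hw₀'1, hx']
  have e2 : (pullback.snd u (φ ≫ g)).base (e.hom.base w₀') = closedPoint V := by
    rw [← Scheme.Hom.comp_apply, pullbackLeftPullbackSndIso_hom_snd, hw₀'2]
  obtain ⟨w₁, hw₁sp, hw₁η⟩ := h V (φ ≫ g) η hηgen (e.hom.base w₀') e1 e2
  refine ⟨(pullback.fst (pullback.snd u g) φ).base (e.inv.base w₁), ?_, ?_⟩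
  · have h1 : e.inv.base w₁ ⤳ e.inv.base (e.hom.base w₀') := hw₁sp.map e.inv.continuous
    have h2 : e.inv.base (e.hom.base w₀') = w₀' := by
      rw [← Scheme.Hom.comp_apply, e.hom_inv_id]; rfl
    rw [h2] at h1
    have h3 := h1.map (pullback.fst (pullback.snd u g) φ).continuous
    rwa [hw₀'1] at h3
  · have hc : (pullback.snd u g).base
        ((pullback.fst (pullback.snd u g) φ).base (e.inv.base w₁)) =
        φ.base ((pullback.snd (pullback.snd u g) φ).base (e.inv.base w₁)) :=
      congrArg (fun k : pullback (pullback.snd u g) φ ⟶ Y' => k.base (e.inv.base w₁))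
        (pullback.condition (f := pullback.snd u g) (g := φ))
    rw [hc, ← Scheme.Hom.comp_apply e.inv, pullbackLeftPullbackSndIso_inv_snd_snd, hw₁η, hφη]

/-- Generizations inside the fibres lift along a base change (field extensions are flat). -/
theorem exists_generization_over {X S S₁ : Scheme.{u}} (f : X ⟶ S) (σ : S₁ ⟶ S)
    (xV : ↥(pullback f σ)) (z : X) (hz : z ⤳ (pullback.fst f σ).base xV)
    (hfz : f.base z = f.base ((pullback.fst f σ).base xV)) :
    ∃ zV : ↥(pullback f σ), zV ⤳ xV ∧ (pullback.fst f σ).base zV = z ∧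
      (pullback.snd f σ).base zV = (pullback.snd f σ).base xV := by
  set f' := pullback.snd f σ with hf'
  set p₁ := pullback.fst f σ with hp₁
  set y' := f'.base xV with hy'
  have hsq : IsPullback p₁ f' f σ := IsPullback.of_hasPullback f σ
  let A : f'.fiber y' ⟶ f.fiber (σ.base y') :=
    pullback.map f' (S₁.fromSpecResidueField y') f (S.fromSpecResidueField (σ.base y')) p₁
      (Spec.map (σ.residueFieldMap y')) σ hsq.w.symm (by simp)
  have hP : IsPullback A (f'.fiberToSpecResidueField y') (f.fiberToSpecResidueField (σ.base y'))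
      (Spec.map (σ.residueFieldMap y')) :=
    isPullback_fiberToSpecResidueField_of_isPullback hsq y'
  have hAι : A ≫ f.fiberι (σ.base y') = f'.fiberι y' ≫ p₁ := pullback.lift_fst _ _ _
  haveI : Flat (Spec.map (σ.residueFieldMap y')) :=
    BaseChange.flat_SpecMap_residueFieldMap (f := σ) y'
  haveI : Flat A := MorphismProperty.of_isPullback (P := @Flat) hP.flip inferInstance
  have hgen : GeneralizingMap A.base := Flat.generalizingMap A
  let w : f'.fiber y' := f'.asFiber xV
  have hwι : (f'.fiberι y').base w = xV := f'.fiberι_asFiber xV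
  have hAwι : (f.fiberι (σ.base y')).base (A.base w) = p₁.base xV := by
    have h5 : (A ≫ f.fiberι (σ.base y')).base w = (f'.fiberι y' ≫ p₁).base w := by rw [hAι]
    rw [Scheme.Hom.comp_apply, Scheme.Hom.comp_apply, hwι] at h5
    exact h5
  have hfx : f.base (p₁.base xV) = σ.base y' := by
    have := congrArg (fun ψ : pullback f σ ⟶ S => ψ.base xV) hsq.w
    simpa using this
  have hz' : f.base z = σ.base y' := hfz.trans hfx
  let ζ₀ : f.fiber (σ.base y') := (f.fiberHomeo (σ.base y')).symm ⟨z, hz'⟩
  have hζ₀ : (f.fiberι (σ.base y')).base ζ₀ = z := f.fiberι_fiberHomeo_symm (σ.base y') ⟨z, hz'⟩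
  have hsp : ζ₀ ⤳ A.base w := by
    apply (f.fiberι (σ.base y')).isEmbedding.isInducing.specializes_iff.mp
    rw [hζ₀, hAwι]; exact hz
  obtain ⟨w', hw'sp, hw'A⟩ := hgen hsp
  refine ⟨(f'.fiberι y').base w', ?_, ?_, ?_⟩
  · have := hw'sp.map (f'.fiberι y').continuous
    rwa [hwι] at this
  · have h5 : (f'.fiberι y' ≫ p₁).base w' = (A ≫ f.fiberι (σ.base y')).base w' := by rw [hAι]
    rw [Scheme.Hom.comp_apply, Scheme.Hom.comp_apply, hw'A, hζ₀] at h5
    exact h5
  · have h3 : (f'.fiberι y').base w' ∈ Set.range (f'.fiberι y').base := ⟨w', rfl⟩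
    rw [Scheme.Hom.range_fiberι] at h3
    exact h3

end Groth.Agent.Lib.Helper8.UnivOpenVal
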