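/-
Helper8 library: EGA IV 14.5 — over a Noetherian base, universal openness (at a maximal point of a
fibre) can be tested on finite base changes.

Strategy: reduce to an integral base `T` (finite closed cover by the irreducible components), pass
to the normalization `ν : T' ⟶ T` (integral, surjective, geometrically unibranch), write `ν` as a
cofiltered limit of finite `T`-schemes, and use the hypothesis at a large finite stage to produce a
generization of the given point of `X ×_T T'` over the generic point of `T'` with the same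
transcendence degree. Then Chevalley's criterion over the unibranch base `T'` applies, and universal
openness descends along the universally closed surjective `ν`.
-/
import Mathlib
import Groth.Prelude
import Groth.Agent.Lib.Helper8.PullbackSq
import Groth.Agent.Lib.Helper8.IntegralLimit
import Groth.Agent.Lib.Helper8.UnivOpen2
import Groth.Agent.Lib.Helper8.UnivOpenVal
import Groth.Agent.Lib.Helper8.ChevalleyGen
import Groth.Agent.Lib.Helper8.ChevalleyPt
import Groth.Agent.Lib.Helper8.AffSpaceNormal
import Groth.Agent.Lib.Helper12.OpenFibre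
import Groth.Agent.Lib.Helper12.OpenGen
import Groth.Agent.Lib.Helper12.FibreAvoid
import Groth.Agent.Lib.Helper12.NormAff
import Groth.Agent.Lib.Helper12.EquidimOpen
import Groth.Agent.Lib.Helper7.RedLib
import Groth.Agent.S4926

set_option autoImplicit false
universe u
open CategoryTheory AlgebraicGeometry CategoryTheory.Limits EGA43 Opposite

namespace Groth.Agent.Lib.Helper8.FinBC

open Groth.Agent.Lib.Helper8 Groth.Agent.Lib.Helper8.PullbackSq
open Groth.Agent.Lib.Helper12 Groth.Agent.Lib.Helper12.SchemeDimIneq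
open Groth.Agent.Lib.Helper12.SchemeDimFT Groth.Agent.Lib.Helper12.ClosedSub

set_option linter.style.haveILetI false

section StepC

/-- Chevalley's criterion at a point, in the form used here: if `x` is a maximal point of its fibre
which has a generization `ζ` over a maximal point of the (unibranch) base with the same transcendence
degree, then `f` is universally open at `x`. -/
theorem isUnivOpenAt_of_generization {X S : Scheme.{u}} (f : X ⟶ S) [LocallyOfFiniteType f]
    (hS : ∀ s : S, CAlg2.IsGeomUnibranch (S.presheaf.stalk s))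
    (hopen : ∀ Z ∈ irreducibleComponents (S : Type u), IsOpen Z)
    (x ζ : X) (hζx : ζ ⤳ x) (hmax : ∀ z' : X, f z' = f x → z' ⤳ x → z' = x)
    (hgen : IsMaxPt (f ζ)) (htrn : trn f ζ = trn f x) : IsUnivOpenAt f x := by
  obtain ⟨t, ht⟩ := exists_trn_eq f ζ
  obtain ⟨w, hw⟩ := exists_clSubι_eq X ζ x hζx
  have hdim := OpenFibre.fibreDimAt_clSub_of_max f ζ x hζx hmax w hw
  have hwle : FlatMor.fibreDimAt (clSubι X ζ ≫ f) w ≤ t := by
    rw [hdim, ← htrn, ht]
    exact le_refl _
  have heq := ChevalleyPt.isEquidimAt_clSub' f ζ t ht hgen w hwle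
  haveI : IsReduced (clSub X ζ) :=
    Groth.Agent.Lib.Helper7.isReduced_vanishingIdeal_subscheme _
  have h3 := ChevalleyGen.isUnivOpenAt_of_isEquidimAt_integral (clSubι X ζ ≫ f) hS hopen w heq
  have h4 := Groth.Agent.S4926.result (clSubι X ζ) f w h3
  rw [hw] at h4
  exact h4

/-- Universal openness at a point follows from universal openness at a generization inside the
fibre. -/
theorem isUnivOpenAt_of_generization_in_fibre {X Y : Scheme.{u}} (f : X ⟶ Y) (x x₀ : X)
    (h₀ : x₀ ⤳ x) (hf : f x₀ = f x) (h : IsUnivOpenAt f x₀) : IsUnivOpenAt f x := by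
  intro Y' g x' hx' U hU
  obtain ⟨U', hU'U, hU'o, hxU'⟩ := mem_nhds_iff.mp hU
  obtain ⟨z', hz'1, hz'2, hz'3⟩ := UnivOpenVal.exists_generization_over f g x' x₀
    (by rw [hx']; exact h₀) (by rw [hx']; exact hf)
  have hz'U : z' ∈ U' := hz'1.mem_open hU'o hxU'
  have h1 := h Y' g z' hz'2 U' (hU'o.mem_nhds hz'U)
  rw [hz'3] at h1
  exact Filter.mem_of_superset h1 (Set.image_mono hU'U)

end StepC

section Fin

/-- On a locally Noetherian scheme, the maximal points of a fibre which generize a given point are
finite in number. -/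
theorem finite_max_generizations {X Y : Scheme.{u}} [IsLocallyNoetherian X] (f : X ⟶ Y) (x : X)
    (η : Y) :
    {ζ : X | f ζ = η ∧ (∀ z' : X, f z' = η → z' ⤳ ζ → z' = ζ) ∧ ζ ⤳ x}.Finite := by
  obtain ⟨V, hV, hxV⟩ := NormAff.exists_affine_mem X x
  haveI : IsNoetherianRing Γ(X, V) := IsLocallyNoetherian.component_noetherian ⟨V, hV⟩
  haveI : TopologicalSpace.NoetherianSpace V := noetherianSpace_of_isAffineOpen V hV
  have hfin := FibreAvoid.finite_maxPts_fiber (V.ι ≫ f) η
  apply (hfin.image (fun z : V => V.ι z)).subset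
  rintro ζ ⟨h1, h2, h3⟩
  have hζV : ζ ∈ V := h3.mem_open V.2 hxV
  refine ⟨⟨ζ, hζV⟩, ⟨?_, ?_⟩, rfl⟩
  · exact (Scheme.Hom.comp_apply _ _ _).trans h1
  · intro z' hz' hsp
    have hz'' : f (V.ι z') = η := (Scheme.Hom.comp_apply _ _ _).symm.trans hz'
    have h4 : V.ι z' ⤳ ζ := hsp.map V.ι.continuous
    exact Subtype.ext (h2 (V.ι z') hz'' h4)

end Fin

section Core

theorem overPullback_map_fst {T X : Scheme.{u}} (f : X ⟶ T) {A B : Over T} (k : A ⟶ B) :
    ((Over.pullback f).map k).left ≫ pullback.fst B.hom f = pullback.fst A.hom f ≫ k.left := by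
  simp only [Over.pullback_map_left]
  exact pullback.lift_fst _ _ _

theorem overPullback_map_snd {T X : Scheme.{u}} (f : X ⟶ T) {A B : Over T} (k : A ⟶ B) :
    ((Over.pullback f).map k).left ≫ pullback.snd B.hom f = pullback.snd A.hom f := by
  simp only [Over.pullback_map_left]
  exact pullback.lift_snd _ _ _

set_option backward.isDefEq.respectTransparency false in
attribute [local instance] IsCofiltered.isConnected in
/-- **Core lemma.** Let `ν : T' ⟶ T` be integral, written as a directed limit of finite `T`-schemes,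
and let `η'` be a point of `T'` generizing all points, at which `ν` is residually trivial. If all
finite base changes of `f` are open at the points over the maximal point `x` of its fibre, then every
point `x'` of `T' ×_T X` over `x` has a generization over `η'` with the same transcendence
degree. -/
theorem exists_generization_limit {X T T' : Scheme.{u}} [IsLocallyNoetherian T] (ν : T' ⟶ T)
    [IsIntegralHom ν] (f : X ⟶ T) [LocallyOfFiniteType f]
    {I : Type u} [Preorder I] [IsDirected I (· ≤ ·)] [Nonempty I]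
    (D : Iᵒᵖ ⥤ Over T) (π : (Functor.const Iᵒᵖ).obj (Over.mk ν) ⟶ D)
    (hlim : IsLimit ({ pt := Over.mk ν, π := π } : Cone D))
    (hfin : ∀ i, IsFinite (D.obj i).hom)
    (η' : T') (hη' : ∀ t : T', η' ⤳ t)
    (hbij : Function.Bijective (ν.residueFieldMap η').hom)
    (x : X) (hmax : ∀ z' : X, f z' = f x → z' ⤳ x → z' = x) (hopen : FinOpenAt f x)
    (x' : ↥(pullback ν f)) (hx' : (pullback.snd ν f) x' = x) :
    ∃ ζ' : ↥(pullback ν f), ζ' ⤳ x' ∧ (pullback.fst ν f) ζ' = η' ∧
      trn (pullback.fst ν f) ζ' = trn (pullback.fst ν f) x' := by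
  classical
  by_contra hcon
  push Not at hcon
  haveI : IsLocallyNoetherian X := LocallyOfFiniteType.isLocallyNoetherian f
  have sqν : IsPullback (pullback.snd ν f) (pullback.fst ν f) f ν :=
    (IsPullback.of_hasPullback ν f).flip
  have hmaxx' : ∀ t : ↥(pullback ν f), (pullback.fst ν f) t = (pullback.fst ν f) x' →
      t ⤳ x' → t = x' := max_of_integral sqν x' (by rw [hx']; exact hmax)
  have htrnx' : trn (pullback.fst ν f) x' = trn f x := by
    rw [(max_fibre sqν x' hmaxx').2, hx']
  have h𝒵fin := finite_max_generizations f x (ν η')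
  have hlift : ∀ ζ : X, f ζ = ν η' → ∃ ζ' : ↥(pullback ν f),
      (pullback.fst ν f) ζ' = η' ∧ (pullback.snd ν f) ζ' = ζ := by
    intro ζ hζ
    exact Scheme.Pullback.exists_preimage_pullback η' ζ hζ.symm
  let L : X → ↥(pullback ν f) := fun ζ => if h : f ζ = ν η' then (hlift ζ h).choose else x'
  have hL : ∀ ζ : X, f ζ = ν η' →
      (pullback.fst ν f) (L ζ) = η' ∧ (pullback.snd ν f) (L ζ) = ζ := by
    intro ζ hζ
    simp only [L, dif_pos hζ]
    exact (hlift ζ hζ).choose_spec
  have htrnL : ∀ ζ : X, f ζ = ν η' → trn (pullback.fst ν f) (L ζ) = trn f ζ := by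
    intro ζ hζ
    have h1 := trn_eq_of_bijective sqν (L ζ) (by rw [(hL ζ hζ).1]; exact hbij)
    rw [h1, (hL ζ hζ).2]
  -- the finite set of candidate generizations
  have hS₀ : {ζ : X | (f ζ = ν η' ∧ (∀ z' : X, f z' = ν η' → z' ⤳ ζ → z' = ζ) ∧ ζ ⤳ x) ∧
      trn f ζ = trn f x}.Finite := h𝒵fin.subset (fun ζ hζ => hζ.1)
  -- the limit cone of schemes
  haveI : PreservesLimitsOfSize.{u, u} (Over.pullback f) :=
    (Over.mapPullbackAdj f).rightAdjoint_preservesLimits
  let c₀ : Cone D := { pt := Over.mk ν, π := π }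
  have hc1 : IsLimit ((Over.pullback f).mapCone c₀) := isLimitOfPreserves (Over.pullback f) hlim
  let D' : Iᵒᵖ ⥤ Scheme.{u} := (D ⋙ Over.pullback f) ⋙ Over.forget X
  let c : Cone D' := (Over.forget X).mapCone ((Over.pullback f).mapCone c₀)
  have hc : IsLimit c := isLimitOfPreserves (Over.forget X) hc1
  haveI haff : ∀ {i j : Iᵒᵖ} (φ : i ⟶ j), IsAffineHom (D'.map φ) := by
    intro i j φ
    have e : D'.map φ ≫ pullback.snd (D.obj j).hom f = pullback.snd (D.obj i).hom f :=
      overPullback_map_snd f (D.map φ)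
    haveI : IsFinite (D.obj i).hom := hfin i
    haveI : IsFinite (D.obj j).hom := hfin j
    apply MorphismProperty.of_postcomp (W := @IsAffineHom) (W' := @IsSeparated) (D'.map φ)
      (pullback.snd (D.obj j).hom f) inferInstance
    rw [e]; infer_instance
  let A : Finset ↥c.pt := (hS₀.image L).toFinset
  have hA : ∀ p ∈ A, ¬ p ⤳ (x' : ↥c.pt) := by
    intro p hp hsp
    rw [Set.Finite.mem_toFinset] at hp
    obtain ⟨ζ, ⟨hζ1, hζ2⟩, rfl⟩ := hp
    exact hcon (L ζ) hsp (hL ζ hζ1.1).1 (by rw [htrnL ζ hζ1.1, hζ2, htrnx'])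
  obtain ⟨j, hj⟩ := exists_stage_not_specializes D' c hc A x' hA
  -- the stage `j`
  obtain ⟨g, hg⟩ : ∃ g : (D.obj j).left ⟶ T, g = (D.obj j).hom := ⟨_, rfl⟩
  haveI : IsFinite g := hg ▸ hfin j
  obtain ⟨ρ, hρ⟩ : ∃ ρ : T' ⟶ (D.obj j).left, ρ = (π.app j).left := ⟨_, rfl⟩
  have hρg : ρ ≫ g = ν := by rw [hρ, hg]; exact Over.w (π.app j)
  obtain ⟨q, hq⟩ : ∃ q : pullback ν f ⟶ pullback g f, q = hg ▸ c.π.app j := ⟨_, rfl⟩
  have hq1 : q ≫ pullback.fst g f = pullback.fst ν f ≫ ρ := by
    subst hg; rw [hq, hρ]; exact overPullback_map_fst f (π.app j)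
  have hq2 : q ≫ pullback.snd g f = pullback.snd ν f := by
    subst hg; rw [hq]; exact overPullback_map_snd f (π.app j)
  have hjq : ∀ p ∈ A, ¬ q p ⤳ q x' := by
    subst hg; rw [hq]; exact hj
  have sqj : IsPullback (pullback.snd g f) (pullback.fst g f) f g :=
    (IsPullback.of_hasPullback g f).flip
  haveI : IsLocallyNoetherian (D.obj j).left := LocallyOfFiniteType.isLocallyNoetherian g
  have hxj2 : (pullback.snd g f) (q x') = x := by
    rw [← Scheme.Hom.comp_apply, hq2, hx']
  have hmaxj : ∀ t : ↥(pullback g f), (pullback.fst g f) t = (pullback.fst g f) (q x') →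
      t ⤳ q x' → t = q x' := max_of_integral sqj (q x') (by rw [hxj2]; exact hmax)
  have htrnj : trn (pullback.fst g f) (q x') = trn f x := by
    rw [(max_fibre sqj (q x') hmaxj).2, hxj2]
  have hopenj : IsOpenAt (pullback.fst g f).base (q x') := hopen.of_isPullback sqj (q x') hxj2
  have hz : ρ η' ⤳ (pullback.fst g f) (q x') := by
    have h1 : (pullback.fst g f) (q x') = ρ ((pullback.fst ν f) x') := by
      rw [← Scheme.Hom.comp_apply, hq1, Scheme.Hom.comp_apply]
    rw [h1]
    exact (hη' _).map ρ.continuous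
  obtain ⟨ξ, hξ1, hξ2, hξ3, hξ4⟩ := OpenGen.exists_generization_trn_eq (pullback.fst g f) (q x')
    hmaxj hopenj (ρ η') hz
  have hξmax : ∀ t : ↥(pullback g f), (pullback.fst g f) t = (pullback.fst g f) ξ →
      t ⤳ ξ → t = ξ := by
    intro t ht hsp
    apply hξ3 t _ hsp
    rw [ht, hξ2]
  obtain ⟨hζmax, hζtrn⟩ := max_fibre sqj ξ hξmax
  have hfζ : f ((pullback.snd g f) ξ) = ν η' := by
    rw [comm_apply sqj, hξ2, ← Scheme.Hom.comp_apply, hρg]
  have hζx : (pullback.snd g f) ξ ⤳ x := by
    have h1 := hξ1.map (pullback.snd g f).continuous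
    rwa [hxj2] at h1
  have hζt : trn f ((pullback.snd g f) ξ) = trn f x := by rw [← hζtrn, hξ4, htrnj]
  have hLA : L ((pullback.snd g f) ξ) ∈ A := by
    rw [Set.Finite.mem_toFinset]
    exact ⟨(pullback.snd g f) ξ,
      ⟨⟨hfζ, fun z' hz' hsp => hζmax z' (hz'.trans hfζ.symm) hsp, hζx⟩, hζt⟩, rfl⟩
  have hqL : q (L ((pullback.snd g f) ξ)) = ξ := by
    apply point_ext sqj
    · rw [← Scheme.Hom.comp_apply, hq2, (hL _ hfζ).2]
    · rw [← Scheme.Hom.comp_apply, hq1, Scheme.Hom.comp_apply, (hL _ hfζ).1, hξ2]
    · rw [hξ2]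
      exact bijective_residueFieldMap_of_comp ρ g η' (by rw [hρg]; exact hbij)
  exact hjq _ hLA (by rw [hqL]; exact hξ1)

end Core

section Main

/-- EGA IV 14.5 over an integral Noetherian base. -/
theorem isUnivOpenAt_of_finOpenAt_integral {X T : Scheme.{u}} [IsIntegral T] [IsNoetherian T]
    (f : X ⟶ T) [LocallyOfFiniteType f] (x : X)
    (hmax : ∀ z' : X, f z' = f x → z' ⤳ x → z' = x) (hopen : FinOpenAt f x) :
    IsUnivOpenAt f x := by
  haveI : QuasiCompact (T.fromSpecStalk (genericPoint T)) := inferInstance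
  haveI : QuasiSeparated (T.fromSpecStalk (genericPoint T)) := inferInstance
  haveI : Surjective (T.fromSpecStalk (genericPoint T)).fromNormalization :=
    ⟨NormAff.surjective_fromNormalization T⟩
  obtain ⟨I, iP, iD, iN, D, π, ⟨hlim⟩, hfin⟩ :=
    IntegralLimit.exists_limit_finite (T.fromSpecStalk (genericPoint T)).fromNormalization
  have sqν := (IsPullback.of_hasPullback (T.fromSpecStalk (genericPoint T)).fromNormalization f).flip
  apply isUnivOpenAt_of_isPullback_of_universallyClosed_surjective sqν x
  intro x' hx'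
  obtain ⟨ζ', hζ1, hζ2, hζ3⟩ := exists_generization_limit
    (T.fromSpecStalk (genericPoint T)).fromNormalization f D π hlim hfin
    (genericPoint (T.fromSpecStalk (genericPoint T)).normalization)
    (fun t => genericPoint_specializes t) (NormAff.residueFieldMap_genericPoint_bijective T)
    x hmax hopen x' hx'
  have hS : ∀ s : (T.fromSpecStalk (genericPoint T)).normalization, CAlg2.IsGeomUnibranch
      ((T.fromSpecStalk (genericPoint T)).normalization.presheaf.stalk s) := by
    intro s
    haveI := NormAff.isIntegrallyClosed_stalk T s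
    exact AffSpaceNormal.isGeomUnibranch_of_isIntegrallyClosed _
  have hopenT' : ∀ Z ∈ irreducibleComponents
      ((T.fromSpecStalk (genericPoint T)).normalization : Type u), IsOpen Z := by
    intro Z hZ
    rw [irreducibleComponents_eq_singleton] at hZ
    rw [Set.mem_singleton_iff.mp hZ]; exact isOpen_univ
  refine isUnivOpenAt_of_generization
    (pullback.fst (T.fromSpecStalk (genericPoint T)).fromNormalization f) hS hopenT' x' ζ' hζ1
    ?_ ?_ hζ3
  · exact max_of_integral sqν x' (by rw [hx']; exact hmax)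
  · rw [hζ2]
    intro y hy
    exact ((genericPoint_specializes y).antisymm hy).eq.symm

/-- **EGA IV 14.5** (pointwise form): over a Noetherian base, if all finite base changes of `f`
are open at the points over a maximal point `x` of a fibre, then `f` is universally open at `x`. -/
theorem isUnivOpenAt_of_finOpenAt {X Y : Scheme.{u}} [IsNoetherian Y] (f : X ⟶ Y)
    [LocallyOfFiniteType f] (x : X) (hmax : ∀ z' : X, f z' = f x → z' ⤳ x → z' = x)
    (hopen : FinOpenAt f x) : IsUnivOpenAt f x := by
  have hfinC : (irreducibleComponents (Y : Type u)).Finite :=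
    TopologicalSpace.NoetherianSpace.finite_irreducibleComponents
  haveI : Finite ↥(irreducibleComponents (Y : Type u)) := hfinC.to_subtype
  have hgen : ∀ Z : ↥(irreducibleComponents (Y : Type u)), ∃ η : Y, closure {η} = Z.1 := by
    intro Z
    obtain ⟨η, hη⟩ := QuasiSober.sober Z.2.1 (isClosed_of_mem_irreducibleComponents Z.1 Z.2)
    exact ⟨η, hη.def⟩
  choose η hη using hgen
  apply isUnivOpenAt_of_finite_closed_cover f x (fun Z => clSub Y (η Z)) (fun Z => clSubι Y (η Z))
  · rw [Set.eq_univ_iff_forall]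
    intro y
    refine Set.mem_iUnion.mpr ⟨⟨irreducibleComponent y,
      irreducibleComponent_mem_irreducibleComponents y⟩, ?_⟩
    rw [range_clSubι, hη]
    exact mem_irreducibleComponent
  · intro Z x' hx'
    haveI : IsReduced (clSub Y (η Z)) :=
      Groth.Agent.Lib.Helper7.isReduced_vanishingIdeal_subscheme _
    haveI : IsIntegral (clSub Y (η Z)) := isIntegral_of_irreducibleSpace_of_isReduced _
    haveI : IsLocallyNoetherian (clSub Y (η Z)) :=
      LocallyOfFiniteType.isLocallyNoetherian (clSubι Y (η Z))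
    haveI : CompactSpace (clSub Y (η Z)) :=
      QuasiCompact.compactSpace_of_compactSpace (clSubι Y (η Z))
    haveI : IsNoetherian (clSub Y (η Z)) := {}
    have sq := IsPullback.of_hasPullback f (clSubι Y (η Z))
    apply isUnivOpenAt_of_finOpenAt_integral (pullback.snd f (clSubι Y (η Z))) x'
    · exact max_of_integral sq x' (by rw [hx']; exact hmax)
    · exact hopen.baseChange sq x' hx'

/-- **EGA IV 14.5** (global form): over a Noetherian base, `f` is universally open as soon as all
its finite base changes are open maps. -/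
theorem universallyOpen_of_finite_isOpenMap {X Y : Scheme.{u}} [IsNoetherian Y] (f : X ⟶ Y)
    [LocallyOfFiniteType f]
    (h : ∀ (Y₁ : Scheme.{u}) (g : Y₁ ⟶ Y) [IsFinite g], IsOpenMap (pullback.snd f g).base) :
    UniversallyOpen f := by
  apply ChevalleyFibre.universallyOpen_of_forall_isUnivOpenAt
  intro x
  obtain ⟨x₀, h1, h2, h3⟩ := EquidimOpen.exists_max_generization_in_fibre f x
  apply isUnivOpenAt_of_generization_in_fibre f x x₀ h2 h1
  apply isUnivOpenAt_of_finOpenAt f x₀ h3
  intro Y' g _ x' _
  exact isOpenAt_of_isOpenMap (h Y' g) x'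

end Main

end Groth.Agent.Lib.Helper8.FinBC
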