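import Mathlib
import Groth.Prelude
import Groth.Agent.Lib.Helper8.Hzl.IntegralHens
import Groth.Agent.Lib.Helper8.Hzl.QuasiFiniteLoc

/-!
# Intersection of a subfield with a strict henselization: the algebraic core

* `splits_of_separable_residue`: over a strictly henselian local domain, a monic polynomial with
  separable reduction splits.
* `exists_monogenic`: a finite étale local algebra over a henselian local ring is monogenic.
* `finite_etale_of_essEtale`: an essentially étale local algebra over a noetherian henselian local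
  ring is finite étale.
* `exists_minpoly_lift`, `mem_map_of_aeval_eq`: the minimal polynomial argument.
-/

set_option autoImplicit false

open IsLocalRing Polynomial

universe u

namespace Groth.Agent.Lib.Helper8.SubfieldInter

open Groth.Agent.Lib.Helper8

/-- Over a strictly henselian local domain, a monic polynomial with separable reduction splits. -/
theorem splits_of_separable_residue (S : Type*) [CommRing S] [IsDomain S] [HenselianLocalRing S]
    [IsSepClosed (ResidueField S)] (F : S[X]) (hF : F.Monic)
    (hsep : (F.map (algebraMap S (ResidueField S))).Separable) : F.Splits := by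
  classical
  have hsp : (F.map (algebraMap S (ResidueField S))).Splits :=
    IsSepClosed.splits_of_separable _ hsep
  have hFm : (F.map (algebraMap S (ResidueField S))).Monic := hF.map _
  have hcard : (F.map (algebraMap S (ResidueField S))).roots.card = F.natDegree := by
    rw [← hsp.natDegree_eq_card_roots, hF.natDegree_map]
  have hnodup : (F.map (algebraMap S (ResidueField S))).roots.Nodup := nodup_roots hsep
  have hT : ∀ f : S[X], f.Monic → ∀ a₀ : ResidueField S, aeval a₀ f = 0 →
      aeval a₀ (derivative f) ≠ 0 → ∃ a : S, f.IsRoot a ∧ residue S a = a₀ :=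
    ((HenselianLocalRing.TFAE S).out 0 1).mp ‹HenselianLocalRing S›
  have hlift : ∀ ā ∈ (F.map (algebraMap S (ResidueField S))).roots,
      ∃ a ∈ F.roots, residue S a = ā := by
    intro ā hā
    have h0 : aeval ā (F.map (algebraMap S (ResidueField S))) = 0 := by
      rw [coe_aeval_eq_eval]
      exact (mem_roots hFm.ne_zero).mp hā
    have h1 := hsep.aeval_derivative_ne_zero h0
    rw [derivative_map, aeval_map_algebraMap] at h1
    rw [aeval_map_algebraMap] at h0
    obtain ⟨a, ha, hres⟩ := hT F hF ā h0 h1
    exact ⟨a, (mem_roots hF.ne_zero).mpr ha, hres⟩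
  have hsub : (F.map (algebraMap S (ResidueField S))).roots.toFinset ⊆
      F.roots.toFinset.image (residue S) := by
    intro ā hā
    rw [Multiset.mem_toFinset] at hā
    obtain ⟨a, ha, hres⟩ := hlift ā hā
    exact Finset.mem_image.mpr ⟨a, Multiset.mem_toFinset.mpr ha, hres⟩
  have h1 : F.natDegree ≤ F.roots.card := by
    calc F.natDegree = (F.map (algebraMap S (ResidueField S))).roots.card := hcard.symm
      _ = (F.map (algebraMap S (ResidueField S))).roots.toFinset.card :=
          (Multiset.toFinset_card_of_nodup hnodup).symm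
      _ ≤ (F.roots.toFinset.image (residue S)).card := Finset.card_le_card hsub
      _ ≤ F.roots.toFinset.card := Finset.card_image_le
      _ ≤ F.roots.card := Multiset.toFinset_card_le _
  exact splits_iff_card_roots.mpr (le_antisymm (card_roots' F) h1)

/-- A finite étale local algebra over a henselian local ring is generated by one element, which
is a root of a monic polynomial with separable reduction. -/
theorem exists_monogenic (A E : Type u) [CommRing A] [HenselianLocalRing A]
    [CommRing E] [IsLocalRing E] [Algebra A E] [IsLocalHom (algebraMap A E)]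
    [Module.Finite A E] [Algebra.Etale A E] :
    ∃ (f : A[X]) (θ : E), f.Monic ∧ (f.map (algebraMap A (ResidueField A))).Separable ∧
      aeval θ f = 0 ∧ Algebra.adjoin A {θ} = ⊤ := by
  classical
  have hflat : Module.Flat A E := inferInstance
  have hff : Module.FaithfullyFlat A E := Module.FaithfullyFlat.of_flat_of_isLocalHom
  haveI : FaithfulSMul A E :=
    (faithfulSMul_iff_algebraMap_injective A E).mpr (FaithfulSMul.algebraMap_injective A E)
  have hHE : HenselianLocalRing E := Hzl.henselianLocalRing_of_isIntegral A E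
  obtain ⟨β₀, hβ₀⟩ := Field.exists_primitive_element (ResidueField A) (ResidueField E)
  have hadj₀ : Algebra.adjoin (ResidueField A) {β₀} = ⊤ := by
    rw [← IntermediateField.adjoin_simple_toSubalgebra_of_isAlgebraic (IsAlgebraic.of_finite _ _),
      hβ₀, IntermediateField.top_toSubalgebra]
  have hgmonic : (minpoly (ResidueField A) β₀).Monic :=
    minpoly.monic (Algebra.IsIntegral.isIntegral β₀)
  have hgsep : (minpoly (ResidueField A) β₀).Separable :=
    Algebra.IsSeparable.isSeparable (ResidueField A) β₀
  obtain ⟨f, hfmap, hfdeg, hfmonic⟩ := Polynomial.lifts_and_natDegree_eq_and_monic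
    ((Polynomial.mem_lifts _).mpr
      (Polynomial.map_surjective (residue A) residue_surjective (minpoly (ResidueField A) β₀)))
    hgmonic
  have hcomp : (algebraMap E (ResidueField E)).comp (algebraMap A E) =
      (algebraMap (ResidueField A) (ResidueField E)).comp (residue A) := by
    ext r; rfl
  have hev : ∀ p : A[X], aeval β₀ (p.map (algebraMap A E)) = aeval β₀ (p.map (residue A)) := by
    intro p
    rw [aeval_def, aeval_def, Polynomial.eval₂_map, Polynomial.eval₂_map, hcomp]
  have hroot : ∃ a : E, (f.map (algebraMap A E)).IsRoot a ∧ residue E a = β₀ := by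
    have hT : ∀ f : E[X], f.Monic → ∀ a₀ : ResidueField E, aeval a₀ f = 0 →
        aeval a₀ (derivative f) ≠ 0 → ∃ a : E, f.IsRoot a ∧ residue E a = a₀ :=
      ((HenselianLocalRing.TFAE E).out 0 1).mp hHE
    refine hT (f.map (algebraMap A E)) (hfmonic.map _) β₀ ?_ ?_
    · rw [hev, hfmap]; exact minpoly.aeval _ _
    · rw [Polynomial.derivative_map, hev, ← Polynomial.derivative_map, hfmap]
      exact hgsep.aeval_derivative_ne_zero (minpoly.aeval _ _)
  obtain ⟨a, ha, hares⟩ := hroot
  have hadj : Algebra.adjoin A {a} = ⊤ :=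
    (IsLocalRing.adjoin_residue_eq_top_iff_adjoin_eq_top a).mp (by rw [hares]; exact hadj₀)
  refine ⟨f, a, hfmonic, ?_, ?_, hadj⟩
  · have h1 : f.map (algebraMap A (ResidueField A)) = minpoly (ResidueField A) β₀ := hfmap
    rw [h1]; exact hgsep
  · rw [aeval_def, ← Polynomial.eval_map]; exact ha

/-- An essentially étale local algebra over a noetherian henselian local ring is finite étale. -/
theorem finite_etale_of_essEtale (A E : Type u) [CommRing A] [HenselianLocalRing A]
    [IsNoetherianRing A] [CommRing E] [Algebra A E] (hE : EGA4loc.IsEssentiallyEtale A E) :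
    Module.Finite A E ∧ Algebra.Etale A E := by
  classical
  obtain ⟨C, _, _, q, hqprime, hCet, hq, ⟨e⟩⟩ := hE
  haveI : q.LiesOver (IsLocalRing.maximalIdeal A) := ⟨hq.symm⟩
  obtain ⟨J, hJfin, hJloc, hJlocz⟩ := Hzl.exists_finite_quotient_isLocalization A C q
  let e₁ : Localization.AtPrime q ≃ₐ[C] C ⧸ J :=
    IsLocalization.algEquiv q.primeCompl (Localization.AtPrime q) (C ⧸ J)
  let e₂ : E ≃ₐ[A] C ⧸ J := e.trans (e₁.restrictScalars A)
  haveI : Module.Finite A E := Module.Finite.equiv e₂.symm.toLinearEquiv
  haveI : Algebra.FormallyEtale C (Localization.AtPrime q) :=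
    Algebra.FormallyEtale.of_isLocalization q.primeCompl
  haveI : Algebra.FormallyEtale A (Localization.AtPrime q) :=
    Algebra.FormallyEtale.comp A C (Localization.AtPrime q)
  haveI : Algebra.FormallyEtale A E := Algebra.FormallyEtale.of_equiv e.symm
  haveI : Algebra.FinitePresentation A E :=
    Algebra.FinitePresentation.of_finiteType.mp inferInstance
  exact ⟨inferInstance, {}⟩

/-- If `E = A[θ]`, elements of `I E` are values at `θ` of polynomials with coefficients in `I`. -/
theorem exists_poly_of_mem_map {A E : Type*} [CommRing A] [CommRing E] [Algebra A E] {θ : E}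
    (hθ : Algebra.adjoin A {θ} = ⊤) (I : Ideal A) (x : E)
    (hx : x ∈ I.map (algebraMap A E)) :
    ∃ p : A[X], (∀ i, p.coeff i ∈ I) ∧ aeval θ p = x := by
  have hsurj : Function.Surjective (aeval θ : A[X] →ₐ[A] E) := by
    rw [← AlgHom.range_eq_top, ← Algebra.adjoin_singleton_eq_range_aeval]; exact hθ
  have hmap : I.map (algebraMap A E) =
      (I.map (C : A →+* A[X])).map ((aeval θ : A[X] →ₐ[A] E) : A[X] →+* E) := by
    rw [Ideal.map_map]
    congr 1
    ext a
    simp
  rw [hmap] at hx
  obtain ⟨p, hp, hpx⟩ := (Ideal.mem_map_iff_of_surjective _ hsurj).mp hx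
  exact ⟨p, Ideal.mem_map_C_iff.mp hp, hpx⟩

section core

variable {A S K : Type*} [CommRing A] [CommRing S] [IsDomain S] [Algebra A S] [Field K]
  [Algebra S K]

/-- The minimal polynomial of `θ` over the subfield `L` has coefficients in `D = L ∩ S` when `θ`
is a root of a monic polynomial over `A` which splits in `S`. -/
theorem exists_minpoly_lift (hinj : Function.Injective (algebraMap S K))
    (L : Subfield K) (D : Subalgebra A S) (hD : ∀ x : S, x ∈ D ↔ algebraMap S K x ∈ L)
    (θ : S) (f : A[X]) (hf : f.Monic) (hθ : aeval θ f = 0)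
    (hsplit : (f.map (algebraMap A S)).Splits) :
    ∃ g : D[X], g.Monic ∧ 0 < g.natDegree ∧ ∀ P : D[X], aeval θ P = 0 → g ∣ P := by
  classical
  let φD : D →+* K := (algebraMap S K).comp (algebraMap D S)
  let j : D →+* L := φD.codRestrict L (fun x => (hD x).mp x.2)
  have hjcomp : (algebraMap L K).comp j = φD := by ext x; rfl
  have hjinj : Function.Injective j := by
    intro x y h
    have h1 : algebraMap S K (x : S) = algebraMap S K (y : S) := congrArg Subtype.val h
    exact Subtype.ext (hinj h1)
  have hφD : φD.comp (algebraMap A D) = (algebraMap S K).comp (algebraMap A S) := by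
    ext a; rfl
  have hfLmonic : ((f.map (algebraMap A D)).map j).Monic := (hf.map _).map _
  have hfLK : ((f.map (algebraMap A D)).map j).map (algebraMap L K) =
      (f.map (algebraMap A S)).map (algebraMap S K) := by
    have h0 : (algebraMap L K).comp (j.comp (algebraMap A D)) =
        (algebraMap S K).comp (algebraMap A S) := by
      ext a; rfl
    simp only [Polynomial.map_map]
    rw [h0]
  have hfLroot : aeval (algebraMap S K θ) ((f.map (algebraMap A D)).map j) = 0 := by
    rw [aeval_def, ← Polynomial.eval_map, hfLK, Polynomial.eval_map, Polynomial.eval₂_map,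
      ← Polynomial.hom_eval₂, ← aeval_def, hθ, map_zero]
  have hint : IsIntegral L (algebraMap S K θ) :=
    ⟨(f.map (algebraMap A D)).map j, hfLmonic, by rw [← aeval_def]; exact hfLroot⟩
  have hgLmonic : (minpoly L (algebraMap S K θ)).Monic := minpoly.monic hint
  have hgLdvd : minpoly L (algebraMap S K θ) ∣ (f.map (algebraMap A D)).map j :=
    minpoly.dvd L _ hfLroot
  have hgKmonic : ((minpoly L (algebraMap S K θ)).map (algebraMap L K)).Monic := hgLmonic.map _
  have hgKdvd : (minpoly L (algebraMap S K θ)).map (algebraMap L K) ∣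
      (f.map (algebraMap A S)).map (algebraMap S K) := by
    rw [← hfLK]; exact Polynomial.map_dvd _ hgLdvd
  have hfKsplit : ((f.map (algebraMap A S)).map (algebraMap S K)).Splits := hsplit.map _
  have hfKne : (f.map (algebraMap A S)).map (algebraMap S K) ≠ 0 := ((hf.map _).map _).ne_zero
  have hgKsplit : ((minpoly L (algebraMap S K θ)).map (algebraMap L K)).Splits :=
    hfKsplit.of_dvd hfKne hgKdvd
  have hroots : ∀ a ∈ ((minpoly L (algebraMap S K θ)).map (algebraMap L K)).roots,
      a ∈ (algebraMap S K).range := by
    intro a ha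
    have h1 : a ∈ ((f.map (algebraMap A S)).map (algebraMap S K)).roots :=
      Multiset.mem_of_le (Polynomial.roots.le_of_dvd hfKne hgKdvd) ha
    rw [hsplit.roots_map_of_injective hinj, Multiset.mem_map] at h1
    obtain ⟨s, _, rfl⟩ := h1
    exact ⟨s, rfl⟩
  have hliftS : (minpoly L (algebraMap S K θ)).map (algebraMap L K) ∈
      Polynomial.lifts (algebraMap S K) :=
    hgKsplit.mem_lift_of_roots_mem_range hgKmonic (algebraMap S K) hroots
  have hliftD : (minpoly L (algebraMap S K θ)).map (algebraMap L K) ∈ Polynomial.lifts φD := by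
    rw [Polynomial.lifts_iff_coeff_lifts] at hliftS ⊢
    intro n
    obtain ⟨s, hs⟩ := hliftS n
    have hsD : s ∈ D := by
      rw [hD, hs, Polynomial.coeff_map]
      exact ((minpoly L (algebraMap S K θ)).coeff n).2
    exact ⟨⟨s, hsD⟩, hs⟩
  obtain ⟨g, hgmap, hgdeg, hgmonic⟩ :=
    Polynomial.lifts_and_natDegree_eq_and_monic hliftD hgKmonic
  have hgLdeg : 0 < (minpoly L (algebraMap S K θ)).natDegree := minpoly.natDegree_pos hint
  have hgKdeg : ((minpoly L (algebraMap S K θ)).map (algebraMap L K)).natDegree =
      (minpoly L (algebraMap S K θ)).natDegree := hgLmonic.natDegree_map _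
  have hgpos : 0 < g.natDegree := by rw [hgdeg, hgKdeg]; exact hgLdeg
  have hgroot : g.eval₂ φD (algebraMap S K θ) = 0 := by
    rw [← Polynomial.eval_map, hgmap, Polynomial.eval_map, ← aeval_def]
    exact minpoly.aeval L _
  refine ⟨g, hgmonic, hgpos, fun P hP => ?_⟩
  have hP' : P.eval₂ φD (algebraMap S K θ) = 0 := by
    have h1 := congrArg (algebraMap S K) hP
    rw [aeval_def, Polynomial.hom_eval₂, map_zero] at h1
    exact h1
  rw [← Polynomial.modByMonic_eq_zero_iff_dvd hgmonic]
  by_contra hr
  have hg1 : g ≠ 1 := by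
    intro h
    rw [h, Polynomial.natDegree_one] at hgpos
    exact lt_irrefl _ hgpos
  have hdeg : (P %ₘ g).natDegree < g.natDegree :=
    Polynomial.natDegree_modByMonic_lt P hgmonic hg1
  have hr0 : (P %ₘ g).eval₂ φD (algebraMap S K θ) = 0 := by
    have h1 := congrArg (Polynomial.eval₂ φD (algebraMap S K θ))
      (Polynomial.modByMonic_add_div P g)
    rw [Polynomial.eval₂_add, Polynomial.eval₂_mul, hgroot, zero_mul, add_zero, hP'] at h1
    exact h1
  have hdvd : minpoly L (algebraMap S K θ) ∣ (P %ₘ g).map j := by
    apply minpoly.dvd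
    rw [aeval_def, Polynomial.eval₂_map, hjcomp]
    exact hr0
  have hne : (P %ₘ g).map j ≠ 0 := by
    intro h
    apply hr
    apply Polynomial.map_injective j hjinj
    rw [h, Polynomial.map_zero]
  have h2 := Polynomial.natDegree_le_of_dvd hdvd hne
  have h3 : ((P %ₘ g).map j).natDegree ≤ (P %ₘ g).natDegree := Polynomial.natDegree_map_le
  omega

/-- If `x ∈ D = L ∩ S` is the value at `θ` of a polynomial with coefficients in `I`, then
`x ∈ I D`. -/
theorem mem_map_of_aeval_eq (hinj : Function.Injective (algebraMap S K))
    (L : Subfield K) (D : Subalgebra A S) (hD : ∀ x : S, x ∈ D ↔ algebraMap S K x ∈ L)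
    (θ : S) (f : A[X]) (hf : f.Monic) (hθ : aeval θ f = 0)
    (hsplit : (f.map (algebraMap A S)).Splits)
    (I : Ideal A) (x : D) (p : A[X]) (hp : ∀ i, p.coeff i ∈ I)
    (hx : aeval θ p = algebraMap D S x) :
    x ∈ I.map (algebraMap A D) := by
  obtain ⟨g, hgmonic, hgpos, hg⟩ := exists_minpoly_lift hinj L D hD θ f hf hθ hsplit
  have hP : aeval θ (C x - p.map (algebraMap A D)) = 0 := by
    rw [map_sub, aeval_C, aeval_map_algebraMap, hx]
    exact sub_self _
  have h1 : (C x - p.map (algebraMap A D)) %ₘ g = 0 :=
    (Polynomial.modByMonic_eq_zero_iff_dvd hgmonic).mpr (hg _ hP)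
  rw [Polynomial.sub_modByMonic] at h1
  have h2 : (C x : D[X]) %ₘ g = C x := by
    rw [Polynomial.modByMonic_eq_self_iff hgmonic]
    exact lt_of_le_of_lt Polynomial.degree_C_le
      (Polynomial.natDegree_pos_iff_degree_pos.mp hgpos)
  rw [h2, sub_eq_zero] at h1
  have h3 : (p.map (algebraMap A D)).map (Ideal.Quotient.mk (I.map (algebraMap A D))) = 0 := by
    ext n
    rw [Polynomial.coeff_map, Polynomial.coeff_map, Polynomial.coeff_zero,
      Ideal.Quotient.eq_zero_iff_mem]
    exact Ideal.mem_map_of_mem _ (hp n)
  have h4 := congrArg (Polynomial.map (Ideal.Quotient.mk (I.map (algebraMap A D)))) h1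
  rw [Polynomial.map_modByMonic _ hgmonic, h3, Polynomial.zero_modByMonic,
    Polynomial.map_C] at h4
  have h5 : Ideal.Quotient.mk (I.map (algebraMap A D)) x = 0 := Polynomial.C_eq_zero.mp h4
  exact Ideal.Quotient.eq_zero_iff_mem.mp h5

end core

end Groth.Agent.Lib.Helper8.SubfieldInter
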