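import Mathlib
import Groth.Agent.Lib.Helper8.EtSplit

/-!
# Finite algebras embed, after a finite free cover, into a finite free algebra covered by sections

For a finite `A`-algebra `B` there are a finite free faithful `A`-algebra `A'`, a finite free
`A'`-algebra `C` with a surjection `C → B ⊗[A] A'` of `A'`-algebras, and finitely many sections
`C → A'` whose kernels "cover" `Spec C`.
-/

set_option autoImplicit false
universe u
open Polynomial TensorProduct

namespace Groth.Agent.Lib.Helper8.FinSections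

section Alg

variable {A' : Type u} [CommRing A'] {N : ℕ} (α : Fin N → A')

/-- The split monic polynomial with roots `α`. -/
noncomputable def splitPoly : A'[X] := ∏ k, (X - C (α k))

lemma splitPoly_monic : (splitPoly α).Monic :=
  monic_prod_of_monic _ _ (fun k _ => monic_X_sub_C (α k))

lemma aeval_splitPoly {D : Type u} [CommRing D] [Algebra A' D] (d : D) :
    aeval d (splitPoly α) = ∏ k, (d - algebraMap A' D (α k)) := by
  simp [splitPoly, map_prod]

variable (ι : Type u) [Fintype ι] [DecidableEq ι]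

/-- The tensor power of `A'[X]/(splitPoly)`. -/
abbrev CAlg : Type u := ⨂[A'] (_ : ι), AdjoinRoot (splitPoly α)

instance : Module.Finite A' (AdjoinRoot (splitPoly α)) := (splitPoly_monic α).finite_adjoinRoot

instance : Module.Free A' (AdjoinRoot (splitPoly α)) := (splitPoly_monic α).free_adjoinRoot

theorem free_CAlg : Module.Free A' (CAlg α ι) :=
  Module.Free.of_basis (Basis.piTensorProduct
    (fun _ : ι => (AdjoinRoot.powerBasis' (splitPoly_monic α)).basis))

theorem finite_CAlg : Module.Finite A' (CAlg α ι) := inferInstance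

variable {ι}

/-- The generators of `CAlg`. -/
noncomputable def tgen (j : ι) : CAlg α ι :=
  PiTensorProduct.singleAlgHom j (AdjoinRoot.root (splitPoly α))

lemma aeval_tgen (j : ι) : aeval (tgen α j) (splitPoly α) = 0 := by
  rw [tgen, aeval_algHom_apply, AdjoinRoot.aeval_eq, AdjoinRoot.mk_self, map_zero]

/-- The universal map out of `CAlg`. -/
noncomputable def liftC {D : Type u} [CommRing D] [Algebra A' D]
    (g : ι → AdjoinRoot (splitPoly α) →ₐ[A'] D) : CAlg α ι →ₐ[A'] D :=
  PiTensorProduct.liftAlgHom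
    ((MultilinearMap.mkPiAlgebra A' ι D).compLinearMap fun i => (g i).toLinearMap)
    (by simp) (by intro x y; simp [Finset.prod_mul_distrib])

lemma liftC_tgen {D : Type u} [CommRing D] [Algebra A' D]
    (g : ι → AdjoinRoot (splitPoly α) →ₐ[A'] D) (j : ι) :
    liftC α g (tgen α j) = g j (AdjoinRoot.root (splitPoly α)) := by
  simp only [liftC, tgen, PiTensorProduct.singleAlgHom_apply, PiTensorProduct.liftAlgHom_apply,
    PiTensorProduct.lift.tprod, MultilinearMap.compLinearMap_apply,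
    MultilinearMap.mkPiAlgebra_apply, AlgHom.toLinearMap_apply, MonoidHom.mulSingle_apply]
  rw [Finset.prod_eq_single j]
  · simp
  · intro i _ hij
    rw [Pi.mulSingle_eq_of_ne hij, map_one]
  · intro h; exact (h (Finset.mem_univ j)).elim

lemma algHom_ext_tgen {D : Type u} [CommRing D] [Algebra A' D] (φ ψ : CAlg α ι →ₐ[A'] D)
    (h : ∀ j, φ (tgen α j) = ψ (tgen α j)) : φ = ψ := by
  apply PiTensorProduct.algHom_ext
  intro j
  apply AdjoinRoot.algHom_ext
  exact h j

/-- The map out of `CAlg` sending the generators to given roots of `splitPoly`. -/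
noncomputable def liftRoots {D : Type u} [CommRing D] [Algebra A' D] (d : ι → D)
    (hd : ∀ j, aeval (d j) (splitPoly α) = 0) : CAlg α ι →ₐ[A'] D :=
  liftC α fun j => AdjoinRoot.liftAlgHom (splitPoly α) (Algebra.ofId A' D) (d j) (hd j)

lemma liftRoots_tgen {D : Type u} [CommRing D] [Algebra A' D] (d : ι → D)
    (hd : ∀ j, aeval (d j) (splitPoly α) = 0) (j : ι) : liftRoots α d hd (tgen α j) = d j := by
  rw [liftRoots, liftC_tgen, AdjoinRoot.liftAlgHom_root]

/-- The section associated with a choice of roots. -/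
noncomputable def sect (σ : ι → Fin N) : CAlg α ι →ₐ[A'] A' :=
  liftRoots α (fun j => α (σ j)) (fun j => by
    rw [aeval_splitPoly]
    exact Finset.prod_eq_zero (Finset.mem_univ (σ j)) (by simp))

theorem exists_sect_le (𝔮 : Ideal (CAlg α ι)) [𝔮.IsPrime] :
    ∃ σ : ι → Fin N, RingHom.ker (sect α σ) ≤ 𝔮 := by
  have h1 : ∀ j : ι, ∃ k : Fin N, tgen α j - algebraMap A' (CAlg α ι) (α k) ∈ 𝔮 := by
    intro j
    have h0 : ∏ k, (tgen α j - algebraMap A' (CAlg α ι) (α k)) ∈ 𝔮 := by
      rw [← aeval_splitPoly, aeval_tgen]; exact 𝔮.zero_mem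
    obtain ⟨k, -, hk⟩ := Ideal.IsPrime.prod_mem_iff.mp h0
    exact ⟨k, hk⟩
  choose σ hσ using h1
  refine ⟨σ, ?_⟩
  have heq : Ideal.Quotient.mkₐ A' 𝔮 =
      (Algebra.ofId A' (CAlg α ι ⧸ 𝔮)).comp (sect α σ) := by
    apply algHom_ext_tgen
    intro j
    rw [AlgHom.comp_apply, sect, liftRoots_tgen, Ideal.Quotient.mkₐ_eq_mk, Algebra.ofId_apply,
      ← Ideal.Quotient.mk_algebraMap]
    exact Ideal.Quotient.eq.mpr (hσ j)
  intro x hx
  have h2 : Ideal.Quotient.mkₐ A' 𝔮 x = 0 := by
    rw [heq, AlgHom.comp_apply, (RingHom.mem_ker).mp hx, map_zero]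
  exact Ideal.Quotient.eq_zero_iff_mem.mp h2

end Alg

section Data

variable (A B : Type u) [CommRing A] [CommRing B] [Algebra A B] [Module.Finite A B]

theorem exists_algebra_data :
    ∃ (A' : Type u) (_ : CommRing A') (_ : Algebra A A') (C : Type u) (_ : CommRing C)
      (_ : Algebra A' C),
      Module.Free A A' ∧ Module.Finite A A' ∧ Function.Injective (algebraMap A A') ∧
      Module.Free A' C ∧ Module.Finite A' C ∧
      ∃ ρ : C →+* B ⊗[A] A', Function.Surjective ρ ∧
        ρ.comp (algebraMap A' C) =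
          (Algebra.TensorProduct.includeRight : A' →ₐ[A] B ⊗[A] A').toRingHom ∧
        ∃ (m : ℕ) (s : Fin m → C →ₐ[A'] A'),
          ∀ 𝔮 : Ideal C, 𝔮.IsPrime → ∃ j, RingHom.ker (s j) ≤ 𝔮 := by
  classical
  obtain ⟨s, hs⟩ := (inferInstance : Algebra.FiniteType A B).out
  have hint : ∀ b : B, ∃ p : A[X], p.Monic ∧ aeval b p = 0 := fun b => by
    obtain ⟨p, hp, hpb⟩ := Algebra.IsIntegral.isIntegral (R := A) b
    exact ⟨p, hp, hpb⟩
  choose p hpm hpb using hint
  have hPm : (∏ b ∈ s, p b).Monic := monic_prod_of_monic _ _ (fun b _ => hpm b)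
  have hPb : ∀ b ∈ s, aeval b (∏ b ∈ s, p b) = 0 := by
    intro b hb
    rw [map_prod]
    exact Finset.prod_eq_zero hb (hpb b)
  obtain ⟨A', _, _, hfree, hfin, hinj, α, hα⟩ :=
    EtSplit.exists_splitting_algebra (∏ b ∈ s, p b).natDegree A (∏ b ∈ s, p b) hPm rfl
  have hsp : splitPoly α = (∏ b ∈ s, p b).map (algebraMap A A') := hα.symm
  have hd : ∀ j : ↥s, aeval ((1 : A') ⊗ₜ[A] (j : B)) (splitPoly α) = 0 := by
    intro j
    rw [hsp, aeval_map_algebraMap]
    have := aeval_algHom_apply (Algebra.TensorProduct.includeRight : B →ₐ[A] A' ⊗[A] B) (j : B)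
      (∏ b ∈ s, p b)
    rw [Algebra.TensorProduct.includeRight_apply] at this
    rw [this, hPb j j.2, map_zero]
  let π : CAlg α ↥s →ₐ[A'] A' ⊗[A] B := liftRoots α (fun j : ↥s => (1 : A') ⊗ₜ[A] (j : B)) hd
  have hπt : ∀ j : ↥s, π (tgen α j) = (1 : A') ⊗ₜ[A] (j : B) := fun j => liftRoots_tgen α _ hd j
  have hsub : ∀ b : B, (1 : A') ⊗ₜ[A] b ∈ π.range := by
    have htop : (π.range.restrictScalars A).comap
        (Algebra.TensorProduct.includeRight : B →ₐ[A] A' ⊗[A] B) = ⊤ := by
      rw [eq_top_iff, ← hs]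
      apply Algebra.adjoin_le
      intro b hb
      exact ⟨tgen α ⟨b, hb⟩, hπt ⟨b, hb⟩⟩
    intro b
    have hb : b ∈ (π.range.restrictScalars A).comap
        (Algebra.TensorProduct.includeRight : B →ₐ[A] A' ⊗[A] B) := by rw [htop]; trivial
    exact hb
  have hπsurj : Function.Surjective π := by
    intro z
    induction z using TensorProduct.induction_on with
    | zero => exact ⟨0, map_zero _⟩
    | tmul a' b =>
      obtain ⟨c, hc⟩ := hsub b
      have hc' : π c = (1 : A') ⊗ₜ[A] b := hc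
      refine ⟨a' • c, ?_⟩
      rw [map_smul, hc', TensorProduct.smul_tmul', smul_eq_mul, mul_one]
    | add x y hx hy =>
      obtain ⟨cx, rfl⟩ := hx
      obtain ⟨cy, rfl⟩ := hy
      exact ⟨cx + cy, map_add _ _ _⟩
  let ρ : CAlg α ↥s →+* B ⊗[A] A' :=
    ((Algebra.TensorProduct.comm A A' B : A' ⊗[A] B ≃ₐ[A] B ⊗[A] A') : A' ⊗[A] B →+* B ⊗[A] A').comp
      (π : CAlg α ↥s →+* A' ⊗[A] B)
  refine ⟨A', inferInstance, inferInstance, CAlg α ↥s, inferInstance, inferInstance, hfree, hfin,
    hinj, free_CAlg α ↥s, finite_CAlg α ↥s, ρ, ?_, ?_,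
    Fintype.card (↥s → Fin (∏ b ∈ s, p b).natDegree),
    fun j => sect α ((Fintype.equivFin (↥s → Fin (∏ b ∈ s, p b).natDegree)).symm j), ?_⟩
  · exact (Algebra.TensorProduct.comm A A' B).surjective.comp hπsurj
  · ext a'
    simp [ρ]
  · intro 𝔮 h𝔮
    obtain ⟨σ, hσ⟩ := exists_sect_le α 𝔮
    refine ⟨Fintype.equivFin _ σ, ?_⟩
    simpa only [Equiv.symm_apply_apply] using hσ

end Data

end Groth.Agent.Lib.Helper8.FinSections
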