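import Mathlib
import Groth.Agent.Lib.Helper8.FinSections

/-!
# Finite morphisms to affine schemes: finite locally free cover with a closed immersion into a
union of sections
-/

set_option autoImplicit false
universe u
open CategoryTheory CategoryTheory.Limits AlgebraicGeometry TensorProduct

namespace Groth.Agent.Lib.Helper8.FinSections

theorem finLocFree_specMap (R S : Type u) [CommRing R] [CommRing S] [Algebra R S]
    [Module.Free R S] [Module.Finite R S] :
    IsFinite (Spec.map (CommRingCat.ofHom (algebraMap R S))) ∧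
      Flat (Spec.map (CommRingCat.ofHom (algebraMap R S))) ∧
      LocallyOfFinitePresentation (Spec.map (CommRingCat.ofHom (algebraMap R S))) := by
  refine ⟨?_, ?_, ?_⟩
  · exact (IsFinite.SpecMap_iff _).mpr (RingHom.finite_algebraMap.mpr inferInstance)
  · exact Flat.SpecMap_iff.mpr (RingHom.flat_algebraMap_iff.mpr inferInstance)
  · haveI : Module.FinitePresentation R S := Module.finitePresentation_of_projective _ _
    exact (LocallyOfFinitePresentation.SpecMap_iff _).mpr
      (RingHom.finitePresentation_algebraMap.mpr inferInstance)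

theorem exists_cover_spec (A B : Type u) [CommRing A] [CommRing B] [Algebra A B]
    [Module.Finite A B] :
    ∃ (X' : Scheme.{u}) (b : X' ⟶ Spec (CommRingCat.of A)) (Z' : Scheme.{u}) (c : Z' ⟶ X')
      (i : pullback (Spec.map (CommRingCat.ofHom (algebraMap A B))) b ⟶ Z'),
      (IsFinite b ∧ Flat b ∧ LocallyOfFinitePresentation b) ∧ Surjective b ∧
      (IsFinite c ∧ Flat c ∧ LocallyOfFinitePresentation c) ∧ IsClosedImmersion i ∧
      i ≫ c = pullback.snd _ b ∧
      ∃ (m : ℕ) (Zj : Fin m → Scheme.{u}) (ιj : ∀ j, Zj j ⟶ Z'),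
        (∀ j, IsClosedImmersion (ιj j)) ∧ (∀ j, IsIso (ιj j ≫ c)) ∧
        (⋃ j, Set.range (ιj j).base) = Set.univ := by
  obtain ⟨A', _, _, C, _, _, hfree, hfin, hinj, hCfree, hCfin, ρ, hρs, hρc, m, s, hs⟩ :=
    exists_algebra_data A B
  have hsurj : ∀ j, Function.Surjective (s j).toRingHom := fun j a =>
    ⟨algebraMap A' C a, (s j).commutes a⟩
  refine ⟨Spec (.of A'), Spec.map (CommRingCat.ofHom (algebraMap A A')), Spec (.of C),
    Spec.map (CommRingCat.ofHom (algebraMap A' C)),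
    (pullbackSpecIso A B A').hom ≫ Spec.map (CommRingCat.ofHom ρ),
    finLocFree_specMap A A', ?_, finLocFree_specMap A' C, ?_, ?_, m, fun _ => Spec (.of A'),
    fun j => Spec.map (CommRingCat.ofHom (s j).toRingHom), ?_, ?_, ?_⟩
  · have hs' : Function.Surjective (PrimeSpectrum.comap (algebraMap A A')) :=
      PrimeSpectrum.comap_surjective_iff_injective_of_finite.mpr hinj
    exact ⟨fun x => by obtain ⟨y, hy⟩ := hs' x; exact ⟨y, hy⟩⟩
  · haveI : IsClosedImmersion (Spec.map (CommRingCat.ofHom ρ)) :=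
      IsClosedImmersion.spec_of_surjective _ hρs
    infer_instance
  · rw [Category.assoc, ← Spec.map_comp, ← CommRingCat.ofHom_comp, hρc]
    exact pullbackSpecIso_hom_snd A B A'
  · intro j
    exact IsClosedImmersion.spec_of_surjective _ (hsurj j)
  · intro j
    have h1 : (s j).toRingHom.comp (algebraMap A' C) = RingHom.id A' := by
      ext a; exact (s j).commutes a
    have h2 : Spec.map (CommRingCat.ofHom (s j).toRingHom) ≫
        Spec.map (CommRingCat.ofHom (algebraMap A' C)) = 𝟙 _ := by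
      rw [← Spec.map_comp, ← CommRingCat.ofHom_comp, h1]
      exact Spec.map_id _
    rw [h2]; infer_instance
  · rw [Set.eq_univ_iff_forall]
    intro z
    obtain ⟨j, hj⟩ := hs z.asIdeal z.isPrime
    refine Set.mem_iUnion.mpr ⟨j, ?_⟩
    have hr : Set.range (Spec.map (CommRingCat.ofHom (s j).toRingHom)).base =
        PrimeSpectrum.zeroLocus (RingHom.ker (s j).toRingHom) :=
      _root_.range_comap_of_surjective _ _ (hsurj j)
    rw [hr]
    exact hj

theorem exists_cover {X Y : Scheme.{u}} [IsAffine X] (f : Y ⟶ X) [IsFinite f] :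
    ∃ (X' : Scheme.{u}) (b : X' ⟶ X) (Z' : Scheme.{u}) (c : Z' ⟶ X') (i : pullback f b ⟶ Z'),
      (IsFinite b ∧ Flat b ∧ LocallyOfFinitePresentation b) ∧ Surjective b ∧
      (IsFinite c ∧ Flat c ∧ LocallyOfFinitePresentation c) ∧ IsClosedImmersion i ∧
      i ≫ c = pullback.snd f b ∧
      ∃ (m : ℕ) (Zj : Fin m → Scheme.{u}) (ιj : ∀ j, Zj j ⟶ Z'),
        (∀ j, IsClosedImmersion (ιj j)) ∧ (∀ j, IsIso (ιj j ≫ c)) ∧
        (⋃ j, Set.range (ιj j).base) = Set.univ := by
  haveI : IsAffine Y := isAffine_of_isAffineHom f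
  have hfin : (f.appTop).hom.Finite :=
    ((HasAffineProperty.iff_of_isAffine (P := @IsFinite)).mp ‹IsFinite f›).2
  letI : Algebra Γ(X, ⊤) Γ(Y, ⊤) := (f.appTop).hom.toAlgebra
  haveI : Module.Finite Γ(X, ⊤) Γ(Y, ⊤) := hfin
  obtain ⟨X', b₀, Z', c, i₀, ⟨hb1, hb2, hb3⟩, hbs, hc, hi₀, hi₀c, m, Zj, ιj, h1, h2, h3⟩ :=
    exists_cover_spec Γ(X, ⊤) Γ(Y, ⊤)
  have e₁ : f ≫ X.isoSpec.hom =
      Y.isoSpec.hom ≫ Spec.map (CommRingCat.ofHom (algebraMap Γ(X, ⊤) Γ(Y, ⊤))) :=
    (Scheme.isoSpec_hom_naturality f).symm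
  have e₂ : (b₀ ≫ X.isoSpec.inv) ≫ X.isoSpec.hom = 𝟙 X' ≫ b₀ := by
    rw [Category.assoc, Iso.inv_hom_id, Category.comp_id, Category.id_comp]
  refine ⟨X', b₀ ≫ X.isoSpec.inv, Z', c,
    pullback.map f (b₀ ≫ X.isoSpec.inv) _ b₀ Y.isoSpec.hom (𝟙 X') X.isoSpec.hom e₁ e₂ ≫ i₀,
    ⟨inferInstance, inferInstance, inferInstance⟩, inferInstance, hc, inferInstance, ?_,
    m, Zj, ιj, h1, h2, h3⟩
  rw [Category.assoc, hi₀c, pullback.lift_snd, Category.comp_id]

end Groth.Agent.Lib.Helper8.FinSections
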