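import Mathlib
import Groth.Agent.Lib.Helper8.IndEtLiftKer

/-!
# Étale-local splitting of an unramified algebra at a prime (Stacks 00UX)

If `R → S` is of finite type and unramified at `q`, there is a standard étale `R`-algebra `R'`
such that `R' ⊗[R] S ≅ A × B` with `R' → A` surjective (in fact `A = S[1/g]`).
-/

set_option autoImplicit false

open TensorProduct

namespace Groth.Agent.Lib.Helper8.UnramSplit

universe u

/-- If the kernel of a surjection `μ : W → A` is generated by an idempotent `ε`,
then `W ≅ A × W/(1-ε)`. -/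
theorem exists_prod_equiv {E W A : Type u} [CommRing E] [CommRing W] [CommRing A] [Algebra E W]
    [Algebra E A] (μ : W →ₐ[E] A) (hμ : Function.Surjective μ) (ε : W) (hε : IsIdempotentElem ε)
    (hker : RingHom.ker μ.toRingHom = Ideal.span {ε}) :
    ∃ e : W ≃ₐ[E] (A × (W ⧸ Ideal.span {1 - ε})), ∀ w, (e w).1 = μ w := by
  let ψ : W →ₐ[E] A × (W ⧸ Ideal.span {1 - ε}) := AlgHom.prod μ (Ideal.Quotient.mkₐ E _)
  have h0 : (1 - ε) * ε = 0 := by rw [sub_mul, one_mul, hε.eq, sub_self]
  have hμε : μ ε = 0 := by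
    have : ε ∈ RingHom.ker μ.toRingHom := by rw [hker]; exact Ideal.mem_span_singleton_self ε
    exact this
  have hinj : Function.Injective ψ := by
    rw [injective_iff_map_eq_zero]
    intro x hx
    have h1 : μ x = 0 := congrArg Prod.fst hx
    have h2 : Ideal.Quotient.mk (Ideal.span {1 - ε}) x = 0 := congrArg Prod.snd hx
    have h1' : x ∈ Ideal.span {ε} := by rw [← hker]; exact h1
    rw [Ideal.Quotient.eq_zero_iff_mem] at h2
    obtain ⟨y, rfl⟩ := Ideal.mem_span_singleton'.mp h1'
    obtain ⟨z, hz⟩ := Ideal.mem_span_singleton'.mp h2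
    have h3 : y * ε = y * ε * ε := by rw [mul_assoc, hε.eq]
    rw [h3, ← hz, mul_assoc, h0, mul_zero]
  have hsurj : Function.Surjective ψ := by
    rintro ⟨a, b⟩
    obtain ⟨a', rfl⟩ := hμ a
    obtain ⟨b', rfl⟩ := Ideal.Quotient.mk_surjective b
    refine ⟨(1 - ε) * a' + ε * b', ?_⟩
    refine Prod.ext ?_ ?_
    · show μ ((1 - ε) * a' + ε * b') = μ a'
      simp [map_add, map_mul, map_sub, hμε]
    · show Ideal.Quotient.mk _ ((1 - ε) * a' + ε * b') = Ideal.Quotient.mk _ b'
      rw [Ideal.Quotient.eq]
      have : (1 - ε) * a' + ε * b' - b' = (a' - b') * (1 - ε) := by ring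
      rw [this]
      exact Ideal.mem_span_singleton'.mpr ⟨_, rfl⟩
  exact ⟨AlgEquiv.ofBijective ψ ⟨hinj, hsurj⟩, fun w => rfl⟩

/-- Stacks 00UX. -/
theorem exists_split (R : Type u) [CommRing R]
    (S : Type u) [CommRing S] [Algebra R S] [Algebra.FiniteType R S] (q : Ideal S) [q.IsPrime]
    [Algebra.IsUnramifiedAt R q] :
    ∃ (R' : Type u) (_ : CommRing R') (_ : Algebra R R') (_ : Algebra.Etale R R') (p' : Ideal R')
      (_ : p'.IsPrime) (_ : p'.LiesOver (q.under R)) (A : Type u) (_ : CommRing A) (_ : Algebra R' A)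
      (B : Type u) (_ : CommRing B) (_ : Algebra R' B) (e : (R' ⊗[R] S) ≃ₐ[R'] (A × B)),
      Function.Surjective (algebraMap R' A) ∧ (p'.map (algebraMap R' A)).IsPrime ∧
        (p'.map (algebraMap R' A)).comap (algebraMap R' A) = p' ∧
        (p'.map (algebraMap R' A)).comap (((RingHom.fst A B).comp e.toRingHom).comp
          (Algebra.TensorProduct.includeRight : S →ₐ[R] R' ⊗[R] S).toRingHom) = q := by
  obtain ⟨g, hgq, P, φ, hφ⟩ :=
    Algebra.IsUnramifiedAt.exists_hasStandardEtaleSurjectionOn (R := R) q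
  letI algESg : Algebra P.Ring (Localization.Away g) := φ.toRingHom.toAlgebra
  haveI : IsScalarTower R P.Ring (Localization.Away g) :=
    IsScalarTower.of_algebraMap_eq (fun r => (φ.commutes r).symm)
  have halg : ∀ x : P.Ring, algebraMap P.Ring (Localization.Away g) x = φ x := fun x => rfl
  -- the `S`-algebra map
  let μ' : S ⊗[R] P.Ring →ₐ[S] Localization.Away g :=
    Algebra.TensorProduct.lift (Algebra.ofId S _) φ (fun _ _ => Commute.all _ _)
  have hμ' : Function.Surjective μ' := fun y => by
    obtain ⟨x, rfl⟩ := hφ y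
    exact ⟨1 ⊗ₜ x, by simp [μ']⟩
  obtain ⟨ε', hε', hker'⟩ := Groth.Agent.Lib.Helper8.IndEt.exists_idempotent_ker μ' hμ'
  -- transport to `P.Ring ⊗ S`
  let c : S ⊗[R] P.Ring ≃ₐ[R] P.Ring ⊗[R] S := Algebra.TensorProduct.comm R S P.Ring
  let μ : P.Ring ⊗[R] S →ₐ[P.Ring] Localization.Away g :=
    Algebra.TensorProduct.lift (Algebra.ofId P.Ring _) (IsScalarTower.toAlgHom R S _)
      (fun _ _ => Commute.all _ _)
  have hμc : ∀ w, μ (c w) = μ' w := by
    intro w
    induction w using TensorProduct.induction_on with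
    | zero => simp
    | tmul s x =>
      simp only [μ, μ', c, Algebra.TensorProduct.comm_tmul, Algebra.TensorProduct.lift_tmul,
        Algebra.ofId_apply, IsScalarTower.coe_toAlgHom', halg]
      exact mul_comm _ _
    | add a b ha hb => simp only [map_add, ha, hb]
  have hμ : Function.Surjective μ := fun y => by
    obtain ⟨w, rfl⟩ := hμ' y
    exact ⟨c w, hμc w⟩
  have hker : RingHom.ker μ.toRingHom = Ideal.span {c ε'} := by
    ext x
    have h1 : x ∈ RingHom.ker μ.toRingHom ↔ c.symm x ∈ RingHom.ker μ'.toRingHom := by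
      rw [RingHom.mem_ker, RingHom.mem_ker]
      show μ x = 0 ↔ μ' (c.symm x) = 0
      rw [← hμc, AlgEquiv.apply_symm_apply]
    rw [h1, hker', Ideal.mem_span_singleton', Ideal.mem_span_singleton']
    constructor
    · rintro ⟨a, ha⟩
      exact ⟨c a, by rw [← map_mul, ha, AlgEquiv.apply_symm_apply]⟩
    · rintro ⟨a, ha⟩
      exact ⟨c.symm a, by rw [← ha, map_mul, AlgEquiv.symm_apply_apply]⟩
  obtain ⟨e, he⟩ := exists_prod_equiv μ hμ (c ε') (hε'.map c) hker
  have hdisj : Disjoint (Submonoid.powers g : Set S) ↑q :=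
    (Ideal.disjoint_powers_iff_notMem_of_isPrime g).mpr hgq
  haveI hqg : (q.map (algebraMap S (Localization.Away g))).IsPrime :=
    IsLocalization.isPrime_of_isPrime_disjoint (Submonoid.powers g) _ _ ‹q.IsPrime› hdisj
  have hunder : (q.map (algebraMap S (Localization.Away g))).comap
      (algebraMap S (Localization.Away g)) = q :=
    IsLocalization.under_map_of_isPrime_disjoint (Submonoid.powers g) _ ‹q.IsPrime› hdisj
  have hsurj : Function.Surjective (algebraMap P.Ring (Localization.Away g)) := hφ
  have hmap : ((q.map (algebraMap S (Localization.Away g))).comap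
      (algebraMap P.Ring (Localization.Away g))).map (algebraMap P.Ring (Localization.Away g)) =
      q.map (algebraMap S (Localization.Away g)) :=
    Ideal.map_comap_of_surjective _ hsurj _
  refine ⟨P.Ring, inferInstance, inferInstance, inferInstance,
    (q.map (algebraMap S (Localization.Away g))).comap (algebraMap P.Ring (Localization.Away g)),
    inferInstance, ⟨?_⟩, Localization.Away g, inferInstance, algESg, _, inferInstance,
    inferInstance, e, hsurj, ?_, ?_, ?_⟩
  · -- lies over
    show q.comap (algebraMap R S) = Ideal.comap (algebraMap R P.Ring)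
      ((q.map (algebraMap S (Localization.Away g))).comap
        (algebraMap P.Ring (Localization.Away g)))
    rw [Ideal.comap_comap, ← IsScalarTower.algebraMap_eq,
      IsScalarTower.algebraMap_eq R S (Localization.Away g), ← Ideal.comap_comap, hunder]
  · rw [hmap]; exact hqg
  · rw [hmap]
  · rw [hmap]
    ext s
    simp only [Ideal.mem_comap, RingHom.comp_apply]
    have : (RingHom.fst _ _) (e.toRingHom
        ((Algebra.TensorProduct.includeRight : S →ₐ[R] P.Ring ⊗[R] S).toRingHom s)) =
        algebraMap S (Localization.Away g) s := by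
      show (e ((1 : P.Ring) ⊗ₜ[R] s)).1 = _
      rw [he]
      simp [μ]
    rw [this, ← Ideal.mem_comap, hunder]

end Groth.Agent.Lib.Helper8.UnramSplit
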