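import Mathlib
import Groth.Agent.Lib.Helper8.UnramSplit

/-!
# Étale-local structure of unramified algebras over a prime (Stacks 00UY)
-/

set_option autoImplicit false

open TensorProduct

namespace Groth.Agent.Lib.Helper8.UnramSplit

universe u

/-- The conclusion of Stacks 00UY, with the factors `A_i` written as quotients of `R'`. -/
def Good (R S : Type u) [CommRing R] [CommRing S] [Algebra R S] (p : Ideal R) : Prop :=
  ∃ (R' : Type u) (_ : CommRing R') (_ : Algebra R R') (_ : Algebra.Etale R R') (p' : Ideal R')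
    (_ : p'.IsPrime) (_ : p'.LiesOver p) (ι : Type) (_ : Finite ι) (I : ι → Ideal R')
    (B : Type u) (_ : CommRing B) (_ : Algebra R' B),
    Nonempty ((R' ⊗[R] S) ≃ₐ[R'] ((∀ i, R' ⧸ I i) × B)) ∧ (∀ i, I i ≤ p') ∧
    ∀ (q : Ideal B) [q.IsPrime], q.comap (algebraMap R' B) ≠ p'

theorem good_of_forall_ne (R S : Type u) [CommRing R] [CommRing S] [Algebra R S] (p : Ideal R)
    [p.IsPrime] (h : ∀ (q : Ideal S) [q.IsPrime], q.comap (algebraMap R S) ≠ p) : Good R S p := by
  refine ⟨R, inferInstance, inferInstance, inferInstance, p, inferInstance, ⟨rfl⟩, Empty,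
    inferInstance, fun i => i.elim, S, inferInstance, inferInstance, ⟨?_⟩, fun i => i.elim, h⟩
  exact (Algebra.TensorProduct.lid R S).trans
    (AlgEquiv.uniqueProd (R := R) (A := S) (B := ∀ i : Empty, R ⧸ (i.elim : Ideal R))).symm

theorem Good.trans_split {R S : Type u} [CommRing R] [CommRing S] [Algebra R S] (p : Ideal R)
    [p.IsPrime] (R' : Type u) [CommRing R'] [Algebra R R'] [Algebra.Etale R R'] (p' : Ideal R')
    [p'.IsPrime] [p'.LiesOver p] (I₀ : Ideal R') (hI₀ : I₀ ≤ p') (B : Type u) [CommRing B]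
    [Algebra R' B] (e : (R' ⊗[R] S) ≃ₐ[R'] ((R' ⧸ I₀) × B)) (hB : Good R' B p') : Good R S p := by
  obtain ⟨R'', _, _, _, p'', _, _, ι, _, I', B', _, _, ⟨e₂⟩, hI', hB'⟩ := hB
  letI : Algebra R R'' := ((algebraMap R' R'').comp (algebraMap R R')).toAlgebra
  haveI : IsScalarTower R R' R'' := IsScalarTower.of_algebraMap_eq (fun _ => rfl)
  haveI : Algebra.Etale R R'' := Algebra.Etale.comp R R' R''
  haveI : p''.LiesOver p := Ideal.LiesOver.trans p'' p' p
  let J : Option ι → Ideal R'' := fun o => o.elim (I₀.map (algebraMap R' R'')) I'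
  have hJ : ∀ o, J o ≤ p'' := by
    intro o
    cases o with
    | none =>
      show I₀.map (algebraMap R' R'') ≤ p''
      rw [Ideal.map_le_iff_le_comap]
      exact hI₀.trans (le_of_eq (p''.over_def p'))
    | some i => exact hI' i
  let c₁ : R'' ⊗[R] S ≃ₐ[R''] R'' ⊗[R'] (R' ⊗[R] S) :=
    (Algebra.TensorProduct.cancelBaseChange R R' R'' R'' S).symm
  let c₂ : R'' ⊗[R'] (R' ⊗[R] S) ≃ₐ[R''] R'' ⊗[R'] ((R' ⧸ I₀) × B) :=
    Algebra.TensorProduct.congr AlgEquiv.refl e
  let c₃ : R'' ⊗[R'] ((R' ⧸ I₀) × B) ≃ₐ[R''] (R'' ⊗[R'] (R' ⧸ I₀)) × (R'' ⊗[R'] B) :=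
    Algebra.TensorProduct.prodRight R' R'' R'' (R' ⧸ I₀) B
  let c₄ : ((R'' ⊗[R'] (R' ⧸ I₀)) × (R'' ⊗[R'] B)) ≃ₐ[R'']
      ((R'' ⧸ I₀.map (algebraMap R' R'')) × ((∀ i, R'' ⧸ I' i) × B')) :=
    AlgEquiv.prodCongr (Algebra.TensorProduct.quotIdealMapEquivTensorQuot R'' I₀).symm e₂
  let c₅ : ((R'' ⧸ I₀.map (algebraMap R' R'')) × ((∀ i, R'' ⧸ I' i) × B')) ≃ₐ[R'']
      ((∀ o, R'' ⧸ J o) × B') :=
    { toFun := fun x =>
        (fun o => Option.rec (motive := fun o => R'' ⧸ J o) x.1 (fun i => x.2.1 i) o, x.2.2)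
      invFun := fun y => (y.1 none, (fun i => y.1 (some i), y.2))
      left_inv := fun x => rfl
      right_inv := fun y => by
        refine Prod.ext (funext fun o => ?_) rfl
        cases o <;> rfl
      map_mul' := fun x y => by
        refine Prod.ext (funext fun o => ?_) rfl
        cases o <;> rfl
      map_add' := fun x y => by
        refine Prod.ext (funext fun o => ?_) rfl
        cases o <;> rfl
      commutes' := fun r => by
        refine Prod.ext (funext fun o => ?_) rfl
        cases o <;> rfl }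
  exact ⟨R'', inferInstance, inferInstance, inferInstance, p'', inferInstance, inferInstance,
    Option ι, inferInstance, J, B', inferInstance, inferInstance,
    ⟨c₁.trans (c₂.trans (c₃.trans (c₄.trans c₅)))⟩, hJ, hB'⟩

/-- The rank of the fibre drops when a factor with nonempty fibre is split off. -/
theorem finrank_fiber_lt {R S : Type u} [CommRing R] [CommRing S] [Algebra R S]
    [Algebra.QuasiFinite R S] (p : Ideal R) [p.IsPrime]
    (R' : Type u) [CommRing R'] [Algebra R R'] (p' : Ideal R') [p'.IsPrime] [p'.LiesOver p]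
    (A B : Type u) [CommRing A] [CommRing B] [Algebra R' A] [Algebra R' B]
    (e : (R' ⊗[R] S) ≃ₐ[R'] (A × B)) (hA : Nontrivial (p'.Fiber A)) :
    Module.finrank p'.ResidueField (p'.Fiber B) < Module.finrank p.ResidueField (p.Fiber S) := by
  let f := Ideal.ResidueField.mapₐ p p' (Algebra.ofId R R') (p'.over_def p)
  letI : Algebra p.ResidueField p'.ResidueField := f.toRingHom.toAlgebra
  haveI : IsScalarTower R p.ResidueField p'.ResidueField :=
    IsScalarTower.of_algebraMap_eq (fun r => (f.commutes r).symm)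
  let a₁ : p'.ResidueField ⊗[R'] (R' ⊗[R] S) ≃ₗ[p'.ResidueField] p'.ResidueField ⊗[R] S :=
    (Algebra.TensorProduct.cancelBaseChange R R' p'.ResidueField p'.ResidueField S).toLinearEquiv
  let a₂ : p'.ResidueField ⊗[p.ResidueField] (p.ResidueField ⊗[R] S) ≃ₗ[p'.ResidueField]
      p'.ResidueField ⊗[R] S :=
    (Algebra.TensorProduct.cancelBaseChange R p.ResidueField p'.ResidueField p'.ResidueField
      S).toLinearEquiv
  let a₃ : p'.ResidueField ⊗[R'] (R' ⊗[R] S) ≃ₗ[p'.ResidueField]
      (p'.ResidueField ⊗[R'] A) × (p'.ResidueField ⊗[R'] B) :=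
    ((Algebra.TensorProduct.congr (AlgEquiv.refl : p'.ResidueField ≃ₐ[p'.ResidueField] _)
      e).trans (Algebra.TensorProduct.prodRight R' p'.ResidueField p'.ResidueField A
        B)).toLinearEquiv
  have h1 : Module.finrank p'.ResidueField (p'.Fiber (R' ⊗[R] S)) =
      Module.finrank p.ResidueField (p.Fiber S) := by
    rw [a₁.finrank_eq, ← a₂.finrank_eq]
    exact Module.finrank_baseChange
  haveI : Module.Finite p'.ResidueField (p'.Fiber (R' ⊗[R] S)) := inferInstance
  haveI hfin : Module.Finite p'.ResidueField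
      ((p'.ResidueField ⊗[R'] A) × (p'.ResidueField ⊗[R'] B)) := Module.Finite.equiv a₃
  haveI : Module.Finite p'.ResidueField (p'.ResidueField ⊗[R'] A) :=
    Module.Finite.of_surjective (LinearMap.fst p'.ResidueField (p'.ResidueField ⊗[R'] A)
      (p'.ResidueField ⊗[R'] B)) LinearMap.fst_surjective
  haveI : Module.Finite p'.ResidueField (p'.ResidueField ⊗[R'] B) :=
    Module.Finite.of_surjective (LinearMap.snd p'.ResidueField (p'.ResidueField ⊗[R'] A)
      (p'.ResidueField ⊗[R'] B)) LinearMap.snd_surjective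
  have h2 : Module.finrank p'.ResidueField (p'.Fiber (R' ⊗[R] S)) =
      Module.finrank p'.ResidueField (p'.Fiber A) +
        Module.finrank p'.ResidueField (p'.Fiber B) := by
    rw [a₃.finrank_eq]
    exact Module.finrank_prod
  have h3 : 0 < Module.finrank p'.ResidueField (p'.Fiber A) := Module.finrank_pos
  omega

/-- Stacks 00UY, by induction on the rank of the fibre. -/
theorem good_of_unramified : ∀ (d : ℕ) (R S : Type u) [CommRing R] [CommRing S] [Algebra R S]
    [Algebra.Unramified R S] (p : Ideal R) [p.IsPrime],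
    Module.finrank p.ResidueField (p.Fiber S) = d → Good R S p := by
  intro d
  induction d using Nat.strong_induction_on with
  | _ d IH =>
  intro R S _ _ _ _ p _ hd
  by_cases hne : ∃ q : Ideal S, q.IsPrime ∧ q.comap (algebraMap R S) = p
  swap
  · exact good_of_forall_ne R S p (fun q hq h => hne ⟨q, hq, h⟩)
  obtain ⟨q, hq, hqp⟩ := hne
  haveI := hq
  obtain ⟨R', _, _, _, p', _, hp', A, _, _, B, _, _, e, hsurj, hprime, hcomap, -⟩ :=
    exists_split R S q
  haveI : p'.LiesOver p := ⟨by rw [← hqp]; exact hp'.over⟩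
  -- the kernel
  have hsurj' : Function.Surjective (Algebra.ofId R' A) := hsurj
  have hI₀ : RingHom.ker (Algebra.ofId R' A) ≤ p' := by
    intro x hx
    rw [← hcomap, Ideal.mem_comap]
    have : algebraMap R' A x = 0 := hx
    rw [this]
    exact Ideal.zero_mem _
  let eA : A ≃ₐ[R'] R' ⧸ RingHom.ker (Algebra.ofId R' A) :=
    (Ideal.quotientKerAlgEquivOfSurjective hsurj').symm
  let e' : (R' ⊗[R] S) ≃ₐ[R'] ((R' ⧸ RingHom.ker (Algebra.ofId R' A)) × B) :=
    e.trans (AlgEquiv.prodCongr eA AlgEquiv.refl)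
  -- `B` is unramified over `R'`
  let πB : R' ⊗[R] S →ₐ[R'] B := (AlgHom.snd R' A B).comp e.toAlgHom
  have hπB : Function.Surjective πB := fun b => ⟨e.symm (0, b), by simp [πB]⟩
  haveI : Algebra.FormallyUnramified R' B := Algebra.FormallyUnramified.of_surjective πB hπB
  haveI : Algebra.FiniteType R' B := Algebra.FiniteType.of_surjective πB hπB
  haveI : Algebra.Unramified R' B := {}
  -- the fibre of `A` is nontrivial
  have hA : Nontrivial (p'.Fiber A) := by
    rw [← PrimeSpectrum.nonempty_iff_nontrivial]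
    exact ⟨PrimeSpectrum.primesOverOrderIsoFiber R' A p'
      ⟨p'.map (algebraMap R' A), hprime, ⟨hcomap.symm⟩⟩⟩
  have hlt := finrank_fiber_lt p R' p' A B e hA
  rw [hd] at hlt
  exact Good.trans_split p R' p' _ hI₀ B e' (IH _ hlt R' B p' rfl)

/-- Stacks 00UY. -/
theorem exists_split_all (R : Type u) [CommRing R]
    (S : Type u) [CommRing S] [Algebra R S] [Algebra.Unramified R S] (p : Ideal R) [p.IsPrime] :
    ∃ (R' : Type u) (_ : CommRing R') (_ : Algebra R R') (_ : Algebra.Etale R R') (p' : Ideal R')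
      (_ : p'.IsPrime) (_ : p'.LiesOver p) (n : ℕ) (A : Fin n → Type u) (_ : ∀ i, CommRing (A i))
      (_ : ∀ i, Algebra R' (A i)) (B : Type u) (_ : CommRing B) (_ : Algebra R' B),
      Nonempty ((R' ⊗[R] S) ≃ₐ[R'] ((∀ i, A i) × B)) ∧
        (∀ i, Function.Surjective (algebraMap R' (A i)) ∧
          (p'.map (algebraMap R' (A i))).IsPrime ∧
          (p'.map (algebraMap R' (A i))).comap (algebraMap R' (A i)) = p') ∧
        ∀ (q : Ideal B) [q.IsPrime], q.comap (algebraMap R' B) ≠ p' := by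
  obtain ⟨R', _, _, _, p', _, _, ι, _, I, B, _, _, ⟨e⟩, hI, hB⟩ :=
    good_of_unramified _ R S p rfl
  let eq := Finite.equivFin ι
  refine ⟨R', inferInstance, inferInstance, inferInstance, p', inferInstance, inferInstance,
    Nat.card ι, fun i => R' ⧸ I (eq.symm i), fun i => inferInstance, fun i => inferInstance,
    B, inferInstance, inferInstance,
    ⟨e.trans (AlgEquiv.prodCongr (AlgEquiv.piCongrLeft' R' (fun i => R' ⧸ I i) eq)
      AlgEquiv.refl)⟩, fun i => ?_, hB⟩
  have hker : RingHom.ker (algebraMap R' (R' ⧸ I (eq.symm i))) ≤ p' := by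
    rw [Ideal.Quotient.algebraMap_eq, Ideal.mk_ker]
    exact hI _
  refine ⟨Ideal.Quotient.mk_surjective, ?_, ?_⟩
  · exact Ideal.map_isPrime_of_surjective Ideal.Quotient.mk_surjective hker
  · rw [Ideal.comap_map_of_surjective (algebraMap R' (R' ⧸ I (eq.symm i)))
      Ideal.Quotient.mk_surjective, ← RingHom.ker_eq_comap_bot]
    exact sup_eq_left.mpr hker

end Groth.Agent.Lib.Helper8.UnramSplit
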