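import Mathlib
import Groth.Agent.Lib.Helper8.UnramSplitAll
set_option autoImplicit false
open TensorProduct

/-! Finite unramified algebras are étale locally finite products of quotients. -/

namespace Groth.Agent.Lib.Helper8.FinUnramSplit
open Groth.Agent.Lib.Helper8.UnramSplit
universe u

theorem exists_split_finite_unramified (R S : Type u) [CommRing R] [CommRing S] [Algebra R S]
    [Module.Finite R S] [Algebra.FormallyUnramified R S] (p : Ideal R) [p.IsPrime] :
    ∃ (R' : Type u) (_ : CommRing R') (_ : Algebra R R') (_ : Algebra.Etale R R') (p' : Ideal R')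
      (_ : p'.IsPrime) (_ : p'.LiesOver p) (n : ℕ) (A : Fin n → Type u) (_ : ∀ i, CommRing (A i))
      (_ : ∀ i, Algebra R' (A i)),
      Nonempty ((R' ⊗[R] S) ≃ₐ[R'] (∀ i, A i)) ∧
        ∀ i, Function.Surjective (algebraMap R' (A i)) := by
  classical
  haveI : Algebra.Unramified R S := ⟨inferInstance, inferInstance⟩
  obtain ⟨R', _, _, _, p', _, _, n, A, _, _, B, _, _, ⟨e⟩, hA, hB⟩ := exists_split_all R S p
  haveI : Module.Finite R' B :=
    Module.Finite.of_surjective ((LinearMap.snd R' (∀ i, A i) B).comp e.toLinearMap)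
      (fun b => ⟨e.symm (0, b), by simp⟩)
  haveI : Algebra.IsIntegral R' B := Algebra.IsIntegral.of_finite R' B
  obtain ⟨g₀, hg₀ker, hg₀p⟩ : ∃ g₀ ∈ RingHom.ker (algebraMap R' B), g₀ ∉ p' := by
    by_contra hcon
    push_neg at hcon
    obtain ⟨Q, -, hQ, hQp⟩ := Ideal.exists_ideal_over_prime_of_isIntegral p' (⊥ : Ideal B)
      (by rw [← RingHom.ker_eq_comap_bot]; exact hcon)
    exact hB Q hQp
  let R'' := Localization.Away g₀
  haveI : Algebra.Etale R' R'' := Algebra.Etale.of_isLocalizationAway g₀
  haveI : Algebra.Etale R R'' := Algebra.Etale.comp R R' R''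
  have hdisj : Disjoint (Submonoid.powers g₀ : Set R') (p' : Set R') := by
    rw [Set.disjoint_left]
    rintro _ ⟨k, rfl⟩ hk
    exact hg₀p (Ideal.IsPrime.mem_of_pow_mem inferInstance k hk)
  haveI : (p'.map (algebraMap R' R'')).IsPrime :=
    IsLocalization.isPrime_of_isPrime_disjoint (Submonoid.powers g₀) R'' p' inferInstance hdisj
  haveI : (p'.map (algebraMap R' R'')).LiesOver p' :=
    ⟨(IsLocalization.comap_map_of_isPrime_disjoint (Submonoid.powers g₀) R'' inferInstance
      hdisj).symm⟩
  haveI : (p'.map (algebraMap R' R'')).LiesOver p := Ideal.LiesOver.trans _ p' p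
  haveI : Subsingleton (R'' ⊗[R'] B) := by
    have hu : IsUnit (algebraMap R' R'' g₀) := IsLocalization.Away.algebraMap_isUnit g₀
    have h0 : ∀ b : B, g₀ • b = 0 := fun b => by
      rw [Algebra.smul_def, (RingHom.mem_ker).mp hg₀ker, zero_mul]
    refine ⟨fun x y => ?_⟩
    have hz : ∀ z : R'' ⊗[R'] B, z = 0 := by
      intro z
      induction z using TensorProduct.induction_on with
      | zero => rfl
      | add x y hx hy => rw [hx, hy, add_zero]
      | tmul r b =>
        obtain ⟨r', hr'⟩ := hu.exists_left_inv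
        have h1 : r = (r * r') * algebraMap R' R'' g₀ := by
          rw [mul_assoc, hr', mul_one]
        have h2 : (r * r') * algebraMap R' R'' g₀ = g₀ • (r * r') := by
          rw [Algebra.smul_def, mul_comm]
        rw [h1, h2, TensorProduct.smul_tmul, h0, TensorProduct.tmul_zero]
    rw [hz x, hz y]
  letI : Unique (R'' ⊗[R'] B) := ⟨⟨0⟩, fun x => Subsingleton.elim _ _⟩
  refine ⟨R'', inferInstance, inferInstance, inferInstance, p'.map (algebraMap R' R''),
    inferInstance, inferInstance, n, fun i => R'' ⊗[R'] A i, fun i => inferInstance,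
    fun i => inferInstance, ⟨?_⟩, fun i => ?_⟩
  · exact (Algebra.TensorProduct.cancelBaseChange R R' R'' R'' S).symm.trans
      ((Algebra.TensorProduct.congr (AlgEquiv.refl : R'' ≃ₐ[R''] R'') e).trans
        ((Algebra.TensorProduct.prodRight R' R'' R'' (∀ i, A i) B).trans
          ((AlgEquiv.prodUnique (R := R'') (A := R'' ⊗[R'] (∀ i, A i))
              (B := R'' ⊗[R'] B)).trans
            (Algebra.TensorProduct.piRight R' R'' R'' A))))
  · intro x
    induction x using TensorProduct.induction_on with
    | zero => exact ⟨0, map_zero _⟩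
    | add x y hx hy =>
      obtain ⟨a, rfl⟩ := hx
      obtain ⟨b, rfl⟩ := hy
      exact ⟨a + b, map_add _ _ _⟩
    | tmul r a =>
      obtain ⟨a', rfl⟩ := (hA i).1 a
      refine ⟨r * algebraMap R' R'' a', ?_⟩
      have h3 : r * algebraMap R' R'' a' = a' • r := by
        rw [Algebra.smul_def, mul_comm]
      rw [Algebra.TensorProduct.algebraMap_apply, Algebra.algebraMap_self_apply, h3,
        TensorProduct.smul_tmul, Algebra.smul_def, mul_one]

end Groth.Agent.Lib.Helper8.FinUnramSplit
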