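import Mathlib
import Groth.Agent.Lib.Helper8.FinUnramSplit
set_option autoImplicit false
open CategoryTheory CategoryTheory.Limits AlgebraicGeometry Opposite TensorProduct

/-! A finite unramified morphism is étale locally on the base a finite disjoint union of closed
immersions (scheme glue for `FinUnramSplit`). -/

namespace Groth.Agent.Lib.Helper8.FinUnramSplitSch
universe u

theorem finite_unramified_split {X S : Scheme.{u}} (f : X ⟶ S) [IsFinite f]
    [FormallyUnramified f] (s : S) :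
    ∃ (U : Scheme.{u}) (g : U ⟶ S) (_ : AlgebraicGeometry.Etale g) (u : U) (_ : g.base u = s)
      (n : ℕ) (V : Fin n → Scheme.{u}) (c : ∀ j, V j ⟶ U) (_ : ∀ j, IsClosedImmersion (c j))
      (e : (∐ V) ≅ pullback f g), ∀ j, Sigma.ι V j ≫ e.hom ≫ pullback.snd f g = c j := by
  obtain ⟨_, ⟨W, hW, rfl⟩, hsW, -⟩ :=
    S.isBasis_affineOpens.exists_subset_of_mem_open (Set.mem_univ s) isOpen_univ
  have hW : IsAffineOpen W := hW
  have hsW : s ∈ W := hsW
  have hpre : IsAffineOpen (f ⁻¹ᵁ W) := hW.preimage f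
  letI algRT : Algebra Γ(S, W) Γ(X, f ⁻¹ᵁ W) := (f.app W).hom.toAlgebra
  haveI : Module.Finite Γ(S, W) Γ(X, f ⁻¹ᵁ W) := f.finite_app W hW
  haveI : Algebra.FormallyUnramified Γ(S, W) Γ(X, f ⁻¹ᵁ W) := by
    have h := f.formallyUnramified_appLE hW hpre le_rfl
    rw [← Scheme.Hom.app_eq_appLE] at h
    exact h
  set p : PrimeSpectrum Γ(S, W) := hW.primeIdealOf ⟨s, hsW⟩ with hp
  obtain ⟨R', _, _, hét, p', _, hlo, n, A, _, _, ⟨e₀⟩, hsurj⟩ :=
    Groth.Agent.Lib.Helper8.FinUnramSplit.exists_split_finite_unramified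
      Γ(S, W) Γ(X, f ⁻¹ᵁ W) p.asIdeal
  let φ : Γ(S, W) ⟶ CommRingCat.of R' := CommRingCat.ofHom (algebraMap Γ(S, W) R')
  let g : Spec (.of R') ⟶ S := Spec.map φ ≫ hW.fromSpec
  have hg0 : Etale (Spec.map φ) := by
    rw [HasRingHomProperty.Spec_iff (P := @Etale)]
    exact RingHom.etale_algebraMap.mpr inferInstance
  have hg : Etale g := inferInstance
  let u₀ : Spec (.of R') := (⟨p', inferInstance⟩ : PrimeSpectrum R')
  have hu : g.base u₀ = s := by
    have h1 : (Spec.map φ).base u₀ = p := by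
      apply PrimeSpectrum.ext
      exact hlo.over.symm
    change hW.fromSpec.base ((Spec.map φ).base u₀) = s
    rw [h1, hp]
    exact hW.fromSpec_primeIdealOf ⟨s, hsW⟩
  let Rs : Fin n → CommRingCat.{u} := fun j => CommRingCat.of (A j)
  let Vs : Fin n → Scheme.{u} := fun j => Spec (Rs j)
  let cs : ∀ j, Vs j ⟶ Spec (.of R') := fun j =>
    Spec.map (CommRingCat.ofHom (algebraMap R' (A j)))
  have hcs : ∀ j, IsClosedImmersion (cs j) := fun j =>
    IsClosedImmersion.spec_of_surjective (CommRingCat.ofHom (algebraMap R' (A j))) (hsurj j)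
  -- the pullback square
  let inl : CommRingCat.of R' ⟶ CommRingCat.of (R' ⊗[Γ(S, W)] Γ(X, f ⁻¹ᵁ W)) :=
    CommRingCat.ofHom Algebra.TensorProduct.includeLeftRingHom
  let inr : Γ(X, f ⁻¹ᵁ W) ⟶ CommRingCat.of (R' ⊗[Γ(S, W)] Γ(X, f ⁻¹ᵁ W)) :=
    CommRingCat.ofHom Algebra.TensorProduct.includeRight.toRingHom
  have hA : IsPullback (Spec.map inr) (Spec.map inl)
      (Spec.map (CommRingCat.ofHom (algebraMap Γ(S, W) Γ(X, f ⁻¹ᵁ W)))) (Spec.map φ) :=
    (isPullback_SpecMap_of_isPushout _ _ _ _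
      (CommRingCat.isPushout_tensorProduct Γ(S, W) R' Γ(X, f ⁻¹ᵁ W))).flip
  have hB : IsPullback hpre.fromSpec
      (Spec.map (CommRingCat.ofHom (algebraMap Γ(S, W) Γ(X, f ⁻¹ᵁ W)))) f hW.fromSpec := by
    refine (IsOpenImmersion.isPullback (Spec.map (f.app W)) hpre.fromSpec hW.fromSpec f ?_ ?_).flip
    · rw [Scheme.Hom.app_eq_appLE]
      exact (hW.SpecMap_appLE_fromSpec f hpre le_rfl).symm
    · rw [hW.opensRange_fromSpec, hpre.opensRange_fromSpec]
  have hpb : IsPullback (Spec.map inr ≫ hpre.fromSpec) (Spec.map inl) f g := hA.paste_horiz hB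
  let Rs' : ULift.{u} (Fin n) → CommRingCat.{u} := fun i => CommRingCat.of (A i.down)
  let ρ : (∐ Vs) ≅ ∐ fun i : ULift.{u} (Fin n) => Spec (Rs' i) :=
    (Sigma.reindex (Equiv.ulift.{u} (α := Fin n)) Vs).symm
  let toPi : (R' ⊗[Γ(S, W)] Γ(X, f ⁻¹ᵁ W)) →+* (∀ i : ULift.{u} (Fin n), Rs' i) :=
    Pi.ringHom fun i => (Pi.evalRingHom A i.down).comp (e₀ : _ →+* _)
  let fromPi : (∀ i : ULift.{u} (Fin n), Rs' i) →+* (R' ⊗[Γ(S, W)] Γ(X, f ⁻¹ᵁ W)) :=
    (e₀.symm : _ →+* _).comp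
      (Pi.ringHom fun j => Pi.evalRingHom (fun i : ULift.{u} (Fin n) => A i.down) (ULift.up j))
  let ψ : Spec (.of (∀ i, Rs' i)) ≅ Spec (.of (R' ⊗[Γ(S, W)] Γ(X, f ⁻¹ᵁ W))) :=
    { hom := Spec.map (CommRingCat.ofHom toPi)
      inv := Spec.map (CommRingCat.ofHom fromPi)
      hom_inv_id := by
        rw [← Spec.map_comp, ← Spec.map_id]
        congr 1
        refine CommRingCat.hom_ext (RingHom.ext fun x => ?_)
        refine funext fun i => ?_
        show e₀ (e₀.symm fun j => x (ULift.up j)) i.down = x i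
        rw [e₀.apply_symm_apply]
      inv_hom_id := by
        rw [← Spec.map_comp, ← Spec.map_id]
        congr 1
        refine CommRingCat.hom_ext (RingHom.ext fun x => ?_)
        show e₀.symm (fun j => e₀ x j) = x
        exact e₀.symm_apply_apply x }
  let e : (∐ Vs) ≅ pullback f g := ρ ≪≫ asIso (sigmaSpec Rs') ≪≫ ψ ≪≫ hpb.isoPullback
  refine ⟨Spec (.of R'), g, hg, u₀, hu, n, Vs, cs, hcs, e, ?_⟩
  intro j
  have h0 : Sigma.ι Vs j ≫ ρ.hom =
      Sigma.ι (fun i : ULift.{u} (Fin n) => Spec (Rs' i)) (ULift.up j) :=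
    Sigma.ι_reindex_inv (Equiv.ulift.{u} (α := Fin n)) Vs (ULift.up j)
  have h1 : Sigma.ι (fun i : ULift.{u} (Fin n) => Spec (Rs' i)) (ULift.up j) ≫ sigmaSpec Rs' =
      Spec.map (CommRingCat.ofHom (Pi.evalRingHom _ (ULift.up j))) :=
    ι_sigmaSpec Rs' (ULift.up j)
  have h2 : hpb.isoPullback.hom ≫ pullback.snd f g = Spec.map inl := hpb.isoPullback_hom_snd
  have key : Sigma.ι Vs j ≫ e.hom ≫ pullback.snd f g =
      Spec.map (CommRingCat.ofHom (Pi.evalRingHom _ (ULift.up j))) ≫ ψ.hom ≫ Spec.map inl := by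
    simp only [e, Iso.trans_hom, asIso_hom, Category.assoc]
    rw [h2, reassoc_of% h0, reassoc_of% h1]
  rw [key]
  show Spec.map (CommRingCat.ofHom (Pi.evalRingHom _ (ULift.up j))) ≫
    Spec.map (CommRingCat.ofHom toPi) ≫ Spec.map inl = cs j
  rw [← Spec.map_comp, ← Spec.map_comp]
  congr 1
  refine CommRingCat.hom_ext (RingHom.ext fun r => ?_)
  have h3 : e₀ (r ⊗ₜ[Γ(S, W)] (1 : Γ(X, f ⁻¹ᵁ W))) = algebraMap R' (∀ j, A j) r := by
    rw [← e₀.commutes r, Algebra.TensorProduct.algebraMap_apply]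
    rfl
  change (e₀ (r ⊗ₜ[Γ(S, W)] (1 : Γ(X, f ⁻¹ᵁ W)))) j = algebraMap R' (A j) r
  rw [h3]
  rfl

end Groth.Agent.Lib.Helper8.FinUnramSplitSch
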