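import Mathlib
import Groth.Agent.Lib.Helper8.HenselQFSch
import Groth.Agent.Lib.Helper8.EtaleIrredSch

set_option autoImplicit false
universe u

open AlgebraicGeometry CategoryTheory Limits IsLocalRing

namespace Groth.Agent.Lib.Helper8.FinitePart

open Groth.Agent.Lib.Helper8.HenselQFSch

theorem functorial (R : Type u) [CommRing R] [HenselianLocalRing R]
    {X Y : Scheme.{u}} (f : X ⟶ Spec (CommRingCat.of R)) (f' : Y ⟶ Spec (CommRingCat.of R))
    (WX : X.Opens) (hWX : IsFinite (WX.ι ≫ f))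
    (WY : Y.Opens) (hWY : ∀ x : ↥Y, f' x = IsLocalRing.closedPoint R → x ∈ WY)
    (g : X ⟶ Y) (hg : g ≫ f' = f) (x : X) (hx : x ∈ WX) :
    g x ∈ WY := by
  have hle : WX ≤ g ⁻¹ᵁ WY := by
    apply le_of_isFinite_of_forall_mem f WX (g ⁻¹ᵁ WY) hWX
    intro y hy
    apply hWY (g y)
    rw [← Scheme.Hom.comp_apply, hg]
    exact hy
  exact hle hx

theorem pullback_iff (R : Type u) [CommRing R] [HenselianLocalRing R]
    {X Y : Scheme.{u}} (f : X ⟶ Spec (CommRingCat.of R)) (f' : Y ⟶ Spec (CommRingCat.of R))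
    (WX : X.Opens) (hWXf : IsFinite (WX.ι ≫ f))
    (hWXc : ∀ x : ↥X, f x = IsLocalRing.closedPoint R → x ∈ WX)
    (WY : Y.Opens) (hWYf : IsFinite (WY.ι ≫ f'))
    (hWYc : ∀ x : ↥Y, f' x = IsLocalRing.closedPoint R → x ∈ WY)
    (W : (pullback f f').Opens)
    (hWf : IsFinite (W.ι ≫ (pullback.fst f f' ≫ f)))
    (hWc : ∀ x : ↥(pullback f f'), (pullback.fst f f' ≫ f) x = IsLocalRing.closedPoint R → x ∈ W)
    (z : ↥(pullback f f')) :
    z ∈ W ↔ ((pullback.fst f f') z ∈ WX ∧ (pullback.snd f f') z ∈ WY) := by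
  classical
  constructor
  · intro hz
    have hle : W ≤ (pullback.fst f f') ⁻¹ᵁ WX ⊓ (pullback.snd f f') ⁻¹ᵁ WY := by
      apply le_of_isFinite_of_forall_mem (pullback.fst f f' ≫ f) W _ hWf
      intro y hy
      refine ⟨hWXc _ ?_, hWYc _ ?_⟩
      · rw [← Scheme.Hom.comp_apply]; exact hy
      · rw [← Scheme.Hom.comp_apply, ← pullback.condition]; exact hy
    exact hle hz
  · rintro ⟨h1, h2⟩
    let φ : pullback (WX.ι ≫ f) (WY.ι ≫ f') ⟶ pullback f f' :=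
      pullback.map (WX.ι ≫ f) (WY.ι ≫ f') f f' WX.ι WY.ι (𝟙 _) (by simp) (by simp)
    have hrange : Set.range φ =
        pullback.fst f f' ⁻¹' Set.range WX.ι ∩ pullback.snd f f' ⁻¹' Set.range WY.ι :=
      Scheme.Pullback.range_map _ _ _ _ _ _ _ _ _
    obtain ⟨p, rfl⟩ : z ∈ Set.range φ := by
      rw [hrange]
      exact ⟨by simpa using h1, by simpa using h2⟩
    by_contra hzW
    let q : pullback (WX.ι ≫ f) (WY.ι ≫ f') ⟶ Spec (CommRingCat.of R) :=
      pullback.fst _ _ ≫ (WX.ι ≫ f)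
    haveI : IsFinite q := inferInstance
    have hq : φ ≫ (pullback.fst f f' ≫ f) = q := by
      change pullback.map _ _ _ _ _ _ _ _ _ ≫ (pullback.fst f f' ≫ f) = _
      rw [← Category.assoc, pullback.lift_fst, Category.assoc]
    let Z : Set ↥(pullback (WX.ι ≫ f) (WY.ι ≫ f')) := (φ ⁻¹' (W : Set _))ᶜ
    have hZc : IsClosed Z := (W.isOpen.preimage φ.continuous).isClosed_compl
    have himg : IsClosed (q '' Z) := q.isClosedMap _ hZc
    have hp : q p ∈ q '' Z := ⟨p, hzW, rfl⟩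
    have hcp : closedPoint R ∈ q '' Z :=
      (IsLocalRing.specializes_closedPoint _).mem_closed himg hp
    obtain ⟨p', hp', hp'q⟩ := hcp
    have hφp' : (φ ≫ (pullback.fst f f' ≫ f)) p' = closedPoint R := by
      rw [hq]; exact hp'q
    exact hp' (hWc (φ p') hφp')

theorem exists_open_finite_surjective
    (A : Type u) [CommRing A] [HenselianLocalRing A]
    (T : Scheme.{u}) (f : T ⟶ Spec (CommRingCat.of A)) [Etale f] [Surjective f] :
    ∃ U : T.Opens, IsFinite (U.ι ≫ f) ∧ Surjective (U.ι ≫ f) := by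
  classical
  obtain ⟨t, ht⟩ := ‹Surjective f›.surj (closedPoint A)
  obtain ⟨T', hT', htT'⟩ : ∃ T' : T.Opens, IsAffineOpen T' ∧ t ∈ T' := by
    obtain ⟨_, ⟨T', hT', rfl⟩, htT', -⟩ :=
      T.isBasis_affineOpens.exists_subset_of_mem_open (Set.mem_univ t) isOpen_univ
    exact ⟨T', hT', htT'⟩
  haveI : IsAffine (T' : Scheme) := hT'
  haveI : IsSeparated (T'.ι ≫ f) := IsSeparated.of_isAffineHom _
  haveI : LocallyQuasiFinite (T'.ι ≫ f) :=
    Groth.Agent.Lib.Helper8.EtaleIrredSch.locallyQuasiFinite_of_etale _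
  obtain ⟨W, htW, hWc, hWf⟩ := exists_clopen_finite (T'.ι ≫ f) ⟨t, htT'⟩
    (by rw [Scheme.Hom.comp_apply]; exact ht) ((T'.ι ≫ f).quasiFiniteAt _)
  have hfin : IsFinite ((T'.ι ''ᵁ W).ι ≫ f) := by
    rw [← Scheme.Hom.isoImage_inv_ι, Category.assoc, Category.assoc]
    haveI := hWf
    have : IsFinite (W.ι ≫ T'.ι ≫ f) := hWf
    infer_instance
  refine ⟨T'.ι ''ᵁ W, hfin, ⟨fun y => ?_⟩⟩
  have hopen : IsOpen (Set.range ((T'.ι ''ᵁ W).ι ≫ f)) :=
    ((T'.ι ''ᵁ W).ι ≫ f).isOpenMap.isOpen_range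
  have hcp : closedPoint A ∈ Set.range ((T'.ι ''ᵁ W).ι ≫ f) := by
    refine ⟨⟨t, ⟨⟨t, htT'⟩, htW, rfl⟩⟩, ?_⟩
    rw [Scheme.Hom.comp_apply]
    exact ht
  exact (IsLocalRing.specializes_closedPoint y).mem_open hopen hcp

end Groth.Agent.Lib.Helper8.FinitePart
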