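import Mathlib
import Groth.Agent.Lib.Helper8.UnramDescent

/-!
# Pointwise descent of flatness along flat base change (scheme level)
-/

set_option autoImplicit false

open AlgebraicGeometry CategoryTheory Limits TensorProduct

namespace Groth.Agent.Lib.Helper8

universe u

theorem _root_.RingHom.Flat.of_comp_of_isLocalHom {R A B : Type*} [CommRing R] [CommRing A]
    [CommRing B] [IsLocalRing A] [IsLocalRing B]
    (φ : R →+* A) (ψ : A →+* B) [IsLocalHom ψ] (hψ : ψ.Flat) (h : (ψ.comp φ).Flat) :
    φ.Flat := by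
  algebraize [φ, ψ, ψ.comp φ]
  have : IsLocalHom (algebraMap A B) := ‹_›
  have : Module.FaithfullyFlat A B := Module.FaithfullyFlat.of_flat_of_isLocalHom
  exact flat_of_faithfullyFlat_of_flat R A B

theorem flat_of_pointwise_cover {X Y : Scheme.{u}} (f : X ⟶ Y)
    (H : ∀ x : X, ∃ (Y' : Scheme.{u}) (g : Y' ⟶ Y) (U : (pullback f g).Opens),
      Flat g ∧ (∃ z ∈ U, pullback.fst f g z = x) ∧ Flat (U.ι ≫ pullback.snd f g)) :
    Flat f := by
  rw [Flat.iff_flat_stalkMap]
  intro x
  obtain ⟨Y', g, U, hg, ⟨z, hzU, rfl⟩, hU⟩ := H x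
  have h1 : ((U.ι ≫ pullback.snd f g).stalkMap ⟨z, hzU⟩).hom.Flat := Flat.stalkMap _ _
  have h2 : ((pullback.snd f g).stalkMap z).hom.Flat := by
    have h1' : (((U.ι.stalkMap ⟨z, hzU⟩).hom).comp
        ((pullback.snd f g).stalkMap z).hom).Flat := by
      have := h1
      rw [Scheme.Hom.stalkMap_comp] at this
      exact this
    exact (RingHom.Flat.comp_iff_of_bijective_left
      (ConcreteCategory.bijective_of_isIso (U.ι.stalkMap ⟨z, hzU⟩))).mp h1'
  have h3 : ((pullback.snd f g ≫ g).stalkMap z).hom.Flat := by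
    have : (((pullback.snd f g).stalkMap z).hom.comp
        (g.stalkMap (pullback.snd f g z)).hom).Flat :=
      RingHom.Flat.comp (Flat.stalkMap g _) h2
    rw [Scheme.Hom.stalkMap_comp]
    exact this
  have h4 : ((pullback.fst f g ≫ f).stalkMap z).hom.Flat := by
    rw [Scheme.Hom.stalkMap_congr_hom _ _ pullback.condition z]
    refine RingHom.Flat.comp (RingHom.Flat.of_bijective ?_) h3
    exact ConcreteCategory.bijective_of_isIso _
  have h5 : (((pullback.fst f g).stalkMap z).hom.comp
      (f.stalkMap (pullback.fst f g z)).hom).Flat := by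
    have := h4
    rw [Scheme.Hom.stalkMap_comp] at this
    exact this
  exact RingHom.Flat.of_comp_of_isLocalHom _ _ (Flat.stalkMap (pullback.fst f g) z) h5

end Groth.Agent.Lib.Helper8
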