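import Mathlib
import Groth.Agent.Lib.Helper1.WeaklyEtaleLib
import Groth.Agent.Lib.Helper8.FlatEtale

/-!
# Flat + unramified + finite type implies formally étale (no finite presentation needed)
-/

set_option autoImplicit false
universe u

namespace Groth.Agent.Lib.Helper8.FlatUnramFormallyEtale

/-- The quotient by an idempotent ideal is formally étale. -/
theorem formallyEtale_quotient_of_isIdempotentElem {C : Type u} [CommRing C] (K : Ideal C)
    (hK : IsIdempotentElem K) : Algebra.FormallyEtale C (C ⧸ K) := by
  have hsub : ∀ (B' : Type u) [CommRing B'] [Algebra C B'] (ψ₁ ψ₂ : C ⧸ K →ₐ[C] B'), ψ₁ = ψ₂ := by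
    intro B' _ _ ψ₁ ψ₂
    apply AlgHom.ext
    intro x
    obtain ⟨c, rfl⟩ := Ideal.Quotient.mk_surjective x
    have h : (Ideal.Quotient.mk K c) = algebraMap C (C ⧸ K) c := rfl
    rw [h, ψ₁.commutes, ψ₂.commutes]
  rw [Algebra.FormallyEtale.iff_comp_bijective]
  intro B _ _ I hI
  refine ⟨fun ψ₁ ψ₂ _ => hsub B ψ₁ ψ₂, fun ψ => ?_⟩
  have h1 : ∀ k ∈ K, algebraMap C B k ∈ I := by
    intro k hk
    have h2 : algebraMap C (B ⧸ I) k = 0 := by
      have h3 : algebraMap C (C ⧸ K) k = 0 := Ideal.Quotient.eq_zero_iff_mem.mpr hk
      rw [← ψ.commutes, h3, map_zero]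
    rw [IsScalarTower.algebraMap_apply C B (B ⧸ I)] at h2
    exact Ideal.Quotient.eq_zero_iff_mem.mp h2
  have h4 : K.map (algebraMap C B) ≤ I := Ideal.map_le_iff_le_comap.mpr h1
  have h5 : K.map (algebraMap C B) = ⊥ := by
    have h6 : K.map (algebraMap C B) = K.map (algebraMap C B) * K.map (algebraMap C B) := by
      rw [← Ideal.map_mul, hK.eq]
    rw [eq_bot_iff, h6, ← hI, pow_two]
    exact Ideal.mul_mono h4 h4
  have h7 : ∀ k ∈ K, (Algebra.ofId C B) k = 0 := by
    intro k hk
    have : algebraMap C B k ∈ K.map (algebraMap C B) := Ideal.mem_map_of_mem _ hk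
    rw [h5] at this
    exact this
  exact ⟨Ideal.Quotient.liftₐ K (Algebra.ofId C B) h7, hsub _ _ _⟩

/-- A surjective algebra with idempotent kernel is formally étale. -/
theorem formallyEtale_of_surjective_of_pure {C D : Type u} [CommRing C] [CommRing D] [Algebra C D]
    (hs : Function.Surjective (algebraMap C D)) [Module.Flat C D] : Algebra.FormallyEtale C D := by
  have hs' : Function.Surjective (Algebra.ofId C D) := hs
  haveI hpure : (RingHom.ker (algebraMap C D)).Pure :=
    Groth.Agent.Lib.Helper1.WeaklyEtale.pure_ker_of_flat_of_surjective _ hs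
      (RingHom.flat_algebraMap_iff.mpr inferInstance)
  have hK : RingHom.ker (Algebra.ofId C D) = RingHom.ker (algebraMap C D) := rfl
  have hidem : IsIdempotentElem (RingHom.ker (Algebra.ofId C D)) := by
    rw [hK]; exact Ideal.isIdempotentElem_of_pure _
  haveI := formallyEtale_quotient_of_isIdempotentElem _ hidem
  exact Algebra.FormallyEtale.of_equiv (Ideal.quotientKerAlgEquivOfSurjective hs')

/-- A flat, formally unramified algebra of finite type is formally étale. -/
theorem formallyEtale_of_flat_of_unramified (A B : Type u) [CommRing A] [CommRing B] [Algebra A B]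
    [Algebra.FiniteType A B] [Module.Flat A B] [Algebra.FormallyUnramified A B] :
    Algebra.FormallyEtale A B := by
  have hloc : ∀ Q : PrimeSpectrum B, Q ∈ Algebra.smoothLocus A B := by
    intro Q
    obtain ⟨f, hfQ, P, φ, hφ⟩ :=
      Algebra.IsUnramifiedAt.exists_hasStandardEtaleSurjectionOn (R := A) Q.asIdeal
    letI : Algebra P.Ring (Localization.Away f) := φ.toRingHom.toAlgebra
    haveI : IsScalarTower A P.Ring (Localization.Away f) :=
      IsScalarTower.of_algebraMap_eq (fun a => (φ.commutes a).symm)
    haveI : Module.Flat A (Localization.Away f) := Module.Flat.trans A B (Localization.Away f)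
    haveI : Module.Flat P.Ring (Localization.Away f) :=
      Groth.Agent.Lib.Helper8.flat_of_flat_of_unramified A P.Ring (Localization.Away f)
    haveI : Algebra.FormallyEtale P.Ring (Localization.Away f) :=
      formallyEtale_of_surjective_of_pure hφ
    haveI : Algebra.FormallyEtale A (Localization.Away f) :=
      Algebra.FormallyEtale.comp A P.Ring (Localization.Away f)
    have hQf : Q ∈ (PrimeSpectrum.basicOpen f : Set (PrimeSpectrum B)) := hfQ
    rw [← PrimeSpectrum.localization_away_comap_range (Localization.Away f) f] at hQf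
    obtain ⟨q, rfl⟩ := hQf
    have hq : q ∈ Algebra.smoothLocus A (Localization.Away f) := by
      show Algebra.FormallySmooth A (Localization.AtPrime q.asIdeal)
      exact Algebra.FormallySmooth.comp A (Localization.Away f) (Localization.AtPrime q.asIdeal)
    rw [← Algebra.smoothLocus_comap_of_isLocalization (R := A) (A := B)
      (Af := Localization.Away f) f] at hq
    exact hq
  haveI : Subsingleton (Algebra.H1Cotangent A B) := by
    rw [← Module.support_eq_empty_iff (R := B)]
    have h := Algebra.smoothLocus_eq_compl_support_inter (R := A) (A := B)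
    ext Q
    simp only [Set.mem_empty_iff_false, iff_false]
    intro hQ
    have := hloc Q
    rw [h] at this
    exact this.1 hQ
  exact ⟨inferInstance, inferInstance⟩

end Groth.Agent.Lib.Helper8.FlatUnramFormallyEtale
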