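import Mathlib
import Groth.Prelude.Def_MoreMor
import Groth.Agent.Lib.Helper6.FormalEtaleLocal2
import Groth.Agent.Lib.Helper8.FlatUnramFormallyEtale

set_option autoImplicit false
universe u
open AlgebraicGeometry CategoryTheory

namespace Groth.Agent.Lib.Helper8.FlatUnramFormallyEtaleSch

theorem isFormallyEtaleHom_of_flat_of_unramified {X S : Scheme.{u}} (f : X ⟶ S)
    [Flat f] [FormallyUnramified f] [LocallyOfFiniteType f] : MoreMor.IsFormallyEtaleHom f := by
  apply Groth.Agent.Lib.Helper6.FormalEtaleLocal.isFormallyEtaleHom_of_affineLocally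
  intro U V hU hV hUV
  letI := (f.appLE V U hUV).hom.toAlgebra
  haveI : Algebra.FiniteType Γ(S, V) Γ(X, U) := f.finiteType_appLE hV hU hUV
  haveI : Module.Flat Γ(S, V) Γ(X, U) :=
    HasRingHomProperty.appLE @Flat f ‹_› ⟨V, hV⟩ ⟨U, hU⟩ hUV
  haveI : Algebra.FormallyUnramified Γ(S, V) Γ(X, U) := f.formallyUnramified_appLE hV hU hUV
  exact Groth.Agent.Lib.Helper8.FlatUnramFormallyEtale.formallyEtale_of_flat_of_unramified _ _

end Groth.Agent.Lib.Helper8.FlatUnramFormallyEtaleSch
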