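import Mathlib

/-!
# Torsion of a flat module over a ring along a finitely generated ideal

Phase II of the proof of S1480 (pure algebra): if `M` is a flat `R`-module, `I = (P)` a finitely
generated ideal, `e : ι → M` a family which is a basis of `M / I M` over `R / I` (expressed
elementwise by `hS` and `hInd`) and `g : M` is killed by `p ^ N` for all `p ∈ P`, then there are an
ideal `F` of `R` and an injective `R`-linear map `F^ι → M` with `g` in its image.
-/

set_option autoImplicit false
universe u v w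

namespace Groth.Agent.Lib.Helper8.FlqfAlg1

open Module

variable {R : Type u} {M : Type v} [CommRing R] [AddCommGroup M] [Module R M]
variable {ι : Type w} [Fintype ι]

/-- Finite sum representation of elements of `J • ⊤`. -/
theorem exists_sum_of_mem_smul_top (J : Ideal R) {x : M} (hx : x ∈ (J • ⊤ : Submodule R M)) :
    ∃ (L : Type) (_ : Fintype L) (q : L → R) (z : L → M),
      (∀ l, q l ∈ J) ∧ x = ∑ l, q l • z l := by
  refine Submodule.smul_induction_on hx ?_ ?_
  · intro r hr n _
    exact ⟨Unit, inferInstance, fun _ => r, fun _ => n, fun _ => hr, by simp⟩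
  · rintro x y ⟨L₁, _, q₁, z₁, hq₁, rfl⟩ ⟨L₂, _, q₂, z₂, hq₂, rfl⟩
    refine ⟨L₁ ⊕ L₂, inferInstance, Sum.elim q₁ q₂, Sum.elim z₁ z₂, ?_, ?_⟩
    · rintro (l | l)
      · exact hq₁ l
      · exact hq₂ l
    · rw [Fintype.sum_sum_type]
      simp

/-- Equational criterion of flatness modulo an ideal. -/
theorem exists_trivial_relation_mod [Module.Flat R M] (J : Ideal R) (c : ι → R) (e : ι → M)
    (h : ∑ k, c k • e k ∈ (J • ⊤ : Submodule R M)) :
    ∃ (n : ℕ) (α : ι → Fin n → R) (y : Fin n → M),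
      (∀ k, e k = ∑ j, α k j • y j) ∧ ∀ j, ∑ k, c k * α k j ∈ J := by
  obtain ⟨L, _, q, z, hq, hsum⟩ := exists_sum_of_mem_smul_top J h
  have hrel : ∑ i : ι ⊕ L, (Sum.elim c (fun l => - q l) i) • (Sum.elim e z i) = 0 := by
    rw [Fintype.sum_sum_type]
    simp only [Sum.elim_inl, Sum.elim_inr, neg_smul, Finset.sum_neg_distrib]
    rw [hsum]
    abel
  obtain ⟨n, a, y, hy, ha⟩ := Module.Flat.isTrivialRelation_of_sum_smul_eq_zero hrel
  refine ⟨n, fun k j => a (Sum.inl k) j, y, fun k => hy (Sum.inl k), fun j => ?_⟩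
  have h1 := ha j
  rw [Fintype.sum_sum_type] at h1
  simp only [Sum.elim_inl, Sum.elim_inr, neg_mul, Finset.sum_neg_distrib] at h1
  have h2 : ∑ k, c k * a (Sum.inl k) j = ∑ l, q l * a (Sum.inr l) j := by
    rw [← sub_eq_zero, sub_eq_add_neg]
    exact h1
  rw [h2]
  exact J.sum_mem fun l _ => J.mul_mem_right _ (hq l)

/-- Spanning modulo `I` implies spanning modulo `I ^ K`. -/
theorem span_mod_pow (I : Ideal R) (e : ι → M)
    (hS : ∀ y : M, ∃ d : ι → R, y - ∑ k, d k • e k ∈ (I • ⊤ : Submodule R M)) (K : ℕ) :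
    ∀ y : M, ∃ d : ι → R, y - ∑ k, d k • e k ∈ (I ^ K • ⊤ : Submodule R M) := by
  induction K with
  | zero =>
    intro y
    refine ⟨0, ?_⟩
    rw [pow_zero, Ideal.one_eq_top, Submodule.top_smul]
    trivial
  | succ K ih =>
    intro y
    obtain ⟨d, hd⟩ := ih y
    have key : ∀ w ∈ (I ^ K • ⊤ : Submodule R M), ∃ d' : ι → R,
        w - ∑ k, d' k • e k ∈ (I ^ (K + 1) • ⊤ : Submodule R M) := by
      intro w hw
      refine Submodule.smul_induction_on hw ?_ ?_
      · intro q hq z _
        obtain ⟨dz, hdz⟩ := hS z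
        refine ⟨fun k => q * dz k, ?_⟩
        have h1 : q • z - ∑ k, (q * dz k) • e k = q • (z - ∑ k, dz k • e k) := by
          rw [smul_sub, Finset.smul_sum]
          simp only [mul_smul]
        rw [h1, pow_succ, Submodule.mul_smul]
        exact Submodule.smul_mem_smul hq hdz
      · rintro x y ⟨d1, h1⟩ ⟨d2, h2⟩
        refine ⟨d1 + d2, ?_⟩
        have h3 : x + y - ∑ k, (d1 + d2) k • e k =
            (x - ∑ k, d1 k • e k) + (y - ∑ k, d2 k • e k) := by
          simp only [Pi.add_apply, add_smul, Finset.sum_add_distrib]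
          abel
        rw [h3]
        exact add_mem h1 h2
    obtain ⟨d', hd'⟩ := key _ hd
    refine ⟨d + d', ?_⟩
    have h3 : y - ∑ k, (d + d') k • e k = (y - ∑ k, d k • e k) - ∑ k, d' k • e k := by
      simp only [Pi.add_apply, add_smul, Finset.sum_add_distrib]
      abel
    rw [h3]
    exact hd'

/-- Exchange of summation. -/
theorem sum_swap {n : ℕ} (α : ι → Fin n → R) (d : Fin n → ι → R) (c : ι → R) (i : ι) :
    ∑ k, c k * ∑ j, α k j * d j i = ∑ j, (∑ k, c k * α k j) * d j i := by
  simp only [Finset.mul_sum, Finset.sum_mul]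
  rw [Finset.sum_comm]
  exact Finset.sum_congr rfl fun j _ => Finset.sum_congr rfl fun k _ => by ring

/-- If `e = α y` and `y ≡ d e` modulo `J`, and `e` is independent modulo `J`, then `α d ≡ 1`. -/
theorem matrix_congr_one [DecidableEq ι] (J : Ideal R) (e : ι → M) {n : ℕ} (α : ι → Fin n → R)
    (y : Fin n → M) (hey : ∀ k, e k = ∑ j, α k j • y j) (d : Fin n → ι → R)
    (hd : ∀ j, y j - ∑ i, d j i • e i ∈ (J • ⊤ : Submodule R M))
    (hInd : ∀ c : ι → R, ∑ k, c k • e k ∈ (J • ⊤ : Submodule R M) → ∀ k, c k ∈ J) :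
    ∀ k i, (if i = k then (1 : R) else 0) - ∑ j, α k j * d j i ∈ J := by
  intro k
  have hm : e k - ∑ i, (∑ j, α k j * d j i) • e i ∈ (J • ⊤ : Submodule R M) := by
    have h1 : e k - ∑ i, (∑ j, α k j * d j i) • e i =
        ∑ j, α k j • (y j - ∑ i, d j i • e i) := by
      have h2 : ∑ i, (∑ j, α k j * d j i) • e i = ∑ j, α k j • ∑ i, d j i • e i := by
        simp only [Finset.smul_sum, Finset.sum_smul, mul_smul]
        rw [Finset.sum_comm]
      rw [h2]
      conv_lhs => rw [hey k]
      simp only [smul_sub, Finset.sum_sub_distrib]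
    rw [h1]
    exact Submodule.sum_mem _ fun j _ => Submodule.smul_mem _ _ (hd j)
  refine hInd (fun i => (if i = k then (1 : R) else 0) - ∑ j, α k j * d j i) ?_
  have h1 : ∑ i, ((if i = k then (1 : R) else 0) - ∑ j, α k j * d j i) • e i =
      e k - ∑ i, (∑ j, α k j * d j i) • e i := by
    simp only [sub_smul, Finset.sum_sub_distrib, ite_smul, one_smul, zero_smul,
      Finset.sum_ite_eq', Finset.mem_univ, if_true]
  rw [h1]
  exact hm

/-- Independence modulo `I` implies independence modulo `I'` when `I ^ K ≤ I' ≤ I`. -/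
theorem indep_thicken [Module.Flat R M] (I I' : Ideal R) (hI' : I' ≤ I) (K : ℕ)
    (hK : I ^ K ≤ I') (e : ι → M)
    (hS : ∀ y : M, ∃ d : ι → R, y - ∑ k, d k • e k ∈ (I • ⊤ : Submodule R M))
    (hInd : ∀ c : ι → R, ∑ k, c k • e k ∈ (I • ⊤ : Submodule R M) → ∀ k, c k ∈ I)
    (c : ι → R) (hc : ∑ k, c k • e k ∈ (I' • ⊤ : Submodule R M)) : ∀ k, c k ∈ I' := by
  classical
  obtain ⟨n, α, y, hey, hcα⟩ := exists_trivial_relation_mod I' c e hc
  have hS' : ∀ y : M, ∃ d : ι → R, y - ∑ k, d k • e k ∈ (I' • ⊤ : Submodule R M) := fun y => by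
    obtain ⟨d, hd⟩ := span_mod_pow I e hS K y
    exact ⟨d, Submodule.smul_mono_left hK hd⟩
  choose d hd using fun j => hS' (y j)
  have hE := matrix_congr_one I e α y hey d
    (fun j => Submodule.smul_mono_left hI' (hd j)) hInd
  have hcm : ∀ i, ∑ k, c k * ∑ j, α k j * d j i ∈ I' := by
    intro i
    rw [sum_swap]
    exact I'.sum_mem fun j _ => I'.mul_mem_right _ (hcα j)
  have hstep : ∀ i, c i - ∑ k, c k * ((if i = k then (1 : R) else 0) - ∑ j, α k j * d j i)
      ∈ I' := by
    intro i
    have h1 : c i - ∑ k, c k * ((if i = k then (1 : R) else 0) - ∑ j, α k j * d j i) =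
        ∑ k, c k * ∑ j, α k j * d j i := by
      simp only [mul_sub, Finset.sum_sub_distrib, mul_ite, mul_one, mul_zero, Finset.sum_ite_eq,
        Finset.mem_univ, if_true]
      ring
    rw [h1]
    exact hcm i
  have hind : ∀ m : ℕ, ∀ i, c i ∈ I ^ m ⊔ I' := by
    intro m
    induction m with
    | zero =>
      intro i
      rw [pow_zero, Ideal.one_eq_top, top_sup_eq]
      trivial
    | succ m ih =>
      intro i
      have h1 : ∑ k, c k * ((if i = k then (1 : R) else 0) - ∑ j, α k j * d j i)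
          ∈ I ^ (m + 1) ⊔ I' := by
        refine Ideal.sum_mem _ fun k _ => ?_
        have h2 : c k * ((if i = k then (1 : R) else 0) - ∑ j, α k j * d j i)
            ∈ (I ^ m ⊔ I') * I := Ideal.mul_mem_mul (ih k) (hE k i)
        refine (?_ : (I ^ m ⊔ I') * I ≤ I ^ (m + 1) ⊔ I') h2
        rw [Ideal.sup_mul, pow_succ]
        exact sup_le_sup le_rfl Ideal.mul_le_left
      have h3 := Ideal.add_mem _ (Ideal.mem_sup_right (hstep i)) h1
      simpa using h3
  intro k
  exact (sup_le hK le_rfl) (hind K k)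

theorem annihilator_smul_eq_zero (I' : Ideal R) {u : R} (hu : u ∈ Submodule.annihilator I')
    {w : M} (hw : w ∈ (I' • ⊤ : Submodule R M)) : u • w = 0 := by
  refine Submodule.smul_induction_on hw ?_ ?_
  · intro q hq z _
    rw [← mul_smul, show u * q = 0 from (Submodule.mem_annihilator.mp hu) q hq, zero_smul]
  · intro x y hx hy
    rw [smul_add, hx, hy, add_zero]

/-- An element killed by finitely many scalars is a combination with coefficients killed by
these scalars (flatness). -/
theorem exists_decomp_annihilated [Module.Flat R M] (P : Finset R) (g : M)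
    (hg : ∀ q ∈ P, q • g = 0) :
    ∃ (n : ℕ) (u : Fin n → R) (z : Fin n → M), g = ∑ l, u l • z l ∧
      ∀ l, ∀ q ∈ P, q * u l = 0 := by
  classical
  induction P using Finset.induction_on with
  | empty => exact ⟨1, fun _ => 1, fun _ => g, by simp, by simp⟩
  | insert q₀ P' hq₀ ih =>
    obtain ⟨n, u, z, hgz, hu⟩ := ih (fun q hq => hg q (Finset.mem_insert_of_mem hq))
    have hrel : ∑ l, (q₀ * u l) • z l = 0 := by
      have h1 := hg q₀ (Finset.mem_insert_self _ _)
      rw [hgz, Finset.smul_sum] at h1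
      simpa only [mul_smul] using h1
    obtain ⟨k, a, w, hw, ha⟩ := Module.Flat.isTrivialRelation_of_sum_smul_eq_zero hrel
    refine ⟨k, fun j => ∑ l, u l * a l j, w, ?_, ?_⟩
    · rw [hgz]
      calc ∑ l, u l • z l = ∑ l, u l • ∑ j, a l j • w j :=
            Finset.sum_congr rfl fun l _ => by rw [hw l]
        _ = ∑ j, (∑ l, u l * a l j) • w j := by
            simp only [Finset.smul_sum, Finset.sum_smul, mul_smul]
            rw [Finset.sum_comm]
    · intro j q hq
      rw [Finset.mem_insert] at hq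
      rcases hq with rfl | hq
      · rw [Finset.mul_sum]
        have h1 := ha j
        simpa only [mul_assoc] using h1
      · rw [Finset.mul_sum]
        refine Finset.sum_eq_zero fun l _ => ?_
        rw [← mul_assoc, hu l q hq, zero_mul]

/-- Core: with spanning and independence modulo `I' = (P)` and `g` killed by `P`. -/
theorem core [Module.Flat R M] (P : Finset R) (e : ι → M)
    (hS : ∀ y : M, ∃ d : ι → R,
      y - ∑ k, d k • e k ∈ (Ideal.span (P : Set R) • ⊤ : Submodule R M))
    (hInd : ∀ c : ι → R, ∑ k, c k • e k ∈ (Ideal.span (P : Set R) • ⊤ : Submodule R M) →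
      ∀ k, c k ∈ Ideal.span (P : Set R))
    (g : M) (hg : ∀ q ∈ P, q • g = 0) :
    ∃ φ : (ι → ↥(Submodule.annihilator (Ideal.span (P : Set R)))) →ₗ[R] M,
      Function.Injective φ ∧ g ∈ LinearMap.range φ := by
  classical
  let φ : (ι → ↥(Submodule.annihilator (Ideal.span (P : Set R)))) →ₗ[R] M :=
    (Fintype.linearCombination R e).comp
      (LinearMap.compLeft (Submodule.subtype (Submodule.annihilator (Ideal.span (P : Set R)))) ι)
  have hφ : ∀ x : ι → ↥(Submodule.annihilator (Ideal.span (P : Set R))),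
      φ x = ∑ k, (x k : R) • e k := fun x => by
    simp [φ, Fintype.linearCombination_apply]
  refine ⟨φ, ?_, ?_⟩
  · rw [injective_iff_map_eq_zero]
    intro x hx
    rw [hφ] at hx
    have h0 : ∑ k, (x k : R) • e k ∈ ((⊥ : Ideal R) • ⊤ : Submodule R M) := by
      rw [hx]
      exact zero_mem _
    obtain ⟨n, α, y, hey, hxα⟩ := exists_trivial_relation_mod ⊥ (fun k => (x k : R)) e h0
    choose d hd using fun j => hS (y j)
    have hE := matrix_congr_one (Ideal.span (P : Set R)) e α y hey d hd hInd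
    have hx0 : ∀ j, ∑ k, (x k : R) * α k j = 0 := fun j => by simpa using hxα j
    funext i
    apply Subtype.ext
    have h1 : ∑ k, (x k : R) * ∑ j, α k j * d j i = 0 := by
      rw [sum_swap]
      simp [hx0]
    have h2 : ∑ k, (x k : R) * ((if i = k then (1 : R) else 0) - ∑ j, α k j * d j i) = 0 :=
      Finset.sum_eq_zero fun k _ => (Submodule.mem_annihilator.mp (x k).2) _ (hE k i)
    have h3 : ∑ k, (x k : R) * ((if i = k then (1 : R) else 0) - ∑ j, α k j * d j i) =
        (x i : R) - ∑ k, (x k : R) * ∑ j, α k j * d j i := by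
      simp only [mul_sub, Finset.sum_sub_distrib, mul_ite, mul_one, mul_zero, Finset.sum_ite_eq,
        Finset.mem_univ, if_true]
    rw [h3, h1, sub_zero] at h2
    simpa using h2
  · obtain ⟨n, u, z, hgz, hu⟩ := exists_decomp_annihilated P g hg
    have huF : ∀ l, u l ∈ Submodule.annihilator (Ideal.span (P : Set R)) := fun l => by
      rw [Ideal.span, Submodule.mem_annihilator_span]
      rintro ⟨q, hq⟩
      rw [smul_eq_mul, mul_comm]
      exact hu l q hq
    choose d hd using fun l => hS (z l)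
    refine ⟨fun k => ⟨∑ l, u l * d l k,
      Ideal.sum_mem _ fun l _ => Ideal.mul_mem_right _ _ (huF l)⟩, ?_⟩
    rw [hφ, hgz]
    have h1 : ∀ l, u l • z l = u l • ∑ k, d l k • e k := fun l => by
      have h2 := annihilator_smul_eq_zero (Ideal.span (P : Set R)) (huF l) (hd l)
      rw [smul_sub, sub_eq_zero] at h2
      exact h2
    rw [Finset.sum_congr rfl fun l _ => h1 l]
    simp only [Finset.smul_sum, Finset.sum_smul, mul_smul]
    rw [Finset.sum_comm]

/-- Phase II main statement. -/
theorem phaseII [Module.Flat R M] (P : Finset R) (N : ℕ) (e : ι → M)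
    (hS : ∀ y : M, ∃ d : ι → R,
      y - ∑ k, d k • e k ∈ (Ideal.span (P : Set R) • ⊤ : Submodule R M))
    (hInd : ∀ c : ι → R, ∑ k, c k • e k ∈ (Ideal.span (P : Set R) • ⊤ : Submodule R M) →
      ∀ k, c k ∈ Ideal.span (P : Set R))
    (g : M) (hg : ∀ p ∈ P, p ^ N • g = 0) :
    ∃ (F : Ideal R) (φ : (ι → ↥F) →ₗ[R] M), Function.Injective φ ∧ g ∈ LinearMap.range φ := by
  classical
  have hI'I : Ideal.span ((P.image (fun p => p ^ (N + 1)) : Finset R) : Set R) ≤
      Ideal.span (P : Set R) := by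
    rw [Ideal.span_le]
    intro q hq
    rw [Finset.mem_coe, Finset.mem_image] at hq
    obtain ⟨p, hp, rfl⟩ := hq
    exact Ideal.pow_mem_of_mem _ (Ideal.subset_span hp) _ (Nat.succ_pos _)
  have hrad : Ideal.span (P : Set R) ≤
      (Ideal.span ((P.image (fun p => p ^ (N + 1)) : Finset R) : Set R)).radical := by
    rw [Ideal.span_le]
    intro p hp
    exact ⟨N + 1, Ideal.subset_span (Finset.mem_coe.mpr (Finset.mem_image_of_mem _ hp))⟩
  obtain ⟨K, hK⟩ := Ideal.exists_pow_le_of_le_radical_of_fg hrad ⟨P, rfl⟩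
  have hS' : ∀ y : M, ∃ d : ι → R, y - ∑ k, d k • e k ∈
      (Ideal.span ((P.image (fun p => p ^ (N + 1)) : Finset R) : Set R) • ⊤ :
        Submodule R M) := fun y => by
    obtain ⟨d, hd⟩ := span_mod_pow _ e hS K y
    exact ⟨d, Submodule.smul_mono_left hK hd⟩
  have hInd' := indep_thicken _ _ hI'I K hK e hS hInd
  have hg' : ∀ q ∈ P.image (fun p => p ^ (N + 1)), q • g = 0 := by
    intro q hq
    obtain ⟨p, hp, rfl⟩ := Finset.mem_image.mp hq
    rw [pow_succ, mul_comm, mul_smul, hg p hp, smul_zero]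
  obtain ⟨φ, h1, h2⟩ := core (P.image (fun p => p ^ (N + 1))) e hS' hInd' g hg'
  exact ⟨_, φ, h1, h2⟩

end Groth.Agent.Lib.Helper8.FlqfAlg1
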