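import Mathlib
import Groth.Agent.Lib.Helper8.FlqfAlg1

/-!
# Phase I of S1480 (pure algebra), part 1

`A → B` a ring map, `g : B` nonzero.  We choose a prime `𝔭` of `A` minimal over the annihilator
of `g`, a family `e : ι → B` giving a basis of the fibre `κ(𝔭) ⊗ B`, and spread out the spanning
and independence statements.
-/

set_option autoImplicit false
universe u

namespace Groth.Agent.Lib.Helper8.FlqfAlg2

open TensorProduct

variable {A B : Type u} [CommRing A] [CommRing B] [Algebra A B]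

/-- Step 1: a prime minimal over the annihilator of `g`. -/
theorem exists_prime_nilpotent_on (g : B) (hg : g ≠ 0) :
    ∃ 𝔭 : Ideal A, 𝔭.IsPrime ∧ (∀ x : A, x • g = 0 → x ∈ 𝔭) ∧
      ∀ x ∈ 𝔭, ∃ (n : ℕ) (s : A), s ∉ 𝔭 ∧ (s * x ^ n) • g = 0 := by
  classical
  set J₀ : Ideal A := LinearMap.ker (LinearMap.toSpanSingleton A B g) with hJ₀
  have hmem : ∀ x : A, x ∈ J₀ ↔ x • g = 0 := fun x => by
    rw [hJ₀, LinearMap.mem_ker, LinearMap.toSpanSingleton_apply]
  have hne : J₀ ≠ ⊤ := by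
    intro h
    have h1 : (1 : A) ∈ J₀ := h ▸ Submodule.mem_top
    rw [hmem, one_smul] at h1
    exact hg h1
  obtain ⟨⟨𝔭, h𝔭⟩⟩ := Ideal.nonempty_minimalPrimes hne
  have hprime : 𝔭.IsPrime := h𝔭.1.1
  have hle : J₀ ≤ 𝔭 := h𝔭.1.2
  refine ⟨𝔭, hprime, fun x hx => hle ((hmem x).mpr hx), fun x hx => ?_⟩
  by_contra hcon
  push_neg at hcon
  have hdisj : Disjoint (J₀ : Set A)
      ((𝔭.primeCompl ⊔ Submonoid.powers x : Submonoid A) : Set A) := by
    rw [Set.disjoint_left]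
    intro z hz hz'
    rw [SetLike.mem_coe, Submonoid.mem_sup] at hz'
    obtain ⟨s, hs, _, ⟨n, rfl⟩, rfl⟩ := hz'
    exact hcon n s hs ((hmem _).mp hz)
  obtain ⟨𝔮, h𝔮, hJ𝔮, h𝔮disj⟩ := Ideal.exists_le_prime_disjoint J₀ _ hdisj
  have h𝔮𝔭 : 𝔮 ≤ 𝔭 := by
    intro z hz
    by_contra hz'
    exact Set.disjoint_left.mp h𝔮disj hz
      (Submonoid.mem_sup_left (show z ∈ 𝔭.primeCompl from hz'))
  have h𝔭𝔮 : 𝔭 ≤ 𝔮 := h𝔭.2 ⟨h𝔮, hJ𝔮⟩ h𝔮𝔭
  exact Set.disjoint_left.mp h𝔮disj (h𝔭𝔮 hx)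
    (Submonoid.mem_sup_right (Submonoid.mem_powers x))

section Fibre

variable (𝔭 : Ideal A) [𝔭.IsPrime]

theorem one_tmul_eq_zero_of_mem_map {w : B} (hw : w ∈ 𝔭.map (algebraMap A B)) :
    (1 : 𝔭.ResidueField) ⊗ₜ[A] w = 0 := by
  have h1 : 𝔭.map (algebraMap A B) ≤
      RingHom.ker (Algebra.TensorProduct.includeRight : B →ₐ[A] 𝔭.ResidueField ⊗[A] B) := by
    rw [Ideal.map_le_iff_le_comap]
    intro i hi
    rw [Ideal.mem_comap, RingHom.mem_ker, AlgHom.commutes, Algebra.TensorProduct.algebraMap_apply,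
      (Ideal.algebraMap_residueField_eq_zero).mpr hi, TensorProduct.zero_tmul]
  have := h1 hw
  rw [RingHom.mem_ker, Algebra.TensorProduct.includeRight_apply] at this
  exact this

attribute [local instance] Algebra.TensorProduct.rightAlgebra in
theorem exists_smul_mem_of_one_tmul_eq_zero {w : B}
    (hw : (1 : 𝔭.ResidueField) ⊗ₜ[A] w = 0) :
    ∃ s ∉ 𝔭, s • w ∈ 𝔭.map (algebraMap A B) := by
  have h1 : algebraMap B (𝔭.Fiber B) w = 0 := by
    rw [Algebra.TensorProduct.right_algebraMap_apply]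
    exact hw
  have h2 := congrArg (Ideal.Fiber.algEquivAux₁ 𝔭) h1
  rw [AlgEquiv.commutes, map_zero, ← Ideal.Quotient.mk_algebraMap, Ideal.Quotient.eq_zero_iff_mem,
    IsLocalization.algebraMap_mem_map_algebraMap_iff
      (Algebra.algebraMapSubmonoid B 𝔭.primeCompl)] at h2
  obtain ⟨m, hm, hmw⟩ := h2
  obtain ⟨s, hs, rfl⟩ := hm
  exact ⟨s, hs, by rw [Algebra.smul_def]; exact hmw⟩

theorem exists_mul_eq_algebraMap (c : 𝔭.ResidueField) :
    ∃ r ∉ 𝔭, ∃ s : A, algebraMap A 𝔭.ResidueField r * c = algebraMap A 𝔭.ResidueField s := by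
  obtain ⟨r, hr, s, h⟩ := Ideal.ResidueField.exists_smul_eq_tmul_one 𝔭 ((1 : A) ⊗ₜ[A] c)
  refine ⟨r, hr, s, ?_⟩
  have h2 := congrArg (TensorProduct.lid A 𝔭.ResidueField) h
  simpa [Algebra.smul_def] using h2

/-- Step 3: a family of elements of `B` giving a basis of the fibre. -/
theorem exists_fibre_family [Module.Finite 𝔭.ResidueField (𝔭.Fiber B)] :
    ∃ (ι : Type u) (_ : Fintype ι) (e : ι → B),
      (∀ y : B, ∃ s ∉ 𝔭, ∃ d : ι → A,
        s • y - ∑ k, d k • e k ∈ 𝔭.map (algebraMap A B)) ∧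
      (∀ c : ι → A, ∑ k, c k • e k ∈ 𝔭.map (algebraMap A B) → ∀ k, c k ∈ 𝔭) := by
  classical
  let v : B → 𝔭.Fiber B := fun y => (1 : 𝔭.ResidueField) ⊗ₜ[A] y
  obtain ⟨ι, a, -, hspan, hli⟩ := exists_linearIndependent' 𝔭.ResidueField v
  haveI : Finite ι := hli.finite
  haveI : Fintype ι := Fintype.ofFinite ι
  have htop : Submodule.span 𝔭.ResidueField (Set.range v) = ⊤ := by
    rw [eq_top_iff]
    rintro x -
    obtain ⟨r, hr, s, hrs⟩ := Ideal.Fiber.exists_smul_eq_one_tmul 𝔭 x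
    have hu : IsUnit (algebraMap A 𝔭.ResidueField r) := by
      rw [isUnit_iff_ne_zero, ne_eq, Ideal.algebraMap_residueField_eq_zero]
      exact hr
    rw [← Submodule.smul_mem_iff_of_isUnit _ hu, algebraMap_smul, hrs]
    exact Submodule.subset_span ⟨s, rfl⟩
  have hsm : ∀ (x : A) (z : B), algebraMap A 𝔭.ResidueField x • v z = v (x • z) := by
    intro x z
    rw [algebraMap_smul]
    exact (TensorProduct.tmul_smul x (1 : 𝔭.ResidueField) z).symm
  refine ⟨ι, inferInstance, a, ?_, ?_⟩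
  · intro y
    have hy : v y ∈ Submodule.span 𝔭.ResidueField (Set.range (v ∘ a)) := by
      rw [hspan, htop]
      trivial
    obtain ⟨c, hc⟩ := (Submodule.mem_span_range_iff_exists_fun _).mp hy
    choose r hr s hrs using fun k => exists_mul_eq_algebraMap 𝔭 (c k)
    have hS : (∏ k, r k) ∉ 𝔭 := 𝔭.primeCompl.prod_mem (fun k _ => hr k)
    have hd : ∀ k, algebraMap A 𝔭.ResidueField (∏ j, r j) * c k =
        algebraMap A 𝔭.ResidueField ((∏ j ∈ Finset.univ.erase k, r j) * s k) := by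
      intro k
      have h1 : (∏ j, r j) = (∏ j ∈ Finset.univ.erase k, r j) * r k := by
        rw [mul_comm]
        exact (Finset.mul_prod_erase Finset.univ r (Finset.mem_univ k)).symm
      rw [h1, map_mul, map_mul, mul_assoc, hrs k]
    have h0 : v ((∏ j, r j) • y - ∑ k, ((∏ j ∈ Finset.univ.erase k, r j) * s k) • a k) = 0 := by
      show (1 : 𝔭.ResidueField) ⊗ₜ[A] _ = 0
      rw [TensorProduct.tmul_sub, TensorProduct.tmul_sum, sub_eq_zero]
      show v _ = ∑ k, v _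
      rw [← hsm, ← hc, Finset.smul_sum]
      refine Finset.sum_congr rfl fun k _ => ?_
      rw [smul_smul, hd k, Function.comp_apply, hsm]
    obtain ⟨s', hs', hmem⟩ := exists_smul_mem_of_one_tmul_eq_zero 𝔭 h0
    refine ⟨s' * ∏ k, r k, 𝔭.primeCompl.mul_mem hs' hS,
      fun k => s' * ((∏ j ∈ Finset.univ.erase k, r j) * s k), ?_⟩
    have h2 : (s' * ∏ k, r k) • y -
        ∑ k, (s' * ((∏ j ∈ Finset.univ.erase k, r j) * s k)) • a k =
        s' • ((∏ j, r j) • y - ∑ k, ((∏ j ∈ Finset.univ.erase k, r j) * s k) • a k) := by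
      rw [smul_sub, Finset.smul_sum, mul_smul]
      simp only [mul_smul]
    rw [h2]
    exact hmem
  · intro c hc k
    have h1 := one_tmul_eq_zero_of_mem_map 𝔭 hc
    rw [TensorProduct.tmul_sum] at h1
    have h2 : ∑ k, algebraMap A 𝔭.ResidueField (c k) • (v ∘ a) k = 0 := by
      rw [← h1]
      exact Finset.sum_congr rfl fun k _ => hsm _ _
    have h3 := Fintype.linearIndependent_iff.mp hli _ h2 k
    exact Ideal.algebraMap_residueField_eq_zero.mp h3

end Fibre

/-- An element of `J B` lies in `I B` for a finitely generated `I ≤ J`. -/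
theorem exists_fg_le_of_mem_map (J : Ideal A) {w : B} (hw : w ∈ J.map (algebraMap A B)) :
    ∃ I : Ideal A, I ≤ J ∧ I.FG ∧ w ∈ I.map (algebraMap A B) := by
  classical
  change w ∈ Submodule.span B ((algebraMap A B) '' (J : Set A)) at hw
  obtain ⟨T, hT, hwT⟩ := Submodule.mem_span_finite_of_mem_span hw
  obtain ⟨T', hT'J, rfl⟩ := Finset.subset_set_image_iff.mp hT
  refine ⟨Ideal.span (T' : Set A), Ideal.span_le.mpr hT'J, ⟨T', rfl⟩, ?_⟩
  rw [Ideal.map_span, ← Finset.coe_image]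
  exact hwT

section Spread

variable (𝔭 : Ideal A) [𝔭.IsPrime] {ι : Type u} [Fintype ι] (e : ι → B)

theorem exists_common_relation
    (hSp : ∀ y : B, ∃ s ∉ 𝔭, ∃ d : ι → A, s • y - ∑ k, d k • e k ∈ 𝔭.map (algebraMap A B))
    (Y : Finset B) :
    ∃ (a : A) (I : Ideal A), a ∉ 𝔭 ∧ I ≤ 𝔭 ∧ I.FG ∧
      ∀ y ∈ Y, ∃ d : ι → A, a • y - ∑ k, d k • e k ∈ I.map (algebraMap A B) := by
  classical
  induction Y using Finset.induction_on with
  | empty =>
    exact ⟨1, ⊥, 𝔭.primeCompl.one_mem, bot_le, Submodule.fg_bot, by simp⟩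
  | insert y₀ Y' hy₀ ih =>
    obtain ⟨a₁, I₁, ha₁, hI₁, hfg₁, h₁⟩ := ih
    obtain ⟨s, hs, d₀, hd₀⟩ := hSp y₀
    obtain ⟨I₂, hI₂, hfg₂, hw₂⟩ := exists_fg_le_of_mem_map 𝔭 hd₀
    refine ⟨s * a₁, I₁ ⊔ I₂, 𝔭.primeCompl.mul_mem hs ha₁, sup_le hI₁ hI₂, Submodule.FG.sup hfg₁ hfg₂, ?_⟩
    intro y hy
    rw [Finset.mem_insert] at hy
    rcases hy with rfl | hy
    · refine ⟨fun k => a₁ * d₀ k, ?_⟩
      have h2 : (s * a₁) • y - ∑ k, (a₁ * d₀ k) • e k = a₁ • (s • y - ∑ k, d₀ k • e k) := by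
        rw [smul_sub, Finset.smul_sum, smul_smul, mul_comm a₁ s]
        simp only [smul_smul]
      rw [h2]
      exact Submodule.smul_of_tower_mem _ a₁ (Ideal.map_mono le_sup_right hw₂)
    · obtain ⟨d, hd⟩ := h₁ y hy
      refine ⟨fun k => s * d k, ?_⟩
      have h2 : (s * a₁) • y - ∑ k, (s * d k) • e k = s • (a₁ • y - ∑ k, d k • e k) := by
        rw [smul_sub, Finset.smul_sum, smul_smul]
        simp only [smul_smul]
      rw [h2]
      exact Submodule.smul_of_tower_mem _ s (Ideal.map_mono le_sup_left hd)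

/-- Step 4: uniform spanning modulo a finitely generated ideal `I ≤ 𝔭`, up to powers of some
`a ∉ 𝔭`. -/
theorem exists_span_relation [Algebra.FiniteType A B]
    (hSp : ∀ y : B, ∃ s ∉ 𝔭, ∃ d : ι → A, s • y - ∑ k, d k • e k ∈ 𝔭.map (algebraMap A B)) :
    ∃ (a : A) (I : Ideal A), a ∉ 𝔭 ∧ I ≤ 𝔭 ∧ I.FG ∧
      ∀ y : B, ∃ (n : ℕ) (d : ι → A),
        a ^ n • y - ∑ k, d k • e k ∈ I.map (algebraMap A B) := by
  classical
  obtain ⟨T, hT⟩ := (Algebra.FiniteType.out : (⊤ : Subalgebra A B).FG)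
  obtain ⟨a, I, ha, hI, hfg, hY⟩ := exists_common_relation 𝔭 e hSp
    (insert 1 ((T ×ˢ (Finset.univ : Finset ι)).image fun p => p.1 * e p.2))
  refine ⟨a, I, ha, hI, hfg, ?_⟩
  set N : Submodule A B :=
    Submodule.span A (Set.range e) ⊔ (I.map (algebraMap A B)).restrictScalars A with hN
  have hrel_to_N : ∀ (y : B) (d : ι → A),
      y - ∑ k, d k • e k ∈ I.map (algebraMap A B) → y ∈ N := by
    intro y d h
    have h1 : y = ∑ k, d k • e k + (y - ∑ k, d k • e k) := by abel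
    rw [h1]
    exact add_mem (Submodule.mem_sup_left (Submodule.sum_mem _ fun k _ =>
      Submodule.smul_mem _ _ (Submodule.subset_span ⟨k, rfl⟩)))
      (Submodule.mem_sup_right ((Submodule.restrictScalars_mem A _ _).mpr h))
  have hN_to_rel : ∀ y ∈ N, ∃ d : ι → A, y - ∑ k, d k • e k ∈ I.map (algebraMap A B) := by
    intro y hy
    obtain ⟨z₁, hz₁, z₂, hz₂, rfl⟩ := Submodule.mem_sup.mp hy
    obtain ⟨d, rfl⟩ := (Submodule.mem_span_range_iff_exists_fun A).mp hz₁
    refine ⟨d, ?_⟩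
    rw [add_sub_cancel_left]
    exact hz₂
  have hNmul : ∀ t ∈ T, ∀ z ∈ N, a • (t * z) ∈ N := by
    intro t ht z hz
    obtain ⟨z₁, hz₁, z₂, hz₂, rfl⟩ := Submodule.mem_sup.mp hz
    clear hz
    rw [mul_add, smul_add]
    refine add_mem ?_ (Submodule.mem_sup_right ?_)
    · induction hz₁ using Submodule.span_induction with
      | mem x hx =>
        obtain ⟨k, rfl⟩ := hx
        obtain ⟨d', hd'⟩ := hY (t * e k) (Finset.mem_insert_of_mem (Finset.mem_image.mpr
          ⟨(t, k), Finset.mem_product.mpr ⟨ht, Finset.mem_univ k⟩, rfl⟩))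
        exact hrel_to_N _ d' hd'
      | zero =>
        rw [mul_zero, smul_zero]
        exact zero_mem _
      | add x y _ _ hx hy =>
        rw [mul_add, smul_add]
        exact add_mem hx hy
      | smul c x _ hx =>
        rw [mul_smul_comm, smul_comm]
        exact Submodule.smul_mem _ _ hx
    · rw [Submodule.restrictScalars_mem]
      exact Submodule.smul_of_tower_mem _ a (Ideal.mul_mem_left _ t hz₂)
  have key : ∀ y : B, ∃ n : ℕ, a ^ n • y ∈ N := by
    have hone : ∃ n : ℕ, a ^ n • (1 : B) ∈ N := by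
      obtain ⟨d, hd⟩ := hY 1 (Finset.mem_insert_self _ _)
      exact ⟨1, by rw [pow_one]; exact hrel_to_N _ d hd⟩
    have hclosure : ∀ y ∈ Submonoid.closure (T : Set B), ∃ n : ℕ, a ^ n • y ∈ N := by
      intro y hy
      induction hy using Submonoid.closure_induction_left with
      | one => exact hone
      | mul_left t ht y _ ih =>
        obtain ⟨n, hn⟩ := ih
        refine ⟨n + 1, ?_⟩
        have h1 : a ^ (n + 1) • (t * y) = a • (t * (a ^ n • y)) := by
          rw [pow_succ', mul_smul, mul_smul_comm]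
        rw [h1]
        exact hNmul t ht _ hn
    intro y
    have hy : y ∈ Submodule.span A (Submonoid.closure (T : Set B) : Set B) := by
      rw [← Algebra.adjoin_eq_span, hT]
      simp
    induction hy using Submodule.span_induction with
    | mem x hx => exact hclosure x hx
    | zero => exact ⟨0, by simp⟩
    | add x y _ _ hx hy =>
      obtain ⟨n, hn⟩ := hx
      obtain ⟨m, hm⟩ := hy
      refine ⟨n + m, ?_⟩
      rw [smul_add, pow_add]
      refine add_mem ?_ ?_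
      · rw [mul_comm, mul_smul]
        exact Submodule.smul_mem _ _ hn
      · rw [mul_smul]
        exact Submodule.smul_mem _ _ hm
    | smul c x _ hx =>
      obtain ⟨n, hn⟩ := hx
      exact ⟨n, by rw [smul_comm]; exact Submodule.smul_mem _ _ hn⟩
  intro y
  obtain ⟨n, hn⟩ := key y
  obtain ⟨d, hd⟩ := hN_to_rel _ hn
  exact ⟨n, d, hd⟩

end Spread

end Groth.Agent.Lib.Helper8.FlqfAlg2
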