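import Mathlib
import Groth.Agent.Lib.Helper8.FlqfAlg1
import Groth.Agent.Lib.Helper8.FlqfAlg2

/-!
# Phase I of S1480 (pure algebra), part 2

Local independence (`ind_loc`), uniform independence (`uniform_indep`), and the localisation
step (`localize`), assembled into `ring_main`.
-/

set_option autoImplicit false
universe u

namespace Groth.Agent.Lib.Helper8.FlqfAlg3

open TensorProduct
open Groth.Agent.Lib.Helper8

/-- Variant of `FlqfAlg1.matrix_congr_one` with a scalar `S`. -/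
theorem matrix_congr_smul {R : Type u} {M : Type u} [CommRing R] [AddCommGroup M] [Module R M]
    {ι : Type u} [Fintype ι] [DecidableEq ι] (J : Ideal R) (S : R) (e : ι → M) {n : ℕ}
    (α : ι → Fin n → R) (y : Fin n → M) (hey : ∀ k, e k = ∑ j, α k j • y j)
    (d : Fin n → ι → R)
    (hd : ∀ j, S • y j - ∑ i, d j i • e i ∈ (J • ⊤ : Submodule R M))
    (hInd : ∀ c : ι → R, ∑ k, c k • e k ∈ (J • ⊤ : Submodule R M) → ∀ k, c k ∈ J) :
    ∀ k i, (if i = k then S else 0) - ∑ j, α k j * d j i ∈ J := by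
  intro k
  have hm : S • e k - ∑ i, (∑ j, α k j * d j i) • e i ∈ (J • ⊤ : Submodule R M) := by
    have h1 : S • e k - ∑ i, (∑ j, α k j * d j i) • e i =
        ∑ j, α k j • (S • y j - ∑ i, d j i • e i) := by
      have h2 : ∑ i, (∑ j, α k j * d j i) • e i = ∑ j, α k j • ∑ i, d j i • e i := by
        simp only [Finset.smul_sum, Finset.sum_smul, mul_smul]
        rw [Finset.sum_comm]
      rw [h2]
      conv_lhs => rw [hey k]
      rw [Finset.smul_sum, ← Finset.sum_sub_distrib]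
      exact Finset.sum_congr rfl fun j _ => by rw [smul_sub, smul_comm]
    rw [h1]
    exact Submodule.sum_mem _ fun j _ => Submodule.smul_mem _ _ (hd j)
  refine hInd (fun i => (if i = k then S else 0) - ∑ j, α k j * d j i) ?_
  have h1 : ∑ i, ((if i = k then S else 0) - ∑ j, α k j * d j i) • e i =
      S • e k - ∑ i, (∑ j, α k j * d j i) • e i := by
    simp only [sub_smul, Finset.sum_sub_distrib, ite_smul, zero_smul,
      Finset.sum_ite_eq', Finset.mem_univ, if_true]
  rw [h1]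
  exact hm

variable {A B : Type u} [CommRing A] [CommRing B] [Algebra A B]

theorem mem_smul_top_iff (J : Ideal A) (w : B) :
    w ∈ (J • ⊤ : Submodule A B) ↔ w ∈ J.map (algebraMap A B) := by
  rw [Ideal.smul_top_eq_map]
  rfl

section Loc

variable (𝔭 : Ideal A) [𝔭.IsPrime] {ι : Type u} [Fintype ι] (e : ι → B)

/-- Step 5: local independence modulo an arbitrary ideal. -/
theorem ind_loc [Module.Flat A B]
    (hSp : ∀ y : B, ∃ s ∉ 𝔭, ∃ d : ι → A, s • y - ∑ k, d k • e k ∈ 𝔭.map (algebraMap A B))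
    (hInd : ∀ c : ι → A, ∑ k, c k • e k ∈ 𝔭.map (algebraMap A B) → ∀ k, c k ∈ 𝔭)
    (I : Ideal A) (c : ι → A) (hc : ∑ k, c k • e k ∈ I.map (algebraMap A B)) :
    ∃ t ∉ 𝔭, ∀ k, t * c k ∈ I := by
  classical
  obtain ⟨n, α, y, hey, hcα⟩ :=
    FlqfAlg1.exists_trivial_relation_mod I c e ((mem_smul_top_iff I _).mpr hc)
  choose s hs d hd using fun j => hSp (y j)
  have hS : (∏ j, s j) ∉ 𝔭 := 𝔭.primeCompl.prod_mem (fun j _ => hs j)
  have hd' : ∀ j, (∏ l, s l) • y j -
      ∑ i, ((∏ l ∈ Finset.univ.erase j, s l) * d j i) • e i ∈ (𝔭 • ⊤ : Submodule A B) := by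
    intro j
    rw [mem_smul_top_iff]
    have h1 : (∏ l, s l) • y j - ∑ i, ((∏ l ∈ Finset.univ.erase j, s l) * d j i) • e i =
        (∏ l ∈ Finset.univ.erase j, s l) • (s j • y j - ∑ i, d j i • e i) := by
      rw [smul_sub, Finset.smul_sum, smul_smul]
      congr 1
      · rw [mul_comm, Finset.mul_prod_erase _ _ (Finset.mem_univ j)]
      · exact Finset.sum_congr rfl fun i _ => by rw [smul_smul]
    rw [h1]
    exact Submodule.smul_of_tower_mem _ _ (hd j)
  have hE := matrix_congr_smul 𝔭 (∏ l, s l) e α y hey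
    (fun j i => (∏ l ∈ Finset.univ.erase j, s l) * d j i) hd'
    (fun c hc => hInd c ((mem_smul_top_iff 𝔭 _).mp hc))
  set d' : Fin n → ι → A := fun j i => (∏ l ∈ Finset.univ.erase j, s l) * d j i with hd'def
  set Mx : Matrix ι ι A := fun k i => ∑ j, α k j * d' j i with hMxdef
  have hMx : ∀ k i, Mx k i = ∑ j, α k j * d' j i := fun _ _ => rfl
  have ht𝔭 : Mx.det ∉ 𝔭 := by
    intro hmem
    have h1 : Mx.map (Ideal.Quotient.mk 𝔭) =
        (Ideal.Quotient.mk 𝔭 (∏ l, s l)) • (1 : Matrix ι ι (A ⧸ 𝔭)) := by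
      ext k i
      have hki := hE k i
      rw [← Ideal.Quotient.eq] at hki
      rw [Matrix.map_apply, Matrix.smul_apply, Matrix.one_apply, smul_eq_mul, hMx, ← hki]
      by_cases h : k = i
      · subst h
        simp
      · have h' : ¬ i = k := fun h'' => h h''.symm
        simp [h, h']
    have h2 : Ideal.Quotient.mk 𝔭 Mx.det =
        (Ideal.Quotient.mk 𝔭 (∏ l, s l)) ^ Fintype.card ι := by
      rw [RingHom.map_det, RingHom.mapMatrix_apply, h1, Matrix.det_smul, Matrix.det_one, mul_one]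
    have h3 : Ideal.Quotient.mk 𝔭 Mx.det = 0 := Ideal.Quotient.eq_zero_iff_mem.mpr hmem
    rw [h3] at h2
    have h4 : Ideal.Quotient.mk 𝔭 (∏ l, s l) = 0 := IsReduced.eq_zero _ ⟨_, h2.symm⟩
    exact hS (Ideal.Quotient.eq_zero_iff_mem.mp h4)
  refine ⟨Mx.det, ht𝔭, fun i => ?_⟩
  have hcM : ∀ i, (Matrix.vecMul c Mx) i ∈ I := by
    intro i
    have h1 : Matrix.vecMul c Mx i = ∑ j, (∑ k, c k * α k j) * d' j i := by
      rw [← FlqfAlg1.sum_swap α d' c i]
      rfl
    rw [h1]
    exact I.sum_mem fun j _ => I.mul_mem_right _ (hcα j)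
  have hadj : Matrix.vecMul (Matrix.vecMul c Mx) Mx.adjugate = Mx.det • c := by
    rw [Matrix.vecMul_vecMul, Matrix.mul_adjugate, Matrix.vecMul_smul, Matrix.vecMul_one]
  have h5 : Mx.det * c i = ∑ k, Matrix.vecMul c Mx k * Mx.adjugate k i := by
    have h6 := congrFun hadj i
    rw [Pi.smul_apply, smul_eq_mul] at h6
    rw [← h6]
    rfl
  rw [h5]
  exact I.sum_mem fun k _ => I.mul_mem_right _ (hcM k)

/-- Step 6, generic form: uniform independence via a finitely generated kernel. -/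
theorem uniform_indep_aux [Algebra.FinitePresentation A B] (a : A) (I : Ideal A)
    (hloc : ∀ c : ι → A, ∑ k, c k • e k ∈ I.map (algebraMap A B) → ∃ t ∉ 𝔭, ∀ k, t * c k ∈ I)
    (hSp : ∀ y : B, ∃ (n : ℕ) (d : ι → A),
      a ^ n • y - ∑ k, d k • e k ∈ I.map (algebraMap A B))
    (Rb : Type u) [CommRing Rb] [Algebra A Rb]
    (hI0 : ∀ i ∈ I, algebraMap A Rb i = 0) (hau : IsUnit (algebraMap A Rb a))
    (hker : ∀ x : A, algebraMap A Rb x = 0 → ∃ n : ℕ, a ^ n * x ∈ I)
    (hsurj : ∀ z : Rb, ∃ (n : ℕ) (x : A), algebraMap A Rb a ^ n * z = algebraMap A Rb x)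
    (C' : Type u) [CommRing C'] [Algebra A C'] [Algebra B C'] [IsScalarTower A B C']
    (ψ : Rb →ₐ[A] C')
    (hC' : ∀ b : B, algebraMap B C' b = 0 → ∃ m : ℕ, a ^ m • b ∈ I.map (algebraMap A B)) :
    ∃ a' ∉ 𝔭, ∀ c : ι → A, ∑ k, c k • e k ∈ I.map (algebraMap A B) →
      ∀ k, ∃ n : ℕ, a ^ n * a' * c k ∈ I := by
  classical
  have hTI : ∀ (x : A) (z : B),
      algebraMap A Rb x • ((1 : Rb) ⊗ₜ[A] z) = (1 : Rb) ⊗ₜ[A] (x • z) := by
    intro x z
    rw [TensorProduct.smul_tmul', smul_eq_mul, mul_one, Algebra.algebraMap_eq_smul_one,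
      TensorProduct.smul_tmul]
  have hI1 : ∀ w ∈ I.map (algebraMap A B), (1 : Rb) ⊗ₜ[A] w = 0 := by
    have h1 : I.map (algebraMap A B) ≤
        RingHom.ker (Algebra.TensorProduct.includeRight : B →ₐ[A] Rb ⊗[A] B) := by
      rw [Ideal.map_le_iff_le_comap]
      intro i hi
      rw [Ideal.mem_comap, RingHom.mem_ker, AlgHom.commutes,
        Algebra.TensorProduct.algebraMap_apply, hI0 i hi, TensorProduct.zero_tmul]
    intro w hw
    have h2 := h1 hw
    rw [RingHom.mem_ker, Algebra.TensorProduct.includeRight_apply] at h2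
    exact h2
  set v : ι → Rb ⊗[A] B := fun k => (1 : Rb) ⊗ₜ[A] e k with hv
  have hv1 : ∀ y : B, (1 : Rb) ⊗ₜ[A] y ∈ Submodule.span Rb (Set.range v) := by
    intro y
    obtain ⟨n, d, hd⟩ := hSp y
    have h1 := hI1 _ hd
    rw [TensorProduct.tmul_sub, sub_eq_zero, TensorProduct.tmul_sum] at h1
    have h2 : (algebraMap A Rb a) ^ n • ((1 : Rb) ⊗ₜ[A] y) =
        ∑ k, algebraMap A Rb (d k) • v k := by
      rw [← map_pow, hTI, h1]
      exact Finset.sum_congr rfl fun k _ => (hTI _ _).symm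
    rw [← Submodule.smul_mem_iff_of_isUnit _ (hau.pow n), h2]
    exact Submodule.sum_mem _ fun k _ =>
      Submodule.smul_mem _ _ (Submodule.subset_span ⟨k, rfl⟩)
  have hvtop : Submodule.span Rb (Set.range v) = ⊤ := by
    rw [eq_top_iff]
    rintro x -
    induction x using TensorProduct.induction_on with
    | zero => exact zero_mem _
    | tmul r y =>
      have h1 : r ⊗ₜ[A] y = r • ((1 : Rb) ⊗ₜ[A] y) := by
        rw [TensorProduct.smul_tmul', smul_eq_mul, mul_one]
      rw [h1]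
      exact Submodule.smul_mem _ _ (hv1 y)
    | add x y hx hy => exact add_mem hx hy
  have hLsurj : Function.Surjective (Fintype.linearCombination Rb v) := by
    rw [← LinearMap.range_eq_top, Fintype.range_linearCombination, hvtop]
  haveI : Module.Finite Rb (Rb ⊗[A] B) := Module.Finite.of_surjective _ hLsurj
  haveI : Module.FinitePresentation Rb (Rb ⊗[A] B) :=
    Module.FinitePresentation.of_finite_of_finitePresentation Rb _
  have hKfg : (LinearMap.ker (Fintype.linearCombination Rb v)).FG :=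
    Module.FinitePresentation.fg_ker _ hLsurj
  let θ : Rb ⊗[A] B →ₐ[A] C' :=
    Algebra.TensorProduct.lift ψ (IsScalarTower.toAlgHom A B C') (fun _ _ => Commute.all _ _)
  have hθ : ∀ b : B, θ ((1 : Rb) ⊗ₜ[A] b) = algebraMap B C' b := fun b => by
    simp [θ]
  have hkill : ∀ γ ∈ LinearMap.ker (Fintype.linearCombination Rb v),
      ∃ t ∉ 𝔭, algebraMap A Rb t • γ = 0 := by
    intro γ hγ
    rw [LinearMap.mem_ker, Fintype.linearCombination_apply] at hγ
    choose nk ck hck using fun k => hsurj (γ k)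
    have hc : ∀ k, algebraMap A Rb a ^ (∑ k, nk k) * γ k =
        algebraMap A Rb (a ^ ((∑ k, nk k) - nk k) * ck k) := by
      intro k
      have hle : nk k ≤ ∑ k, nk k :=
        Finset.single_le_sum (fun _ _ => Nat.zero_le _) (Finset.mem_univ k)
      rw [map_mul, map_pow, ← hck k, ← mul_assoc, ← pow_add, Nat.sub_add_cancel hle]
    have h0 : (1 : Rb) ⊗ₜ[A] (∑ k, (a ^ ((∑ k, nk k) - nk k) * ck k) • e k) = 0 := by
      rw [TensorProduct.tmul_sum]
      have h1 : ∀ k, (1 : Rb) ⊗ₜ[A] ((a ^ ((∑ k, nk k) - nk k) * ck k) • e k) =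
          algebraMap A Rb a ^ (∑ k, nk k) • (γ k • v k) := by
        intro k
        rw [← hTI, ← hc k, mul_smul]
      rw [Finset.sum_congr rfl fun k _ => h1 k, ← Finset.smul_sum, hγ, smul_zero]
    have h1 : algebraMap B C' (∑ k, (a ^ ((∑ k, nk k) - nk k) * ck k) • e k) = 0 := by
      rw [← hθ, h0, map_zero]
    obtain ⟨m', hm'⟩ := hC' _ h1
    have h2 : ∑ k, (a ^ m' * (a ^ ((∑ k, nk k) - nk k) * ck k)) • e k ∈
        I.map (algebraMap A B) := by
      rw [Finset.smul_sum] at hm'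
      simpa only [smul_smul] using hm'
    obtain ⟨t, ht, htc⟩ := hloc _ h2
    refine ⟨t, ht, ?_⟩
    funext k
    rw [Pi.smul_apply, Pi.zero_apply, smul_eq_mul]
    have hu : IsUnit (algebraMap A Rb a ^ m' * algebraMap A Rb a ^ (∑ k, nk k)) :=
      (hau.pow _).mul (hau.pow _)
    apply hu.mul_left_cancel
    rw [mul_zero]
    have h3 : algebraMap A Rb a ^ m' * algebraMap A Rb a ^ (∑ k, nk k) *
        (algebraMap A Rb t * γ k) =
        algebraMap A Rb (t * (a ^ m' * (a ^ ((∑ k, nk k) - nk k) * ck k))) := by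
      rw [map_mul, map_mul, map_pow, ← hc k]
      ring
    rw [h3]
    exact hI0 _ (htc k)
  obtain ⟨G, hG⟩ := hKfg
  choose! tG htG htG0 using hkill
  have hG_in : ∀ γ ∈ G, γ ∈ LinearMap.ker (Fintype.linearCombination Rb v) := fun γ hγ =>
    hG ▸ Submodule.subset_span hγ
  have ha' : (∏ γ ∈ G, tG γ) ∉ 𝔭 := 𝔭.primeCompl.prod_mem fun γ hγ => htG γ (hG_in γ hγ)
  have hall : ∀ γ ∈ LinearMap.ker (Fintype.linearCombination Rb v),
      algebraMap A Rb (∏ γ ∈ G, tG γ) • γ = 0 := by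
    intro γ hγ
    rw [← hG] at hγ
    induction hγ using Submodule.span_induction with
    | mem x hx =>
      have hx' : x ∈ G := hx
      have h1 : (∏ γ ∈ G, tG γ) = (∏ γ' ∈ G.erase x, tG γ') * tG x := by
        rw [mul_comm]
        exact (Finset.mul_prod_erase G tG hx').symm
      rw [h1, map_mul, mul_smul, htG0 x (hG_in x hx'), smul_zero]
    | zero => exact smul_zero _
    | add x y _ _ hx hy => rw [smul_add, hx, hy, add_zero]
    | smul r x _ hx => rw [smul_comm, hx, smul_zero]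
  refine ⟨∏ γ ∈ G, tG γ, ha', fun c hc k => ?_⟩
  have hκ : (fun k => algebraMap A Rb (c k)) ∈
      LinearMap.ker (Fintype.linearCombination Rb v) := by
    rw [LinearMap.mem_ker, Fintype.linearCombination_apply]
    have h1 := hI1 _ hc
    rw [TensorProduct.tmul_sum] at h1
    rw [← h1]
    exact Finset.sum_congr rfl fun k _ => hTI _ _
  have h2 := congrFun (hall _ hκ) k
  rw [Pi.smul_apply, Pi.zero_apply, smul_eq_mul, ← map_mul] at h2
  obtain ⟨n, hn⟩ := hker _ h2
  exact ⟨n, by rwa [mul_assoc]⟩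

end Loc

end Groth.Agent.Lib.Helper8.FlqfAlg3
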