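import Mathlib
import Groth.Agent.Lib.Helper8.FlqfAlg1
import Groth.Agent.Lib.Helper8.FlqfAlg2
import Groth.Agent.Lib.Helper8.FlqfAlg3

/-!
# Phase I of S1480 (pure algebra), part 3

Instantiation of the uniform independence, the localisation step and the final ring-theoretic
statement `ring_main`.
-/

set_option autoImplicit false
universe u

namespace Groth.Agent.Lib.Helper8.FlqfAlg4

open TensorProduct
open Groth.Agent.Lib.Helper8

variable {A B : Type u} [CommRing A] [CommRing B] [Algebra A B]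

section Loc

variable (𝔭 : Ideal A) [𝔭.IsPrime] {ι : Type u} [Fintype ι] (e : ι → B)

/-- Step 6: uniform independence. -/
theorem uniform_indep [Module.Flat A B] [Algebra.FinitePresentation A B]
    (hSp𝔭 : ∀ y : B, ∃ s ∉ 𝔭, ∃ d : ι → A, s • y - ∑ k, d k • e k ∈ 𝔭.map (algebraMap A B))
    (hInd𝔭 : ∀ c : ι → A, ∑ k, c k • e k ∈ 𝔭.map (algebraMap A B) → ∀ k, c k ∈ 𝔭)
    (a : A) (I : Ideal A)
    (hSp : ∀ y : B, ∃ (n : ℕ) (d : ι → A),
      a ^ n • y - ∑ k, d k • e k ∈ I.map (algebraMap A B)) :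
    ∃ a' ∉ 𝔭, ∀ c : ι → A, ∑ k, c k • e k ∈ I.map (algebraMap A B) →
      ∀ k, ∃ n : ℕ, a ^ n * a' * c k ∈ I := by
  have hloc := fun c hc => FlqfAlg3.ind_loc 𝔭 e hSp𝔭 hInd𝔭 I c hc
  have hf₀ : ∀ i : A, i ∈ I → (Algebra.ofId A (Localization.Away
      (Ideal.Quotient.mk (I.map (algebraMap A B)) (algebraMap A B a)))) i = 0 := by
    intro i hi
    rw [Algebra.ofId_apply, IsScalarTower.algebraMap_apply A (B ⧸ I.map (algebraMap A B))
      (Localization.Away (Ideal.Quotient.mk (I.map (algebraMap A B)) (algebraMap A B a))),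
      ← Ideal.Quotient.mk_algebraMap,
      Ideal.Quotient.eq_zero_iff_mem.mpr (Ideal.mem_map_of_mem _ hi), map_zero]
  have hf₁ : IsUnit ((Ideal.Quotient.liftₐ I (Algebra.ofId A (Localization.Away
      (Ideal.Quotient.mk (I.map (algebraMap A B)) (algebraMap A B a)))) hf₀)
      (Ideal.Quotient.mk I a)) := by
    have h1 : (Ideal.Quotient.liftₐ I (Algebra.ofId A (Localization.Away
        (Ideal.Quotient.mk (I.map (algebraMap A B)) (algebraMap A B a)))) hf₀)
        (Ideal.Quotient.mk I a) =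
        algebraMap (B ⧸ I.map (algebraMap A B)) (Localization.Away
          (Ideal.Quotient.mk (I.map (algebraMap A B)) (algebraMap A B a)))
          (Ideal.Quotient.mk _ (algebraMap A B a)) := by
      rw [Ideal.Quotient.liftₐ_apply, Ideal.Quotient.lift_mk, Ideal.Quotient.mk_algebraMap,
        ← IsScalarTower.algebraMap_apply]
      rfl
    rw [h1]
    exact IsLocalization.Away.algebraMap_isUnit _
  refine FlqfAlg3.uniform_indep_aux 𝔭 e a I hloc hSp
    (Localization.Away (Ideal.Quotient.mk I a)) ?_ ?_ ?_ ?_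
    (Localization.Away (Ideal.Quotient.mk (I.map (algebraMap A B)) (algebraMap A B a)))
    (IsLocalization.Away.liftAlgHom (Ideal.Quotient.mk I a) hf₁) ?_
  · intro i hi
    rw [IsScalarTower.algebraMap_apply A (A ⧸ I) (Localization.Away (Ideal.Quotient.mk I a)),
      Ideal.Quotient.algebraMap_eq, Ideal.Quotient.eq_zero_iff_mem.mpr hi, map_zero]
  · rw [IsScalarTower.algebraMap_apply A (A ⧸ I) (Localization.Away (Ideal.Quotient.mk I a)),
      Ideal.Quotient.algebraMap_eq]
    exact IsLocalization.Away.algebraMap_isUnit _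
  · intro x hx
    rw [IsScalarTower.algebraMap_apply A (A ⧸ I) (Localization.Away (Ideal.Quotient.mk I a)),
      Ideal.Quotient.algebraMap_eq,
      IsLocalization.map_eq_zero_iff (Submonoid.powers (Ideal.Quotient.mk I a))] at hx
    obtain ⟨⟨_, n, rfl⟩, hn⟩ := hx
    have hn' : (Ideal.Quotient.mk I a) ^ n * Ideal.Quotient.mk I x = 0 := hn
    refine ⟨n, ?_⟩
    rw [← Ideal.Quotient.eq_zero_iff_mem, map_mul, map_pow]
    exact hn'
  · intro z
    obtain ⟨n, xb, hxb⟩ := IsLocalization.Away.surj (Ideal.Quotient.mk I a) z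
    obtain ⟨x, rfl⟩ := Ideal.Quotient.mk_surjective xb
    refine ⟨n, x, ?_⟩
    rw [IsScalarTower.algebraMap_apply A (A ⧸ I) (Localization.Away (Ideal.Quotient.mk I a)),
      IsScalarTower.algebraMap_apply A (A ⧸ I) (Localization.Away (Ideal.Quotient.mk I a)),
      Ideal.Quotient.algebraMap_eq, mul_comm]
    exact hxb
  · intro b hb
    rw [IsScalarTower.algebraMap_apply B (B ⧸ I.map (algebraMap A B))
      (Localization.Away (Ideal.Quotient.mk (I.map (algebraMap A B)) (algebraMap A B a))),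
      Ideal.Quotient.algebraMap_eq,
      IsLocalization.map_eq_zero_iff (Submonoid.powers
        (Ideal.Quotient.mk (I.map (algebraMap A B)) (algebraMap A B a)))] at hb
    obtain ⟨⟨_, m, rfl⟩, hm⟩ := hb
    have hm' : (Ideal.Quotient.mk (I.map (algebraMap A B)) (algebraMap A B a)) ^ m *
        Ideal.Quotient.mk (I.map (algebraMap A B)) b = 0 := hm
    refine ⟨m, ?_⟩
    rw [← Ideal.Quotient.eq_zero_iff_mem, Algebra.smul_def, map_mul, map_pow, map_pow]
    exact hm'

end Loc

/-- Step 7: common nilpotency exponent. -/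
theorem exists_common_nilp (𝔭 : Ideal A) [𝔭.IsPrime] (g : B)
    (hnil : ∀ x ∈ 𝔭, ∃ (n : ℕ) (s : A), s ∉ 𝔭 ∧ (s * x ^ n) • g = 0) (P : Finset A)
    (hP : ∀ p ∈ P, p ∈ 𝔭) :
    ∃ (N : ℕ) (s : A), s ∉ 𝔭 ∧ ∀ p ∈ P, (s * p ^ N) • g = 0 := by
  classical
  induction P using Finset.induction_on with
  | empty => exact ⟨0, 1, 𝔭.primeCompl.one_mem, by simp⟩
  | insert p₀ P' hp₀ ih =>
    obtain ⟨N₁, s₁, hs₁, h₁⟩ := ih (fun p hp => hP p (Finset.mem_insert_of_mem hp))
    obtain ⟨n, s, hs, h⟩ := hnil p₀ (hP p₀ (Finset.mem_insert_self _ _))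
    refine ⟨N₁ + n, s₁ * s, 𝔭.primeCompl.mul_mem hs₁ hs, ?_⟩
    intro p hp
    rw [Finset.mem_insert] at hp
    rcases hp with rfl | hp
    · have h2 : ∀ q : A, s₁ * s * q ^ (N₁ + n) = (s₁ * q ^ N₁) * (s * q ^ n) := fun q => by
        ring
      rw [h2, mul_smul, h, smul_zero]
    · have h2 : ∀ q : A, s₁ * s * q ^ (N₁ + n) = (s * q ^ n) * (s₁ * q ^ N₁) := fun q => by
        ring
      rw [h2, mul_smul, h₁ p hp, smul_zero]

/-- Step 8: after localising at `a''` (a multiple of `a`, `a'`, `s` outside `𝔭`), the hypotheses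
of phase II hold. -/
theorem localize [Module.Flat A B] (𝔭 : Ideal A) [𝔭.IsPrime] {ι : Type u} [Fintype ι]
    (e : ι → B) (g : B) (hann : ∀ x : A, x • g = 0 → x ∈ 𝔭)
    (a a' s a'' : A) (ha''𝔭 : a'' ∉ 𝔭) (hda : a ∣ a'') (hda' : a' ∣ a'') (hds : s ∣ a'')
    (P : Finset A) (N : ℕ)
    (hSp : ∀ y : B, ∃ (n : ℕ) (d : ι → A),
      a ^ n • y - ∑ k, d k • e k ∈ (Ideal.span (P : Set A)).map (algebraMap A B))
    (hInd : ∀ c : ι → A, ∑ k, c k • e k ∈ (Ideal.span (P : Set A)).map (algebraMap A B) →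
      ∀ k, ∃ n : ℕ, a ^ n * a' * c k ∈ Ideal.span (P : Set A))
    (hNil : ∀ p ∈ P, (s * p ^ N) • g = 0)
    (A' B' : Type u) [CommRing A'] [CommRing B'] [Algebra A A'] [Algebra B B'] [Algebra A' B']
    [Algebra A B'] [IsScalarTower A A' B'] [IsScalarTower A B B']
    [IsLocalization.Away a'' A']
    [IsLocalization.Away (algebraMap A B a'') B'] :
    algebraMap B B' g ≠ 0 ∧ ∃ (F : Ideal A') (r : ℕ), 0 < r ∧
      ∃ φ : (Fin r → ↥F) →ₗ[A'] B', Function.Injective φ ∧
        algebraMap B B' g ∈ LinearMap.range φ := by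
  classical
  have hu : IsUnit (algebraMap A A' a'') := IsLocalization.Away.algebraMap_isUnit a''
  have hua : IsUnit (algebraMap A A' a) := isUnit_of_dvd_unit (map_dvd (algebraMap A A') hda) hu
  have hua' : IsUnit (algebraMap A A' a') :=
    isUnit_of_dvd_unit (map_dvd (algebraMap A A') hda') hu
  have hus : IsUnit (algebraMap A A' s) := isUnit_of_dvd_unit (map_dvd (algebraMap A A') hds) hu
  -- compatibility of scalar actions
  have hsm : ∀ (x : A) (z : B), algebraMap A A' x • algebraMap B B' z =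
      algebraMap B B' (x • z) := by
    intro x z
    rw [Algebra.smul_def, Algebra.smul_def, map_mul, ← IsScalarTower.algebraMap_apply A A' B',
      IsScalarTower.algebraMap_apply A B B']
  -- (F0)
  have hg' : algebraMap B B' g ≠ 0 := by
    intro h0
    rw [IsLocalization.map_eq_zero_iff
      (Submonoid.powers (algebraMap A B a'')) B' g] at h0
    obtain ⟨⟨_, m, rfl⟩, hm⟩ := h0
    have hm' : (algebraMap A B a'') ^ m * g = 0 := hm
    have h1 : a'' ^ m ∈ 𝔭 := hann _ (by
      rw [Algebra.smul_def, map_pow]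
      exact hm')
    exact ha''𝔭 (Ideal.IsPrime.mem_of_pow_mem inferInstance _ h1)
  -- (F1)
  haveI : Module.Flat A' B' := by
    haveI : IsLocalizedModule (Submonoid.powers a'')
        (IsScalarTower.toAlgHom A B B').toLinearMap := by
      rw [isLocalizedModule_iff_isLocalization]
      have h1 : Algebra.algebraMapSubmonoid B (Submonoid.powers a'') =
          Submonoid.powers (algebraMap A B a'') := by
        simp [Algebra.algebraMapSubmonoid, Submonoid.map_powers]
      rw [h1]
      infer_instance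
    exact Module.Flat.of_isLocalizedModule (R := A) (M := B) (Mp := B') A'
      (Submonoid.powers a'') (IsScalarTower.toAlgHom A B B').toLinearMap
  -- ideals
  have hI' : Ideal.span ((P.image (algebraMap A A') : Finset A') : Set A') =
      (Ideal.span (P : Set A)).map (algebraMap A A') := by
    rw [Ideal.map_span, Finset.coe_image]
  have hJ : ((Ideal.span (P : Set A)).map (algebraMap A A')).map (algebraMap A' B') =
      ((Ideal.span (P : Set A)).map (algebraMap A B)).map (algebraMap B B') := by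
    rw [Ideal.map_map, Ideal.map_map, ← IsScalarTower.algebraMap_eq A A' B',
      ← IsScalarTower.algebraMap_eq A B B']
  have hconv : ∀ w' : B',
      w' ∈ (Ideal.span ((P.image (algebraMap A A') : Finset A') : Set A') • ⊤ :
        Submodule A' B') ↔
      w' ∈ ((Ideal.span (P : Set A)).map (algebraMap A B)).map (algebraMap B B') := by
    intro w'
    rw [FlqfAlg3.mem_smul_top_iff, hI', hJ]
  -- (F2)
  have hS' : ∀ y' : B', ∃ d' : ι → A', y' - ∑ k, d' k • algebraMap B B' (e k) ∈
      (Ideal.span ((P.image (algebraMap A A') : Finset A') : Set A') • ⊤ :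
        Submodule A' B') := by
    intro y'
    obtain ⟨m, y, hy⟩ := IsLocalization.Away.surj (algebraMap A B a'') y'
    obtain ⟨n, d, hd⟩ := hSp y
    have hν : IsUnit (algebraMap A A' a ^ n * algebraMap A A' a'' ^ m) :=
      (hua.pow n).mul (hu.pow m)
    refine ⟨fun k => ↑hν.unit⁻¹ * algebraMap A A' (d k), ?_⟩
    rw [← Submodule.smul_mem_iff_of_isUnit _ hν]
    have hcalc : (algebraMap A A' a ^ n * algebraMap A A' a'' ^ m) •
        (y' - ∑ k, (↑hν.unit⁻¹ * algebraMap A A' (d k)) • algebraMap B B' (e k)) =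
        algebraMap B B' (a ^ n • y - ∑ k, d k • e k) := by
      rw [smul_sub, Finset.smul_sum, map_sub, map_sum]
      congr 1
      · have h1 : algebraMap A A' a'' ^ m • y' = algebraMap B B' y := by
          rw [← hy, Algebra.smul_def, map_pow, ← IsScalarTower.algebraMap_apply A A' B',
            IsScalarTower.algebraMap_apply A B B', mul_comm]
        rw [mul_smul, h1, ← map_pow, hsm]
      · refine Finset.sum_congr rfl fun k _ => ?_
        rw [smul_smul, ← mul_assoc, IsUnit.mul_val_inv, one_mul, hsm]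
    rw [hcalc, hconv]
    exact Ideal.mem_map_of_mem _ hd
  -- (F3)
  have hInd' : ∀ c' : ι → A', ∑ k, c' k • algebraMap B B' (e k) ∈
      (Ideal.span ((P.image (algebraMap A A') : Finset A') : Set A') • ⊤ :
        Submodule A' B') →
      ∀ k, c' k ∈ Ideal.span ((P.image (algebraMap A A') : Finset A') : Set A') := by
    intro c' hc' k₀
    choose mk ck hck using fun k => IsLocalization.Away.surj a'' (c' k)
    have hc : ∀ k, algebraMap A A' a'' ^ (∑ k, mk k) * c' k =
        algebraMap A A' (a'' ^ ((∑ k, mk k) - mk k) * ck k) := by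
      intro k
      have hle : mk k ≤ ∑ k, mk k :=
        Finset.single_le_sum (fun _ _ => Nat.zero_le _) (Finset.mem_univ k)
      rw [map_mul, map_pow, ← hck k, mul_comm (c' k), ← mul_assoc, ← pow_add,
        Nat.sub_add_cancel hle]
    have h1 : algebraMap B B'
        (∑ k, (a'' ^ ((∑ k, mk k) - mk k) * ck k) • e k) ∈
        ((Ideal.span (P : Set A)).map (algebraMap A B)).map (algebraMap B B') := by
      rw [← hconv, map_sum]
      have h2 : ∑ k, algebraMap B B' ((a'' ^ ((∑ k, mk k) - mk k) * ck k) • e k) =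
          algebraMap A A' a'' ^ (∑ k, mk k) •
            ∑ k, c' k • algebraMap B B' (e k) := by
        rw [Finset.smul_sum]
        exact Finset.sum_congr rfl fun k _ => by rw [smul_smul, hc k, hsm]
      rw [h2]
      exact Submodule.smul_mem _ _ hc'
    rw [IsLocalization.algebraMap_mem_map_algebraMap_iff
      (Submonoid.powers (algebraMap A B a'')) B'] at h1
    obtain ⟨_, ⟨m', rfl⟩, hm'⟩ := h1
    have h2 : ∑ k, (a'' ^ m' * (a'' ^ ((∑ k, mk k) - mk k) * ck k)) • e k ∈
        (Ideal.span (P : Set A)).map (algebraMap A B) := by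
      have h3 : ∑ k, (a'' ^ m' *
          (a'' ^ ((∑ k, mk k) - mk k) * ck k)) • e k =
          algebraMap A B a'' ^ m' *
            ∑ k, (a'' ^ ((∑ k, mk k) - mk k) * ck k) • e k := by
        rw [Finset.mul_sum]
        exact Finset.sum_congr rfl fun k _ => by
          rw [mul_smul, Algebra.smul_def (a'' ^ m'), map_pow]
      rw [h3]
      exact hm'
    obtain ⟨n, hn⟩ := hInd _ h2 k₀
    have h3 := Ideal.mem_map_of_mem (algebraMap A A') hn
    rw [← hI'] at h3
    have hunit : IsUnit (algebraMap A A' a ^ n * algebraMap A A' a' *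
        (algebraMap A A' a'' ^ m' * algebraMap A A' a'' ^ (∑ k, mk k))) :=
      ((hua.pow n).mul hua').mul ((hu.pow m').mul (hu.pow _))
    have h4 : algebraMap A A' (a ^ n * a' *
        (a'' ^ m' * (a'' ^ ((∑ k, mk k) - mk k₀) * ck k₀))) =
        (algebraMap A A' a ^ n * algebraMap A A' a' *
          (algebraMap A A' a'' ^ m' * algebraMap A A' a'' ^ (∑ k, mk k))) *
          c' k₀ := by
      rw [map_mul (algebraMap A A') (a ^ n * a'), map_mul (algebraMap A A') (a ^ n),
        map_mul (algebraMap A A') (a'' ^ m'), ← hc k₀, map_pow, map_pow]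
      ring
    rw [h4] at h3
    exact (Ideal.unit_mul_mem_iff_mem _ hunit).mp h3
  -- (F4)
  have hNil' : ∀ p' ∈ P.image (algebraMap A A'), p' ^ N • algebraMap B B' g = 0 := by
    intro p' hp'
    obtain ⟨p, hp, rfl⟩ := Finset.mem_image.mp hp'
    have h1 := hNil p hp
    have h2 : algebraMap A A' s • ((algebraMap A A' p) ^ N • algebraMap B B' g) = 0 := by
      rw [smul_smul, ← map_pow, ← map_mul, hsm, h1, map_zero]
    exact hus.smul_eq_zero.mp h2
  obtain ⟨F, φ, hφinj, hφg⟩ := FlqfAlg1.phaseII (R := A') (M := B')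
    (P.image (algebraMap A A')) N (fun k => algebraMap B B' (e k)) hS' hInd'
    (algebraMap B B' g) hNil'
  refine ⟨hg', F, Fintype.card ι, ?_,
    φ.comp (LinearEquiv.funCongrLeft A' F (Fintype.equivFin ι)).toLinearMap, ?_, ?_⟩
  · rw [Fintype.card_pos_iff]
    by_contra hemp
    rw [not_nonempty_iff] at hemp
    obtain ⟨x, hx⟩ := hφg
    have h1 : x = 0 := Subsingleton.elim _ _
    rw [h1, map_zero] at hx
    exact hg' hx.symm
  · exact hφinj.comp (LinearEquiv.injective _)
  · obtain ⟨x, hx⟩ := hφg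
    refine ⟨(LinearEquiv.funCongrLeft A' F (Fintype.equivFin ι)).symm x, ?_⟩
    rw [LinearMap.comp_apply, LinearEquiv.coe_coe, LinearEquiv.apply_symm_apply, hx]

/-- The ring-theoretic main statement. -/
theorem ring_main [Module.Flat A B] [Algebra.FinitePresentation A B] [Algebra.QuasiFinite A B]
    (g : B) (hg : g ≠ 0) :
    ∃ a'' : A, ∀ (A' B' : Type u) [CommRing A'] [CommRing B'] [Algebra A A'] [Algebra B B']
      [Algebra A' B'] [Algebra A B'] [IsScalarTower A A' B'] [IsScalarTower A B B']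
      [IsLocalization.Away a'' A'] [IsLocalization.Away (algebraMap A B a'') B'],
      algebraMap B B' g ≠ 0 ∧ ∃ (F : Ideal A') (r : ℕ), 0 < r ∧
        ∃ φ : (Fin r → ↥F) →ₗ[A'] B', Function.Injective φ ∧
          algebraMap B B' g ∈ LinearMap.range φ := by
  obtain ⟨𝔭, h𝔭, hann, hnil⟩ := FlqfAlg2.exists_prime_nilpotent_on (A := A) g hg
  haveI := h𝔭
  obtain ⟨ι, _, e, hSp𝔭, hInd𝔭⟩ := FlqfAlg2.exists_fibre_family (B := B) 𝔭
  obtain ⟨a, I, ha, hI, hfg, hSp⟩ := FlqfAlg2.exists_span_relation 𝔭 e hSp𝔭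
  obtain ⟨a', ha', hInd⟩ := uniform_indep 𝔭 e hSp𝔭 hInd𝔭 a I hSp
  obtain ⟨P, rfl⟩ := hfg
  obtain ⟨N, s, hs, hNil⟩ := exists_common_nilp 𝔭 g hnil P
    (fun p hp => hI (Ideal.subset_span hp))
  exact ⟨a * a' * s, fun A' B' _ _ _ _ _ _ _ _ _ _ =>
    localize 𝔭 e g hann a a' s (a * a' * s)
      (𝔭.primeCompl.mul_mem (𝔭.primeCompl.mul_mem ha ha') hs)
      ((dvd_mul_right a a').mul_right s) ((dvd_mul_left a' a).mul_right s)
      (dvd_mul_left s (a * a')) P N hSp hInd hNil A' B'⟩

end Groth.Agent.Lib.Helper8.FlqfAlg4
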