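import Mathlib
import Groth.Agent.Lib.Helper8.FlqfAlg4

/-!
# S1480: scheme-theoretic plumbing

A nonzero section of a flat, locally finitely presented, locally quasi-finite morphism lies, on
suitable affine opens, in the image of an injective map `F^r → O_X(V)` for an ideal `F`.
-/

set_option autoImplicit false
universe u

namespace Groth.Agent.Lib.Helper8.FlqfSch

open AlgebraicGeometry CategoryTheory Opposite
open Groth.Agent.Lib.Helper8

/-- Ring-hom version of `FlqfAlg4.ring_main`. -/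
theorem ring_main' {A B : Type u} [CommRing A] [CommRing B] (φ₀ : A →+* B) (hflat : φ₀.Flat)
    (hfp : φ₀.FinitePresentation) (hqf : φ₀.QuasiFinite) (g : B) (hg : g ≠ 0) :
    ∃ a'' : A, ∀ (A' B' : Type u) [CommRing A'] [CommRing B'] (ρA : A →+* A') (ρB : B →+* B')
      (φ' : A' →+* B') (_ : φ'.comp ρA = ρB.comp φ₀)
      (_ : @IsLocalization.Away A _ a'' A' _ ρA.toAlgebra)
      (_ : @IsLocalization.Away B _ (φ₀ a'') B' _ ρB.toAlgebra),
      ρB g ≠ 0 ∧ ∃ (F : Ideal A') (r : ℕ), 0 < r ∧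
        letI := φ'.toAlgebra
        ∃ φ : (Fin r → ↥F) →ₗ[A'] B', Function.Injective φ ∧ ρB g ∈ LinearMap.range φ := by
  letI := φ₀.toAlgebra
  haveI : Module.Flat A B := hflat
  haveI : Algebra.FinitePresentation A B := hfp
  haveI : Algebra.QuasiFinite A B := hqf
  obtain ⟨a'', h⟩ := FlqfAlg4.ring_main (A := A) (B := B) g hg
  refine ⟨a'', ?_⟩
  intro A' B' _ _ ρA ρB φ' hcomm hA hB
  letI := ρA.toAlgebra
  letI := ρB.toAlgebra
  letI := φ'.toAlgebra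
  letI : Algebra A B' := (φ'.comp ρA).toAlgebra
  haveI : IsScalarTower A A' B' := IsScalarTower.of_algebraMap_eq (fun x => rfl)
  haveI : IsScalarTower A B B' := IsScalarTower.of_algebraMap_eq (fun x => by
    show (φ'.comp ρA) x = ρB (φ₀ x)
    rw [hcomm]
    rfl)
  haveI : IsLocalization.Away a'' A' := hA
  haveI : IsLocalization.Away (algebraMap A B a'') B' := hB
  exact h A' B'

theorem exists_affine_ne_zero {X S : Scheme.{u}} (f : X ⟶ S) (g : Γ(X, ⊤)) (hg : g ≠ 0) :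
    ∃ (U₀ : S.Opens) (_ : IsAffineOpen U₀) (V₀ : X.Opens) (_ : IsAffineOpen V₀)
      (_ : V₀ ≤ f ⁻¹ᵁ U₀), X.presheaf.map (homOfLE le_top).op g ≠ (0 : Γ(X, V₀)) := by
  by_contra hcon
  push_neg at hcon
  apply hg
  fapply X.sheaf.eq_of_locally_eq'
    (fun i : {p : X.Opens × S.Opens // IsAffineOpen p.1 ∧ IsAffineOpen p.2 ∧ p.1 ≤ f ⁻¹ᵁ p.2} =>
      i.1.1) ⊤ (fun i => homOfLE le_top)
  · intro x _
    obtain ⟨U₀, hU₀, hxU₀, -⟩ :=
      exists_isAffineOpen_mem_and_subset (X := S) (x := f x) (U := ⊤) trivial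
    obtain ⟨V₀, hV₀, hxV₀, hV₀U₀⟩ :=
      exists_isAffineOpen_mem_and_subset (X := X) (x := x) (U := f ⁻¹ᵁ U₀) hxU₀
    rw [TopologicalSpace.Opens.mem_iSup]
    exact ⟨⟨(V₀, U₀), hV₀, hU₀, hV₀U₀⟩, hxV₀⟩
  · intro i
    change X.presheaf.map _ g = X.presheaf.map _ 0
    rw [map_zero]
    exact hcon i.1.2 i.2.2.1 i.1.1 i.2.1 i.2.2.2

theorem main {X S : Scheme.{u}} (f : X ⟶ S) [Flat f] [LocallyOfFinitePresentation f]
    [LocallyQuasiFinite f] (g : Γ(X, ⊤)) (hg : g ≠ 0) :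
    ∃ (U : S.Opens) (hU : IsAffineOpen U) (V : X.Opens) (hV : IsAffineOpen V)
      (hVU : V ≤ f ⁻¹ᵁ U),
      X.presheaf.map (homOfLE le_top).op g ≠ (0 : Γ(X, V)) ∧
      ∃ (F : Ideal Γ(S, U)) (r : ℕ), 0 < r ∧
        letI := (f.appLE U V hVU).hom.toAlgebra
        ∃ φ : (Fin r → ↥F) →ₗ[Γ(S, U)] Γ(X, V), Function.Injective φ ∧
          X.presheaf.map (homOfLE le_top).op g ∈ LinearMap.range φ := by
  obtain ⟨U₀, hU₀, V₀, hV₀, h₀, hg₀⟩ := exists_affine_ne_zero f g hg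
  have hflat : (f.appLE U₀ V₀ h₀).hom.Flat :=
    HasRingHomProperty.appLE @Flat f inferInstance ⟨U₀, hU₀⟩ ⟨V₀, hV₀⟩ h₀
  have hfp : (f.appLE U₀ V₀ h₀).hom.FinitePresentation :=
    HasRingHomProperty.appLE @LocallyOfFinitePresentation f inferInstance ⟨U₀, hU₀⟩ ⟨V₀, hV₀⟩ h₀
  have hqf : (f.appLE U₀ V₀ h₀).hom.QuasiFinite :=
    HasRingHomProperty.appLE @LocallyQuasiFinite f inferInstance ⟨U₀, hU₀⟩ ⟨V₀, hV₀⟩ h₀
  obtain ⟨a'', h⟩ := ring_main' (f.appLE U₀ V₀ h₀).hom hflat hfp hqf _ hg₀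
  have hUle : S.basicOpen a'' ≤ U₀ := S.basicOpen_le a''
  have hVle : X.basicOpen ((f.appLE U₀ V₀ h₀).hom a'') ≤ V₀ := X.basicOpen_le _
  have hVU : X.basicOpen ((f.appLE U₀ V₀ h₀).hom a'') ≤ f ⁻¹ᵁ S.basicOpen a'' := by
    rw [Scheme.preimage_basicOpen]
    have h1 : (f.appLE U₀ V₀ h₀).hom a'' = X.presheaf.map (homOfLE h₀).op (f.app U₀ a'') := by
      rw [Scheme.Hom.appLE]
      rfl
    rw [h1, Scheme.basicOpen_res]
    exact inf_le_right
  have hcomm : (f.appLE _ _ hVU).hom.comp (S.presheaf.map (homOfLE hUle).op).hom =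
      (X.presheaf.map (homOfLE hVle).op).hom.comp (f.appLE U₀ V₀ h₀).hom := by
    rw [← CommRingCat.hom_comp, ← CommRingCat.hom_comp, Scheme.Hom.map_appLE,
      Scheme.Hom.appLE_map]
  refine ⟨S.basicOpen a'', hU₀.basicOpen a'', X.basicOpen ((f.appLE U₀ V₀ h₀).hom a''),
    hV₀.basicOpen _, hVU, ?_⟩
  have key := h Γ(S, S.basicOpen a'') Γ(X, X.basicOpen ((f.appLE U₀ V₀ h₀).hom a''))
    (S.presheaf.map (homOfLE hUle).op).hom (X.presheaf.map (homOfLE hVle).op).hom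
    (f.appLE _ _ hVU).hom hcomm (hU₀.isLocalization_basicOpen a'')
    (hV₀.isLocalization_basicOpen _)
  have hres : (X.presheaf.map (homOfLE hVle).op).hom (X.presheaf.map (homOfLE le_top).op g) =
      X.presheaf.map (homOfLE le_top).op g := by
    rw [← CommRingCat.comp_apply, ← Functor.map_comp]
    rfl
  obtain ⟨h1, F, r, hr, hrest⟩ := key
  obtain ⟨φ, hφ, hmem⟩ := hrest
  exact ⟨hres ▸ h1, F, r, hr, φ, hφ, hres ▸ hmem⟩

end Groth.Agent.Lib.Helper8.FlqfSch
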