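import Mathlib
import Groth.Agent.Lib.Helper28.ExtFin

/-!
# Zariski-local factorizations and gluing finite surjective morphisms by extension + fibre product
-/

set_option autoImplicit false
universe u

open CategoryTheory Limits AlgebraicGeometry TopologicalSpace

namespace Groth.Agent.Lib.Helper8.FppfFin

/-- `π : Y ⟶ S` factors through `g : U ⟶ S` Zariski-locally on `Y`. -/
def LF {U S Y : Scheme.{u}} (g : U ⟶ S) (π : Y ⟶ S) : Prop :=
  ∀ y : Y, ∃ (V : Scheme.{u}) (j : V ⟶ Y) (h : V ⟶ U),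
    IsOpenImmersion j ∧ y ∈ Set.range j ∧ h ≫ g = j ≫ π

theorem LF.comp_left {U S Y Y' : Scheme.{u}} {g : U ⟶ S} {π : Y ⟶ S} (H : LF g π) (q : Y' ⟶ Y) :
    LF g (q ≫ π) := by
  intro y'
  obtain ⟨V, j, h, hj, hy, hh⟩ := H (q y')
  refine ⟨pullback j q, pullback.snd j q, pullback.fst j q ≫ h, inferInstance, ?_, ?_⟩
  · rw [Scheme.Pullback.range_snd]
    exact hy
  · rw [Category.assoc, hh, ← Category.assoc, pullback.condition, Category.assoc]

theorem LF.of_openCover {U S Y : Scheme.{u}} {g : U ⟶ S} {π : Y ⟶ S}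
    (H : ∀ y : Y, ∃ (Y₁ : Scheme.{u}) (i : Y₁ ⟶ Y), IsOpenImmersion i ∧ y ∈ Set.range i ∧
      LF g (i ≫ π)) : LF g π := by
  intro y
  obtain ⟨Y₁, i, hi, ⟨y₁, rfl⟩, H₁⟩ := H y
  obtain ⟨V, j, h, hj, ⟨v, rfl⟩, hh⟩ := H₁ y₁
  refine ⟨V, j ≫ i, h, inferInstance, ⟨v, by simp⟩, ?_⟩
  rw [hh, Category.assoc]

theorem LF.of_eq {U S Y : Scheme.{u}} {g : U ⟶ S} {π π' : Y ⟶ S} (H : LF g π) (h : π = π') :
    LF g π' := h ▸ H

theorem LF.toOpens {U S Y : Scheme.{u}} {g : U ⟶ S} {π : Y ⟶ S} (H : LF g π) (y : Y) :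
    ∃ (V : Y.Opens) (h : (V : Scheme.{u}) ⟶ U), y ∈ V ∧ h ≫ g = V.ι ≫ π := by
  obtain ⟨V, j, h, hj, hy, hh⟩ := H y
  refine ⟨j.opensRange, j.isoOpensRange.inv ≫ h, hy, ?_⟩
  rw [Category.assoc, hh, ← Category.assoc, Scheme.Hom.isoOpensRange_inv_comp]

theorem LF.ofOpens {U S Y : Scheme.{u}} {g : U ⟶ S} {π : Y ⟶ S}
    (H : ∀ y : Y, ∃ (V : Y.Opens) (h : (V : Scheme.{u}) ⟶ U), y ∈ V ∧ h ≫ g = V.ι ≫ π) :
    LF g π := by
  intro y
  obtain ⟨V, h, hy, hh⟩ := H y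
  exact ⟨V, V.ι, h, inferInstance, by simpa using hy, hh⟩

section Glue

open Groth.Agent.Lib.Helper28.ExtFin

/-- Finitely many finite surjective morphisms to a common base are dominated by one. -/
theorem exists_common_finite_surjective {T : Scheme.{u}} {ι : Type*} [Finite ι]
    (V' : ι → Scheme.{u}) (π : ∀ i, V' i ⟶ T) (hfin : ∀ i, IsFinite (π i))
    (hsurj : ∀ i, Surjective (π i)) :
    ∃ (Y : Scheme.{u}) (p : Y ⟶ T), IsFinite p ∧ Surjective p ∧
      ∀ i, ∃ r : Y ⟶ V' i, r ≫ π i = p := by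
  classical
  cases nonempty_fintype ι
  suffices H : ∀ s : Finset ι, ∃ (Y : Scheme.{u}) (p : Y ⟶ T), IsFinite p ∧ Surjective p ∧
      ∀ i ∈ s, ∃ r : Y ⟶ V' i, r ≫ π i = p by
    obtain ⟨Y, p, h1, h2, h3⟩ := H Finset.univ
    exact ⟨Y, p, h1, h2, fun i => h3 i (Finset.mem_univ i)⟩
  intro s
  induction s using Finset.induction_on with
  | empty => exact ⟨T, 𝟙 T, inferInstance, inferInstance, fun i hi => by simp at hi⟩
  | insert a s ha IH =>
    obtain ⟨Y, p, hp1, hp2, hp3⟩ := IH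
    haveI := hfin a
    haveI := hsurj a
    refine ⟨pullback p (π a), pullback.fst p (π a) ≫ p, inferInstance, inferInstance, ?_⟩
    intro i hi
    rcases Finset.mem_insert.mp hi with rfl | hi
    · exact ⟨pullback.snd p (π i), pullback.condition.symm⟩
    · obtain ⟨r, hr⟩ := hp3 i hi
      exact ⟨pullback.fst p (π a) ≫ r, by rw [Category.assoc, hr]⟩

/-- Gluing by extension and fibre product: finite surjective morphisms over finitely many
quasi-compact opens of a qcqs scheme are dominated by one finite surjective morphism. -/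
theorem exists_finite_surjective_dominating {T : Scheme.{u}} [CompactSpace T]
    [QuasiSeparatedSpace T] {ι : Type*} [Finite ι] (W : ι → T.Opens)
    (hW : ∀ i, IsCompact (W i : Set T)) (V : ι → Scheme.{u})
    (v : ∀ i, V i ⟶ (W i : Scheme.{u})) (hfin : ∀ i, IsFinite (v i))
    (hsurj : ∀ i, Surjective (v i)) :
    ∃ (Y : Scheme.{u}) (p : Y ⟶ T), IsFinite p ∧ Surjective p ∧
      ∀ i, ∃ q : ((p ⁻¹ᵁ W i : Y.Opens) : Scheme.{u}) ⟶ V i, q ≫ v i = p ∣_ W i := by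
  have hext : ∀ i, ∃ (V' : Scheme.{u}) (π : V' ⟶ T) (e : V i ⟶ V'),
      Surjective π ∧ IsFinite π ∧ IsPullback e (v i) π (W i).ι := fun i => by
    haveI := hfin i
    haveI := hsurj i
    exact ext_finite (W i) (hW i) (v i)
  choose V' π e hπs hπf hpb using hext
  obtain ⟨Y, p, hp1, hp2, hp3⟩ := exists_common_finite_surjective V' π hπf hπs
  refine ⟨Y, p, hp1, hp2, fun i => ?_⟩
  obtain ⟨r, hr⟩ := hp3 i
  have hw : ((p ⁻¹ᵁ W i).ι ≫ r) ≫ π i = (p ∣_ W i) ≫ (W i).ι := by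
    rw [Category.assoc, hr, morphismRestrict_ι]
  exact ⟨(hpb i).lift _ _ hw, (hpb i).lift_snd _ _ hw⟩

end Glue

end Groth.Agent.Lib.Helper8.FppfFin
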