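import Mathlib
import Groth.Agent.Lib.Helper8.FppfFin1
import Groth.Agent.Lib.Helper8.EtSplitSch
import Groth.Agent.Lib.Helper14.QFRefine

/-!
# An fppf cover of a qcqs scheme is dominated Zariski-locally by a finite surjective morphism
-/

set_option autoImplicit false
set_option linter.style.haveILetI false
universe u

open CategoryTheory Limits AlgebraicGeometry TopologicalSpace

namespace Groth.Agent.Lib.Helper8.FppfFin

open Groth.Agent.Lib.Helper14 Groth.Agent.Lib.Helper8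

set_option maxHeartbeats 800000 in
/-- Per-point statement. -/
theorem exists_nhd_finite_LF {U S : Scheme.{u}} (g : U ⟶ S) [Flat g]
    [LocallyOfFinitePresentation g] [Surjective g] (s : S) :
    ∃ (N : Scheme.{u}) (i : N ⟶ S) (Y : Scheme.{u}) (π : Y ⟶ N), IsOpenImmersion i ∧ IsAffine N ∧
      s ∈ Set.range i ∧ IsFinite π ∧ Surjective π ∧ LF g (π ≫ i) := by
  classical
  obtain ⟨S', V, e, π₁, _, ⟨s', hs'⟩, _, _, _, _, hLF₁⟩ :=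
    QFRefine.exists_etale_finite_flat_refinement g s
  have hLF₁' : LF g (π₁ ≫ e) := LF.ofOpens hLF₁
  obtain ⟨N₀, T, π₂, hsN₀, hN₀aff, _, _, _, _, hloc⟩ :=
    EtSplitSch.exists_finite_flat_dominating e s' s hs'
  haveI : IsAffine (N₀ : Scheme.{u}) := hN₀aff
  haveI : IsAffine T := isAffine_of_isAffineHom π₂
  let n₀ : (N₀ : Scheme.{u}) := ⟨s, hsN₀⟩
  have hFfin : (π₂ ⁻¹' {n₀}).Finite := π₂.finite_preimage_singleton n₀
  haveI : Finite (π₂ ⁻¹' {n₀} : Set T) := hFfin.to_subtype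
  have hdata : ∀ t : (π₂ ⁻¹' {n₀} : Set T), ∃ (a : Γ(T, ⊤))
      (h : (T.basicOpen a : Scheme.{u}) ⟶ S'), (t : T) ∈ T.basicOpen a ∧
      h ≫ e = (T.basicOpen a).ι ≫ π₂ ≫ N₀.ι := by
    intro t
    have ht : N₀.ι (π₂ t) = s := by
      have : π₂ t = n₀ := t.2
      rw [this]
      rfl
    obtain ⟨W, h, htW, hh, -⟩ := hloc t ht
    obtain ⟨_, ⟨a, rfl⟩, hta, haW⟩ := Opens.isBasis_iff_nbhd.mp (isBasis_basicOpen T) htW
    exact ⟨a, T.homOfLE haW ≫ h, hta, by rw [Category.assoc, hh, Scheme.homOfLE_ι_assoc]⟩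
  choose a h hta hh using hdata
  -- the closed complement
  let C : Set T := (⋃ t, (T.basicOpen (a t) : Set T))ᶜ
  have hC : IsClosed C := (isOpen_iUnion fun t => (T.basicOpen (a t)).2).isClosed_compl
  have hCim : IsClosed (π₂ '' C) := π₂.isClosedMap _ hC
  have hn₀C : n₀ ∈ (π₂ '' C)ᶜ := by
    rintro ⟨c, hc, hcn⟩
    exact hc (Set.mem_iUnion.mpr ⟨⟨c, hcn⟩, hta ⟨c, hcn⟩⟩)
  obtain ⟨_, ⟨b, rfl⟩, hn₀b, hbN₁⟩ := Opens.isBasis_iff_nbhd.mp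
    (isBasis_basicOpen (N₀ : Scheme.{u})) (U := ⟨(π₂ '' C)ᶜ, hCim.isOpen_compl⟩) hn₀C
  obtain ⟨N₂, hN₂⟩ : ∃ N₂ : (N₀ : Scheme.{u}).Opens, N₂ = (N₀ : Scheme.{u}).basicOpen b :=
    ⟨_, rfl⟩
  have hbN₂ : ∀ x : (N₀ : Scheme.{u}), x ∈ N₂ → x ∈ (π₂ '' C)ᶜ := by
    intro x hx
    rw [hN₂] at hx
    exact hbN₁ hx
  haveI : IsAffine (N₂ : Scheme.{u}) := hN₂ ▸ (isAffineOpen_top (N₀ : Scheme.{u})).basicOpen b
  have hfin₂ : IsFinite (π₂ ∣_ N₂) := IsZariskiLocalAtTarget.restrict ‹IsFinite π₂› N₂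
  have hsurj₂ : Surjective (π₂ ∣_ N₂) := IsZariskiLocalAtTarget.restrict ‹Surjective π₂› N₂
  obtain ⟨T₂, hT₂⟩ : ∃ T₂ : T.Opens, T₂ = π₂ ⁻¹ᵁ N₂ := ⟨_, rfl⟩
  obtain ⟨π₂', hπ₂'⟩ : ∃ π₂' : (T₂ : Scheme.{u}) ⟶ (N₂ : Scheme.{u}),
      π₂' ≫ N₂.ι = T₂.ι ≫ π₂ ∧ IsFinite π₂' ∧ Surjective π₂' := by
    subst hT₂
    exact ⟨π₂ ∣_ N₂, morphismRestrict_ι _ _, hfin₂, hsurj₂⟩
  obtain ⟨hπ₂'ι, hπ₂'f, hπ₂'s⟩ := hπ₂'
  haveI : IsAffine (T₂ : Scheme.{u}) := isAffine_of_isAffineHom π₂'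
  -- the opens of `T₂`
  let Wt : (π₂ ⁻¹' {n₀} : Set T) → (T₂ : Scheme.{u}).Opens := fun t => T₂.ι ⁻¹ᵁ T.basicOpen (a t)
  have hWtc : ∀ t, IsCompact (Wt t : Set (T₂ : Scheme.{u})) := fun t => by
    have : Wt t = (T₂ : Scheme.{u}).basicOpen (T₂.ι.appTop (a t)) :=
      Scheme.preimage_basicOpen_top _ _
    rw [this]
    exact ((isAffineOpen_top (T₂ : Scheme.{u})).basicOpen _).isCompact
  have hrange : ∀ t, Set.range ((Wt t).ι ≫ T₂.ι) ⊆ Set.range (T.basicOpen (a t)).ι := by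
    rintro t _ ⟨x, rfl⟩
    rw [Scheme.Opens.range_ι]
    exact x.2
  let lft : ∀ t, ((Wt t : (T₂ : Scheme.{u}).Opens) : Scheme.{u}) ⟶ (T.basicOpen (a t) : Scheme.{u}) :=
    fun t => IsOpenImmersion.lift (T.basicOpen (a t)).ι ((Wt t).ι ≫ T₂.ι) (hrange t)
  have hlft : ∀ t, lft t ≫ (T.basicOpen (a t)).ι = (Wt t).ι ≫ T₂.ι := fun t =>
    IsOpenImmersion.lift_fac _ _ _
  let hq2 : ∀ t, ((Wt t : (T₂ : Scheme.{u}).Opens) : Scheme.{u}) ⟶ S' := fun t => lft t ≫ h t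
  have hhq : ∀ t, hq2 t ≫ e = (Wt t).ι ≫ T₂.ι ≫ π₂ ≫ N₀.ι := fun t => by
    simp only [hq2, Category.assoc]
    rw [hh t, reassoc_of% (hlft t)]
  obtain ⟨Y, p, hp1, hp2, hq⟩ := exists_finite_surjective_dominating Wt hWtc
    (fun t => pullback π₁ (hq2 t)) (fun t => pullback.snd π₁ (hq2 t))
    (fun t => inferInstance) (fun t => inferInstance)
  refine ⟨N₂, N₂.ι ≫ N₀.ι, Y, p ≫ π₂', inferInstance, inferInstance, ?_, inferInstance,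
    inferInstance, ?_⟩
  · refine ⟨⟨n₀, hN₂ ▸ hn₀b⟩, ?_⟩
    rw [Scheme.Hom.comp_apply]
    rfl
  · refine LF.of_openCover fun y => ?_
    have hy1 : π₂ (T₂.ι (p y)) ∈ (π₂ '' C)ᶜ := by
      have h1 : π₂ (T₂.ι (p y)) = N₂.ι (π₂' (p y)) := by
        rw [← Scheme.Hom.comp_apply T₂.ι π₂, ← hπ₂'ι, Scheme.Hom.comp_apply]
      rw [h1]
      exact hbN₂ _ (π₂' (p y)).2
    have hy2 : T₂.ι (p y) ∉ C := fun hc => hy1 ⟨_, hc, rfl⟩
    obtain ⟨t, ht⟩ := Set.mem_iUnion.mp (not_not.mp hy2)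
    refine ⟨(p ⁻¹ᵁ Wt t : Y.Opens), (p ⁻¹ᵁ Wt t).ι, inferInstance, ?_, ?_⟩
    · rw [Scheme.Opens.range_ι]
      exact ht
    · obtain ⟨q, hq'⟩ := hq t
      refine (hLF₁'.comp_left (q ≫ pullback.fst π₁ (hq2 t))).of_eq ?_
      have e1 : pullback.fst π₁ (hq2 t) ≫ π₁ = pullback.snd π₁ (hq2 t) ≫ hq2 t := pullback.condition
      have e2 : (p ∣_ Wt t) ≫ (Wt t).ι = (p ⁻¹ᵁ Wt t).ι ≫ p := morphismRestrict_ι _ _
      calc (q ≫ pullback.fst π₁ (hq2 t)) ≫ π₁ ≫ e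
          = q ≫ (pullback.fst π₁ (hq2 t) ≫ π₁) ≫ e := by simp only [Category.assoc]
        _ = (q ≫ pullback.snd π₁ (hq2 t)) ≫ hq2 t ≫ e := by rw [e1]; simp only [Category.assoc]
        _ = ((p ∣_ Wt t) ≫ (Wt t).ι) ≫ T₂.ι ≫ π₂ ≫ N₀.ι := by
            rw [hq', hhq t]; simp only [Category.assoc]
        _ = (p ⁻¹ᵁ Wt t).ι ≫ p ≫ (T₂.ι ≫ π₂) ≫ N₀.ι := by rw [e2]; simp only [Category.assoc]
        _ = (p ⁻¹ᵁ Wt t).ι ≫ (p ≫ π₂') ≫ N₂.ι ≫ N₀.ι := by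
            rw [← hπ₂'ι]; simp only [Category.assoc]

/-- An fppf cover (by one morphism) of a qcqs scheme is dominated Zariski-locally by a finite
surjective morphism. -/
theorem exists_finite_surjective_LF {U S : Scheme.{u}} (g : U ⟶ S) [Flat g]
    [LocallyOfFinitePresentation g] [Surjective g] [CompactSpace S] [QuasiSeparatedSpace S] :
    ∃ (Y : Scheme.{u}) (π : Y ⟶ S), IsFinite π ∧ Surjective π ∧ LF g π := by
  classical
  choose N i Y π hi hN hs hπf hπs hLF using exists_nhd_finite_LF g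
  obtain ⟨t, ht⟩ := CompactSpace.elim_nhds_subcover (fun s => ((i s).opensRange : Set S))
    (fun s => (i s).opensRange.2.mem_nhds (hs s))
  let O : {x // x ∈ t} → S.Opens := fun s => (i s.1).opensRange
  have hOc : ∀ s, IsCompact (O s : Set S) := fun s => by
    haveI := hN s.1
    exact isCompact_range (i s.1).continuous
  obtain ⟨Z, p, hp1, hp2, hq⟩ := exists_finite_surjective_dominating O hOc
    (fun s => Y s.1) (fun s => π s.1 ≫ (i s.1).isoOpensRange.hom)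
    (fun s => by haveI := hπf s.1; infer_instance)
    (fun s => by haveI := hπs s.1; infer_instance)
  refine ⟨Z, p, hp1, hp2, LF.of_openCover fun z => ?_⟩
  have hz : p z ∈ ⋃ x ∈ t, ((i x).opensRange : Set S) := by rw [ht]; trivial
  obtain ⟨x, hxt, hzx⟩ := Set.mem_iUnion₂.mp hz
  refine ⟨(p ⁻¹ᵁ O ⟨x, hxt⟩ : Z.Opens), (p ⁻¹ᵁ O ⟨x, hxt⟩).ι, inferInstance, ?_, ?_⟩
  · rw [Scheme.Opens.range_ι]
    exact hzx
  · obtain ⟨q, hq'⟩ := hq ⟨x, hxt⟩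
    refine ((hLF x).comp_left q).of_eq ?_
    have e2 : (p ∣_ O ⟨x, hxt⟩) ≫ (O ⟨x, hxt⟩).ι = (p ⁻¹ᵁ O ⟨x, hxt⟩).ι ≫ p :=
      morphismRestrict_ι _ _
    rw [← e2, ← hq']
    simp only [Category.assoc, O, Scheme.Hom.isoOpensRange_hom_ι]

end Groth.Agent.Lib.Helper8.FppfFin
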