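import Mathlib
import Groth.Agent.Lib.Helper8.FppfFin2
import Groth.Prelude.Def_HTop

/-!
# fppf coverings are ph coverings
-/

set_option autoImplicit false
set_option linter.style.haveILetI false
universe w u

open CategoryTheory Limits AlgebraicGeometry TopologicalSpace

namespace Groth.Agent.Lib.Helper8.FppfFin

/-- Family version of `exists_finite_surjective_LF`. -/
theorem exists_finite_surjective_family {T : Scheme.{u}} [CompactSpace T] [QuasiSeparatedSpace T]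
    {I : Type w} (X : I → Scheme.{u}) (f : ∀ i, X i ⟶ T) (hflat : ∀ i, Flat (f i))
    (hfp : ∀ i, LocallyOfFinitePresentation (f i)) (hsurj : ∀ t : T, ∃ (i : I) (x : X i), f i x = t) :
    ∃ (Y : Scheme.{u}) (π : Y ⟶ T), IsFinite π ∧ Surjective π ∧
      ∀ y : Y, ∃ (V : Scheme.{u}) (j : V ⟶ Y) (i : I) (h : V ⟶ X i),
        IsOpenImmersion j ∧ IsAffine V ∧ y ∈ Set.range j ∧ h ≫ f i = j ≫ π := by
  classical
  choose i x hx using hsurj
  have hopen : ∀ t, Set.range (f (i t)) ∈ nhds t := fun t => by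
    haveI := hflat (i t)
    haveI := hfp (i t)
    exact ((f (i t)).isOpenMap.isOpen_range).mem_nhds ⟨x t, hx t⟩
  obtain ⟨s, hs⟩ := CompactSpace.elim_nhds_subcover (fun t => Set.range (f (i t))) hopen
  let G : {t // t ∈ s} → Scheme.{u} := fun k => X (i k.1)
  let gT : ∐ G ⟶ T := Sigma.desc fun k : {t // t ∈ s} => f (i k.1)
  haveI : Flat gT := IsZariskiLocalAtSource.sigmaDesc fun k => hflat (i k.1)
  haveI : LocallyOfFinitePresentation gT := IsZariskiLocalAtSource.sigmaDesc fun k => hfp (i k.1)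
  haveI : Surjective gT := by
    refine Surjective.sigmaDesc_of_union_range_eq_univ ?_
    rw [Set.eq_univ_iff_forall]
    intro t
    have ht : t ∈ ⋃ x ∈ s, Set.range (f (i x)) := by rw [hs]; trivial
    obtain ⟨t', ht's, ht'⟩ := Set.mem_iUnion₂.mp ht
    exact Set.mem_iUnion.mpr ⟨⟨t', ht's⟩, ht'⟩
  obtain ⟨Y, π, hπf, hπs, hLF⟩ := exists_finite_surjective_LF gT
  refine ⟨Y, π, hπf, hπs, fun y => ?_⟩
  obtain ⟨V, j, h, hj, ⟨v, rfl⟩, hh⟩ := hLF y
  obtain ⟨⟨k, z⟩, hz⟩ := (sigmaMk G).surjective (h v)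
  rw [sigmaMk_mk] at hz
  have hv : v ∈ h ⁻¹ᵁ (Sigma.ι G k).opensRange := ⟨z, hz⟩
  obtain ⟨_, ⟨(V' : V.Opens), hV', rfl⟩, hvV', hV'le⟩ :=
    V.isBasis_affineOpens.exists_subset_of_mem_open hv (h ⁻¹ᵁ (Sigma.ι G k).opensRange).2
  haveI : IsAffine (V' : Scheme.{u}) := hV'
  have hrange : Set.range (V'.ι ≫ h) ⊆ Set.range (Sigma.ι G k) := by
    rintro _ ⟨a, rfl⟩
    exact hV'le a.2
  refine ⟨V', V'.ι ≫ j, i k.1, IsOpenImmersion.lift (Sigma.ι G k) (V'.ι ≫ h) hrange,
    inferInstance, inferInstance, ⟨⟨v, hvV'⟩, by simp⟩, ?_⟩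
  have e1 : IsOpenImmersion.lift (Sigma.ι G k) (V'.ι ≫ h) hrange ≫ Sigma.ι G k = V'.ι ≫ h :=
    IsOpenImmersion.lift_fac _ _ _
  have e2 : Sigma.ι G k ≫ gT = f (i k.1) := Sigma.ι_desc _ _
  rw [← e2, ← Category.assoc, e1, Category.assoc, hh, Category.assoc]

/-- An fppf covering is a ph covering. -/
theorem isPhCover_of_fppf {T : Scheme.{u}} (E : PreZeroHypercover.{w} T)
    (hflat : ∀ i, Flat (E.f i)) (hfp : ∀ i, LocallyOfFinitePresentation (E.f i))
    (hsurj : ∀ t : T, ∃ (i : E.I₀) (x : E.X i), E.f i x = t) : HTop.IsPhCover E := by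
  classical
  refine ⟨fun i => by haveI := hfp i; infer_instance, fun U => ?_⟩
  haveI : IsAffine ((U : T.Opens) : Scheme.{u}) := U.2
  have hsurj' : ∀ t : ((U : T.Opens) : Scheme.{u}), ∃ (i : E.I₀)
      (x : ↥(pullback (E.f i) (U : T.Opens).ι)), pullback.snd (E.f i) (U : T.Opens).ι x = t := by
    intro t
    obtain ⟨i, x, hx⟩ := hsurj ((U : T.Opens).ι t)
    obtain ⟨z, -, hz⟩ := Scheme.Pullback.exists_preimage_pullback (f := E.f i)
      (g := (U : T.Opens).ι) x t hx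
    exact ⟨i, z, hz⟩
  obtain ⟨Y, π, hπf, hπs, hloc⟩ := exists_finite_surjective_family
    (fun i => pullback (E.f i) (U : T.Opens).ι) (fun i => pullback.snd (E.f i) (U : T.Opens).ι)
    (fun i => by haveI := hflat i; infer_instance) (fun i => by haveI := hfp i; infer_instance)
    hsurj'
  haveI : IsAffine Y := isAffine_of_isAffineHom π
  choose V j i h hj hV hy hh using hloc
  obtain ⟨t, ht⟩ := CompactSpace.elim_nhds_subcover (fun y => Set.range (j y))
    (fun y => ((j y).isOpenEmbedding.isOpen_range).mem_nhds (hy y))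
  let e : Fin t.card ≃ {y // y ∈ t} := t.equivFin.symm
  let F : PreZeroHypercover.{0} ((U : T.Opens) : Scheme.{u}) :=
    { I₀ := Fin t.card
      X := fun l => V (e l).1
      f := fun l => j (e l).1 ≫ π }
  refine ⟨F, ⟨inferInstance, inferInstanceAs (Finite (Fin t.card)), fun l => hV (e l).1,
    ⟨Y, π, fun l => j (e l).1, inferInstance, hπs, fun l => hj (e l).1, fun l => rfl, ?_⟩⟩, ?_⟩
  · intro y
    have hyt : y ∈ ⋃ x ∈ t, Set.range (j x) := by rw [ht]; trivial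
    obtain ⟨y', hy't, hy'⟩ := Set.mem_iUnion₂.mp hyt
    refine ⟨e.symm ⟨y', hy't⟩, ?_⟩
    change y ∈ Set.range (j (e (e.symm ⟨y', hy't⟩)).1)
    rw [Equiv.apply_symm_apply]
    exact hy'
  · intro l
    refine ⟨i (e l).1, h (e l).1 ≫ pullback.fst (E.f (i (e l).1)) (U : T.Opens).ι, ?_⟩
    change (h (e l).1 ≫ pullback.fst (E.f (i (e l).1)) (U : T.Opens).ι) ≫ E.f (i (e l).1) =
      (j (e l).1 ≫ π) ≫ (U : T.Opens).ι
    rw [Category.assoc, pullback.condition, ← Category.assoc, hh, Category.assoc]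

end Groth.Agent.Lib.Helper8.FppfFin
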