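import Mathlib
import Groth.Agent.Lib.Helper8.FppfFin1
import Groth.Agent.Lib.Helper12.ProperApprox

/-!
# Finite presentation approximation of a finite surjective morphism that locally factors
through a morphism locally of finite presentation
-/

set_option autoImplicit false
universe u

open CategoryTheory Limits AlgebraicGeometry TopologicalSpace Opposite

set_option backward.isDefEq.respectTransparency false
set_option linter.style.haveILetI false

namespace Groth.Agent.Lib.Helper8.FppfFin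

open Groth.Agent.Lib.Helper12.ProperApprox

/-- Affineness over the base descends to a finite stage of a cofiltered limit with affine
transition maps. -/
theorem eventually_isAffineHom {I : Type u} [SmallCategory I] [IsCofiltered I] (S : Scheme.{u})
    [CompactSpace S] [QuasiSeparatedSpace S]
    (D : I ⥤ Scheme.{u}) (t : D ⟶ (Functor.const I).obj S) (c : Limits.Cone D)
    (hc : Limits.IsLimit c)
    [∀ (i j : I) (a : i ⟶ j), IsAffineHom (D.map a)]
    [∀ i, CompactSpace (D.obj i)] [∀ i, QuasiSeparatedSpace (D.obj i)] (i₀ : I)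
    [IsAffineHom (c.π.app i₀ ≫ t.app i₀)] :
    ∃ i₁ : I, ∀ (i : I) (_ : i ⟶ i₁), IsAffineHom (t.app i) := by
  classical
  haveI : ∀ {i j : I} (f : i ⟶ j), IsAffineHom (D.map f) := fun f => inferInstance
  have hnat : ∀ {i j : I} (f : i ⟶ j), D.map f ≫ t.app j = t.app i := by
    intro i j f
    have := t.naturality f
    simpa using this
  have hpi : ∀ i, c.π.app i ≫ t.app i = c.π.app i₀ ≫ t.app i₀ := by
    intro i
    have h1 : c.π.app (IsCofiltered.min i i₀) ≫ D.map (IsCofiltered.minToLeft i i₀) = c.π.app i :=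
      c.w _
    have h2 : c.π.app (IsCofiltered.min i i₀) ≫ D.map (IsCofiltered.minToRight i i₀) =
        c.π.app i₀ := c.w _
    rw [← h1, ← h2, Category.assoc, Category.assoc, hnat, hnat]
  have key : ∀ W : S.Opens, IsAffineOpen W →
      ∃ j : I, ∀ (i : I) (_ : i ⟶ j), IsAffineOpen (t.app i ⁻¹ᵁ W) := by
    intro W hW
    have hU : IsAffineOpen ((c.π.app i₀ ≫ t.app i₀) ⁻¹ᵁ W) := hW.preimage _
    obtain ⟨i, V, hV, hVU⟩ := exists_isAffineOpen_preimage_eq D c hc _ hU
    haveI : QuasiCompact (t.app i) :=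
      (inferInstance : QuasiCompact (show D.obj i ⟶ S from t.app i))
    have hV' : IsCompact ((t.app i ⁻¹ᵁ W : (D.obj i).Opens) : Set (D.obj i)) :=
      QuasiCompact.isCompact_preimage (f := t.app i) _ W.2 hW.isCompact
    have H : c.π.app i ⁻¹ᵁ V = c.π.app i ⁻¹ᵁ (t.app i ⁻¹ᵁ W) := by
      rw [hVU, ← Scheme.Hom.comp_preimage, hpi i]
    obtain ⟨j, fji, hj⟩ := exists_map_preimage_eq_map_preimage D c hc hV.isCompact hV' H
    refine ⟨j, fun i' g => ?_⟩
    have h3 : t.app i' ⁻¹ᵁ W = D.map g ⁻¹ᵁ (D.map fji ⁻¹ᵁ (t.app i ⁻¹ᵁ W)) := by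
      rw [← Scheme.Hom.comp_preimage, ← Scheme.Hom.comp_preimage, Category.assoc, hnat fji, hnat g]
    rw [h3, ← hj]
    exact (hV.preimage (D.map fji)).preimage (D.map g)
  let 𝒰 := S.affineCover.finiteSubcover
  have hW : ∀ k : 𝒰.I₀, IsAffineOpen (𝒰.f k).opensRange := fun k =>
    isAffineOpen_opensRange (𝒰.f k)
  choose j hj using fun k : 𝒰.I₀ => key _ (hW k)
  obtain ⟨i₁, hi₁⟩ := IsCofiltered.inf_objs_exists (Finset.univ.image j)
  have fi₁ : ∀ k, i₁ ⟶ j k := fun k => (hi₁ (Finset.mem_image_of_mem j (Finset.mem_univ k))).some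
  refine ⟨i₁, fun i g => ?_⟩
  refine isAffineHom_of_forall_exists_isAffineOpen (f := t.app i) fun x => ?_
  obtain ⟨k, hk⟩ := 𝒰.exists_eq x
  exact ⟨(𝒰.f k).opensRange, hk, hW k, hj k i (g ≫ fi₁ k)⟩

/-- Local factorizations through a morphism locally of finite presentation descend to a finite
stage of a cofiltered limit of qcqs schemes with affine transition maps. -/
theorem LF_descend {I : Type u} [SmallCategory I] [IsCofiltered I] {S U : Scheme.{u}} (g : U ⟶ S)
    [LocallyOfFinitePresentation g]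
    (D : I ⥤ Scheme.{u}) (t : D ⟶ (Functor.const I).obj S) (c : Cone D) (hc : IsLimit c)
    [∀ (i j : I) (a : i ⟶ j), IsAffineHom (D.map a)]
    [∀ i, CompactSpace (D.obj i)] [∀ i, QuasiSeparatedSpace (D.obj i)] (i₀ : I)
    (hLF : LF g (c.π.app i₀ ≫ t.app i₀)) : ∃ i : I, LF g (t.app i) := by
  classical
  haveI : ∀ {i j : I} (f : i ⟶ j), IsAffineHom (D.map f) := fun f => inferInstance
  have hnat : ∀ {i j : I} (f : i ⟶ j), D.map f ≫ t.app j = t.app i := by
    intro i j f
    have := t.naturality f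
    simpa using this
  have hpi : ∀ i, c.π.app i ≫ t.app i = c.π.app i₀ ≫ t.app i₀ := by
    intro i
    have h1 : c.π.app (IsCofiltered.min i i₀) ≫ D.map (IsCofiltered.minToLeft i i₀) = c.π.app i :=
      c.w _
    have h2 : c.π.app (IsCofiltered.min i i₀) ≫ D.map (IsCofiltered.minToRight i i₀) =
        c.π.app i₀ := c.w _
    rw [← h1, ← h2, Category.assoc, Category.assoc, hnat, hnat]
  have H : ∀ y : c.pt, ∃ (W : c.pt.Opens) (h : (W : Scheme.{u}) ⟶ U), y ∈ W ∧ IsAffineOpen W ∧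
      h ≫ g = W.ι ≫ c.π.app i₀ ≫ t.app i₀ := by
    intro y
    obtain ⟨V, h, hy, hh⟩ := hLF.toOpens y
    obtain ⟨W, hW, hyW, hWV⟩ := Opens.isBasis_iff_nbhd.mp c.pt.isBasis_affineOpens hy
    refine ⟨W, c.pt.homOfLE hWV ≫ h, hyW, hW, ?_⟩
    rw [Category.assoc, hh, Scheme.homOfLE_ι_assoc]
  choose W h hyW hWaff hWh using H
  have hcover : IsOpenCover W :=
    IsOpenCover.mk (eq_top_iff.mpr fun y _ => Opens.mem_iSup.mpr ⟨y, hyW y⟩)
  obtain ⟨i, s, V, hV, hVW⟩ := Scheme.exists_isOpenCover_and_isAffine D c hc W hcover hWaff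
  have key : ∀ k : s, ∃ (j : Over i) (gk : (D.map j.hom ⁻¹ᵁ V k : Scheme.{u}) ⟶ U),
      gk ≫ g = (D.map j.hom ⁻¹ᵁ V k).ι ≫ t.app j.left := by
    intro k
    haveI : ∀ j, IsAffine ((opensDiagram D i (V k)).obj j) := fun j => (hVW k).1.preimage _
    let tk : opensDiagram D i (V k) ⟶ (Functor.const (Over i)).obj S :=
      { app := fun j => (D.map j.hom ⁻¹ᵁ V k).ι ≫ t.app j.left
        naturality := fun j j' f => by
          show (D.map f.left).resLE _ _ _ ≫ (D.map j'.hom ⁻¹ᵁ V k).ι ≫ t.app j'.left =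
            ((D.map j.hom ⁻¹ᵁ V k).ι ≫ t.app j.left) ≫ 𝟙 S
          rw [Scheme.Hom.resLE_comp_ι_assoc, hnat]
          exact (Category.comp_id _).symm }
    let ak : (opensCone D c i (V k)).pt ⟶ U := c.pt.homOfLE (hVW k).2.ge ≫ h k
    have ha : (opensCone D c i (V k)).π ≫ tk = (Functor.const _).map (ak ≫ g) := by
      ext j : 2
      show (c.π.app j.left).resLE _ _ _ ≫ (D.map j.hom ⁻¹ᵁ V k).ι ≫ t.app j.left =
        (c.pt.homOfLE (hVW k).2.ge ≫ h k) ≫ g
      rw [Scheme.Hom.resLE_comp_ι_assoc, hpi, Category.assoc, hWh, Scheme.homOfLE_ι_assoc]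
    obtain ⟨j, gk, -, hgk⟩ := Scheme.exists_π_app_comp_eq_of_locallyOfFinitePresentation
      (opensDiagram D i (V k)) tk g (opensCone D c i (V k)) (isLimitOpensCone D c hc i (V k)) ak ha
    exact ⟨j, gk, hgk⟩
  choose j gk hgk using key
  obtain ⟨l, fli, fl, hfl⟩ := IsCofiltered.wideCospan (fun k : s => (j k).hom)
  refine ⟨l, LF.ofOpens fun y => ?_⟩
  obtain ⟨k, hk⟩ := hV.exists_mem (D.map fli y)
  have hle : D.map fli ⁻¹ᵁ V k ≤ D.map (fl k) ⁻¹ᵁ (D.map (j k).hom ⁻¹ᵁ V k) := by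
    rw [← Scheme.Hom.comp_preimage, ← D.map_comp, hfl k]
  refine ⟨D.map fli ⁻¹ᵁ V k, (D.map (fl k)).resLE _ _ hle ≫ gk k, hk, ?_⟩
  rw [Category.assoc, hgk, Scheme.Hom.resLE_comp_ι_assoc, hnat]

/-- **Finite presentation approximation**: a finite surjective morphism to a qcqs scheme that
Zariski-locally factors through a morphism locally of finite presentation is dominated by one
that is in addition of finite presentation. -/
theorem exists_finite_fp_LF {U S Y : Scheme.{u}} (g : U ⟶ S) [LocallyOfFinitePresentation g]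
    [CompactSpace S] [QuasiSeparatedSpace S] (π : Y ⟶ S) [IsFinite π] [Surjective π]
    (hLF : LF g π) :
    ∃ (Y' : Scheme.{u}) (π' : Y' ⟶ S), IsFinite π' ∧ LocallyOfFinitePresentation π' ∧
      Surjective π' ∧ LF g π' := by
  classical
  obtain ⟨B, iB1, iB2, iB3, D, πc, hlim, h1, h2⟩ := exists_proper_approx π
  let c : Cone D := { pt := Over.mk π, π := πc }
  haveI : IsConnected Bᵒᵖ := IsCofiltered.isConnected _
  have hlim' : IsLimit ((Over.forget S).mapCone c) := isLimitOfPreserves (Over.forget S) hlim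
  let D' : Bᵒᵖ ⥤ Scheme.{u} := D ⋙ Over.forget S
  let t : D' ⟶ (Functor.const Bᵒᵖ).obj S :=
    { app := fun i => (D.obj i).hom
      naturality := fun i j a => by
        show (D.map a).left ≫ (D.obj j).hom = (D.obj i).hom ≫ 𝟙 S
        rw [Over.w, Category.comp_id] }
  haveI : ∀ (i j : Bᵒᵖ) (a : i ⟶ j), IsAffineHom (D'.map a) := fun i j a => by
    haveI := h1 i j a
    exact inferInstanceAs (IsAffineHom (D.map a).left)
  haveI : ∀ i, CompactSpace (D'.obj i) := fun i => (h2 i).2.2.2.1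
  haveI : ∀ i, QuasiSeparatedSpace (D'.obj i) := fun i => (h2 i).2.2.2.2
  obtain ⟨i₀⟩ := (inferInstance : Nonempty Bᵒᵖ)
  have hπ : ∀ i, ((Over.forget S).mapCone c).π.app i ≫ t.app i = π := by
    intro i
    show (c.π.app i).left ≫ (D.obj i).hom = π
    rw [Over.w]
    rfl
  haveI : IsAffineHom (((Over.forget S).mapCone c).π.app i₀ ≫ t.app i₀) := by
    rw [hπ]; infer_instance
  obtain ⟨i₁, hi₁⟩ := eventually_isAffineHom S D' t ((Over.forget S).mapCone c) hlim' i₀
  obtain ⟨i₂, hi₂⟩ := LF_descend g D' t ((Over.forget S).mapCone c) hlim' i₀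
    (by rw [hπ]; exact hLF)
  let l : Bᵒᵖ := IsCofiltered.min i₁ i₂
  let a₁ : l ⟶ i₁ := IsCofiltered.minToLeft i₁ i₂
  let a₂ : l ⟶ i₂ := IsCofiltered.minToRight i₁ i₂
  refine ⟨(D.obj l).left, (D.obj l).hom, ?_, (h2 l).2.2.1, ?_, ?_⟩
  · haveI := hi₁ l a₁
    exact IsFinite.iff_isProper_and_isAffineHom.mpr ⟨(h2 l).2.1, hi₁ l a₁⟩
  · haveI : Surjective (((Over.forget S).mapCone c).π.app l ≫ t.app l) := by
      rw [hπ]; infer_instance
    exact Surjective.of_comp (((Over.forget S).mapCone c).π.app l) (t.app l)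
  · have e : (D.obj l).hom = D'.map a₂ ≫ t.app i₂ := by
      have := t.naturality a₂
      exact (this.trans (Category.comp_id _)).symm
    rw [e]
    exact hi₂.comp_left _

end Groth.Agent.Lib.Helper8.FppfFin
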