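import Mathlib
import Groth.Agent.Lib.Helper8.EtLocSch
import Groth.Agent.Lib.Helper14.QFRefine

/-!
# fppf covers are refined by (residue-trivial étale) ∘ (finite flat surjective)
-/

set_option autoImplicit false
set_option linter.style.haveILetI false
universe u

open CategoryTheory CategoryTheory.Limits AlgebraicGeometry TopologicalSpace Opposite

namespace Groth.Agent.Lib.Helper8.FppfNis

open Groth.Agent.Lib.Helper14 Groth.Agent.Lib.Helper14.QFRefine Groth.Agent.Lib.Helper8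

theorem surjective_residueFieldMap_comp_openImm {U' U S : Scheme.{u}} (j : U' ⟶ U)
    [IsOpenImmersion j] (g : U ⟶ S) (u' : U') (u : U) (h : j u' = u)
    (hs : Function.Surjective (g.residueFieldMap u)) :
    Function.Surjective ((j ≫ g).residueFieldMap u') := by
  subst h
  rw [Scheme.residueFieldMap_comp]
  have hb : Function.Bijective (j.residueFieldMap u').hom :=
    (ConcreteCategory.isIso_iff_bijective _).mp inferInstance
  exact hb.surjective.comp hs

-- Variant of helper14's `exists_etale_finite_flat_refinement` with a residue-trivial étale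
-- neighbourhood and the global factorization.
set_option backward.isDefEq.respectTransparency.types false in
theorem exists_etale_triv_finite_flat_refinement {S₁ S : Scheme.{u}} (g : S₁ ⟶ S) [Flat g]
    [LocallyOfFinitePresentation g] [Surjective g] (s : S) :
    ∃ (S' V : Scheme.{u}) (e : S' ⟶ S) (π : V ⟶ S') (r : V ⟶ S₁) (s' : S'), Etale e ∧ e s' = s ∧
      Function.Surjective (e.residueFieldMap s') ∧
      Surjective π ∧ IsFinite π ∧ Flat π ∧ LocallyOfFinitePresentation π ∧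
      r ≫ g = π ≫ e := by
  obtain ⟨T, h, hfl, hfp, hqf, hsurj, hfac⟩ := exists_quasiFinite_refinement g
  obtain ⟨t, rfl⟩ := h.surjective s
  obtain ⟨Vt, r, htV, hr⟩ := hfac t
  obtain ⟨_, ⟨S₀, hS₀, rfl⟩, hsS₀, -⟩ :=
    S.isBasis_affineOpens.exists_subset_of_mem_open (Set.mem_univ (h t)) isOpen_univ
  obtain ⟨_, ⟨T₀, hT₀, rfl⟩, htT₀, hT₀le⟩ :=
    T.isBasis_affineOpens.exists_subset_of_mem_open
      (show t ∈ ((h ⁻¹ᵁ S₀ ⊓ Vt : T.Opens) : Set T) from ⟨hsS₀, htV⟩) (h ⁻¹ᵁ S₀ ⊓ Vt).2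
  have hT₀S : T₀ ≤ h ⁻¹ᵁ S₀ := fun z hz => (hT₀le hz).1
  have hT₀V : T₀ ≤ Vt := fun z hz => (hT₀le hz).2
  haveI : IsAffine ↑T₀ := hT₀
  haveI : IsAffine ↑S₀ := hS₀
  haveI hsep : IsSeparated (Scheme.Opens.ι T₀ ≫ h) := by
    rw [← Scheme.Hom.resLE_comp_ι h hT₀S]
    infer_instance
  set f : ((T₀ : T.Opens) : Scheme.{u}) ⟶ S := Scheme.Opens.ι T₀ ≫ h with hf
  have hx : f.QuasiFiniteAt ⟨t, htT₀⟩ := f.quasiFiniteAt ⟨t, htT₀⟩
  obtain ⟨U, gU, u, hét, hgu, hres, Vf, vf, hV⟩ :=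
    EtLocSch.exists_etale_nbhd_split f (h t) (fun _ : Unit => (⟨t, htT₀⟩ : (T₀ : Scheme.{u})))
      (fun _ => rfl) (fun _ => hx)
  obtain ⟨hvV, hfin, hvu, hvx, -, -, -⟩ := hV ()
  obtain ⟨V', hV'⟩ : ∃ V' : (pullback f gU).Opens, V' = Vf () := ⟨_, rfl⟩
  rw [← hV'] at hvV hfin
  obtain ⟨v, hvdef⟩ : ∃ v : V', v = ⟨vf (), hvV⟩ := ⟨_, rfl⟩
  have hv : pullback.fst f gU v.1 = ⟨t, htT₀⟩ := by rw [hvdef]; exact hvx
  haveI := hét
  haveI := hfin
  set π₀ : (V' : Scheme.{u}) ⟶ U := V'.ι ≫ pullback.snd f gU with hπ₀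
  set U' : U.Opens := ⟨Set.range π₀, π₀.isOpenMap.isOpen_range⟩ with hU'
  have hrange : Set.range π₀ ⊆ Set.range U'.ι := by
    rw [Scheme.Opens.range_ι]
    exact le_rfl
  set π : (V' : Scheme.{u}) ⟶ (U' : Scheme.{u}) := IsOpenImmersion.lift U'.ι π₀ hrange with hπ
  have hπfac : π ≫ U'.ι = π₀ := IsOpenImmersion.lift_fac _ _ _
  refine ⟨U', V', U'.ι ≫ gU, π, V'.ι ≫ pullback.fst f gU ≫ T.homOfLE hT₀V ≫ r,
    ⟨π₀ v, ⟨v, rfl⟩⟩, inferInstance, ?_, ?_, ?_, ?_, ?_, ?_, ?_⟩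
  · have h1 : (U'.ι ≫ gU) ⟨π₀ v, ⟨v, rfl⟩⟩ = gU (π₀ v) := Scheme.Hom.comp_apply _ _ _
    have h2 : gU (π₀ v) = f (pullback.fst f gU (V'.ι v)) := by
      have e1 : π₀ ≫ gU = V'.ι ≫ pullback.fst f gU ≫ f := by
        rw [hπ₀, Category.assoc, ← pullback.condition]
      have e2 := congrArg (fun m : (V' : Scheme.{u}) ⟶ S => m v) e1
      simpa only [Scheme.Hom.comp_apply] using e2
    have h3 : pullback.fst f gU (V'.ι v) = ⟨t, htT₀⟩ := hv
    rw [h1, h2, h3]
    rfl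
  · refine surjective_residueFieldMap_comp_openImm U'.ι gU _ u ?_ hres
    show π₀ v = u
    rw [hπ₀, Scheme.Hom.comp_apply, hvdef]
    exact hvu
  · refine ⟨fun u' => ?_⟩
    obtain ⟨w, hw⟩ : U'.ι u' ∈ Set.range π₀ := u'.2
    refine ⟨w, ?_⟩
    apply U'.ι.injective
    have : U'.ι (π w) = π₀ w := by
      rw [← Scheme.Hom.comp_apply, hπfac]
    rw [this, hw]
  · exact MorphismProperty.of_postcomp (W := @IsFinite) (W' := @IsOpenImmersion) π U'.ι
      inferInstance (by rw [hπfac]; infer_instance)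
  · exact MorphismProperty.of_postcomp (W := @Flat) (W' := @IsOpenImmersion) π U'.ι
      inferInstance (by rw [hπfac]; infer_instance)
  · exact MorphismProperty.of_postcomp (W := @LocallyOfFinitePresentation)
      (W' := @IsOpenImmersion) π U'.ι inferInstance (by rw [hπfac]; infer_instance)
  · simp only [Category.assoc]
    rw [hr, Scheme.homOfLE_ι_assoc]
    have e1 : Scheme.Opens.ι T₀ ≫ h = f := rfl
    rw [e1, pullback.condition, ← Category.assoc π, hπfac, hπ₀]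
    simp only [Category.assoc]


/-- Pointwise refinement of a flat lfp jointly surjective family by (residue-trivial étale) ∘
(finite flat surjective). -/
theorem exists_refinement_at {X : Scheme.{u}} {ι : Type u} (W : ι → Scheme.{u})
    (w : ∀ j, W j ⟶ X) (hfl : ∀ j, Flat (w j)) (hfp : ∀ j, LocallyOfFinitePresentation (w j))
    (x : X) (hx : ∃ j, x ∈ Set.range (w j)) :
    ∃ (U V : Scheme.{u}) (u : U ⟶ X) (v : V ⟶ U) (y : U) (j : ι) (r : V ⟶ W j), Etale u ∧
      u y = x ∧ IsIso (u.residueFieldMap y) ∧ IsFinite v ∧ Flat v ∧ Surjective v ∧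
      r ≫ w j = v ≫ u := by
  classical
  obtain ⟨j, x₀, hx₀⟩ := hx
  haveI := hfl j
  haveI := hfp j
  obtain ⟨g₀, hg₀⟩ : ∃ g₀ : W j ⟶ X, g₀ = w j := ⟨_, rfl⟩
  haveI : Flat g₀ := hg₀ ▸ hfl j
  haveI : LocallyOfFinitePresentation g₀ := hg₀ ▸ hfp j
  have hx₀' : g₀ x₀ = x := by rw [hg₀]; exact hx₀
  let O : X.Opens := ⟨Set.range g₀, g₀.isOpenMap.isOpen_range⟩
  have hrange : Set.range g₀ ⊆ Set.range O.ι := by
    rw [Scheme.Opens.range_ι]
    exact le_rfl
  let g : W j ⟶ (O : Scheme.{u}) := IsOpenImmersion.lift O.ι g₀ hrange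
  have hgfac : g ≫ O.ι = g₀ := IsOpenImmersion.lift_fac _ _ _
  haveI : Flat g := MorphismProperty.of_postcomp (W := @Flat) (W' := @IsOpenImmersion) g O.ι
    inferInstance (by rw [hgfac]; infer_instance)
  haveI : LocallyOfFinitePresentation g :=
    MorphismProperty.of_postcomp (W := @LocallyOfFinitePresentation) (W' := @IsOpenImmersion)
      g O.ι inferInstance (by rw [hgfac]; infer_instance)
  haveI : Surjective g := ⟨fun o => by
    obtain ⟨z, hz⟩ : O.ι o ∈ Set.range g₀ := o.2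
    refine ⟨z, O.ι.injective ?_⟩
    rw [← Scheme.Hom.comp_apply, hgfac, hz]⟩
  let xo : (O : Scheme.{u}) := ⟨x, ⟨x₀, hx₀'⟩⟩
  obtain ⟨S', V, e, π, r, s', he, hes', hres, hπs, hπf, hπfl, hπfp, hr⟩ :=
    exists_etale_triv_finite_flat_refinement g xo
  haveI := he
  refine ⟨S', V, e ≫ O.ι, π, s', j, r, inferInstance, ?_, ?_, hπf, hπfl, hπs, ?_⟩
  · rw [Scheme.Hom.comp_apply, hes']
    rfl
  · have hsurj : Function.Surjective ((e ≫ O.ι).residueFieldMap s').hom := by
      rw [Scheme.residueFieldMap_comp]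
      have hb : Function.Bijective (O.ι.residueFieldMap (e s')).hom :=
        (ConcreteCategory.isIso_iff_bijective _).mp inferInstance
      exact hres.comp hb.surjective
    exact (ConcreteCategory.isIso_iff_bijective _).mpr
      ⟨((e ≫ O.ι).residueFieldMap s').hom.injective, hsurj⟩
  · rw [← hg₀, ← hgfac, reassoc_of% hr]

end Groth.Agent.Lib.Helper8.FppfNis
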