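import Mathlib
import Groth.Agent.Lib.Helper8.FppfFin1
import Groth.Agent.Lib.Helper8.EtSplitSch
import Groth.Agent.Lib.Helper14.QFRefine

/-!
# Refinement of an fppf covering by a Zariski / finite locally free tower (Stacks 05WN)
-/

set_option autoImplicit false
set_option linter.style.haveILetI false
universe w u

open CategoryTheory CategoryTheory.Limits AlgebraicGeometry TopologicalSpace Opposite

namespace Groth.Agent.Lib.Helper8.FppfTower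

open Groth.Agent.Lib.Helper14 Groth.Agent.Lib.Helper14.QFRefine Groth.Agent.Lib.Helper8

-- Variant of helper14's `exists_etale_finite_flat_refinement` keeping the global factorization
-- (same proof).
set_option backward.isDefEq.respectTransparency.types false in
theorem exists_etale_finite_flat_refinement' {S₁ S : Scheme.{u}} (g : S₁ ⟶ S) [Flat g]
    [LocallyOfFinitePresentation g] [Surjective g] (s : S) :
    ∃ (S' V : Scheme.{u}) (e : S' ⟶ S) (π : V ⟶ S') (r : V ⟶ S₁), Etale e ∧ s ∈ Set.range ⇑e ∧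
      Surjective π ∧ IsFinite π ∧ Flat π ∧ LocallyOfFinitePresentation π ∧
      r ≫ g = π ≫ e := by
  obtain ⟨T, h, hfl, hfp, hqf, hsurj, hfac⟩ := exists_quasiFinite_refinement g
  obtain ⟨t, rfl⟩ := h.surjective s
  obtain ⟨Vt, r, htV, hr⟩ := hfac t
  obtain ⟨_, ⟨S₀, hS₀, rfl⟩, hsS₀, -⟩ :=
    S.isBasis_affineOpens.exists_subset_of_mem_open (Set.mem_univ (h t)) isOpen_univ
  obtain ⟨_, ⟨T₀, hT₀, rfl⟩, htT₀, hT₀le⟩ :=
    T.isBasis_affineOpens.exists_subset_of_mem_open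
      (show t ∈ ((h ⁻¹ᵁ S₀ ⊓ Vt : T.Opens) : Set T) from ⟨hsS₀, htV⟩) (h ⁻¹ᵁ S₀ ⊓ Vt).2
  have hT₀S : T₀ ≤ h ⁻¹ᵁ S₀ := fun z hz => (hT₀le hz).1
  have hT₀V : T₀ ≤ Vt := fun z hz => (hT₀le hz).2
  haveI : IsAffine ↑T₀ := hT₀
  haveI : IsAffine ↑S₀ := hS₀
  haveI hsep : IsSeparated (Scheme.Opens.ι T₀ ≫ h) := by
    rw [← Scheme.Hom.resLE_comp_ι h hT₀S]
    infer_instance
  set f : ((T₀ : T.Opens) : Scheme.{u}) ⟶ S := Scheme.Opens.ι T₀ ≫ h with hf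
  have hx : f.QuasiFiniteAt ⟨t, htT₀⟩ := f.quasiFiniteAt ⟨t, htT₀⟩
  obtain ⟨U, gU, hét, -, V', W', v, -, hfin, hv⟩ :=
    exists_etale_isCompl_of_quasiFiniteAt f (x := ⟨t, htT₀⟩) (s := h t) rfl hx
  haveI := hét
  haveI := hfin
  set π₀ : (V' : Scheme.{u}) ⟶ U := V'.ι ≫ pullback.snd f gU with hπ₀
  set U' : U.Opens := ⟨Set.range π₀, π₀.isOpenMap.isOpen_range⟩ with hU'
  have hrange : Set.range π₀ ⊆ Set.range U'.ι := by
    rw [Scheme.Opens.range_ι]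
    exact le_rfl
  set π : (V' : Scheme.{u}) ⟶ (U' : Scheme.{u}) := IsOpenImmersion.lift U'.ι π₀ hrange with hπ
  have hπfac : π ≫ U'.ι = π₀ := IsOpenImmersion.lift_fac _ _ _
  refine ⟨U', V', U'.ι ≫ gU, π, V'.ι ≫ pullback.fst f gU ≫ T.homOfLE hT₀V ≫ r,
    inferInstance, ?_, ?_, ?_, ?_, ?_, ?_⟩
  · refine ⟨⟨π₀ v, ⟨v, rfl⟩⟩, ?_⟩
    have h1 : (U'.ι ≫ gU) ⟨π₀ v, ⟨v, rfl⟩⟩ = gU (π₀ v) := Scheme.Hom.comp_apply _ _ _
    have h2 : gU (π₀ v) = f (pullback.fst f gU (V'.ι v)) := by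
      have e1 : π₀ ≫ gU = V'.ι ≫ pullback.fst f gU ≫ f := by
        rw [hπ₀, Category.assoc, ← pullback.condition]
      have e2 := congrArg (fun m : (V' : Scheme.{u}) ⟶ S => m v) e1
      simpa only [Scheme.Hom.comp_apply] using e2
    have h3 : pullback.fst f gU (V'.ι v) = ⟨t, htT₀⟩ := hv
    rw [h1, h2, h3]
    rfl
  · refine ⟨fun u' => ?_⟩
    obtain ⟨w, hw⟩ : U'.ι u' ∈ Set.range π₀ := u'.2
    refine ⟨w, ?_⟩
    apply U'.ι.injective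
    have : U'.ι (π w) = π₀ w := by
      rw [← Scheme.Hom.comp_apply, hπfac]
    rw [this, hw]
  · exact MorphismProperty.of_postcomp (W := @IsFinite) (W' := @IsOpenImmersion) π U'.ι
      inferInstance (by rw [hπfac]; infer_instance)
  · exact MorphismProperty.of_postcomp (W := @Flat) (W' := @IsOpenImmersion) π U'.ι
      inferInstance (by rw [hπfac]; infer_instance)
  · exact MorphismProperty.of_postcomp (W := @LocallyOfFinitePresentation)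
      (W' := @IsOpenImmersion) π U'.ι inferInstance (by rw [hπfac]; infer_instance)
  · simp only [Category.assoc]
    rw [hr, Scheme.homOfLE_ι_assoc]
    have e1 : Scheme.Opens.ι T₀ ≫ h = f := rfl
    rw [e1, pullback.condition, ← Category.assoc π, hπfac, hπ₀]
    simp only [Category.assoc]


set_option maxHeartbeats 800000 in
/-- The tower in "scheme + open immersion" form. -/
theorem tower {S : Scheme.{u}} (E : PreZeroHypercover.{w} S)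
    (hflat : ∀ i, Flat (E.f i)) (hfp : ∀ i, LocallyOfFinitePresentation (E.f i))
    (hsurj : ∀ s : S, ∃ (i : E.I₀) (x : E.X i), E.f i x = s) (s : S) :
    ∃ (N : Scheme.{u}) (j : N ⟶ S) (W : Scheme.{u}) (π : W ⟶ N), IsOpenImmersion j ∧
      s ∈ Set.range j ∧ IsFinite π ∧ Flat π ∧ LocallyOfFinitePresentation π ∧ Surjective π ∧
      ∀ w : W, ∃ (W' : Scheme.{u}) (j' : W' ⟶ W) (T : Scheme.{u}) (ρ : T ⟶ W') (i : E.I₀)
        (r : T ⟶ E.X i), IsOpenImmersion j' ∧ w ∈ Set.range j' ∧ IsFinite ρ ∧ Flat ρ ∧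
        LocallyOfFinitePresentation ρ ∧ Surjective ρ ∧ r ≫ E.f i = ρ ≫ j' ≫ π ≫ j := by
  classical
  obtain ⟨i₀, x₀, hx₀⟩ := hsurj s
  haveI := hflat i₀
  haveI := hfp i₀
  obtain ⟨g₀, hg₀⟩ : ∃ g₀ : E.X i₀ ⟶ S, g₀ = E.f i₀ := ⟨_, rfl⟩
  haveI : Flat g₀ := hg₀ ▸ hflat i₀
  haveI : LocallyOfFinitePresentation g₀ := hg₀ ▸ hfp i₀
  have hx₀' : g₀ x₀ = s := by rw [hg₀]; exact hx₀
  let O : S.Opens := ⟨Set.range g₀, g₀.isOpenMap.isOpen_range⟩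
  have hrange : Set.range g₀ ⊆ Set.range O.ι := by
    rw [Scheme.Opens.range_ι]
    exact le_rfl
  let g : E.X i₀ ⟶ (O : Scheme.{u}) := IsOpenImmersion.lift O.ι g₀ hrange
  have hgfac : g ≫ O.ι = g₀ := IsOpenImmersion.lift_fac _ _ _
  haveI : Flat g := MorphismProperty.of_postcomp (W := @Flat) (W' := @IsOpenImmersion) g O.ι
    inferInstance (by rw [hgfac]; infer_instance)
  haveI : LocallyOfFinitePresentation g :=
    MorphismProperty.of_postcomp (W := @LocallyOfFinitePresentation) (W' := @IsOpenImmersion)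
      g O.ι inferInstance (by rw [hgfac]; infer_instance)
  haveI : Surjective g := ⟨fun o => by
    obtain ⟨x, hx⟩ : O.ι o ∈ Set.range g₀ := o.2
    refine ⟨x, O.ι.injective ?_⟩
    rw [← Scheme.Hom.comp_apply, hgfac, hx]⟩
  let so : (O : Scheme.{u}) := ⟨s, ⟨x₀, hx₀'⟩⟩
  obtain ⟨S', V, e, π₁, r₁, he, ⟨s', hs'⟩, hπ₁s, hπ₁f, hπ₁fl, hπ₁fp, hr₁⟩ :=
    exists_etale_finite_flat_refinement' g so
  haveI := he
  haveI := hπ₁s
  haveI := hπ₁f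
  haveI := hπ₁fl
  haveI := hπ₁fp
  have hs'' : (e ≫ O.ι) s' = s := by
    rw [Scheme.Hom.comp_apply, hs']
    rfl
  obtain ⟨N₀, T, π₂, hsN₀, hN₀aff, hπ₂s, hπ₂f, hπ₂fl, hπ₂fp, hloc⟩ :=
    EtSplitSch.exists_finite_flat_dominating (e ≫ O.ι) s' s hs''
  haveI := hπ₂s
  haveI := hπ₂f
  haveI := hπ₂fl
  haveI := hπ₂fp
  let n₀ : (N₀ : Scheme.{u}) := ⟨s, hsN₀⟩
  have hdata : ∀ t : (π₂ ⁻¹' {n₀} : Set T), ∃ (Wt : T.Opens)
      (h : (Wt : Scheme.{u}) ⟶ S'), (t : T) ∈ Wt ∧ h ≫ e ≫ O.ι = Wt.ι ≫ π₂ ≫ N₀.ι := by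
    intro t
    have ht : N₀.ι (π₂ t) = s := by
      have : π₂ t = n₀ := t.2
      rw [this]
      rfl
    obtain ⟨Wt, h, htW, hh, -⟩ := hloc t ht
    exact ⟨Wt, h, htW, hh⟩
  choose Wt h htW hh using hdata
  let C : Set T := (⋃ t, (Wt t : Set T))ᶜ
  have hC : IsClosed C := (isOpen_iUnion fun t => (Wt t).2).isClosed_compl
  have hCim : IsClosed (π₂ '' C) := π₂.isClosedMap _ hC
  have hn₀C : n₀ ∈ (π₂ '' C)ᶜ := by
    rintro ⟨c, hc, hcn⟩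
    exact hc (Set.mem_iUnion.mpr ⟨⟨c, hcn⟩, htW ⟨c, hcn⟩⟩)
  let N₂ : (N₀ : Scheme.{u}).Opens := ⟨(π₂ '' C)ᶜ, hCim.isOpen_compl⟩
  have hfin₂ : IsFinite (π₂ ∣_ N₂) := IsZariskiLocalAtTarget.restrict ‹IsFinite π₂› N₂
  have hfl₂ : Flat (π₂ ∣_ N₂) := IsZariskiLocalAtTarget.restrict ‹Flat π₂› N₂
  have hfp₂ : LocallyOfFinitePresentation (π₂ ∣_ N₂) :=
    IsZariskiLocalAtTarget.restrict ‹LocallyOfFinitePresentation π₂› N₂
  have hsurj₂ : Surjective (π₂ ∣_ N₂) := IsZariskiLocalAtTarget.restrict ‹Surjective π₂› N₂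
  have hπι : (π₂ ∣_ N₂) ≫ N₂.ι = (π₂ ⁻¹ᵁ N₂).ι ≫ π₂ := morphismRestrict_ι _ _
  refine ⟨N₂, N₂.ι ≫ N₀.ι, (π₂ ⁻¹ᵁ N₂ : T.Opens), π₂ ∣_ N₂, inferInstance, ?_, hfin₂, hfl₂, hfp₂,
    hsurj₂, fun w => ?_⟩
  · refine ⟨⟨n₀, hn₀C⟩, ?_⟩
    rw [Scheme.Hom.comp_apply]
    rfl
  · have hw1 : π₂ ((π₂ ⁻¹ᵁ N₂).ι w) ∈ (π₂ '' C)ᶜ := w.2
    have hw2 : (π₂ ⁻¹ᵁ N₂).ι w ∉ C := fun hc => hw1 ⟨_, hc, rfl⟩
    obtain ⟨t, ht⟩ := Set.mem_iUnion.mp (not_not.mp hw2)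
    let W' : ((π₂ ⁻¹ᵁ N₂ : T.Opens) : Scheme.{u}).Opens := (π₂ ⁻¹ᵁ N₂).ι ⁻¹ᵁ Wt t
    let q : (W' : Scheme.{u}) ⟶ (Wt t : Scheme.{u}) := (π₂ ⁻¹ᵁ N₂).ι.resLE (Wt t) W' le_rfl
    have hq : q ≫ (Wt t).ι = W'.ι ≫ (π₂ ⁻¹ᵁ N₂).ι := Scheme.Hom.resLE_comp_ι _ _
    let h' : (W' : Scheme.{u}) ⟶ S' := q ≫ h t
    have hh' : h' ≫ e ≫ O.ι = W'.ι ≫ (π₂ ∣_ N₂) ≫ N₂.ι ≫ N₀.ι := by
      simp only [h', Category.assoc]
      rw [hh t, reassoc_of% hq, reassoc_of% hπι]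
    refine ⟨W', W'.ι, pullback π₁ h', pullback.snd π₁ h', i₀, pullback.fst π₁ h' ≫ r₁,
      inferInstance, ?_, inferInstance, inferInstance, inferInstance,
      inferInstance, ?_⟩
    · rw [Scheme.Opens.range_ι]
      exact ht
    · rw [← hg₀, ← hgfac]
      simp only [Category.assoc]
      rw [reassoc_of% hr₁, pullback.condition_assoc, hh']

end Groth.Agent.Lib.Helper8.FppfTower
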