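import Mathlib

set_option autoImplicit false
set_option linter.style.haveILetI false
universe u v

open TensorProduct

namespace Groth.Agent.Lib.Helper8

section Nakayama

variable {R : Type*} {M : Type*} [CommRing R] [AddCommGroup M] [Module R M]

/-- Nakayama for nilpotent ideals, no finiteness: `K ≤ I • K` forces `K = ⊥`. -/
theorem eq_bot_of_le_smul_of_isNilpotent (I : Ideal R) (hI : IsNilpotent I) (K : Submodule R M)
    (h : K ≤ I • K) : K = ⊥ := by
  obtain ⟨n, hn⟩ := hI
  have key : ∀ k : ℕ, K ≤ I ^ k • K := by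
    intro k
    induction k with
    | zero => rw [pow_zero, Ideal.one_eq_top, Submodule.top_smul]
    | succ k ih =>
      calc K ≤ I • K := h
        _ ≤ I • (I ^ k • K) := Submodule.smul_mono le_rfl ih
        _ = I ^ (k + 1) • K := by rw [← Submodule.mul_smul, ← pow_succ']
  have h2 := key n
  rw [hn, Ideal.zero_eq_bot, Submodule.bot_smul] at h2
  exact eq_bot_iff.mpr h2

/-- Nakayama for nilpotent ideals, no finiteness: `N + I M = M` forces `N = M`. -/
theorem eq_top_of_sup_smul_top_of_isNilpotent (I : Ideal R) (hI : IsNilpotent I)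
    (N : Submodule R M) (h : N ⊔ I • (⊤ : Submodule R M) = ⊤) : N = ⊤ := by
  obtain ⟨n, hn⟩ := hI
  have key : ∀ k : ℕ, N ⊔ I ^ k • (⊤ : Submodule R M) = ⊤ := by
    intro k
    induction k with
    | zero => rw [pow_zero, Ideal.one_eq_top, Submodule.top_smul, sup_top_eq]
    | succ k ih =>
      rw [eq_top_iff]
      calc (⊤ : Submodule R M) = N ⊔ I • (⊤ : Submodule R M) := h.symm
        _ = N ⊔ I • (N ⊔ I ^ k • (⊤ : Submodule R M)) := by rw [ih]
        _ = N ⊔ (I • N ⊔ I • (I ^ k • (⊤ : Submodule R M))) := by rw [Submodule.smul_sup]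
        _ ≤ N ⊔ I ^ (k + 1) • (⊤ : Submodule R M) := by
          rw [← Submodule.mul_smul, ← pow_succ']
          exact sup_le le_sup_left
            (sup_le (le_trans Submodule.smul_le_right le_sup_left) le_sup_right)
  have h2 := key n
  rw [hn, Ideal.zero_eq_bot, Submodule.bot_smul, sup_bot_eq] at h2
  exact h2

end Nakayama

/-- Key flatness step: for a surjection `π` from a free module onto a flat module whose kernel has
all coordinates in `I`, one has `ker π ≤ I • ker π`. -/
theorem ker_le_smul_ker_of_flat {R : Type*} {P : Type*} {Fr : Type*} {ι : Type*} [CommRing R]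
    [AddCommGroup P] [Module R P] [Module.Flat R P] [AddCommGroup Fr] [Module R Fr]
    (e : Module.Basis ι R Fr) (π : Fr →ₗ[R] P) (hπ : Function.Surjective π)
    (I : Ideal R) (hI : ∀ z ∈ LinearMap.ker π, ∀ i, e.repr z i ∈ I) :
    LinearMap.ker π ≤ I • LinearMap.ker π := by
  classical
  intro z hz
  have hz_sum : z = ∑ i ∈ (e.repr z).support, e.repr z i • e i := by
    conv_lhs => rw [← e.linearCombination_repr z]
    rw [Finsupp.linearCombination_apply, Finsupp.sum]
  have hrel : ∑ i : (e.repr z).support, e.repr z i • π (e i) = 0 := by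
    have h0 : π z = 0 := hz
    rw [hz_sum, map_sum] at h0
    simp only [map_smul] at h0
    rw [Finset.sum_coe_sort (e.repr z).support (fun i => e.repr z i • π (e i))]
    exact h0
  obtain ⟨k, a, y, hy, ha⟩ := Module.Flat.isTrivialRelation_of_sum_smul_eq_zero hrel
  choose y' hy' using fun j => hπ (y j)
  let κ : (e.repr z).support → Fr := fun i => e i - ∑ j, a i j • y' j
  have hκ : ∀ i, κ i ∈ LinearMap.ker π := by
    intro i
    simp only [κ, LinearMap.mem_ker, map_sub, map_sum, map_smul, hy', ← hy i, sub_self]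
  have h3 : ∑ i : (e.repr z).support, e.repr z i • ∑ j, a i j • y' j = 0 := by
    simp_rw [Finset.smul_sum, smul_smul]
    rw [Finset.sum_comm]
    apply Finset.sum_eq_zero
    intro j _
    rw [← Finset.sum_smul, ha j, zero_smul]
  have hz2 : z = ∑ i : (e.repr z).support, e.repr z i • κ i := by
    calc z = ∑ i : (e.repr z).support, e.repr z i • e i := by
          rw [Finset.sum_coe_sort (e.repr z).support (fun i => e.repr z i • e i)]
          exact hz_sum
      _ = ∑ i : (e.repr z).support, e.repr z i • κ i +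
            ∑ i : (e.repr z).support, e.repr z i • ∑ j, a i j • y' j := by
          rw [← Finset.sum_add_distrib]
          refine Finset.sum_congr rfl fun i _ => ?_
          simp only [κ, smul_sub, sub_add_cancel]
      _ = ∑ i : (e.repr z).support, e.repr z i • κ i := by rw [h3, add_zero]
  rw [hz2]
  exact Submodule.sum_mem _ fun i _ => Submodule.smul_mem_smul (hI z hz i) (hκ i)

end Groth.Agent.Lib.Helper8

namespace Groth.Agent.Lib.Helper8

section Core

variable {A : Type u} [CommRing A] {M : Type u} [AddCommGroup M] [Module A M] {J : Ideal A}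
  {ι : Type*} (b : Module.Basis ι (A ⧸ J) ((A ⧸ J) ⊗[A] M)) (x : ι → M)
  (hx : ∀ i, (1 : A ⧸ J) ⊗ₜ[A] x i = b i)

include hx in
/-- compatibility of the presentation with the basis mod `J`. -/
theorem mk_comp_linearCombination :
    (TensorProduct.mk A (A ⧸ J) M 1) ∘ₗ (Finsupp.linearCombination A x) =
      (b.repr.symm.toLinearMap.restrictScalars A) ∘ₗ
        (Finsupp.mapRange.linearMap (Algebra.linearMap A (A ⧸ J))) := by
  apply Finsupp.lhom_ext'
  intro i
  apply LinearMap.ext_ring
  simp only [LinearMap.coe_comp, Function.comp_apply, Finsupp.lsingle_apply,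
    Finsupp.linearCombination_single, one_smul, TensorProduct.mk_apply,
    LinearMap.coe_restrictScalars, LinearEquiv.coe_coe, Finsupp.mapRange.linearMap_apply,
    Finsupp.mapRange_single, Algebra.linearMap_apply, map_one, Module.Basis.repr_symm_single_one]
  exact hx i

include hx in
/-- The lifted family generates `M` when `J` is nilpotent. -/
theorem linearCombination_surjective (hJ : IsNilpotent J) :
    Function.Surjective (Finsupp.linearCombination A x) := by
  rw [← LinearMap.range_eq_top]
  apply eq_top_of_sup_smul_top_of_isNilpotent J hJ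
  rw [eq_top_iff]
  intro m _
  obtain ⟨c, hc⟩ := Finsupp.mapRange_surjective (Ideal.Quotient.mk J) (map_zero _)
    Ideal.Quotient.mk_surjective (b.repr ((1 : A ⧸ J) ⊗ₜ[A] m))
  have h1 : (1 : A ⧸ J) ⊗ₜ[A] (Finsupp.linearCombination A x c) = (1 : A ⧸ J) ⊗ₜ[A] m := by
    have h2 := congrArg (fun L => L c) (mk_comp_linearCombination b x hx)
    simp only [LinearMap.coe_comp, Function.comp_apply, TensorProduct.mk_apply,
      LinearMap.coe_restrictScalars, LinearEquiv.coe_coe, Finsupp.mapRange.linearMap_apply] at h2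
    rw [h2]
    have h3 : Finsupp.mapRange (⇑(Algebra.linearMap A (A ⧸ J))) (map_zero _) c =
        b.repr ((1 : A ⧸ J) ⊗ₜ[A] m) := hc
    rw [h3, LinearEquiv.symm_apply_apply]
  have h4 : m - Finsupp.linearCombination A x c ∈ J • (⊤ : Submodule A M) := by
    have h5 : (1 : A ⧸ J) ⊗ₜ[A] (m - Finsupp.linearCombination A x c) = 0 := by
      rw [TensorProduct.tmul_sub, h1, sub_self]
    have h6 := congrArg (TensorProduct.quotTensorEquivQuotSMul M J) h5
    rw [TensorProduct.quotTensorEquivQuotSMul_mk_one_tmul, map_zero,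
      Submodule.Quotient.mk_eq_zero] at h6
    exact h6
  have h7 : m = Finsupp.linearCombination A x c + (m - Finsupp.linearCombination A x c) := by abel
  rw [h7]
  exact Submodule.add_mem_sup (LinearMap.mem_range_self _ c) h4

/-- coordinate functionals `M → A/J` dual to the lifted family. -/
noncomputable def coordFun (i : ι) : M →ₗ[A] (A ⧸ J) :=
  ((b.coord i).restrictScalars A) ∘ₗ (TensorProduct.mk A (A ⧸ J) M 1)

include hx in
theorem coordFun_apply (i j : ι) : coordFun b i (x j) = (Finsupp.single j (1 : A ⧸ J)) i := by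
  simp only [coordFun, LinearMap.coe_comp, Function.comp_apply, TensorProduct.mk_apply,
    LinearMap.coe_restrictScalars, Module.Basis.coord_apply, hx j, Module.Basis.repr_self]

end Core

end Groth.Agent.Lib.Helper8

namespace Groth.Agent.Lib.Helper8

section BaseChange

variable {A : Type u} [CommRing A] {M : Type u} [AddCommGroup M] [Module A M] {J : Ideal A}
  {ι : Type*} (b : Module.Basis ι (A ⧸ J) ((A ⧸ J) ⊗[A] M)) (x : ι → M)
  (hx : ∀ i, (1 : A ⧸ J) ⊗ₜ[A] x i = b i)
  (A' : Type v) [CommRing A'] [Algebra A A']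

/-- the base-changed basis of `A' ⊗ (ι →₀ A)` -/
noncomputable def bcBasis (ι : Type*) (A : Type u) [CommRing A] (A' : Type v) [CommRing A']
    [Algebra A A'] : Module.Basis ι A' (A' ⊗[A] (ι →₀ A)) :=
  (Finsupp.basisSingleOne (R := A) (ι := ι)).baseChange A'

theorem bcBasis_apply (i : ι) :
    bcBasis ι A A' i = (1 : A') ⊗ₜ[A] (Finsupp.single i (1 : A)) := by
  simp only [bcBasis, Module.Basis.baseChange_apply, Finsupp.coe_basisSingleOne]

theorem bcBasis_repr_tmul (a' : A') (k : ι →₀ A) (i : ι) :
    (bcBasis ι A A').repr (a' ⊗ₜ[A] k) i = k i • a' := by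
  simp only [bcBasis, Module.Basis.baseChange_repr_tmul, Finsupp.basisSingleOne_repr,
    LinearEquiv.refl_apply]

include hx in
/-- the coordinates of elements of the kernel of the base-changed presentation lie in `J A'`. -/
theorem repr_mem_map_of_mem_ker (z : A' ⊗[A] (ι →₀ A))
    (hz : z ∈ LinearMap.ker ((Finsupp.linearCombination A x).baseChange A')) (i : ι) :
    (bcBasis ι A A').repr z i ∈ J.map (algebraMap A A') := by
  classical
  let L1 : A' ⊗[A] (ι →₀ A) →ₗ[A'] A' ⊗[A] (A ⧸ J) :=
    (coordFun b i).baseChange A' ∘ₗ (Finsupp.linearCombination A x).baseChange A'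
  let L2 : A' ⊗[A] (ι →₀ A) →ₗ[A'] A' ⊗[A] (A ⧸ J) :=
    (LinearMap.toSpanSingleton A' (A' ⊗[A] (A ⧸ J)) ((1 : A') ⊗ₜ[A] (1 : A ⧸ J))) ∘ₗ
      (Finsupp.lapply i) ∘ₗ (bcBasis ι A A').repr.toLinearMap
  have hL : L1 = L2 := by
    apply (bcBasis ι A A').ext
    intro j
    simp only [L1, L2, LinearMap.coe_comp, Function.comp_apply, LinearEquiv.coe_coe,
      Module.Basis.repr_self, Finsupp.lapply_apply, LinearMap.toSpanSingleton_apply]
    rw [bcBasis_apply, LinearMap.baseChange_tmul, LinearMap.baseChange_tmul,
      Finsupp.linearCombination_single, one_smul, coordFun_apply b x hx]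
    by_cases hij : j = i
    · subst hij
      simp only [Finsupp.single_eq_same, one_smul]
    · simp only [Finsupp.single_eq_of_ne' hij, zero_smul, TensorProduct.tmul_zero]
  have h0 : L2 z = 0 := by
    rw [← hL]
    simp only [L1, LinearMap.coe_comp, Function.comp_apply]
    rw [LinearMap.mem_ker.mp hz, map_zero]
  simp only [L2, LinearMap.coe_comp, Function.comp_apply, LinearEquiv.coe_coe,
    Finsupp.lapply_apply, LinearMap.toSpanSingleton_apply] at h0
  rw [TensorProduct.smul_tmul', smul_eq_mul, mul_one] at h0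
  have h1 := congrArg (TensorProduct.tensorQuotEquivQuotSMul A' J) h0
  rw [← map_one (Ideal.Quotient.mk J), TensorProduct.tensorQuotEquivQuotSMul_tmul_mk, map_zero,
    Submodule.Quotient.mk_eq_zero, one_smul] at h1
  have hle : J • (⊤ : Submodule A A') ≤ (J.map (algebraMap A A')).restrictScalars A := by
    rw [Submodule.smul_le]
    intro r hr n _
    change r • n ∈ J.map (algebraMap A A')
    rw [Algebra.smul_def]
    exact Ideal.mul_mem_right _ _ (Ideal.mem_map_of_mem _ hr)
  exact hle h1

theorem baseChange_surjective (hsurj : Function.Surjective (Finsupp.linearCombination A x)) :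
    Function.Surjective ((Finsupp.linearCombination A x).baseChange A') := by
  rw [LinearMap.baseChange_eq_ltensor]
  exact LinearMap.lTensor_surjective A' hsurj

include hx in
/-- If the base change is flat, the base-changed presentation is injective. -/
theorem ker_baseChange_eq_bot_of_flat (hJ : IsNilpotent J)
    (hsurj : Function.Surjective (Finsupp.linearCombination A x))
    [Module.Flat A' (A' ⊗[A] M)] :
    LinearMap.ker ((Finsupp.linearCombination A x).baseChange A') = ⊥ := by
  have hnil : IsNilpotent (J.map (algebraMap A A')) := by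
    obtain ⟨n, hn⟩ := hJ
    refine ⟨n, ?_⟩
    rw [← Ideal.map_pow, hn, Ideal.zero_eq_bot, Ideal.map_bot]
    rfl
  apply eq_bot_of_le_smul_of_isNilpotent (J.map (algebraMap A A')) hnil
  exact ker_le_smul_ker_of_flat (bcBasis ι A A') _ (baseChange_surjective x A' hsurj) _
    (fun z hz i => repr_mem_map_of_mem_ker b x hx A' z hz i)

/-- the ideal generated by all coordinates of all relations -/
def relIdeal (x : ι → M) : Ideal A :=
  Ideal.span {a | ∃ k ∈ LinearMap.ker (Finsupp.linearCombination A x), ∃ i, k i = a}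

theorem map_relIdeal_eq_bot_of_ker_eq_bot
    (h : LinearMap.ker ((Finsupp.linearCombination A x).baseChange A') = ⊥) :
    (relIdeal x).map (algebraMap A A') = ⊥ := by
  rw [relIdeal, Ideal.map_span, eq_bot_iff, Ideal.span_le]
  rintro _ ⟨_, ⟨k, hk, i, rfl⟩, rfl⟩
  have hz : ((1 : A') ⊗ₜ[A] k) ∈ LinearMap.ker ((Finsupp.linearCombination A x).baseChange A') := by
    rw [LinearMap.mem_ker, LinearMap.baseChange_tmul, LinearMap.mem_ker.mp hk,
      TensorProduct.tmul_zero]
  rw [h, Submodule.mem_bot] at hz
  have h2 := bcBasis_repr_tmul (ι := ι) (A := A) A' (1 : A') k i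
  rw [hz, map_zero, Finsupp.zero_apply] at h2
  change algebraMap A A' (k i) = 0
  rw [Algebra.algebraMap_eq_smul_one]
  exact h2.symm

theorem baseChange_injective_of_map_relIdeal_eq_bot
    (hsurj : Function.Surjective (Finsupp.linearCombination A x))
    (h : (relIdeal x).map (algebraMap A A') = ⊥) :
    Function.Injective ((Finsupp.linearCombination A x).baseChange A') := by
  have hex := lTensor_exact (R := A) (M := LinearMap.ker (Finsupp.linearCombination A x))
    (N := ι →₀ A) (P := M)
    (f := (LinearMap.ker (Finsupp.linearCombination A x)).subtype)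
    (g := Finsupp.linearCombination A x) A'
    (LinearMap.exact_subtype_ker_map (Finsupp.linearCombination A x)) hsurj
  have hzero : (LinearMap.ker (Finsupp.linearCombination A x)).subtype.lTensor A' = 0 := by
    apply TensorProduct.ext'
    intro a' k
    simp only [LinearMap.lTensor_tmul, Submodule.subtype_apply, LinearMap.zero_apply]
    apply (bcBasis ι A A').repr.injective
    ext i
    rw [bcBasis_repr_tmul, map_zero, Finsupp.zero_apply, Algebra.smul_def]
    have : algebraMap A A' ((k : ι →₀ A) i) ∈ (relIdeal x).map (algebraMap A A') :=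
      Ideal.mem_map_of_mem _ (Ideal.subset_span ⟨k, k.2, i, rfl⟩)
    rw [h, Ideal.mem_bot] at this
    rw [this, zero_mul]
  rw [injective_iff_map_eq_zero]
  intro z hz
  rw [LinearMap.baseChange_eq_ltensor] at hz
  obtain ⟨w, hw⟩ := (hex z).mp hz
  rw [hzero, LinearMap.zero_apply] at hw
  exact hw.symm

end BaseChange

end Groth.Agent.Lib.Helper8

namespace Groth.Agent.Lib.Helper8

/-- The universal ideal of freeness/flatness (EGA IV 11.4.1 style): if `M/JM` is free over `A/J`
for a nilpotent ideal `J`, there is an ideal `R₀` such that for every `A`-algebra `A'`,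
flatness of `A' ⊗ M` forces `R₀ A' = 0`, which forces freeness of `A' ⊗ M`. -/
theorem exists_ideal_flat_free {A : Type u} [CommRing A] (M : Type u) [AddCommGroup M] [Module A M]
    (J : Ideal A) (hJ : IsNilpotent J) (hfree : Module.Free (A ⧸ J) ((A ⧸ J) ⊗[A] M)) :
    ∃ R₀ : Ideal A, ∀ (A' : Type v) [CommRing A'] [Algebra A A'],
      (Module.Flat A' (A' ⊗[A] M) → R₀.map (algebraMap A A') = ⊥) ∧
      (R₀.map (algebraMap A A') = ⊥ → Module.Free A' (A' ⊗[A] M)) := by
  let b := Module.Free.chooseBasis (A ⧸ J) ((A ⧸ J) ⊗[A] M)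
  have hT : Function.Surjective (TensorProduct.mk A (A ⧸ J) M 1) :=
    TensorProduct.mk_surjective A M (A ⧸ J) Ideal.Quotient.mk_surjective
  choose x hx using fun i => hT (b i)
  have hx' : ∀ i, (1 : A ⧸ J) ⊗ₜ[A] x i = b i := hx
  have hsurj := linearCombination_surjective b x hx' hJ
  refine ⟨relIdeal x, fun A' _ _ => ⟨fun hflat => ?_, fun hmap => ?_⟩⟩
  · exact map_relIdeal_eq_bot_of_ker_eq_bot x A'
      (ker_baseChange_eq_bot_of_flat b x hx' A' hJ hsurj)
  · have hinj := baseChange_injective_of_map_relIdeal_eq_bot x A' hsurj hmap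
    have hsurj' := baseChange_surjective x A' hsurj
    haveI : Module.Free A' (A' ⊗[A] (Module.Free.ChooseBasisIndex (A ⧸ J) ((A ⧸ J) ⊗[A] M) →₀ A)) :=
      Module.Free.of_basis (bcBasis _ A A')
    exact Module.Free.of_equiv (LinearEquiv.ofBijective _ ⟨hinj, hsurj'⟩)

end Groth.Agent.Lib.Helper8
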