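import Mathlib
import Groth.Prelude
import Groth.Agent.Lib.Helper8.NormBCEss

/-!
# S16450, forward direction (abstract ambient ring)
-/

set_option autoImplicit false
set_option linter.style.haveILetI false
set_option linter.unusedSectionVars false

open IsLocalRing TensorProduct

universe u

namespace Groth.Agent.Lib.Helper8.Fwd16450

open Groth.Agent.Lib.Helper8.NormBC

/-- The base change of an artinian reduced algebra to an essentially étale local algebra has zero
Jacobson radical. -/
theorem jacobson_bot_tensor_essEtale (A E B : Type u) [CommRing A] [IsLocalRing A] [CommRing E]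
    [CommRing B] [Algebra A E] [Algebra A B] (hE : EGA4loc.IsEssentiallyEtale A E)
    [IsArtinianRing B] [IsReduced B] :
    Ideal.jacobson (⊥ : Ideal (B ⊗[A] E)) = ⊥ := by
  classical
  obtain ⟨C₀, _, _, algCE, _, q, _, hCet, hloc⟩ := EssEtUtil.exists_isLocalization A E hE
  haveI := hCet
  haveI := hloc
  haveI : Algebra.QuasiFinite B (B ⊗[A] C₀) := inferInstance
  haveI : Module.Finite B (B ⊗[A] C₀) := Module.Finite.of_quasiFinite
  haveI : IsArtinianRing (B ⊗[A] C₀) := IsArtinianRing.of_finite B _
  haveI : Algebra.Smooth B (B ⊗[A] C₀) := inferInstance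
  haveI : IsReduced (B ⊗[A] C₀) := Groth.Agent.Lib.Helper14.isReduced_of_smooth B (B ⊗[A] C₀)
  let g : B ⊗[A] C₀ →ₐ[B] B ⊗[A] E :=
    Algebra.TensorProduct.map (AlgHom.id B B) (IsScalarTower.toAlgHom A C₀ E)
  letI algTT : Algebra (B ⊗[A] C₀) (B ⊗[A] E) := g.toRingHom.toAlgebra
  haveI : IsScalarTower B (B ⊗[A] C₀) (B ⊗[A] E) :=
    IsScalarTower.of_algebraMap_eq (fun b => (g.commutes b).symm)
  haveI hloc' : IsLocalization
      (q.primeCompl.map (Algebra.TensorProduct.includeRight (R := A) (A := B))) (B ⊗[A] E) :=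
    IsLocalization.tensorProduct_tensorProduct_right A B q.primeCompl E
      (RingHom.ext fun c => rfl)
  haveI : IsArtinianRing (B ⊗[A] E) :=
    IsArtinianRing.localization_artinian
      (q.primeCompl.map (Algebra.TensorProduct.includeRight (R := A) (A := B))) (B ⊗[A] E)
  haveI : IsReduced (B ⊗[A] E) :=
    isReduced_localizationPreserves
      (q.primeCompl.map (Algebra.TensorProduct.includeRight (R := A) (A := B))) (B ⊗[A] E)
      inferInstance
  rw [IsArtinianRing.jacobson_eq_radical]
  exact nilradical_eq_zero (B ⊗[A] E)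

theorem fwd
    (A E K : Type u) [CommRing A] [IsLocalRing A] [IsReduced A] (hA : EGA4.IsExcellent A)
    [CommRing E] [IsLocalRing E] [CommRing K] [Algebra A E] [IsLocalHom (algebraMap A E)]
    [Algebra A K] [Algebra E K] [IsScalarTower A E K] (hE : EGA4loc.IsEssentiallyEtale A E)
    (hAK : Function.Injective (algebraMap A K))
    (hEK : Function.Injective (algebraMap E K))
    (hun : ∀ a ∈ nonZeroDivisors A, IsUnit (algebraMap A K a))
    (A' E' : Subalgebra A K)
    (hA' : ∀ x : K, x ∈ A' ↔ (IsIntegral A x ∧ ∃ a ∈ nonZeroDivisors A, ∃ b : A,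
      algebraMap A K a * x = algebraMap A K b))
    (hE' : ∀ x : K, x ∈ E' ↔ (IsIntegral E x ∧ ∃ a ∈ nonZeroDivisors A, ∃ e : E,
      algebraMap A K a * x = algebraMap E K e))
    (hle : A' ≤ E') (ι : E →ₐ[A] E') (hι : ∀ e : E, (ι e : K) = algebraMap E K e) :
    {N : Ideal E' | N.IsMaximal}.Finite ∧
      Function.Surjective ((Ideal.Quotient.mkₐ A (Ideal.jacobson (⊥ : Ideal E'))).comp
        (Algebra.TensorProduct.productMap (Subalgebra.inclusion hle) ι)) ∧
      RingHom.ker ((Ideal.Quotient.mkₐ A (Ideal.jacobson (⊥ : Ideal E'))).comp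
        (Algebra.TensorProduct.productMap (Subalgebra.inclusion hle) ι)) =
        (Ideal.jacobson (⊥ : Ideal A')).map
            (Algebra.TensorProduct.includeLeft : A' →ₐ[A] A' ⊗[A] E) ⊔
          (maximalIdeal E).map
            (Algebra.TensorProduct.includeRight : E →ₐ[A] A' ⊗[A] E) := by
  classical
  haveI : IsNoetherianRing A := hA.1
  have hNag : CAlg.IsNagata A := NagataExc.isNagata_of_isExcellent A hA
  have hmin : (minimalPrimes A).Finite := minimalPrimes.finite_of_isNoetherianRing A
  haveI : Module.Flat A E := FracFgIff.flat_base_of_essEtale A E hE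
  have hfgA' := fg_normalization A K hmin hNag hAK hun A' hA'
  haveI hfinA' : Module.Finite A A' := Module.Finite.iff_fg.mpr hfgA'
  haveI : Algebra.IsIntegral A A' := Algebra.IsIntegral.of_finite A A'
  have hmA' : (maximalIdeal A).map (algebraMap A A') ≤ Ideal.jacobson (⊥ : Ideal A') := by
    show _ ≤ sInf {J : Ideal A' | ⊥ ≤ J ∧ J.IsMaximal}
    refine le_sInf ?_
    rintro M ⟨-, hM⟩
    exact map_maximalIdeal_le A A' M hM
  haveI : IsArtinianRing (A' ⧸ Ideal.jacobson (⊥ : Ideal A')) := by
    haveI := isArtinianRing_quot A A'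
    exact (Ideal.Quotient.factor_surjective hmA').isArtinianRing
  haveI : IsReduced (A' ⧸ Ideal.jacobson (⊥ : Ideal A')) :=
    (Ideal.isRadical_iff_quotient_reduced _).mp (Ideal.isRadical_jacobson ⊥)
  have hjac : Ideal.jacobson
      (⊥ : Ideal ((A' ⧸ Ideal.jacobson (⊥ : Ideal A')) ⊗[A] E)) = ⊥ :=
    jacobson_bot_tensor_essEtale A E (A' ⧸ Ideal.jacobson (⊥ : Ideal A')) hE
  obtain ⟨hPinj', hPsurj'⟩ := baseChange_normalization A E K hE hEK hun A' hA'
  have hPval : ∀ z : A' ⊗[A] E,
      ((Algebra.TensorProduct.productMap (Subalgebra.inclusion hle) ι z : E') : K) =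
        Algebra.TensorProduct.productMap A'.val (IsScalarTower.toAlgHom A E K) z := by
    intro z
    induction z using TensorProduct.induction_on with
    | zero => simp
    | tmul x e =>
      rw [Algebra.TensorProduct.productMap_apply_tmul, Algebra.TensorProduct.productMap_apply_tmul,
        Subalgebra.coe_mul, hι]
      rfl
    | add a b ha hb => rw [map_add, map_add, Subalgebra.coe_add, ha, hb]
  have hPinj : Function.Injective
      (Algebra.TensorProduct.productMap (Subalgebra.inclusion hle) ι) := by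
    intro z w h
    apply hPinj'
    rw [← hPval, ← hPval, h]
  have hPsurj : Function.Surjective
      (Algebra.TensorProduct.productMap (Subalgebra.inclusion hle) ι) := by
    intro y
    obtain ⟨hy1, a, ha, e, hy2⟩ := (hE' y.1).mp y.2
    obtain ⟨z, hz⟩ := hPsurj' y.1 hy1 ⟨a, ha, e, hy2⟩
    exact ⟨z, Subtype.ext (by rw [hPval, hz])⟩
  -- maximal ideals of the tensor product
  have hE1 : ∀ N : Ideal (A' ⊗[A] E), N.IsMaximal → ∀ e ∈ maximalIdeal E,
      (1 : A') ⊗ₜ[A] e ∈ N := by
    intro N hN e he
    haveI := hN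
    have hN₁ : (N.comap (Algebra.TensorProduct.comm A E A').toAlgHom.toRingHom).IsMaximal :=
      Ideal.comap_isMaximal_of_surjective _ (Algebra.TensorProduct.comm A E A').surjective
    have h1 := map_maximalIdeal_le E (E ⊗[A] A') _ hN₁
    have h2 : algebraMap E (E ⊗[A] A') e ∈
        N.comap (Algebra.TensorProduct.comm A E A').toAlgHom.toRingHom :=
      h1 (Ideal.mem_map_of_mem _ he)
    have h3 : (Algebra.TensorProduct.comm A E A') (e ⊗ₜ[A] (1 : A')) ∈ N := h2
    exact h3
  have hF1 : ∀ N : Ideal (A' ⊗[A] E), N.IsMaximal →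
      (maximalIdeal E).map (Algebra.TensorProduct.includeRight : E →ₐ[A] A' ⊗[A] E) ≤ N ∧
      (Ideal.jacobson (⊥ : Ideal A')).map
        (Algebra.TensorProduct.includeLeft : A' →ₐ[A] A' ⊗[A] E) ≤ N := by
    intro N hN
    haveI := hN
    refine ⟨?_, ?_⟩
    · rw [Ideal.map_le_iff_le_comap]
      intro e he
      exact hE1 N hN e he
    · haveI h𝔭prime : (N.comap
          (Algebra.TensorProduct.includeLeft : A' →ₐ[A] A' ⊗[A] E)).IsPrime :=
        Ideal.comap_isPrime _ _
      have h𝔭A : ((N.comap (Algebra.TensorProduct.includeLeft : A' →ₐ[A] A' ⊗[A] E)).comap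
          (algebraMap A A')).IsMaximal := by
        have h3 : maximalIdeal A ≤
            (N.comap (Algebra.TensorProduct.includeLeft : A' →ₐ[A] A' ⊗[A] E)).comap
              (algebraMap A A') := by
          intro a ha
          show (algebraMap A A' a) ⊗ₜ[A] (1 : E) ∈ N
          have h4 : (algebraMap A A' a) ⊗ₜ[A] (1 : E) = (1 : A') ⊗ₜ[A] (algebraMap A E a) := by
            rw [Algebra.algebraMap_eq_smul_one, Algebra.algebraMap_eq_smul_one,
              TensorProduct.smul_tmul]
          rw [h4]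
          exact hE1 N hN _ (map_nonunit (algebraMap A E) a ha)
        have h5 : (N.comap (Algebra.TensorProduct.includeLeft : A' →ₐ[A] A' ⊗[A] E)).comap
            (algebraMap A A') ≠ ⊤ := Ideal.IsPrime.ne_top (Ideal.comap_isPrime _ _)
        rw [← (maximalIdeal.isMaximal A).eq_of_le h5 h3]
        exact maximalIdeal.isMaximal A
      have h𝔭max : (N.comap
          (Algebra.TensorProduct.includeLeft : A' →ₐ[A] A' ⊗[A] E)).IsMaximal :=
        Ideal.isMaximal_of_isIntegral_of_isMaximal_comap (R := A) _ h𝔭A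
      rw [Ideal.map_le_iff_le_comap]
      exact sInf_le ⟨bot_le, h𝔭max⟩
  -- (1)
  have hfinE' : {N : Ideal E' | N.IsMaximal}.Finite := by
    have h1 : {N : Ideal (E ⊗[A] A') | N.IsMaximal}.Finite := finite_isMaximal E (E ⊗[A] A')
    refine finite_isMaximal_of_surjective
      ((Algebra.TensorProduct.productMap (Subalgebra.inclusion hle) ι).toRingHom.comp
        (Algebra.TensorProduct.comm A E A').toAlgHom.toRingHom) ?_ h1
    exact hPsurj.comp (Algebra.TensorProduct.comm A E A').surjective
  -- (2)
  have hΨsurj : Function.Surjective ((Ideal.Quotient.mkₐ A (Ideal.jacobson (⊥ : Ideal E'))).comp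
      (Algebra.TensorProduct.productMap (Subalgebra.inclusion hle) ι)) := by
    intro y
    obtain ⟨x, rfl⟩ := Ideal.Quotient.mk_surjective y
    obtain ⟨z, rfl⟩ := hPsurj x
    exact ⟨z, rfl⟩
  -- (3)
  have hker : RingHom.ker ((Ideal.Quotient.mkₐ A (Ideal.jacobson (⊥ : Ideal E'))).comp
      (Algebra.TensorProduct.productMap (Subalgebra.inclusion hle) ι)) =
      Ideal.jacobson (⊥ : Ideal (A' ⊗[A] E)) := by
    have h1 := Ideal.comap_jacobson_of_surjective
      (f := (Algebra.TensorProduct.productMap (Subalgebra.inclusion hle) ι).toRingHom)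
      hPsurj (K := ⊥)
    have h2 : Ideal.comap (Algebra.TensorProduct.productMap (Subalgebra.inclusion hle) ι).toRingHom
        ⊥ = ⊥ := by
      rw [← RingHom.ker_eq_comap_bot]
      exact (RingHom.injective_iff_ker_eq_bot _).mp hPinj
    rw [h2] at h1
    rw [← h1]
    ext z
    rw [RingHom.mem_ker, Ideal.mem_comap]
    show Ideal.Quotient.mk _ (Algebra.TensorProduct.productMap (Subalgebra.inclusion hle) ι z) = 0
      ↔ _
    rw [Ideal.Quotient.eq_zero_iff_mem]
    rfl
  have hjT : Ideal.jacobson (⊥ : Ideal (A' ⊗[A] E)) =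
      (Ideal.jacobson (⊥ : Ideal A')).map
          (Algebra.TensorProduct.includeLeft : A' →ₐ[A] A' ⊗[A] E) ⊔
        (maximalIdeal E).map
          (Algebra.TensorProduct.includeRight : E →ₐ[A] A' ⊗[A] E) := by
    apply le_antisymm
    · have hmksurj : Function.Surjective (Ideal.Quotient.mkₐ A (Ideal.jacobson (⊥ : Ideal A'))) :=
        Ideal.Quotient.mkₐ_surjective A _
      have hπsurj : Function.Surjective
          (Algebra.TensorProduct.map (Ideal.Quotient.mkₐ A (Ideal.jacobson (⊥ : Ideal A')))
            (AlgHom.id A E)) :=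
        Algebra.TensorProduct.map_surjective _ _ hmksurj Function.surjective_id
      have hk : RingHom.ker (Ideal.Quotient.mkₐ A (Ideal.jacobson (⊥ : Ideal A'))) =
          Ideal.jacobson (⊥ : Ideal A') := by
        ext x
        rw [RingHom.mem_ker]
        exact Ideal.Quotient.eq_zero_iff_mem
      have hπker : RingHom.ker
          (Algebra.TensorProduct.map (Ideal.Quotient.mkₐ A (Ideal.jacobson (⊥ : Ideal A')))
            (AlgHom.id A E)) = (Ideal.jacobson (⊥ : Ideal A')).map
          (Algebra.TensorProduct.includeLeft : A' →ₐ[A] A' ⊗[A] E) := by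
        rw [Algebra.TensorProduct.rTensor_ker _ hmksurj, hk]
      have h1 := Ideal.comap_jacobson_of_surjective
        (f := (Algebra.TensorProduct.map (Ideal.Quotient.mkₐ A (Ideal.jacobson (⊥ : Ideal A')))
            (AlgHom.id A E)).toRingHom) hπsurj (K := ⊥)
      rw [hjac, ← RingHom.ker_eq_comap_bot] at h1
      have h2 : RingHom.ker (Algebra.TensorProduct.map
          (Ideal.Quotient.mkₐ A (Ideal.jacobson (⊥ : Ideal A'))) (AlgHom.id A E)).toRingHom =
          (Ideal.jacobson (⊥ : Ideal A')).map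
          (Algebra.TensorProduct.includeLeft : A' →ₐ[A] A' ⊗[A] E) := hπker
      rw [h2] at h1
      calc Ideal.jacobson (⊥ : Ideal (A' ⊗[A] E))
          ≤ Ideal.jacobson ((Ideal.jacobson (⊥ : Ideal A')).map
              (Algebra.TensorProduct.includeLeft : A' →ₐ[A] A' ⊗[A] E)) :=
            Ideal.jacobson_mono bot_le
        _ = (Ideal.jacobson (⊥ : Ideal A')).map
              (Algebra.TensorProduct.includeLeft : A' →ₐ[A] A' ⊗[A] E) := h1.symm
        _ ≤ _ := le_sup_left
    · show _ ≤ sInf {J : Ideal (A' ⊗[A] E) | ⊥ ≤ J ∧ J.IsMaximal}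
      refine le_sInf ?_
      rintro N ⟨-, hN⟩
      obtain ⟨h1, h2⟩ := hF1 N hN
      exact sup_le h2 h1
  exact ⟨hfinE', hΨsurj, by rw [hker, hjT]⟩

end Groth.Agent.Lib.Helper8.Fwd16450
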