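import Mathlib
import Groth.Prelude.Def_PiSp

/-!
# Residue field extensions of a Galois cover are Galois, of degree dividing the order of the group
-/

set_option autoImplicit false
universe u

open CategoryTheory AlgebraicGeometry IsLocalRing

namespace Groth.Agent.Lib.Helper8.GalCover

theorem cancel_fromSpecResidueField {X : Scheme.{u}} {Ω : Type u} [Field Ω] (x : X)
    (a b : X.residueField x ⟶ CommRingCat.of Ω)
    (h : Spec.map a ≫ X.fromSpecResidueField x = Spec.map b ≫ X.fromSpecResidueField x) :
    a = b := by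
  have h1 : (Scheme.SpecToEquivOfField Ω X).symm ⟨x, a⟩ =
      (Scheme.SpecToEquivOfField Ω X).symm ⟨x, b⟩ := h
  have h2 := (Scheme.SpecToEquivOfField Ω X).symm.injective h1
  rw [Scheme.SpecToEquivOfField_eq_iff] at h2
  obtain ⟨e, he⟩ := h2
  simpa using he

theorem exists_eq_SpecMap_comp {Y : Scheme.{u}} {K' : Type u} [Field K']
    (t : Spec (CommRingCat.of K') ⟶ Y) (y : Y) (h : t.base (closedPoint K') = y) :
    ∃ ι : Y.residueField y ⟶ CommRingCat.of K',
      t = Spec.map ι ≫ Y.fromSpecResidueField y := by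
  subst h
  exact ⟨_, ((Scheme.SpecToEquivOfField K' Y).left_inv t).symm⟩

theorem SpecMap_comp_fromSpecResidueField_base {Y : Scheme.{u}} {K' : Type u} [Field K'] (y : Y)
    (ι : Y.residueField y ⟶ CommRingCat.of K') (pt : Spec (CommRingCat.of K')) :
    (Spec.map ι ≫ Y.fromSpecResidueField y).base pt = y := by
  simp

/-- Residue field extensions of a formally unramified morphism locally of finite type are
finite (and separable, by Mathlib). -/
theorem finite_residueField {X Y : Scheme.{u}} (f : X ⟶ Y) [FormallyUnramified f]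
    [LocallyOfFiniteType f] (x : X) :
    letI : Algebra (Y.residueField (f.base x)) (X.residueField x) :=
      (f.residueFieldMap x).hom.toAlgebra
    Module.Finite (Y.residueField (f.base x)) (X.residueField x) := by
  algebraize [(f.stalkMap x).hom]
  have : IsLocalHom (algebraMap (Y.presheaf.stalk (f x)) (X.presheaf.stalk x)) :=
    inferInstanceAs <| IsLocalHom (f.stalkMap x).hom
  suffices h : Module.Finite
      (IsLocalRing.ResidueField <| Y.presheaf.stalk (f x))
      (IsLocalRing.ResidueField <| X.presheaf.stalk x) by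
    convert! h
    refine Module.ext' _ _ fun r m => ?_
    obtain ⟨r, rfl⟩ := IsLocalRing.residue_surjective r
    obtain ⟨m, rfl⟩ := IsLocalRing.residue_surjective m
    rfl
  have : Algebra.EssFiniteType (Y.presheaf.stalk (f x)) (X.presheaf.stalk x) := by
    rw [← RingHom.essFiniteType_algebraMap, RingHom.algebraMap_toAlgebra]
    exact LocallyOfFiniteType.stalkMap f x
  have : Algebra.FormallyUnramified (Y.presheaf.stalk (f x)) (X.presheaf.stalk x) := by
    rw [← RingHom.formallyUnramified_algebraMap, RingHom.algebraMap_toAlgebra]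
    exact FormallyUnramified.stalkMap f x
  infer_instance

/-- Named copy of Mathlib's anonymous instance. -/
theorem isSeparable_residueField {X Y : Scheme.{u}} (f : X ⟶ Y) [FormallyUnramified f]
    [LocallyOfFiniteType f] (x : X) :
    letI : Algebra (Y.residueField (f.base x)) (X.residueField x) :=
      (f.residueFieldMap x).hom.toAlgebra
    Algebra.IsSeparable (Y.residueField (f.base x)) (X.residueField x) := by
  algebraize [(f.stalkMap x).hom]
  have : IsLocalHom (algebraMap (Y.presheaf.stalk (f x)) (X.presheaf.stalk x)) :=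
    inferInstanceAs <| IsLocalHom (f.stalkMap x).hom
  suffices h : Algebra.IsSeparable
      (IsLocalRing.ResidueField <| Y.presheaf.stalk (f x))
      (IsLocalRing.ResidueField <| X.presheaf.stalk x) by
    convert! h
    refine Algebra.algebra_ext _ _ fun x ↦ ?_
    obtain ⟨x, rfl⟩ := IsLocalRing.residue_surjective x
    rfl
  have : Algebra.EssFiniteType (Y.presheaf.stalk (f x)) (X.presheaf.stalk x) := by
    rw [← RingHom.essFiniteType_algebraMap, RingHom.algebraMap_toAlgebra]
    exact LocallyOfFiniteType.stalkMap f x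
  have : Algebra.FormallyUnramified (Y.presheaf.stalk (f x)) (X.presheaf.stalk x) := by
    rw [← RingHom.formallyUnramified_algebraMap, RingHom.algebraMap_toAlgebra]
    exact FormallyUnramified.stalkMap f x
  infer_instance

section Main
variable {X : Scheme.{u}} (Z : FEt.Cat X)

/-- The action of `Aut Z` on a geometric fibre. -/
@[implicit_reducible]
noncomputable def fibAction {Ω : Type u} [Field Ω] (ξ : Spec (CommRingCat.of Ω) ⟶ X) :
    MulAction (Aut Z) (FEt.fiberObj ξ Z) where
  smul σ s := (FEt.fiber ξ).map σ.hom s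
  one_smul s := by
    show (FEt.fiber ξ).map (𝟙 Z) s = s
    rw [(FEt.fiber ξ).map_id]
    rfl
  mul_smul σ τ s := by
    show (FEt.fiber ξ).map (τ.hom ≫ σ.hom) s =
      (FEt.fiber ξ).map σ.hom ((FEt.fiber ξ).map τ.hom s)
    rw [(FEt.fiber ξ).map_comp]
    rfl

/-- The stabiliser of a point of the cover. -/
def stab (z : Z.left) : Subgroup (Aut Z) where
  carrier := {σ | σ.hom.left.base z = z}
  mul_mem' {σ τ} hσ hτ := by
    show (τ.hom ≫ σ.hom).left.base z = z
    have h1 : (τ.hom ≫ σ.hom).left = τ.hom.left ≫ σ.hom.left := rfl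
    rw [h1]
    have h2 : (τ.hom.left ≫ σ.hom.left).base z = σ.hom.left.base (τ.hom.left.base z) := by
      simp
    rw [h2]
    have hτ' : τ.hom.left.base z = z := hτ
    have hσ' : σ.hom.left.base z = z := hσ
    rw [hτ', hσ']
  one_mem' := by
    show (𝟙 Z : Z ⟶ Z).left.base z = z
    simp
  inv_mem' {σ} hσ := by
    show σ.inv.left.base z = z
    have hσ' : σ.hom.left.base z = z := hσ
    have h1 : (σ.hom ≫ σ.inv).left.base z = z := by
      rw [σ.hom_inv_id]
      simp
    have h2 : (σ.hom ≫ σ.inv).left = σ.hom.left ≫ σ.inv.left := rfl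
    rw [h2] at h1
    have h3 : (σ.hom.left ≫ σ.inv.left).base z = σ.inv.left.base (σ.hom.left.base z) := by
      simp
    rw [h3, hσ'] at h1
    exact h1

theorem main (hZ : PiSp.IsGaloisCover Z) (z : Z.left) :
    letI : Algebra (X.residueField (Z.hom.base z)) (Z.left.residueField z) :=
      (Z.hom.residueFieldMap z).hom.toAlgebra
    Module.Finite (X.residueField (Z.hom.base z)) (Z.left.residueField z) ∧
    IsGalois (X.residueField (Z.hom.base z)) (Z.left.residueField z) ∧
    Module.finrank (X.residueField (Z.hom.base z)) (Z.left.residueField z) ∣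
      Nat.card (Aut Z) := by
  classical
  haveI hfinm : IsFinite Z.hom := Z.prop.1
  haveI hetm : Etale Z.hom := Z.prop.2
  letI algKL : Algebra (X.residueField (Z.hom.base z)) (Z.left.residueField z) :=
    (Z.hom.residueFieldMap z).hom.toAlgebra
  haveI hfin : Module.Finite (X.residueField (Z.hom.base z)) (Z.left.residueField z) :=
    finite_residueField Z.hom z
  haveI hsep : Algebra.IsSeparable (X.residueField (Z.hom.base z)) (Z.left.residueField z) :=
    isSeparable_residueField Z.hom z
  let j : X.residueField (Z.hom.base z) ⟶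
      CommRingCat.of (AlgebraicClosure (Z.left.residueField z)) :=
    CommRingCat.ofHom (algebraMap (X.residueField (Z.hom.base z))
      (AlgebraicClosure (Z.left.residueField z)))
  let ξ : Spec (CommRingCat.of (AlgebraicClosure (Z.left.residueField z))) ⟶ X :=
    Spec.map j ≫ X.fromSpecResidueField (Z.hom.base z)
  have hΘ : ∀ τ : (Z.left.residueField z) →ₐ[X.residueField (Z.hom.base z)]
      (AlgebraicClosure (Z.left.residueField z)),
      (Spec.map (CommRingCat.ofHom τ.toRingHom) ≫ Z.left.fromSpecResidueField z) ≫ Z.hom = ξ := by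
    intro τ
    rw [Category.assoc, ← Scheme.Hom.SpecMap_residueFieldMap_fromSpecResidueField,
      ← Category.assoc, ← Spec.map_comp]
    congr 2
    ext a
    exact τ.commutes a
  let Θ : ((Z.left.residueField z) →ₐ[X.residueField (Z.hom.base z)]
      (AlgebraicClosure (Z.left.residueField z))) → FEt.fiberObj ξ Z := fun τ =>
    ⟨Spec.map (CommRingCat.ofHom τ.toRingHom) ≫ Z.left.fromSpecResidueField z, hΘ τ⟩
  have hΘinj : Function.Injective Θ := by
    intro τ₁ τ₂ h
    have h1 : Spec.map (CommRingCat.ofHom τ₁.toRingHom) ≫ Z.left.fromSpecResidueField z =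
        Spec.map (CommRingCat.ofHom τ₂.toRingHom) ≫ Z.left.fromSpecResidueField z :=
      congrArg Subtype.val h
    have h2 := cancel_fromSpecResidueField z _ _ h1
    apply AlgHom.coe_ringHom_injective
    exact congrArg CommRingCat.Hom.hom h2
  letI act : MulAction (Aut Z) (FEt.fiberObj ξ Z) := fibAction Z ξ
  have hsmul : ∀ (σ : Aut Z) (s : FEt.fiberObj ξ Z), (σ • s).1 = s.1 ≫ σ.hom.left :=
    fun σ s => rfl
  let τ₀ : (Z.left.residueField z) →ₐ[X.residueField (Z.hom.base z)]
      (AlgebraicClosure (Z.left.residueField z)) := IsScalarTower.toAlgHom _ _ _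
  have hΘpt : ∀ τ, (Θ τ).1.base (closedPoint _) = z := fun τ =>
    SpecMap_comp_fromSpecResidueField_base z _ _
  -- transitivity gives an element of the stabiliser
  have htrans : ∀ τ, ∃ σ : Aut Z, σ.hom.left.base z = z ∧ σ • Θ τ₀ = Θ τ := by
    intro τ
    obtain ⟨σ, hσ⟩ := hZ.2 _ ξ (Θ τ₀) (Θ τ)
    have hσ' : σ • Θ τ₀ = Θ τ := hσ
    refine ⟨σ, ?_, hσ'⟩
    have h1 : (σ • Θ τ₀).1.base (closedPoint _) = z := by rw [hσ']; exact hΘpt τ
    rw [hsmul] at h1
    have h2 : ((Θ τ₀).1 ≫ σ.hom.left).base (closedPoint _) =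
        σ.hom.left.base ((Θ τ₀).1.base (closedPoint _)) := by simp
    rw [h2, hΘpt τ₀] at h1
    exact h1
  have horb : Set.range Θ = MulAction.orbit (stab Z z) (Θ τ₀) := by
    ext s
    constructor
    · rintro ⟨τ, rfl⟩
      obtain ⟨σ, hσz, hσ⟩ := htrans τ
      exact ⟨⟨σ, hσz⟩, hσ⟩
    · rintro ⟨⟨σ, hσz⟩, rfl⟩
      have hσz' : σ.hom.left.base z = z := hσz
      have hpt : (σ • Θ τ₀).1.base (closedPoint _) = z := by
        rw [hsmul]
        have h2 : ((Θ τ₀).1 ≫ σ.hom.left).base (closedPoint _) =
            σ.hom.left.base ((Θ τ₀).1.base (closedPoint _)) := by simp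
        rw [h2, hΘpt τ₀, hσz']
      obtain ⟨ι, hι⟩ := exists_eq_SpecMap_comp _ z hpt
      have hK : Z.hom.residueFieldMap z ≫ ι = j := by
        apply cancel_fromSpecResidueField (Z.hom.base z)
        have h2 : (σ • Θ τ₀).1 ≫ Z.hom = ξ := (σ • Θ τ₀).2
        rw [hι, Category.assoc, ← Scheme.Hom.SpecMap_residueFieldMap_fromSpecResidueField,
          ← Category.assoc, ← Spec.map_comp] at h2
        exact h2
      refine ⟨{ toRingHom := ι.hom, commutes' := fun a => congrArg (fun g => g.hom a) hK }, ?_⟩
      apply Subtype.ext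
      exact hι.symm
  -- counting
  have hcard1 : Nat.card ((Z.left.residueField z) →ₐ[X.residueField (Z.hom.base z)]
      (AlgebraicClosure (Z.left.residueField z))) =
      Module.finrank (X.residueField (Z.hom.base z)) (Z.left.residueField z) :=
    Field.finSepDegree_eq_finrank_of_isSeparable _ _
  have hcard2 : Nat.card (Set.range Θ) = Nat.card ((Z.left.residueField z) →ₐ[X.residueField
      (Z.hom.base z)] (AlgebraicClosure (Z.left.residueField z))) :=
    (Nat.card_congr (Equiv.ofInjective Θ hΘinj)).symm
  have hcard3 : Nat.card (MulAction.orbit (stab Z z) (Θ τ₀)) ∣ Nat.card (stab Z z) := by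
    have h1 := Nat.card_congr (MulAction.orbitProdStabilizerEquivGroup (stab Z z) (Θ τ₀))
    rw [Nat.card_prod] at h1
    exact Dvd.intro _ h1
  have hdvd : Module.finrank (X.residueField (Z.hom.base z)) (Z.left.residueField z) ∣
      Nat.card (Aut Z) := by
    rw [← hcard1, ← hcard2, horb]
    exact hcard3.trans (Subgroup.card_subgroup_dvd_card (stab Z z))
  -- normality
  have hrange : ∀ (τ : (Z.left.residueField z) →ₐ[X.residueField (Z.hom.base z)]
      (AlgebraicClosure (Z.left.residueField z))) (l : Z.left.residueField z),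
      ∃ l' : Z.left.residueField z, τ₀ l' = τ l := by
    intro τ l
    obtain ⟨σ, hσz, hσ⟩ := htrans τ
    have h1 : (Θ τ₀).1 ≫ σ.hom.left = (Θ τ).1 := by rw [← hsmul, hσ]
    have hpt : (Z.left.fromSpecResidueField z ≫ σ.hom.left).base
        (closedPoint (Z.left.residueField z)) = z := by
      have h2 : (Z.left.fromSpecResidueField z ≫ σ.hom.left).base
          (closedPoint (Z.left.residueField z)) =
          σ.hom.left.base ((Z.left.fromSpecResidueField z).base
            (closedPoint (Z.left.residueField z))) := by simp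
      rw [h2]
      have h3 : (Z.left.fromSpecResidueField z).base (closedPoint (Z.left.residueField z)) = z :=
        Scheme.fromSpecResidueField_apply z _
      rw [h3, hσz]
    obtain ⟨ρ, hρ⟩ := exists_eq_SpecMap_comp (K' := Z.left.residueField z)
      (Z.left.fromSpecResidueField z ≫ σ.hom.left) z hpt
    have h2 : CommRingCat.ofHom τ.toRingHom = ρ ≫ CommRingCat.ofHom τ₀.toRingHom := by
      apply cancel_fromSpecResidueField z
      rw [Spec.map_comp, Category.assoc, ← hρ, ← Category.assoc]
      exact h1.symm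
    exact ⟨ρ.hom l, (congrArg (fun g => g.hom l) h2).symm⟩
  have hnormal : Normal (X.residueField (Z.hom.base z)) (Z.left.residueField z) := by
    let e₀ : (Z.left.residueField z) ≃ₐ[X.residueField (Z.hom.base z)] τ₀.fieldRange :=
      AlgEquiv.ofInjectiveField τ₀
    haveI : Normal (X.residueField (Z.hom.base z)) τ₀.fieldRange := by
      rw [IntermediateField.normal_iff_forall_fieldRange_le]
      intro σ' x hx
      obtain ⟨y, rfl⟩ := hx
      show σ' y ∈ τ₀.fieldRange
      obtain ⟨l', hl'⟩ := hrange (σ'.comp e₀.toAlgHom) (e₀.symm y)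
      have h3 : (σ'.comp e₀.toAlgHom) (e₀.symm y) = σ' y := by
        show σ' (e₀ (e₀.symm y)) = σ' y
        rw [AlgEquiv.apply_symm_apply]
      rw [← h3, ← hl']
      exact ⟨l', rfl⟩
    exact Normal.of_algEquiv e₀.symm
  exact ⟨hfin, ⟨⟩, hdvd⟩

end Main

end Groth.Agent.Lib.Helper8.GalCover
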