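import Mathlib
import Groth.Prelude.Def_EtRam

/-!
# Finite étale algebras over a DVR are unramified at every dominating valuation ring

(The two small lemmas `mem_valuationSubring_of_isIntegral` and `ramificationIdx'_eq` are copied
from helper27's `Lib/Helper27/WU8.lean` / `WU15.lean` to keep the import closure small.)
-/

set_option autoImplicit false
universe u

open IsLocalRing

namespace Groth.Agent.Lib.Helper8.TameCore

theorem mem_valuationSubring_of_isIntegral {A L : Type*} [CommRing A] [Field L] [Algebra A L]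
    (R : ValuationSubring L) (hR : ∀ a, algebraMap A L a ∈ R) {x : L} (hx : IsIntegral A x) :
    x ∈ R := by
  obtain ⟨p, hp, hpx⟩ := hx
  let f : A →+* R := (algebraMap A L).codRestrict R.toSubring hR
  have hxR : IsIntegral R x := by
    refine ⟨p.map f, hp.map f, ?_⟩
    rw [Polynomial.eval₂_map]
    exact hpx
  obtain ⟨y, hy⟩ := IsIntegrallyClosed.isIntegral_iff.mp hxR
  rw [← hy]; exact y.2

theorem ramificationIdx'_eq {A V : Type*} [CommRing A] [IsLocalRing A] [CommRing V] [IsDomain V]
    [IsDiscreteValuationRing V] [Algebra A V] (πA : A)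
    (hπA : maximalIdeal A = Ideal.span {πA}) (π : V) (hπ : Irreducible π) (n : ℕ) (u : Vˣ)
    (h : algebraMap A V πA = u * π ^ n) :
    Ideal.ramificationIdx' (maximalIdeal A) (maximalIdeal V) = n := by
  apply Ideal.ramificationIdx'_spec
  · rw [hπA, Ideal.map_span, Set.image_singleton, hπ.maximalIdeal_eq, Ideal.span_singleton_pow,
      Ideal.span_singleton_le_span_singleton, h]
    exact Dvd.intro_left _ rfl
  · rw [hπA, Ideal.map_span, Set.image_singleton, hπ.maximalIdeal_eq, Ideal.span_singleton_pow,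
      Ideal.span_singleton_le_span_singleton, h]
    rintro ⟨c, hc⟩
    have e1 : π ^ n * (u : V) = π ^ n * (π * c) := by
      rw [mul_comm, hc, pow_succ]; ring
    have e2 := mul_left_cancel₀ (pow_ne_zero n hπ.ne_zero) e1
    exact hπ.not_isUnit (isUnit_of_mul_isUnit_left (e2 ▸ u.isUnit))

section
variable {A B L : Type u} [CommRing A] [IsDomain A] [IsDiscreteValuationRing A]
  [CommRing B] [Algebra A B] [Module.Finite A B] [Algebra.Etale A B] [Field L]
  (ψ : B →+* L)

theorem map_mem (V : ValuationSubring L)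
    (hV : ∀ a : A, ψ (algebraMap A B a) ∈ V) (b : B) : ψ b ∈ V := by
  letI : Algebra A L := (ψ.comp (algebraMap A B)).toAlgebra
  have hint : IsIntegral A (ψ b) := by
    have hb : IsIntegral A b := Algebra.IsIntegral.isIntegral b
    exact hb.map (⟨ψ, fun a => rfl⟩ : B →ₐ[A] L)
  exact mem_valuationSubring_of_isIntegral V hV hint

end

section Core
variable {A B L : Type u} [CommRing A] [IsDomain A] [IsDiscreteValuationRing A]
  [CommRing B] [Algebra A B] [Module.Finite A B] [Algebra.Etale A B] [Field L]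

/-- Elements of a Noetherian local ring with principal maximal ideal are units times powers of the
generator. -/
theorem exists_unit_mul_pow {S : Type*} [CommRing S] [IsLocalRing S] [IsNoetherianRing S] (ϖ : S)
    (hϖ : maximalIdeal S = Ideal.span {ϖ}) (x : S) (hx : x ≠ 0) :
    ∃ (k : ℕ) (u : Sˣ), x = u * ϖ ^ k := by
  classical
  have hex : ∃ k, x ∉ (maximalIdeal S) ^ k := by
    by_contra hcon
    push_neg at hcon
    have : x ∈ (⨅ k, (maximalIdeal S) ^ k : Ideal S) := by
      rw [Ideal.mem_iInf]; exact hcon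
    rw [Ideal.iInf_pow_eq_bot_of_isLocalRing _ (maximalIdeal.isMaximal S).ne_top] at this
    exact hx (by simpa using this)
  have hk0 : Nat.find hex ≠ 0 := by
    intro h0
    have := Nat.find_spec hex
    rw [h0, pow_zero, Ideal.one_eq_top] at this
    exact this Submodule.mem_top
  obtain ⟨j, hj⟩ := Nat.exists_eq_succ_of_ne_zero hk0
  have hmem : x ∈ (maximalIdeal S) ^ j := by
    by_contra hcon
    have := Nat.find_min' hex hcon
    omega
  rw [hϖ, Ideal.span_singleton_pow, Ideal.mem_span_singleton'] at hmem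
  obtain ⟨y, hy⟩ := hmem
  have hyu : IsUnit y := by
    by_contra hnu
    have hym : y ∈ maximalIdeal S := (mem_maximalIdeal y).2 hnu
    have hspec := Nat.find_spec hex
    rw [hj, pow_succ] at hspec
    apply hspec
    rw [← hy, mul_comm]
    have h1 : ϖ ^ j ∈ maximalIdeal S ^ j :=
      Ideal.pow_mem_pow (hϖ ▸ Ideal.mem_span_singleton_self ϖ) j
    exact Ideal.mul_mem_mul hym h1
  exact ⟨j, hyu.unit, by rw [← hy]; rfl⟩

theorem core (ψ : B →+* L)
    (hinj : ∀ a : A, a ≠ 0 → ψ (algebraMap A B a) ≠ 0)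
    (hgen : ∀ l : L, ∃ b b' : B, ψ b' ≠ 0 ∧ l * ψ b' = ψ b)
    (V : ValuationSubring L) (hV : EtRam.Dominates A (ψ.comp (algebraMap A B)) V)
    [algAV : Algebra A V] (halg : ∀ a : A, ((algebraMap A V a : V) : L) = ψ (algebraMap A B a))
    [IsLocalHom (algebraMap A V)] :
    Algebra.IsSeparable (ResidueField A) (ResidueField V) ∧
      Ideal.ramificationIdx' (maximalIdeal A) (maximalIdeal V) = 1 := by
  classical
  have hBV : ∀ b : B, ψ b ∈ V := map_mem ψ V hV.1
  let ψV : B →+* V := ψ.codRestrict V hBV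
  have hψV : ∀ b, ((ψV b : V) : L) = ψ b := fun _ => rfl
  let n : Ideal B := (maximalIdeal V).comap ψV
  haveI hnp : n.IsPrime := Ideal.comap_isPrime ψV _
  have hunit : ∀ s : n.primeCompl, IsUnit (ψV s) := fun s => by
    have h1 : ψV s ∉ maximalIdeal V := s.2
    exact (IsLocalRing.notMem_maximalIdeal).1 h1
  let Bn := Localization.AtPrime n
  let ψn : Bn →+* V := IsLocalization.lift (M := n.primeCompl) hunit
  have hψn : ∀ b : B, ψn (algebraMap B Bn b) = ψV b := fun b => IsLocalization.lift_eq hunit b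
  have hψnA : ∀ a : A, ψn (algebraMap A Bn a) = algebraMap A V a := fun a => by
    rw [IsScalarTower.algebraMap_apply A B Bn, hψn]
    exact Subtype.ext (halg a).symm
  haveI : IsLocalHom (algebraMap A Bn) := ⟨fun a ha => by
    have h1 : IsUnit (ψn (algebraMap A Bn a)) := ha.map ψn
    rw [hψnA] at h1
    exact isUnit_of_map_unit (algebraMap A V) a h1⟩
  haveI : Algebra.FormallyUnramified B Bn := Algebra.FormallyUnramified.of_isLocalization n.primeCompl
  haveI : Algebra.FormallyUnramified A Bn := Algebra.FormallyUnramified.comp A B Bn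
  haveI : Algebra.EssFiniteType B Bn := Algebra.EssFiniteType.of_isLocalization Bn n.primeCompl
  haveI : Algebra.EssFiniteType A Bn := Algebra.EssFiniteType.comp A B Bn
  have hmax : (maximalIdeal A).map (algebraMap A Bn) = maximalIdeal Bn :=
    Algebra.FormallyUnramified.map_maximalIdeal
  haveI hsep : Algebra.IsSeparable (ResidueField A) (ResidueField Bn) := inferInstance
  haveI : IsNoetherianRing B := IsNoetherianRing.of_finite A B
  haveI : IsNoetherianRing Bn := IsLocalization.isNoetherianRing n.primeCompl Bn inferInstance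
  -- uniformizers
  obtain ⟨π, hπ⟩ := IsDiscreteValuationRing.exists_irreducible A
  have hπA : maximalIdeal A = Ideal.span {π} := hπ.maximalIdeal_eq
  set ϖ : Bn := algebraMap A Bn π with hϖdef
  have hϖ : maximalIdeal Bn = Ideal.span {ϖ} := by
    rw [← hmax, hπA, Ideal.map_span, Set.image_singleton]
  set p : V := ψn ϖ with hpdef
  have hpA : p = algebraMap A V π := hψnA π
  have hp0 : p ≠ 0 := by
    intro h0
    have h1 : ((p : V) : L) = 0 := by rw [h0]; rfl
    rw [hpA, halg] at h1
    exact hinj π hπ.ne_zero h1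
  have hpm : p ∈ maximalIdeal V := by
    rw [hpA]
    have hlt := hV.2 π ((mem_maximalIdeal π).2 hπ.not_isUnit)
    rw [RingHom.comp_apply, ← halg] at hlt
    rw [mem_maximalIdeal, mem_nonunits_iff]
    intro hu
    have := (V.valuation_eq_one_iff _).mp hu
    exact hlt.ne this
  -- ψn is a local hom
  have hloc : ∀ x : Bn, x ∈ maximalIdeal Bn → ψn x ∈ maximalIdeal V := by
    intro x hx
    rw [hϖ, Ideal.mem_span_singleton'] at hx
    obtain ⟨y, rfl⟩ := hx
    rw [map_mul]
    exact Ideal.mul_mem_left _ _ hpm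
  -- surjectivity of ψn
  have hsurj : Function.Surjective ψn := by
    intro v
    by_cases hv0 : v = 0
    · exact ⟨0, by rw [hv0, map_zero]⟩
    obtain ⟨b, b', hb', hbb'⟩ := hgen (v : L)
    have hvL : (v : L) ≠ 0 := fun h => hv0 (Subtype.ext h)
    have hb0 : ψ b ≠ 0 := by rw [← hbb']; exact mul_ne_zero hvL hb'
    have hβ0 : ψn (algebraMap B Bn b) ≠ 0 := by
      rw [hψn]; intro h; exact hb0 (by rw [← hψV, h]; rfl)
    have hβ'0 : ψn (algebraMap B Bn b') ≠ 0 := by
      rw [hψn]; intro h; exact hb' (by rw [← hψV, h]; rfl)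
    obtain ⟨i, u, hu⟩ := exists_unit_mul_pow ϖ hϖ (algebraMap B Bn b)
      (fun h => hβ0 (by rw [h, map_zero]))
    obtain ⟨j, u', hu'⟩ := exists_unit_mul_pow ϖ hϖ (algebraMap B Bn b')
      (fun h => hβ'0 (by rw [h, map_zero]))
    have hU : IsUnit (ψn u) := u.isUnit.map ψn
    have hU' : IsUnit (ψn u') := u'.isUnit.map ψn
    have heq : v * (ψn u' * p ^ j) = ψn u * p ^ i := by
      apply Subtype.ext
      have e1 : ψn (algebraMap B Bn b') = ψn u' * p ^ j := by rw [hu', map_mul, map_pow]
      have e2 : ψn (algebraMap B Bn b) = ψn u * p ^ i := by rw [hu, map_mul, map_pow]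
      rw [← e1, ← e2, hψn, hψn]
      exact hbb'
    rcases le_or_gt j i with hji | hij
    · refine ⟨((u'⁻¹ : Bnˣ) : Bn) * u * ϖ ^ (i - j), ?_⟩
      have hpj : p ^ j ≠ 0 := pow_ne_zero j hp0
      have e3 : v * ψn u' = ψn u * p ^ (i - j) := by
        apply mul_right_cancel₀ hpj
        rw [mul_assoc, heq, mul_assoc, ← pow_add, Nat.sub_add_cancel hji]
      have e4 : ψn ((u'⁻¹ : Bnˣ) : Bn) * ψn u' = 1 := by
        rw [← map_mul, Units.inv_mul, map_one]
      rw [map_mul, map_mul, map_pow]
      calc ψn ((u'⁻¹ : Bnˣ) : Bn) * ψn u * p ^ (i - j)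
          = ψn ((u'⁻¹ : Bnˣ) : Bn) * (ψn u * p ^ (i - j)) := by ring
        _ = ψn ((u'⁻¹ : Bnˣ) : Bn) * (v * ψn u') := by rw [e3]
        _ = v * (ψn ((u'⁻¹ : Bnˣ) : Bn) * ψn u') := by ring
        _ = v := by rw [e4, mul_one]
    · exfalso
      have hpi : p ^ i ≠ 0 := pow_ne_zero i hp0
      have e3 : v * ψn u' * p ^ (j - i) = ψn u := by
        apply mul_right_cancel₀ hpi
        rw [mul_assoc, ← pow_add, Nat.sub_add_cancel hij.le, mul_assoc, heq]
      have hmem : ψn u ∈ maximalIdeal V := by
        rw [← e3]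
        apply Ideal.mul_mem_left
        have : j - i ≠ 0 := by omega
        exact Ideal.pow_mem_of_mem _ hpm _ (Nat.pos_of_ne_zero this)
      exact (mem_maximalIdeal _).1 hmem hU
  -- maximal ideal of V
  have hmV : maximalIdeal V = Ideal.span {p} := by
    apply le_antisymm
    · intro v hv
      obtain ⟨x, rfl⟩ := hsurj v
      have hx : x ∈ maximalIdeal Bn := by
        rw [mem_maximalIdeal, mem_nonunits_iff]
        intro hxu
        exact (mem_maximalIdeal _).1 hv (hxu.map ψn)
      rw [hϖ, Ideal.mem_span_singleton'] at hx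
      obtain ⟨y, rfl⟩ := hx
      rw [map_mul]
      exact Ideal.mem_span_singleton'.2 ⟨ψn y, rfl⟩
    · rw [Ideal.span_singleton_le_iff_mem]; exact hpm
  haveI : IsNoetherianRing V := isNoetherianRing_of_surjective Bn V ψn hsurj
  have hnf : ¬ IsField V := by
    intro hf
    obtain ⟨c, hc⟩ := hf.mul_inv_cancel hp0
    exact (mem_maximalIdeal _).1 hpm (isUnit_iff_exists_inv.2 ⟨c, hc⟩)
  have htfae := (IsDiscreteValuationRing.TFAE V hnf).out 0 1
  haveI : IsDiscreteValuationRing V := htfae.2 (inferInstance : ValuationRing V)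
  have hpirr : Irreducible p := (IsDiscreteValuationRing.irreducible_iff_uniformizer p).2 hmV
  refine ⟨?_, ?_⟩
  · -- residue fields
    haveI : IsLocalHom ψn := ⟨fun x hx => by
      by_contra hnu
      exact (mem_maximalIdeal _).1 (hloc x ((mem_maximalIdeal x).2 hnu)) hx⟩
    let φκ : ResidueField Bn →+* ResidueField V := ResidueField.map ψn
    have hφsurj : Function.Surjective φκ := by
      intro z
      obtain ⟨v, rfl⟩ := IsLocalRing.residue_surjective z
      obtain ⟨x, rfl⟩ := hsurj v
      exact ⟨IsLocalRing.residue Bn x, rfl⟩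
    have hcomm : ∀ r : ResidueField A, φκ (algebraMap (ResidueField A) (ResidueField Bn) r) =
        algebraMap (ResidueField A) (ResidueField V) r := by
      intro r
      obtain ⟨a, rfl⟩ := IsLocalRing.residue_surjective r
      change φκ (IsLocalRing.residue Bn (algebraMap A Bn a)) = IsLocalRing.residue V (algebraMap A V a)
      rw [← hψnA]
      rfl
    let e : ResidueField Bn ≃ₐ[ResidueField A] ResidueField V :=
      AlgEquiv.ofBijective { φκ with commutes' := hcomm } ⟨φκ.injective, hφsurj⟩
    exact AlgEquiv.Algebra.isSeparable e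
  · exact ramificationIdx'_eq π hπA p hpirr 1 1 (by rw [← hpA]; simp)

end Core

end Groth.Agent.Lib.Helper8.TameCore
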