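import Mathlib
import Groth.Prelude.Def_EtRam
import Groth.Agent.Lib.Helper8.TameCore

/-!
# Galois extensions of degree prime to the residue characteristic are tame

`A` a DVR with fraction field `K`, `L/K` finite Galois, `V` a valuation subring of `L` dominating
`A`.  Then `V` is the localisation of the integral closure of `A` in `L` at a maximal ideal `P`
(`exists_locEquiv`, adapted from helper27's `TT.isDVR_of_dominates`), and the fundamental identity
`g * (e * f) = [L : K]` for Galois extensions shows that `e` and `f` divide `[L : K]`.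
-/

set_option autoImplicit false
universe u

open IsLocalRing

namespace Groth.Agent.Lib.Helper8.GalTameAlg

section Loc
variable {A K L : Type u} [CommRing A] [IsDomain A] [IsDiscreteValuationRing A]
  [Field K] [Algebra A K] [IsFractionRing A K] [Field L] [Algebra K L] [Algebra A L]
  [IsScalarTower A K L] [FiniteDimensional K L] [Algebra.IsSeparable K L]

omit [IsDiscreteValuationRing A] [FiniteDimensional K L] [Algebra.IsSeparable K L] in
include K in
theorem algebraMap_AL_injective : Function.Injective (algebraMap A L) := by
  rw [IsScalarTower.algebraMap_eq A K L]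
  exact (algebraMap K L).injective.comp (IsFractionRing.injective A K)

include K in
theorem exists_locEquiv (V : ValuationSubring L) (h : EtRam.Dominates A (algebraMap A L) V) :
    ∃ (P : Ideal (integralClosure A L)) (_ : P.IsMaximal) (_ : P.LiesOver (maximalIdeal A))
      (ι : integralClosure A L →+* V) (φ : Localization.AtPrime P ≃+* V),
      (∀ b, ((ι b : V) : L) = (b : L)) ∧ P = (maximalIdeal V).comap ι ∧
      (∀ b, φ (algebraMap _ _ b) = ι b) ∧ P ≠ ⊥ := by
  classical
  haveI hBd : IsDedekindDomain (integralClosure A L) := integralClosure.isDedekindDomain A K L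
  haveI hBf : IsFractionRing (integralClosure A L) L :=
    integralClosure.isFractionRing_of_finite_extension K L
  have hBV : ∀ b : integralClosure A L, algebraMap (integralClosure A L) L b ∈ V := by
    intro b
    exact TameCore.mem_valuationSubring_of_isIntegral V h.1 b.2
  let ι : integralClosure A L →+* V :=
    RingHom.codRestrict (algebraMap (integralClosure A L) L) V hBV
  have hι : ∀ b, ((ι b : V) : L) = (b : L) := fun _ => rfl
  let P : Ideal (integralClosure A L) := (maximalIdeal V).comap ι
  haveI hPp : P.IsPrime := Ideal.comap_isPrime ι _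
  obtain ⟨π, hπ⟩ := IsDiscreteValuationRing.exists_irreducible A
  have hπmem : π ∈ maximalIdeal A := (mem_maximalIdeal π).mpr hπ.not_isUnit
  have hmemP : ∀ a : A, a ∈ maximalIdeal A → algebraMap A (integralClosure A L) a ∈ P := by
    intro a ha
    show ι (algebraMap A (integralClosure A L) a) ∈ maximalIdeal V
    rw [ValuationSubring.valuation_lt_one_iff]
    exact h.2 a ha
  have hP0 : P ≠ ⊥ := by
    intro hbot
    have hmem := hmemP π hπmem
    rw [hbot, Ideal.mem_bot] at hmem
    have : algebraMap A L π = 0 := congrArg Subtype.val hmem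
    exact hπ.ne_zero (algebraMap_AL_injective (K := K) (by rw [this, map_zero]))
  have hPmax : P.IsMaximal := hPp.isMaximal hP0
  have hPlies : P.LiesOver (maximalIdeal A) := by
    constructor
    refine ((maximalIdeal.isMaximal A).eq_of_le ?_ ?_)
    · exact (Ideal.comap_isPrime (algebraMap A (integralClosure A L)) P).ne_top
    · intro a ha
      exact hmemP a ha
  haveI : IsDiscreteValuationRing (Localization.AtPrime P) :=
    IsLocalization.AtPrime.isDiscreteValuationRing_of_dedekind_domain _ hP0 _
  have hunits : ∀ s : P.primeCompl, IsUnit (ι s) := by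
    intro s
    exact notMem_maximalIdeal.mp s.2
  let φ : Localization.AtPrime P →+* V := IsLocalization.lift (M := P.primeCompl) hunits
  have hφinj : Function.Injective φ := by
    rw [injective_iff_map_eq_zero]
    intro z hz
    obtain ⟨b, s, rfl⟩ := IsLocalization.exists_mk'_eq P.primeCompl z
    rw [IsLocalization.lift_mk'_spec, mul_zero] at hz
    have hb : b = 0 := Subtype.ext (show (b : L) = 0 from congrArg Subtype.val hz)
    rw [hb, IsLocalization.mk'_zero]
  have hφsurj : Function.Surjective φ := by
    letI : Algebra (Localization.AtPrime P) L := (V.subtype.comp φ).toAlgebra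
    haveI : IsScalarTower (integralClosure A L) (Localization.AtPrime P) L :=
      .of_algebraMap_eq fun b => by
        show (b : L) = ((φ (algebraMap _ _ b) : V) : L)
        rw [IsLocalization.lift_eq]
        exact (hι b).symm
    haveI : IsFractionRing (Localization.AtPrime P) L :=
      IsFractionRing.isFractionRing_of_isDomain_of_isLocalization P.primeCompl _ _
    intro x
    rcases ValuationRing.isInteger_or_isInteger (Localization.AtPrime P) (x : L) with
      ⟨y, hy⟩ | ⟨y, hy⟩
    · exact ⟨y, Subtype.ext hy⟩
    · by_cases hx0 : (x : L) = 0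
      · exact ⟨0, by rw [map_zero]; exact Subtype.ext hx0.symm⟩
      obtain ⟨b, s, rfl⟩ := IsLocalization.exists_mk'_eq P.primeCompl y
      have hyv : ((φ (IsLocalization.mk' _ b s) : V) : L) = (x : L)⁻¹ := hy
      have hvx : φ (IsLocalization.mk' _ b s) * x = 1 :=
        Subtype.ext (by show ((φ _ : V) : L) * (x : L) = 1; rw [hyv, inv_mul_cancel₀ hx0])
      have hspec : ι b = ι s * φ (IsLocalization.mk' _ b s) :=
        (IsLocalization.lift_mk'_spec _ _ _ _).mp rfl
      have hbP : b ∉ P := by
        intro hbP
        have h1 : ι s * φ (IsLocalization.mk' _ b s) ∈ maximalIdeal V := hspec ▸ hbP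
        have h2 : φ (IsLocalization.mk' _ b s) ∈ maximalIdeal V := by
          have := Ideal.mul_mem_left _ ((hunits s).unit⁻¹ : Vˣ).1 h1
          rwa [← mul_assoc, IsUnit.val_inv_mul, one_mul] at this
        exact (mem_maximalIdeal _).mp h2 (isUnit_iff_exists_inv.mpr ⟨x, hvx⟩)
      refine ⟨IsLocalization.mk' _ (s : integralClosure A L) (⟨b, hbP⟩ : P.primeCompl), ?_⟩
      rw [IsLocalization.lift_mk'_spec]
      show ι s = ι b * x
      rw [hspec, mul_assoc, hvx, mul_one]
  refine ⟨P, hPmax, hPlies, ι, RingEquiv.ofBijective φ ⟨hφinj, hφsurj⟩, hι, rfl, ?_, hP0⟩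
  intro b
  show φ (algebraMap _ _ b) = ι b
  exact IsLocalization.lift_eq _ _

end Loc

section Sep

/-- A finite field extension whose degree is prime to the characteristic exponent is separable. -/
theorem isSeparable_of_not_dvd {F E : Type*} [Field F] [Field E] [Algebra F E]
    [FiniteDimensional F E]
    (h : ∀ p : ℕ, p.Prime → CharP F p → ¬ p ∣ Module.finrank F E) :
    Algebra.IsSeparable F E := by
  rw [isSeparable_iff_finInsepDegree_eq_one]
  obtain ⟨q, hq⟩ := ExpChar.exists F
  obtain ⟨m, hm⟩ := finInsepDegree_eq_pow F E q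
  rw [hm]
  rcases hq with _ | ⟨hprime⟩
  · exact one_pow m
  · rename_i hchar
    have hnd := h q hprime hchar
    have hdvd : q ^ m ∣ Module.finrank F E := by
      rw [← hm, ← Field.finSepDegree_mul_finInsepDegree F E]
      exact Dvd.intro_left _ rfl
    rcases Nat.eq_zero_or_pos m with h0 | hpos
    · rw [h0, pow_zero]
    · exact absurd ((dvd_pow_self q hpos.ne').trans hdvd) hnd

end Sep

section Main
variable {A K L : Type u} [CommRing A] [IsDomain A] [IsDiscreteValuationRing A]
  [Field K] [Algebra A K] [IsFractionRing A K] [Field L] [Algebra K L] [Algebra A L]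
  [IsScalarTower A K L] [FiniteDimensional K L] [IsGalois K L]

include K in
theorem tame (V : ValuationSubring L) (h : EtRam.Dominates A (algebraMap A L) V)
    [algAV : Algebra A V] (halg : ∀ a : A, ((algebraMap A V a : V) : L) = algebraMap A L a)
    [IsLocalHom (algebraMap A V)]
    (hq : ∀ p : ℕ, p.Prime → CharP (ResidueField A) p → ¬ p ∣ Module.finrank K L) :
    Algebra.IsSeparable (ResidueField A) (ResidueField V) ∧
      ∀ p : ℕ, p.Prime → CharP (ResidueField A) p →
        ¬ p ∣ Ideal.ramificationIdx' (maximalIdeal A) (maximalIdeal V) := by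
  classical
  obtain ⟨P, hPmax, hPlies, ι, φ, hι, hPdef, hφ, hP0⟩ := exists_locEquiv (K := K) V h
  haveI := hPmax
  haveI := hPlies
  haveI hBd : IsDedekindDomain (integralClosure A L) := integralClosure.isDedekindDomain A K L
  haveI hBf : IsFractionRing (integralClosure A L) L :=
    integralClosure.isFractionRing_of_finite_extension K L
  haveI hfin : Module.Finite A (integralClosure A L) :=
    IsIntegralClosure.finite A K L (integralClosure A L)
  letI act : MulSemiringAction Gal(L/K) (integralClosure A L) :=
    IsIntegralClosure.MulSemiringAction A K L (integralClosure A L)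
  haveI hgal : IsGaloisGroup Gal(L/K) A (integralClosure A L) :=
    IsGaloisGroup.of_isFractionRing _ _ _ K L
  haveI htfL : Module.IsTorsionFree A L := .trans_faithfulSMul A K L
  haveI hflat : Module.Flat A (integralClosure A L) := inferInstance
  have key := Ideal.ncard_primesOver_mul_ramificationIdxIn_mul_inertiaDegIn (maximalIdeal A)
    (integralClosure A L) Gal(L/K)
  rw [Ideal.ramificationIdxIn_eq_ramificationIdx (maximalIdeal A) P Gal(L/K),
    Ideal.inertiaDegIn_eq_inertiaDeg (maximalIdeal A) P Gal(L/K),
    IsGalois.card_aut_eq_finrank] at key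
  have he : P.ramificationIdx A ∣ Module.finrank K L :=
    ⟨(Ideal.primesOver (maximalIdeal A) (integralClosure A L)).ncard * P.inertiaDeg A, by
      rw [← key]; ring⟩
  have hf : P.inertiaDeg A ∣ Module.finrank K L :=
    ⟨(Ideal.primesOver (maximalIdeal A) (integralClosure A L)).ncard * P.ramificationIdx A, by
      rw [← key]; ring⟩
  have hιalg : ∀ a : A, ι (algebraMap A (integralClosure A L) a) = algebraMap A V a := by
    intro a
    apply Subtype.ext
    rw [hι, halg]
    rfl
  -- the ramification index
  haveI hdvrP : IsDiscreteValuationRing (Localization.AtPrime P) :=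
    IsLocalization.AtPrime.isDiscreteValuationRing_of_dedekind_domain _ hP0 _
  haveI hdvrV : IsDiscreteValuationRing V :=
    IsDiscreteValuationRing.RingEquivClass.isDiscreteValuationRing φ
  obtain ⟨π, hπ⟩ := IsDiscreteValuationRing.exists_irreducible A
  obtain ⟨t, ht⟩ := IsDiscreteValuationRing.exists_irreducible (Localization.AtPrime P)
  have hφA : ∀ a, φ (algebraMap A (Localization.AtPrime P) a) = algebraMap A V a := by
    intro a
    rw [IsScalarTower.algebraMap_apply A (integralClosure A L) (Localization.AtPrime P), hφ,
      hιalg]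
  have hπ0 : algebraMap A (Localization.AtPrime P) π ≠ 0 := by
    intro h0
    have h1 : algebraMap A V π = 0 := by rw [← hφA, h0, map_zero]
    have h2 : algebraMap A L π = 0 := by rw [← halg, h1]; rfl
    exact hπ.ne_zero (algebraMap_AL_injective (K := K) (by rw [h2, map_zero]))
  obtain ⟨k, u, hku⟩ := IsDiscreteValuationRing.eq_unit_mul_pow_irreducible hπ0 ht
  have hV : algebraMap A V π = ((Units.map φ.toRingHom.toMonoidHom u : Vˣ) : V) * (φ t) ^ k := by
    rw [← hφA, hku, map_mul, map_pow]
    rfl
  have hram : Ideal.ramificationIdx' (maximalIdeal A) (maximalIdeal V) = k :=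
    TameCore.ramificationIdx'_eq π hπ.maximalIdeal_eq (φ t)
      ((MulEquiv.irreducible_iff φ.toMulEquiv).2 ht) k _ hV
  have hePk : P.ramificationIdx A = k := by
    rw [Ideal.ramificationIdx_eq (maximalIdeal A) P, hπ.maximalIdeal_eq, Ideal.map_span,
      Set.image_singleton, hku, Ideal.span_singleton_mul_left_unit u.isUnit,
      ← Ideal.span_singleton_pow, ← ht.maximalIdeal_eq,
      IsDiscreteValuationRing.length_quotient_pow_maximalIdeal, ENat.toNat_natCast]
  refine ⟨?_, fun p hp hc hd => hq p hp hc ((hram ▸ hd).trans (hePk ▸ he))⟩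
  -- the residue field extension
  letI fQ : Field (integralClosure A L ⧸ P) := Ideal.Quotient.field P
  letI algQ : Algebra (ResidueField A) (integralClosure A L ⧸ P) :=
    inferInstanceAs (Algebra (A ⧸ maximalIdeal A) (integralClosure A L ⧸ P))
  haveI hfinQ : Module.Finite (ResidueField A) (integralClosure A L ⧸ P) :=
    inferInstanceAs (Module.Finite (A ⧸ maximalIdeal A) (integralClosure A L ⧸ P))
  have hdeg : Module.finrank (ResidueField A) (integralClosure A L ⧸ P) = P.inertiaDeg A :=
    (Ideal.inertiaDeg_eq_of_isMaximal (maximalIdeal A) P).symm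
  haveI hsepQ : Algebra.IsSeparable (ResidueField A) (integralClosure A L ⧸ P) :=
    isSeparable_of_not_dvd (fun p hp hc hd => hq p hp hc ((hdeg ▸ hd).trans hf))
  let ψ₀ : integralClosure A L →+* ResidueField V := (residue V).comp ι
  have hψ₀ : ∀ b ∈ P, ψ₀ b = 0 := by
    intro b hb
    rw [hPdef] at hb
    exact (residue_eq_zero_iff _).2 hb
  let ψ : (integralClosure A L ⧸ P) →+* ResidueField V := Ideal.Quotient.lift P ψ₀ hψ₀
  have hψmk : ∀ b, ψ (Ideal.Quotient.mk P b) = residue V (ι b) := fun b => rfl
  have hψsurj : Function.Surjective ψ := by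
    intro x
    obtain ⟨v, rfl⟩ := residue_surjective x
    obtain ⟨y, rfl⟩ := φ.surjective v
    obtain ⟨b, s, rfl⟩ := IsLocalization.exists_mk'_eq P.primeCompl y
    have h1 : φ (IsLocalization.mk' _ b s) * ι s = ι b := by
      rw [← hφ, ← hφ, ← map_mul, IsLocalization.mk'_spec]
    obtain ⟨s', i, hi, hsi⟩ := hPmax.exists_inv s.2
    have h2 : residue V (ι s') * residue V (ι s) = 1 := by
      have h3 : residue V (ι i) = 0 := hψ₀ i hi
      rw [← map_mul, ← map_mul, ← add_zero (residue V (ι (s' * s))), ← h3, ← map_add,
        ← map_add, hsi, map_one, map_one]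
    refine ⟨Ideal.Quotient.mk P (b * s'), ?_⟩
    rw [hψmk, map_mul, map_mul, ← h1, map_mul, mul_assoc, mul_comm (residue V (ι s)), h2,
      mul_one]
  let ψA : (integralClosure A L ⧸ P) →ₐ[ResidueField A] ResidueField V :=
    { ψ with
      commutes' := fun r => by
        obtain ⟨a, rfl⟩ := residue_surjective r
        show ψ (Ideal.Quotient.mk P (algebraMap A (integralClosure A L) a)) =
          residue V (algebraMap A V a)
        rw [hψmk, hιalg] }
  have hbij : Function.Bijective ψA := ⟨ψA.toRingHom.injective, hψsurj⟩
  exact AlgEquiv.Algebra.isSeparable (AlgEquiv.ofBijective ψA hbij)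

end Main

end Groth.Agent.Lib.Helper8.GalTameAlg
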