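import Mathlib
import Groth.Prelude.Def_EtRam
import Groth.Prelude.Def_PiSp
import Groth.Agent.Lib.Helper8.GalTameAlg
import Groth.Agent.Lib.Helper8.GalCover

/-!
# Galois covers of order prime to the characteristic are tame along every DVR of a residue field
-/

set_option autoImplicit false
universe u
open CategoryTheory AlgebraicGeometry IsLocalRing

namespace Groth.Agent.Lib.Helper8.GalTameMain

theorem main (k : Type u) [Field k] {X : Scheme.{u}} (Z : FEt.Cat X)
    (hZ : PiSp.IsGaloisCover Z) (hn : (Nat.card (Aut Z) : k) ≠ 0) (z : Z.left)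
    (A : ValuationSubring (X.residueField (Z.hom.base z))) [IsDiscreteValuationRing A]
    (a : Spec (CommRingCat.of A) ⟶ Spec (CommRingCat.of k)) :
    EtRam.IsTamelyRamified A ((Z.hom.residueFieldMap z).hom.comp A.subtype) := by
  classical
  letI algKL : Algebra (X.residueField (Z.hom.base z)) (Z.left.residueField z) :=
    (Z.hom.residueFieldMap z).hom.toAlgebra
  obtain ⟨hfin, hgal, hdvd⟩ := GalCover.main Z hZ z
  let α : k →+* A := (Spec.preimage a).hom
  let g : A →+* Z.left.residueField z := (Z.hom.residueFieldMap z).hom.comp A.subtype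
  letI algAL : Algebra A (Z.left.residueField z) := g.toAlgebra
  haveI : IsScalarTower A (X.residueField (Z.hom.base z)) (Z.left.residueField z) :=
    .of_algebraMap_eq (fun _ => rfl)
  have hq : ∀ p : ℕ, p.Prime → CharP (ResidueField A) p →
      ¬ p ∣ Module.finrank (X.residueField (Z.hom.base z)) (Z.left.residueField z) := by
    intro p hp hc hd
    let β : k →+* ResidueField A := (residue A).comp α
    haveI : CharP k p := (RingHom.charP_iff β β.injective p).2 hc
    apply hn
    exact (CharP.cast_eq_zero_iff k p _).2 (hd.trans hdvd)
  intro V hV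
  intro inst
  letI algAV : Algebra A V := (RingHom.codRestrict g V hV.1).toAlgebra
  exact GalTameAlg.tame (K := X.residueField (Z.hom.base z)) (L := Z.left.residueField z) V hV
    (algAV := algAV) (fun a => rfl) hq

end Groth.Agent.Lib.Helper8.GalTameMain
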