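/-
Helper8 library: generizations in (locally) Noetherian quasi-sober spaces.

* `exists_specializes_of_mem_closure`: in a quasi-sober space, a point `x` of the closure of an open
  set `S` which has a Noetherian neighbourhood is a specialization of a point of `S`;
* `exists_maximal_point`: in a quasi-sober `T₀` space every point of a closed set `C` is a
  specialization of a point of `C` that is maximal (has no proper generization in `C`).
-/
import Mathlib.Topology.NoetherianSpace
import Mathlib.Topology.Sober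
import Mathlib.Topology.Sets.Closeds

set_option autoImplicit false

open TopologicalSpace Topology

namespace Groth.Agent.Lib.Helper8

theorem exists_specializes_of_mem_closure {X : Type*} [TopologicalSpace X] [QuasiSober X]
    {S : Set X} (hS : IsOpen S) {x : X} (hx : x ∈ closure S)
    {N : Set X} (hN : N ∈ nhds x) [NoetherianSpace ↥N] :
    ∃ ξ ∈ S, ξ ⤳ x := by
  classical
  have hxN : x ∈ N := mem_of_mem_nhds hN
  set x' : ↥N := ⟨x, hxN⟩ with hx'def
  set S' : Set ↥N := Subtype.val ⁻¹' S with hS'def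
  have hx' : x' ∈ closure S' := by
    rw [closure_subtype, Subtype.image_preimage_coe]
    rw [mem_closure_iff_nhds]
    intro t ht
    obtain ⟨z, hz1, hz2⟩ := mem_closure_iff_nhds.mp hx (t ∩ N) (Filter.inter_mem ht hN)
    exact ⟨z, hz1.1, hz1.2, hz2⟩
  let 𝓕 : Set (Closeds ↥N) := {F | x' ∈ closure (S' ∩ (F : Set ↥N))}
  have htop : (⊤ : Closeds ↥N) ∈ 𝓕 := by
    show x' ∈ closure (S' ∩ ((⊤ : Closeds ↥N) : Set ↥N))
    rw [Closeds.coe_top, Set.inter_univ]
    exact hx'
  obtain ⟨F₀, hF₀, hmin⟩ := WellFounded.has_min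
    (wellFounded_lt : WellFounded ((· < ·) : Closeds ↥N → Closeds ↥N → Prop)) 𝓕 ⟨⊤, htop⟩
  have hF₀' : x' ∈ closure (S' ∩ (F₀ : Set ↥N)) := hF₀
  have hne : (S' ∩ (F₀ : Set ↥N)).Nonempty := by
    by_contra hcon
    rw [Set.not_nonempty_iff_eq_empty] at hcon
    rw [hcon, closure_empty] at hF₀'
    exact hF₀'
  have hirr : IsIrreducible (F₀ : Set ↥N) := by
    refine ⟨hne.mono Set.inter_subset_right, ?_⟩
    rw [isPreirreducible_iff_isClosed_union_isClosed]
    intro z₁ z₂ hz₁ hz₂ hsub
    have hcov : S' ∩ (F₀ : Set ↥N) =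
        (S' ∩ ((F₀ : Set ↥N) ∩ z₁)) ∪ (S' ∩ ((F₀ : Set ↥N) ∩ z₂)) := by
      ext w
      constructor
      · rintro ⟨hw1, hw2⟩
        rcases hsub hw2 with h | h
        · exact Or.inl ⟨hw1, hw2, h⟩
        · exact Or.inr ⟨hw1, hw2, h⟩
      · rintro (⟨hw1, hw2, -⟩ | ⟨hw1, hw2, -⟩) <;> exact ⟨hw1, hw2⟩
    rw [hcov, closure_union] at hF₀'
    have aux : ∀ z : Set ↥N, IsClosed z → x' ∈ closure (S' ∩ ((F₀ : Set ↥N) ∩ z)) →
        (F₀ : Set ↥N) ⊆ z := by
      intro z hz hmem
      let G : Closeds ↥N := ⟨(F₀ : Set ↥N) ∩ z, F₀.isClosed.inter hz⟩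
      have hG : G ∈ 𝓕 := hmem
      have hle : G ≤ F₀ := by
        intro w hw
        exact hw.1
      have hnot := hmin G hG
      have heq : G = F₀ := by
        by_contra hneq
        exact hnot (lt_of_le_of_ne hle hneq)
      intro w hw
      have : w ∈ (G : Set ↥N) := by rw [heq]; exact hw
      exact this.2
    rcases hF₀' with h | h
    · exact Or.inl (aux z₁ hz₁ h)
    · exact Or.inr (aux z₂ hz₂ h)
  have hT : IsIrreducible (Subtype.val '' (F₀ : Set ↥N)) :=
    hirr.image _ continuous_subtype_val.continuousOn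
  have hgen := hT.isGenericPoint_genericPoint_closure
  refine ⟨hT.genericPoint, ?_, ?_⟩
  · rw [hgen.mem_open_set_iff hS]
    obtain ⟨w, hw1, hw2⟩ := hne
    exact ⟨w.1, subset_closure ⟨w, hw2, rfl⟩, hw1⟩
  · apply hgen.specializes
    apply subset_closure
    have : x' ∈ (F₀ : Set ↥N) :=
      closure_minimal Set.inter_subset_right F₀.isClosed hF₀'
    exact ⟨x', this, rfl⟩

theorem exists_maximal_point {X : Type*} [TopologicalSpace X] [QuasiSober X] [T0Space X]
    {C : Set X} (hC : IsClosed C) {c : X} (hc : c ∈ C) :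
    ∃ x ∈ C, x ⤳ c ∧ ∀ x' ∈ C, x' ⤳ x → x' = x := by
  classical
  set c' : ↥C := ⟨c, hc⟩ with hc'
  set T : Set ↥C := irreducibleComponent c' with hTdef
  have hTirr : IsIrreducible T := isIrreducible_irreducibleComponent
  have hT' : IsIrreducible (Subtype.val '' T) :=
    hTirr.image _ continuous_subtype_val.continuousOn
  have hgen := hT'.isGenericPoint_genericPoint_closure
  have hsubC : closure (Subtype.val '' T) ⊆ C := by
    apply closure_minimal _ hC
    rintro _ ⟨w, -, rfl⟩
    exact w.2
  refine ⟨hT'.genericPoint, hsubC hgen.mem, ?_, ?_⟩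
  · apply hgen.specializes
    exact subset_closure ⟨c', mem_irreducibleComponent, rfl⟩
  · intro x' hx'C hx'
    have hsub : T ⊆ closure ({⟨x', hx'C⟩} : Set ↥C) := by
      intro w hw
      rw [← specializes_iff_mem_closure, subtype_specializes_iff]
      show x' ⤳ (w : X)
      refine hx'.trans (hgen.specializes ?_)
      exact subset_closure ⟨w, hw, rfl⟩
    have hpre : IsPreirreducible (closure ({⟨x', hx'C⟩} : Set ↥C)) :=
      isPreirreducible_iff_closure.mpr isPreirreducible_singleton
    have heq := (irreducibleComponent_property c').2.2 _ hpre hsub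
    have hmem : (⟨x', hx'C⟩ : ↥C) ∈ T := by
      rw [hTdef, ← heq]
      exact subset_closure rfl
    have h2 : hT'.genericPoint ⤳ x' :=
      hgen.specializes (subset_closure ⟨⟨x', hx'C⟩, hmem, rfl⟩)
    exact (hx'.antisymm h2).eq

end Groth.Agent.Lib.Helper8
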