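import Mathlib

set_option autoImplicit false
set_option linter.style.haveILetI false
universe u

namespace Groth.Agent.Lib.Helper8

open Polynomial

/-- In a domain, `B → B_f` is injective for `f ≠ 0`. -/
theorem away_injective {B : Type u} [CommRing B] [IsDomain B] {f : B} (hf : f ≠ 0) :
    Function.Injective (algebraMap B (Localization.Away f)) :=
  IsLocalization.injective (Localization.Away f)
    (powers_le_nonZeroDivisors_of_noZeroDivisors hf)

/-- If `B_f` is a field (for `f ≠ 0` in a domain `B`), it is the fraction field. -/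
theorem isFractionRing_away_of_isField {B : Type u} [CommRing B] [IsDomain B] {f : B} (hf : f ≠ 0)
    (h : IsField (Localization.Away f)) : IsFractionRing B (Localization.Away f) := by
  refine IsLocalization.of_le (Submonoid.powers f) (nonZeroDivisors B)
    (powers_le_nonZeroDivisors_of_noZeroDivisors hf) ?_
  intro r hr
  letI := h.toField
  have hr0 : r ≠ 0 := nonZeroDivisors.ne_zero hr
  have : algebraMap B (Localization.Away f) r ≠ 0 := by
    intro h0
    exact hr0 ((away_injective hf) (h0.trans (map_zero _).symm))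
  exact isUnit_iff_ne_zero.mpr this

end Groth.Agent.Lib.Helper8

namespace Groth.Agent.Lib.Helper8

/-- Key direction: a field of finite type over a domain `B`, containing `B`, forces some `B_f` to be a field. -/
theorem exists_away_isField_of_field_finiteType {B : Type u} [CommRing B] [IsDomain B]
    (K : Type u) [Field K] [Algebra B K] (hinj : Function.Injective (algebraMap B K))
    [hft : Algebra.FiniteType B K] :
    ∃ f : B, f ≠ 0 ∧ IsField (Localization.Away f) := by
  classical
  haveI : FaithfulSMul B K := (faithfulSMul_iff_algebraMap_injective B K).mpr hinj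
  let F := FractionRing B
  letI : Algebra F K := FractionRing.liftAlgebra B K
  haveI : IsScalarTower B F K := FractionRing.isScalarTower_liftAlgebra B K
  haveI : Algebra.FiniteType F K := Algebra.FiniteType.of_restrictScalars_finiteType B F K
  haveI : Module.Finite F K := finite_of_finite_type_of_isJacobsonRing F K
  haveI : Algebra.IsIntegral F K := inferInstance
  obtain ⟨s, hs⟩ := hft.out
  -- for each generator pick a nonzero multiple that is integral over B
  have hmult : ∀ x : K, ∃ b : B, b ≠ 0 ∧ IsIntegral B (b • x) := by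
    intro x
    obtain ⟨m, hm⟩ := IsIntegral.exists_multiple_integral_of_isLocalization (nonZeroDivisors B)
      (Rₘ := F) x (Algebra.IsIntegral.isIntegral x)
    exact ⟨m, nonZeroDivisors.ne_zero m.2, hm⟩
  choose b hb0 hbint using hmult
  let f : B := ∏ x ∈ s, b x
  have hf : f ≠ 0 := Finset.prod_ne_zero_iff.mpr fun x _ => hb0 x
  refine ⟨f, hf, ?_⟩
  have hfK : IsUnit (algebraMap B K f) := by
    rw [isUnit_iff_ne_zero]
    intro h0
    exact hf (hinj (h0.trans (map_zero _).symm))
  letI : Algebra (Localization.Away f) K :=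
    (IsLocalization.Away.lift (S := Localization.Away f) f hfK).toAlgebra
  haveI : IsScalarTower B (Localization.Away f) K :=
    IsScalarTower.of_algebraMap_eq fun x => by
      change _ = (IsLocalization.Away.lift (S := Localization.Away f) f hfK) _
      rw [IsLocalization.Away.lift_eq]
  -- injectivity of B_f → K
  have hinj' : Function.Injective (algebraMap (Localization.Away f) K) := by
    rw [injective_iff_map_eq_zero]
    intro a ha
    obtain ⟨⟨x, m⟩, hx⟩ := IsLocalization.surj (Submonoid.powers f) a
    simp only at hx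
    have h1 : algebraMap B K x = 0 := by
      rw [IsScalarTower.algebraMap_apply B (Localization.Away f) K, ← hx, map_mul, ha, zero_mul]
    have hx0 : x = 0 := hinj (h1.trans (map_zero _).symm)
    have hm : IsUnit (algebraMap B (Localization.Away f) m) := IsLocalization.map_units _ m
    rw [hx0, map_zero] at hx
    exact (hm.mul_left_eq_zero).mp hx
  -- K is integral over B_f
  haveI : Algebra.IsIntegral (Localization.Away f) K := by
    refine ⟨fun y => ?_⟩
    have hy : y ∈ Algebra.adjoin B (s : Set K) := by rw [hs]; trivial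
    have hle : Algebra.adjoin B (s : Set K) ≤
        (integralClosure (Localization.Away f) K).restrictScalars B := by
      apply Algebra.adjoin_le
      intro x hx
      change IsIntegral (Localization.Away f) x
      -- x = (b x • x) * (b x)⁻¹, and (b x) is a unit of B_f
      have hdvd : b x ∣ f := Finset.dvd_prod_of_mem b hx
      have hunit : IsUnit (algebraMap B (Localization.Away f) (b x)) := by
        have : IsUnit (algebraMap B (Localization.Away f) f) :=
          IsLocalization.map_units _ (⟨f, Submonoid.mem_powers f⟩ : Submonoid.powers f)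
        exact isUnit_of_dvd_unit (map_dvd _ hdvd) this
      obtain ⟨u, hu⟩ := hunit
      have h1 : IsIntegral (Localization.Away f) (b x • x) := (hbint x).tower_top
      have h2 : x = (↑u⁻¹ : Localization.Away f) • (b x • x) := by
        rw [Algebra.smul_def, Algebra.smul_def, ← mul_assoc,
          IsScalarTower.algebraMap_apply B (Localization.Away f) K, ← map_mul, ← hu,
          Units.inv_mul, map_one, one_mul]
      rw [h2]
      exact h1.smul _
    exact hle hy
  exact isField_of_isIntegral_of_isField hinj' (Field.toIsField K)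

end Groth.Agent.Lib.Helper8

namespace Groth.Agent.Lib.Helper8

/-- `B_f` is a field iff the only prime of `B` not containing `f` is `⊥`. -/
theorem away_isField_iff {B : Type u} [CommRing B] [IsDomain B] {f : B} (hf : f ≠ 0) :
    IsField (Localization.Away f) ↔ ∀ p : Ideal B, p.IsPrime → f ∉ p → p = ⊥ := by
  haveI : IsDomain (Localization.Away f) :=
    IsLocalization.isDomain_localization (powers_le_nonZeroDivisors_of_noZeroDivisors hf)
  constructor
  · intro h p hp hfp
    have hd : Disjoint (Submonoid.powers f : Set B) (p : Set B) := by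
      rw [Set.disjoint_left]
      rintro _ ⟨n, rfl⟩ hn
      exact hfp (hp.mem_of_pow_mem n hn)
    have hprime := IsLocalization.isPrime_of_isPrime_disjoint (Submonoid.powers f)
      (Localization.Away f) p hp hd
    have hbot : Ideal.map (algebraMap B (Localization.Away f)) p = ⊥ := by
      by_contra hne
      exact Ring.not_isField_iff_exists_prime.mpr ⟨_, hne, hprime⟩ h
    have := IsLocalization.under_map_of_isPrime_disjoint (Submonoid.powers f)
      (Localization.Away f) hp hd
    rw [hbot] at this
    rw [← this]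
    ext x
    simp only [Ideal.under, Ideal.mem_comap, Ideal.mem_bot]
    constructor
    · intro hx
      exact away_injective hf (hx.trans (map_zero _).symm)
    · rintro rfl
      exact map_zero _
  · intro h
    by_contra hnf
    obtain ⟨P, hP0, hP⟩ := Ring.not_isField_iff_exists_prime.mp hnf
    have h1 := (IsLocalization.isPrime_iff_isPrime_disjoint (Submonoid.powers f)
      (Localization.Away f) P).mp hP
    have hfP : f ∉ P.under B := by
      intro hfm
      exact Set.disjoint_left.mp h1.2 (Submonoid.mem_powers f) hfm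
    have hbot := h _ h1.1 hfP
    apply hP0
    rw [← IsLocalization.map_under (Submonoid.powers f) (Localization.Away f) P, hbot,
      Ideal.map_bot]

/-- The generic point of `Spec B` is open iff some `B_f` (`f ≠ 0`) is a field. -/
theorem isOpen_singleton_bot_iff (B : Type u) [CommRing B] [IsDomain B] :
    IsOpen ({⟨⊥, Ideal.bot_prime⟩} : Set (PrimeSpectrum B)) ↔
      ∃ f : B, f ≠ 0 ∧ IsField (Localization.Away f) := by
  constructor
  · intro h
    obtain ⟨_, ⟨f, rfl⟩, hmem, hsub⟩ :=
      PrimeSpectrum.isTopologicalBasis_basic_opens.exists_subset_of_mem_open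
        (Set.mem_singleton (⟨⊥, Ideal.bot_prime⟩ : PrimeSpectrum B)) h
    have hf : f ≠ 0 := by
      intro h0
      rw [h0] at hmem
      exact hmem (Ideal.zero_mem _)
    refine ⟨f, hf, (away_isField_iff hf).mpr ?_⟩
    intro p hp hfp
    have : (⟨p, hp⟩ : PrimeSpectrum B) ∈ ({⟨⊥, Ideal.bot_prime⟩} : Set (PrimeSpectrum B)) :=
      hsub hfp
    rw [Set.mem_singleton_iff] at this
    exact congrArg PrimeSpectrum.asIdeal this
  · rintro ⟨f, hf, h⟩
    have : ({⟨⊥, Ideal.bot_prime⟩} : Set (PrimeSpectrum B)) = PrimeSpectrum.basicOpen f := by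
      ext p
      simp only [Set.mem_singleton_iff, SetLike.mem_coe, PrimeSpectrum.mem_basicOpen]
      constructor
      · rintro rfl
        exact fun hm => hf hm
      · intro hfp
        exact PrimeSpectrum.ext ((away_isField_iff hf).mp h p.asIdeal p.2 hfp)
    rw [this]
    exact (PrimeSpectrum.basicOpen f).isOpen

end Groth.Agent.Lib.Helper8

namespace Groth.Agent.Lib.Helper8

/-- Zorn: an ideal maximal among those containing `I` and disjoint from `S`; it is prime. -/
theorem exists_maximal_prime_disjoint {α : Type u} [CommRing α] (I : Ideal α) (S : Submonoid α)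
    (disjoint : Disjoint (I : Set α) S) :
    ∃ p : Ideal α, p.IsPrime ∧ I ≤ p ∧ Disjoint (p : Set α) S ∧
      ∀ q : Ideal α, p ≤ q → Disjoint (q : Set α) S → q = p := by
  have ⟨p, hIp, hp⟩ := zorn_le_nonempty₀ {p : Ideal α | Disjoint (p : Set α) S}
    (fun c hc hc' x hx ↦ ?_) I disjoint
  · refine ⟨p, Ideal.isPrime_of_maximally_disjoint _ _ hp.1 (fun _ ↦ hp.not_prop_of_gt), hIp,
      hp.1, ?_⟩
    intro q hpq hq
    exact le_antisymm (hp.2 hq hpq) hpq
  cases isEmpty_or_nonempty c
  · exact ⟨I, disjoint, fun J hJ ↦ isEmptyElim (⟨J, hJ⟩ : c)⟩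
  refine ⟨sSup c, Set.disjoint_left.mpr fun x hx ↦ ?_, fun _ ↦ le_sSup⟩
  have ⟨p, hp⟩ := (Submodule.mem_iSup_of_directed _ hc'.directed).mp (sSup_eq_iSup' c ▸ hx)
  exact Set.disjoint_left.mp (hc p.2) hp

/-- If every non-maximal prime `p` has no `f ≠ 0` in `A/p` with `(A/p)_f` a field, then `A` is Jacobson. -/
theorem isJacobsonRing_of_forall_not_isField_away (A : Type u) [CommRing A]
    (h : ∀ (p : Ideal A) [p.IsPrime], ¬ p.IsMaximal → ∀ f : A ⧸ p, f ≠ 0 →
      ¬ IsField (Localization.Away f)) : IsJacobsonRing A := by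
  rw [isJacobsonRing_iff_prime_eq]
  intro p hp
  refine le_antisymm ?_ Ideal.le_jacobson
  intro a ha
  by_contra hap
  have hdisj : Disjoint (p : Set A) (Submonoid.powers a) := by
    rw [Set.disjoint_right]
    rintro _ ⟨n, rfl⟩ hn
    exact hap (hp.mem_of_pow_mem n hn)
  obtain ⟨q, hq, hpq, hqd, hqmax⟩ := exists_maximal_prime_disjoint p (Submonoid.powers a) hdisj
  have haq : a ∉ q := fun haq => Set.disjoint_left.mp hqd haq (Submonoid.mem_powers a)
  -- q is maximal, else contradiction with h
  have hqM : q.IsMaximal := by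
    by_contra hnm
    have hf0 : (Ideal.Quotient.mk q a) ≠ 0 := by
      rwa [Ne, Ideal.Quotient.eq_zero_iff_mem]
    refine h q hnm (Ideal.Quotient.mk q a) hf0 ?_
    rw [away_isField_iff hf0]
    intro P hP haP
    -- preimage of P in A
    have hcm : (P.comap (Ideal.Quotient.mk q)).IsPrime := Ideal.comap_isPrime _ P
    have hle : q ≤ P.comap (Ideal.Quotient.mk q) := by
      intro x hx
      rw [Ideal.mem_comap, Ideal.Quotient.eq_zero_iff_mem.mpr hx]
      exact P.zero_mem
    have hd : Disjoint ((P.comap (Ideal.Quotient.mk q) : Ideal A) : Set A) (Submonoid.powers a) := by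
      rw [Set.disjoint_right]
      rintro _ ⟨n, rfl⟩ hn
      exact haP (hcm.mem_of_pow_mem n hn)
    have heq := hqmax _ hle hd
    rw [eq_bot_iff]
    intro x hx
    obtain ⟨y, rfl⟩ := Ideal.Quotient.mk_surjective x
    have : y ∈ P.comap (Ideal.Quotient.mk q) := hx
    rw [heq] at this
    rw [Ideal.mem_bot, Ideal.Quotient.eq_zero_iff_mem]
    exact this
  rw [Ideal.jacobson, Ideal.mem_sInf] at ha
  exact haq (ha ⟨hpq, hqM⟩)

end Groth.Agent.Lib.Helper8

namespace Groth.Agent.Lib.Helper8

/-- In a Noetherian domain, if `f ≠ 0` lies in every nonzero prime, then every nonzero prime is a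
minimal prime over `(f)`. -/
theorem mem_minimalPrimes_span_of_forall_mem {B : Type u} [CommRing B] [IsDomain B]
    [IsNoetherianRing B] {f : B} (hf : f ≠ 0)
    (h : ∀ p : Ideal B, p.IsPrime → p ≠ ⊥ → f ∈ p) (p : Ideal B) [hp : p.IsPrime] (hp0 : p ≠ ⊥) :
    p ∈ (Ideal.span {f}).minimalPrimes := by
  classical
  by_contra hpm
  have hfin : (Ideal.span {f}).minimalPrimes.Finite :=
    Ideal.finite_minimalPrimes_of_isNoetherianRing B (Ideal.span {f})
  have hfp : Ideal.span {f} ≤ p := by
    rw [Ideal.span_singleton_le_iff_mem]; exact h p hp hp0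
  have hnot : ¬ ((p : Set B) ⊆ ⋃ q ∈ (hfin.toFinset : Set (Ideal B)), (id q : Ideal B)) := by
    rw [Ideal.subset_union_prime (f := id) ⊥ ⊥ (fun q hq _ _ => by
      have : q ∈ (Ideal.span {f}).minimalPrimes := hfin.mem_toFinset.mp hq
      exact this.1.1)]
    rintro ⟨q, hq, hpq⟩
    have hqm : q ∈ (Ideal.span {f}).minimalPrimes := hfin.mem_toFinset.mp hq
    have : q ≤ p := hqm.2 ⟨hp, hfp⟩ hpq
    exact hpm (le_antisymm hpq this ▸ hqm)
  rw [Set.not_subset] at hnot
  obtain ⟨x, hxp, hxn⟩ := hnot
  have hxq : ∀ q ∈ (Ideal.span {f}).minimalPrimes, x ∉ q := by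
    intro q hq hxq
    apply hxn
    simp only [Set.mem_iUnion]
    exact ⟨q, by simpa using hq, hxq⟩
  obtain ⟨q0, hq0, _⟩ := Ideal.exists_minimalPrimes_le hfp
  have hx0 : x ≠ 0 := by
    rintro rfl
    exact hxq q0 hq0 (Ideal.zero_mem _)
  have hxp' : Ideal.span {x} ≤ p := by
    rw [Ideal.span_singleton_le_iff_mem]; exact hxp
  obtain ⟨P, hP, hPp⟩ := Ideal.exists_minimalPrimes_le hxp'
  haveI hPprime : P.IsPrime := hP.1.1
  have hxP : x ∈ P := by
    have := hP.1.2
    rw [Ideal.span_singleton_le_iff_mem] at this
    exact this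
  have hht : P.height ≤ 1 :=
    Ideal.height_le_one_of_isPrincipal_of_mem_minimalPrimes (Ideal.span {x}) P hP
  have hP0 : P ≠ ⊥ := by
    rintro rfl
    exact hx0 (by simpa using hxP)
  have hfP : Ideal.span {f} ≤ P := by
    rw [Ideal.span_singleton_le_iff_mem]; exact h P hPprime hP0
  obtain ⟨q, hq, hqP⟩ := Ideal.exists_minimalPrimes_le hfP
  haveI hqprime : q.IsPrime := hq.1.1
  have hq0 : q ≠ ⊥ := by
    rintro rfl
    have := hq.1.2
    rw [Ideal.span_singleton_le_iff_mem] at this
    exact hf (by simpa using this)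
  have hqeq : q = P := by
    by_contra hne
    have hlt : q < P := lt_of_le_of_ne hqP hne
    have h1 : q.height < P.height := Ideal.height_strict_mono_of_isPrime_of_isPrime hlt
    have h2 : q.height < 1 := lt_of_lt_of_le h1 hht
    have h3 : q.height = 0 := by
      rwa [ENat.lt_one_iff_eq_zero] at h2
    exact hq0 (Ideal.height_eq_zero_iff_eq_bot.mp h3)
  exact hxq q hq (hqeq ▸ hxP)

/-- Finite spectrum (domain) implies some `B_f` is a field. -/
theorem exists_away_isField_of_finite_primeSpectrum (B : Type u) [CommRing B] [IsDomain B]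
    [Finite (PrimeSpectrum B)] : ∃ f : B, f ≠ 0 ∧ IsField (Localization.Away f) := by
  classical
  haveI := Fintype.ofFinite (PrimeSpectrum B)
  have hex : ∀ p : PrimeSpectrum B, ∃ x : B, x ≠ 0 ∧ (p.asIdeal ≠ ⊥ → x ∈ p.asIdeal) := by
    intro p
    by_cases hp : p.asIdeal = ⊥
    · exact ⟨1, one_ne_zero, fun h => absurd hp h⟩
    · obtain ⟨x, hx, hx0⟩ := Submodule.exists_mem_ne_zero_of_ne_bot hp
      exact ⟨x, hx0, fun _ => hx⟩
  choose g hg0 hg using hex
  refine ⟨∏ p, g p, Finset.prod_ne_zero_iff.mpr fun p _ => hg0 p, ?_⟩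
  rw [away_isField_iff (Finset.prod_ne_zero_iff.mpr fun p _ => hg0 p)]
  intro p hp hnp
  by_contra hp0
  apply hnp
  have := hg ⟨p, hp⟩ hp0
  exact Ideal.mem_of_dvd p (Finset.dvd_prod_of_mem g (Finset.mem_univ (⟨p, hp⟩ : PrimeSpectrum B))) this

end Groth.Agent.Lib.Helper8
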