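import Mathlib
import Groth.Agent.Lib.Helper8.EtChart
set_option autoImplicit false
open DirectSum TensorProduct

/-! Graded algebras smooth along the irrelevant ideal with free conormal module are polynomial
algebras (affine-local form of the Białynicki-Birula retraction being an affine bundle). -/


namespace Groth.Agent.Lib.Helper8.GrPoly

variable {A B : Type*} [CommRing A] [CommRing B] [Algebra A B]
variable (𝒜 : ℕ → Submodule A B) [GradedAlgebra 𝒜]

set_option quotPrecheck false in
local notation "𝓘" => HomogeneousIdeal.toIdeal (HomogeneousIdeal.irrelevant 𝒜)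

lemma mem_irr_iff (x : B) : x ∈ 𝓘 ↔ GradedAlgebra.proj 𝒜 0 x = 0 := Iff.rfl

lemma proj_proj_same (n : ℕ) (x : B) :
    GradedAlgebra.proj 𝒜 n (GradedAlgebra.proj 𝒜 n x) = GradedAlgebra.proj 𝒜 n x := by
  simp only [GradedAlgebra.proj_apply]
  exact decompose_of_mem_same 𝒜 (SetLike.coe_mem _)

lemma proj_proj_ne {n m : ℕ} (h : n ≠ m) (x : B) :
    GradedAlgebra.proj 𝒜 m (GradedAlgebra.proj 𝒜 n x) = 0 := by
  simp only [GradedAlgebra.proj_apply]
  exact decompose_of_mem_ne 𝒜 (SetLike.coe_mem _) h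

lemma proj_of_mem {n : ℕ} {x : B} (hx : x ∈ 𝒜 n) : GradedAlgebra.proj 𝒜 n x = x :=
  decompose_of_mem_same 𝒜 hx

lemma proj_of_mem_ne {n m : ℕ} {x : B} (hx : x ∈ 𝒜 n) (h : n ≠ m) :
    GradedAlgebra.proj 𝒜 m x = 0 :=
  decompose_of_mem_ne 𝒜 hx h

lemma proj_mem (n : ℕ) (x : B) : GradedAlgebra.proj 𝒜 n x ∈ 𝒜 n := SetLike.coe_mem _

lemma sub_proj_zero_mem (b : B) : b - GradedAlgebra.proj 𝒜 0 b ∈ 𝓘 := by
  rw [mem_irr_iff, map_sub, proj_proj_same, sub_self]

/-- The projection `B → 𝓘/𝓘²`, `b ↦ [b - b₀]`. -/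
noncomputable def rho : B →ₗ[A] (𝓘).Cotangent where
  toFun b := (𝓘).toCotangent ⟨b - GradedAlgebra.proj 𝒜 0 b, sub_proj_zero_mem 𝒜 b⟩
  map_add' x y := by
    rw [← map_add]
    congr 1
    ext
    simp only [map_add, Submodule.coe_add]
    ring
  map_smul' a x := by
    rw [RingHom.id_apply, ← LinearMap.map_smul_of_tower]
    congr 1
    ext
    simp only [map_smul, Submodule.coe_smul_of_tower, smul_sub]

lemma rho_apply (b : B) : rho 𝒜 b =
    (𝓘).toCotangent ⟨b - GradedAlgebra.proj 𝒜 0 b, sub_proj_zero_mem 𝒜 b⟩ := rfl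

lemma rho_of_mem {x : B} (hx : x ∈ 𝓘) : rho 𝒜 x = (𝓘).toCotangent ⟨x, hx⟩ := by
  rw [rho_apply]
  congr 1
  ext
  simp [(mem_irr_iff 𝒜 x).mp hx]

lemma rho_eq_zero_iff (x : B) : rho 𝒜 x = 0 ↔ x - GradedAlgebra.proj 𝒜 0 x ∈ 𝓘 ^ 2 :=
  Ideal.toCotangent_eq_zero _ _

lemma rho_of_mem_zero {x : B} (hx : x ∈ 𝒜 0) : rho 𝒜 x = 0 := by
  rw [rho_eq_zero_iff, proj_of_mem 𝒜 hx, sub_self]
  exact zero_mem _

lemma rho_surjective : Function.Surjective (rho 𝒜) := by
  intro v
  obtain ⟨x, rfl⟩ := Ideal.toCotangent_surjective _ v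
  exact ⟨x.1, rho_of_mem 𝒜 x.2⟩

lemma sq_isHomogeneous : (𝓘 ^ 2).IsHomogeneous 𝒜 := by
  rw [pow_two]
  exact (HomogeneousIdeal.irrelevant 𝒜).isHomogeneous.mul
    (HomogeneousIdeal.irrelevant 𝒜).isHomogeneous

lemma rho_proj_eq_zero {z : B} (hz : rho 𝒜 z = 0) (n : ℕ) :
    rho 𝒜 (GradedAlgebra.proj 𝒜 n z) = 0 := by
  rw [rho_eq_zero_iff] at hz ⊢
  have h1 := sq_isHomogeneous 𝒜 n hz
  by_cases hn : n = 0
  · subst hn
    rw [proj_proj_same, sub_self]
    exact zero_mem _
  · rw [proj_proj_ne 𝒜 hn, sub_zero]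
    have h2 : (decompose 𝒜 (z - GradedAlgebra.proj 𝒜 0 z) n : B) = GradedAlgebra.proj 𝒜 n z := by
      have := map_sub (GradedAlgebra.proj 𝒜 n) z (GradedAlgebra.proj 𝒜 0 z)
      rw [proj_proj_ne 𝒜 (Ne.symm hn), sub_zero] at this
      exact this
    rwa [h2] at h1

lemma rho_mul (x y : B) : rho 𝒜 (x * y) = x • rho 𝒜 y + y • rho 𝒜 x := by
  have hx := sub_proj_zero_mem 𝒜 x
  have hy := sub_proj_zero_mem 𝒜 y
  have h0 : GradedAlgebra.proj 𝒜 0 (x * y) =
      GradedAlgebra.proj 𝒜 0 x * GradedAlgebra.proj 𝒜 0 y :=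
    map_mul (GradedRing.projZeroRingHom 𝒜) x y
  have e1 : (GradedAlgebra.proj 𝒜 0 y) • rho 𝒜 x = y • rho 𝒜 x := by
    have := Ideal.Cotangent.smul_eq_zero_of_mem hy (rho 𝒜 x)
    rw [sub_smul, sub_eq_zero] at this
    exact this.symm
  rw [← e1, rho_apply, rho_apply, rho_apply, ← map_smul, ← map_smul, ← map_add]
  congr 1
  ext
  simp only [h0, Submodule.coe_add, Submodule.coe_smul_of_tower, smul_eq_mul]
  ring


/-- The "graded part" of an `A`-linear endomorphism `S`: `b ↦ ∑ₙ (S bₙ)ₙ`. -/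
noncomputable def T (S : B →ₗ[A] B) : B →ₗ[A] B :=
  (DirectSum.toModule A ℕ B
      (fun n => (GradedAlgebra.proj 𝒜 n) ∘ₗ S ∘ₗ (𝒜 n).subtype)) ∘ₗ
    (DirectSum.decomposeAlgEquiv 𝒜).toLinearMap

lemma T_of_mem (S : B →ₗ[A] B) {n : ℕ} {x : B} (hx : x ∈ 𝒜 n) :
    T 𝒜 S x = GradedAlgebra.proj 𝒜 n (S x) := by
  simp only [T, LinearMap.coe_comp, Function.comp_apply, AlgEquiv.toLinearMap_apply,
    DirectSum.decomposeAlgEquiv_apply, DirectSum.decompose_of_mem 𝒜 hx]
  rw [← DirectSum.lof_eq_of A, DirectSum.toModule_lof]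
  rfl

lemma rho_T (S : B →ₗ[A] B) (hS : ∀ x, rho 𝒜 (S x) = rho 𝒜 x) (b : B) :
    rho 𝒜 (T 𝒜 S b) = rho 𝒜 b := by
  induction b using DirectSum.Decomposition.inductionOn 𝒜 with
  | zero => simp
  | @homogeneous n x =>
    rw [T_of_mem 𝒜 S x.2]
    have h1 : rho 𝒜 (S x - x) = 0 := by rw [map_sub, hS, sub_self]
    have h2 := rho_proj_eq_zero 𝒜 h1 n
    rw [map_sub, map_sub, proj_of_mem 𝒜 x.2, sub_eq_zero] at h2
    exact h2
  | add x y hx hy => rw [map_add, map_add, hx, hy, map_add]

lemma proj_T (S : B →ₗ[A] B) (m : ℕ) (b : B) :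
    GradedAlgebra.proj 𝒜 m (T 𝒜 S b) = T 𝒜 S (GradedAlgebra.proj 𝒜 m b) := by
  induction b using DirectSum.Decomposition.inductionOn 𝒜 with
  | zero => simp
  | @homogeneous n x =>
    rw [T_of_mem 𝒜 S x.2]
    by_cases h : n = m
    · subst h
      rw [proj_proj_same, proj_of_mem 𝒜 x.2, T_of_mem 𝒜 S x.2]
    · rw [proj_proj_ne 𝒜 h, proj_of_mem_ne 𝒜 x.2 h, map_zero]
  | add x y hx hy => rw [map_add, map_add, hx, hy, map_add, map_add]

lemma T_eq_zero (S : B →ₗ[A] B) (hS0 : ∀ x, rho 𝒜 x = 0 → S x = 0) {b : B}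
    (hb : rho 𝒜 b = 0) : T 𝒜 S b = 0 := by
  classical
  conv_lhs => rw [← DirectSum.sum_support_decompose 𝒜 b]
  rw [map_sum]
  refine Finset.sum_eq_zero fun n _ => ?_
  rw [T_of_mem 𝒜 S (SetLike.coe_mem _)]
  have := hS0 _ (rho_proj_eq_zero 𝒜 hb n)
  rw [GradedAlgebra.proj_apply] at this
  rw [this, map_zero]

lemma T_of_mem_zero (S : B →ₗ[A] B) (hS0 : ∀ x, rho 𝒜 x = 0 → S x = 0) {x : B}
    (hx : x ∈ 𝒜 0) : T 𝒜 S x = 0 :=
  T_eq_zero 𝒜 S hS0 (rho_of_mem_zero 𝒜 hx)

/-- Products of elements of the irrelevant ideal have degree-`n` part in any subalgebra containing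
all pieces of degree `< n`. -/
lemma proj_sq_mem (Rg : Subalgebra A B) (n : ℕ) (IH : ∀ m < n, ∀ x ∈ 𝒜 m, x ∈ Rg)
    {z : B} (hz : z ∈ 𝓘 ^ 2) : GradedAlgebra.proj 𝒜 n z ∈ Rg := by
  rw [pow_two] at hz
  refine Submodule.mul_induction_on hz (fun y hy z hz => ?_) (fun x y hx hy => ?_)
  · have h1 : GradedAlgebra.proj 𝒜 n (y * z) =
        ∑ ij ∈ Finset.HasAntidiagonal.antidiagonal n, (decompose 𝒜 y ij.1 : B) * (decompose 𝒜 z ij.2 : B) := by
      rw [GradedAlgebra.proj_apply, DirectSum.decompose_mul,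
        DirectSum.coe_mul_apply_eq_sum_antidiagonal]
    rw [h1]
    refine Subalgebra.sum_mem _ fun ij hij => ?_
    rw [Finset.HasAntidiagonal.mem_antidiagonal] at hij
    by_cases h1 : ij.1 = 0
    · have : (decompose 𝒜 y ij.1 : B) = 0 := by rw [h1]; exact (mem_irr_iff 𝒜 y).mp hy
      rw [this, zero_mul]; exact zero_mem _
    by_cases h2 : ij.2 = 0
    · have : (decompose 𝒜 z ij.2 : B) = 0 := by rw [h2]; exact (mem_irr_iff 𝒜 z).mp hz
      rw [this, mul_zero]; exact zero_mem _
    exact Rg.mul_mem (IH _ (by omega) _ (SetLike.coe_mem _)) (IH _ (by omega) _ (SetLike.coe_mem _))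
  · rw [map_add]; exact Rg.add_mem hx hy

theorem exists_lifts (h0 : ∀ b : B, b ∈ 𝒜 0 ↔ b ∈ Set.range (algebraMap A B))
    {ι : Type*} (e : Module.Basis ι A (𝓘).Cotangent) :
    ∃ b : ι → B, (∀ i, b i ∈ 𝓘) ∧ (∀ i, rho 𝒜 (b i) = e i) ∧
      Function.Surjective (MvPolynomial.aeval b : MvPolynomial ι A →ₐ[A] B) := by
  choose c hc using fun i => rho_surjective 𝒜 (e i)
  set s0 : (𝓘).Cotangent →ₗ[A] B := e.constr A c with hs0
  have hs0e : ∀ i, s0 (e i) = c i := fun i => e.constr_basis A c i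
  have hsec : ∀ v, rho 𝒜 (s0 v) = v := by
    intro v
    have : (rho 𝒜) ∘ₗ s0 = LinearMap.id := e.ext fun i => by
      rw [LinearMap.comp_apply, hs0e, hc]; rfl
    exact LinearMap.congr_fun this v
  set S : B →ₗ[A] B := s0 ∘ₗ rho 𝒜 with hS
  have hS1 : ∀ x, rho 𝒜 (S x) = rho 𝒜 x := fun x => hsec _
  have hS0 : ∀ x, rho 𝒜 x = 0 → S x = 0 := fun x hx => by
    show s0 (rho 𝒜 x) = 0
    rw [hx, map_zero]
  set b : ι → B := fun i => T 𝒜 S (c i) with hb
  have hbrho : ∀ i, rho 𝒜 (b i) = e i := fun i => by rw [hb, rho_T 𝒜 S hS1, hc]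
  have hbI : ∀ i, b i ∈ 𝓘 := fun i => by
    rw [mem_irr_iff, hb, proj_T, T_of_mem_zero 𝒜 S hS0 (proj_mem 𝒜 0 _)]
  -- every value of `T` is an `A`-combination of the `b i`
  have hTspan : ∀ x, T 𝒜 S x ∈ Submodule.span A (Set.range b) := by
    intro x
    have h1 : rho 𝒜 (x - Finsupp.linearCombination A c (e.repr (rho 𝒜 x))) = 0 := by
      rw [map_sub, LinearMap.map_finsupp_linearCombination, sub_eq_zero]
      have : (rho 𝒜) ∘ c = e := funext hc
      rw [this, e.linearCombination_repr]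
    have h2 := T_eq_zero 𝒜 S hS0 h1
    rw [map_sub, sub_eq_zero, LinearMap.map_finsupp_linearCombination] at h2
    rw [h2, ← Finsupp.range_linearCombination]
    exact LinearMap.mem_range_self _ _
  have hprojspan : ∀ m, ∀ w ∈ Submodule.span A (Set.range b),
      GradedAlgebra.proj 𝒜 m w ∈ Submodule.span A (Set.range b) := by
    intro m w hw
    have : Submodule.map (GradedAlgebra.proj 𝒜 m) (Submodule.span A (Set.range b)) ≤
        Submodule.span A (Set.range b) := by
      rw [Submodule.map_span_le]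
      rintro _ ⟨i, rfl⟩
      rw [hb, proj_T]
      exact hTspan _
    exact this (Submodule.mem_map_of_mem hw)
  refine ⟨b, hbI, hbrho, ?_⟩
  set Rg : Subalgebra A B := (MvPolynomial.aeval b : MvPolynomial ι A →ₐ[A] B).range with hRg
  have hbRg : Submodule.span A (Set.range b) ≤ Subalgebra.toSubmodule Rg := by
    rw [Submodule.span_le]
    rintro _ ⟨i, rfl⟩
    exact ⟨MvPolynomial.X i, by simp⟩
  have key : ∀ n, ∀ x ∈ 𝒜 n, x ∈ Rg := by
    intro n
    induction n using Nat.strong_induction_on with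
    | _ n IH =>
      intro x hx
      by_cases hn : n = 0
      · subst hn
        obtain ⟨a, rfl⟩ := (h0 x).mp hx
        exact Rg.algebraMap_mem a
      · have hxI : x ∈ 𝓘 := HomogeneousIdeal.mem_irrelevant_of_mem 𝒜 (Nat.pos_of_ne_zero hn) hx
        set w := Finsupp.linearCombination A b (e.repr (rho 𝒜 x)) with hw
        have hwspan : w ∈ Submodule.span A (Set.range b) := by
          rw [← Finsupp.range_linearCombination]; exact LinearMap.mem_range_self _ _
        have hwI : w ∈ 𝓘 := by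
          have : Submodule.span A (Set.range b) ≤ (𝓘).restrictScalars A := by
            rw [Submodule.span_le]; rintro _ ⟨i, rfl⟩; exact hbI i
          exact this hwspan
        have h1 : rho 𝒜 (x - w) = 0 := by
          rw [map_sub, hw, LinearMap.map_finsupp_linearCombination, sub_eq_zero]
          have : (rho 𝒜) ∘ b = e := funext hbrho
          rw [this, e.linearCombination_repr]
        have h2 : x - w ∈ 𝓘 ^ 2 := by
          have := (rho_eq_zero_iff 𝒜 _).mp h1
          rwa [(mem_irr_iff 𝒜 _).mp ((𝓘).sub_mem hxI hwI), sub_zero] at this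
        have h3 := proj_sq_mem 𝒜 Rg n IH h2
        rw [map_sub, proj_of_mem 𝒜 hx] at h3
        have h4 : GradedAlgebra.proj 𝒜 n w ∈ Rg := hbRg (hprojspan n w hwspan)
        have := Rg.add_mem h3 h4
        rwa [sub_add_cancel] at this
  intro x
  classical
  rw [← DirectSum.sum_support_decompose 𝒜 x]
  have : ∑ i ∈ (decompose 𝒜 x).support, (decompose 𝒜 x i : B) ∈ Rg :=
    Subalgebra.sum_mem _ fun n _ => key n _ (SetLike.coe_mem _)
  exact this


/-- `rho` is an `A`-derivation `B → 𝓘/𝓘²`. -/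
noncomputable def rhoDer : Derivation A B (𝓘).Cotangent :=
  Derivation.mk' (rho 𝒜) (fun x y => rho_mul 𝒜 x y)

lemma rhoDer_apply (x : B) : rhoDer 𝒜 x = rho 𝒜 x := rfl

open KaehlerDifferential in
theorem bijective_linearCombination
    (h0 : ∀ b : B, b ∈ 𝒜 0 ↔ b ∈ Set.range (algebraMap A B))
    {ι : Type*} (e : Module.Basis ι A (𝓘).Cotangent) (b : ι → B)
    (hbI : ∀ i, b i ∈ 𝓘) (hb : ∀ i, rho 𝒜 (b i) = e i)
    (Q : Ideal B) [Q.IsPrime] (hQ : 𝓘 ≤ Q) :
    Function.Bijective (Finsupp.linearCombination Q.ResidueField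
      (fun i => (1 : Q.ResidueField) ⊗ₜ[B] D A B (b i))) := by
  classical
  have hres : ∀ x ∈ 𝓘, algebraMap B Q.ResidueField x = 0 := fun x hx =>
    Ideal.algebraMap_residueField_eq_zero.mpr (hQ hx)
  -- the dual functionals
  let ℓ : ι → ((𝓘).Cotangent →ₗ[B] Q.ResidueField) := fun j =>
    { toFun := fun v => algebraMap A Q.ResidueField (e.repr v j)
      map_add' := fun v w => by
        show algebraMap A Q.ResidueField (e.repr (v + w) j) = _ + _
        rw [map_add, Finsupp.add_apply, map_add]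
      map_smul' := fun x v => by
        obtain ⟨a, ha⟩ := (h0 _).mp (proj_mem 𝒜 0 x)
        have h1 : x • v = a • v := by
          have := Ideal.Cotangent.smul_eq_zero_of_mem (sub_proj_zero_mem 𝒜 x) v
          rw [sub_smul, sub_eq_zero, ← ha, algebraMap_smul] at this
          exact this
        have h2 : algebraMap B Q.ResidueField x = algebraMap A Q.ResidueField a := by
          have := hres _ (sub_proj_zero_mem 𝒜 x)
          rw [map_sub, sub_eq_zero, ← ha, ← IsScalarTower.algebraMap_apply] at this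
          exact this
        simp only [RingHom.id_apply, h1, map_smul, Finsupp.smul_apply, smul_eq_mul, map_mul,
          Algebra.smul_def, h2] }
  have hℓ : ∀ j v, ℓ j v = algebraMap A Q.ResidueField (e.repr v j) := fun _ _ => rfl
  let Ψ : ι → (Q.ResidueField ⊗[B] Ω[B⁄A] →ₗ[Q.ResidueField] Q.ResidueField) := fun j =>
    ((ℓ j) ∘ₗ (rhoDer 𝒜).liftKaehlerDifferential).liftBaseChange Q.ResidueField
  have hΨ : ∀ j i, Ψ j ((1 : Q.ResidueField) ⊗ₜ[B] D A B (b i)) = if i = j then 1 else 0 := by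
    intro j i
    simp only [Ψ, LinearMap.liftBaseChange_tmul, LinearMap.coe_comp, Function.comp_apply,
      Derivation.liftKaehlerDifferential_comp_D, rhoDer_apply, hb, hℓ, Module.Basis.repr_self,
      one_smul, Finsupp.single_apply]
    split_ifs <;> simp
  constructor
  · -- injectivity
    rw [← LinearMap.ker_eq_bot, LinearMap.ker_eq_bot']
    intro l hl
    ext j
    have := congrArg (Ψ j) hl
    rw [Finsupp.linearCombination_apply, Finsupp.sum, map_sum, map_zero] at this
    simp only [map_smul, hΨ, smul_eq_mul, mul_ite, mul_one, mul_zero] at this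
    rw [Finset.sum_ite_eq' l.support j] at this
    by_cases hj : j ∈ l.support
    · simpa [hj] using this
    · simpa using Finsupp.notMem_support_iff.mp hj
  · -- surjectivity
    rw [← LinearMap.range_eq_top]
    set W := LinearMap.range (Finsupp.linearCombination Q.ResidueField
      (fun i => (1 : Q.ResidueField) ⊗ₜ[B] D A B (b i))) with hW
    have hbW : ∀ i, (1 : Q.ResidueField) ⊗ₜ[B] D A B (b i) ∈ W := fun i =>
      ⟨Finsupp.single i 1, by simp⟩
    -- `1 ⊗ D u = 0` for `u ∈ 𝓘²`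
    have hsq : ∀ u ∈ 𝓘 ^ 2, (1 : Q.ResidueField) ⊗ₜ[B] D A B u = 0 := by
      intro u hu
      rw [pow_two] at hu
      refine Submodule.mul_induction_on hu (fun y hy z hz => ?_) (fun x y hx hy => ?_)
      · rw [Derivation.leibniz, TensorProduct.tmul_add, ← TensorProduct.smul_tmul,
          ← TensorProduct.smul_tmul, Algebra.smul_def, Algebra.smul_def, hres y hy, hres z hz]
        simp
      · rw [map_add, TensorProduct.tmul_add, hx, hy, add_zero]
    have hD : ∀ x : B, (1 : Q.ResidueField) ⊗ₜ[B] D A B x ∈ W := by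
      intro x
      obtain ⟨a, ha⟩ := (h0 _).mp (proj_mem 𝒜 0 x)
      set x' := x - GradedAlgebra.proj 𝒜 0 x with hx'
      have hx'I : x' ∈ 𝓘 := sub_proj_zero_mem 𝒜 x
      have hDx : D A B x = D A B x' := by
        rw [hx', map_sub, ← ha, Derivation.map_algebraMap, sub_zero]
      set w := Finsupp.linearCombination A b (e.repr (rho 𝒜 x')) with hw
      have hwI : w ∈ 𝓘 := by
        have : Submodule.span A (Set.range b) ≤ (𝓘).restrictScalars A := by
          rw [Submodule.span_le]; rintro _ ⟨i, rfl⟩; exact hbI i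
        apply this
        rw [← Finsupp.range_linearCombination]; exact LinearMap.mem_range_self _ _
      have h1 : rho 𝒜 (x' - w) = 0 := by
        rw [map_sub, hw, LinearMap.map_finsupp_linearCombination, sub_eq_zero]
        have : (rho 𝒜) ∘ b = e := funext hb
        rw [this, e.linearCombination_repr]
      have h2 : x' - w ∈ 𝓘 ^ 2 := by
        have := (rho_eq_zero_iff 𝒜 _).mp h1
        rwa [(mem_irr_iff 𝒜 _).mp ((𝓘).sub_mem hx'I hwI), sub_zero] at this
      have h3 := hsq _ h2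
      rw [map_sub, TensorProduct.tmul_sub, sub_eq_zero] at h3
      rw [hDx, h3, hw, Finsupp.linearCombination_apply, Finsupp.sum, map_sum,
        TensorProduct.tmul_sum]
      refine Submodule.sum_mem _ fun i _ => ?_
      rw [Derivation.map_smul, ← algebraMap_smul B, ← TensorProduct.smul_tmul]
      have : ((algebraMap A B) ((e.repr ((rho 𝒜) x')) i) • (1 : Q.ResidueField)) ⊗ₜ[B] D A B (b i) =
          (algebraMap B Q.ResidueField (algebraMap A B ((e.repr ((rho 𝒜) x')) i))) •
            ((1 : Q.ResidueField) ⊗ₜ[B] D A B (b i)) := by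
        rw [TensorProduct.smul_tmul', Algebra.smul_def, smul_eq_mul]
      rw [this]
      exact W.smul_mem _ (hbW i)
    have hone : ∀ ω : Ω[B⁄A], (1 : Q.ResidueField) ⊗ₜ[B] ω ∈ W := by
      intro ω
      have hω : ω ∈ Submodule.span B (Set.range (D A B)) := by
        rw [KaehlerDifferential.span_range_derivation]; trivial
      induction hω using Submodule.span_induction with
      | mem ω hω =>
        obtain ⟨x, rfl⟩ := hω
        exact hD x
      | zero => rw [TensorProduct.tmul_zero]; exact zero_mem _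
      | add ω₁ ω₂ _ _ h1 h2 => rw [TensorProduct.tmul_add]; exact W.add_mem h1 h2
      | smul y ω _ h =>
        have : (1 : Q.ResidueField) ⊗ₜ[B] (y • ω) =
            (algebraMap B Q.ResidueField y) • ((1 : Q.ResidueField) ⊗ₜ[B] ω) := by
          rw [← TensorProduct.smul_tmul, TensorProduct.smul_tmul', Algebra.smul_def, smul_eq_mul]
        rw [this]
        exact W.smul_mem _ h
    rw [eq_top_iff]
    rintro t -
    induction t using TensorProduct.induction_on with
    | zero => exact zero_mem _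
    | tmul c ω =>
      have h1 : c ⊗ₜ[B] ω = c • ((1 : Q.ResidueField) ⊗ₜ[B] ω) := by
        rw [TensorProduct.smul_tmul', smul_eq_mul, mul_one]
      rw [h1]
      exact W.smul_mem _ (hone ω)
    | add t₁ t₂ h1 h2 => exact W.add_mem h1 h2


theorem nonempty_algEquiv_mvPolynomial [IsNoetherianRing A] [Algebra.FiniteType A B]
    (h0 : ∀ b : B, b ∈ 𝒜 0 ↔ b ∈ Set.range (algebraMap A B))
    (hinj : Function.Injective (algebraMap A B))
    (hsm : ∀ (P : Ideal B) [P.IsPrime], 𝓘 ≤ P → Algebra.IsSmoothAt A P)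
    {ι : Type*} [Finite ι] (e : Module.Basis ι A (𝓘).Cotangent) :
    Nonempty (B ≃ₐ[A] MvPolynomial ι A) := by
  classical
  obtain ⟨b, hbI, hb, hsurj⟩ := exists_lifts 𝒜 h0 e
  letI : Algebra (MvPolynomial ι A) B :=
    (MvPolynomial.aeval b : MvPolynomial ι A →ₐ[A] B).toRingHom.toAlgebra
  haveI : IsScalarTower A (MvPolynomial ι A) B :=
    .of_algebraMap_eq' (MvPolynomial.aeval b : MvPolynomial ι A →ₐ[A] B).comp_algebraMap.symm
  haveI : Algebra.FinitePresentation A B := Algebra.FinitePresentation.of_finiteType.mp inferInstance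
  haveI : Algebra.FinitePresentation (MvPolynomial ι A) B :=
    .of_restrict_scalars_finitePresentation A _ _
  have hmap : ∀ q, algebraMap (MvPolynomial ι A) B q = MvPolynomial.aeval b q := fun _ => rfl
  have hstar : ∀ g : MvPolynomial ι A, GradedAlgebra.proj 𝒜 0 (MvPolynomial.aeval b g) =
      algebraMap A B (MvPolynomial.constantCoeff g) := by
    intro g
    have : (GradedRing.projZeroRingHom 𝒜).comp
        (MvPolynomial.aeval b : MvPolynomial ι A →ₐ[A] B).toRingHom =
        (algebraMap A B).comp MvPolynomial.constantCoeff := by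
      apply MvPolynomial.ringHom_ext
      · intro a
        have : algebraMap A B a ∈ 𝒜 0 := (h0 _).mpr ⟨a, rfl⟩
        simpa using proj_of_mem 𝒜 this
      · intro i
        simpa using (mem_irr_iff 𝒜 _).mp (hbI i)
    exact RingHom.congr_fun this g
  have hcc : ∀ g : MvPolynomial ι A, MvPolynomial.aeval b g ∈ 𝓘 →
      MvPolynomial.constantCoeff g = 0 := by
    intro g hg
    apply hinj
    rw [← hstar, (mem_irr_iff 𝒜 _).mp hg, map_zero]
  have hker : ∀ f : MvPolynomial ι A, MvPolynomial.aeval b f = 0 → f = 0 := by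
    intro f hf
    let 𝔞 : Ideal (MvPolynomial ι A) := LinearMap.ker (LinearMap.mulRight (MvPolynomial ι A) f)
    have h𝔞 : ∀ g, g ∈ 𝔞 ↔ g * f = 0 := fun g => by
      simp only [𝔞, LinearMap.mem_ker, LinearMap.mulRight_apply]
    let Sp : Ideal (MvPolynomial ι A) :=
      RingHom.ker (MvPolynomial.constantCoeff : MvPolynomial ι A →+* A)
    by_cases htop : 𝔞 ⊔ Sp = ⊤
    · have h1 : (1 : MvPolynomial ι A) ∈ 𝔞 ⊔ Sp := by rw [htop]; trivial
      obtain ⟨g, hg, s, hs, hgs⟩ := Submodule.mem_sup.mp h1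
      have hgc : MvPolynomial.constantCoeff g = 1 := by
        have := congrArg MvPolynomial.constantCoeff hgs
        rw [map_add, RingHom.mem_ker.mp hs, add_zero, map_one] at this
        exact this
      have hu : IsUnit (g : MvPowerSeries ι A) := by
        rw [MvPowerSeries.isUnit_iff_constantCoeff, ← MvPowerSeries.coeff_zero_eq_constantCoeff_apply,
          MvPolynomial.coeff_coe, ← MvPolynomial.constantCoeff_eq, hgc]
        exact isUnit_one
      have h2 : (g : MvPowerSeries ι A) * (f : MvPowerSeries ι A) = 0 := by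
        rw [← MvPolynomial.coe_mul, (h𝔞 g).mp hg, MvPolynomial.coe_zero]
      exact MvPolynomial.coe_eq_zero_iff.mp ((IsUnit.mul_right_eq_zero hu).mp h2)
    · exfalso
      obtain ⟨P, hPmax, hP⟩ := Ideal.exists_le_maximal _ htop
      haveI := hPmax.isPrime
      have hSpP : Sp ≤ P := le_trans le_sup_right hP
      have h𝔞P : 𝔞 ≤ P := le_trans le_sup_left hP
      have hkerP : RingHom.ker (algebraMap (MvPolynomial ι A) B) ≤ P := by
        intro g hg
        apply hSpP
        rw [RingHom.mem_ker, hmap] at hg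
        exact RingHom.mem_ker.mpr (hcc g (by rw [hg]; exact zero_mem _))
      haveI hQprime : (P.map (algebraMap (MvPolynomial ι A) B)).IsPrime :=
        Ideal.map_isPrime_of_surjective (f := algebraMap (MvPolynomial ι A) B) hsurj hkerP
      have hQ : 𝓘 ≤ P.map (algebraMap (MvPolynomial ι A) B) := by
        intro x hx
        obtain ⟨g, rfl⟩ := hsurj x
        exact Ideal.mem_map_of_mem _ (hSpP (RingHom.mem_ker.mpr (hcc g hx)))
      haveI := hsm _ hQ
      haveI : Algebra.IsEtaleAt (MvPolynomial ι A) (P.map (algebraMap (MvPolynomial ι A) B)) := by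
        refine EtChart.isEtaleAt_of_basis _ (KaehlerDifferential.mvPolynomialBasis A ι)
          MvPolynomial.X (fun i => by simp) ?_
        simpa [hmap] using bijective_linearCombination 𝒜 h0 e b hbI hb _ hQ
      obtain ⟨h, hhQ, het⟩ := Algebra.exists_etale_of_isEtaleAt (R := MvPolynomial ι A)
        (P.map (algebraMap (MvPolynomial ι A) B))
      have hrel0 : algebraMap (MvPolynomial ι A) (Localization.Away h) f = 0 := by
        rw [IsScalarTower.algebraMap_apply (MvPolynomial ι A) B, hmap, hf, map_zero]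
      obtain ⟨k, a, y, hay, hfa⟩ := Module.Flat.isTrivialRelation_of_sum_smul_eq_zero
        (R := MvPolynomial ι A) (M := Localization.Away h) (ι := Unit) (f := fun _ => f)
        (x := fun _ => 1) (by
          simp only [Finset.univ_unique, Finset.sum_singleton]
          rw [Algebra.smul_def, mul_one, hrel0])
      have hone : (1 : Localization.Away h) ∈
          (P.map (algebraMap (MvPolynomial ι A) B)).map (algebraMap B (Localization.Away h)) := by
        have h1' : (1 : Localization.Away h) = ∑ j, a () j • y j := hay ()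
        rw [h1']
        refine Ideal.sum_mem _ fun j _ => ?_
        have haj : a () j ∈ P := h𝔞P ((h𝔞 _).mpr (by
          have := hfa j
          simp only [Finset.univ_unique, Finset.sum_singleton] at this
          rw [mul_comm]; exact this))
        rw [Algebra.smul_def, IsScalarTower.algebraMap_apply (MvPolynomial ι A) B]
        exact Ideal.mul_mem_right _ _
          (Ideal.mem_map_of_mem _ (Ideal.mem_map_of_mem _ haj))
      have hne := (IsLocalization.map_algebraMap_ne_top_iff_disjoint (Submonoid.powers h)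
        (Localization.Away h) (P.map (algebraMap (MvPolynomial ι A) B))).mpr
        ((Ideal.disjoint_powers_iff_notMem_of_isPrime h).mpr hhQ)
      exact hne ((Ideal.eq_top_iff_one _).mpr hone)
  have hbij : Function.Bijective (MvPolynomial.aeval b : MvPolynomial ι A →ₐ[A] B) :=
    ⟨(injective_iff_map_eq_zero _).mpr hker, hsurj⟩
  exact ⟨(AlgEquiv.ofBijective _ hbij).symm⟩

end Groth.Agent.Lib.Helper8.GrPoly
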