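import Mathlib

/-!
# Graded quotients of base-changed filtrations: algebra, part A (helper8)

* `Yequiv` : the module `F_N / F_{N'}` (image of `C ⊗ N` in `(C ⊗ M)/im(C ⊗ N')`) is the image of
  `C ⊗ N → C ⊗ (M/N')`.
* `exists_Xequiv` : images of base-changed maps commute with flat base change.
* `tensorModule` : the `D ⊗ B₀`-module structure on `D ⊗ M₀`; finiteness; the image of
  `D ⊗ I M₀` is `(I (D ⊗ B₀)) (D ⊗ M₀)`.
-/

set_option autoImplicit false
universe u
open TensorProduct

namespace Groth.Agent.Lib.Helper8.GrStratAlgA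

section Y

variable {R : Type u} [CommRing R] {M : Type u} [AddCommGroup M] [Module R M]
  (C : Type u) [CommRing C] [Algebra R C] (N' N : Submodule R M)

theorem ker_baseChange_mkQ :
    LinearMap.ker (N'.mkQ.baseChange C) = LinearMap.range (N'.subtype.baseChange C) := by
  have hex : Function.Exact (N'.subtype.lTensor C) (N'.mkQ.lTensor C) :=
    lTensor_exact C (LinearMap.exact_subtype_mkQ N') (Submodule.mkQ_surjective N')
  ext x
  rw [LinearMap.mem_ker, LinearMap.mem_range]
  exact hex x

/-- the map `(C ⊗ M) ⧸ im(C ⊗ N') → C ⊗ (M ⧸ N')` -/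
noncomputable def ebar :
    ((C ⊗[R] M) ⧸ LinearMap.range (N'.subtype.baseChange C)) →ₗ[C] C ⊗[R] (M ⧸ N') :=
  (LinearMap.range (N'.subtype.baseChange C)).liftQ (N'.mkQ.baseChange C)
    (le_of_eq (ker_baseChange_mkQ C N').symm)

theorem ebar_injective : Function.Injective (ebar C N') := by
  rw [← LinearMap.ker_eq_bot]
  exact Submodule.ker_liftQ_eq_bot _ _ _ (le_of_eq (ker_baseChange_mkQ C N'))

theorem map_ebar_Q :
    (Submodule.map (LinearMap.range (N'.subtype.baseChange C)).mkQ
        (LinearMap.range (N.subtype.baseChange C))).map (ebar C N') =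
      LinearMap.range ((N'.mkQ ∘ₗ N.subtype).baseChange C) := by
  have h1 : (ebar C N') ∘ₗ (LinearMap.range (N'.subtype.baseChange C)).mkQ =
      N'.mkQ.baseChange C := Submodule.liftQ_mkQ _ _ _
  rw [← Submodule.map_comp, h1, LinearMap.baseChange_comp, LinearMap.range_comp]

/-- **Y** -/
noncomputable def Yequiv :
    ↥(Submodule.map (LinearMap.range (N'.subtype.baseChange C)).mkQ
        (LinearMap.range (N.subtype.baseChange C))) ≃ₗ[C]
      ↥(LinearMap.range ((N'.mkQ ∘ₗ N.subtype).baseChange C)) :=
  (Submodule.equivMapOfInjective (ebar C N') (ebar_injective C N') _).trans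
    (LinearEquiv.ofEq _ _ (map_ebar_Q C N' N))

end Y

section X

variable {R : Type u} [CommRing R] {N P : Type u} [AddCommGroup N] [Module R N]
  [AddCommGroup P] [Module R P] (v : N →ₗ[R] P)
  (D A : Type u) [CommRing D] [CommRing A] [Algebra R D] [Algebra R A] [Algebra D A]
  [IsScalarTower R D A]

theorem cancel_nat (z : A ⊗[D] (D ⊗[R] N)) :
    (AlgebraTensorModule.cancelBaseChange R D A A P) (((v.baseChange D).baseChange A) z) =
      (v.baseChange A) ((AlgebraTensorModule.cancelBaseChange R D A A N) z) := by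
  induction z using TensorProduct.induction_on with
  | zero => simp
  | add x y hx hy => simp only [map_add, hx, hy]
  | tmul a y =>
    induction y using TensorProduct.induction_on with
    | zero => simp
    | add x y hx hy => simp only [tmul_add, map_add, hx, hy]
    | tmul d n =>
      simp only [LinearMap.baseChange_tmul, AlgebraTensorModule.cancelBaseChange_tmul]

variable [Module.Flat D A]

/-- **X** -/
theorem exists_Xequiv :
    Nonempty ((A ⊗[D] ↥(LinearMap.range (v.baseChange D))) ≃ₗ[A]
      ↥(LinearMap.range (v.baseChange A))) := by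
  let ψ : A ⊗[D] ↥(LinearMap.range (v.baseChange D)) →ₗ[A] A ⊗[R] P :=
    (AlgebraTensorModule.cancelBaseChange R D A A P).toLinearMap ∘ₗ
      ((LinearMap.range (v.baseChange D)).subtype.baseChange A)
  have hinj : Function.Injective ψ := by
    refine (AlgebraTensorModule.cancelBaseChange R D A A P).injective.comp ?_
    exact Module.Flat.lTensor_preserves_injective_linearMap (M := A)
      (LinearMap.range (v.baseChange D)).subtype (Submodule.injective_subtype _)
  have hρ : Function.Surjective ((v.baseChange D).rangeRestrict.baseChange A) :=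
    LinearMap.lTensor_surjective A (LinearMap.surjective_rangeRestrict _)
  have hcomp : ψ ∘ₗ ((v.baseChange D).rangeRestrict.baseChange A) =
      (v.baseChange A) ∘ₗ (AlgebraTensorModule.cancelBaseChange R D A A N).toLinearMap := by
    refine LinearMap.ext fun z => ?_
    have h2 : ((LinearMap.range (v.baseChange D)).subtype.baseChange A)
        (((v.baseChange D).rangeRestrict.baseChange A) z) = ((v.baseChange D).baseChange A) z := by
      rw [← LinearMap.comp_apply, ← LinearMap.baseChange_comp]
      rfl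
    simp only [LinearMap.comp_apply, ψ, LinearEquiv.coe_coe, h2]
    exact cancel_nat v D A z
  have hr : LinearMap.range ψ = LinearMap.range (v.baseChange A) := by
    rw [← LinearMap.range_comp_of_range_eq_top ψ (LinearMap.range_eq_top.mpr hρ), hcomp,
      LinearMap.range_comp_of_range_eq_top _
        (LinearMap.range_eq_top.mpr (LinearEquiv.surjective _))]
  exact ⟨(LinearEquiv.ofInjective ψ hinj).trans (LinearEquiv.ofEq _ _ hr)⟩

end X

section C

variable {R : Type u} [CommRing R] (D : Type u) [CommRing D] [Algebra R D]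
  (B₀ : Type u) [CommRing B₀] [Algebra R B₀]
  (M₀ : Type u) [AddCommGroup M₀] [Module B₀ M₀] [Module R M₀] [IsScalarTower R B₀ M₀]

/-- the action of `D ⊗ B₀` on `D ⊗ M₀` -/
noncomputable def actHom : D ⊗[R] B₀ →ₐ[D] Module.End D (D ⊗[R] M₀) :=
  (LinearMap.tensorProductEnd R D M₀).comp
    (Algebra.TensorProduct.map (AlgHom.id D D) (Algebra.lsmul R R M₀))

theorem actHom_tmul_tmul (d : D) (b : B₀) (d' : D) (m : M₀) :
    actHom D B₀ M₀ (d ⊗ₜ[R] b) (d' ⊗ₜ[R] m) = (d * d') ⊗ₜ[R] (b • m) := by
  simp only [actHom, AlgHom.comp_apply, Algebra.TensorProduct.map_tmul, AlgHom.coe_id, id_eq,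
    LinearMap.tensorProductEnd_apply]
  rw [TensorProduct.liftAux_tmul]
  simp [TensorProduct.smul_tmul']

/-- the `D ⊗ B₀`-module structure on `D ⊗ M₀` -/
@[reducible] noncomputable def tensorModule : Module (D ⊗[R] B₀) (D ⊗[R] M₀) :=
  Module.compHom _ (actHom (R := R) D B₀ M₀).toRingHom

attribute [local instance] tensorModule

theorem smul_def (x : D ⊗[R] B₀) (t : D ⊗[R] M₀) : x • t = actHom D B₀ M₀ x t := rfl

theorem tmul_smul_tmul (d : D) (b : B₀) (d' : D) (m : M₀) :
    (d ⊗ₜ[R] b : D ⊗[R] B₀) • (d' ⊗ₜ[R] m : D ⊗[R] M₀) = (d * d') ⊗ₜ (b • m) :=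
  actHom_tmul_tmul D B₀ M₀ d b d' m

theorem isScalarTower_tensor : IsScalarTower D (D ⊗[R] B₀) (D ⊗[R] M₀) :=
  ⟨fun d x t => by
    rw [smul_def, smul_def, map_smul]
    rfl⟩

attribute [local instance] isScalarTower_tensor

theorem finite_tensor [Module.Finite B₀ M₀] : Module.Finite (D ⊗[R] B₀) (D ⊗[R] M₀) := by
  classical
  obtain ⟨s, hs⟩ := (Module.Finite.fg_top : (⊤ : Submodule B₀ M₀).FG)
  refine ⟨⟨s.image (fun m => (1 : D) ⊗ₜ[R] m), ?_⟩⟩
  rw [eq_top_iff]
  rintro t -
  induction t using TensorProduct.induction_on with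
  | zero => exact zero_mem _
  | add x y hx hy => exact add_mem hx hy
  | tmul d m =>
    have hm : m ∈ Submodule.span B₀ (s : Set M₀) := by rw [hs]; trivial
    induction hm using Submodule.span_induction generalizing d with
    | mem x hx =>
      have : (d ⊗ₜ[R] x : D ⊗[R] M₀) =
          (d ⊗ₜ[R] (1 : B₀) : D ⊗[R] B₀) • ((1 : D) ⊗ₜ[R] x : D ⊗[R] M₀) := by
        rw [tmul_smul_tmul, mul_one, one_smul]
      rw [this]
      refine Submodule.smul_mem _ _ (Submodule.subset_span ?_)
      rw [Finset.coe_image]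
      exact ⟨x, hx, rfl⟩
    | zero => rw [tmul_zero]; exact zero_mem _
    | add x y _ _ hx hy => rw [tmul_add]; exact add_mem (hx d) (hy d)
    | smul b x _ hx =>
      have : (d ⊗ₜ[R] (b • x) : D ⊗[R] M₀) =
          ((1 : D) ⊗ₜ[R] b : D ⊗[R] B₀) • (d ⊗ₜ[R] x : D ⊗[R] M₀) := by
        rw [tmul_smul_tmul, one_mul]
      rw [this]
      exact Submodule.smul_mem _ _ (hx d)

theorem range_eq_smul_top (I : Ideal B₀) :
    LinearMap.range (((I • (⊤ : Submodule B₀ M₀)).restrictScalars R).subtype.baseChange D) =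
      ((I.map (Algebra.TensorProduct.includeRight : B₀ →ₐ[R] D ⊗[R] B₀) •
        (⊤ : Submodule (D ⊗[R] B₀) (D ⊗[R] M₀))).restrictScalars D) := by
  apply le_antisymm
  · rintro _ ⟨z, rfl⟩
    rw [Submodule.restrictScalars_mem]
    induction z using TensorProduct.induction_on with
    | zero => rw [map_zero]; exact zero_mem _
    | add x y hx hy => rw [map_add]; exact add_mem hx hy
    | tmul d n =>
      rw [LinearMap.baseChange_tmul]
      have hn : (n : M₀) ∈ I • (⊤ : Submodule B₀ M₀) := n.2
      show d ⊗ₜ[R] (n : M₀) ∈ _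
      have hall : ∀ d : D, d ⊗ₜ[R] (n : M₀) ∈
          (I.map (Algebra.TensorProduct.includeRight : B₀ →ₐ[R] D ⊗[R] B₀) •
            (⊤ : Submodule (D ⊗[R] B₀) (D ⊗[R] M₀))) := by
        refine Submodule.smul_induction_on (p := fun n : M₀ => ∀ d : D, d ⊗ₜ[R] n ∈
          (I.map (Algebra.TensorProduct.includeRight : B₀ →ₐ[R] D ⊗[R] B₀) •
            (⊤ : Submodule (D ⊗[R] B₀) (D ⊗[R] M₀)))) hn ?_ ?_
        · intro r hr m _ d
          have : (d ⊗ₜ[R] (r • m) : D ⊗[R] M₀) =
              ((1 : D) ⊗ₜ[R] r : D ⊗[R] B₀) • (d ⊗ₜ[R] m : D ⊗[R] M₀) := by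
            rw [tmul_smul_tmul, one_mul]
          rw [this]
          exact Submodule.smul_mem_smul (Ideal.mem_map_of_mem _ hr) trivial
        · intro x y hx hy d
          rw [tmul_add]; exact add_mem (hx d) (hy d)
      exact hall d
  · intro t ht
    rw [Submodule.restrictScalars_mem] at ht
    have key : ∀ r ∈ I.map (Algebra.TensorProduct.includeRight : B₀ →ₐ[R] D ⊗[R] B₀),
        ∀ t : D ⊗[R] M₀, r • t ∈ LinearMap.range
          (((I • (⊤ : Submodule B₀ M₀)).restrictScalars R).subtype.baseChange D) := by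
      intro r hr
      rw [Ideal.map] at hr
      induction hr using Submodule.span_induction with
      | mem r hr =>
        obtain ⟨j, hj, rfl⟩ := hr
        intro t
        induction t using TensorProduct.induction_on with
        | zero => rw [smul_zero]; exact zero_mem _
        | add x y hx hy => rw [smul_add]; exact add_mem hx hy
        | tmul d m =>
          refine ⟨d ⊗ₜ[R] ⟨j • m, Submodule.smul_mem_smul hj trivial⟩, ?_⟩
          rw [LinearMap.baseChange_tmul]
          show d ⊗ₜ[R] (j • m) = ((1 : D) ⊗ₜ[R] j : D ⊗[R] B₀) • (d ⊗ₜ[R] m : D ⊗[R] M₀)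
          rw [tmul_smul_tmul, one_mul]
      | zero => intro t; rw [zero_smul]; exact zero_mem _
      | add x y _ _ hx hy => intro t; rw [add_smul]; exact add_mem (hx t) (hy t)
      | smul a x _ hx =>
        intro t
        rw [smul_eq_mul, mul_comm, mul_smul]
        exact hx (a • t)
    refine Submodule.smul_induction_on ht ?_ ?_
    · intro r hr t _
      exact key r hr t
    · intro x y hx hy
      exact add_mem hx hy

end C

end Groth.Agent.Lib.Helper8.GrStratAlgA
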