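import Mathlib
import Groth.Agent.Lib.Helper14.NormFlatGen
import Groth.Agent.Lib.Helper8.GrStratAlgA

/-!
# Generic flatness of graded quotients of base-changed filtrations (helper8)

* `domain_gr` : over a Noetherian domain `D`, for a finite module `T` over a finite type
  `D`-algebra `B` and an ideal `J` of `B`, all `JⁿT/Jⁿ⁺¹T` become flat after inverting one nonzero
  element of `D` (and any multiple of it).
* `GF` : the statement needed for the stratification.
-/

set_option autoImplicit false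
set_option linter.style.haveILetI false
universe u
open TensorProduct

namespace Groth.Agent.Lib.Helper8.GrStratAlgB

open Groth.Agent.Lib.Helper14.NormFlatGen Groth.Agent.Lib.Helper28.GenFree
open Groth.Agent.Lib.Helper8.GrStratAlgA

section dom

variable (D : Type u) [CommRing D] [IsDomain D] [IsNoetherianRing D]
  (B : Type u) [CommRing B] [Algebra D B] [Algebra.FiniteType D B] (J : Ideal B)
  (T : Type u) [AddCommGroup T] [Module B T] [Module D T] [IsScalarTower D B T] [Module.Finite B T]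

set_option synthInstance.maxHeartbeats 400000 in
set_option maxHeartbeats 1600000 in
theorem domain_gr : ∃ f : D, f ≠ 0 ∧ ∀ g : D, f ∣ g → ∀ n : ℕ,
    Module.Flat (Localization.Away g) (Localization.Away g ⊗[D]
      (↥(J ^ n • (⊤ : Submodule B T)) ⧸
        (J • ⊤ : Submodule B ↥(J ^ n • (⊤ : Submodule B T))))) := by
  haveI : IsNoetherianRing B := Algebra.FiniteType.isNoetherianRing D B
  letI : Module D (GrM B J T) := Module.compHom _ (algebraMap D B)
  haveI : IsScalarTower D B (GrM B J T) := IsScalarTower.of_algebraMap_smul fun _ _ => rfl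
  haveI : IsScalarTower D (reesAlgebra J ⧸ Ideal.map (algebraMap B (reesAlgebra J)) J)
      (GrM B J T) := ⟨fun d s g => by
    rw [← algebraMap_smul B d s, smul_assoc]
    rfl⟩
  haveI : Algebra.FiniteType D (reesAlgebra J) :=
    Algebra.FiniteType.trans (inferInstance : Algebra.FiniteType D B)
      (inferInstance : Algebra.FiniteType B (reesAlgebra J))
  haveI : Algebra.FiniteType D (reesAlgebra J ⧸ Ideal.map (algebraMap B (reesAlgebra J)) J) :=
    Algebra.FiniteType.of_surjective
      (Ideal.Quotient.mkₐ D (Ideal.map (algebraMap B (reesAlgebra J)) J))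
      Ideal.Quotient.mk_surjective
  obtain ⟨fb, hfb, hfree⟩ := genFree_finiteType (R := D)
    (S := reesAlgebra J ⧸ Ideal.map (algebraMap B (reesAlgebra J)) J) (GrM B J T)
  refine ⟨fb, hfb, fun g hg n => ?_⟩
  have hfg : FreeAt g (GrM B J T) := hfree.of_dvd hg
  haveI : Module.Free (Localization.Away g) (Localization.Away g ⊗[D] GrM B J T) := hfg
  have hb : ((GrM.π B J T n).restrictScalars D) ∘ₗ ((GrM.ι B J T n).restrictScalars D) =
      LinearMap.id := LinearMap.ext fun x => GrM.π_ι B J T n x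
  refine Module.Flat.of_retract
    (((GrM.ι B J T n).restrictScalars D).baseChange (Localization.Away g))
    (((GrM.π B J T n).restrictScalars D).baseChange (Localization.Away g)) ?_
  rw [← LinearMap.baseChange_comp, hb, LinearMap.baseChange_id]

/-- **Z** -/
theorem exists_Zequiv (n : ℕ) (F F' : Submodule D T)
    (hF : F = (J ^ n • (⊤ : Submodule B T)).restrictScalars D)
    (hF' : F' = (J ^ (n + 1) • (⊤ : Submodule B T)).restrictScalars D) :
    Nonempty (↥(Submodule.map F'.mkQ F) ≃ₗ[D]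
      (↥(J ^ n • (⊤ : Submodule B T)) ⧸
        (J • ⊤ : Submodule B ↥(J ^ n • (⊤ : Submodule B T))))) := by
  subst hF hF'
  let α : ↥(J ^ n • (⊤ : Submodule B T)) →ₗ[D]
      ↥(Submodule.map ((J ^ (n + 1) • (⊤ : Submodule B T)).restrictScalars D).mkQ
        ((J ^ n • (⊤ : Submodule B T)).restrictScalars D)) :=
    { toFun := fun x => ⟨Submodule.Quotient.mk x.1, Submodule.mem_map.2 ⟨x.1, x.2, rfl⟩⟩
      map_add' := fun x y => rfl
      map_smul' := fun d x => rfl }
  have hα : Function.Surjective α := by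
    rintro ⟨_, ⟨x, hx, rfl⟩⟩
    exact ⟨⟨x, hx⟩, rfl⟩
  have hpow : (J ^ (n + 1) • (⊤ : Submodule B T)) = J • (J ^ n • (⊤ : Submodule B T)) := by
    rw [pow_succ', Submodule.mul_smul]
  have hmap : (J • ⊤ : Submodule B ↥(J ^ n • (⊤ : Submodule B T))).map
      (J ^ n • (⊤ : Submodule B T)).subtype = J • (J ^ n • (⊤ : Submodule B T)) := by
    rw [Submodule.map_smul'', Submodule.map_subtype_top]
  have hker : LinearMap.ker α =
      (J • ⊤ : Submodule B ↥(J ^ n • (⊤ : Submodule B T))).restrictScalars D := by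
    ext x
    rw [LinearMap.mem_ker, Submodule.restrictScalars_mem]
    have h1 : α x = 0 ↔ (x : T) ∈ J ^ (n + 1) • (⊤ : Submodule B T) := by
      rw [Subtype.ext_iff]
      show (Submodule.Quotient.mk (x : T) : T ⧸ _) = 0 ↔ _
      rw [Submodule.Quotient.mk_eq_zero, Submodule.restrictScalars_mem]
    rw [h1, hpow, ← hmap]
    constructor
    · rintro ⟨y, hy, hxy⟩
      have : y = x := Subtype.ext hxy
      rwa [← this]
    · intro hx
      exact ⟨x, hx, rfl⟩
  exact ⟨(LinearMap.quotKerEquivOfSurjective α hα).symm.trans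
    ((Submodule.quotEquivOfEq _ _ hker).trans (Submodule.Quotient.restrictScalarsEquiv D _))⟩

end dom

attribute [local instance] Groth.Agent.Lib.Helper8.GrStratAlgA.tensorModule
attribute [local instance] Groth.Agent.Lib.Helper8.GrStratAlgA.isScalarTower_tensor

set_option synthInstance.maxHeartbeats 400000 in
set_option maxHeartbeats 1600000 in
/-- **generic flatness of the graded quotients**, in the form of the statement -/
theorem GF {R : Type u} [CommRing R] [IsNoetherianRing R] (p : Ideal R) [p.IsPrime]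
    {B₀ : Type u} [CommRing B₀] [Algebra R B₀] [Algebra.FiniteType R B₀] (J₀ : Ideal B₀)
    (M₀ : Type u) [AddCommGroup M₀] [Module B₀ M₀] [Module R M₀] [IsScalarTower R B₀ M₀]
    [Module.Finite B₀ M₀] :
    ∃ f : R, f ∉ p ∧ ∀ g : R, f ∣ g → ∀ n : ℕ,
      Module.Flat (Localization.Away (Ideal.Quotient.mk p g))
        ↥(Submodule.map
            (LinearMap.range (LinearMap.baseChange (Localization.Away (Ideal.Quotient.mk p g))
              ((J₀ ^ (n + 1) • (⊤ : Submodule B₀ M₀)).restrictScalars R).subtype)).mkQ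
            (LinearMap.range (LinearMap.baseChange (Localization.Away (Ideal.Quotient.mk p g))
              ((J₀ ^ n • (⊤ : Submodule B₀ M₀)).restrictScalars R).subtype))) := by
  haveI : IsDomain (R ⧸ p) := Ideal.Quotient.isDomain p
  haveI : Module.Finite ((R ⧸ p) ⊗[R] B₀) ((R ⧸ p) ⊗[R] M₀) := finite_tensor (R ⧸ p) B₀ M₀
  obtain ⟨fb, hfb, hflat⟩ := domain_gr (R ⧸ p) ((R ⧸ p) ⊗[R] B₀)
    (J₀.map (Algebra.TensorProduct.includeRight : B₀ →ₐ[R] (R ⧸ p) ⊗[R] B₀)) ((R ⧸ p) ⊗[R] M₀)
  obtain ⟨f, rfl⟩ := Ideal.Quotient.mk_surjective fb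
  refine ⟨f, fun hf => hfb (Ideal.Quotient.eq_zero_iff_mem.mpr hf), fun g hfg n => ?_⟩
  have hdvd : Ideal.Quotient.mk p f ∣ Ideal.Quotient.mk p g := map_dvd _ hfg
  have h1 := hflat _ hdvd n
  haveI : Module.Flat (R ⧸ p) (Localization.Away (Ideal.Quotient.mk p g)) :=
    IsLocalization.flat _ (Submonoid.powers (Ideal.Quotient.mk p g))
  -- notation
  obtain ⟨eX⟩ := exists_Xequiv
    (((J₀ ^ (n + 1) • (⊤ : Submodule B₀ M₀)).restrictScalars R).mkQ ∘ₗ
      ((J₀ ^ n • (⊤ : Submodule B₀ M₀)).restrictScalars R).subtype)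
    (R ⧸ p) (Localization.Away (Ideal.Quotient.mk p g))
  have hF : ∀ k : ℕ, LinearMap.range
      (((J₀ ^ k • (⊤ : Submodule B₀ M₀)).restrictScalars R).subtype.baseChange (R ⧸ p)) =
      (((J₀.map (Algebra.TensorProduct.includeRight : B₀ →ₐ[R] (R ⧸ p) ⊗[R] B₀)) ^ k •
        (⊤ : Submodule ((R ⧸ p) ⊗[R] B₀) ((R ⧸ p) ⊗[R] M₀))).restrictScalars (R ⧸ p)) := by
    intro k
    rw [range_eq_smul_top, Ideal.map_pow]
  obtain ⟨eZ⟩ := exists_Zequiv (R ⧸ p) ((R ⧸ p) ⊗[R] B₀)
    (J₀.map (Algebra.TensorProduct.includeRight : B₀ →ₐ[R] (R ⧸ p) ⊗[R] B₀)) ((R ⧸ p) ⊗[R] M₀) n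
    _ _ (hF n) (hF (n + 1))
  let eD := (Yequiv (R ⧸ p) ((J₀ ^ (n + 1) • (⊤ : Submodule B₀ M₀)).restrictScalars R)
    ((J₀ ^ n • (⊤ : Submodule B₀ M₀)).restrictScalars R)).symm.trans eZ
  haveI h2 : Module.Flat (Localization.Away (Ideal.Quotient.mk p g))
      (Localization.Away (Ideal.Quotient.mk p g) ⊗[R ⧸ p]
        ↥(LinearMap.range ((((J₀ ^ (n + 1) • (⊤ : Submodule B₀ M₀)).restrictScalars R).mkQ ∘ₗ
          ((J₀ ^ n • (⊤ : Submodule B₀ M₀)).restrictScalars R).subtype).baseChange (R ⧸ p)))) :=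
    Module.Flat.of_linearEquiv
      (TensorProduct.AlgebraTensorModule.congr
        (LinearEquiv.refl (Localization.Away (Ideal.Quotient.mk p g))
          (Localization.Away (Ideal.Quotient.mk p g))) eD)
  haveI h3 : Module.Flat (Localization.Away (Ideal.Quotient.mk p g))
      ↥(LinearMap.range ((((J₀ ^ (n + 1) • (⊤ : Submodule B₀ M₀)).restrictScalars R).mkQ ∘ₗ
          ((J₀ ^ n • (⊤ : Submodule B₀ M₀)).restrictScalars R).subtype).baseChange
            (Localization.Away (Ideal.Quotient.mk p g)))) :=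
    Module.Flat.of_linearEquiv eX.symm
  exact Module.Flat.of_linearEquiv
    (Yequiv (Localization.Away (Ideal.Quotient.mk p g))
      ((J₀ ^ (n + 1) • (⊤ : Submodule B₀ M₀)).restrictScalars R)
      ((J₀ ^ n • (⊤ : Submodule B₀ M₀)).restrictScalars R))

end Groth.Agent.Lib.Helper8.GrStratAlgB
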