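import Mathlib

/-!
# Stratification skeleton by Noetherian induction (helper8)

`exists_strat` : for a Noetherian ring `R` and a property `Good p g` of (ideal, element) pairs that
holds generically on every integral closed subscheme, `V(I)` is stratified by finitely many
`V(p_i) ∩ D(h_i)` with `Good p_i h_i`, each stratum open in the union of the later ones.
`range_specMap`, `isImmersion_specMap` : `Spec (R/p)_h → Spec R` is an immersion with range
`V(p) ∩ D(h)`.
-/

set_option autoImplicit false
universe u
open AlgebraicGeometry CategoryTheory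

namespace Groth.Agent.Lib.Helper8.GrStratTop

variable {R : Type u} [CommRing R]

/-- the stratum `V(p) ∩ D(h)` -/
def Sset (p : Ideal R) (h : R) : Set (PrimeSpectrum R) := {x | p ≤ x.asIdeal ∧ h ∉ x.asIdeal}

theorem range_specMap (p : Ideal R) (h : R) :
    Set.range (Spec.map (CommRingCat.ofHom
      (algebraMap R (Localization.Away (Ideal.Quotient.mk p h))))) = Sset p h := by
  have halg : algebraMap R (Localization.Away (Ideal.Quotient.mk p h)) =
      (algebraMap (R ⧸ p) (Localization.Away (Ideal.Quotient.mk p h))).comp
        (Ideal.Quotient.mk p) :=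
    IsScalarTower.algebraMap_eq R (R ⧸ p) _
  have hr : Set.range (Spec.map (CommRingCat.ofHom
      (algebraMap R (Localization.Away (Ideal.Quotient.mk p h))))) =
      Set.range (PrimeSpectrum.comap
        (algebraMap R (Localization.Away (Ideal.Quotient.mk p h)))) := rfl
  rw [hr]
  ext x
  constructor
  · rintro ⟨y, rfl⟩
    refine ⟨fun a ha => ?_, fun hh => ?_⟩
    · show algebraMap R (Localization.Away (Ideal.Quotient.mk p h)) a ∈ y.asIdeal
      rw [halg, RingHom.comp_apply, Ideal.Quotient.eq_zero_iff_mem.mpr ha, map_zero]
      exact zero_mem _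
    · have hh' : algebraMap R (Localization.Away (Ideal.Quotient.mk p h)) h ∈ y.asIdeal := hh
      rw [halg, RingHom.comp_apply] at hh'
      have hu : IsUnit (algebraMap (R ⧸ p) (Localization.Away (Ideal.Quotient.mk p h))
          (Ideal.Quotient.mk p h)) :=
        IsLocalization.Away.algebraMap_isUnit (Ideal.Quotient.mk p h)
      exact y.isPrime.ne_top (Ideal.eq_top_of_isUnit_mem _ hh' hu)
  · rintro ⟨hx1, hx2⟩
    have hxr : x ∈ Set.range (PrimeSpectrum.comap (Ideal.Quotient.mk p)) := by
      rw [range_comap_of_surjective _ _ Ideal.Quotient.mk_surjective, Ideal.mk_ker]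
      exact (PrimeSpectrum.mem_zeroLocus _ _).mpr hx1
    obtain ⟨z, rfl⟩ := hxr
    have hz : z ∈ Set.range (PrimeSpectrum.comap
        (algebraMap (R ⧸ p) (Localization.Away (Ideal.Quotient.mk p h)))) := by
      rw [PrimeSpectrum.localization_away_comap_range
        (Localization.Away (Ideal.Quotient.mk p h)) (Ideal.Quotient.mk p h)]
      exact hx2
    obtain ⟨y, rfl⟩ := hz
    refine ⟨y, ?_⟩
    rw [halg]
    rfl

theorem isImmersion_specMap (p : Ideal R) (h : R) :
    IsImmersion (Spec.map (CommRingCat.ofHom
      (algebraMap R (Localization.Away (Ideal.Quotient.mk p h))))) := by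
  have halg : algebraMap R (Localization.Away (Ideal.Quotient.mk p h)) =
      (algebraMap (R ⧸ p) (Localization.Away (Ideal.Quotient.mk p h))).comp
        (Ideal.Quotient.mk p) :=
    IsScalarTower.algebraMap_eq R (R ⧸ p) _
  rw [halg, CommRingCat.ofHom_comp, Spec.map_comp]
  haveI : IsClosedImmersion (Spec.map (CommRingCat.ofHom (Ideal.Quotient.mk p))) :=
    IsClosedImmersion.spec_of_surjective _ Ideal.Quotient.mk_surjective
  haveI : IsOpenImmersion (Spec.map (CommRingCat.ofHom
      (algebraMap (R ⧸ p) (Localization.Away (Ideal.Quotient.mk p h))))) :=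
    IsOpenImmersion.of_isLocalization (Ideal.Quotient.mk p h)
  infer_instance

theorem exists_strat [IsNoetherianRing R] (Good : Ideal R → R → Prop)
    (hGF : ∀ p : Ideal R, p.IsPrime → ∃ f : R, f ∉ p ∧ ∀ g : R, f ∣ g → Good p g) :
    ∀ I : Ideal R, ∃ (m : ℕ) (P : Fin m → Ideal R) (H : Fin m → R),
      (∀ i j, i ≠ j → Disjoint (Sset (P i) (H i)) (Sset (P j) (H j))) ∧
      (⋃ i, Sset (P i) (H i) = PrimeSpectrum.zeroLocus (I : Set R)) ∧
      (∀ i, ∃ U : Set (PrimeSpectrum R), IsOpen U ∧
        U ∩ (⋃ j, ⋃ (_ : i ≤ j), Sset (P j) (H j)) = Sset (P i) (H i)) ∧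
      ∀ i, Good (P i) (H i) := by
  intro I
  induction I using IsNoetherian.induction with
  | hgt I ih =>
    by_cases hI : I = ⊤
    · subst hI
      refine ⟨0, Fin.elim0, Fin.elim0, fun i => i.elim0, ?_, fun i => i.elim0, fun i => i.elim0⟩
      rw [Set.iUnion_of_empty]
      exact (PrimeSpectrum.zeroLocus_empty_iff_eq_top.mpr rfl).symm
    · obtain ⟨p, hp⟩ : (Ideal.minimalPrimes I).Nonempty := by
        rw [Set.nonempty_iff_ne_empty]
        intro h0
        exact hI ((Ideal.minimalPrimes_eq_empty_iff I).mp h0)
      haveI hpp : p.IsPrime := hp.1.1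
      have hIp : I ≤ p := hp.1.2
      have hfin : (Ideal.minimalPrimes I).Finite := Ideal.finite_minimalPrimes_of_isNoetherianRing R I
      obtain ⟨g, hgp, hgq⟩ : ∃ g : R, g ∉ p ∧ ∀ q ∈ (Ideal.minimalPrimes I), q ≠ p → g ∈ q := by
        classical
        have hx : ∀ q ∈ (Ideal.minimalPrimes I), q ≠ p → ∃ x : R, x ∈ q ∧ x ∉ p := by
          intro q hq hqp
          by_contra hcon
          push_neg at hcon
          have hle : q ≤ p := hcon
          exact hqp (le_antisymm hle (hp.2 ⟨hq.1.1, hq.1.2⟩ hle))
        choose! xq hxq using hx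
        refine ⟨∏ q ∈ hfin.toFinset.erase p, xq q, ?_, ?_⟩
        · intro hmem
          rw [Ideal.IsPrime.prod_mem_iff] at hmem
          obtain ⟨q, hq, hqmem⟩ := hmem
          rw [Finset.mem_erase, Set.Finite.mem_toFinset] at hq
          exact (hxq q hq.2 hq.1).2 hqmem
        · intro q hq hqp
          have hqs : q ∈ hfin.toFinset.erase p := by
            rw [Finset.mem_erase, Set.Finite.mem_toFinset]
            exact ⟨hqp, hq⟩
          exact Ideal.mem_of_dvd _ (Finset.dvd_prod_of_mem xq hqs) (hxq q hq hqp).1
      obtain ⟨f, hfp, hf⟩ := hGF p hpp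
      set h : R := f * g with hh_def
      have hhp : h ∉ p := by
        intro hmem
        rcases hpp.mem_or_mem hmem with h1 | h1
        · exact hfp h1
        · exact hgp h1
      have hlt : I < I ⊔ Ideal.span {h} := by
        refine lt_of_le_of_ne le_sup_left (fun e => hhp (hIp ?_))
        rw [e]
        exact Ideal.mem_sup_right (Ideal.mem_span_singleton_self h)
      obtain ⟨m', P', H', hdis, hcov, hop, hgood⟩ := ih _ hlt
      have hS0 : ∀ x : PrimeSpectrum R, (I ≤ x.asIdeal ∧ h ∉ x.asIdeal) → x ∈ Sset p h := by
        rintro x ⟨hx1, hx2⟩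
        refine ⟨?_, hx2⟩
        obtain ⟨q, hq, hqx⟩ := Ideal.exists_minimalPrimes_le hx1
        by_cases hqp : q = p
        · rw [← hqp]; exact hqx
        · exact absurd (Ideal.mul_mem_left _ f (hqx (hgq q hq hqp))) hx2
      have hsub : ∀ j x, x ∈ Sset (P' j) (H' j) → I ≤ x.asIdeal ∧ h ∈ x.asIdeal := by
        intro j x hx
        have hmem : x ∈ PrimeSpectrum.zeroLocus ((I ⊔ Ideal.span {h} : Ideal R) : Set R) := by
          rw [← hcov]; exact Set.mem_iUnion.mpr ⟨j, hx⟩
        rw [PrimeSpectrum.mem_zeroLocus, SetLike.coe_subset_coe, sup_le_iff,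
          Ideal.span_singleton_le_iff_mem] at hmem
        exact hmem
      have hsup : ∀ x : PrimeSpectrum R, I ≤ x.asIdeal → h ∈ x.asIdeal →
          ∃ j, x ∈ Sset (P' j) (H' j) := by
        intro x h1 h2
        have hmem : x ∈ PrimeSpectrum.zeroLocus ((I ⊔ Ideal.span {h} : Ideal R) : Set R) := by
          rw [PrimeSpectrum.mem_zeroLocus, SetLike.coe_subset_coe, sup_le_iff,
            Ideal.span_singleton_le_iff_mem]
          exact ⟨h1, h2⟩
        rw [← hcov] at hmem
        exact Set.mem_iUnion.mp hmem
      refine ⟨m' + 1, Fin.cons (α := fun _ => Ideal R) p P', Fin.cons (α := fun _ => R) h H',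
        ?_, ?_, ?_, ?_⟩
      · intro i j hij
        induction i using Fin.cases with
        | zero =>
          induction j using Fin.cases with
          | zero => exact absurd rfl hij
          | succ j' =>
            simp only [Fin.cons_zero, Fin.cons_succ]
            rw [Set.disjoint_left]
            intro x hx0 hxj
            exact hx0.2 (hsub j' x hxj).2
        | succ i' =>
          induction j using Fin.cases with
          | zero =>
            simp only [Fin.cons_zero, Fin.cons_succ]
            rw [Set.disjoint_left]
            intro x hxi hx0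
            exact hx0.2 (hsub i' x hxi).2
          | succ j' =>
            simp only [Fin.cons_succ]
            exact hdis i' j' (fun e => hij (by rw [e]))
      · ext x
        rw [Set.mem_iUnion, PrimeSpectrum.mem_zeroLocus, SetLike.coe_subset_coe]
        constructor
        · rintro ⟨i, hi⟩
          induction i using Fin.cases with
          | zero =>
            simp only [Fin.cons_zero] at hi
            exact hIp.trans hi.1
          | succ j =>
            simp only [Fin.cons_succ] at hi
            exact (hsub j x hi).1
        · intro hx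
          by_cases hh : h ∈ x.asIdeal
          · obtain ⟨j, hj⟩ := hsup x hx hh
            exact ⟨j.succ, by simpa only [Fin.cons_succ] using hj⟩
          · exact ⟨0, by simpa only [Fin.cons_zero] using hS0 x ⟨hx, hh⟩⟩
      · intro i
        induction i using Fin.cases with
        | zero =>
          refine ⟨(PrimeSpectrum.basicOpen h : Set (PrimeSpectrum R)),
            (PrimeSpectrum.basicOpen h).isOpen, ?_⟩
          ext x
          simp only [Set.mem_inter_iff, Set.mem_iUnion, Fin.cons_zero]
          constructor
          · rintro ⟨hxh, j, -, hj⟩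
            induction j using Fin.cases with
            | zero => simpa only [Fin.cons_zero] using hj
            | succ j' =>
              simp only [Fin.cons_succ] at hj
              exact absurd (hsub j' x hj).2 hxh
          · intro hx
            exact ⟨hx.2, 0, le_rfl, by simpa only [Fin.cons_zero] using hx⟩
        | succ k =>
          obtain ⟨U', hU', hUeq⟩ := hop k
          refine ⟨U', hU', ?_⟩
          simp only [Fin.cons_succ]
          rw [← hUeq]
          congr 1
          ext x
          simp only [Set.mem_iUnion]
          constructor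
          · rintro ⟨j, hkj, hj⟩
            induction j using Fin.cases with
            | zero => exact absurd hkj (not_le.mpr (Fin.succ_pos k))
            | succ j' =>
              simp only [Fin.cons_succ] at hj
              exact ⟨j', Fin.succ_le_succ_iff.mp hkj, hj⟩
          · rintro ⟨j', hkj, hj⟩
            exact ⟨j'.succ, Fin.succ_le_succ_iff.mpr hkj, by simpa only [Fin.cons_succ] using hj⟩
      · intro i
        induction i using Fin.cases with
        | zero => simpa only [Fin.cons_zero] using hf h (dvd_mul_right f g)
        | succ j => simpa only [Fin.cons_succ] using hgood j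

end Groth.Agent.Lib.Helper8.GrStratTop
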