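import Mathlib
import Groth.Agent.Lib.Helper8.EqLocus
import Groth.Agent.Lib.Helper8.PullbackPoint
import Groth.Agent.Lib.Helper8.RatPt
import Groth.Agent.Lib.Helper8.EtaleIrredSch
import Groth.Agent.Lib.Helper12.ZMTfp
import Groth.Agent.S5057

/-!
# Sections of étale separated morphisms lift along henselian couples

If `i : S₀ ⟶ S` is a closed immersion into a qcqs scheme such that clopens lift uniquely along
base changes of finite morphisms, then sections over `S₀` of étale separated `S`-schemes lift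
uniquely to sections over `S` (EGA IV 18.5.4 a) ⇒ b)).
-/

set_option autoImplicit false
universe u
open CategoryTheory CategoryTheory.Limits AlgebraicGeometry

namespace Groth.Agent.Lib.Helper8.HenselSect

/-- The clopen lifting hypothesis (`(S, S₀)` is a henselian couple). -/
def ClopensLift {S S₀ : Scheme.{u}} (i : S₀ ⟶ S) : Prop :=
  ∀ (S' : Scheme.{u}) (g : S' ⟶ S), IsFinite g →
    ∀ V : Set ↥(pullback g i), IsClopen V →
      ∃! U : Set ↥S', IsClopen U ∧ (pullback.fst g i).base ⁻¹' U = V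

theorem eq_univ_of_forall_mem {S S₀ : Scheme.{u}} (i : S₀ ⟶ S) [IsClosedImmersion i]
    (ha : ClopensLift i) {T : Scheme.{u}} (π : T ⟶ S) [IsFinite π] (U : Set T) (hU : IsOpen U)
    (h : ∀ (t : T) (s : S₀), π t = i s → t ∈ U) : U = Set.univ := by
  refine Groth.Agent.S5057.result i ha π U hU ?_
  rintro _ ⟨z, rfl⟩
  refine h _ (pullback.snd π i z) ?_
  rw [← Scheme.Hom.comp_apply, ← Scheme.Hom.comp_apply, pullback.condition]

theorem section_unique {S S₀ X : Scheme.{u}} (i : S₀ ⟶ S) [IsClosedImmersion i]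
    (ha : ClopensLift i) (g : X ⟶ S) [Etale g] (u u' : S ⟶ X)
    (hu : u ≫ g = 𝟙 S) (hu' : u' ≫ g = 𝟙 S) (hi : i ≫ u = i ≫ u') : u = u' := by
  have w : u ≫ g = u' ≫ g := hu.trans hu'.symm
  have hsub := range_subset_eqOpens g u u' w i hi
  have huniv : ((eqOpens g u u' w : S.Opens) : Set S) = Set.univ := by
    refine eq_univ_of_forall_mem i ha (𝟙 S) _ (eqOpens g u u' w).2 ?_
    intro t s hts
    apply hsub
    exact ⟨s, hts.symm⟩
  have hE : eqOpens g u u' w = ⊤ :=
    TopologicalSpace.Opens.ext (huniv.trans TopologicalSpace.Opens.coe_top.symm)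
  have : IsIso (eqOpens g u u' w).ι :=
    isIso_of_isOpenImmersion_of_opensRange_eq_top _ (by rw [Scheme.Opens.opensRange_ι]; exact hE)
  exact (cancel_epi (eqOpens g u u' w).ι).mp (eqOpens_ι_comp g u u' w)

theorem exists_compact_opens_superset {X : Scheme.{u}} {K : Set X} (hK : IsCompact K) :
    ∃ U : X.Opens, IsCompact (U : Set X) ∧ K ⊆ U := by
  obtain ⟨t, ht⟩ := hK.elim_finite_subcover (fun U : X.affineOpens => ((U : X.Opens) : Set X))
    (fun U => (U : X.Opens).2) (by
      intro x _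
      obtain ⟨U, hU, hxU, -⟩ :=
        (TopologicalSpace.Opens.isBasis_iff_nbhd.mp X.isBasis_affineOpens)
          (show x ∈ (⊤ : X.Opens) from trivial)
      exact Set.mem_iUnion.mpr ⟨⟨U, hU⟩, hxU⟩)
  refine ⟨⨆ U ∈ t, (U : X.Opens), ?_, ?_⟩
  · simp only [TopologicalSpace.Opens.coe_iSup]
    exact t.isCompact_biUnion (fun U _ => U.2.isCompact)
  · simpa only [TopologicalSpace.Opens.coe_iSup] using ht

/-- A section of an étale morphism is an open immersion. -/
theorem isOpenImmersion_lift_section {S S₀ X : Scheme.{u}} (i : S₀ ⟶ S) (g : X ⟶ S) [Etale g]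
    (a : S₀ ⟶ X) (hag : a ≫ g = 𝟙 S₀ ≫ i) :
    IsOpenImmersion (pullback.lift a (𝟙 S₀) hag) := by
  have h1 : pullback.lift a (𝟙 S₀) hag ≫ pullback.snd g i = 𝟙 S₀ := pullback.lift_snd _ _ _
  have : Etale (pullback.lift a (𝟙 S₀) hag ≫ pullback.snd g i) := by rw [h1]; infer_instance
  have : Etale (pullback.lift a (𝟙 S₀) hag) := Etale.of_comp _ (pullback.snd g i)
  have : Mono (pullback.lift a (𝟙 S₀) hag) := mono_of_mono_fac h1
  exact IsOpenImmersion.of_flat_of_mono _

theorem bijective_residueFieldMap_of_comp {A B C : Scheme.{u}} (ρ : A ⟶ B) (g : B ⟶ C) (a : A)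
    (h : Function.Bijective ((ρ ≫ g).residueFieldMap a).hom) :
    Function.Bijective (g.residueFieldMap (ρ a)).hom := by
  refine ⟨(g.residueFieldMap (ρ a)).hom.injective, ?_⟩
  intro y
  rw [Scheme.residueFieldMap_comp] at h
  obtain ⟨z, hz⟩ := h.2 ((ρ.residueFieldMap a).hom y)
  refine ⟨z, (ρ.residueFieldMap a).hom.injective ?_⟩
  exact hz

/-- A finite étale morphism with a section over `S₀` through which all points over `S₀` factor is an
isomorphism. -/
theorem isIso_of_finite_etale {S S₀ Y : Scheme.{u}} (i : S₀ ⟶ S) [IsClosedImmersion i]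
    (ha : ClopensLift i) (p : Y ⟶ S) [IsFinite p] [Etale p] (a' : S₀ ⟶ Y) (hap : a' ≫ p = i)
    (hpt : ∀ (y : Y) (s : S₀), p y = i s → y = a' s) : IsIso p := by
  have hres : ∀ s : S₀, Function.Bijective (p.residueFieldMap (a' s)).hom := by
    intro s
    have h0 : ∀ φ : S₀ ⟶ S, i = φ → Function.Bijective (φ.residueFieldMap s).hom := by
      rintro _ rfl
      exact RatPt.residueFieldMap_bijective_of_stalkMap_surjective i s (i.stalkMap_surjective s)
    exact bijective_residueFieldMap_of_comp a' p s (h0 _ hap.symm)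
  have hΔ : Set.range (pullback.diagonal p).base = Set.univ := by
    have : IsFinite (pullback.fst p p ≫ p) := inferInstance
    refine eq_univ_of_forall_mem i ha (pullback.fst p p ≫ p) _
      (pullback.diagonal p).isOpenEmbedding.isOpen_range ?_
    intro d s hds
    rw [Scheme.Hom.comp_apply] at hds
    have h1 : pullback.fst p p d = a' s := hpt _ s hds
    have h2 : pullback.snd p p d = a' s := by
      apply hpt _ s
      rw [← hds, ← Scheme.Hom.comp_apply, ← Scheme.Hom.comp_apply, pullback.condition]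
    have e1 : pullback.fst p p ((pullback.diagonal p) (a' s)) = a' s := by
      rw [← Scheme.Hom.comp_apply, pullback.diagonal_fst]; rfl
    have e2 : pullback.snd p p ((pullback.diagonal p) (a' s)) = a' s := by
      rw [← Scheme.Hom.comp_apply, pullback.diagonal_snd]; rfl
    have hres' : ∀ y : Y, y = a' s → Function.Bijective (p.residueFieldMap y).hom := by
      rintro _ rfl; exact hres s
    exact ⟨a' s, (pullback_point_ext d ((pullback.diagonal p) (a' s)) (h1.trans e1.symm)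
      (h2.trans e2.symm) (hres' _ e2)).symm⟩
  have : IsIso (pullback.diagonal p) :=
    isIso_of_isOpenImmersion_of_opensRange_eq_top _ (TopologicalSpace.Opens.ext
      ((Scheme.Hom.coe_opensRange _).trans (hΔ.trans TopologicalSpace.Opens.coe_top.symm)))
  have hfs : pullback.fst p p = pullback.snd p p := by
    rw [← cancel_epi (pullback.diagonal p), pullback.diagonal_fst, pullback.diagonal_snd]
  have : Mono p := ⟨fun u v h => by
    calc u = pullback.lift u v h ≫ pullback.fst p p := (pullback.lift_fst u v h).symm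
      _ = pullback.lift u v h ≫ pullback.snd p p := by rw [hfs]
      _ = v := pullback.lift_snd u v h⟩
  have : IsOpenImmersion p := IsOpenImmersion.of_flat_of_mono p
  apply isIso_of_isOpenImmersion_of_opensRange_eq_top p
  apply TopologicalSpace.Opens.ext
  rw [Scheme.Hom.coe_opensRange, TopologicalSpace.Opens.coe_top]
  refine eq_univ_of_forall_mem i ha (𝟙 S) _ p.isOpenEmbedding.isOpen_range ?_
  intro t s hts
  refine ⟨a' s, ?_⟩
  rw [← Scheme.Hom.comp_apply, hap]
  exact hts.symm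

theorem exists_section_qc {S S₀ X : Scheme.{u}} (i : S₀ ⟶ S) [IsClosedImmersion i]
    [CompactSpace S] [QuasiSeparatedSpace S] (ha : ClopensLift i)
    (g : X ⟶ S) [Etale g] [IsSeparated g] [QuasiCompact g] (a : S₀ ⟶ X) (hag : a ≫ g = i) :
    ∃ u : S ⟶ X, u ≫ g = 𝟙 S ∧ i ≫ u = a := by
  have : LocallyQuasiFinite g := EtaleIrredSch.locallyQuasiFinite_of_etale g
  obtain ⟨T, j, π, hj, -, hπ, -, hjπ⟩ := Groth.Agent.Lib.Helper12.ZMTfp.exists_factorization g
  subst hjπ
  have hag' : a ≫ j ≫ π = 𝟙 S₀ ≫ i := by rw [hag, Category.id_comp]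
  have hσ'o : IsOpenImmersion (pullback.lift a (𝟙 S₀) hag') :=
    isOpenImmersion_lift_section i (j ≫ π) a hag'
  obtain ⟨σ, hσ1, hσ2, hσo⟩ : ∃ σ : S₀ ⟶ pullback π i, σ ≫ pullback.fst π i = a ≫ j ∧
      σ ≫ pullback.snd π i = 𝟙 S₀ ∧ IsOpenImmersion σ :=
    ⟨pullback.lift a (𝟙 S₀) hag' ≫
      pullback.map (j ≫ π) i π i j (𝟙 S₀) (𝟙 S) (by simp) (by simp),
      by rw [Category.assoc, pullback.lift_fst, pullback.lift_fst_assoc],
      by rw [Category.assoc, pullback.lift_snd, pullback.lift_snd_assoc]; simp,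
      inferInstance⟩
  have hσc : IsClosedImmersion σ := by
    have : IsClosedImmersion (σ ≫ pullback.snd π i) := by rw [hσ2]; infer_instance
    exact IsClosedImmersion.of_comp σ (pullback.snd π i)
  have hV : IsClopen (Set.range σ.base) :=
    ⟨σ.isClosedEmbedding.isClosed_range, σ.isOpenEmbedding.isOpen_range⟩
  obtain ⟨U, ⟨hU, hUV⟩, -⟩ := ha T π hπ (Set.range σ.base) hV
  have hfstσ : ∀ s : S₀, pullback.fst π i (σ s) = j (a s) := fun s => by
    rw [← Scheme.Hom.comp_apply, hσ1, Scheme.Hom.comp_apply]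
  have hsndσ : ∀ s : S₀, pullback.snd π i (σ s) = s := fun s => by
    rw [← Scheme.Hom.comp_apply, hσ2]; rfl
  have hmemV : ∀ z : ↥(pullback π i), pullback.fst π i z ∈ U ↔ z ∈ Set.range σ.base :=
    fun z => by rw [← hUV]; rfl
  have hkey : ∀ (t : T) (s : S₀), t ∈ U → π t = i s → t = j (a s) := by
    intro t s htU hts
    obtain ⟨z, hz1, hz2⟩ := Scheme.Pullback.exists_preimage_pullback (f := π) (g := i) t s hts
    obtain ⟨s', rfl⟩ := (hmemV z).mp (by rw [hz1]; exact htU)
    have hs : s' = s := by rw [← hsndσ s']; exact hz2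
    subst hs
    rw [← hz1]; exact hfstσ s'
  have hUj : U ⊆ Set.range j.base := by
    have hW : Uᶜ ∪ Set.range j.base = Set.univ := by
      refine eq_univ_of_forall_mem i ha π _
        (hU.1.isOpen_compl.union j.isOpenEmbedding.isOpen_range) ?_
      intro t s hts
      by_cases htU : t ∈ U
      · exact Or.inr ⟨a s, (hkey t s htU hts).symm⟩
      · exact Or.inl htU
    intro t htU
    have : t ∈ Uᶜ ∪ Set.range j.base := by rw [hW]; trivial
    exact this.resolve_left (fun h => h htU)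
  obtain ⟨U₁, hU₁⟩ : ∃ U₁ : X.Opens, ∀ x : X, x ∈ U₁ ↔ j x ∈ U :=
    ⟨j ⁻¹ᵁ ⟨U, hU.2⟩, fun x => Iff.rfl⟩
  have hrange : Set.range (U₁.ι ≫ j).base = U := by
    ext t
    constructor
    · rintro ⟨x, rfl⟩
      rw [Scheme.Hom.comp_apply]
      exact (hU₁ _).mp x.2
    · intro ht
      obtain ⟨x, rfl⟩ := hUj ht
      exact ⟨⟨x, (hU₁ x).mpr ht⟩, by rw [Scheme.Hom.comp_apply]; rfl⟩
  have hkc : IsClosedImmersion (U₁.ι ≫ j) :=
    IsClosedImmersion.of_isPreimmersion _ (by rw [hrange]; exact hU.1)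
  have hpfin : IsFinite (U₁.ι ≫ j ≫ π) := by
    have : IsFinite ((U₁.ι ≫ j) ≫ π) := inferInstance
    rwa [Category.assoc] at this
  have haU₁ : Set.range a.base ⊆ Set.range U₁.ι.base := by
    rw [Scheme.Opens.range_ι]
    rintro _ ⟨s, rfl⟩
    exact (hU₁ _).mpr (by rw [← hfstσ]; exact (hmemV _).mpr ⟨s, rfl⟩)
  obtain ⟨a', ha'⟩ : ∃ a' : S₀ ⟶ U₁, a' ≫ U₁.ι = a :=
    ⟨IsOpenImmersion.lift U₁.ι a haU₁, IsOpenImmersion.lift_fac _ _ _⟩
  have hpt : ∀ (x : ↥U₁) (s : S₀), (U₁.ι ≫ j ≫ π) x = i s → x = a' s := by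
    intro x s hxs
    rw [Scheme.Hom.comp_apply, Scheme.Hom.comp_apply] at hxs
    have h1 := hkey (j (U₁.ι x)) s ((hU₁ _).mp x.2) hxs
    have h2 : U₁.ι x = a s := j.isOpenEmbedding.injective h1
    apply U₁.ι.isOpenEmbedding.injective
    rw [h2, ← ha', Scheme.Hom.comp_apply]
  have hap : a' ≫ (U₁.ι ≫ j ≫ π) = i := by rw [← Category.assoc, ha', hag]
  have : IsIso (U₁.ι ≫ j ≫ π) := isIso_of_finite_etale i ha _ a' hap hpt
  refine ⟨inv (U₁.ι ≫ j ≫ π) ≫ U₁.ι, ?_, ?_⟩
  · rw [Category.assoc, IsIso.inv_hom_id]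
  · rw [← hap, Category.assoc, IsIso.hom_inv_id_assoc, ha']

theorem exists_section {S S₀ X : Scheme.{u}} (i : S₀ ⟶ S) [IsClosedImmersion i]
    [CompactSpace S] [QuasiSeparatedSpace S] (ha : ClopensLift i)
    (g : X ⟶ S) [Etale g] [IsSeparated g] (a : S₀ ⟶ X) (hag : a ≫ g = i) :
    ∃ u : S ⟶ X, u ≫ g = 𝟙 S ∧ i ≫ u = a := by
  have : CompactSpace S₀ := QuasiCompact.compactSpace_of_compactSpace i
  obtain ⟨X₁, hX₁c, hX₁⟩ := exists_compact_opens_superset (isCompact_range a.continuous)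
  have : CompactSpace X₁.toScheme := isCompact_iff_compactSpace.mp hX₁c
  obtain ⟨a₁, ha₁⟩ : ∃ a₁ : S₀ ⟶ X₁, a₁ ≫ X₁.ι = a :=
    ⟨IsOpenImmersion.lift X₁.ι a (by rw [Scheme.Opens.range_ι]; exact hX₁),
      IsOpenImmersion.lift_fac _ _ _⟩
  obtain ⟨u, hu1, hu2⟩ := exists_section_qc i ha (X₁.ι ≫ g) a₁
    (by rw [← Category.assoc, ha₁, hag])
  exact ⟨u ≫ X₁.ι, by rw [Category.assoc, hu1], by rw [← Category.assoc, hu2, ha₁]⟩

end Groth.Agent.Lib.Helper8.HenselSect
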