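import Mathlib
import Groth.Agent.Lib.Helper8.HenselSplit
import Groth.Agent.S0503

/-!
# Unramified algebras over strictly henselian local rings
-/

open IsLocalRing

universe u

namespace Groth.Agent.Lib.Helper8

/-- A finite unramified local algebra over a local ring with separably closed residue field is a
quotient of the base. -/
theorem surjective_of_finite_unramified_sepClosed (R : Type*) [CommRing R] [IsLocalRing R]
    [IsSepClosed (ResidueField R)] (A : Type*) [CommRing A] [IsLocalRing A] [Algebra R A]
    [Module.Finite R A] [Algebra.FormallyUnramified R A] :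
    Function.Surjective (algebraMap R A) := by
  have : Algebra.IsIntegral R A := Algebra.IsIntegral.of_finite R A
  have hloc : IsLocalHom (algebraMap R A) := by
    have hmax : ((maximalIdeal A).comap (algebraMap R A)).IsMaximal :=
      Ideal.isMaximal_comap_of_isIntegral_of_isMaximal (maximalIdeal A)
    exact ((local_hom_TFAE (algebraMap R A)).out 0 4).mpr (IsLocalRing.eq_maximalIdeal hmax)
  have hmap := Algebra.FormallyUnramified.map_maximalIdeal (R := R) (S := A)
  have hres : Function.Surjective (algebraMap (ResidueField R) (ResidueField A)) :=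
    IsSepClosed.algebraMap_surjective (ResidueField R) (ResidueField A)
  change Function.Surjective (Algebra.linearMap R A)
  rw [← LinearMap.range_eq_top, ← top_le_iff]
  apply Submodule.le_of_le_smul_of_le_jacobson_bot Module.Finite.fg_top (maximalIdeal_le_jacobson _)
  rw [Ideal.smul_top_eq_map, hmap]
  rintro x -
  obtain ⟨a, ha⟩ := hres (residue A x)
  obtain ⟨a, rfl⟩ := residue_surjective a
  have h1 : residue A (algebraMap R A a) = residue A x := by
    rw [← ha]; rfl
  rw [← sub_eq_zero, ← map_sub, residue_eq_zero_iff] at h1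
  rw [← sub_sub_self (algebraMap R A a) x]
  exact sub_mem (Submodule.mem_sup_left ⟨_, rfl⟩) (Submodule.mem_sup_right h1)

/-- The product decomposition attached to an idempotent, as an algebra isomorphism. -/
noncomputable def prodQuotientOfIdempotent (R : Type*) [CommRing R] {S : Type*} [CommRing S]
    [Algebra R S] (e : S) (he : IsIdempotentElem e) :
    S ≃ₐ[R] (S ⧸ Ideal.span ({1 - e} : Set S)) × (S ⧸ Ideal.span ({e} : Set S)) :=
  AlgEquiv.ofBijective ((Ideal.Quotient.mkₐ R _).prod (Ideal.Quotient.mkₐ R _)) (by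
    have h0 : e * (1 - e) = 0 := by rw [mul_sub, mul_one, he.eq, sub_self]
    constructor
    · rw [injective_iff_map_eq_zero]
      intro x hx
      have h1 : x ∈ Ideal.span ({1 - e} : Set S) :=
        Ideal.Quotient.eq_zero_iff_mem.mp (congrArg Prod.fst hx)
      have h2 : x ∈ Ideal.span ({e} : Set S) :=
        Ideal.Quotient.eq_zero_iff_mem.mp (congrArg Prod.snd hx)
      obtain ⟨a, rfl⟩ := Ideal.mem_span_singleton'.mp h1
      obtain ⟨b, hb⟩ := Ideal.mem_span_singleton'.mp h2
      have : a * (1 - e) = a * (1 - e) * (1 - e) := by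
        rw [mul_assoc, he.one_sub.eq]
      rw [this, ← hb, mul_assoc, h0, mul_zero]
    · rintro ⟨y, z⟩
      obtain ⟨y, rfl⟩ := Ideal.Quotient.mk_surjective y
      obtain ⟨z, rfl⟩ := Ideal.Quotient.mk_surjective z
      refine ⟨y * e + z * (1 - e), ?_⟩
      refine Prod.ext ?_ ?_
      · change Ideal.Quotient.mk _ (y * e + z * (1 - e)) = Ideal.Quotient.mk _ y
        rw [Ideal.Quotient.eq, Ideal.mem_span_singleton]
        exact ⟨z - y, by ring⟩
      · change Ideal.Quotient.mk _ (y * e + z * (1 - e)) = Ideal.Quotient.mk _ z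
        rw [Ideal.Quotient.eq, Ideal.mem_span_singleton]
        exact ⟨y - z, by ring⟩)

theorem unramified_split_of_sepClosed (R : Type u) [CommRing R]
    [HenselianLocalRing R] [IsSepClosed (ResidueField R)] (S : Type u) [CommRing S] [Algebra R S]
    [Algebra.Unramified R S] :
    ∃ (ι : Type u) (_ : Fintype ι) (A : ι → Type u) (_ : ∀ i, CommRing (A i))
      (_ : ∀ i, Algebra R (A i)) (B : Type u) (_ : CommRing B) (_ : Algebra R B),
      (∀ i, Function.Surjective (algebraMap R (A i))) ∧
      Ideal.map (algebraMap R B) (maximalIdeal R) = ⊤ ∧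
      Nonempty (S ≃ₐ[R] ((∀ i, A i) × B)) := by
  classical
  obtain ⟨e, he, hfin, hmax⟩ := Groth.Agent.S0503.result R S
  obtain ⟨ι, hι, A, hA, hloc, ⟨φ⟩⟩ :=
    exists_pi_local_of_finite_of_henselian R (S ⧸ Ideal.span ({1 - e} : Set S))
  let algA : ∀ i, Algebra R (A i) := fun i =>
    ((Pi.evalRingHom A i).comp ((φ : (S ⧸ Ideal.span ({1 - e} : Set S)) →+* ∀ i, A i).comp
      (algebraMap R (S ⧸ Ideal.span ({1 - e} : Set S))))).toAlgebra
  let φ' : (S ⧸ Ideal.span ({1 - e} : Set S)) ≃ₐ[R] ∀ i, A i :=
    { φ with commutes' := fun r => rfl }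
  refine ⟨ι, hι, A, hA, algA, S ⧸ Ideal.span ({e} : Set S), inferInstance, inferInstance,
    ?_, hmax, ⟨(prodQuotientOfIdempotent R e he).trans (AlgEquiv.prodCongr φ' AlgEquiv.refl)⟩⟩
  intro i
  have := hloc i
  let π : (S ⧸ Ideal.span ({1 - e} : Set S)) →ₐ[R] A i :=
    (Pi.evalAlgHom R A i).comp φ'.toAlgHom
  have hπ : Function.Surjective π := by
    intro a
    refine ⟨φ'.symm (Pi.single i a), ?_⟩
    simp [π]
  have : Module.Finite R (A i) := Module.Finite.of_surjective π.toLinearMap hπ
  have : Algebra.FormallyUnramified R (A i) := Algebra.FormallyUnramified.of_surjective π hπ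
  exact surjective_of_finite_unramified_sepClosed R (A i)

end Groth.Agent.Lib.Helper8
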