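import Mathlib
import Groth.Agent.Lib.Helper8.SmoothQuot
set_option autoImplicit false
open TensorProduct KaehlerDifferential IsLocalRing

namespace Groth.Agent.Lib.Helper8.SmoothQuotHyp
open Groth.Agent.Lib.Helper8.SmoothQuot
universe u

theorem formallySmooth_quotient_singleton_iff (R A : Type u) [CommRing R] [CommRing A]
    [IsNoetherianRing R] [Algebra R A] [Algebra.FiniteType R A] (F : A) (q : Ideal A) [q.IsPrime]
    (hFq : F ∈ q) [Algebra.IsSmoothAt R q] :
    Algebra.FormallySmooth R (Localization.AtPrime q ⧸
        (Ideal.span ({F} : Set A)).map (algebraMap A (Localization.AtPrime q))) ↔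
      algebraMap A (Localization.AtPrime q) F = 0 ∨
        (1 : q.ResidueField) ⊗ₜ[A] D R A F ≠ 0 := by
  classical
  have hmap : (Ideal.span ({F} : Set A)).map (algebraMap A (Localization.AtPrime q)) =
      Ideal.span (Set.range (fun _ : Unit => algebraMap A (Localization.AtPrime q) F)) := by
    rw [Ideal.map_span, Set.image_singleton, Set.range_const]
  have hF'm : algebraMap A (Localization.AtPrime q) F ∈ maximalIdeal (Localization.AtPrime q) := by
    rw [← IsLocalization.AtPrime.map_eq_maximalIdeal q (Localization.AtPrime q)]
    exact Ideal.mem_map_of_mem _ hFq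
  have htr : (1 : q.ResidueField) ⊗ₜ[A] D R A F ≠ 0 ↔
      (1 : q.ResidueField) ⊗ₜ[Localization.AtPrime q]
        D R (Localization.AtPrime q) (algebraMap A (Localization.AtPrime q) F) ≠ 0 := by
    rw [← kappaOmegaEquiv_tmul_D, ne_eq, ne_eq, LinearEquiv.map_eq_zero_iff]
  haveI : Algebra.FormallySmooth R (Localization.AtPrime q) := ‹Algebra.IsSmoothAt R q›
  rw [hmap, htr]
  constructor
  · intro hsm
    by_cases h0 : algebraMap A (Localization.AtPrime q) F = 0
    · exact Or.inl h0
    · right
      have hli := linearIndependent_of_formallySmooth_quotient (R := R)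
        (Ideal.span (Set.range (fun _ : Unit => algebraMap A (Localization.AtPrime q) F)))
        (Ideal.span_le.mpr (by rintro _ ⟨_, rfl⟩; exact hF'm))
        (fun _ : Unit => algebraMap A (Localization.AtPrime q) F)
        (fun _ => Ideal.subset_span ⟨(), rfl⟩)
        (by
          intro t ht i
          rw [Set.range_const, Ideal.mem_mul_span_singleton] at ht
          obtain ⟨z, hz, hzt⟩ := ht
          simp only [Finset.univ_unique, Finset.sum_singleton] at hzt
          by_contra hti
          have hu : IsUnit (t i - z) := by
            by_contra hnu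
            have h1 : t i - z ∈ maximalIdeal (Localization.AtPrime q) :=
              (IsLocalRing.mem_maximalIdeal _).mpr hnu
            have := Ideal.add_mem _ h1 hz
            rw [sub_add_cancel] at this
            exact hti this
          have h2 : (t i - z) * algebraMap A (Localization.AtPrime q) F = 0 := by
            rw [sub_mul, hzt, sub_eq_zero]
          exact h0 ((hu.mul_right_eq_zero).mp h2))
      exact hli.ne_zero ()
  · rintro (h0 | h1)
    · rw [h0, Set.range_const, Ideal.span_singleton_eq_bot.mpr rfl]
      exact Algebra.FormallySmooth.of_equiv (AlgEquiv.quotientBot R (Localization.AtPrime q)).symm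
    · exact formallySmooth_quotient_of_linearIndependent (R := R)
        (fun _ : Unit => algebraMap A (Localization.AtPrime q) F)
        (linearIndependent_unique_iff.mpr h1)

theorem isSmoothAt_quotient_span_singleton_iff
    (R A : Type u) [CommRing R] [CommRing A] [IsNoetherianRing R] [Algebra R A]
    [Algebra.FiniteType R A]
    (F : A) (P : Ideal (A ⧸ Ideal.span ({F} : Set A))) [P.IsPrime]
    (hX : Algebra.IsSmoothAt R (P.comap (Ideal.Quotient.mk (Ideal.span ({F} : Set A))))) :
    Algebra.IsSmoothAt R P ↔
      algebraMap A (Localization.AtPrime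
        (P.comap (Ideal.Quotient.mk (Ideal.span ({F} : Set A))))) F = 0 ∨
      (1 : (P.comap (Ideal.Quotient.mk (Ideal.span ({F} : Set A)))).ResidueField) ⊗ₜ[A]
        KaehlerDifferential.D R A F ≠ 0 := by
  have hFq : F ∈ P.comap (Ideal.Quotient.mk (Ideal.span ({F} : Set A))) := by
    have h0 : Ideal.Quotient.mk (Ideal.span ({F} : Set A)) F = 0 :=
      Ideal.Quotient.eq_zero_iff_mem.mpr (Ideal.subset_span (Set.mem_singleton F))
    rw [Ideal.mem_comap, h0]
    exact zero_mem _
  rw [Algebra.IsSmoothAt, formallySmooth_localization_quotient_iff R _ P]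
  exact formallySmooth_quotient_singleton_iff R A F _ hFq

end Groth.Agent.Lib.Helper8.SmoothQuotHyp
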