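import Mathlib
import Groth.Agent.Lib.Helper8.SmoothQuotChart
import Groth.Agent.Lib.Helper8.SmoothQuotHyp
set_option autoImplicit false
open TensorProduct KaehlerDifferential IsLocalRing Polynomial

/-! Hypersurface smoothness via derivations; application to `A[t]/(t^e - s)`. -/

namespace Groth.Agent.Lib.Helper8.HypersurfaceDer
open Groth.Agent.Lib.Helper8.SmoothQuot Groth.Agent.Lib.Helper8.SmoothQuotChart
  Groth.Agent.Lib.Helper8.SmoothQuotHyp
universe u

section Der

/-- `dx(q) ≠ 0` in `κ(q) ⊗ Ω` iff some `k`-derivation into `κ(q)` does not kill `x`. -/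
theorem tmul_D_ne_zero_iff (k S : Type*) [CommRing k] [CommRing S] [Algebra k S] (q : Ideal S)
    [q.IsPrime] (x : S) :
    (1 : q.ResidueField) ⊗ₜ[S] D k S x ≠ 0 ↔ ∃ δ : Derivation k S q.ResidueField, δ x ≠ 0 := by
  constructor
  · intro hne
    by_contra hall
    push_neg at hall
    apply hne
    rw [← Module.forall_dual_apply_eq_zero_iff q.ResidueField]
    intro ψ
    exact hall (((ψ.restrictScalars S).comp (TensorProduct.mk S q.ResidueField Ω[S⁄k] 1)).compDer
      (D k S))
  · rintro ⟨δ, hδ⟩ h0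
    apply hδ
    have h1 : ((LinearMap.mul' S q.ResidueField) ∘ₗ
        (LinearMap.lTensor q.ResidueField δ.liftKaehlerDifferential))
        ((1 : q.ResidueField) ⊗ₜ[S] D k S x) = δ x := by
      simp
    rw [← h1, h0, map_zero]

/-- Pull back a derivation along an algebra map, pushing values along a compatible map of
coefficient rings in the other direction. -/
noncomputable def pullDer {k S₁ S₂ L₁ L₂ : Type*} [CommRing k] [CommRing S₁] [CommRing S₂]
    [CommRing L₁] [CommRing L₂] [Algebra k S₁] [Algebra k S₂] [Algebra k L₁] [Algebra k L₂]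
    [Algebra S₁ L₁] [Algebra S₂ L₂]
    (u : S₁ →ₐ[k] S₂) (τ : L₂ →ₐ[k] L₁)
    (hτ : ∀ f, τ (algebraMap S₂ L₂ (u f)) = algebraMap S₁ L₁ f) (δ : Derivation k S₂ L₂) :
    Derivation k S₁ L₁ :=
  Derivation.mk' (τ.toLinearMap ∘ₗ (δ : S₂ →ₗ[k] L₂) ∘ₗ u.toLinearMap) (fun a b => by
    simp only [LinearMap.comp_apply, AlgHom.toLinearMap_apply, map_mul, Derivation.coeFn_coe,
      Derivation.leibniz, map_add, Algebra.smul_def, hτ])

lemma pullDer_apply {k S₁ S₂ L₁ L₂ : Type*} [CommRing k] [CommRing S₁] [CommRing S₂]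
    [CommRing L₁] [CommRing L₂] [Algebra k S₁] [Algebra k S₂] [Algebra k L₁] [Algebra k L₂]
    [Algebra S₁ L₁] [Algebra S₂ L₂]
    (u : S₁ →ₐ[k] S₂) (τ : L₂ →ₐ[k] L₁)
    (hτ : ∀ f, τ (algebraMap S₂ L₂ (u f)) = algebraMap S₁ L₁ f) (δ : Derivation k S₂ L₂) (f : S₁) :
    pullDer u τ hτ δ f = τ (δ (u f)) := rfl

end Der

section Global

/-- Smoothness of a quotient of a finitely presented algebra can be tested at the local rings of
the ambient ring. -/
theorem smooth_quotient_iff (k S : Type u) [CommRing k] [CommRing S] [Algebra k S]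
    [Algebra.FinitePresentation k S] (I : Ideal S) (hI : I.FG) :
    Algebra.Smooth k (S ⧸ I) ↔ ∀ (q : Ideal S) [q.IsPrime], I ≤ q →
      Algebra.FormallySmooth k (Localization.AtPrime q ⧸
        I.map (algebraMap S (Localization.AtPrime q))) := by
  haveI : Algebra.FinitePresentation k (S ⧸ I) := .quotient hI
  constructor
  · intro h q _ hIq
    haveI : (q.map (Ideal.Quotient.mk I)).IsPrime :=
      Ideal.map_isPrime_of_surjective Ideal.Quotient.mk_surjective (by rw [Ideal.mk_ker]; exact hIq)
    have hQ : (q.map (Ideal.Quotient.mk I)).comap (Ideal.Quotient.mk I) = q :=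
      Ideal.comap_map_mk hIq
    haveI : Algebra.IsSmoothAt k (q.map (Ideal.Quotient.mk I)) :=
      inferInstanceAs (Algebra.FormallySmooth k (Localization.AtPrime _))
    exact formallySmooth_quotient_of_isSmoothAt k I q (q.map (Ideal.Quotient.mk I)) hQ
  · intro h
    refine ⟨?_, inferInstance⟩
    rw [← Algebra.smoothLocus_eq_univ_iff]
    ext P
    simp only [Set.mem_univ, iff_true]
    have hle : I ≤ P.asIdeal.comap (Ideal.Quotient.mk I) := fun x hx => by
      rw [Ideal.mem_comap, Ideal.Quotient.eq_zero_iff_mem.mpr hx]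
      exact zero_mem _
    exact (formallySmooth_localization_quotient_iff k I P.asIdeal).mpr (h _ hle)

lemma algebraMap_monic_ne_zero {A : Type*} [CommRing A] (F : A[X]) (hF : F.Monic) (q : Ideal A[X])
    [q.IsPrime] : algebraMap A[X] (Localization.AtPrime q) F ≠ 0 := by
  intro h0
  rw [IsLocalization.map_eq_zero_iff q.primeCompl] at h0
  obtain ⟨m, hm⟩ := h0
  rw [hF.mul_left_eq_zero_iff] at hm
  exact m.2 (hm ▸ q.zero_mem)

lemma algebraMap_irreducible_ne_zero {A : Type*} [CommRing A] [IsJacobsonRing A] (s : A)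
    (hs : Irreducible s) (p : Ideal A) [p.IsPrime] :
    algebraMap A (Localization.AtPrime p) s ≠ 0 := by
  intro h0
  rw [IsLocalization.map_eq_zero_iff p.primeCompl] at h0
  obtain ⟨m, hm⟩ := h0
  have hjac : (m : A) ∈ Ideal.jacobson (⊥ : Ideal A) := by
    rw [Ideal.mem_jacobson_bot]
    intro y
    have h1 : s = s * ((m : A) * y + 1) := by
      have : s * ((m : A) * y + 1) = (m : A) * s * y + s := by ring
      rw [this, hm, zero_mul, zero_add]
    exact (hs.isUnit_or_isUnit h1).resolve_left hs.not_isUnit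
  have hrad : (m : A) ∈ (⊥ : Ideal A).radical := by
    have h2 : Ideal.jacobson (⊥ : Ideal A).radical = (⊥ : Ideal A).radical :=
      IsJacobsonRing.out inferInstance (Ideal.radical_isRadical _)
    rw [← h2]
    exact Ideal.jacobson_mono Ideal.le_radical hjac
  exact m.2 ((Ideal.IsPrime.radical_le_iff ‹p.IsPrime›).mpr bot_le hrad)

end Global


section Main
variable (k : Type u) [Field k]

theorem formallySmooth_singleton_iff_exists_der (S : Type u) [CommRing S] [Algebra k S]
    [Algebra.FiniteType k S] (F : S) (q : Ideal S) [q.IsPrime] (hFq : F ∈ q)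
    [Algebra.IsSmoothAt k q] (hF0 : algebraMap S (Localization.AtPrime q) F ≠ 0) :
    Algebra.FormallySmooth k (Localization.AtPrime q ⧸
      (Ideal.span ({F} : Set S)).map (algebraMap S (Localization.AtPrime q))) ↔
      ∃ δ : Derivation k S q.ResidueField, δ F ≠ 0 := by
  rw [formallySmooth_quotient_singleton_iff k S F q hFq, ← tmul_D_ne_zero_iff]
  exact or_iff_right hF0

variable (A : Type u) [CommRing A] [Algebra k A] [Algebra.Smooth k A]

theorem smooth_quotient_X_pow_sub_C_iff (s : A) (hs : Irreducible s) (e : ℕ) (he : 2 ≤ e)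
    (hek : (e : k) ≠ 0) :
    Algebra.Smooth k (A[X] ⧸ Ideal.span {(X ^ e - C s : A[X])}) ↔
      Algebra.Smooth k (A ⧸ Ideal.span {s}) := by
  haveI : Algebra.FinitePresentation k A[X] := Algebra.FinitePresentation.trans k A A[X]
  haveI : Algebra.FormallySmooth k A[X] := Algebra.FormallySmooth.comp k A A[X]
  haveI : IsJacobsonRing A := isJacobsonRing_of_finiteType (A := k) (B := A)
  have he0 : e ≠ 0 := by omega
  have hmonic : (X ^ e - C s : A[X]).Monic := monic_X_pow_sub_C s he0
  rw [smooth_quotient_iff k A[X] _ ⟨{X ^ e - C s}, by simp⟩,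
    smooth_quotient_iff k A _ ⟨{s}, by simp⟩]
  let ev₀ : A[X] →ₐ[k] A := (Polynomial.aeval (0 : A) : A[X] →ₐ[A] A).restrictScalars k
  let u : A →ₐ[k] A[X] := IsScalarTower.toAlgHom k A A[X]
  have hev₀ : ∀ f : A[X], ev₀ f = f.coeff 0 := fun f => by
    simp [ev₀, Polynomial.coeff_zero_eq_aeval_zero]
  have hcoeffF : (X ^ e - C s : A[X]).coeff 0 = -s := by simp [coeff_X_pow, he0.symm]
  constructor
  · intro hB p _ hsp
    have hsp' : s ∈ p := (Ideal.span_singleton_le_iff_mem _).mp hsp
    rw [formallySmooth_singleton_iff_exists_der k A s p hsp'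
      (algebraMap_irreducible_ne_zero s hs p)]
    have hFq : (X ^ e - C s : A[X]) ∈ p.comap ev₀.toRingHom := by
      rw [Ideal.mem_comap]
      show ev₀ _ ∈ p
      rw [hev₀, hcoeffF]
      exact p.neg_mem hsp'
    have hXq : (X : A[X]) ∈ p.comap ev₀.toRingHom := by
      rw [Ideal.mem_comap]
      show ev₀ X ∈ p
      rw [hev₀]
      simp
    have h1 := hB (p.comap ev₀.toRingHom) ((Ideal.span_singleton_le_iff_mem _).mpr hFq)
    rw [formallySmooth_singleton_iff_exists_der k A[X] _ _ hFq
      (algebraMap_monic_ne_zero _ hmonic _)] at h1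
    obtain ⟨δ, hδ⟩ := h1
    let ρ := Ideal.ResidueField.mapₐ (p.comap ev₀.toRingHom) p ev₀ rfl
    have hτ : ∀ a : A, ρ (algebraMap A[X] (p.comap ev₀.toRingHom).ResidueField (u a)) =
        algebraMap A p.ResidueField a := by
      intro a
      rw [Ideal.ResidueField.mapₐ_apply, Ideal.ResidueField.map_algebraMap]
      congr 1
      show ev₀ (C a) = a
      rw [hev₀, coeff_C_zero]
    refine ⟨pullDer u ρ hτ δ, ?_⟩
    rw [pullDer_apply]
    intro h0
    apply hδ
    have hX0 : algebraMap A[X] (p.comap ev₀.toRingHom).ResidueField X = 0 :=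
      Ideal.algebraMap_residueField_eq_zero.mpr hXq
    have h2 : δ (C s) = 0 := (map_eq_zero_iff ρ ρ.toRingHom.injective).mp h0
    have h3 : (X : A[X]) ^ (e - 1) • δ X = 0 := by
      rw [Algebra.smul_def, map_pow, hX0, zero_pow (by omega), zero_mul]
    rw [map_sub, Derivation.leibniz_pow, h2, sub_zero, h3, smul_zero]
  · intro hA q _ hFq'
    have hFq : (X ^ e - C s : A[X]) ∈ q := (Ideal.span_singleton_le_iff_mem _).mp hFq'
    rw [formallySmooth_singleton_iff_exists_der k A[X] _ q hFq
      (algebraMap_monic_ne_zero _ hmonic q)]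
    by_cases hXq : (X : A[X]) ∈ q
    · have hsp : s ∈ q.comap u.toRingHom := by
        rw [Ideal.mem_comap]
        show C s ∈ q
        have h0 : C s = X ^ e - (X ^ e - C s) := by ring
        rw [h0]
        exact q.sub_mem (Ideal.pow_mem_of_mem q hXq e (by omega)) hFq
      have h1 := hA (q.comap u.toRingHom) ((Ideal.span_singleton_le_iff_mem _).mpr hsp)
      rw [formallySmooth_singleton_iff_exists_der k A s _ hsp
        (algebraMap_irreducible_ne_zero s hs _)] at h1
      obtain ⟨δ₀, hδ₀⟩ := h1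
      let ι := Ideal.ResidueField.mapₐ (q.comap u.toRingHom) q u rfl
      have hX0 : algebraMap A[X] q.ResidueField X = 0 :=
        Ideal.algebraMap_residueField_eq_zero.mpr hXq
      have hτ : ∀ f : A[X], ι (algebraMap A (q.comap u.toRingHom).ResidueField (ev₀ f)) =
          algebraMap A[X] q.ResidueField f := by
        intro f
        rw [Ideal.ResidueField.mapₐ_apply, Ideal.ResidueField.map_algebraMap, hev₀]
        show algebraMap A[X] q.ResidueField (C (f.coeff 0)) = _
        conv_rhs => rw [← Polynomial.divX_mul_X_add f, map_add, map_mul, hX0, mul_zero, zero_add]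
      refine ⟨pullDer ev₀ ι hτ δ₀, ?_⟩
      rw [pullDer_apply, hev₀, hcoeffF, map_neg, map_neg, neg_ne_zero]
      exact fun h0 => hδ₀ ((map_eq_zero_iff ι ι.toRingHom.injective).mp h0)
    · refine ⟨(Polynomial.mkDerivation A (1 : q.ResidueField)).restrictScalars k, ?_⟩
      rw [Derivation.restrictScalars_apply, Polynomial.mkDerivation_apply]
      have hder : derivative (X ^ e - C s : A[X]) = C (e : A) * X ^ (e - 1) := by
        rw [derivative_sub, derivative_X_pow, derivative_C, sub_zero]
      rw [hder, Algebra.smul_def, mul_one, map_mul, map_pow]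
      refine mul_ne_zero ?_
        (pow_ne_zero _ (fun h => hXq (Ideal.algebraMap_residueField_eq_zero.mp h)))
      have h4 : algebraMap A[X] q.ResidueField (C (e : A)) =
          algebraMap k q.ResidueField (e : k) := by
        rw [map_natCast, map_natCast, map_natCast]
      rw [h4]
      exact (map_ne_zero_iff _ (algebraMap k q.ResidueField).injective).mpr hek

theorem smooth_adjoinRoot_X_pow_sub_C_iff (s : A) (hs : Irreducible s) (e : ℕ) (he : 2 ≤ e)
    (hek : (e : k) ≠ 0) :
    Algebra.Smooth k (AdjoinRoot (X ^ e - C s : A[X])) ↔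
      Algebra.Smooth k (A ⧸ Ideal.span {s}) :=
  smooth_quotient_X_pow_sub_C_iff k A s hs e he hek

end Main

end Groth.Agent.Lib.Helper8.HypersurfaceDer
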