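import Mathlib
import Groth.Agent.Lib.Helper8.EtLocSch

/-!
# Étale localization of a quasi-finite immersed subscheme
-/

set_option autoImplicit false
universe u
open CategoryTheory CategoryTheory.Limits AlgebraicGeometry

namespace Groth.Agent.Lib.Helper8.ImmEtLoc

theorem bijective_residueFieldMap_congr' {A B : Scheme.{u}} (g : A ⟶ B) {p q : A} (h : p = q)
    (hb : Function.Bijective (g.residueFieldMap p).hom) :
    Function.Bijective (g.residueFieldMap q).hom := by
  subst h; exact hb

set_option maxHeartbeats 800000 in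
theorem main {Z X S : Scheme.{u}} (f : X ⟶ S)
    [LocallyOfFiniteType f] (i : Z ⟶ X) [IsImmersion i] [LocallyQuasiFinite (i ≫ f)] (z : Z) :
    ∃ (T : Scheme.{u}) (g : T ⟶ S) (U : (pullback f g).Opens)
      (u : ↥(pullback (U.ι ≫ pullback.fst f g) i)),
      Etale g ∧
      IsFinite (pullback.fst (U.ι ≫ pullback.fst f g) i ≫ U.ι ≫ pullback.snd f g) ∧
      (pullback.snd (U.ι ≫ pullback.fst f g) i).base u = z ∧
      IsIso ((pullback.snd (U.ι ≫ pullback.fst f g) i).residueFieldMap u) ∧
      ∀ u' : ↥(pullback (U.ι ≫ pullback.fst f g) i),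
        (pullback.fst (U.ι ≫ pullback.fst f g) i ≫ U.ι ≫ pullback.snd f g).base u' =
          (pullback.fst (U.ι ≫ pullback.fst f g) i ≫ U.ι ≫ pullback.snd f g).base u → u' = u := by
  have : LocallyOfFiniteType (i ≫ f) := inferInstance
  obtain ⟨T, g, t, hg, hgt, -, V₀, v₀, hV⟩ :=
    EtLocSch.exists_etale_nbhd_split (i ≫ f) ((i ≫ f) z) (ι := Unit) (fun _ => z) (fun _ => rfl)
      (fun _ => (i ≫ f).quasiFiniteAt z)
  have hV' := hV ()
  generalize V₀ () = V at hV'
  generalize v₀ () = v at hV'
  obtain ⟨hvV, hfin, hvt, hvz, huniq, -, hres⟩ := hV'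
  -- the base change of `i`
  let iT : pullback (i ≫ f) g ⟶ pullback f g :=
    pullback.lift (pullback.fst (i ≫ f) g ≫ i) (pullback.snd (i ≫ f) g)
      (by rw [Category.assoc, pullback.condition])
  have hiT1 : iT ≫ pullback.fst f g = pullback.fst (i ≫ f) g ≫ i := pullback.lift_fst _ _ _
  have hiT2 : iT ≫ pullback.snd f g = pullback.snd (i ≫ f) g := pullback.lift_snd _ _ _
  have sqR : IsPullback (pullback.fst (i ≫ f) g) iT i (pullback.fst f g) := by
    have t : IsPullback (iT ≫ pullback.snd f g) (pullback.fst (i ≫ f) g) g (i ≫ f) := by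
      rw [hiT2]; exact (IsPullback.of_hasPullback (i ≫ f) g).flip
    exact (IsPullback.of_right t hiT1 (IsPullback.of_hasPullback f g).flip).flip
  have : IsImmersion iT := MorphismProperty.of_isPullback (P := @IsImmersion) sqR inferInstance
  -- choose `U`
  obtain ⟨U', hU', hUV⟩ := (iT.isEmbedding.isInducing.isOpen_iff).mp V.2
  let U : (pullback f g).Opens := ⟨U', hU'⟩
  have hUV' : ∀ y : ↥(pullback (i ≫ f) g), y ∈ V ↔ iT y ∈ U := fun y => by
    show y ∈ V.carrier ↔ _
    rw [← hUV]; rfl
  -- the comparison morphism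
  let ω : pullback (U.ι ≫ pullback.fst f g) i ⟶ pullback (i ≫ f) g :=
    pullback.lift (pullback.snd (U.ι ≫ pullback.fst f g) i)
      (pullback.fst (U.ι ≫ pullback.fst f g) i ≫ U.ι ≫ pullback.snd f g)
      (by
        simp only [Category.assoc]
        rw [← pullback.condition (f := f) (g := g), ← Category.assoc,
          ← pullback.condition (f := U.ι ≫ pullback.fst f g) (g := i)]
        simp only [Category.assoc])
  have hω1 : ω ≫ pullback.fst (i ≫ f) g = pullback.snd (U.ι ≫ pullback.fst f g) i :=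
    pullback.lift_fst _ _ _
  have hω2 : ω ≫ pullback.snd (i ≫ f) g =
      pullback.fst (U.ι ≫ pullback.fst f g) i ≫ U.ι ≫ pullback.snd f g := pullback.lift_snd _ _ _
  have hωi : ω ≫ iT = pullback.fst (U.ι ≫ pullback.fst f g) i ≫ U.ι := by
    apply pullback.hom_ext
    · rw [Category.assoc, hiT1, ← Category.assoc, hω1, Category.assoc, pullback.condition]
    · rw [Category.assoc, hiT2, hω2, Category.assoc]
  have sqL : IsPullback ω (pullback.fst (U.ι ≫ pullback.fst f g) i) iT U.ι := by
    have t : IsPullback (ω ≫ pullback.fst (i ≫ f) g) (pullback.fst (U.ι ≫ pullback.fst f g) i) i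
        (U.ι ≫ pullback.fst f g) := by
      rw [hω1]; exact (IsPullback.of_hasPullback (U.ι ≫ pullback.fst f g) i).flip
    exact IsPullback.of_right t hωi sqR
  have : IsOpenImmersion ω :=
    MorphismProperty.of_isPullback (P := @IsOpenImmersion) sqL.flip inferInstance
  have hrange : Set.range ω = Set.range V.ι := by
    rw [Scheme.Opens.range_ι]
    ext y
    constructor
    · rintro ⟨w, rfl⟩
      rw [SetLike.mem_coe, hUV', ← Scheme.Hom.comp_apply, hωi, Scheme.Hom.comp_apply]
      exact (pullback.fst (U.ι ≫ pullback.fst f g) i w).2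
    · intro hy
      have hy' : iT y ∈ U := (hUV' y).mp hy
      obtain ⟨w, hw1, -⟩ := Scheme.Pullback.exists_preimage_pullback (f := iT) (g := U.ι) y
        ⟨iT y, hy'⟩ rfl
      refine ⟨sqL.isoPullback.inv w, ?_⟩
      rw [← Scheme.Hom.comp_apply, sqL.isoPullback_inv_fst]
      exact hw1
  let e := IsOpenImmersion.isoOfRangeEq ω V.ι hrange
  have he : e.hom ≫ V.ι = ω := IsOpenImmersion.isoOfRangeEq_hom_fac _ _ _
  have hfac : pullback.fst (U.ι ≫ pullback.fst f g) i ≫ U.ι ≫ pullback.snd f g =
      e.hom ≫ V.ι ≫ pullback.snd (i ≫ f) g := by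
    rw [← Category.assoc e.hom, he, hω2]
  -- the point
  let u : ↥(pullback (U.ι ≫ pullback.fst f g) i) := e.inv ⟨v, hvV⟩
  have hωu : ω u = v := by
    change ω (e.inv ⟨v, hvV⟩) = v
    rw [← he, ← Scheme.Hom.comp_apply, Iso.inv_hom_id_assoc]
    rfl
  refine ⟨T, g, U, u, hg, ?_, ?_, ?_, ?_⟩
  · rw [hfac]; infer_instance
  · change (pullback.snd (U.ι ≫ pullback.fst f g) i) u = z
    rw [← hω1, Scheme.Hom.comp_apply, hωu]
    exact hvz
  · have key : ∀ m : pullback (U.ι ≫ pullback.fst f g) i ⟶ Z,
        m = ω ≫ pullback.fst (i ≫ f) g → Function.Bijective (m.residueFieldMap u).hom := by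
      rintro _ rfl
      rw [Scheme.residueFieldMap_comp]
      have h1 : Function.Bijective ((pullback.fst (i ≫ f) g).residueFieldMap (ω u)).hom :=
        bijective_residueFieldMap_congr' _ hωu.symm
          ⟨((pullback.fst (i ≫ f) g).residueFieldMap (v)).hom.injective, hres⟩
      have h2 : Function.Bijective (ω.residueFieldMap u).hom :=
        ConcreteCategory.bijective_of_isIso (ω.residueFieldMap u)
      exact h2.comp h1
    exact (ConcreteCategory.isIso_iff_bijective _).mpr (key _ hω1.symm)
  · intro u' hu'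
    rw [hfac] at hu'
    have h1 : pullback.snd (i ≫ f) g (ω u') = pullback.snd (i ≫ f) g (ω u) := by
      have := hu'
      rw [← Category.assoc, he] at this
      exact this
    rw [hωu, hvt] at h1
    have h2 : ω u' ∈ V := by
      have : ω u' ∈ Set.range ω := Set.mem_range_self u'
      rw [hrange, Scheme.Opens.range_ι] at this
      exact this
    have h3 : ω u' = v := huniq _ h2 h1
    exact ω.isOpenEmbedding.injective (h3.trans hωu.symm)

end Groth.Agent.Lib.Helper8.ImmEtLoc
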