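import Mathlib
import Groth.Prelude.Def_PBC
import Groth.Agent.Lib.Helper8.WEFieldInd
import Groth.Agent.Lib.Helper8.Hzl.IndEtaleBC

set_option autoImplicit false

universe u

open TensorProduct

namespace Groth.Agent.Lib.Helper8.IndEtFibre

open Groth.Agent.Lib.Helper8

section Field

variable {K : Type u} [Field K] {Φ : Type u} [CommRing Φ] [Algebra K Φ] [Algebra.WeaklyEtale K Φ]

/-- Every element of a weakly étale algebra over a field lies in an étale subalgebra. -/
theorem etale_adjoin (x : Φ) : Algebra.Etale K (Algebra.adjoin K {x}) :=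
  WEField.etale_of_fg _ (Subalgebra.fg_adjoin_finset {x} |> fun h => by simpa using h)

theorem isIntegral_of_weaklyEtale (x : Φ) : IsIntegral K x := by
  haveI := etale_adjoin (K := K) x
  haveI : Module.Finite K (Algebra.adjoin K {x}) := Algebra.FormallyUnramified.finite_of_free K _
  have h1 : IsIntegral K (⟨x, Algebra.self_mem_adjoin_singleton K x⟩ : Algebra.adjoin K {x}) :=
    IsIntegral.of_finite K _
  have := h1.map (Algebra.adjoin K {x}).val
  simpa using this

instance : Algebra.IsIntegral K Φ := ⟨isIntegral_of_weaklyEtale⟩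

theorem isReduced_of_weaklyEtale (K : Type u) [Field K] {Φ : Type u} [CommRing Φ] [Algebra K Φ]
    [Algebra.WeaklyEtale K Φ] : IsReduced Φ := by
  refine ⟨fun x hx => ?_⟩
  haveI := etale_adjoin (K := K) x
  haveI : IsReduced (Algebra.adjoin K {x}) :=
    Algebra.FormallyUnramified.isReduced_of_field K _
  obtain ⟨n, hn⟩ := hx
  have h1 : IsNilpotent (⟨x, Algebra.self_mem_adjoin_singleton K x⟩ : Algebra.adjoin K {x}) :=
    ⟨n, Subtype.ext (by simpa using hn)⟩
  have h2 := h1.eq_zero
  exact congrArg Subtype.val h2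

theorem krullDimLE_zero_of_weaklyEtale (K : Type u) [Field K] {Φ : Type u} [CommRing Φ]
    [Algebra K Φ] [Algebra.WeaklyEtale K Φ] : Ring.KrullDimLE 0 Φ := by
  rw [Ring.krullDimLE_zero_iff]
  intro I hI
  apply Ideal.isMaximal_of_isIntegral_of_isMaximal_comap (R := K) I
  have : I.comap (algebraMap K Φ) = ⊥ := by
    rcases Ideal.eq_bot_or_top (I.comap (algebraMap K Φ)) with h | h
    · exact h
    · exact absurd h (Ideal.IsPrime.ne_top inferInstance)
  rw [this]
  exact Ideal.bot_isMaximal

/-- Elements of a field extension that come from a weakly étale algebra are separable. -/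
theorem isSeparable_of_algHom {L : Type u} [Field L] [Algebra K L] (π : Φ →ₐ[K] L) (x : Φ) :
    IsSeparable K (π x) := by
  haveI := etale_adjoin (K := K) x
  let S := Algebra.adjoin K {x}
  let ψ : S →ₐ[K] L := π.comp S.val
  let 𝔭 : Ideal S := RingHom.ker ψ.toRingHom
  haveI : 𝔭.IsPrime := RingHom.ker_isPrime ψ.toRingHom
  have hsep : IsSeparable K (Ideal.Quotient.mk 𝔭 ⟨x, Algebra.self_mem_adjoin_singleton K x⟩) :=
    Algebra.IsSeparable.isSeparable K _
  let ι : S ⧸ 𝔭 →ₐ[K] L := Ideal.kerLiftAlg ψ
  have hι : Function.Injective ι := Ideal.kerLiftAlg_injective ψ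
  have h1 : ι (Ideal.Quotient.mk 𝔭 ⟨x, Algebra.self_mem_adjoin_singleton K x⟩) = π x := rfl
  rw [← h1]
  unfold IsSeparable at hsep ⊢
  rwa [minpoly.algHom_eq ι hι]

end Field

section Fibre

variable {A B : Type u} [CommRing A] [CommRing B] [Algebra A B]

attribute [local instance] Algebra.TensorProduct.rightAlgebra in
theorem isNoetherianRing_fiber [IsNoetherianRing B] (p : Ideal A) [p.IsPrime] :
    IsNoetherianRing (p.Fiber B) := by
  have e := Ideal.Fiber.algEquivQuotient p (S := B)
  exact isNoetherianRing_of_ringEquiv _ e.symm.toRingEquiv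

theorem fibre_properties (hB : EtPBC.IsIndEtale A B) [IsNoetherianRing B] (p : Ideal A)
    [p.IsPrime] :
    {q : PrimeSpectrum B | q.asIdeal.LiesOver p}.Finite ∧ IsReduced (p.Fiber B) ∧
      ringKrullDim (p.Fiber B) ≤ 0 ∧
      ∀ (q : Ideal B) [q.IsPrime] [q.LiesOver p],
        @Algebra.IsSeparable p.ResidueField q.ResidueField _ _
          (Ideal.ResidueField.mapₐ p q (Algebra.ofId A B) (q.over_def p)).toRingHom.toAlgebra := by
  have h1 : EtPBC.IsIndEtale p.ResidueField (p.Fiber B) :=
    Hzl.isIndEtale_baseChange A B p.ResidueField hB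
  haveI : Algebra.WeaklyEtale p.ResidueField (p.Fiber B) := Hzl.weaklyEtale_of_isIndEtale _ _ h1
  have hred := isReduced_of_weaklyEtale p.ResidueField (Φ := p.Fiber B)
  have hdim := krullDimLE_zero_of_weaklyEtale p.ResidueField (Φ := p.Fiber B)
  have hnoeth : IsNoetherianRing (p.Fiber B) := isNoetherianRing_fiber p
  haveI : IsArtinianRing (p.Fiber B) :=
    isArtinianRing_iff_isNoetherianRing_krullDimLE_zero.mpr ⟨hnoeth, hdim⟩
  refine ⟨?_, hred, Ring.krullDimLE_iff.mp hdim, ?_⟩
  · have hfin : Finite (p.primesOver B) :=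
      Finite.of_equiv _ (PrimeSpectrum.primesOverOrderIsoFiber A B p).symm.toEquiv
    have hfin' : (p.primesOver B).Finite := Set.toFinite _
    refine Set.Finite.of_finite_image (f := fun q : PrimeSpectrum B => q.asIdeal)
      (hfin'.subset ?_) (fun q₁ _ q₂ _ h => PrimeSpectrum.ext h)
    rintro _ ⟨q, hq, rfl⟩
    exact ⟨q.2, hq⟩
  · intro q _ _
    letI alg : Algebra p.ResidueField q.ResidueField :=
      (Ideal.ResidueField.mapₐ p q (Algebra.ofId A B) (q.over_def p)).toRingHom.toAlgebra
    haveI : IsScalarTower A p.ResidueField q.ResidueField :=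
      IsScalarTower.of_algebraMap_eq (fun a =>
        ((Ideal.ResidueField.mapₐ p q (Algebra.ofId A B) (q.over_def p)).commutes a).symm)
    let π : p.Fiber B →ₐ[p.ResidueField] q.ResidueField :=
      Algebra.TensorProduct.lift (Algebra.ofId p.ResidueField q.ResidueField)
        (IsScalarTower.toAlgHom A B q.ResidueField) (fun _ _ => Commute.all _ _)
    have hB' : ∀ b : B, algebraMap B q.ResidueField b ∈
        separableClosure p.ResidueField q.ResidueField := by
      intro b
      rw [mem_separableClosure_iff]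
      have := isSeparable_of_algHom π ((1 : p.ResidueField) ⊗ₜ[A] b)
      simpa [π] using this
    refine ⟨fun x => ?_⟩
    rw [← mem_separableClosure_iff]
    obtain ⟨a, b, -, rfl⟩ := IsFractionRing.div_surjective (A := B ⧸ q) x
    obtain ⟨a, rfl⟩ := Ideal.Quotient.mk_surjective a
    obtain ⟨b, rfl⟩ := Ideal.Quotient.mk_surjective b
    apply div_mem
    · rw [← Ideal.Quotient.algebraMap_eq, ← IsScalarTower.algebraMap_apply]
      exact hB' a
    · rw [← Ideal.Quotient.algebraMap_eq, ← IsScalarTower.algebraMap_apply]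
      exact hB' b

end Fibre

end Groth.Agent.Lib.Helper8.IndEtFibre
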