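import Mathlib
import Groth.Prelude.Def_PBC
import Groth.Agent.Lib.Helper8.IndEtTrans

set_option autoImplicit false

universe u

open CategoryTheory Limits TensorProduct

namespace Groth.Agent.Lib.Helper8.IndEt

open Groth.Agent.Lib.Helper8.WeakColim

section Pushout

/-- Pushout of an étale `B`-algebra `F` along a map `F' → F''` of étale `A`-algebras (where `F' → F`
is any ring map): an étale `B`-algebra `F'''` receiving `F`, through which pairs of compatible maps
`F → C`, `F'' → C` factor. -/
theorem exists_pushout_etale {A B F F' F'' C : Type u} [CommRing A] [CommRing B] [CommRing F]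
    [CommRing F'] [CommRing F''] [CommRing C] [Algebra A F'] [Algebra A F''] [Algebra.Etale A F']
    [Algebra.Etale A F''] [Algebra B F] [Algebra.Etale B F] [Algebra B C]
    (ρ : F' →+* F) (ψ₂ : F' →ₐ[A] F'') (χ : F →ₐ[B] C) (κ : F'' →+* C)
    (hcomp : ∀ r, χ (ρ r) = κ (ψ₂ r)) :
    ∃ (F₃ : Type u) (_ : CommRing F₃) (_ : Algebra B F₃) (_ : Algebra.Etale B F₃)
      (ψ : F →ₐ[B] F₃) (φ' : F₃ →ₐ[B] C), φ'.comp ψ = χ ∧
        ∀ e', ψ₂ e' = 0 → ψ (ρ e') = 0 := by
  letI : Algebra F' F := ρ.toAlgebra
  letI : Algebra F' F'' := ψ₂.toRingHom.toAlgebra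
  haveI : IsScalarTower A F' F'' := IsScalarTower.of_algebraMap_eq (fun a => (ψ₂.commutes a).symm)
  haveI : Algebra.Etale F' F'' := Algebra.Etale.of_restrictScalars A F' F''
  haveI : Algebra.Etale B (F ⊗[F'] F'') := Algebra.Etale.comp B F _
  letI : Algebra F' C := (κ.comp ψ₂.toRingHom).toAlgebra
  let χ' : F →ₐ[F'] C := { toRingHom := χ.toRingHom, commutes' := fun r => hcomp r }
  let κ' : F'' →ₐ[F'] C := { toRingHom := κ, commutes' := fun r => rfl }
  let pm : F ⊗[F'] F'' →ₐ[F'] C := Algebra.TensorProduct.productMap χ' κ'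
  refine ⟨F ⊗[F'] F'', inferInstance, inferInstance, inferInstance,
    { toRingHom := algebraMap F (F ⊗[F'] F'')
      commutes' := fun b => by
        change algebraMap F (F ⊗[F'] F'') (algebraMap B F b) = _
        rw [Algebra.TensorProduct.algebraMap_apply, Algebra.TensorProduct.algebraMap_apply]
        rfl },
    { toRingHom := pm.toRingHom
      commutes' := fun b => by
        change pm (algebraMap B (F ⊗[F'] F'') b) = _
        rw [Algebra.TensorProduct.algebraMap_apply]
        simp only [pm, Algebra.TensorProduct.productMap_apply_tmul, map_one, mul_one]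
        exact χ.commutes b }, ?_, ?_⟩
  · ext x
    change pm (algebraMap F (F ⊗[F'] F'') x) = χ x
    rw [Algebra.TensorProduct.algebraMap_apply]
    simp only [pm, Algebra.TensorProduct.productMap_apply_tmul, map_one, mul_one]
    rfl
  · intro e' he'
    change algebraMap F (F ⊗[F'] F'') (ρ e') = 0
    rw [Algebra.TensorProduct.algebraMap_apply]
    have h1 : ρ e' = e' • (1 : F) := by
      rw [Algebra.smul_def, mul_one]; rfl
    have h2 : e' • (1 : F'') = 0 := by
      rw [Algebra.smul_def, mul_one]; exact he'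
    simp only [Algebra.algebraMap_self, RingHom.id_apply]
    rw [h1, TensorProduct.smul_tmul, h2, tmul_zero]

end Pushout

section Tower

variable {A B C : Type u} [CommRing A] [CommRing B] [CommRing C] [Algebra A B] [Algebra B C]
  [Algebra A C] [IsScalarTower A B C]

/-- If `B` and `C` are ind-étale over `A` and `C` is a `B`-algebra compatibly, then `C` is ind-étale
over `B` (in the `IndEtaleStar` form). -/
theorem indEtaleStar_of_tower (sB : IndEtaleStar A B) (sC : IndEtaleStar A C) :
    IndEtaleStar B C := by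
  refine ⟨fun c => ?_, fun F _ _ _ χ e he => ?_⟩
  · obtain ⟨E, _, _, _, φ, y, rfl⟩ := sC.1 c
    refine ⟨B ⊗[A] E, inferInstance, inferInstance, inferInstance,
      Algebra.TensorProduct.lift (Algebra.ofId B C) φ (fun _ _ => Commute.all _ _), 1 ⊗ₜ y, ?_⟩
    simp
  · letI : Algebra A F := ((algebraMap B F).comp (algebraMap A B)).toAlgebra
    haveI : IsScalarTower A B F := IsScalarTower.of_algebraMap_eq (fun _ => rfl)
    have sF := indEtaleStar_of_etale sB F
    obtain ⟨F', _, _, _, ρ, e', rfl⟩ := sF.1 e
    let κ₀ : F' →ₐ[A] C := (χ.restrictScalars A).comp ρ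
    obtain ⟨F'', _, _, _, ψ₂, κ, h1, h2⟩ := sC.2 F' κ₀ e' he
    obtain ⟨F₃, _, _, _, ψ, φ', h3, h4⟩ := exists_pushout_etale (A := A) (B := B) ρ.toRingHom ψ₂ χ
      κ.toRingHom (fun r => by
        have := AlgHom.congr_fun h1 r
        simp only [AlgHom.comp_apply] at this
        exact this.symm)
    exact ⟨F₃, inferInstance, inferInstance, inferInstance, ψ, φ', h3, h4 e' h2⟩

end Tower

end Groth.Agent.Lib.Helper8.IndEt
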