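import Mathlib

/-!
# Étale base change preserves "integrally closed in a principal localization"

Pure algebra: `A → C` étale, `B = A_f`, `D = C_{φ f}`; if `A` is integrally closed in `B` (every
element of `B` integral over `A` comes from `A`) then `C` is integrally closed in `D`.
Uses Mathlib's `TensorProduct.toIntegralClosure_bijective_of_smooth`.
-/

set_option autoImplicit false
universe u

open TensorProduct

namespace Groth.Agent.Lib.Helper8.IntClEt

/-- Algebra form: `C ⊗[A] B` has `C` integrally closed in it when `A` is integrally closed in `B`. -/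
theorem tensor_mem_range {A B C : Type u} [CommRing A] [CommRing B] [CommRing C] [Algebra A B]
    [Algebra A C] [Algebra.Smooth A C]
    (hint : ∀ b : B, IsIntegral A b → b ∈ Set.range (algebraMap A B))
    (x : C ⊗[A] B) (hx : IsIntegral C x) : x ∈ Set.range (algebraMap C (C ⊗[A] B)) := by
  obtain ⟨z, hz⟩ := (TensorProduct.toIntegralClosure_bijective_of_smooth (R := A) (S := C)
    (B := B)).2 ⟨x, hx⟩
  have hz' : (Algebra.TensorProduct.map (AlgHom.id C C) (integralClosure A B).val) z = x := by
    have := congrArg Subtype.val hz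
    simpa [TensorProduct.toIntegralClosure] using this
  rw [← hz']
  clear hz hz'
  induction z with
  | zero => exact ⟨0, by simp⟩
  | add a b ha hb =>
    obtain ⟨a', ha'⟩ := ha
    obtain ⟨b', hb'⟩ := hb
    exact ⟨a' + b', by rw [map_add, map_add, ha', hb']⟩
  | tmul c y =>
    obtain ⟨a, ha⟩ := hint y.1 y.2
    refine ⟨a • c, ?_⟩
    simp only [Algebra.TensorProduct.map_tmul, AlgHom.coe_id, id_eq, Subalgebra.coe_val,
      Algebra.TensorProduct.algebraMap_apply, Algebra.algebraMap_self, RingHom.id_apply]
    rw [← ha, Algebra.algebraMap_eq_smul_one, TensorProduct.tmul_smul, TensorProduct.smul_tmul']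

/-- Ring-hom form with principal localizations. -/
theorem mem_range_of_etale {A B C D : Type u} [CommRing A] [CommRing B] [CommRing C] [CommRing D]
    (φ : A →+* C) (hφ : φ.Etale) (ρ : A →+* B) (σ : C →+* D) (f : A)
    (hB : @IsLocalization.Away A _ f B _ ρ.toAlgebra)
    (hD : @IsLocalization.Away C _ (φ f) D _ σ.toAlgebra)
    (hint : ∀ b : B, ρ.IsIntegralElem b → b ∈ Set.range ρ)
    (d : D) (hd : σ.IsIntegralElem d) : d ∈ Set.range σ := by
  letI := φ.toAlgebra
  letI := ρ.toAlgebra
  letI := σ.toAlgebra
  haveI : Algebra.Etale A C := hφ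
  haveI : IsLocalization (Submonoid.powers f) B := hB
  haveI : IsLocalization (Submonoid.powers (algebraMap A C f)) D := hD
  haveI : IsLocalization (Algebra.algebraMapSubmonoid C (Submonoid.powers f)) (C ⊗[A] B) :=
    inferInstance
  have hpow : Algebra.algebraMapSubmonoid C (Submonoid.powers f) =
      Submonoid.powers (algebraMap A C f) := by
    simp [Algebra.algebraMapSubmonoid, Submonoid.map_powers]
  haveI : IsLocalization (Submonoid.powers (algebraMap A C f)) (C ⊗[A] B) := hpow ▸ this
  let e : (C ⊗[A] B) ≃ₐ[C] D :=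
    IsLocalization.algEquiv (Submonoid.powers (algebraMap A C f)) (C ⊗[A] B) D
  have hd' : IsIntegral C d := hd
  have hx : IsIntegral C (e.symm d) := hd'.map e.symm.toAlgHom
  obtain ⟨c, hc⟩ := tensor_mem_range (A := A) (B := B) (C := C)
    (fun b hb => hint b hb) (e.symm d) hx
  refine ⟨c, ?_⟩
  have : e (algebraMap C (C ⊗[A] B) c) = d := by rw [hc]; simp
  rw [← this, AlgEquiv.commutes]
  rfl

end Groth.Agent.Lib.Helper8.IntClEt
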