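import Mathlib
import Groth.Prelude.Def_W4c6modpairsegaMP
import Groth.Agent.Lib.Helper8.IntClEt

/-!
# Integral closedness of `O_X` in `O_{X°}` is étale local (modulus pairs)
-/

set_option autoImplicit false
universe u
open CategoryTheory AlgebraicGeometry TopologicalSpace Opposite

namespace Groth.Agent.Lib.Helper8.IntClEtSch

/-- restriction map between sections over opens. -/
noncomputable abbrev r (Z : Scheme.{u}) {A B : Z.Opens} (h : A ≤ B) : Γ(Z, B) →+* Γ(Z, A) :=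
  (Z.presheaf.map (homOfLE h).op).hom

theorem r_r (Z : Scheme.{u}) {A B C : Z.Opens} (h1 : A ≤ B) (h2 : B ≤ C) (x : Γ(Z, C)) :
    r Z h1 (r Z h2 x) = r Z (h1.trans h2) x := by
  simp only [r]
  rw [← RingHom.comp_apply, ← CommRingCat.hom_comp, ← Functor.map_comp]
  rfl

theorem r_comp (Z : Scheme.{u}) {A B C : Z.Opens} (h1 : A ≤ B) (h2 : B ≤ C) :
    (r Z h1).comp (r Z h2) = r Z (h1.trans h2) :=
  RingHom.ext fun x => r_r Z h1 h2 x

/-- restriction map to the part inside an open `O`. -/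
noncomputable abbrev resI (Z : Scheme.{u}) (O W : Z.Opens) : Γ(Z, W) →+* Γ(Z, W ⊓ O) :=
  r Z (inf_le_left : W ⊓ O ≤ W)

theorem isIntegralElem_res (Z : Scheme.{u}) (O V W : Z.Opens) (hWV : W ≤ V) (t : Γ(Z, V ⊓ O))
    (ht : (resI Z O V).IsIntegralElem t) :
    (resI Z O W).IsIntegralElem (r Z (inf_le_inf_right O hWV) t) := by
  obtain ⟨p, hp, hpt⟩ := ht
  refine ⟨p.map (r Z hWV), hp.map _, ?_⟩
  rw [Polynomial.eval₂_map]
  have hcomp : (resI Z O W).comp (r Z hWV) = (r Z (inf_le_inf_right O hWV)).comp (resI Z O V) := by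
    rw [resI, resI, r_comp, r_comp]
  rw [hcomp, ← Polynomial.hom_eval₂, hpt, map_zero]

variable {X Y : Scheme.{u}}

theorem inf_interior_eq_basicOpen (D : X.IdealSheafData) (U : X.affineOpens)
    (f : Γ(X, U.1)) (hf : D.ideal U = Ideal.span {f}) :
    U.1 ⊓ ModPair.interior D = X.basicOpen f := by
  ext x
  simp only [TopologicalSpace.Opens.coe_inf, Set.mem_inter_iff, SetLike.mem_coe]
  constructor
  · rintro ⟨hxU, hx⟩
    by_contra hxf
    apply hx
    change x ∈ D.support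
    rw [Scheme.IdealSheafData.mem_support_iff_of_mem (U := U) hxU, hf, Scheme.zeroLocus_span,
      Scheme.zeroLocus_singleton]
    exact hxf
  · intro hxf
    have hxU : x ∈ U.1 := X.basicOpen_le f hxf
    refine ⟨hxU, ?_⟩
    intro hx
    change x ∈ D.support at hx
    rw [Scheme.IdealSheafData.mem_support_iff_of_mem (U := U) hxU, hf, Scheme.zeroLocus_span,
      Scheme.zeroLocus_singleton] at hx
    exact hx hxf

theorem inf_preimage_eq_basicOpen (g : Y ⟶ X) (O U : X.Opens) (f : Γ(X, U))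
    (hUO : U ⊓ O = X.basicOpen f) (W : Y.Opens) (e : W ≤ g ⁻¹ᵁ U) :
    W ⊓ g ⁻¹ᵁ O = Y.basicOpen ((g.appLE U W e).hom f) := by
  have h1 : Y.basicOpen ((g.appLE U W e).hom f) = W ⊓ Y.basicOpen ((g.app U).hom f) := by
    rw [Scheme.Hom.appLE]
    simp [Scheme.basicOpen_res]
  rw [h1, ← Scheme.preimage_basicOpen, ← hUO]
  ext y
  simp only [Opens.coe_inf, Set.mem_inter_iff, SetLike.mem_coe, Scheme.Hom.coe_preimage,
    Set.mem_preimage]
  constructor
  · rintro ⟨hW, hO⟩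
    exact ⟨hW, e hW, hO⟩
  · rintro ⟨hW, _, hO⟩
    exact ⟨hW, hO⟩

theorem exists_chart (IX : X.IdealSheafData) (hX : BlowUp.IsEffCartierIdeal IX)
    (hint : ∀ U ∈ X.affineOpens, ∀ s : Γ(X, U ⊓ ModPair.interior IX),
      (resI X (ModPair.interior IX) U).IsIntegralElem s →
        s ∈ Set.range (resI X (ModPair.interior IX) U))
    (g : Y ⟶ X) [Etale g] (y : Y) (N : Y.Opens) (hy : y ∈ N) :
    ∃ W : Y.Opens, IsAffineOpen W ∧ y ∈ W ∧ W ≤ N ∧
      (∀ d : Γ(Y, W ⊓ g ⁻¹ᵁ ModPair.interior IX),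
        (resI Y (g ⁻¹ᵁ ModPair.interior IX) W).IsIntegralElem d →
          d ∈ Set.range (resI Y (g ⁻¹ᵁ ModPair.interior IX) W)) ∧
      Function.Injective (resI Y (g ⁻¹ᵁ ModPair.interior IX) W) := by
  obtain ⟨U, hgU, f, hf, hspan⟩ := hX (g y)
  have hyN : y ∈ N ⊓ g ⁻¹ᵁ U.1 := ⟨hy, hgU⟩
  obtain ⟨_, ⟨W, hW, rfl⟩, hyW, hWN⟩ :=
    Y.isBasis_affineOpens.exists_subset_of_mem_open hyN (N ⊓ g ⁻¹ᵁ U.1).2
  have e : W ≤ g ⁻¹ᵁ U.1 := fun z hz => (hWN hz).2
  have hUO : U.1 ⊓ ModPair.interior IX = X.basicOpen f := inf_interior_eq_basicOpen IX U f hspan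
  have hWO : W ⊓ g ⁻¹ᵁ ModPair.interior IX = Y.basicOpen ((g.appLE U.1 W e).hom f) :=
    inf_preimage_eq_basicOpen g _ U.1 f hUO W e
  have hB : @IsLocalization.Away _ _ f Γ(X, U.1 ⊓ ModPair.interior IX) _
      (resI X (ModPair.interior IX) U.1).toAlgebra :=
    U.2.isLocalization_of_eq_basicOpen f (homOfLE inf_le_left) hUO
  have hD : @IsLocalization.Away _ _ ((g.appLE U.1 W e).hom f)
      Γ(Y, W ⊓ g ⁻¹ᵁ ModPair.interior IX) _
      (resI Y (g ⁻¹ᵁ ModPair.interior IX) W).toAlgebra :=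
    IsAffineOpen.isLocalization_of_eq_basicOpen hW _ (homOfLE inf_le_left) hWO
  have hφ : (g.appLE U.1 W e).hom.Etale := HasRingHomProperty.appLE (P := @Etale) g ‹_› U ⟨W, hW⟩ e
  refine ⟨W, hW, hyW, fun z hz => (hWN hz).1, ?_, ?_⟩
  · intro d hd
    exact IntClEt.mem_range_of_etale (g.appLE U.1 W e).hom hφ (resI X _ U.1) (resI Y _ W) f hB hD
      (hint U.1 U.2) d hd
  · letI := (g.appLE U.1 W e).hom.toAlgebra
    haveI : Algebra.Etale Γ(X, U.1) Γ(Y, W) := hφ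
    have hreg : IsSMulRegular Γ(Y, W) f := Module.Flat.isSMulRegular_of_nonZeroDivisors hf
    have hnzd : (g.appLE U.1 W e).hom f ∈ nonZeroDivisors Γ(Y, W) := by
      rw [mem_nonZeroDivisors_iff_right]
      intro c hc
      apply hreg
      simp only [smul_zero]
      rw [Algebra.smul_def, mul_comm]
      exact hc
    letI := (resI Y (g ⁻¹ᵁ ModPair.interior IX) W).toAlgebra
    haveI : IsLocalization (Submonoid.powers ((g.appLE U.1 W e).hom f))
        Γ(Y, W ⊓ g ⁻¹ᵁ ModPair.interior IX) := hD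
    exact IsLocalization.injective (M := Submonoid.powers ((g.appLE U.1 W e).hom f)) _
      (Submonoid.powers_le.2 hnzd)

theorem resI_injective (IX : X.IdealSheafData) (hX : BlowUp.IsEffCartierIdeal IX)
    (hint : ∀ U ∈ X.affineOpens, ∀ s : Γ(X, U ⊓ ModPair.interior IX),
      (resI X (ModPair.interior IX) U).IsIntegralElem s →
        s ∈ Set.range (resI X (ModPair.interior IX) U))
    (g : Y ⟶ X) [Etale g] (N : Y.Opens) :
    Function.Injective (resI Y (g ⁻¹ᵁ ModPair.interior IX) N) := by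
  intro a b hab
  choose W hWaff hyW hWN hWint hWinj using fun y : N => exists_chart IX hX hint g y.1 N y.2
  refine TopCat.Sheaf.eq_of_locally_eq' Y.sheaf W N (fun i => homOfLE (hWN i)) ?_ a b ?_
  · intro y hy
    exact Opens.mem_iSup.2 ⟨⟨y, hy⟩, hyW ⟨y, hy⟩⟩
  · intro i
    apply hWinj i
    change resI Y _ (W i) (r Y (hWN i) a) = resI Y _ (W i) (r Y (hWN i) b)
    have key : ∀ c : Γ(Y, N), resI Y (g ⁻¹ᵁ ModPair.interior IX) (W i) (r Y (hWN i) c) =
        r Y (inf_le_inf_right (g ⁻¹ᵁ ModPair.interior IX) (hWN i))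
          (resI Y (g ⁻¹ᵁ ModPair.interior IX) N c) := fun c => by
      rw [resI, resI, r_r, r_r]
    rw [key, key, hab]

theorem main (IX : X.IdealSheafData) (hX : BlowUp.IsEffCartierIdeal IX)
    (hint : ∀ U ∈ X.affineOpens, ∀ s : Γ(X, U ⊓ ModPair.interior IX),
      (resI X (ModPair.interior IX) U).IsIntegralElem s →
        s ∈ Set.range (resI X (ModPair.interior IX) U))
    (g : Y ⟶ X) [Etale g] (V : Y.Opens) (t : Γ(Y, V ⊓ g ⁻¹ᵁ ModPair.interior IX))
    (ht : (resI Y (g ⁻¹ᵁ ModPair.interior IX) V).IsIntegralElem t) :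
    t ∈ Set.range (resI Y (g ⁻¹ᵁ ModPair.interior IX) V) := by
  choose W hWaff hyW hWV hWint hWinj using fun y : V => exists_chart IX hX hint g y.1 V y.2
  have hs : ∀ y : V, ∃ s : Γ(Y, W y),
      resI Y (g ⁻¹ᵁ ModPair.interior IX) (W y) s = r Y (inf_le_inf_right (g ⁻¹ᵁ ModPair.interior IX) (hWV y)) t := fun y =>
    hWint y _ (isIntegralElem_res Y (g ⁻¹ᵁ ModPair.interior IX) V (W y) (hWV y) t ht)
  choose s hs using hs
  have hcompat : TopCat.Presheaf.IsCompatible Y.sheaf.1 W s := by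
    intro i j
    apply resI_injective IX hX hint g (W i ⊓ W j)
    change resI Y (g ⁻¹ᵁ ModPair.interior IX) (W i ⊓ W j) (r Y inf_le_left (s i)) =
      resI Y (g ⁻¹ᵁ ModPair.interior IX) (W i ⊓ W j) (r Y inf_le_right (s j))
    have hi : resI Y (g ⁻¹ᵁ ModPair.interior IX) (W i ⊓ W j) (r Y inf_le_left (s i)) =
        r Y (inf_le_inf_right (g ⁻¹ᵁ ModPair.interior IX) inf_le_left) (resI Y (g ⁻¹ᵁ ModPair.interior IX) (W i) (s i)) := by
      rw [resI, resI, r_r, r_r]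
    have hj : resI Y (g ⁻¹ᵁ ModPair.interior IX) (W i ⊓ W j) (r Y inf_le_right (s j)) =
        r Y (inf_le_inf_right (g ⁻¹ᵁ ModPair.interior IX) inf_le_right) (resI Y (g ⁻¹ᵁ ModPair.interior IX) (W j) (s j)) := by
      rw [resI, resI, r_r, r_r]
    rw [hi, hj, hs, hs, r_r, r_r]
  obtain ⟨s0, hs0, -⟩ := TopCat.Sheaf.existsUnique_gluing' Y.sheaf W V (fun i => homOfLE (hWV i))
    (fun y hy => Opens.mem_iSup.2 ⟨⟨y, hy⟩, hyW ⟨y, hy⟩⟩) s hcompat
  refine ⟨s0, ?_⟩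
  refine TopCat.Sheaf.eq_of_locally_eq' Y.sheaf (fun i : V => W i ⊓ (g ⁻¹ᵁ ModPair.interior IX)) (V ⊓ (g ⁻¹ᵁ ModPair.interior IX))
    (fun i => homOfLE (inf_le_inf_right (g ⁻¹ᵁ ModPair.interior IX) (hWV i))) ?_ _ _ ?_
  · rintro y ⟨hyV, hyO⟩
    exact Opens.mem_iSup.2 ⟨⟨y, hyV⟩, hyW ⟨y, hyV⟩, hyO⟩
  · intro i
    change r Y (inf_le_inf_right (g ⁻¹ᵁ ModPair.interior IX) (hWV i)) (resI Y (g ⁻¹ᵁ ModPair.interior IX) V s0) =
      r Y (inf_le_inf_right (g ⁻¹ᵁ ModPair.interior IX) (hWV i)) t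
    rw [← hs i]
    have h1 : s i = r Y (hWV i) s0 := (hs0 i).symm
    rw [h1, resI, resI, r_r, r_r]

end Groth.Agent.Lib.Helper8.IntClEtSch
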