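import Mathlib

/-!
# Étale splitting of integral algebras: field theory (helper8)

Variant of `EtLocPI.exists_sep_ext` for algebraic (not necessarily finite) extensions whose
separable closure is finite.
-/

set_option autoImplicit false
universe u

namespace Groth.Agent.Lib.Helper8.IntSplitFT

open IntermediateField Polynomial

theorem exists_sep_ext_alg {k : Type u} [Field k] {ι : Type*} [Finite ι] (K : ι → Type u)
    [∀ i, Field (K i)] (φ : ∀ i, k →+* K i) (halg : ∀ i, (φ i).IsIntegral)
    (hfin : ∀ i, letI := (φ i).toAlgebra; Module.Finite k (separableClosure k (K i)))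
    (q : ℕ) [ExpChar k q] :
    ∃ (k' : Type u) (_ : Field k') (_ : Algebra k k') (_ : FiniteDimensional k k')
      (_ : Algebra.IsSeparable k k'),
      ∀ (i : ι) (L : Type u) [Field L] (α : K i →+* L) (β : k' →+* L),
        α.comp (φ i) = β.comp (algebraMap k k') → ∀ z : K i, ∃ n : ℕ, α z ^ q ^ n ∈ β.range := by
  classical
  letI alg : ∀ i, Algebra k (K i) := fun i => (φ i).toAlgebra
  haveI : ∀ i, Algebra.IsIntegral k (K i) := fun i => ⟨halg i⟩
  haveI : ∀ i, Algebra.IsAlgebraic k (K i) := fun i => inferInstance
  let Ω := AlgebraicClosure k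
  let F : ∀ i, IntermediateField k (K i) := fun i => separableClosure k (K i)
  haveI : ∀ i, FiniteDimensional k (F i) := fun i => hfin i
  let N : ι → IntermediateField k Ω := fun i => normalClosure k (F i) Ω
  let M : IntermediateField k Ω := ⨆ i, N i
  haveI : ∀ i, FiniteDimensional k (N i) := fun i => normalClosure.is_finiteDimensional k (F i) Ω
  haveI : FiniteDimensional k M := IntermediateField.finiteDimensional_iSup_of_finite
  haveI : ∀ i, Algebra.IsSeparable k (N i) := fun i => by
    show Algebra.IsSeparable k ↥(⨆ σ : (F i) →ₐ[k] Ω, σ.fieldRange)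
    haveI : ∀ σ : (F i) →ₐ[k] Ω, Algebra.IsSeparable k σ.fieldRange := fun σ =>
      AlgEquiv.Algebra.isSeparable (AlgEquiv.ofInjectiveField σ)
    exact IntermediateField.isSeparable_iSup _ _
  haveI : Algebra.IsSeparable k M := IntermediateField.isSeparable_iSup _ _
  haveI : ∀ i, Normal k (N i) := fun i => normalClosure.normal k (F i) Ω
  haveI : Normal k M := IntermediateField.normal_iSup k Ω N
  refine ⟨M, inferInstance, inferInstance, inferInstance, inferInstance, ?_⟩
  intro i L _ α β hαβ z
  haveI : ExpChar (F i) q := expChar_of_injective_algebraMap (algebraMap k (F i)).injective q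
  haveI : IsPurelyInseparable (F i) (K i) := separableClosure.isPurelyInseparable k (K i)
  obtain ⟨n, w, hw⟩ := IsPurelyInseparable.pow_mem (F i) q z
  refine ⟨n, ?_⟩
  let σ : (F i) →ₐ[k] Ω := IsAlgClosed.lift
  have hσN : σ w ∈ N i := AlgHom.fieldRange_le_normalClosure σ ⟨w, rfl⟩
  have hσM : σ w ∈ M := (le_iSup N i) hσN
  let y : M := ⟨σ w, hσM⟩
  have hmin : minpoly k y = minpoly k (w : K i) := by
    rw [IntermediateField.minpoly_eq y]
    show minpoly k (σ w) = _
    rw [minpoly.algHom_eq σ σ.injective w]
    exact IntermediateField.minpoly_eq w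
  have hsplit : ((minpoly k (w : K i)).map (algebraMap k M)).Splits := by
    rw [← hmin]; exact Normal.splits inferInstance y
  have hne : (minpoly k (w : K i)).map (algebraMap k M) ≠ 0 :=
    Polynomial.map_ne_zero (minpoly.ne_zero (Algebra.IsIntegral.isIntegral _))
  have hroot : (((minpoly k (w : K i)).map (algebraMap k M)).map β).IsRoot (α (w : K i)) := by
    rw [Polynomial.map_map, ← hαβ, Polynomial.IsRoot.def, Polynomial.eval_map,
      ← Polynomial.hom_eval₂]
    have h0 : Polynomial.eval₂ (φ i) (w : K i) (minpoly k (w : K i)) = 0 :=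
      minpoly.aeval k (w : K i)
    rw [h0, map_zero]
  have hmem := hsplit.mem_range_of_isRoot hne hroot
  rw [← map_pow, ← hw]
  exact hmem

end Groth.Agent.Lib.Helper8.IntSplitFT
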