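import Mathlib
import Groth.Agent.Lib.Helper8.IntSplitFT
import Groth.Agent.Lib.Helper11.EtaleNbhd

/-!
# Étale splitting of integral algebras: ring-level lemmas (helper8)
-/

set_option autoImplicit false
universe u

open TensorProduct

namespace Groth.Agent.Lib.Helper8.IntSplitRing

section Basic

/-- The residue field of the kernel of a homomorphism to a field maps to the field. -/
noncomputable def liftOfKer {A L : Type u} [CommRing A] [Field L] (I : Ideal A) [I.IsPrime]
    (a : A →+* L) (h : RingHom.ker a = I) : I.ResidueField →+* L :=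
  Ideal.ResidueField.lift I a h.ge (by
    intro x hx
    show IsUnit (a x)
    rw [isUnit_iff_ne_zero]
    intro h0
    exact hx (h ▸ (RingHom.mem_ker.mpr h0)))

@[simp] lemma liftOfKer_algebraMap {A L : Type u} [CommRing A] [Field L] (I : Ideal A) [I.IsPrime]
    (a : A →+* L) (h : RingHom.ker a = I) (x : A) :
    liftOfKer I a h (algebraMap A I.ResidueField x) = a x :=
  Ideal.ResidueField.lift_algebraMap ..

lemma exists_div {A : Type u} [CommRing A] (I : Ideal A) [I.IsPrime] (w : I.ResidueField) :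
    ∃ a b : A, b ∉ I ∧ w = algebraMap A I.ResidueField a / algebraMap A I.ResidueField b := by
  obtain ⟨x, y, hy, rfl⟩ := IsFractionRing.div_surjective (A := A ⧸ I) w
  obtain ⟨a, rfl⟩ := Ideal.Quotient.mk_surjective x
  obtain ⟨b, rfl⟩ := Ideal.Quotient.mk_surjective y
  refine ⟨a, b, fun h => (nonZeroDivisors.ne_zero hy) (Ideal.Quotient.eq_zero_iff_mem.mpr h), ?_⟩
  rw [Ideal.algebraMap_quotient_residueField_mk, Ideal.algebraMap_quotient_residueField_mk]

lemma isIntegral_residueFieldMap {R S : Type u} [CommRing R] [CommRing S] [Algebra R S]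
    [Algebra.IsIntegral R S] (p : Ideal R) [p.IsPrime] (𝔮 : Ideal S) [𝔮.IsPrime]
    (h : p = 𝔮.comap (algebraMap R S)) :
    (Ideal.ResidueField.map p 𝔮 (algebraMap R S) h).IsIntegral := by
  haveI : 𝔮.LiesOver p := ⟨h⟩
  letI := Localization.AtPrime.algebraOfLiesOver p 𝔮
  have h1 : Algebra.IsAlgebraic p.ResidueField 𝔮.ResidueField := inferInstance
  have h2 : Algebra.IsIntegral p.ResidueField 𝔮.ResidueField := inferInstance
  intro x
  exact h2.isIntegral x

end Basic

section A

variable {R S : Type u} [CommRing R] [CommRing S] [Algebra R S]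

theorem exists_etale_FT [Algebra.IsIntegral R S] (p : Ideal R) [p.IsPrime]
    (hfin : {q : PrimeSpectrum S | q.asIdeal.comap (algebraMap R S) = p}.Finite)
    (hsep : ∀ (q : PrimeSpectrum S) (hq : q.asIdeal.comap (algebraMap R S) = p),
      letI := (Ideal.ResidueField.map p q.asIdeal (algebraMap R S) hq.symm).toAlgebra
      Module.Finite p.ResidueField (separableClosure p.ResidueField q.asIdeal.ResidueField))
    (q : ℕ) [ExpChar p.ResidueField q] :
    ∃ (R₁ : Type u) (_ : CommRing R₁) (_ : Algebra R R₁) (_ : Algebra.Etale R R₁) (p₁ : Ideal R₁)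
      (_ : p₁.IsPrime), p₁.comap (algebraMap R R₁) = p ∧
      ∀ (L : Type u) [Field L] (a : S →+* L) (b : R₁ →+* L),
        a.comp (algebraMap R S) = b.comp (algebraMap R R₁) → RingHom.ker b = p₁ →
        ∀ s : S, ∃ (n : ℕ) (c d : R₁), d ∉ p₁ ∧ a s ^ q ^ n * b d = b c := by
  classical
  haveI : Finite ↥{q : PrimeSpectrum S | q.asIdeal.comap (algebraMap R S) = p} := hfin.to_subtype
  let ι := ↥{q : PrimeSpectrum S | q.asIdeal.comap (algebraMap R S) = p}
  let K : ι → Type u := fun i => i.1.asIdeal.ResidueField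
  let φ : ∀ i : ι, p.ResidueField →+* K i := fun i =>
    Ideal.ResidueField.map p i.1.asIdeal (algebraMap R S)
      (i.2 : i.1.asIdeal.comap (algebraMap R S) = p).symm
  have halg : ∀ i, (φ i).IsIntegral := fun i => isIntegral_residueFieldMap p i.1.asIdeal _
  obtain ⟨k', _, _, _, _, hFT⟩ :=
    IntSplitFT.exists_sep_ext_alg K φ halg (fun i => hsep i.1 i.2) q
  have hφ : ∀ c : p.ResidueField, ∃ a b : R, algebraMap R p.ResidueField b ≠ 0 ∧
      c = algebraMap R p.ResidueField a / algebraMap R p.ResidueField b := by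
    intro c
    obtain ⟨a, b, hb, rfl⟩ := exists_div p c
    exact ⟨a, b, by rwa [Ne, Ideal.algebraMap_residueField_eq_zero], rfl⟩
  obtain ⟨R₁, _, _, _, ψ, hψ, hψsurj⟩ :=
    Groth.Agent.Lib.Helper11.EtaleNbhd.exists_etale_extension (algebraMap R p.ResidueField)
      (L := k') hφ
  haveI hp₁ : (RingHom.ker ψ).IsPrime := RingHom.ker_isPrime ψ
  have hover : (RingHom.ker ψ).comap (algebraMap R R₁) = p := by
    ext r
    rw [Ideal.mem_comap, RingHom.mem_ker, hψ, map_eq_zero, Ideal.algebraMap_residueField_eq_zero]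
  refine ⟨R₁, inferInstance, inferInstance, inferInstance, RingHom.ker ψ, hp₁, hover, ?_⟩
  intro L _ a b hab hkb s
  haveI hqa : (RingHom.ker a).IsPrime := RingHom.ker_isPrime a
  have hqa' : (RingHom.ker a).comap (algebraMap R S) = p := by
    ext r
    rw [Ideal.mem_comap, RingHom.mem_ker, ← RingHom.comp_apply, hab, RingHom.comp_apply,
      ← RingHom.mem_ker, hkb, ← Ideal.mem_comap, hover]
  let i : ι := ⟨⟨RingHom.ker a, hqa⟩, hqa'⟩
  let α : K i →+* L := liftOfKer (RingHom.ker a) a rfl
  let ψ' : (RingHom.ker ψ).ResidueField →+* k' := liftOfKer (RingHom.ker ψ) ψ rfl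
  have hψ'bij : Function.Bijective ψ' := by
    refine ⟨ψ'.injective, fun y => ?_⟩
    obtain ⟨c, d, hd, rfl⟩ := hψsurj y
    refine ⟨algebraMap _ _ c / algebraMap _ _ d, ?_⟩
    rw [map_div₀, liftOfKer_algebraMap, liftOfKer_algebraMap]
  let e := RingEquiv.ofBijective ψ' hψ'bij
  let b' : (RingHom.ker ψ).ResidueField →+* L := liftOfKer (RingHom.ker ψ) b hkb
  let β : k' →+* L := b'.comp e.symm.toRingHom
  have hes : ∀ x : R₁, e.symm (ψ x) = algebraMap R₁ (RingHom.ker ψ).ResidueField x := by
    intro x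
    rw [RingEquiv.symm_apply_eq]
    exact (liftOfKer_algebraMap (RingHom.ker ψ) ψ rfl x).symm
  have hcompat : α.comp (φ i) = β.comp (algebraMap p.ResidueField k') := by
    apply Ideal.ResidueField.ringHom_ext
    ext r
    show α (φ i (algebraMap R p.ResidueField r)) =
      b' (e.symm (algebraMap p.ResidueField k' (algebraMap R p.ResidueField r)))
    rw [← hψ, hes, liftOfKer_algebraMap]
    show α (Ideal.ResidueField.map p (RingHom.ker a) (algebraMap R S) _
      (algebraMap R p.ResidueField r)) = _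
    rw [Ideal.ResidueField.map_algebraMap, liftOfKer_algebraMap]
    exact RingHom.congr_fun hab r
  obtain ⟨n, w, hw⟩ := hFT i L α β hcompat (algebraMap S (RingHom.ker a).ResidueField s)
  obtain ⟨c, d, hd, hcd⟩ := exists_div (RingHom.ker ψ) (e.symm w)
  refine ⟨n, c, d, hd, ?_⟩
  have h1 : β w = b c / b d := by
    show b' (e.symm w) = _
    rw [hcd, map_div₀, liftOfKer_algebraMap, liftOfKer_algebraMap]
  have h2 : α (algebraMap S (RingHom.ker a).ResidueField s) = a s := liftOfKer_algebraMap ..
  rw [h2] at hw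
  have hbd : b d ≠ 0 := fun h0 => hd (hkb ▸ RingHom.mem_ker.mpr h0)
  rw [← hw, h1, div_mul_cancel₀ _ hbd]

end A

end Groth.Agent.Lib.Helper8.IntSplitRing
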