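import Mathlib
import Groth.Agent.Lib.Helper8.IntSplitRing

/-!
# Étale splitting of integral algebras: ring-level lemmas, part 2 (helper8)
-/

set_option autoImplicit false
universe u

open TensorProduct

namespace Groth.Agent.Lib.Helper8.IntSplitRing

section B

variable {R S : Type u} [CommRing R] [CommRing S] [Algebra R S]

theorem exists_prim_frac [Algebra.IsIntegral R S] (p : Ideal R) [p.IsPrime] (𝔮 : Ideal S)
    [𝔮.IsPrime] (h𝔮 : 𝔮.comap (algebraMap R S) = p)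
    (hsep : letI := (Ideal.ResidueField.map p 𝔮 (algebraMap R S) h𝔮.symm).toAlgebra
      Module.Finite p.ResidueField (separableClosure p.ResidueField 𝔮.ResidueField))
    (q : ℕ) [ExpChar p.ResidueField q] :
    ∃ y z : S, z ∉ 𝔮 ∧ ∀ S₀ : Subalgebra R S, y ∈ S₀ → z ∈ S₀ → ∀ s : S,
      ∃ (n : ℕ) (b a : S), b ∈ S₀ ∧ a ∈ S₀ ∧ b ∉ 𝔮 ∧ b * s ^ q ^ n - a ∈ 𝔮 := by
  classical
  letI alg := (Ideal.ResidueField.map p 𝔮 (algebraMap R S) h𝔮.symm).toAlgebra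
  haveI : Algebra.IsIntegral p.ResidueField 𝔮.ResidueField :=
    ⟨isIntegral_residueFieldMap p 𝔮 h𝔮.symm⟩
  haveI : Algebra.IsAlgebraic p.ResidueField 𝔮.ResidueField := inferInstance
  let F := separableClosure p.ResidueField 𝔮.ResidueField
  haveI : FiniteDimensional p.ResidueField F := hsep
  haveI : Algebra.IsSeparable p.ResidueField F := inferInstance
  obtain ⟨θ, hθ⟩ := Field.exists_primitive_element p.ResidueField F
  have hθ' : Algebra.adjoin p.ResidueField {θ} = ⊤ :=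
    (IntermediateField.adjoin_simple_eq_top_iff_of_isAlgebraic
      (Algebra.IsAlgebraic.isAlgebraic θ)).mp hθ
  obtain ⟨y, z, hz, hyz⟩ := exists_div 𝔮 (θ : 𝔮.ResidueField)
  refine ⟨y, z, hz, ?_⟩
  intro S₀ hy hzS s
  let 𝔮₀ : Ideal S₀ := 𝔮.comap (algebraMap S₀ S)
  haveI : 𝔮₀.IsPrime := Ideal.comap_isPrime _ _
  let μ : 𝔮₀.ResidueField →+* 𝔮.ResidueField :=
    Ideal.ResidueField.map 𝔮₀ 𝔮 (algebraMap S₀ S) rfl
  have hμ : ∀ x : S₀, μ (algebraMap S₀ 𝔮₀.ResidueField x) = algebraMap S 𝔮.ResidueField (x : S) :=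
    fun x => Ideal.ResidueField.map_algebraMap 𝔮₀ 𝔮 (algebraMap S₀ S) rfl x
  have hk : ∀ c : p.ResidueField, algebraMap p.ResidueField 𝔮.ResidueField c ∈ μ.range := by
    intro c
    obtain ⟨a, b, hb, rfl⟩ := exists_div p c
    refine ⟨algebraMap S₀ 𝔮₀.ResidueField (algebraMap R S₀ a) /
      algebraMap S₀ 𝔮₀.ResidueField (algebraMap R S₀ b), ?_⟩
    rw [map_div₀, hμ, hμ, map_div₀]
    show _ = Ideal.ResidueField.map p 𝔮 (algebraMap R S) h𝔮.symm _ /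
      Ideal.ResidueField.map p 𝔮 (algebraMap R S) h𝔮.symm _
    rw [Ideal.ResidueField.map_algebraMap, Ideal.ResidueField.map_algebraMap]
    rfl
  have hF : ∀ w : F, (w : 𝔮.ResidueField) ∈ μ.range := by
    intro w
    have hw : w ∈ Algebra.adjoin p.ResidueField {θ} := hθ' ▸ Algebra.mem_top
    induction hw using Algebra.adjoin_induction with
    | mem x hx =>
      rw [Set.mem_singleton_iff] at hx
      subst hx
      refine ⟨algebraMap S₀ 𝔮₀.ResidueField ⟨y, hy⟩ / algebraMap S₀ 𝔮₀.ResidueField ⟨z, hzS⟩, ?_⟩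
      rw [map_div₀, hμ, hμ, hyz]
    | algebraMap c => exact hk c
    | add a b _ _ ha hb => exact μ.range.add_mem ha hb
    | mul a b _ _ ha hb => exact μ.range.mul_mem ha hb
  haveI : ExpChar F q := expChar_of_injective_algebraMap (algebraMap p.ResidueField F).injective q
  haveI : IsPurelyInseparable F 𝔮.ResidueField :=
    separableClosure.isPurelyInseparable p.ResidueField 𝔮.ResidueField
  obtain ⟨n, w, hw⟩ := IsPurelyInseparable.pow_mem F q (algebraMap S 𝔮.ResidueField s)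
  obtain ⟨v, hv⟩ := hF w
  obtain ⟨a₀, b₀, hb₀, rfl⟩ := exists_div 𝔮₀ v
  refine ⟨n, b₀, a₀, b₀.2, a₀.2, hb₀, ?_⟩
  rw [← Ideal.algebraMap_residueField_eq_zero, map_sub, map_mul, map_pow, sub_eq_zero, ← hw]
  have hb₀' : algebraMap S 𝔮.ResidueField (b₀ : S) ≠ 0 := by
    rw [Ne, Ideal.algebraMap_residueField_eq_zero]
    exact hb₀
  have : algebraMap F 𝔮.ResidueField w = algebraMap S 𝔮.ResidueField (a₀ : S) /
      algebraMap S 𝔮.ResidueField (b₀ : S) := by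
    show (w : 𝔮.ResidueField) = _
    rw [← hv, map_div₀, hμ, hμ]
  rw [this, mul_div_cancel₀ _ hb₀']

theorem exists_subalgebra [Algebra.IsIntegral R S] (p : Ideal R) [p.IsPrime]
    (hfin : {q : PrimeSpectrum S | q.asIdeal.comap (algebraMap R S) = p}.Finite)
    (hsep : ∀ (q : PrimeSpectrum S) (hq : q.asIdeal.comap (algebraMap R S) = p),
      letI := (Ideal.ResidueField.map p q.asIdeal (algebraMap R S) hq.symm).toAlgebra
      Module.Finite p.ResidueField (separableClosure p.ResidueField q.asIdeal.ResidueField))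
    (q : ℕ) [ExpChar p.ResidueField q] :
    ∃ S₀ : Subalgebra R S, S₀.FG ∧
      (∀ 𝔮 𝔮' : Ideal S, 𝔮.IsPrime → 𝔮'.IsPrime → 𝔮.comap (algebraMap R S) = p →
        𝔮'.comap (algebraMap R S) = p → (∀ x ∈ S₀, x ∈ 𝔮 ↔ x ∈ 𝔮') → 𝔮 = 𝔮') ∧
      (∀ 𝔮 : Ideal S, 𝔮.IsPrime → 𝔮.comap (algebraMap R S) = p → ∀ s : S,
        ∃ (n : ℕ) (b a : S), b ∈ S₀ ∧ a ∈ S₀ ∧ b ∉ 𝔮 ∧ b * s ^ q ^ n - a ∈ 𝔮) := by
  classical
  let Φ := {q : PrimeSpectrum S | q.asIdeal.comap (algebraMap R S) = p}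
  haveI : Finite ↥Φ := hfin.to_subtype
  have hsepel : ∀ i j : ↥Φ, ∃ x : S, i ≠ j → x ∈ i.1.asIdeal ∧ x ∉ j.1.asIdeal := by
    intro i j
    by_cases hij : i = j
    · exact ⟨0, fun h => (h hij).elim⟩
    · have hnle : ¬ i.1.asIdeal ≤ j.1.asIdeal := by
        intro hle
        have hne : i.1.asIdeal ≠ j.1.asIdeal := fun h => hij (Subtype.ext (PrimeSpectrum.ext h))
        obtain ⟨x, hxj, hxi⟩ := SetLike.exists_of_lt (lt_of_le_of_ne hle hne)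
        have hlt := Ideal.comap_lt_comap_of_integral_mem_sdiff (R := R) hle ⟨hxj, hxi⟩
          (Algebra.IsIntegral.isIntegral x)
        rw [(i.2 : i.1.asIdeal.comap (algebraMap R S) = p),
          (j.2 : j.1.asIdeal.comap (algebraMap R S) = p)] at hlt
        exact lt_irrefl _ hlt
      obtain ⟨x, hxi, hxj⟩ := SetLike.not_le_iff_exists.mp hnle
      exact ⟨x, fun _ => ⟨hxi, hxj⟩⟩
  choose x hx using hsepel
  have hprim : ∀ i : ↥Φ, ∃ y z : S, z ∉ i.1.asIdeal ∧ ∀ S₀ : Subalgebra R S, y ∈ S₀ → z ∈ S₀ →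
      ∀ s : S, ∃ (n : ℕ) (b a : S), b ∈ S₀ ∧ a ∈ S₀ ∧ b ∉ i.1.asIdeal ∧
        b * s ^ q ^ n - a ∈ i.1.asIdeal :=
    fun i => exists_prim_frac p i.1.asIdeal i.2 (hsep i.1 i.2) q
  choose y z hz hyz using hprim
  let t : Set S := Set.range (fun ij : ↥Φ × ↥Φ => x ij.1 ij.2) ∪ Set.range y ∪ Set.range z
  have htfin : t.Finite :=
    ((Set.finite_range _).union (Set.finite_range _)).union (Set.finite_range _)
  refine ⟨Algebra.adjoin R t, Subalgebra.fg_def.mpr ⟨t, htfin, rfl⟩, ?_, ?_⟩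
  · intro 𝔮 𝔮' h1 h2 h3 h4 hiff
    by_contra hne
    let i : ↥Φ := ⟨⟨𝔮, h1⟩, h3⟩
    let j : ↥Φ := ⟨⟨𝔮', h2⟩, h4⟩
    have hij : i ≠ j := fun h => hne (congrArg (fun u : ↥Φ => u.1.asIdeal) h)
    obtain ⟨hxi, hxj⟩ := hx i j hij
    have hmem : x i j ∈ Algebra.adjoin R t :=
      Algebra.subset_adjoin (Or.inl (Or.inl ⟨(i, j), rfl⟩))
    exact hxj ((hiff _ hmem).mp hxi)
  · intro 𝔮 h1 h3 s
    let i : ↥Φ := ⟨⟨𝔮, h1⟩, h3⟩
    exact hyz i (Algebra.adjoin R t) (Algebra.subset_adjoin (Or.inl (Or.inr ⟨i, rfl⟩)))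
      (Algebra.subset_adjoin (Or.inr ⟨i, rfl⟩)) s

end B

section U

variable {R S R' W : Type u} [CommRing R] [CommRing S] [CommRing R'] [CommRing W] [Algebra R S]
  [Algebra R R'] (S₀ : Subalgebra R S) (Ψ : W →+* R' ⊗[R] S)
  (hΨ : ∀ (r' : R') (s₀ : S₀), ∃ w, Ψ w = r' ⊗ₜ[R] (s₀ : S)) (𝔮 : Ideal S) (q : ℕ)
  (hb : ∀ s : S, ∃ (n : ℕ) (b a : S), b ∈ S₀ ∧ a ∈ S₀ ∧ b ∉ 𝔮 ∧ b * s ^ q ^ n - a ∈ 𝔮)

include hΨ hb in
theorem lemmaU [𝔮.IsPrime] (t : R' ⊗[R] S) :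
    ∃ (n : ℕ) (b : S) (w : W), b ∈ S₀ ∧ b ∉ 𝔮 ∧
      ∀ (L : Type u) [Field L] [ExpChar L q] (χ : R' ⊗[R] S →+* L),
        (∀ s ∈ 𝔮, χ ((1 : R') ⊗ₜ[R] s) = 0) →
        χ (((1 : R') ⊗ₜ[R] b) * t ^ q ^ n) = χ (Ψ w) := by
  induction t using TensorProduct.induction_on with
  | zero =>
    refine ⟨0, 1, 0, S₀.one_mem, ?_, ?_⟩
    · exact (Ideal.ne_top_iff_one 𝔮).mp (Ideal.IsPrime.ne_top ‹_›)
    · intro L _ _ χ _
      simp
  | tmul r' s =>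
    obtain ⟨n, b, a, hbS, haS, hbq, hmem⟩ := hb s
    obtain ⟨w, hw⟩ := hΨ (r' ^ q ^ n) ⟨a, haS⟩
    refine ⟨n, b, w, hbS, hbq, ?_⟩
    intro L _ _ χ hχ
    rw [hw]
    have e : ((1 : R') ⊗ₜ[R] b) * (r' ⊗ₜ[R] s) ^ q ^ n - (r' ^ q ^ n) ⊗ₜ[R] a =
        ((r' ^ q ^ n) ⊗ₜ[R] (1 : S)) * ((1 : R') ⊗ₜ[R] (b * s ^ q ^ n - a)) := by
      rw [Algebra.TensorProduct.tmul_pow, Algebra.TensorProduct.tmul_mul_tmul,
        Algebra.TensorProduct.tmul_mul_tmul, one_mul, mul_one, one_mul, TensorProduct.tmul_sub]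
    have h0 : χ (((1 : R') ⊗ₜ[R] b) * (r' ⊗ₜ[R] s) ^ q ^ n) - χ ((r' ^ q ^ n) ⊗ₜ[R] a) = 0 := by
      rw [← map_sub, e, map_mul, hχ _ hmem, mul_zero]
    exact sub_eq_zero.mp h0
  | add t₁ t₂ ih₁ ih₂ =>
    obtain ⟨n₁, b₁, w₁, hb₁S, hb₁, h₁⟩ := ih₁
    obtain ⟨n₂, b₂, w₂, hb₂S, hb₂, h₂⟩ := ih₂
    obtain ⟨u₁, hu₁⟩ := hΨ 1 ⟨b₁, hb₁S⟩
    obtain ⟨u₂, hu₂⟩ := hΨ 1 ⟨b₂, hb₂S⟩
    refine ⟨n₁ + n₂, b₁ ^ q ^ n₂ * b₂ ^ q ^ n₁,
      u₂ ^ q ^ n₁ * w₁ ^ q ^ n₂ + u₁ ^ q ^ n₂ * w₂ ^ q ^ n₁,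
      S₀.mul_mem (S₀.pow_mem hb₁S _) (S₀.pow_mem hb₂S _), ?_, ?_⟩
    · intro hmem
      rcases Ideal.IsPrime.mem_or_mem ‹_› hmem with h | h
      · exact hb₁ (Ideal.IsPrime.mem_of_pow_mem ‹_› _ h)
      · exact hb₂ (Ideal.IsPrime.mem_of_pow_mem ‹_› _ h)
    · intro L _ _ χ hχ
      have e₁ := h₁ L χ hχ
      have e₂ := h₂ L χ hχ
      rw [map_mul, map_pow] at e₁ e₂
      have eb : ((1 : R') ⊗ₜ[R] (b₁ ^ q ^ n₂ * b₂ ^ q ^ n₁)) =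
          ((1 : R') ⊗ₜ[R] b₁) ^ q ^ n₂ * ((1 : R') ⊗ₜ[R] b₂) ^ q ^ n₁ := by
        rw [Algebra.TensorProduct.tmul_pow, Algebra.TensorProduct.tmul_pow,
          Algebra.TensorProduct.tmul_mul_tmul, one_pow, one_pow, one_mul]
      have eΨ : Ψ (u₂ ^ q ^ n₁ * w₁ ^ q ^ n₂ + u₁ ^ q ^ n₂ * w₂ ^ q ^ n₁) =
          ((1 : R') ⊗ₜ[R] b₂) ^ q ^ n₁ * (Ψ w₁) ^ q ^ n₂ +
            ((1 : R') ⊗ₜ[R] b₁) ^ q ^ n₂ * (Ψ w₂) ^ q ^ n₁ := by
        simp only [map_add, map_mul, map_pow, hu₁, hu₂]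
      rw [eb, eΨ]
      simp only [map_add, map_mul, map_pow]
      rw [← e₁, ← e₂, add_pow_expChar_pow]
      have p1 : χ t₁ ^ q ^ (n₁ + n₂) = (χ t₁ ^ q ^ n₁) ^ q ^ n₂ := by
        rw [pow_add, pow_mul]
      have p2 : χ t₂ ^ q ^ (n₁ + n₂) = (χ t₂ ^ q ^ n₂) ^ q ^ n₁ := by
        rw [add_comm, pow_add, pow_mul]
      rw [p1, p2, mul_pow, mul_pow]
      ring

include hΨ hb in
theorem le_of_comap_eq [𝔮.IsPrime] (Q Q' : Ideal (R' ⊗[R] S)) [Q.IsPrime] [Q'.IsPrime]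
    (hQ : ∀ s ∈ 𝔮, (1 : R') ⊗ₜ[R] s ∈ Q) (hQ' : ∀ s, (1 : R') ⊗ₜ[R] s ∈ Q' ↔ s ∈ 𝔮)
    (h₀ : Q.comap Ψ = Q'.comap Ψ) [ExpChar Q.ResidueField q] [ExpChar Q'.ResidueField q] :
    Q ≤ Q' := by
  intro t ht
  obtain ⟨n, b, w, hbS, hbq, h⟩ := lemmaU S₀ Ψ hΨ 𝔮 q hb t
  have h1 := h Q.ResidueField (algebraMap _ _)
    (fun s hs => (Ideal.algebraMap_residueField_eq_zero).mpr (hQ s hs))
  have h2 := h Q'.ResidueField (algebraMap _ _)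
    (fun s hs => (Ideal.algebraMap_residueField_eq_zero).mpr ((hQ' s).mpr hs))
  have hq0 : q ^ n ≠ 0 := pow_ne_zero _ (expChar_pos Q.ResidueField q).ne'
  have hw : Ψ w ∈ Q := by
    rw [← Ideal.algebraMap_residueField_eq_zero, ← h1, map_mul, map_pow,
      (Ideal.algebraMap_residueField_eq_zero).mpr ht, zero_pow hq0, mul_zero]
  have hw' : Ψ w ∈ Q' := by
    have h3 : w ∈ Q.comap Ψ := hw
    rw [h₀] at h3
    exact h3
  have h3 : ((1 : R') ⊗ₜ[R] b) * t ^ q ^ n ∈ Q' := by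
    rw [← Ideal.algebraMap_residueField_eq_zero, h2, Ideal.algebraMap_residueField_eq_zero]
    exact hw'
  rcases Ideal.IsPrime.mem_or_mem ‹Q'.IsPrime› h3 with h4 | h4
  · exact (hbq ((hQ' b).mp h4)).elim
  · exact Ideal.IsPrime.mem_of_pow_mem ‹_› _ h4

end U

end Groth.Agent.Lib.Helper8.IntSplitRing
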