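import Mathlib
import Groth.Agent.Lib.Helper8.IntSplitRing2

/-!
# Étale splitting of integral algebras: assembly (helper8)
-/

set_option autoImplicit false
universe u

open TensorProduct

namespace Groth.Agent.Lib.Helper8.IntSplitRing

section PI

theorem isPurelyInseparable_of_FT {R S R₁ R' A : Type u} [CommRing R] [CommRing S] [CommRing R₁]
    [CommRing R'] [CommRing A] [Algebra R S] [Algebra R R₁] [Algebra R R'] [Algebra R₁ R']
    [IsScalarTower R R₁ R'] [Algebra R' A] (p₁ : Ideal R₁) (q : ℕ)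
    (hFT : ∀ (L : Type u) [Field L] (a : S →+* L) (b : R₁ →+* L),
        a.comp (algebraMap R S) = b.comp (algebraMap R R₁) → RingHom.ker b = p₁ →
        ∀ s : S, ∃ (n : ℕ) (c d : R₁), d ∉ p₁ ∧ a s ^ q ^ n * b d = b c)
    (P : Ideal R') [P.IsPrime] (hP : P.comap (algebraMap R₁ R') = p₁) [ExpChar P.ResidueField q]
    (π : R' ⊗[R] S →ₐ[R'] A) (hπ : Function.Surjective π)
    (𝔯 : Ideal A) [𝔯.IsPrime] (hr : 𝔯.comap (algebraMap R' A) = P) :
    letI := (Ideal.ResidueField.map P 𝔯 (algebraMap R' A) hr.symm).toAlgebra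
    IsPurelyInseparable P.ResidueField 𝔯.ResidueField := by
  letI := (Ideal.ResidueField.map P 𝔯 (algebraMap R' A) hr.symm).toAlgebra
  let L := AlgebraicClosure 𝔯.ResidueField
  haveI : ExpChar 𝔯.ResidueField q :=
    expChar_of_injective_algebraMap (algebraMap P.ResidueField 𝔯.ResidueField).injective q
  haveI : ExpChar L q :=
    expChar_of_injective_algebraMap (algebraMap 𝔯.ResidueField L).injective q
  haveI : Nonempty (𝔯.ResidueField →+* L) := ⟨algebraMap _ _⟩
  refine IsPurelyInseparable.of_injective_comp_algebraMap _ _ L ?_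
  intro σ₁ σ₂ hσ
  have hσ' : ∀ z, σ₁ (algebraMap P.ResidueField 𝔯.ResidueField z) =
      σ₂ (algebraMap P.ResidueField 𝔯.ResidueField z) := fun z => RingHom.congr_fun hσ z
  let γ : R' ⊗[R] S →+* 𝔯.ResidueField := (algebraMap A 𝔯.ResidueField).comp π.toRingHom
  have hγR' : ∀ r' : R', γ (algebraMap R' (R' ⊗[R] S) r') =
      algebraMap P.ResidueField 𝔯.ResidueField (algebraMap R' P.ResidueField r') := by
    intro r'
    show algebraMap A 𝔯.ResidueField (π (algebraMap R' (R' ⊗[R] S) r')) = _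
    rw [π.commutes]
    exact (Ideal.ResidueField.map_algebraMap P 𝔯 (algebraMap R' A) hr.symm r').symm
  have hR' : ∀ r' : R', σ₁ (γ (algebraMap R' (R' ⊗[R] S) r')) =
      σ₂ (γ (algebraMap R' (R' ⊗[R] S) r')) := by
    intro r'; rw [hγR']; exact hσ' _
  let a : S →+* 𝔯.ResidueField :=
    γ.comp (Algebra.TensorProduct.includeRight : S →ₐ[R] R' ⊗[R] S).toRingHom
  let b : R₁ →+* 𝔯.ResidueField :=
    γ.comp ((algebraMap R' (R' ⊗[R] S)).comp (algebraMap R₁ R'))
  have hab : a.comp (algebraMap R S) = b.comp (algebraMap R R₁) := by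
    ext r
    show γ ((1 : R') ⊗ₜ[R] algebraMap R S r) =
      γ (algebraMap R' (R' ⊗[R] S) (algebraMap R₁ R' (algebraMap R R₁ r)))
    congr 1
    have e1 : (algebraMap R R' r) ⊗ₜ[R] (1 : S) = (1 : R') ⊗ₜ[R] algebraMap R S r := by
      rw [Algebra.algebraMap_eq_smul_one r, Algebra.algebraMap_eq_smul_one (A := S) r,
        TensorProduct.smul_tmul]
    rw [← IsScalarTower.algebraMap_apply R R₁ R', Algebra.TensorProduct.algebraMap_apply]
    exact e1.symm
  have hkb : RingHom.ker b = p₁ := by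
    ext x
    rw [RingHom.mem_ker, ← hP, Ideal.mem_comap]
    show γ (algebraMap R' (R' ⊗[R] S) (algebraMap R₁ R' x)) = 0 ↔ _
    rw [hγR', map_eq_zero, Ideal.algebraMap_residueField_eq_zero]
  have hS : ∀ s : S, σ₁ (a s) = σ₂ (a s) := by
    intro s
    obtain ⟨n, c, d, hd, h⟩ := hFT 𝔯.ResidueField a b hab hkb s
    have hbx : ∀ x : R₁, σ₁ (b x) = σ₂ (b x) := fun x => hR' _
    have hbd : b d ≠ 0 := fun h0 => hd (hkb ▸ RingHom.mem_ker.mpr h0)
    have h1 : σ₁ (a s) ^ q ^ n * σ₁ (b d) = σ₁ (b c) := by rw [← map_pow, ← map_mul, h]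
    have h2 : σ₂ (a s) ^ q ^ n * σ₂ (b d) = σ₂ (b c) := by rw [← map_pow, ← map_mul, h]
    rw [hbx d, hbx c, ← h2] at h1
    have h3 : σ₁ (a s) ^ q ^ n = σ₂ (a s) ^ q ^ n :=
      mul_right_cancel₀ ((map_ne_zero σ₂).mpr hbd) h1
    apply iterateFrobenius_inj L q n
    simp only [iterateFrobenius_def]
    exact h3
  apply Ideal.ResidueField.ringHom_ext
  apply RingHom.ext
  intro x
  obtain ⟨t, rfl⟩ := hπ x
  show σ₁ (γ t) = σ₂ (γ t)
  induction t using TensorProduct.induction_on with
  | zero => simp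
  | tmul r' s =>
    have e : r' ⊗ₜ[R] s = algebraMap R' (R' ⊗[R] S) r' * ((1 : R') ⊗ₜ[R] s) := by
      rw [Algebra.TensorProduct.algebraMap_apply, Algebra.TensorProduct.tmul_mul_tmul]
      simp
    rw [e, map_mul, map_mul, map_mul, hR']
    congr 1
    exact hS s
  | add t₁ t₂ h₁ h₂ => rw [map_add, map_add, map_add, h₁, h₂]

end PI

section Glue

theorem glue_coi {T : Type*} [CommRing T] {n : ℕ} (ε : Fin (n + 1) → T)
    (hε : CompleteOrthogonalIdempotents ε) (j₀ : Fin n) :
    CompleteOrthogonalIdempotents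
      (fun j : Fin n => ε j.castSucc + if j = j₀ then ε (Fin.last n) else 0) := by
  classical
  have hort : ∀ i j : Fin (n + 1), i ≠ j → ε i * ε j = 0 := fun i j h => hε.ortho h
  have hid : ∀ i, ε i * ε i = ε i := fun i => (hε.idem i).eq
  have hcl : ∀ j : Fin n, ε j.castSucc * ε (Fin.last n) = 0 :=
    fun j => hort _ _ (Fin.castSucc_lt_last j).ne
  have hlc : ∀ j : Fin n, ε (Fin.last n) * ε j.castSucc = 0 :=
    fun j => hort _ _ (Fin.castSucc_lt_last j).ne'
  rw [CompleteOrthogonalIdempotents.iff_ortho_complete]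
  refine ⟨fun i j hij => ?_, ?_⟩
  · show (ε i.castSucc + if i = j₀ then ε (Fin.last n) else 0) *
      (ε j.castSucc + if j = j₀ then ε (Fin.last n) else 0) = 0
    have hij' : i.castSucc ≠ j.castSucc := fun h => hij (Fin.castSucc_injective _ h)
    have h0 := hort _ _ hij'
    by_cases hi : i = j₀ <;> by_cases hj : j = j₀
    · exact (hij (hi.trans hj.symm)).elim
    · rw [if_pos hi, if_neg hj, add_zero, add_mul, h0, hlc, add_zero]
    · rw [if_neg hi, if_pos hj, add_zero, mul_add, h0, hcl, add_zero]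
    · rw [if_neg hi, if_neg hj, add_zero, add_zero, h0]
  · rw [Finset.sum_add_distrib, Finset.sum_ite_eq' Finset.univ j₀, if_pos (Finset.mem_univ _),
      ← Fin.sum_univ_castSucc]
    exact hε.complete

end Glue

section Empty

theorem concl_of_subsingleton {R S R'' : Type u} [CommRing R] [CommRing S] [CommRing R'']
    [Algebra R S] [Algebra R R''] [Subsingleton (R'' ⊗[R] S)] (P : Ideal R'') [P.IsPrime] :
    ∃ (m : ℕ) (A : Fin m → Type u) (_ : ∀ j, CommRing (A j)) (_ : ∀ j, Algebra R'' (A j))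
      (_ : R'' ⊗[R] S ≃ₐ[R''] (Π j, A j)),
      ∀ j, Algebra.IsIntegral R'' (A j) ∧ ∃ (r : PrimeSpectrum (A j))
        (hr : r.asIdeal.comap (algebraMap R'' (A j)) = P),
        (∀ r' : PrimeSpectrum (A j), r'.asIdeal.comap (algebraMap R'' (A j)) = P → r' = r) ∧
        letI := (Ideal.ResidueField.map P r.asIdeal (algebraMap R'' (A j)) hr.symm).toAlgebra
        IsPurelyInseparable P.ResidueField r.asIdeal.ResidueField := by
  refine ⟨0, fun _ => PUnit.{u + 1}, fun _ => inferInstance, fun _ => inferInstance, ?_,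
    fun j => j.elim0⟩
  exact AlgEquiv.ofBijective (Pi.algHom R'' _ (fun j => j.elim0))
    ⟨fun a b _ => Subsingleton.elim a b, fun y => ⟨0, Subsingleton.elim _ _⟩⟩

theorem exists_localization_of_empty {R S R' : Type u} [CommRing R] [CommRing S] [CommRing R']
    [Algebra R S] [Algebra R R'] [Algebra.Etale R R'] [Algebra.IsIntegral R S] (p : Ideal R)
    (P : Ideal R') [P.IsPrime] (hPp : P.comap (algebraMap R R') = p)
    (h : ¬ ∃ Q : Ideal (R' ⊗[R] S), Q.IsPrime ∧ Q.comap (algebraMap R' (R' ⊗[R] S)) = P) :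
    ∃ (R'' : Type u) (_ : CommRing R'') (_ : Algebra R R'') (p' : PrimeSpectrum R''),
      Algebra.Etale R R'' ∧ p'.asIdeal.comap (algebraMap R R'') = p ∧
        Subsingleton (R'' ⊗[R] S) := by
  have hker : ¬ RingHom.ker (algebraMap R' (R' ⊗[R] S)) ≤ P := by
    intro hle
    obtain ⟨Q, -, hQ, hQP⟩ := Ideal.exists_ideal_over_prime_of_isIntegral P
      (⊥ : Ideal (R' ⊗[R] S)) (by rwa [← RingHom.ker_eq_comap_bot])
    exact h ⟨Q, hQ, hQP⟩
  obtain ⟨f, hfker, hfP⟩ := SetLike.not_le_iff_exists.mp hker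
  let P'' : Ideal (Localization.Away f) := P.map (algebraMap R' (Localization.Away f))
  haveI : P''.IsPrime := IsLocalization.isPrime_of_isPrime_disjoint (.powers f) _ _ ‹_› (by
    rwa [Ideal.disjoint_powers_iff_notMem_of_isPrime])
  haveI hover : P''.LiesOver P :=
    IsLocalization.liesOver_map_of_isPrime_disjoint (.powers f) _ (by
      rwa [Ideal.disjoint_powers_iff_notMem _ (Ideal.IsPrime.isRadical ‹_›)])
  refine ⟨Localization.Away f, inferInstance, inferInstance, ⟨P'', inferInstance⟩, inferInstance,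
    ?_, ?_⟩
  · show P''.comap (algebraMap R (Localization.Away f)) = p
    have h1 : P''.comap (algebraMap R' (Localization.Away f)) = P := hover.over.symm
    rw [IsScalarTower.algebraMap_eq R R' (Localization.Away f), ← Ideal.comap_comap, h1, hPp]
  · have h0 : (algebraMap R' (Localization.Away f) f) ⊗ₜ[R] (1 : S) =
        (0 : Localization.Away f ⊗[R] S) := by
      have h1 := congrArg (Algebra.TensorProduct.map
        (IsScalarTower.toAlgHom R R' (Localization.Away f)) (AlgHom.id R S))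
        (RingHom.mem_ker.mp hfker)
      rw [Algebra.TensorProduct.algebraMap_apply, map_zero] at h1
      simpa using h1
    obtain ⟨u, hu⟩ := IsLocalization.Away.algebraMap_isUnit (S := Localization.Away f) f
    refine subsingleton_of_zero_eq_one ?_
    have h2 : (1 : Localization.Away f ⊗[R] S) =
        ((↑u⁻¹ : Localization.Away f) ⊗ₜ[R] (1 : S)) *
          ((algebraMap R' (Localization.Away f) f) ⊗ₜ[R] (1 : S)) := by
      rw [Algebra.TensorProduct.tmul_mul_tmul, ← hu, Units.inv_mul, one_mul]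
      rfl
    rw [h2, h0, mul_zero]

end Empty

end Groth.Agent.Lib.Helper8.IntSplitRing
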