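import Mathlib
import Groth.Agent.Lib.Helper8.IntSplitRing3

/-!
# Étale splitting of integral algebras at a prime with finite fibre (helper8)
-/

set_option autoImplicit false
universe u

open TensorProduct

namespace Groth.Agent.Lib.Helper8.IntSplitRing

set_option maxHeartbeats 1600000 in
theorem main_aux {R S R₁ R' W : Type u} [CommRing R] [CommRing S] [CommRing R₁] [CommRing R']
    [CommRing W] [Algebra R S] [Algebra.IsIntegral R S] [Algebra R R₁] [Algebra R R']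
    [Algebra R₁ R'] [IsScalarTower R R₁ R'] [Algebra.Etale R R'] [Algebra R' W]
    (p : Ideal R) [p.IsPrime] (q : ℕ) [ExpChar p.ResidueField q] (S₀ : Subalgebra R S)
    (hSa : ∀ 𝔮 𝔮' : Ideal S, 𝔮.IsPrime → 𝔮'.IsPrime → 𝔮.comap (algebraMap R S) = p →
        𝔮'.comap (algebraMap R S) = p → (∀ x ∈ S₀, x ∈ 𝔮 ↔ x ∈ 𝔮') → 𝔮 = 𝔮')
    (hSb : ∀ 𝔮 : Ideal S, 𝔮.IsPrime → 𝔮.comap (algebraMap R S) = p → ∀ s : S,
        ∃ (n : ℕ) (b a : S), b ∈ S₀ ∧ a ∈ S₀ ∧ b ∉ 𝔮 ∧ b * s ^ q ^ n - a ∈ 𝔮)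
    (p₁ : Ideal R₁)
    (hFT : ∀ (L : Type u) [Field L] (a : S →+* L) (b : R₁ →+* L),
        a.comp (algebraMap R S) = b.comp (algebraMap R R₁) → RingHom.ker b = p₁ →
        ∀ s : S, ∃ (n : ℕ) (c d : R₁), d ∉ p₁ ∧ a s ^ q ^ n * b d = b c)
    (P : Ideal R') [P.IsPrime] (hPp₁ : P.comap (algebraMap R₁ R') = p₁)
    (hPp : P.comap (algebraMap R R') = p)
    (ΨA : W →ₐ[R'] R' ⊗[R] S) (hΨ : ∀ (r' : R') (s₀ : S₀), ∃ w, ΨA w = r' ⊗ₜ[R] (s₀ : S))
    (hΨinj : Function.Injective ΨA)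
    (n : ℕ) (e : Fin (n + 1) → W) (he : CompleteOrthogonalIdempotents e) (P' : Fin n → Ideal W)
    (hP'prime : ∀ i, (P' i).IsPrime) (hP'over : ∀ i, (P' i).comap (algebraMap R' W) = P)
    (heP' : ∀ i, e i.castSucc ∉ P' i)
    (H : ∀ P'' : Ideal W, P''.IsPrime → P''.comap (algebraMap R' W) = P →
      e (Fin.last n) ∈ P'' ∧ ∀ i, e i.castSucc ∉ P'' → P'' = P' i)
    (Qs : Ideal (R' ⊗[R] S)) (hQs : Qs.IsPrime)
    (hQsP : Qs.comap (algebraMap R' (R' ⊗[R] S)) = P) :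
    ∃ (m : ℕ) (A : Fin m → Type u) (_ : ∀ j, CommRing (A j)) (_ : ∀ j, Algebra R' (A j))
        (_ : R' ⊗[R] S ≃ₐ[R'] (Π j, A j)),
        ∀ j, Algebra.IsIntegral R' (A j) ∧ ∃ (r : PrimeSpectrum (A j))
          (hr : r.asIdeal.comap (algebraMap R' (A j)) = P),
          (∀ r' : PrimeSpectrum (A j),
            r'.asIdeal.comap (algebraMap R' (A j)) = P → r' = r) ∧
          letI := (Ideal.ResidueField.map P r.asIdeal (algebraMap R' (A j))
            hr.symm).toAlgebra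
          IsPurelyInseparable P.ResidueField r.asIdeal.ResidueField := by
  classical
  let Ψ : W →+* R' ⊗[R] S := ΨA.toRingHom
  have hΨ' : ∀ (r' : R') (s₀ : S₀), ∃ w, Ψ w = r' ⊗ₜ[R] (s₀ : S) := hΨ
  have hΨalg : ∀ r' : R', Ψ (algebraMap R' W r') = algebraMap R' (R' ⊗[R] S) r' :=
    fun r' => ΨA.commutes r'
  have hcomapΨ : ∀ Q : Ideal (R' ⊗[R] S),
      (Q.comap Ψ).comap (algebraMap R' W) = Q.comap (algebraMap R' (R' ⊗[R] S)) := by
    intro Q
    ext r'
    rw [Ideal.mem_comap, Ideal.mem_comap, Ideal.mem_comap, hΨalg]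
  have HT : ∀ Q : Ideal (R' ⊗[R] S), Q.IsPrime → Q.comap (algebraMap R' (R' ⊗[R] S)) = P →
      Ψ (e (Fin.last n)) ∈ Q ∧ ∀ i : Fin n, Ψ (e i.castSucc) ∉ Q → Q.comap Ψ = P' i := by
    intro Q hQ hQP
    haveI := hQ
    have h1 : (Q.comap Ψ).IsPrime := Ideal.comap_isPrime _ _
    obtain ⟨h2, h3⟩ := H (Q.comap Ψ) h1 (by rw [hcomapΨ, hQP])
    exact ⟨h2, fun i hi => h3 i hi⟩
  have hεcoi : CompleteOrthogonalIdempotents (Ψ ∘ e) := he.map Ψ
  obtain ⟨j₀, hj₀⟩ : ∃ j₀ : Fin n, Ψ (e j₀.castSucc) ∉ Qs := by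
    by_contra hcon
    push Not at hcon
    have h1 : (1 : R' ⊗[R] S) ∈ Qs := by
      rw [← hεcoi.complete, Fin.sum_univ_castSucc]
      exact Qs.add_mem (Qs.sum_mem (fun j _ => hcon j)) (HT Qs hQs hQsP).1
    exact hQs.ne_top ((Ideal.eq_top_iff_one _).mpr h1)
  let ε' : Fin n → R' ⊗[R] S := fun j =>
    (Ψ ∘ e) j.castSucc + if j = j₀ then (Ψ ∘ e) (Fin.last n) else 0
  have hε' : CompleteOrthogonalIdempotents ε' := glue_coi (Ψ ∘ e) hεcoi j₀
  have hε'mem : ∀ Q : Ideal (R' ⊗[R] S), Q.IsPrime → Q.comap (algebraMap R' (R' ⊗[R] S)) = P →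
      ∀ j, (ε' j ∈ Q ↔ Ψ (e j.castSucc) ∈ Q) := by
    intro Q hQ hQP j
    have hlast := (HT Q hQ hQP).1
    have hmem : (if j = j₀ then (Ψ ∘ e) (Fin.last n) else 0) ∈ Q := by
      split_ifs
      · exact hlast
      · exact Q.zero_mem
    exact Q.add_mem_iff_left hmem
  have hΨint : Ψ.IsIntegral := by
    have h1 : (algebraMap R' (R' ⊗[R] S)).IsIntegral :=
      algebraMap_isIntegral_iff.mpr inferInstance
    have h2 : Ψ.comp (algebraMap R' W) = algebraMap R' (R' ⊗[R] S) := ΨA.comp_algebraMap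
    exact RingHom.IsIntegral.tower_top (algebraMap R' W) Ψ (h2 ▸ h1)
  have hexQ : ∀ j : Fin n, ∃ Q : Ideal (R' ⊗[R] S), Q.IsPrime ∧ Q.comap Ψ = P' j := by
    intro j
    letI := Ψ.toAlgebra
    haveI : Algebra.IsIntegral W (R' ⊗[R] S) := ⟨hΨint⟩
    haveI := hP'prime j
    obtain ⟨Q, -, hQ, hQc⟩ := Ideal.exists_ideal_over_prime_of_isIntegral (P' j)
      (⊥ : Ideal (R' ⊗[R] S)) (by
        intro x hx
        have hx0 : Ψ x = 0 := hx
        have : x = 0 := hΨinj (by rw [map_zero]; exact hx0)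
        rw [this]
        exact (P' j).zero_mem)
    exact ⟨Q, hQ, hQc⟩
  -- fibre facts
  have hinclalg : ∀ Q : Ideal (R' ⊗[R] S), Q.comap (algebraMap R' (R' ⊗[R] S)) = P →
      (Q.comap (Algebra.TensorProduct.includeRight : S →ₐ[R] R' ⊗[R] S).toRingHom).comap
        (algebraMap R S) = p := by
    intro Q hQP
    rw [← hPp, ← hQP, Ideal.comap_comap, Ideal.comap_comap]
    congr 1
    ext r
    show (1 : R') ⊗ₜ[R] algebraMap R S r = algebraMap R' (R' ⊗[R] S) (algebraMap R R' r)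
    have e1 : (algebraMap R R' r) ⊗ₜ[R] (1 : S) = (1 : R') ⊗ₜ[R] algebraMap R S r := by
      rw [Algebra.algebraMap_eq_smul_one r, Algebra.algebraMap_eq_smul_one (A := S) r,
        TensorProduct.smul_tmul]
    rw [Algebra.TensorProduct.algebraMap_apply]
    exact e1.symm
  have hchar : ∀ Q : Ideal (R' ⊗[R] S), Q.IsPrime → Q.comap (algebraMap R' (R' ⊗[R] S)) = P →
      ∀ [Q.IsPrime], ExpChar Q.ResidueField q := by
    intro Q hQ hQP _
    have h1 : p = Q.comap (algebraMap R (R' ⊗[R] S)) := by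
      rw [IsScalarTower.algebraMap_eq R R' (R' ⊗[R] S), ← Ideal.comap_comap, hQP, hPp]
    exact expChar_of_injective_ringHom
      (Ideal.ResidueField.map p Q (algebraMap R (R' ⊗[R] S)) h1).injective q
  haveI : ExpChar P.ResidueField q := expChar_of_injective_ringHom
    (Ideal.ResidueField.map p P (algebraMap R R') hPp.symm).injective q
  -- uniqueness of primes over `P` with the same trace on `W`
  have huniq : ∀ Q Q' : Ideal (R' ⊗[R] S), Q.IsPrime → Q'.IsPrime →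
      Q.comap (algebraMap R' (R' ⊗[R] S)) = P → Q'.comap (algebraMap R' (R' ⊗[R] S)) = P →
      Q.comap Ψ = Q'.comap Ψ → Q = Q' := by
    intro Q Q' hQ hQ' hQP hQ'P h₀
    haveI := hQ
    haveI := hQ'
    set incl := (Algebra.TensorProduct.includeRight : S →ₐ[R] R' ⊗[R] S).toRingHom with hincl
    haveI : (Q.comap incl).IsPrime := Ideal.comap_isPrime _ _
    haveI : (Q'.comap incl).IsPrime := Ideal.comap_isPrime _ _
    have hqq : Q.comap incl = Q'.comap incl := by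
      refine hSa _ _ inferInstance inferInstance (hinclalg Q hQP) (hinclalg Q' hQ'P) ?_
      intro x hx
      obtain ⟨w, hw⟩ := hΨ' 1 ⟨x, hx⟩
      have e1 : incl x = Ψ w := hw.symm
      rw [Ideal.mem_comap, Ideal.mem_comap, e1]
      show w ∈ Q.comap Ψ ↔ w ∈ Q'.comap Ψ
      rw [h₀]
    haveI := hchar Q hQ hQP
    haveI := hchar Q' hQ' hQ'P
    apply le_antisymm
    · exact le_of_comap_eq S₀ Ψ hΨ' (Q.comap incl) q
        (hSb _ inferInstance (hinclalg Q hQP)) Q Q' (fun s hs => hs)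
        (fun s => by rw [hqq]; rfl) h₀
    · exact le_of_comap_eq S₀ Ψ hΨ' (Q.comap incl) q
        (hSb _ inferInstance (hinclalg Q hQP)) Q' Q (fun s hs => by rw [hqq] at hs; exact hs)
        (fun s => Iff.rfl) h₀.symm
  -- the decomposition
  let A : Fin n → Type u := fun j => (R' ⊗[R] S) ⧸ Ideal.span {1 - ε' j}
  let eqv : R' ⊗[R] S ≃ₐ[R'] (Π j, A j) :=
    AlgEquiv.ofBijective
      (Pi.algHom R' _ (fun j => Ideal.Quotient.mkₐ R' (Ideal.span {1 - ε' j})))
      hε'.bijective_pi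
  refine ⟨n, A, fun j => inferInstance, fun j => inferInstance, eqv, ?_⟩
  intro j
  have hmk_surj : Function.Surjective (Ideal.Quotient.mk (Ideal.span {1 - ε' j})) :=
    Ideal.Quotient.mk_surjective
  refine ⟨Algebra.IsIntegral.of_surjective (Ideal.Quotient.mkₐ R' (Ideal.span {1 - ε' j}))
    (Ideal.Quotient.mkₐ_surjective R' _), ?_⟩
  obtain ⟨Qj, hQjprime, hQjΨ⟩ := hexQ j
  haveI := hQjprime
  haveI := hP'prime j
  have hQjP : Qj.comap (algebraMap R' (R' ⊗[R] S)) = P := by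
    rw [← hcomapΨ, hQjΨ]
    exact hP'over j
  have hejQj : Ψ (e j.castSucc) ∉ Qj := by
    intro hmem
    have : e j.castSucc ∈ Qj.comap Ψ := hmem
    rw [hQjΨ] at this
    exact heP' j this
  have hε'Qj : ε' j ∉ Qj := fun h => hejQj ((hε'mem Qj hQjprime hQjP j).mp h)
  have hone_sub : ∀ Q : Ideal (R' ⊗[R] S), Q.IsPrime → ε' j ∉ Q → 1 - ε' j ∈ Q := by
    intro Q hQ hnot
    have h0 : (1 - ε' j) * ε' j = 0 := by
      rw [sub_mul, one_mul, (hε'.idem j).eq, sub_self]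
    rcases Ideal.IsPrime.mem_or_mem hQ (h0 ▸ Q.zero_mem : (1 - ε' j) * ε' j ∈ Q) with h | h
    · exact h
    · exact (hnot h).elim
  have hIle : Ideal.span {1 - ε' j} ≤ Qj := by
    rw [Ideal.span_le, Set.singleton_subset_iff]
    exact hone_sub Qj hQjprime hε'Qj
  have hkerle : RingHom.ker (Ideal.Quotient.mk (Ideal.span {1 - ε' j})) ≤ Qj := by
    rw [Ideal.mk_ker]; exact hIle
  haveI h𝔯prime : (Qj.map (Ideal.Quotient.mk (Ideal.span {1 - ε' j}))).IsPrime :=
    Ideal.map_isPrime_of_surjective hmk_surj hkerle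
  have hcm : (Qj.map (Ideal.Quotient.mk (Ideal.span {1 - ε' j}))).comap
      (Ideal.Quotient.mk (Ideal.span {1 - ε' j})) = Qj := by
    rw [Ideal.comap_map_of_surjective _ hmk_surj, ← RingHom.ker_eq_comap_bot]
    exact sup_eq_left.mpr hkerle
  have halgA : ∀ 𝔰 : Ideal (A j), 𝔰.comap (algebraMap R' (A j)) =
      (𝔰.comap (Ideal.Quotient.mk (Ideal.span {1 - ε' j}))).comap
        (algebraMap R' (R' ⊗[R] S)) := fun 𝔰 => rfl
  have hr : (Qj.map (Ideal.Quotient.mk (Ideal.span {1 - ε' j}))).comap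
      (algebraMap R' (A j)) = P := by
    rw [halgA, hcm, hQjP]
  refine ⟨⟨Qj.map (Ideal.Quotient.mk (Ideal.span {1 - ε' j})), h𝔯prime⟩, hr, ?_, ?_⟩
  · intro r' hr'
    have hQ'prime : (r'.asIdeal.comap (Ideal.Quotient.mk (Ideal.span {1 - ε' j}))).IsPrime :=
      Ideal.comap_isPrime _ _
    have hQ'P : (r'.asIdeal.comap (Ideal.Quotient.mk (Ideal.span {1 - ε' j}))).comap
        (algebraMap R' (R' ⊗[R] S)) = P := by
      rw [← halgA]; exact hr'
    have hone : 1 - ε' j ∈ r'.asIdeal.comap (Ideal.Quotient.mk (Ideal.span {1 - ε' j})) := by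
      rw [Ideal.mem_comap, Ideal.Quotient.eq_zero_iff_mem.mpr
        (Ideal.subset_span (Set.mem_singleton _))]
      exact r'.asIdeal.zero_mem
    have hε'Q' : ε' j ∉ r'.asIdeal.comap (Ideal.Quotient.mk (Ideal.span {1 - ε' j})) := by
      intro h
      have h1 : (1 : R' ⊗[R] S) ∈
          r'.asIdeal.comap (Ideal.Quotient.mk (Ideal.span {1 - ε' j})) := by
        have := Ideal.add_mem _ hone h
        rwa [sub_add_cancel] at this
      exact hQ'prime.ne_top ((Ideal.eq_top_iff_one _).mpr h1)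
    have hejQ' : Ψ (e j.castSucc) ∉
        r'.asIdeal.comap (Ideal.Quotient.mk (Ideal.span {1 - ε' j})) :=
      fun h => hε'Q' ((hε'mem _ hQ'prime hQ'P j).mpr h)
    have hQ'Ψ := (HT _ hQ'prime hQ'P).2 j hejQ'
    have hQQ' := huniq Qj _ hQjprime hQ'prime hQjP hQ'P (hQjΨ.trans hQ'Ψ.symm)
    apply PrimeSpectrum.ext
    show r'.asIdeal = Qj.map (Ideal.Quotient.mk (Ideal.span {1 - ε' j}))
    rw [hQQ', Ideal.map_comap_of_surjective _ hmk_surj]
  · exact isPurelyInseparable_of_FT p₁ q hFT P hPp₁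
      (Ideal.Quotient.mkₐ R' (Ideal.span {1 - ε' j})) (Ideal.Quotient.mkₐ_surjective R' _)
      (Qj.map (Ideal.Quotient.mk (Ideal.span {1 - ε' j}))) hr

set_option maxHeartbeats 1600000 in
theorem main {R S : Type u} [CommRing R] [CommRing S] [Algebra R S] [Algebra.IsIntegral R S]
    (p : Ideal R) [p.IsPrime]
    (hfin : {q : PrimeSpectrum S | q.asIdeal.comap (algebraMap R S) = p}.Finite)
    (hsep : ∀ (q : PrimeSpectrum S) (hq : q.asIdeal.comap (algebraMap R S) = p),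
      letI := (Ideal.ResidueField.map p q.asIdeal (algebraMap R S) hq.symm).toAlgebra
      Module.Finite p.ResidueField (separableClosure p.ResidueField q.asIdeal.ResidueField)) :
    ∃ (R' : Type u) (_ : CommRing R') (_ : Algebra R R') (p' : PrimeSpectrum R'),
      Algebra.Etale R R' ∧ p'.asIdeal.comap (algebraMap R R') = p ∧
      ∃ (m : ℕ) (A : Fin m → Type u) (_ : ∀ j, CommRing (A j)) (_ : ∀ j, Algebra R' (A j))
        (_ : R' ⊗[R] S ≃ₐ[R'] (Π j, A j)),
        ∀ j, Algebra.IsIntegral R' (A j) ∧ ∃ (r : PrimeSpectrum (A j))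
          (hr : r.asIdeal.comap (algebraMap R' (A j)) = p'.asIdeal),
          (∀ r' : PrimeSpectrum (A j),
            r'.asIdeal.comap (algebraMap R' (A j)) = p'.asIdeal → r' = r) ∧
          letI := (Ideal.ResidueField.map p'.asIdeal r.asIdeal (algebraMap R' (A j))
            hr.symm).toAlgebra
          IsPurelyInseparable p'.asIdeal.ResidueField r.asIdeal.ResidueField := by
  classical
  obtain ⟨q, hq⟩ := ExpChar.exists p.ResidueField
  haveI := hq
  obtain ⟨S₀, hS₀fg, hSa, hSb⟩ := exists_subalgebra p hfin hsep q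
  obtain ⟨R₁, _, _, _, p₁, hp₁, hp₁p, hFT⟩ := exists_etale_FT p hfin hsep q
  haveI := hp₁
  haveI : Algebra.FiniteType R S₀ := (Subalgebra.fg_iff_finiteType S₀).mp hS₀fg
  haveI : Algebra.IsIntegral R S₀ := Algebra.IsIntegral.of_injective S₀.val Subtype.val_injective
  haveI : Module.Finite R S₀ := Algebra.IsIntegral.finite
  obtain ⟨R', _, _, _, P, _, hPover, n, e, he, P', hP'prime, hP'over, -, heP', H⟩ :=
    Algebra.exists_etale_completeOrthogonalIdempotents_forall_liesOver_eq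
      (R := R₁) (S := R₁ ⊗[R] S₀) p₁
  letI algRR' : Algebra R R' := ((algebraMap R₁ R').comp (algebraMap R R₁)).toAlgebra
  haveI : IsScalarTower R R₁ R' := .of_algebraMap_eq' rfl
  haveI : Algebra.Etale R R' := Algebra.Etale.comp R R₁ R'
  have hPp₁ : P.comap (algebraMap R₁ R') = p₁ := hPover.over.symm
  have hPp : P.comap (algebraMap R R') = p := by
    show P.comap ((algebraMap R₁ R').comp (algebraMap R R₁)) = p
    rw [← Ideal.comap_comap, hPp₁, hp₁p]
  by_cases hex : ∃ Q : Ideal (R' ⊗[R] S), Q.IsPrime ∧ Q.comap (algebraMap R' (R' ⊗[R] S)) = P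
  swap
  · obtain ⟨R'', _, _, p', hét, hp', hsub⟩ := exists_localization_of_empty p P hPp hex
    exact ⟨R'', inferInstance, inferInstance, p', hét, hp', concl_of_subsingleton p'.asIdeal⟩
  obtain ⟨Qs, hQs, hQsP⟩ := hex
  let cbc : R' ⊗[R₁] (R₁ ⊗[R] S₀) ≃ₐ[R'] R' ⊗[R] S₀ :=
    Algebra.TensorProduct.cancelBaseChange R R₁ R' R' S₀
  let ι : R' ⊗[R] S₀ →ₐ[R'] R' ⊗[R] S := Algebra.TensorProduct.map (AlgHom.id R' R') S₀.val
  let ΨA : R' ⊗[R₁] (R₁ ⊗[R] S₀) →ₐ[R'] R' ⊗[R] S := ι.comp cbc.toAlgHom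
  have hΨ : ∀ (r' : R') (s₀ : S₀), ∃ w, ΨA w = r' ⊗ₜ[R] (s₀ : S) := fun r' s₀ =>
    ⟨r' ⊗ₜ[R₁] ((1 : R₁) ⊗ₜ[R] s₀), by simp [ΨA, cbc, ι]⟩
  have hιinj : Function.Injective ι := by
    have h1 : Function.Injective (LinearMap.lTensor R' S₀.val.toLinearMap) :=
      Module.Flat.lTensor_preserves_injective_linearMap _ Subtype.val_injective
    have h2 : ∀ x, ι x = LinearMap.lTensor R' S₀.val.toLinearMap x := by
      intro x
      induction x using TensorProduct.induction_on with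
      | zero => simp
      | tmul a b => simp [ι]
      | add a b ha hb => rw [map_add, map_add, ha, hb]
    intro x y hxy
    exact h1 (by rw [← h2, ← h2, hxy])
  have hΨinj : Function.Injective ΨA := fun x y h => cbc.injective (hιinj h)
  obtain ⟨m, A, i1, i2, eqv, hA⟩ := main_aux p q S₀ hSa hSb p₁ hFT P hPp₁ hPp ΨA hΨ hΨinj n e he
    P' hP'prime (fun i => (hP'over i).over.symm) heP' (fun P'' h1 h2 => H P'' h1 ⟨h2.symm⟩)
    Qs hQs hQsP
  exact ⟨R', inferInstance, algRR', ⟨P, inferInstance⟩, inferInstance, hPp, m, A, i1, i2, eqv, hA⟩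

end Groth.Agent.Lib.Helper8.IntSplitRing
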