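import Mathlib
import Groth.Prelude.Def_SGA1

/-!
# Kummer algebras: generators, maps to fields, unramifiedness modulo `T_i`
-/

set_option autoImplicit false
universe u

open IsLocalRing MvPolynomial

namespace Groth.Agent.Lib.Helper8.KummerAlgA

section Alg

variable {R : Type u} [CommRing R] {r : ℕ} (c : Fin r → R) (n : Fin r → ℕ)

/-- the class of `T_j` -/
noncomputable def T (j : Fin r) : SGA1.kummerAlg R c n := Ideal.Quotient.mk _ (X j)

theorem algebraMap_eq (a : R) :
    algebraMap R (SGA1.kummerAlg R c n) a = Ideal.Quotient.mk _ (C a) := rfl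

theorem T_pow (j : Fin r) : T c n j ^ n j = algebraMap R (SGA1.kummerAlg R c n) (c j) := by
  rw [algebraMap_eq, T, ← map_pow]
  exact Ideal.Quotient.eq.2 (Ideal.subset_span ⟨j, rfl⟩)

instance : Algebra.FiniteType R (SGA1.kummerAlg R c n) :=
  Algebra.FiniteType.of_surjective (Ideal.Quotient.mkₐ R _) (Ideal.Quotient.mkₐ_surjective R _)

section Lift

variable {L : Type u} [Field L] (g : R →+* L) (t : Fin r → L) (ht : ∀ j, t j ^ n j = g (c j))

/-- the map from the Kummer algebra to a field determined by `n_j`-th roots of the `c_j` -/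
noncomputable def lift : SGA1.kummerAlg R c n →+* L :=
  Ideal.Quotient.lift _ (eval₂Hom g t) (by
    have hle : Ideal.span (Set.range fun j => (X j : MvPolynomial (Fin r) R) ^ n j - C (c j)) ≤
        RingHom.ker (eval₂Hom g t) := by
      rw [Ideal.span_le]
      rintro _ ⟨j, rfl⟩
      simp [RingHom.mem_ker, ht]
    exact fun a ha => hle ha)

theorem lift_mk (p : MvPolynomial (Fin r) R) :
    lift c n g t ht (Ideal.Quotient.mk _ p) = eval₂Hom g t p := rfl

theorem lift_algebraMap (a : R) :
    lift c n g t ht (algebraMap R (SGA1.kummerAlg R c n) a) = g a := by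
  rw [algebraMap_eq, lift_mk]; simp

theorem lift_T (j : Fin r) : lift c n g t ht (T c n j) = t j := by
  rw [T, lift_mk]; simp

theorem lift_mem (V : ValuationSubring L) (hg : ∀ a, g a ∈ V) (hn : ∀ j, 1 ≤ n j)
    (b : SGA1.kummerAlg R c n) : lift c n g t ht b ∈ V := by
  obtain ⟨p, rfl⟩ := Ideal.Quotient.mk_surjective b
  rw [lift_mk]
  have htV : ∀ j, t j ∈ V := by
    intro j
    rw [← V.valuation_le_one_iff]
    have h1 : V.valuation (t j) ^ n j ≤ 1 := by
      rw [← map_pow, ht, V.valuation_le_one_iff]
      exact hg _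
    exact (pow_le_one_iff (by have := hn j; omega)).1 h1
  induction p using MvPolynomial.induction_on with
  | C a => simpa using hg a
  | add p q hp hq => rw [map_add]; exact V.add_mem _ _ hp hq
  | mul_X p j hp =>
    rw [map_mul]
    refine V.mul_mem _ _ hp ?_
    simpa using htV j

end Lift

/-- the quotient `B/(T_i)` -/
abbrev Q (i : Fin r) : Type u := SGA1.kummerAlg R c n ⧸ Ideal.span {T c n i}

noncomputable instance (i : Fin r) : CommRing (Q c n i) := inferInstance

noncomputable instance (i : Fin r) : Algebra R (Q c n i) := inferInstance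

/-- `B/(T_i)` is formally unramified over `R` when the other `c_j` and all the `n_j` are units. -/
theorem formallyUnramified_quot (i : Fin r) (hc : ∀ j, j ≠ i → IsUnit (c j))
    (hnu : ∀ j, IsUnit ((n j : ℕ) : R)) (hn : ∀ j, 1 ≤ n j) :
    Algebra.FormallyUnramified R (SGA1.kummerAlg R c n ⧸ Ideal.span {T c n i}) := by
  classical
  let t : Fin r → Q c n i := fun j => Ideal.Quotient.mk _ (T c n j)
  have htpow : ∀ j : Fin r, t j ^ n j = algebraMap R (Q c n i) (c j) := by
    intro j
    have h0 : t j ^ n j = Ideal.Quotient.mk (Ideal.span {T c n i}) (T c n j ^ n j) :=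
      (map_pow (Ideal.Quotient.mk (Ideal.span {T c n i})) (T c n j) (n j)).symm
    rw [h0, T_pow]
    rfl
  have hti : t i = 0 := Ideal.Quotient.eq_zero_iff_mem.2 (Ideal.mem_span_singleton_self _)
  -- generators
  let π : MvPolynomial (Fin r) R →ₐ[R] (Q c n i) :=
    (Ideal.Quotient.mkₐ R (Ideal.span {T c n i})).comp (Ideal.Quotient.mkₐ R _)
  have hπsurj : Function.Surjective π :=
    (Ideal.Quotient.mkₐ_surjective R _).comp (Ideal.Quotient.mkₐ_surjective R _)
  have hadj : Algebra.adjoin R (Set.range t) = ⊤ := by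
    have h1 : Set.range t = π '' (Set.range (X : Fin r → MvPolynomial (Fin r) R)) := by
      ext x
      constructor
      · rintro ⟨j, rfl⟩; exact ⟨X j, ⟨j, rfl⟩, rfl⟩
      · rintro ⟨_, ⟨j, rfl⟩, rfl⟩; exact ⟨j, rfl⟩
    rw [h1, ← AlgHom.map_adjoin, MvPolynomial.adjoin_range_X, Algebra.map_top,
      AlgHom.range_eq_top]
    exact hπsurj
  have hD : KaehlerDifferential.D R (Q c n i) = 0 := by
    apply Derivation.ext_of_adjoin_eq_top _ hadj
    rintro _ ⟨j, rfl⟩
    show KaehlerDifferential.D R (Q c n i) (t j) = 0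
    by_cases hj : j = i
    · rw [hj, hti, map_zero]
    · have h1 : KaehlerDifferential.D R (Q c n i) (t j ^ n j) = 0 := by
        rw [htpow, Derivation.map_algebraMap]
      rw [Derivation.leibniz_pow, ← Nat.cast_smul_eq_nsmul (Q c n i), smul_smul] at h1
      have hu : IsUnit (((n j : ℕ) : (Q c n i)) * t j ^ (n j - 1)) := by
        apply IsUnit.mul
        · have := (hnu j).map (algebraMap R (Q c n i))
          rwa [map_natCast] at this
        · apply IsUnit.pow
          have h2 : IsUnit (t j ^ n j) := by rw [htpow]; exact (hc j hj).map _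
          exact (isUnit_pow_iff (by have := hn j; omega)).1 h2
      exact (hu.smul_eq_zero).1 h1
  refine ⟨?_⟩
  have htop : (⊤ : Submodule (Q c n i) (Ω[Q c n i⁄R])) = ⊥ := by
    rw [← KaehlerDifferential.span_range_derivation, hD, Submodule.span_eq_bot]
    rintro _ ⟨x, rfl⟩
    rfl
  exact (Submodule.subsingleton_iff (Q c n i)).1 (subsingleton_of_bot_eq_top htop.symm)

end Alg

end Groth.Agent.Lib.Helper8.KummerAlgA
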