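import Mathlib

/-!
# A local computation: if `B/(τ)` is unramified over a local ring `R` and `π = τ^e`, then
`B_n` has maximal ideal `(τ)` and separable residue field for every prime `n ∋ τ`.
-/

set_option autoImplicit false
universe u

open IsLocalRing

namespace Groth.Agent.Lib.Helper8.KummerLoc

theorem unram_loc {R B : Type u} [CommRing R] [IsLocalRing R] [CommRing B] [Algebra R B]
    [Algebra.FiniteType R B] (τ : B) (π : R) (hπ : maximalIdeal R = Ideal.span {π}) (e : ℕ)
    (he : 1 ≤ e) (hτ : algebraMap R B π = τ ^ e)
    [Algebra.FormallyUnramified R (B ⧸ Ideal.span {τ})]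
    (n : Ideal B) [n.IsPrime] (hτn : τ ∈ n)
    [IsLocalHom (algebraMap R (Localization.AtPrime n))] :
    maximalIdeal (Localization.AtPrime n) =
        Ideal.span {algebraMap B (Localization.AtPrime n) τ} ∧
      Algebra.IsSeparable (ResidueField R) (ResidueField (Localization.AtPrime n)) := by
  classical
  let Bn := Localization.AtPrime n
  let I : Ideal B := Ideal.span {τ}
  let J : Ideal Bn := I.map (algebraMap B Bn)
  let S := Bn ⧸ J
  have hJ : J = Ideal.span {algebraMap B Bn τ} := by
    simp only [J, I, Ideal.map_span, Set.image_singleton]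
  have hτm : algebraMap B Bn τ ∈ maximalIdeal Bn :=
    (IsLocalization.AtPrime.to_map_mem_maximal_iff Bn n τ).mpr hτn
  have hJle : J ≤ maximalIdeal Bn := by
    rw [hJ, Ideal.span_singleton_le_iff_mem]
    exact hτm
  haveI : Nontrivial S := Ideal.Quotient.nontrivial_iff.mpr
    (ne_top_of_le_ne_top (maximalIdeal.isMaximal Bn).ne_top hJle)
  haveI : IsLocalRing S := .of_surjective' (Ideal.Quotient.mk J) Ideal.Quotient.mk_surjective
  haveI hloc : IsLocalization (Algebra.algebraMapSubmonoid (B ⧸ I) n.primeCompl) S :=
    inferInstance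
  haveI : Algebra.FormallyUnramified (B ⧸ I) S :=
    Algebra.FormallyUnramified.of_isLocalization (Algebra.algebraMapSubmonoid (B ⧸ I) n.primeCompl)
  haveI : IsScalarTower R (B ⧸ I) S := IsScalarTower.of_algebraMap_eq (fun x => by
    have h1 : algebraMap R S x = Ideal.Quotient.mk J (algebraMap B Bn (algebraMap R B x)) := by
      rw [← IsScalarTower.algebraMap_apply R B Bn]
      rfl
    rw [h1]
    rfl)
  haveI : Algebra.FormallyUnramified R S := Algebra.FormallyUnramified.comp R (B ⧸ I) S
  haveI : Algebra.EssFiniteType R S := inferInstance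
  have hπ0 : algebraMap R S π = 0 := by
    have h1 : algebraMap R S π = Ideal.Quotient.mk J (algebraMap B Bn (algebraMap R B π)) := by
      rw [← IsScalarTower.algebraMap_apply R B Bn]
      rfl
    rw [h1, hτ, map_pow, Ideal.Quotient.eq_zero_iff_mem]
    apply Ideal.pow_mem_of_mem _ _ _ he
    rw [hJ]
    exact Ideal.mem_span_singleton_self _
  haveI : IsLocalHom (algebraMap R S) := ⟨fun a ha => by
    by_contra hnu
    have ham : a ∈ maximalIdeal R := (mem_maximalIdeal a).2 hnu
    rw [hπ, Ideal.mem_span_singleton'] at ham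
    obtain ⟨c, rfl⟩ := ham
    rw [map_mul, hπ0, mul_zero] at ha
    exact not_isUnit_zero ha⟩
  have hmax : (maximalIdeal R).map (algebraMap R S) = maximalIdeal S :=
    Algebra.FormallyUnramified.map_maximalIdeal
  have hS : maximalIdeal S = ⊥ := by
    rw [← hmax, hπ, Ideal.map_span, Set.image_singleton, Ideal.span_singleton_eq_bot]
    exact hπ0
  have hfield : IsField S := (isField_iff_maximalIdeal_eq).2 hS
  haveI hJmax : J.IsMaximal := Ideal.Quotient.maximal_of_isField J hfield
  have hJeq : J = maximalIdeal Bn := eq_maximalIdeal hJmax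
  refine ⟨by rw [← hJeq, hJ], ?_⟩
  haveI : IsLocalHom (Ideal.Quotient.mk J) :=
    IsLocalHom.of_surjective _ Ideal.Quotient.mk_surjective
  haveI hsep : Algebra.IsSeparable (ResidueField R) (ResidueField S) := inferInstance
  let φκ : ResidueField Bn →+* ResidueField S := ResidueField.map (Ideal.Quotient.mk J)
  have hcomm : ∀ r : ResidueField R, φκ (algebraMap (ResidueField R) (ResidueField Bn) r) =
      algebraMap (ResidueField R) (ResidueField S) r := by
    intro r
    obtain ⟨a, rfl⟩ := IsLocalRing.residue_surjective r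
    rfl
  let f : ResidueField Bn →ₐ[ResidueField R] ResidueField S := { φκ with commutes' := hcomm }
  exact Algebra.IsSeparable.of_algHom (ResidueField R) (ResidueField S) f

end Groth.Agent.Lib.Helper8.KummerLoc
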