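import Mathlib
import Groth.Prelude.Def_EtRam
import Groth.Agent.Lib.Helper8.TameCore
import Groth.Agent.Lib.Helper8.KummerLoc

/-!
# Eisenstein-type variant of `TameCore.core`

`B` a Noetherian finite-type algebra over a DVR `A` with `π = τ^e` and `B/(τ)` unramified over `A`:
every valuation ring dominating `A` in a "fraction field" of a quotient of `B` is a DVR with
ramification index `e` and separable residue field extension.
(The middle of the proof is adapted from `TameCore.core`.)
-/

set_option autoImplicit false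
universe u

open IsLocalRing

namespace Groth.Agent.Lib.Helper8.KummerCore

open Groth.Agent.Lib.Helper8.TameCore

theorem coreK {A B L : Type u} [CommRing A] [IsDomain A] [IsDiscreteValuationRing A]
    [CommRing B] [Algebra A B] [Algebra.FiniteType A B] [IsNoetherianRing B] [Field L]
    (ψ : B →+* L)
    (hinj : ∀ a : A, a ≠ 0 → ψ (algebraMap A B a) ≠ 0)
    (hgen : ∀ l : L, ∃ b b' : B, ψ b' ≠ 0 ∧ l * ψ b' = ψ b)
    (V : ValuationSubring L) (hV : EtRam.Dominates A (ψ.comp (algebraMap A B)) V)
    (hBV : ∀ b : B, ψ b ∈ V)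
    [algAV : Algebra A V] (halg : ∀ a : A, ((algebraMap A V a : V) : L) = ψ (algebraMap A B a))
    [IsLocalHom (algebraMap A V)]
    (τ : B) (e : ℕ) (he : 1 ≤ e) (π : A) (hπ : Irreducible π) (hτ : algebraMap A B π = τ ^ e)
    [Algebra.FormallyUnramified A (B ⧸ Ideal.span {τ})] :
    Algebra.IsSeparable (ResidueField A) (ResidueField V) ∧
      Ideal.ramificationIdx' (maximalIdeal A) (maximalIdeal V) = e := by
  classical
  let ψV : B →+* V := ψ.codRestrict V hBV
  have hψV : ∀ b, ((ψV b : V) : L) = ψ b := fun _ => rfl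
  let n : Ideal B := (maximalIdeal V).comap ψV
  haveI hnp : n.IsPrime := Ideal.comap_isPrime ψV _
  have hunit : ∀ s : n.primeCompl, IsUnit (ψV s) := fun s => by
    have h1 : ψV s ∉ maximalIdeal V := s.2
    exact (IsLocalRing.notMem_maximalIdeal).1 h1
  let Bn := Localization.AtPrime n
  let ψn : Bn →+* V := IsLocalization.lift (M := n.primeCompl) hunit
  have hψn : ∀ b : B, ψn (algebraMap B Bn b) = ψV b := fun b => IsLocalization.lift_eq hunit b
  have hψnA : ∀ a : A, ψn (algebraMap A Bn a) = algebraMap A V a := fun a => by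
    rw [IsScalarTower.algebraMap_apply A B Bn, hψn]
    exact Subtype.ext (halg a).symm
  haveI : IsLocalHom (algebraMap A Bn) := ⟨fun a ha => by
    have h1 : IsUnit (ψn (algebraMap A Bn a)) := ha.map ψn
    rw [hψnA] at h1
    exact isUnit_of_map_unit (algebraMap A V) a h1⟩
  haveI : IsNoetherianRing Bn := IsLocalization.isNoetherianRing n.primeCompl Bn inferInstance
  have hπA : maximalIdeal A = Ideal.span {π} := hπ.maximalIdeal_eq
  have hπm : algebraMap A V π ∈ maximalIdeal V := by
    have hlt := hV.2 π ((mem_maximalIdeal π).2 hπ.not_isUnit)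
    rw [RingHom.comp_apply, ← halg] at hlt
    rw [mem_maximalIdeal, mem_nonunits_iff]
    intro hu
    have := (V.valuation_eq_one_iff _).mp hu
    exact hlt.ne this
  have hpow : (ψV τ) ^ e = algebraMap A V π := by
    apply Subtype.ext
    rw [halg, hτ, map_pow]
    rfl
  have hτn : τ ∈ n := by
    show ψV τ ∈ maximalIdeal V
    exact Ideal.IsPrime.mem_of_pow_mem (maximalIdeal.isMaximal V).isPrime e (hpow ▸ hπm)
  obtain ⟨hϖ', hsep⟩ := KummerLoc.unram_loc τ π hπA e he hτ n hτn
  haveI := hsep
  set ϖ : Bn := algebraMap B Bn τ with hϖdef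
  have hϖ : maximalIdeal Bn = Ideal.span {ϖ} := hϖ'
  set p : V := ψn ϖ with hpdef
  have hpτ : p = ψV τ := hψn τ
  have hpe : p ^ e = algebraMap A V π := by rw [hpτ, hpow]
  have hp0 : p ≠ 0 := by
    intro h0
    have h1 : ((algebraMap A V π : V) : L) = 0 := by
      rw [← hpe, h0, zero_pow (by omega)]; rfl
    rw [halg] at h1
    exact hinj π hπ.ne_zero h1
  have hpm : p ∈ maximalIdeal V := by rw [hpτ]; exact hτn
  -- ψn is a local hom
  have hloc : ∀ x : Bn, x ∈ maximalIdeal Bn → ψn x ∈ maximalIdeal V := by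
    intro x hx
    rw [hϖ, Ideal.mem_span_singleton'] at hx
    obtain ⟨y, rfl⟩ := hx
    rw [map_mul]
    exact Ideal.mul_mem_left _ _ hpm
  -- surjectivity of ψn
  have hsurj : Function.Surjective ψn := by
    intro v
    by_cases hv0 : v = 0
    · exact ⟨0, by rw [hv0, map_zero]⟩
    obtain ⟨b, b', hb', hbb'⟩ := hgen (v : L)
    have hvL : (v : L) ≠ 0 := fun h => hv0 (Subtype.ext h)
    have hb0 : ψ b ≠ 0 := by rw [← hbb']; exact mul_ne_zero hvL hb'
    have hβ0 : ψn (algebraMap B Bn b) ≠ 0 := by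
      rw [hψn]; intro h; exact hb0 (by rw [← hψV, h]; rfl)
    have hβ'0 : ψn (algebraMap B Bn b') ≠ 0 := by
      rw [hψn]; intro h; exact hb' (by rw [← hψV, h]; rfl)
    obtain ⟨i, u, hu⟩ := exists_unit_mul_pow ϖ hϖ (algebraMap B Bn b)
      (fun h => hβ0 (by rw [h, map_zero]))
    obtain ⟨j, u', hu'⟩ := exists_unit_mul_pow ϖ hϖ (algebraMap B Bn b')
      (fun h => hβ'0 (by rw [h, map_zero]))
    have hU : IsUnit (ψn u) := u.isUnit.map ψn
    have hU' : IsUnit (ψn u') := u'.isUnit.map ψn
    have heq : v * (ψn u' * p ^ j) = ψn u * p ^ i := by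
      apply Subtype.ext
      have e1 : ψn (algebraMap B Bn b') = ψn u' * p ^ j := by rw [hu', map_mul, map_pow]
      have e2 : ψn (algebraMap B Bn b) = ψn u * p ^ i := by rw [hu, map_mul, map_pow]
      rw [← e1, ← e2, hψn, hψn]
      exact hbb'
    rcases le_or_gt j i with hji | hij
    · refine ⟨((u'⁻¹ : Bnˣ) : Bn) * u * ϖ ^ (i - j), ?_⟩
      have hpj : p ^ j ≠ 0 := pow_ne_zero j hp0
      have e3 : v * ψn u' = ψn u * p ^ (i - j) := by
        apply mul_right_cancel₀ hpj
        rw [mul_assoc, heq, mul_assoc, ← pow_add, Nat.sub_add_cancel hji]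
      have e4 : ψn ((u'⁻¹ : Bnˣ) : Bn) * ψn u' = 1 := by
        rw [← map_mul, Units.inv_mul, map_one]
      rw [map_mul, map_mul, map_pow]
      calc ψn ((u'⁻¹ : Bnˣ) : Bn) * ψn u * p ^ (i - j)
          = ψn ((u'⁻¹ : Bnˣ) : Bn) * (ψn u * p ^ (i - j)) := by ring
        _ = ψn ((u'⁻¹ : Bnˣ) : Bn) * (v * ψn u') := by rw [e3]
        _ = v * (ψn ((u'⁻¹ : Bnˣ) : Bn) * ψn u') := by ring
        _ = v := by rw [e4, mul_one]
    · exfalso
      have hpi : p ^ i ≠ 0 := pow_ne_zero i hp0
      have e3 : v * ψn u' * p ^ (j - i) = ψn u := by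
        apply mul_right_cancel₀ hpi
        rw [mul_assoc, ← pow_add, Nat.sub_add_cancel hij.le, mul_assoc, heq]
      have hmem : ψn u ∈ maximalIdeal V := by
        rw [← e3]
        apply Ideal.mul_mem_left
        have : j - i ≠ 0 := by omega
        exact Ideal.pow_mem_of_mem _ hpm _ (Nat.pos_of_ne_zero this)
      exact (mem_maximalIdeal _).1 hmem hU
  -- maximal ideal of V
  have hmV : maximalIdeal V = Ideal.span {p} := by
    apply le_antisymm
    · intro v hv
      obtain ⟨x, rfl⟩ := hsurj v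
      have hx : x ∈ maximalIdeal Bn := by
        rw [mem_maximalIdeal, mem_nonunits_iff]
        intro hxu
        exact (mem_maximalIdeal _).1 hv (hxu.map ψn)
      rw [hϖ, Ideal.mem_span_singleton'] at hx
      obtain ⟨y, rfl⟩ := hx
      rw [map_mul]
      exact Ideal.mem_span_singleton'.2 ⟨ψn y, rfl⟩
    · rw [Ideal.span_singleton_le_iff_mem]; exact hpm
  haveI : IsNoetherianRing V := isNoetherianRing_of_surjective Bn V ψn hsurj
  have hnf : ¬ IsField V := by
    intro hf
    obtain ⟨c, hc⟩ := hf.mul_inv_cancel hp0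
    exact (mem_maximalIdeal _).1 hpm (isUnit_iff_exists_inv.2 ⟨c, hc⟩)
  have htfae := (IsDiscreteValuationRing.TFAE V hnf).out 0 1
  haveI : IsDiscreteValuationRing V := htfae.2 (inferInstance : ValuationRing V)
  have hpirr : Irreducible p := (IsDiscreteValuationRing.irreducible_iff_uniformizer p).2 hmV
  refine ⟨?_, ?_⟩
  · -- residue fields
    haveI : IsLocalHom ψn := ⟨fun x hx => by
      by_contra hnu
      exact (mem_maximalIdeal _).1 (hloc x ((mem_maximalIdeal x).2 hnu)) hx⟩
    let φκ : ResidueField Bn →+* ResidueField V := ResidueField.map ψn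
    have hφsurj : Function.Surjective φκ := by
      intro z
      obtain ⟨v, rfl⟩ := IsLocalRing.residue_surjective z
      obtain ⟨x, rfl⟩ := hsurj v
      exact ⟨IsLocalRing.residue Bn x, rfl⟩
    have hcomm : ∀ r : ResidueField A, φκ (algebraMap (ResidueField A) (ResidueField Bn) r) =
        algebraMap (ResidueField A) (ResidueField V) r := by
      intro r
      obtain ⟨a, rfl⟩ := IsLocalRing.residue_surjective r
      change φκ (IsLocalRing.residue Bn (algebraMap A Bn a)) = IsLocalRing.residue V (algebraMap A V a)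
      rw [← hψnA]
      rfl
    let e : ResidueField Bn ≃ₐ[ResidueField A] ResidueField V :=
      AlgEquiv.ofBijective { φκ with commutes' := hcomm } ⟨φκ.injective, hφsurj⟩
    exact AlgEquiv.Algebra.isSeparable e
  · exact ramificationIdx'_eq π hπA p hpirr e 1 (by rw [← hpe]; simp)

end Groth.Agent.Lib.Helper8.KummerCore
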