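import Mathlib
import Groth.Prelude.Def_SGA1
import Groth.Prelude.Def_EtRam
import Groth.Agent.Lib.Helper8.KummerCore
import Groth.Agent.Lib.Helper8.KummerAlgA

/-!
# Kummer algebras over a Noetherian domain are tamely ramified along a prime element
-/

set_option autoImplicit false
universe u

open IsLocalRing MvPolynomial

namespace Groth.Agent.Lib.Helper8.KummerMain

open Groth.Agent.Lib.Helper8.KummerAlgA

theorem isDVR_loc {A : Type u} [CommRing A] [IsDomain A] [IsNoetherianRing A] (a : A) (ha : a ≠ 0)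
    [hP : (Ideal.span {a}).IsPrime] :
    IsDiscreteValuationRing (Localization.AtPrime (Ideal.span {a})) := by
  let R := Localization.AtPrime (Ideal.span {a})
  have hinj : Function.Injective (algebraMap A R) :=
    IsLocalization.injective R (Ideal.span {a}).primeCompl_le_nonZeroDivisors
  have hmax : maximalIdeal R = Ideal.span {algebraMap A R a} := by
    rw [← IsLocalization.AtPrime.map_eq_maximalIdeal (Ideal.span {a}) R, Ideal.map_span,
      Set.image_singleton]
  have ha0 : algebraMap A R a ≠ 0 := fun h => ha (hinj (by rw [h, map_zero]))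
  have ham : algebraMap A R a ∈ maximalIdeal R := by
    rw [hmax]; exact Ideal.mem_span_singleton_self _
  have hnf : ¬ IsField R := by
    intro hf
    obtain ⟨c, hc⟩ := hf.mul_inv_cancel ha0
    exact (mem_maximalIdeal _).1 ham (isUnit_iff_exists_inv.2 ⟨c, hc⟩)
  have htfae := (IsDiscreteValuationRing.TFAE R hnf).out 0 4
  exact htfae.2 ⟨⟨_, hmax⟩⟩

theorem tame_of_data {A : Type u} [CommRing A] [IsDomain A] [IsNoetherianRing A] {r : ℕ}
    (f : Fin r → A) (n : Fin r → ℕ) (hn : ∀ j, 1 ≤ n j) (i : Fin r)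
    [(Ideal.span {f i}).IsPrime] (hfi : f i ≠ 0)
    (hunit_f : ∀ j, j ≠ i → f j ∉ Ideal.span {f i}) (hunit_n : ∀ j, IsUnit ((n j : ℕ) : A))
    (q : Ideal (SGA1.kummerAlg A f n)) [q.IsPrime]
    (hq : Ideal.comap (algebraMap A (SGA1.kummerAlg A f n)) q = ⊥) :
    EtRam.IsTamelyRamified (Localization.AtPrime (Ideal.span {f i}))
      (SGA1.genericResidueMap (algebraMap A (SGA1.kummerAlg A f n)) (Ideal.span {f i}) q hq) := by
  classical
  intro V h hloc
  letI algRV : Algebra (Localization.AtPrime (Ideal.span {f i})) V :=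
    (RingHom.codRestrict (SGA1.genericResidueMap (algebraMap A (SGA1.kummerAlg A f n))
      (Ideal.span {f i}) q hq) V h.1).toAlgebra
  let R := Localization.AtPrime (Ideal.span {f i})
  haveI : IsDiscreteValuationRing R := isDVR_loc (f i) hfi
  let B₀ := SGA1.kummerAlg A f n
  let L := q.ResidueField
  let g : R →+* L :=
    SGA1.genericResidueMap (algebraMap A (SGA1.kummerAlg A f n)) (Ideal.span {f i}) q hq
  have hgA : ∀ a : A, g (algebraMap A R a) = algebraMap B₀ L (algebraMap A B₀ a) := fun a =>
    IsLocalization.lift_eq _ a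
  let c : Fin r → R := fun j => algebraMap A R (f j)
  let t : Fin r → L := fun j => algebraMap B₀ L (T f n j)
  have ht : ∀ j, t j ^ n j = g (c j) := by
    intro j
    show (algebraMap B₀ L (T f n j)) ^ n j = g (algebraMap A R (f j))
    rw [hgA, ← map_pow, T_pow]
  let B := SGA1.kummerAlg R c n
  let ψ : B →+* L := KummerAlgA.lift c n g t ht
  have hψg : ψ.comp (algebraMap R B) = g := RingHom.ext fun a => lift_algebraMap c n g t ht a
  -- injectivity of g
  have hinj : ∀ a : R, a ≠ 0 → ψ (algebraMap R B a) ≠ 0 := by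
    intro a ha h0
    rw [lift_algebraMap] at h0
    obtain ⟨a₀, s, rfl⟩ := IsLocalization.exists_mk'_eq (Ideal.span {f i}).primeCompl a
    have h1 : g (IsLocalization.mk' R a₀ s) * g (algebraMap A R s) = g (algebraMap A R a₀) := by
      rw [← map_mul, IsLocalization.mk'_spec]
    rw [h0, zero_mul, hgA] at h1
    have h2 : algebraMap A B₀ a₀ ∈ q := Ideal.algebraMap_residueField_eq_zero.1 h1.symm
    have h3 : a₀ ∈ Ideal.comap (algebraMap A B₀) q := h2
    rw [hq, Ideal.mem_bot] at h3
    exact ha (by rw [h3, IsLocalization.mk'_zero])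
  -- compatibility with the base change map
  have hcompat : ∀ p : MvPolynomial (Fin r) A,
      ψ (Ideal.Quotient.mk _ (MvPolynomial.map (algebraMap A R) p)) =
        algebraMap B₀ L (Ideal.Quotient.mk _ p) := by
    intro p
    induction p using MvPolynomial.induction_on with
    | C a =>
      rw [MvPolynomial.map_C]
      exact (lift_algebraMap c n g t ht (algebraMap A R a)).trans (hgA a)
    | add p q hp hq => simp only [map_add, hp, hq]
    | mul_X p j hp =>
      simp only [map_mul, hp, MvPolynomial.map_X]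
      congr 1
      exact lift_T c n g t ht j
  have hgen : ∀ l : L, ∃ b b' : B, ψ b' ≠ 0 ∧ l * ψ b' = ψ b := by
    intro l
    obtain ⟨x, s, hs, hxs⟩ :=
      IsFractionRing.div_surjective (A := SGA1.kummerAlg A f n ⧸ q) (K := q.ResidueField) l
    obtain ⟨x₀, rfl⟩ := Ideal.Quotient.mk_surjective x
    obtain ⟨s₀, rfl⟩ := Ideal.Quotient.mk_surjective s
    obtain ⟨px, rfl⟩ := Ideal.Quotient.mk_surjective x₀
    obtain ⟨ps, rfl⟩ := Ideal.Quotient.mk_surjective s₀
    have hs0 : algebraMap B₀ L (Ideal.Quotient.mk _ ps) ≠ 0 := by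
      intro h0
      have h1 : (Ideal.Quotient.mk _ ps : B₀) ∈ q := Ideal.algebraMap_residueField_eq_zero.1 h0
      have h2 : (Ideal.Quotient.mk q (Ideal.Quotient.mk _ ps : B₀)) = 0 :=
        Ideal.Quotient.eq_zero_iff_mem.2 h1
      exact nonZeroDivisors.ne_zero hs h2
    refine ⟨Ideal.Quotient.mk _ (MvPolynomial.map (algebraMap A R) px),
      Ideal.Quotient.mk _ (MvPolynomial.map (algebraMap A R) ps), ?_, ?_⟩
    · rw [hcompat]
      exact hs0
    · rw [hcompat, hcompat, ← hxs]
      have e1 : algebraMap (SGA1.kummerAlg A f n ⧸ q) q.ResidueField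
          (Ideal.Quotient.mk q (Ideal.Quotient.mk _ ps)) =
          algebraMap B₀ L (Ideal.Quotient.mk _ ps) :=
        Ideal.algebraMap_quotient_residueField_mk q _
      have e2 : algebraMap (SGA1.kummerAlg A f n ⧸ q) q.ResidueField
          (Ideal.Quotient.mk q (Ideal.Quotient.mk _ px)) =
          algebraMap B₀ L (Ideal.Quotient.mk _ px) :=
        Ideal.algebraMap_quotient_residueField_mk q _
      rw [e1, e2]
      exact div_mul_cancel₀ _ hs0
  have hBV : ∀ b : B, ψ b ∈ V := lift_mem c n g t ht V h.1 hn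
  have halg : ∀ a : R, ((algebraMap R V a : V) : L) = ψ (algebraMap R B a) := by
    intro a
    rw [lift_algebraMap]
    rfl
  have hmaxR : maximalIdeal R = Ideal.span {algebraMap A R (f i)} := by
    rw [← IsLocalization.AtPrime.map_eq_maximalIdeal (Ideal.span {f i}) R, Ideal.map_span,
      Set.image_singleton]
  have hirr : Irreducible (algebraMap A R (f i)) :=
    (IsDiscreteValuationRing.irreducible_iff_uniformizer _).2 hmaxR
  have hτ : algebraMap R B (algebraMap A R (f i)) = T c n i ^ n i := (T_pow c n i).symm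
  have hcu : ∀ j, j ≠ i → IsUnit (c j) := fun j hj =>
    IsLocalization.map_units R (⟨f j, hunit_f j hj⟩ : (Ideal.span {f i}).primeCompl)
  have hnR : ∀ j, IsUnit ((n j : ℕ) : R) := fun j => by
    have := (hunit_n j).map (algebraMap A R)
    rwa [map_natCast] at this
  haveI : Algebra.FormallyUnramified R (B ⧸ Ideal.span {T c n i}) :=
    formallyUnramified_quot c n i hcu hnR hn
  have hV' : EtRam.Dominates R (ψ.comp (algebraMap R B)) V := hψg ▸ h
  obtain ⟨hsep, hram⟩ := KummerCore.coreK ψ hinj hgen V hV' hBV halg (T c n i) (n i) (hn i)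
    (algebraMap A R (f i)) hirr hτ
  refine ⟨hsep, ?_⟩
  intro p hp hchar hdvd
  rw [hram] at hdvd
  have h1 : ((n i : ℕ) : ResidueField R) = 0 := (CharP.cast_eq_zero_iff _ p _).2 hdvd
  have h2 : IsUnit ((n i : ℕ) : ResidueField R) := by
    have := (hnR i).map (residue R)
    rwa [map_natCast] at this
  rw [h1] at h2
  exact not_isUnit_zero h2

end Groth.Agent.Lib.Helper8.KummerMain
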