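import Mathlib
import Groth.Agent.Lib.Helper8.WeakColimBase

/-!
# The weak colimit system of principal localizations

For a submonoid `M` of a commutative ring `R` and a localization `Rm` of `R` at `M`, the rings
`Localization.Away s`, `s ∈ M` (ordered by divisibility), form a weak colimit system of `R`-algebras
with colimit `Rm`.
-/

set_option autoImplicit false

namespace Groth.Agent.Lib.Helper8.LocSys

universe u

open TensorProduct Groth.Agent.Lib.Helper8.WeakColim

section Sys

variable {R : Type u} [CommRing R]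

/-- Elements of `M`, to be ordered by divisibility. -/
structure Idx (M : Submonoid R) : Type u where
  val : R
  mem : val ∈ M

variable {M : Submonoid R}

instance : Preorder (Idx M) where
  le s t := s.val ∣ t.val
  le_refl _ := dvd_refl _
  le_trans _ _ _ h h' := dvd_trans h h'

theorem Idx.le_def {s t : Idx M} : s ≤ t ↔ s.val ∣ t.val := Iff.rfl

instance : IsDirected (Idx M) (· ≤ ·) :=
  ⟨fun s t => ⟨⟨s.val * t.val, M.mul_mem s.mem t.mem⟩, dvd_mul_right _ _, dvd_mul_left _ _⟩⟩

instance : Nonempty (Idx M) := ⟨⟨1, M.one_mem⟩⟩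

variable (M) in
/-- The principal localization attached to an index. -/
abbrev G (s : Idx M) : Type u := Localization.Away s.val

theorem isUnit_of_le {s t : Idx M} (h : s ≤ t) (y : Submonoid.powers s.val) :
    IsUnit (Algebra.ofId R (G M t) y) := by
  obtain ⟨n, hn⟩ := y.2
  rw [Algebra.ofId_apply, ← hn, map_pow]
  exact (isUnit_of_dvd_unit (map_dvd (algebraMap R (G M t)) h)
    (IsLocalization.Away.algebraMap_isUnit t.val)).pow n

/-- Transition maps. -/
noncomputable def trans (s t : Idx M) (h : s ≤ t) : G M s →ₐ[R] G M t :=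
  IsLocalization.liftAlgHom (M := Submonoid.powers s.val) (f := Algebra.ofId R (G M t))
    (isUnit_of_le h)

variable (Rm : Type u) [CommRing Rm] [Algebra R Rm] [IsLocalization M Rm]

theorem isUnit_cocone (s : Idx M) (y : Submonoid.powers s.val) :
    IsUnit (Algebra.ofId R Rm y) := by
  obtain ⟨n, hn⟩ := y.2
  rw [Algebra.ofId_apply, ← hn, map_pow]
  exact (IsLocalization.map_units Rm (⟨s.val, s.mem⟩ : M)).pow n

/-- The cocone maps. -/
noncomputable def cocone (s : Idx M) : G M s →ₐ[R] Rm :=
  IsLocalization.liftAlgHom (M := Submonoid.powers s.val) (f := Algebra.ofId R Rm)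
    (isUnit_cocone Rm s)

theorem cocone_comp_trans (s t : Idx M) (h : s ≤ t) :
    (cocone Rm t).comp (trans s t h) = cocone Rm s :=
  (IsLocalization.algHom_subsingleton (Submonoid.powers s.val)).elim _ _

theorem cocone_surj (a : Rm) : ∃ s : Idx M, ∃ x : G M s, cocone Rm s x = a := by
  obtain ⟨r, m, rfl⟩ := IsLocalization.exists_mk'_eq M a
  refine ⟨⟨m.1, m.2⟩, IsLocalization.mk' _ r
    (⟨m.1, Submonoid.mem_powers _⟩ : Submonoid.powers m.1), ?_⟩
  rw [IsLocalization.eq_mk'_iff_mul_eq]
  have h1 : algebraMap R Rm m.1 = cocone Rm ⟨m.1, m.2⟩ (algebraMap R _ m.1) :=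
    ((cocone Rm ⟨m.1, m.2⟩).commutes _).symm
  rw [h1, ← map_mul]
  have h2 := IsLocalization.mk'_spec (Localization.Away m.1) r
    (⟨m.1, Submonoid.mem_powers _⟩ : Submonoid.powers m.1)
  rw [h2, AlgHom.commutes]

theorem cocone_ker (s : Idx M) (x : G M s) (hx : cocone Rm s x = 0) :
    ∃ t, ∃ h : s ≤ t, trans s t h x = 0 := by
  obtain ⟨r, y, rfl⟩ := IsLocalization.exists_mk'_eq (Submonoid.powers s.val) x
  have h0 : algebraMap R Rm r = 0 := by
    have h2 := IsLocalization.mk'_spec (Localization.Away s.val) r y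
    have := congrArg (cocone Rm s) h2
    rw [map_mul, hx, zero_mul, AlgHom.commutes] at this
    exact this.symm
  obtain ⟨m, hm⟩ := (IsLocalization.map_eq_zero_iff M Rm r).mp h0
  let t : Idx M := ⟨s.val * m.1, M.mul_mem s.mem m.2⟩
  have hst : s ≤ t := dvd_mul_right _ _
  refine ⟨t, hst, ?_⟩
  have hr : algebraMap R (G M t) r = 0 := by
    have hu : IsUnit (algebraMap R (G M t) m.1) :=
      isUnit_of_dvd_unit (map_dvd (algebraMap R (G M t)) (dvd_mul_left m.1 s.val))
        (IsLocalization.Away.algebraMap_isUnit t.val)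
    have := congrArg (algebraMap R (G M t)) hm
    rw [map_mul, map_zero] at this
    exact (hu.mul_right_eq_zero).mp this
  have h2 := IsLocalization.mk'_spec (Localization.Away s.val) r y
  have h3 := congrArg (trans s t hst) h2
  rw [map_mul, AlgHom.commutes, AlgHom.commutes, hr] at h3
  have hu : IsUnit (algebraMap R (G M t) y) := by
    have := isUnit_of_le hst y
    rwa [Algebra.ofId_apply] at this
  exact (hu.mul_left_eq_zero).mp h3

/-- The weak index system of principal localizations. -/
noncomputable abbrev sys : WSys.{u, u} (Idx M) :=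
  algSys R (G M) (fun s t h => trans s t h) Rm (cocone Rm) (cocone_comp_trans Rm)

/-- The transition maps of `sys`. -/
noncomputable abbrev sysMap {s t : Idx M} (h : (sys (M := M) Rm).H s t) : G M s →ₐ[R] G M t :=
  algSysMap R (G M) (fun s t h => trans s t h) Rm (cocone Rm) (cocone_comp_trans Rm) h

/-- `Rm` is the weak colimit of the principal localizations `R[1/s]`, `s ∈ M`. -/
theorem isWeakColim :
    IsWeakColim (sys (M := M) Rm) (G M) Rm (fun s => cocone Rm s) (fun h => sysMap Rm h) :=
  isWeakColim_algSys R (G M) (fun s t h => trans s t h) Rm (cocone Rm) (cocone_comp_trans Rm)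
    (cocone_surj Rm) (cocone_ker Rm)

end Sys

end Groth.Agent.Lib.Helper8.LocSys
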