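import Mathlib
import Groth.Agent.Lib.Helper8.LocSys

/-!
# Étale algebras over a localization spread out

If `Rm` is a localization of `R` at `M` and `F` is an étale `Rm`-algebra, there is an étale
`R`-algebra `D` such that `F` is the localization of `D` at (the image of) `M`.
-/

set_option autoImplicit false

namespace Groth.Agent.Lib.Helper8.LocSys

universe u

open TensorProduct Groth.Agent.Lib.Helper8.WeakColim

theorem isLocalization_of_tensor_equiv {R₂ : Type u} [CommRing R₂] (M₂ : Submonoid R₂)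
    (Rm : Type u) [CommRing Rm] [Algebra R₂ Rm] [IsLocalization M₂ Rm] (D : Type u) [CommRing D]
    [Algebra R₂ D] (F : Type u) [CommRing F] [Algebra Rm F] (e : Rm ⊗[R₂] D ≃ₐ[Rm] F) :
    ∃ (_ : Algebra D F), (∀ d : D, algebraMap D F d = e (1 ⊗ₜ d)) ∧
      IsLocalization (Algebra.algebraMapSubmonoid D M₂) F := by
  letI : Algebra D F :=
    (e.toRingEquiv.toRingHom.comp
      (Algebra.TensorProduct.includeRight (R := R₂) (A := Rm) (B := D)).toRingHom).toAlgebra
  refine ⟨inferInstance, fun d => rfl, ?_⟩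
  have hloc : IsLocalization (Algebra.algebraMapSubmonoid D M₂) (D ⊗[R₂] Rm) :=
    IsLocalization.tensor Rm M₂
  let e' : D ⊗[R₂] Rm ≃ₐ[D] F :=
    AlgEquiv.ofRingEquiv (f := (Algebra.TensorProduct.comm R₂ D Rm).toRingEquiv.trans e.toRingEquiv)
      (fun d => by
        change e (Algebra.TensorProduct.comm R₂ D Rm (algebraMap D (D ⊗[R₂] Rm) d)) = e (1 ⊗ₜ d)
        rw [Algebra.TensorProduct.algebraMap_apply, Algebra.TensorProduct.comm_tmul]
        rfl)
  exact IsLocalization.isLocalization_of_algEquiv _ e'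

/-- Descent of étaleness for a finitely presented model over a localization. -/
theorem exists_etale_of_model {R' : Type u} [CommRing R'] (M₀ : Submonoid R') (Rm : Type u)
    [CommRing Rm] [Algebra R' Rm] [IsLocalization M₀ Rm] (F₀ : Type u) [CommRing F₀]
    [Algebra R' F₀] [Algebra.FinitePresentation R' F₀] (F : Type u) [CommRing F] [Algebra Rm F]
    [Algebra.FormallyEtale Rm F] (ε : Rm ⊗[R'] F₀ ≃ₐ[Rm] F) :
    ∃ (D : Type u) (_ : CommRing D) (_ : Algebra R' D) (_ : Algebra.Etale R' D) (_ : Algebra D F),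
      (∀ r : R', algebraMap D F (algebraMap R' D r) = algebraMap Rm F (algebraMap R' Rm r)) ∧
      IsLocalization (Algebra.algebraMapSubmonoid D M₀) F := by
  have hW₂ := isWeakColim (M := M₀) Rm
  haveI : Algebra.FormallyEtale Rm (Rm ⊗[R'] F₀) := Algebra.FormallyEtale.of_equiv ε.symm
  obtain ⟨t, -, ht⟩ := hW₂.exists_formallyEtale F₀ (⟨1, M₀.one_mem⟩ : Idx M₀)
  haveI : Algebra.Etale (G M₀ t) (G M₀ t ⊗[R'] F₀) := {}
  letI : Algebra (G M₀ t) Rm := (cocone Rm t).toRingHom.toAlgebra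
  haveI : IsScalarTower R' (G M₀ t) Rm :=
    IsScalarTower.of_algebraMap_eq (fun r => ((cocone Rm t).commutes r).symm)
  haveI : IsLocalization (Algebra.algebraMapSubmonoid (G M₀ t) M₀) Rm :=
    IsLocalization.isLocalization_of_submonoid_le (G M₀ t) Rm (Submonoid.powers t.val) M₀
      (Submonoid.powers_le.mpr t.mem)
  let e₂ : Rm ⊗[G M₀ t] (G M₀ t ⊗[R'] F₀) ≃ₐ[Rm] Rm ⊗[R'] F₀ :=
    Algebra.TensorProduct.cancelBaseChange R' (G M₀ t) Rm Rm F₀
  obtain ⟨algDF, hDF, hloc⟩ := isLocalization_of_tensor_equiv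
    (Algebra.algebraMapSubmonoid (G M₀ t) M₀) Rm (G M₀ t ⊗[R'] F₀) F (e₂.trans ε)
  haveI : Algebra.Etale R' (G M₀ t ⊗[R'] F₀) := Algebra.Etale.comp R' (G M₀ t) _
  refine ⟨G M₀ t ⊗[R'] F₀, inferInstance, inferInstance, inferInstance, algDF, fun r => ?_, ?_⟩
  · rw [hDF, Algebra.TensorProduct.algebraMap_apply]
    change ε (e₂ ((1 : Rm) ⊗ₜ[G M₀ t] (algebraMap R' (G M₀ t) r ⊗ₜ[R'] (1 : F₀)))) = _
    rw [Algebra.TensorProduct.cancelBaseChange_tmul, ← Algebra.algebraMap_eq_smul_one,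
      ← IsScalarTower.algebraMap_apply R' (G M₀ t) Rm]
    have : (algebraMap R' Rm r) ⊗ₜ[R'] (1 : F₀) =
        algebraMap Rm (Rm ⊗[R'] F₀) (algebraMap R' Rm r) := by
      rw [Algebra.TensorProduct.algebraMap_apply]; rfl
    rw [this, ε.commutes]
  · rw [Algebra.algebraMapSubmonoid_map_map] at hloc
    exact hloc

theorem exists_etale_model {R : Type u} [CommRing R] (M : Submonoid R) (Rm : Type u) [CommRing Rm]
    [Algebra R Rm] [IsLocalization M Rm] (F : Type u) [CommRing F] [Algebra Rm F]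
    [Algebra.Etale Rm F] [Algebra R F] [IsScalarTower R Rm F] :
    ∃ (D : Type u) (_ : CommRing D) (_ : Algebra R D) (_ : Algebra.Etale R D) (_ : Algebra D F)
      (_ : IsScalarTower R D F), IsLocalization (Algebra.algebraMapSubmonoid D M) F := by
  classical
  have hW₁ := isWeakColim (M := M) Rm
  let P := Algebra.Presentation.ofFinitePresentation Rm F
  have hfin : P.coeffs.Finite := P.finite_coeffs
  obtain ⟨s₀, x, hx⟩ := hW₁.exists_lift_finset hfin.toFinset (fun b => b)
  -- `R' = R[1/s₀]`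
  letI : Algebra (G M s₀) Rm := (cocone Rm s₀).toRingHom.toAlgebra
  haveI : IsScalarTower R (G M s₀) Rm :=
    IsScalarTower.of_algebraMap_eq (fun r => ((cocone Rm s₀).commutes r).symm)
  letI : Algebra (G M s₀) F := ((algebraMap Rm F).comp (algebraMap (G M s₀) Rm)).toAlgebra
  haveI : IsScalarTower (G M s₀) Rm F := IsScalarTower.of_algebraMap_eq (fun _ => rfl)
  haveI : P.HasCoeffs (G M s₀) := ⟨fun b hb => ⟨x b, hx b (hfin.mem_toFinset.mpr hb)⟩⟩
  let ε : Rm ⊗[G M s₀] P.ModelOfHasCoeffs (G M s₀) ≃ₐ[Rm] F :=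
    P.tensorModelOfHasCoeffsEquiv (G M s₀)
  haveI : IsLocalization (Algebra.algebraMapSubmonoid (G M s₀) M) Rm :=
    IsLocalization.isLocalization_of_submonoid_le (G M s₀) Rm (Submonoid.powers s₀.val) M
      (Submonoid.powers_le.mpr s₀.mem)
  obtain ⟨D, _, _, _, _, hD, hloc⟩ := exists_etale_of_model
    (Algebra.algebraMapSubmonoid (G M s₀) M) Rm (P.ModelOfHasCoeffs (G M s₀)) F ε
  letI : Algebra R D := ((algebraMap (G M s₀) D).comp (algebraMap R (G M s₀))).toAlgebra
  haveI : IsScalarTower R (G M s₀) D := IsScalarTower.of_algebraMap_eq (fun _ => rfl)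
  haveI : Algebra.Etale R D := Algebra.Etale.comp R (G M s₀) D
  refine ⟨D, inferInstance, inferInstance, inferInstance, inferInstance, ?_, ?_⟩
  · refine IsScalarTower.of_algebraMap_eq (fun r => ?_)
    change _ = algebraMap D F (algebraMap (G M s₀) D (algebraMap R (G M s₀) r))
    rw [hD, ← IsScalarTower.algebraMap_apply R (G M s₀) Rm, ← IsScalarTower.algebraMap_apply]
  · rw [Algebra.algebraMapSubmonoid_map_map] at hloc
    exact hloc

end Groth.Agent.Lib.Helper8.LocSys
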