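import Mathlib
import Groth.Prelude
import Groth.Agent.Lib.Helper12.QFSections
import Groth.Agent.Lib.Helper12.Equidim
import Groth.Agent.Lib.Helper12.TopFibreDim
import Groth.Agent.Lib.Helper12.EquidimPt
import Groth.Agent.Lib.Helper12.Chevalley

/-!
# Local structure of morphisms locally of finite type: quasi-finite maps to affine space

`exists_qf_to_affineSpace` (S7625): if `dim_x X_s = d` then an affine neighbourhood of `x` admits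
a quasi-finite morphism to `𝔸^d` over an affine neighbourhood of `s`.
-/

set_option autoImplicit false
universe u
open CategoryTheory AlgebraicGeometry Limits

namespace Groth.Agent.Lib.Helper8.LocStruct

open Groth.Agent.Lib.Helper12

theorem fibreDimAt_resLE {X S : Scheme.{u}} (f : X ⟶ S) (V : S.Opens) (W : X.Opens)
    (e : W ≤ f ⁻¹ᵁ V) (z : W) :
    FlatMor.fibreDimAt (f.resLE V W e) z = FlatMor.fibreDimAt f z.1 := by
  have h1 : FlatMor.fibreDimAt (W.ι ≫ f) z = FlatMor.fibreDimAt f (W.ι z) :=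
    Equidim.fibreDimAt_comp_openImmersion W.ι f z
  have h0 : FlatMor.fibreDimAt f z.1 = FlatMor.fibreDimAt f (W.ι z) := rfl
  rw [h0, ← h1, TopFibreDim.fibreDimAt_eq_topFibreDim, TopFibreDim.fibreDimAt_eq_topFibreDim,
    ← TopFibreDim.topFibreDim_comp_injective (f.resLE V W e).base V.ι.base V.ι.injective z]
  apply TopFibreDim.topFibreDim_congr
  rw [← Scheme.Hom.resLE_comp_ι f e]
  ext a
  simp

theorem exists_qf_to_affineSpace {X S : Scheme.{u}} (f : X ⟶ S) [LocallyOfFiniteType f] (x : X)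
    (V : S.Opens) (hV : IsAffineOpen V) (hxV : f x ∈ V) (d : ℕ)
    (hd : FlatMor.fibreDimAt f x = d) :
    ∃ (U : X.Opens), IsAffineOpen U ∧ x ∈ U ∧
      ∃ (g : (U : Scheme.{u}) ⟶ (V : Scheme.{u}))
        (π : (U : Scheme.{u}) ⟶ 𝔸(ULift.{u} (Fin d); (V : Scheme.{u}))),
        g ≫ V.ι = U.ι ≫ f ∧ π ≫ (𝔸(ULift.{u} (Fin d); (V : Scheme.{u})) ↘ (V : Scheme.{u})) = g ∧
          LocallyQuasiFinite π ∧ LocallyOfFiniteType π := by
  obtain ⟨W₀, hW₀, hxW₀, hle⟩ : ∃ W₀ : X.Opens, IsAffineOpen W₀ ∧ x ∈ W₀ ∧ W₀ ≤ f ⁻¹ᵁ V := by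
    obtain ⟨_, ⟨W, hW, rfl⟩, hxW, hWV⟩ := X.isBasis_affineOpens.exists_subset_of_mem_open
      (show x ∈ (f ⁻¹ᵁ V : Set X) from hxV) (f ⁻¹ᵁ V).2
    exact ⟨W, hW, hxW, hWV⟩
  haveI : IsAffine (W₀ : Scheme.{u}) := hW₀
  set φ₀ : (W₀ : Scheme.{u}) ⟶ (V : Scheme.{u}) := f.resLE V W₀ hle with hφ₀
  have hφ₀ι : φ₀ ≫ V.ι = W₀.ι ≫ f := Scheme.Hom.resLE_comp_ι f hle
  haveI : LocallyOfFiniteType (φ₀ ≫ V.ι) := by rw [hφ₀ι]; infer_instance
  haveI : LocallyOfFiniteType φ₀ := locallyOfFiniteType_of_comp φ₀ V.ι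
  let x₀ : (W₀ : Scheme.{u}) := ⟨x, hxW₀⟩
  have hdim : FlatMor.fibreDimAt φ₀ x₀ = d := (fibreDimAt_resLE f V W₀ hle x₀).trans hd
  obtain ⟨v, hv⟩ := QFSections.exists_homOfVector_fibreDimAt_le_zero φ₀ x₀ d (le_of_eq hdim)
  set π₀ := AffineSpace.homOfVector φ₀ v with hπ₀
  have hov : π₀ ≫ (𝔸(ULift.{u} (Fin d); (V : Scheme.{u})) ↘ (V : Scheme.{u})) = φ₀ :=
    AffineSpace.homOfVector_over φ₀ v
  haveI : LocallyOfFiniteType (π₀ ≫ (𝔸(ULift.{u} (Fin d); (V : Scheme.{u})) ↘ (V : Scheme.{u}))) := by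
    rw [hov]; infer_instance
  haveI : LocallyOfFiniteType π₀ :=
    locallyOfFiniteType_of_comp π₀ (𝔸(ULift.{u} (Fin d); (V : Scheme.{u})) ↘ (V : Scheme.{u}))
  have hopen : IsOpen {z : (W₀ : Scheme.{u}) | FlatMor.fibreDimAt π₀ z ≤ ((0 : ℕ) : WithBot ℕ∞)} :=
    Chevalley.isOpen_setOf_fibreDimAt_le π₀ 0
  -- the image in `X` of the quasi-finite locus
  have hopenX : IsOpen (W₀.ι '' {z : (W₀ : Scheme.{u}) | FlatMor.fibreDimAt π₀ z ≤ ((0 : ℕ) : WithBot ℕ∞)}) :=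
    W₀.ι.isOpenEmbedding.isOpenMap _ hopen
  have hxmem : x ∈ W₀.ι '' {z : (W₀ : Scheme.{u}) | FlatMor.fibreDimAt π₀ z ≤ ((0 : ℕ) : WithBot ℕ∞)} :=
    ⟨x₀, hv, rfl⟩
  obtain ⟨U, hU, hxU, hUsub⟩ : ∃ U : X.Opens, IsAffineOpen U ∧ x ∈ U ∧ (U : Set X) ⊆
      W₀.ι '' {z : (W₀ : Scheme.{u}) | FlatMor.fibreDimAt π₀ z ≤ ((0 : ℕ) : WithBot ℕ∞)} := by
    obtain ⟨_, ⟨U, hU, rfl⟩, hxU, hUsub⟩ := X.isBasis_affineOpens.exists_subset_of_mem_open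
      hxmem hopenX
    exact ⟨U, hU, hxU, hUsub⟩
  have hUW : U ≤ W₀ := by
    intro z hz
    obtain ⟨w, -, hw⟩ := hUsub hz
    rw [← hw]
    exact w.2
  let j : (U : Scheme.{u}) ⟶ (W₀ : Scheme.{u}) := X.homOfLE hUW
  have hjι : j ≫ W₀.ι = U.ι := X.homOfLE_ι hUW
  have hjmem : ∀ z : (U : Scheme.{u}), FlatMor.fibreDimAt π₀ (j z) ≤ ((0 : ℕ) : WithBot ℕ∞) := by
    intro z
    obtain ⟨w, hw, hwz⟩ := hUsub z.2
    have h1 : W₀.ι (j z) = W₀.ι w := by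
      rw [← Scheme.Hom.comp_apply, hjι]
      exact hwz.symm
    have h2 : j z = w := W₀.ι.isOpenEmbedding.injective h1
    rw [h2]
    exact hw
  refine ⟨U, hU, hxU, j ≫ φ₀, j ≫ π₀, ?_, ?_, ?_, inferInstance⟩
  · rw [Category.assoc, hφ₀ι, ← Category.assoc, hjι]
  · rw [Category.assoc, hov]
  · apply EquidimPt.locallyQuasiFinite_of_fibreDimAt_le_zero
    intro z
    rw [Equidim.fibreDimAt_comp_openImmersion j π₀ z]
    exact hjmem z

end Groth.Agent.Lib.Helper8.LocStruct
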