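import Mathlib
import Groth.Prelude
import Groth.Agent.Lib.Helper8.LocStruct
import Groth.Agent.Lib.Helper8.EtLocSch

/-!
# Local structure of morphisms locally of finite type (S0442)
-/

set_option autoImplicit false
universe u
open CategoryTheory AlgebraicGeometry Limits

namespace Groth.Agent.Lib.Helper8.LocStruct

/-- Polynomial rings are standard smooth of relative dimension the number of variables. -/
theorem isStandardSmoothOfRelativeDimension_mvPolynomial (R : Type u) [CommRing R] (σ : Type u)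
    [Finite σ] (n : ℕ) (hn : Nat.card σ = n) :
    Algebra.IsStandardSmoothOfRelativeDimension n R (MvPolynomial σ R) := by
  classical
  let v : Fin 0 → MvPolynomial σ R := Fin.elim0
  let a : Fin 0 → σ := Fin.elim0
  have ha : Function.Injective a := fun i => Fin.elim0 i
  let P₀ : Algebra.PreSubmersivePresentation R
      (MvPolynomial σ R ⧸ Ideal.span (Set.range v)) σ (Fin 0) :=
    Algebra.PreSubmersivePresentation.naive (v := v) a ha
  let P : Algebra.SubmersivePresentation R
      (MvPolynomial σ R ⧸ Ideal.span (Set.range v)) σ (Fin 0) :=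
    { toPreSubmersivePresentation := P₀
      jacobian_isUnit := by
        rw [Algebra.PreSubmersivePresentation.jacobian_eq_jacobiMatrix_det,
          Matrix.det_isEmpty, map_one]
        exact isUnit_one }
  have hdim : P.dimension = n := by
    show Nat.card σ - Nat.card (Fin 0) = n
    simp [hn]
  haveI := P.isStandardSmoothOfRelativeDimension hdim
  have hbot : Ideal.span (Set.range v) = ⊥ := by
    rw [Set.range_eq_empty, Ideal.span_empty]
  let e : (MvPolynomial σ R ⧸ Ideal.span (Set.range v)) ≃ₐ[R] MvPolynomial σ R :=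
    (Ideal.quotientEquivAlgOfEq R hbot).trans (AlgEquiv.quotientBot R _)
  exact Algebra.IsStandardSmoothOfRelativeDimension.of_algEquiv n e

/-- Affine space is smooth of relative dimension `d`. -/
theorem smoothOfRelativeDimension_affineSpace (d : ℕ) (S : Scheme.{u}) :
    SmoothOfRelativeDimension d (𝔸(ULift.{u} (Fin d); S) ↘ S) := by
  show SmoothOfRelativeDimension d (pullback.fst (terminal.from S) (terminal.from
    (Spec (CommRingCat.of (MvPolynomial (ULift.{u} (Fin d)) (ULift.{u} ℤ))))))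
  haveI := smoothOfRelativeDimension_isStableUnderBaseChange d
  apply MorphismProperty.pullback_fst (P := @SmoothOfRelativeDimension d)
  have := isIso_of_isTerminal specULiftZIsTerminal.{u} terminalIsTerminal (terminal.from _)
  rw [← terminal.comp_from (Spec.map (CommRingCat.ofHom
      (MvPolynomial.C : ULift.{u} ℤ →+* MvPolynomial (ULift.{u} (Fin d)) (ULift.{u} ℤ)))),
    MorphismProperty.cancel_right_of_respectsIso (P := @SmoothOfRelativeDimension d),
    HasRingHomProperty.Spec_iff (P := @SmoothOfRelativeDimension d)]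
  refine RingHom.locally_of RingHom.isStandardSmoothOfRelativeDimension_respectsIso _ ?_
  have h1 : (CommRingCat.ofHom
      (MvPolynomial.C : ULift.{u} ℤ →+* MvPolynomial (ULift.{u} (Fin d)) (ULift.{u} ℤ))).hom =
      algebraMap (ULift.{u} ℤ) (MvPolynomial (ULift.{u} (Fin d)) (ULift.{u} ℤ)) := rfl
  rw [h1, RingHom.isStandardSmoothOfRelativeDimension_algebraMap]
  apply isStandardSmoothOfRelativeDimension_mvPolynomial
  rw [Nat.card_congr Equiv.ulift, Nat.card_fin]

theorem surjective_residueFieldMap_comp_of_isOpenImmersion_left {X Y Z : Scheme.{u}} (j : X ⟶ Y)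
    [IsOpenImmersion j] (k : Y ⟶ Z) (z : X)
    (h : Function.Surjective (k.residueFieldMap (j z))) :
    Function.Surjective ((j ≫ k).residueFieldMap z) := by
  rw [Scheme.residueFieldMap_comp]
  have h2 : Function.Bijective (j.residueFieldMap z) := ConcreteCategory.bijective_of_isIso _
  intro w
  obtain ⟨w', hw'⟩ := h2.2 w
  obtain ⟨w'', hw''⟩ := h w'
  refine ⟨w'', ?_⟩
  exact (congrArg (ConcreteCategory.hom (Scheme.Hom.residueFieldMap j z)) hw'').trans hw'

theorem surjective_residueFieldMap_comp_of_isOpenImmersion_right {X Y Z : Scheme.{u}} (k : X ⟶ Y)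
    (j : Y ⟶ Z) [IsOpenImmersion j] (z : X)
    (h : Function.Surjective (k.residueFieldMap z)) :
    Function.Surjective ((k ≫ j).residueFieldMap z) := by
  rw [Scheme.residueFieldMap_comp]
  have h2 : Function.Bijective (j.residueFieldMap (k z)) := ConcreteCategory.bijective_of_isIso _
  intro w
  obtain ⟨w', hw'⟩ := h w
  obtain ⟨w'', hw''⟩ := h2.2 w'
  refine ⟨w'', ?_⟩
  exact (congrArg (ConcreteCategory.hom (Scheme.Hom.residueFieldMap k z)) hw'').trans hw'

theorem main {X S : Scheme.{u}} (f : X ⟶ S) [LocallyOfFiniteType f] (x : X) (n : ℕ)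
    (hn : FlatMor.fibreDimAt f x = n) :
    ∃ (X' Y : Scheme.{u}) (g : X' ⟶ X) (π : X' ⟶ Y) (h : Y ⟶ S) (x' : X'), g ≫ f = π ≫ h ∧
      Etale g ∧ g x' = x ∧
      Function.Surjective (g.residueFieldMap x') ∧ IsFinite π ∧ SmoothOfRelativeDimension n h ∧
      ∀ z : ↑X', π z = π x' → z = x' := by
  obtain ⟨V, hV, hxV⟩ : ∃ V : S.Opens, IsAffineOpen V ∧ f x ∈ V := by
    obtain ⟨_, ⟨V, hV, rfl⟩, hxV, -⟩ := S.isBasis_affineOpens.exists_subset_of_mem_open
      (Set.mem_univ (f x)) isOpen_univ
    exact ⟨V, hV, hxV⟩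
  obtain ⟨U, hU, hxU, g₀, π₀, hg₀, hπ₀, hqf, hft⟩ :=
    exists_qf_to_affineSpace f x V hV hxV n hn
  let x₁ : (U : Scheme.{u}) := ⟨x, hxU⟩
  obtain ⟨Y, e, y, he, hey, -, V', v, hV'⟩ := EtLocSch.exists_etale_nbhd_split π₀ (π₀ x₁)
    (fun _ : Unit => x₁) (fun _ => rfl) (fun _ => π₀.quasiFiniteAt x₁)
  obtain ⟨hvV', hfin, hsnd, hfst, huniq, -, hres⟩ := hV' ()
  haveI := he
  haveI : SmoothOfRelativeDimension n
      (𝔸(ULift.{u} (Fin n); (V : Scheme.{u})) ↘ (V : Scheme.{u})) :=
    smoothOfRelativeDimension_affineSpace n _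
  have hsm : SmoothOfRelativeDimension n
      (e ≫ (𝔸(ULift.{u} (Fin n); (V : Scheme.{u})) ↘ (V : Scheme.{u})) ≫ V.ι) := by
    have h1 : SmoothOfRelativeDimension (n + 0)
        ((𝔸(ULift.{u} (Fin n); (V : Scheme.{u})) ↘ (V : Scheme.{u})) ≫ V.ι) := inferInstance
    rw [add_zero] at h1
    have h2 : SmoothOfRelativeDimension (0 + n)
        (e ≫ (𝔸(ULift.{u} (Fin n); (V : Scheme.{u})) ↘ (V : Scheme.{u})) ≫ V.ι) := inferInstance
    rwa [zero_add] at h2
  let x' : ((V' ()) : Scheme.{u}) := ⟨v (), hvV'⟩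
  have hx' : (V' ()).ι x' = v () := rfl
  refine ⟨(V' () : Scheme.{u}), Y, (V' ()).ι ≫ pullback.fst π₀ e ≫ U.ι,
    (V' ()).ι ≫ pullback.snd π₀ e,
    e ≫ (𝔸(ULift.{u} (Fin n); (V : Scheme.{u})) ↘ (V : Scheme.{u})) ≫ V.ι, x',
    ?_, inferInstance, ?_, ?_, hfin, hsm, ?_⟩
  · simp only [Category.assoc]
    rw [← hg₀, ← hπ₀]
    simp only [Category.assoc]
    rw [pullback.condition_assoc]
  · rw [Scheme.Hom.comp_apply, Scheme.Hom.comp_apply, hx', hfst]
    rfl
  · apply surjective_residueFieldMap_comp_of_isOpenImmersion_left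
    apply surjective_residueFieldMap_comp_of_isOpenImmersion_right
    exact hres
  · intro z hz
    apply Subtype.ext
    apply huniq z.1 z.2
    have h1 : pullback.snd π₀ e z.1 = pullback.snd π₀ e (v ()) := hz
    rw [h1, hsnd]

end Groth.Agent.Lib.Helper8.LocStruct
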