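import Mathlib
import Groth.Prelude
import Groth.Agent.Lib.Helper8.Fwd16450
import Groth.Agent.Lib.Helper8.Bwd16450
import Groth.Agent.Lib.Helper8.EssEtNoeth

/-!
# S16450: essentially étale iff the residue field products of the normalizations match
-/

set_option autoImplicit false
set_option linter.style.haveILetI false
set_option linter.unusedSectionVars false

open IsLocalRing TensorProduct

universe u

namespace Groth.Agent.Lib.Helper8.Main16450

theorem isNoetherianRing_of_faithfullyFlat (D E : Type*) [CommRing D] [CommRing E] [Algebra D E]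
    [Module.FaithfullyFlat D E] [IsNoetherianRing E] : IsNoetherianRing D := by
  have hmono : ∀ I J : Ideal D, I.map (algebraMap D E) ≤ J.map (algebraMap D E) ↔ I ≤ J := by
    intro I J
    constructor
    · intro h
      have h1 := Ideal.comap_mono (f := algebraMap D E) h
      rwa [Ideal.comap_map_eq_self_of_faithfullyFlat, Ideal.comap_map_eq_self_of_faithfullyFlat]
        at h1
    · exact fun h => Ideal.map_mono h
  let emb : Ideal D ↪o Ideal E := OrderEmbedding.ofMapLEIff (Ideal.map (algebraMap D E)) hmono
  haveI : WellFoundedGT (Ideal E) := isNoetherian_iff'.mp inferInstance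
  have h2 : WellFoundedGT (Ideal D) := emb.wellFoundedGT
  exact isNoetherianRing_iff.mpr (isNoetherian_iff'.mpr h2)

theorem main
    (A S : Type u) [CommRing A] [IsLocalRing A] [IsReduced A] (hA : EGA4.IsExcellent A)
    [CommRing S] [IsLocalRing S] [Algebra A S] [IsLocalHom (algebraMap A S)]
    [Hensel.IsStrictHenselization A S] (D : Subalgebra A S) [IsLocalRing D]
    [IsLocalHom (algebraMap D S)]
    (hfg : ∃ t : Finset (FractionRing D), ∀ x : FractionRing D, ∃ a ∈ nonZeroDivisors A,
      algebraMap A (FractionRing D) a * x ∈ Algebra.adjoin A (t : Set (FractionRing D)))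
    (A' D' : Subalgebra A (FractionRing S))
    (hA' : ∀ x : (FractionRing S), x ∈ A' ↔ (IsIntegral A x ∧
      ∃ a ∈ nonZeroDivisors A, ∃ b : A, algebraMap A (FractionRing S) a * x = algebraMap A (FractionRing S) b))
    (hD' : ∀ x : (FractionRing S), x ∈ D' ↔ (IsIntegral D x ∧
      ∃ a ∈ nonZeroDivisors A, ∃ d ∈ D, algebraMap A (FractionRing S) a * x = algebraMap S (FractionRing S) d))
    (hle : A' ≤ D') (ι : D →ₐ[A] D') (hι : ∀ d : D, (ι d : (FractionRing S)) = algebraMap S (FractionRing S) d) :
    EGA4loc.IsEssentiallyEtale A D ↔
      ({N : Ideal D' | N.IsMaximal}.Finite ∧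
        Function.Surjective ((Ideal.Quotient.mkₐ A (Ideal.jacobson (⊥ : Ideal D'))).comp
          (Algebra.TensorProduct.productMap (Subalgebra.inclusion hle) ι)) ∧
        RingHom.ker ((Ideal.Quotient.mkₐ A (Ideal.jacobson (⊥ : Ideal D'))).comp
          (Algebra.TensorProduct.productMap (Subalgebra.inclusion hle) ι)) =
          (Ideal.jacobson (⊥ : Ideal A')).map
              (Algebra.TensorProduct.includeLeft : A' →ₐ[A] A' ⊗[A] D) ⊔
            (maximalIdeal D).map
              (Algebra.TensorProduct.includeRight : D →ₐ[A] A' ⊗[A] D)) := by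
  classical
  haveI : IsNoetherianRing A := hA.1
  have hmin : (minimalPrimes A).Finite := minimalPrimes.finite_of_isNoetherianRing A
  haveI : Module.Flat A S := Hzl.strictHenselization_flat A S
  haveI : IsReduced S := (Hzl.strictHenselization_isReduced_iff A S).mp inferInstance
  haveI : IsReduced (FractionRing S) :=
    isReduced_localizationPreserves (nonZeroDivisors S) _ inferInstance
  haveI towerADK : IsScalarTower A D (FractionRing S) :=
    IsScalarTower.of_algebraMap_eq
      (fun a => IsScalarTower.algebraMap_apply A S (FractionRing S) a)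
  have hSK : Function.Injective (algebraMap S (FractionRing S)) :=
    IsFractionRing.injective S (FractionRing S)
  have hDK : Function.Injective (algebraMap D (FractionRing S)) :=
    fun x y h => Subtype.ext (hSK h)
  haveI : Module.FaithfullyFlat A S := Module.FaithfullyFlat.of_flat_of_isLocalHom
  have hAS : Function.Injective (algebraMap A S) := FaithfulSMul.algebraMap_injective A S
  have hAK : Function.Injective (algebraMap A (FractionRing S)) := by
    rw [IsScalarTower.algebraMap_eq A S (FractionRing S)]
    exact hSK.comp hAS
  have hun : ∀ a ∈ nonZeroDivisors A, IsUnit (algebraMap A (FractionRing S) a) := by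
    intro a ha
    have hreg0 : IsSMulRegular A a := fun x y h => by
      have h1 : a * (x - y) = 0 := by
        rw [mul_sub, sub_eq_zero]; exact h
      have := (mem_nonZeroDivisors_iff.mp ha).1 _ h1
      exact sub_eq_zero.mp this
    have hreg : IsSMulRegular S (algebraMap A S a) := IsSMulRegular.of_flat hreg0
    have h1 : algebraMap A S a ∈ nonZeroDivisors S := by
      rw [mem_nonZeroDivisors_iff_right]
      intro z hz
      apply hreg
      change algebraMap A S a • z = algebraMap A S a • 0
      rw [smul_zero, smul_eq_mul, mul_comm]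
      exact hz
    rw [IsScalarTower.algebraMap_apply A S (FractionRing S)]
    exact IsLocalization.map_units (FractionRing S) (⟨_, h1⟩ : nonZeroDivisors S)
  haveI : IsLocalHom (algebraMap A D) := ⟨fun a ha => by
    have h1 : IsUnit (algebraMap D S (algebraMap A D a)) := ha.map _
    exact isUnit_of_map_unit (algebraMap A S) a h1⟩
  have hD'conv : ∀ x : FractionRing S, x ∈ D' ↔ (IsIntegral D x ∧
      ∃ a ∈ nonZeroDivisors A, ∃ d : D,
        algebraMap A (FractionRing S) a * x = algebraMap D (FractionRing S) d) := by
    intro x
    rw [hD' x]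
    constructor
    · rintro ⟨h1, a, ha, d, hd, h2⟩
      exact ⟨h1, a, ha, ⟨d, hd⟩, h2⟩
    · rintro ⟨h1, a, ha, d, h2⟩
      exact ⟨h1, a, ha, d.1, d.2, h2⟩
  constructor
  · intro hD
    exact Fwd16450.fwd A D (FractionRing S) hA hD hAK hDK hun A' D' hA' hD'conv hle ι hι
  · rintro ⟨-, hΨ, -⟩
    obtain ⟨E, hDE, hEloc, hEet⟩ := (FracFgIff.main A S hmin D).mp hfg
    haveI := hEloc
    haveI : IsLocalHom (algebraMap A E) := ⟨fun a ha => by
      have h1 : IsUnit (algebraMap E S (algebraMap A E a)) := ha.map _
      rw [← IsScalarTower.algebraMap_apply A E S] at h1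
      exact isUnit_of_map_unit (algebraMap A S) a h1⟩
    letI algDE : Algebra D E := (Subalgebra.inclusion hDE).toRingHom.toAlgebra
    haveI : IsScalarTower A D E := IsScalarTower.of_algebraMap_eq (fun a => rfl)
    haveI : IsScalarTower A E (FractionRing S) :=
      IsScalarTower.of_algebraMap_eq
        (fun a => IsScalarTower.algebraMap_apply A S (FractionRing S) a)
    haveI : IsScalarTower D E (FractionRing S) := IsScalarTower.of_algebraMap_eq (fun d => rfl)
    haveI : IsLocalHom (algebraMap D E) := ⟨fun d hd => by
      have h1 : IsUnit (algebraMap E S (algebraMap D E d)) := hd.map _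
      exact isUnit_of_map_unit (algebraMap D S) d h1⟩
    have hDEinj : Function.Injective (algebraMap D E) := Subalgebra.inclusion_injective hDE
    have hEK : Function.Injective (algebraMap E (FractionRing S)) :=
      fun x y h => Subtype.ext (hSK h)
    haveI hflat : Module.Flat D E :=
      Bwd16450.flat_of_surjective A D E (FractionRing S) hEet hDEinj hEK hun A' D' hA' hD'conv
        hle ι hι hΨ
    haveI : Module.FaithfullyFlat D E := Module.FaithfullyFlat.of_flat_of_isLocalHom
    haveI : IsNoetherianRing E := InterNorm.isNoetherianRing_of_essEtale A E hEet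
    haveI : IsNoetherianRing D := isNoetherianRing_of_faithfullyFlat D E
    have hmE := Bwd16450.map_maximalIdeal_of_essEtale A E hEet
    have hm : Ideal.map (algebraMap A D) (maximalIdeal A) = maximalIdeal D := by
      apply le_antisymm
      · rw [Ideal.map_le_iff_le_comap]
        intro a ha
        exact map_nonunit (algebraMap A D) a ha
      · intro d hd
        have h1 : algebraMap D E d ∈ maximalIdeal E := map_nonunit (algebraMap D E) d hd
        rw [← hmE, IsScalarTower.algebraMap_eq A D E, ← Ideal.map_map] at h1
        have h2 : d ∈ (((maximalIdeal A).map (algebraMap A D)).map (algebraMap D E)).comap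
            (algebraMap D E) := h1
        rwa [Ideal.comap_map_eq_self_of_faithfullyFlat] at h2
    exact EssEtNoeth.main A S hA D hfg hm

end Groth.Agent.Lib.Helper8.Main16450
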