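import Mathlib

/-
EGA IV 18.4.6-type lemma: for a finite algebra `C` over a local ring `A`, a subalgebra `B`
separating the maximal ideal `r` from the others and generating `C_r` modulo `𝔪_A`, the map
`B_{r ∩ B} → C_r` is bijective.
-/

open IsLocalRing

universe u

namespace Groth.Agent.Lib.Helper8.MonogenicLoc

variable {A C : Type u} [CommRing A] [IsLocalRing A] [CommRing C] [Algebra A C] [Module.Finite A C]

set_option maxHeartbeats 800000 in
theorem localRingHom_bijective (B : Subalgebra A C) (r : Ideal C) [r.IsMaximal]
    (hprimes : ∀ r' : Ideal C, r'.IsMaximal → r' ≠ r → ∃ b : B, (b : C) ∈ r' ∧ (b : C) ∉ r)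
    (hgen : ∀ x : Localization.AtPrime r, ∃ b : B, x - algebraMap C _ (b : C) ∈
      Ideal.map (algebraMap A (Localization.AtPrime r)) (maximalIdeal A)) :
    Function.Bijective (Localization.localRingHom (r.comap B.val.toRingHom) r B.val.toRingHom rfl) := by
  set n : Ideal B := r.comap B.val.toRingHom with hn
  have hint : Algebra.IsIntegral B C := Algebra.IsIntegral.tower_top (R := A)
  have hfin : Module.Finite B C := Module.Finite.of_restrictScalars_finite A B C
  have hnmax : n.IsMaximal := Ideal.isMaximal_comap_of_isIntegral_of_isMaximal (R := B) r
  have hlies : r.LiesOver n := ⟨rfl⟩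
  have hq : n.primesOver C = {r} := by
    ext r'
    constructor
    · rintro ⟨hr'p, hr'l⟩
      by_contra hne
      have hr'max : r'.IsMaximal := by
        have : (r'.comap (algebraMap B C)).IsMaximal := by
          have := hr'l.over
          change n = r'.comap (algebraMap B C) at this
          rw [← this]; exact hnmax
        exact Ideal.isMaximal_of_isIntegral_of_isMaximal_comap r' this
      obtain ⟨b, hb1, hb2⟩ := hprimes r' hr'max hne
      have h1 : b ∈ r'.under B := hb1
      rw [← hr'l.over] at h1
      exact hb2 h1
    · rintro rfl
      exact ⟨inferInstance, hlies⟩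
  constructor
  · exact Localization.localRingHom_injective_of_primesOver_eq_singleton hq
  · let _ := Localization.AtPrime.algebraOfLiesOver n r
    have hfinloc := Localization.finite_of_primesOver_eq_singleton hq
    change Function.Surjective (algebraMap (Localization.AtPrime n) (Localization.AtPrime r))
    change Function.Surjective (Algebra.linearMap (Localization.AtPrime n) (Localization.AtPrime r))
    rw [← LinearMap.range_eq_top, ← top_le_iff]
    apply Submodule.le_of_le_smul_of_le_jacobson_bot Module.Finite.fg_top
      (maximalIdeal_le_jacobson _)
    rw [Ideal.smul_top_eq_map]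
    rintro x -
    obtain ⟨b, hb⟩ := hgen x
    rw [← sub_add_cancel x (algebraMap C _ (b : C)), add_comm]
    refine Submodule.add_mem_sup ⟨algebraMap B (Localization.AtPrime n) b, ?_⟩ ?_
    · change algebraMap (Localization.AtPrime n) (Localization.AtPrime r) _ = _
      change Localization.localRingHom n r (algebraMap B C) _ _ = _
      rw [Localization.localRingHom_to_map]
      rfl
    · have hle : Ideal.map (algebraMap A (Localization.AtPrime r)) (maximalIdeal A) ≤
          Ideal.map (algebraMap (Localization.AtPrime n) (Localization.AtPrime r))
            (maximalIdeal (Localization.AtPrime n)) := by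
        rw [IsScalarTower.algebraMap_eq A (Localization.AtPrime n) (Localization.AtPrime r),
          ← Ideal.map_map]
        apply Ideal.map_mono
        rw [Ideal.map_le_iff_le_comap]
        intro a ha
        rw [Ideal.mem_comap, IsScalarTower.algebraMap_apply A B (Localization.AtPrime n),
          ← Localization.AtPrime.map_eq_maximalIdeal]
        apply Ideal.mem_map_of_mem
        -- algebraMap A B a ∈ n
        have h1 : (n.comap (algebraMap A B)).IsMaximal := by
          have : Algebra.IsIntegral A B :=
            Algebra.IsIntegral.of_injective B.val Subtype.val_injective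
          exact Ideal.isMaximal_comap_of_isIntegral_of_isMaximal n
        have h2 := eq_maximalIdeal h1
        rw [← h2] at ha
        exact ha
      exact hle hb

end Groth.Agent.Lib.Helper8.MonogenicLoc
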