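import Mathlib
import Groth.Prelude.Def_SheafNL

/-!
# A quasi-isomorphism criterion for maps of two-term complexes of modules (helper8)

* `quasiIso_of_elements`: element criterion for quasi-isomorphisms of short complexes of modules.
* `quasiIso_double`: element criterion for maps between `HomologicalComplex.double`s of modules.
* `quasiIso_bcMap`: the criterion for `NLCx.bcMap f`.
-/

set_option autoImplicit false
universe u

open CategoryTheory CategoryTheory.Limits HomologicalComplex TensorProduct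

namespace Groth.Agent.Lib.Helper8.NLQis

theorem rel : (ComplexShape.up ℤ).Rel (-1) 0 := by simp

theorem ne : (-1 : ℤ) ≠ 0 := by decide

section SC

variable {R : Type u} [Ring R]

/-- element criterion for quasi-isomorphisms of short complexes of modules -/
theorem quasiIso_of_elements {S₁ S₂ : ShortComplex (ModuleCat.{u} R)} (Φ : S₁ ⟶ S₂)
    (hinj : ∀ x₂ : S₁.X₂, S₁.g.hom x₂ = 0 → (∃ y₁ : S₂.X₁, S₂.f.hom y₁ = Φ.τ₂.hom x₂) →
      ∃ x₁ : S₁.X₁, S₁.f.hom x₁ = x₂)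
    (hsurj : ∀ y₂ : S₂.X₂, S₂.g.hom y₂ = 0 →
      ∃ (x₂ : S₁.X₂) (y₁ : S₂.X₁), S₁.g.hom x₂ = 0 ∧ y₂ = Φ.τ₂.hom x₂ + S₂.f.hom y₁) :
    ShortComplex.QuasiIso Φ := by
  have hcomm₂₃ : ∀ x : S₁.X₂, S₂.g.hom (Φ.τ₂.hom x) = Φ.τ₃.hom (S₁.g.hom x) := fun x => by
    have h := congrArg (fun k => k.hom x) Φ.comm₂₃
    simpa only [ModuleCat.hom_comp, LinearMap.comp_apply] using h
  have hcomm₁₂ : ∀ x : S₁.X₁, S₂.f.hom (Φ.τ₁.hom x) = Φ.τ₂.hom (S₁.f.hom x) := fun x => by
    have h := congrArg (fun k => k.hom x) Φ.comm₁₂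
    simpa only [ModuleCat.hom_comp, LinearMap.comp_apply] using h
  let φK : LinearMap.ker S₁.g.hom →ₗ[R] LinearMap.ker S₂.g.hom :=
    Φ.τ₂.hom.restrict (fun x hx => by
      rw [LinearMap.mem_ker] at hx ⊢
      rw [hcomm₂₃, hx, map_zero])
  have hφK : ∀ x, (φK x).1 = Φ.τ₂.hom x.1 := fun x => rfl
  have hle : LinearMap.range S₁.moduleCatToCycles ≤
      (LinearMap.range S₂.moduleCatToCycles).comap φK := by
    rintro _ ⟨x₁, rfl⟩
    refine ⟨Φ.τ₁.hom x₁, Subtype.ext ?_⟩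
    rw [hφK]
    exact hcomm₁₂ x₁
  let φH := Submodule.mapQ _ _ φK hle
  let γ : ShortComplex.LeftHomologyMapData Φ S₁.moduleCatLeftHomologyData
      S₂.moduleCatLeftHomologyData :=
    { φK := ModuleCat.ofHom φK
      φH := ModuleCat.ofHom φH
      commi := ModuleCat.hom_ext (LinearMap.ext fun x => rfl)
      commf' := ModuleCat.hom_ext (LinearMap.ext fun x => Subtype.ext (hcomm₁₂ x).symm)
      commπ := ModuleCat.hom_ext (LinearMap.ext fun x => rfl) }
  rw [γ.quasiIso_iff]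
  refine (ConcreteCategory.isIso_iff_bijective _).mpr ?_
  change Function.Bijective φH
  constructor
  · rw [injective_iff_map_eq_zero]
    intro z hz
    obtain ⟨x, rfl⟩ := Submodule.Quotient.mk_surjective _ z
    rw [Submodule.mapQ_apply, Submodule.Quotient.mk_eq_zero] at hz
    obtain ⟨y₁, hy₁⟩ := hz
    have h1 : S₂.f.hom y₁ = Φ.τ₂.hom x.1 := by
      rw [← hφK, ← hy₁]; rfl
    obtain ⟨x₁, hx₁⟩ := hinj x.1 x.2 ⟨y₁, h1⟩
    rw [Submodule.Quotient.mk_eq_zero]
    exact ⟨x₁, Subtype.ext hx₁⟩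
  · intro z
    obtain ⟨y, rfl⟩ := Submodule.Quotient.mk_surjective _ z
    obtain ⟨x₂, y₁, hx₂, hy⟩ := hsurj y.1 y.2
    refine ⟨Submodule.Quotient.mk ⟨x₂, hx₂⟩, ?_⟩
    rw [Submodule.mapQ_apply, Submodule.Quotient.eq]
    refine ⟨-y₁, Subtype.ext ?_⟩
    have h2 : (S₂.moduleCatToCycles (-y₁)).1 = S₂.f.hom (-y₁) := rfl
    rw [h2, map_neg]
    change _ = (φK ⟨x₂, hx₂⟩).1 - y.1
    rw [hφK, hy]
    abel

end SC

section Double

variable {R : Type u} [Ring R]

lemma iso_hom_inv {X Y : ModuleCat.{u} R} (e : X ≅ Y) (y : Y) : e.hom.hom (e.inv.hom y) = y := by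
  have h := congrArg (fun k => k.hom y) e.inv_hom_id
  simpa only [ModuleCat.hom_comp, LinearMap.comp_apply, ModuleCat.hom_id, LinearMap.id_apply]
    using h

lemma iso_inv_hom {X Y : ModuleCat.{u} R} (e : X ≅ Y) (x : X) : e.inv.hom (e.hom.hom x) = x := by
  have h := congrArg (fun k => k.hom x) e.hom_inv_id
  simpa only [ModuleCat.hom_comp, LinearMap.comp_apply, ModuleCat.hom_id, LinearMap.id_apply]
    using h

lemma iso_inv_eq_zero {X Y : ModuleCat.{u} R} (e : X ≅ Y) (y : Y) (h : e.inv.hom y = 0) :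
    y = 0 := by
  rw [← iso_hom_inv e y, h, map_zero]

lemma iso_hom_eq_zero {X Y : ModuleCat.{u} R} (e : X ≅ Y) (x : X) (h : e.hom.hom x = 0) :
    x = 0 := by
  rw [← iso_inv_hom e x, h, map_zero]

variable {X₀ X₁ Y₀ Y₁ : ModuleCat.{u} R} (φ : X₀ ⟶ X₁) (ψ : Y₀ ⟶ Y₁)

lemma double_d_apply (x : (double φ rel).X (-1)) :
    ((double φ rel).d (-1) 0).hom x =
      (doubleXIso₁ φ rel ne).inv.hom (φ.hom ((doubleXIso₀ φ rel).hom.hom x)) := by
  rw [double_d φ rel ne]
  rfl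

/-- element criterion for quasi-isomorphisms between two-term complexes of modules -/
theorem quasiIso_double (g₀ : X₀ ⟶ Y₀) (g₁ : X₁ ⟶ Y₁)
    (F : double φ rel ⟶ double ψ rel)
    (hF₀ : F.f (-1) = (doubleXIso₀ φ rel).hom ≫ g₀ ≫ (doubleXIso₀ ψ rel).inv)
    (hF₁ : F.f 0 = (doubleXIso₁ φ rel ne).hom ≫ g₁ ≫ (doubleXIso₁ ψ rel ne).inv)
    (hKi : ∀ x : X₀, φ.hom x = 0 → g₀.hom x = 0 → x = 0)
    (hKs : ∀ y : Y₀, ψ.hom y = 0 → ∃ x : X₀, φ.hom x = 0 ∧ g₀.hom x = y)
    (hCi : ∀ m : X₁, (∃ n₀ : Y₀, ψ.hom n₀ = g₁.hom m) → ∃ m₀ : X₀, φ.hom m₀ = m)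
    (hCs : ∀ n : Y₁, ∃ (m : X₁) (n₀ : Y₀), n = g₁.hom m + ψ.hom n₀) :
    QuasiIso F := by
  have hF₀' : ∀ x, (F.f (-1)).hom x =
      (doubleXIso₀ ψ rel).inv.hom (g₀.hom ((doubleXIso₀ φ rel).hom.hom x)) := fun x => by
    rw [hF₀]; rfl
  have hF₁' : ∀ x, (F.f 0).hom x =
      (doubleXIso₁ ψ rel ne).inv.hom (g₁.hom ((doubleXIso₁ φ rel ne).hom.hom x)) := fun x => by
    rw [hF₁]; rfl
  refine ⟨fun n => ?_⟩
  by_cases hn : n = -1
  · subst hn
    rw [quasiIsoAt_iff' F (-2) (-1) 0 (by simp) (by simp)]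
    apply quasiIso_of_elements
    · intro x₂ hx₂ hy
      obtain ⟨y₁, hy₁⟩ := hy
      change ((double φ rel).d (-1) 0).hom x₂ = 0 at hx₂
      change ((double ψ rel).d (-2) (-1)).hom y₁ = (F.f (-1)).hom x₂ at hy₁
      rw [double_d_eq_zero₀ ψ rel (-2) (-1) (by decide)] at hy₁
      rw [double_d_apply] at hx₂
      rw [hF₀'] at hy₁
      have h1 := iso_inv_eq_zero _ _ hx₂
      have h2 := iso_inv_eq_zero _ _ hy₁.symm
      have h3 := hKi _ h1 h2
      have h4 := iso_hom_eq_zero _ _ h3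
      refine ⟨0, ?_⟩
      rw [map_zero, h4]
      rfl
    · intro y₂ hy₂
      change ((double ψ rel).d (-1) 0).hom y₂ = 0 at hy₂
      rw [double_d_apply] at hy₂
      have h1 := iso_inv_eq_zero _ _ hy₂
      obtain ⟨m, hm1, hm2⟩ := hKs _ h1
      refine ⟨(doubleXIso₀ φ rel).inv.hom m, 0, ?_, ?_⟩
      · change ((double φ rel).d (-1) 0).hom _ = 0
        rw [double_d_apply, iso_hom_inv, hm1, map_zero]
      · change y₂ = (F.f (-1)).hom _ + ((double ψ rel).d (-2) (-1)).hom 0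
        rw [hF₀', iso_hom_inv, hm2, iso_inv_hom, map_zero, add_zero]
  · by_cases hn0 : n = 0
    · subst hn0
      rw [quasiIsoAt_iff' F (-1) 0 1 (by simp) (by simp)]
      apply quasiIso_of_elements
      · intro x₂ _ hy
        obtain ⟨y₁, hy₁⟩ := hy
        change ((double ψ rel).d (-1) 0).hom y₁ = (F.f 0).hom x₂ at hy₁
        rw [double_d_apply, hF₁'] at hy₁
        have h1 : ψ.hom ((doubleXIso₀ ψ rel).hom.hom y₁) =
            g₁.hom ((doubleXIso₁ φ rel ne).hom.hom x₂) := by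
          have := congrArg (fun z => (doubleXIso₁ ψ rel ne).hom.hom z) hy₁
          simpa only [iso_hom_inv] using this
        obtain ⟨m₀, hm₀⟩ := hCi _ ⟨_, h1⟩
        refine ⟨(doubleXIso₀ φ rel).inv.hom m₀, ?_⟩
        change ((double φ rel).d (-1) 0).hom _ = x₂
        rw [double_d_apply, iso_hom_inv, hm₀, iso_inv_hom]
      · intro y₂ _
        obtain ⟨m, n₀, hmn⟩ := hCs ((doubleXIso₁ ψ rel ne).hom.hom y₂)
        refine ⟨(doubleXIso₁ φ rel ne).inv.hom m, (doubleXIso₀ ψ rel).inv.hom n₀, ?_, ?_⟩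
        · change ((double φ rel).d 0 1).hom _ = 0
          rw [double_d_eq_zero₁ φ rel 0 1 (by decide)]
          rfl
        · change y₂ = (F.f 0).hom _ + ((double ψ rel).d (-1) 0).hom _
          rw [hF₁', double_d_apply, iso_hom_inv, iso_hom_inv, ← map_add, ← hmn, iso_inv_hom]
    · have hK : (double φ rel).ExactAt n :=
        ExactAt.of_isZero (isZero_double_X φ rel n hn hn0)
      rw [quasiIsoAt_iff_exactAt F n hK]
      exact ExactAt.of_isZero (isZero_double_X ψ rel n hn hn0)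

end Double

section BcMap

variable {R S R' S' : Type u} [CommRing R] [CommRing S] [CommRing R'] [CommRing S']
  [Algebra R S] [Algebra R' S'] [Algebra R R'] [Algebra S S'] [Algebra R S']
  [IsScalarTower R R' S'] [IsScalarTower R S S']
  {P : Algebra.Extension.{u} R S} {P' : Algebra.Extension.{u} R' S'}

theorem bcMap_f₀ (f : P.Hom P') : (NLCx.bcMap (S' := S') f).f (-1) =
    (doubleXIso₀ (ModuleCat.ofHom (P.cotangentComplex.baseChange S')) rel).hom ≫
      ModuleCat.ofHom (LinearMap.liftBaseChange S' (Algebra.Extension.Cotangent.map f)) ≫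
        (doubleXIso₀ (ModuleCat.ofHom P'.cotangentComplex) rel).inv := by
  unfold NLCx.bcMap
  exact HomologicalComplex.mkHomFromDouble_f₀ _ _ _ _ _ _

theorem bcMap_f₁ (f : P.Hom P') : (NLCx.bcMap (S' := S') f).f 0 =
    (doubleXIso₁ (ModuleCat.ofHom (P.cotangentComplex.baseChange S')) rel ne).hom ≫
      ModuleCat.ofHom (LinearMap.liftBaseChange S' (Algebra.Extension.CotangentSpace.map f)) ≫
        (doubleXIso₁ (ModuleCat.ofHom P'.cotangentComplex) rel ne).inv := by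
  unfold NLCx.bcMap
  exact HomologicalComplex.mkHomFromDouble_f₁ _ _ _ _ _ _

/-- element criterion for `NLCx.bcMap f` to be a quasi-isomorphism -/
theorem quasiIso_bcMap (f : P.Hom P')
    (hKi : ∀ x : S' ⊗[S] P.Cotangent, P.cotangentComplex.baseChange S' x = 0 →
      LinearMap.liftBaseChange S' (Algebra.Extension.Cotangent.map f) x = 0 → x = 0)
    (hKs : ∀ y : P'.Cotangent, P'.cotangentComplex y = 0 →
      ∃ x : S' ⊗[S] P.Cotangent, P.cotangentComplex.baseChange S' x = 0 ∧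
        LinearMap.liftBaseChange S' (Algebra.Extension.Cotangent.map f) x = y)
    (hCi : ∀ m : S' ⊗[S] P.CotangentSpace,
      (∃ n₀ : P'.Cotangent, P'.cotangentComplex n₀ =
        LinearMap.liftBaseChange S' (Algebra.Extension.CotangentSpace.map f) m) →
      ∃ m₀ : S' ⊗[S] P.Cotangent, P.cotangentComplex.baseChange S' m₀ = m)
    (hCs : ∀ n : P'.CotangentSpace, ∃ (m : S' ⊗[S] P.CotangentSpace) (n₀ : P'.Cotangent),
      n = LinearMap.liftBaseChange S' (Algebra.Extension.CotangentSpace.map f) m +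
        P'.cotangentComplex n₀) :
    QuasiIso (NLCx.bcMap (S' := S') f) :=
  quasiIso_double (ModuleCat.ofHom (P.cotangentComplex.baseChange S'))
    (ModuleCat.ofHom P'.cotangentComplex)
    (ModuleCat.ofHom (LinearMap.liftBaseChange S' (Algebra.Extension.Cotangent.map f)))
    (ModuleCat.ofHom (LinearMap.liftBaseChange S' (Algebra.Extension.CotangentSpace.map f)))
    (NLCx.bcMap (S' := S') f) (bcMap_f₀ f) (bcMap_f₁ f) hKi hKs hCi hCs

end BcMap

end Groth.Agent.Lib.Helper8.NLQis
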