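import Mathlib
import Groth.Prelude.Def_SheafNL
import Groth.Agent.Lib.Helper8.NLQis

/-!
# The naive cotangent complex and formally étale base changes (helper8)

For a commutative square `A → B`, `A → Ah`, `B → Bh`, `Ah → Bh` with `B → Bh` flat and formally
étale, `A → Ah` formally étale, and such that the presentation `A[B] → B` lifts to a flat extension
`Q → Bh` (in the sense that `Bh ⊗ I/I² → J/J²` is injective), the canonical map
`NL_{B/A} ⊗_B Bh → NL_{Bh/Ah}` is a quasi-isomorphism (`quasiIso_bcMapSelf`).
-/

set_option autoImplicit false
universe u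

open TensorProduct KaehlerDifferential

namespace Groth.Agent.Lib.Helper8.NLHens

open Algebra

lemma tensor_eq_zero_of_subsingleton {R M N : Type*} [CommRing R] [AddCommGroup M] [Module R M]
    [AddCommGroup N] [Module R N] [Subsingleton N] (z : M ⊗[R] N) : z = 0 := by
  induction z using TensorProduct.induction_on with
  | zero => rfl
  | tmul m n => rw [Subsingleton.elim n 0, tmul_zero]
  | add a b ha hb => rw [ha, hb, add_zero]

section General

variable {R S R' S' : Type u} [CommRing R] [CommRing S] [CommRing R'] [CommRing S']
  [Algebra R S] [Algebra R' S'] [Algebra R R'] [Algebra S S'] [Algebra R S']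
  [IsScalarTower R R' S'] [IsScalarTower R S S']
  {P : Extension.{u} R S} {P' : Extension.{u} R' S'}

/-- chain-map property after base change -/
lemma cotangentComplex_lbc (f : P.Hom P') (x : S' ⊗[S] P.Cotangent) :
    P'.cotangentComplex (LinearMap.liftBaseChange S' (Extension.Cotangent.map f) x) =
      LinearMap.liftBaseChange S' (Extension.CotangentSpace.map f)
        (P.cotangentComplex.baseChange S' x) := by
  have key : P'.cotangentComplex ∘ₗ LinearMap.liftBaseChange S' (Extension.Cotangent.map f) =
      LinearMap.liftBaseChange S' (Extension.CotangentSpace.map f) ∘ₗ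
        P.cotangentComplex.baseChange S' := by
    ext y
    simpa using (Extension.CotangentSpace.map_cotangentComplex f y).symm
  exact congr($key x)

/-- two homs induce the same map on the kernel of the base-changed differential -/
lemma lbc_eq_of_mem_ker (f₁ f₂ : P.Hom P') (x : S' ⊗[S] P.Cotangent)
    (hx : P.cotangentComplex.baseChange S' x = 0) :
    LinearMap.liftBaseChange S' (Extension.Cotangent.map f₁) x =
      LinearMap.liftBaseChange S' (Extension.Cotangent.map f₂) x := by
  have key : ∀ x : S' ⊗[S] P.Cotangent,
      LinearMap.liftBaseChange S' (Extension.Cotangent.map f₁) x -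
        LinearMap.liftBaseChange S' (Extension.Cotangent.map f₂) x =
      LinearMap.liftBaseChange S' (f₁.sub f₂) (P.cotangentComplex.baseChange S' x) := by
    intro x
    induction x using TensorProduct.induction_on with
    | zero => simp
    | tmul s c =>
      rw [LinearMap.liftBaseChange_tmul, LinearMap.liftBaseChange_tmul, LinearMap.baseChange_tmul,
        LinearMap.liftBaseChange_tmul, ← smul_sub]
      congr 1
      exact congr($(Extension.Cotangent.map_sub_map f₁ f₂) c)
    | add a b ha hb =>
      simp only [map_add]
      rw [← ha, ← hb]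
      abel
  have := key x
  rw [hx, map_zero, sub_eq_zero] at this
  exact this

/-- compatibility of `toKaehler` with a morphism of extensions -/
lemma toKaehler_map (f : P.Hom P') (c : P.CotangentSpace) :
    P'.toKaehler (Extension.CotangentSpace.map f c) =
      KaehlerDifferential.map R R' S S' (P.toKaehler c) := by
  induction c using TensorProduct.induction_on with
  | zero => simp only [map_zero]
  | add a b ha hb => simp only [map_add, ha, hb]
  | tmul s ω =>
    have hω : ω ∈ Submodule.span P.Ring (Set.range (KaehlerDifferential.D R P.Ring)) := by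
      rw [KaehlerDifferential.span_range_derivation]; trivial
    induction hω using Submodule.span_induction generalizing s with
    | mem x hx =>
      obtain ⟨p, rfl⟩ := hx
      simp only [Extension.CotangentSpace.map_tmul, mapBaseChange_tmul, map_smul,
        KaehlerDifferential.map_D, algebraMap_smul, Extension.Hom.toAlgHom_apply,
        Extension.Hom.algebraMap_toRingHom]
    | zero => simp only [tmul_zero, map_zero]
    | add x y _ _ hx hy => simp only [tmul_add, map_add, hx, hy]
    | smul a x _ hx =>
      rw [TensorProduct.tmul_smul, TensorProduct.smul_tmul']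
      exact hx (a • s)

lemma toKaehler_lbc (f : P.Hom P') (m : S' ⊗[S] P.CotangentSpace) :
    P'.toKaehler (LinearMap.liftBaseChange S' (Extension.CotangentSpace.map f) m) =
      LinearMap.liftBaseChange S' (KaehlerDifferential.map R R' S S')
        (P.toKaehler.baseChange S' m) := by
  induction m using TensorProduct.induction_on with
  | zero => simp only [map_zero]
  | tmul s c =>
    rw [LinearMap.liftBaseChange_tmul, LinearMap.baseChange_tmul, LinearMap.liftBaseChange_tmul,
      map_smul, toKaehler_map]
  | add a b ha hb => rw [map_add, map_add, map_add, map_add, ha, hb]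

lemma exact_baseChange :
    Function.Exact (P.cotangentComplex.baseChange S') (P.toKaehler.baseChange S') := by
  rw [LinearMap.baseChange_eq_ltensor, LinearMap.baseChange_eq_ltensor]
  exact lTensor_exact S' P.exact_cotangentComplex_toKaehler P.toKaehler_surjective

theorem hCi_of_bijective (f : P.Hom P')
    (hbij : Function.Bijective (LinearMap.liftBaseChange S' (KaehlerDifferential.map R R' S S')))
    (m : S' ⊗[S] P.CotangentSpace)
    (h : ∃ n₀ : P'.Cotangent, P'.cotangentComplex n₀ =
        LinearMap.liftBaseChange S' (Extension.CotangentSpace.map f) m) :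
    ∃ m₀ : S' ⊗[S] P.Cotangent, P.cotangentComplex.baseChange S' m₀ = m := by
  obtain ⟨n₀, hn₀⟩ := h
  have h1 : P'.toKaehler
      (LinearMap.liftBaseChange S' (Extension.CotangentSpace.map f) m) = 0 := by
    rw [← hn₀]
    exact P'.exact_cotangentComplex_toKaehler.apply_apply_eq_zero n₀
  rw [toKaehler_lbc] at h1
  have h2 : P.toKaehler.baseChange S' m = 0 := hbij.1 (by rw [h1, map_zero])
  exact (exact_baseChange (S' := S') m).mp h2

theorem hCs_of_bijective (f : P.Hom P')
    (hbij : Function.Bijective (LinearMap.liftBaseChange S' (KaehlerDifferential.map R R' S S')))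
    (n : P'.CotangentSpace) :
    ∃ (m : S' ⊗[S] P.CotangentSpace) (n₀ : P'.Cotangent),
      n = LinearMap.liftBaseChange S' (Extension.CotangentSpace.map f) m +
        P'.cotangentComplex n₀ := by
  obtain ⟨w, hw⟩ := hbij.2 (P'.toKaehler n)
  have hs : Function.Surjective (P.toKaehler.baseChange S') := by
    rw [LinearMap.baseChange_eq_ltensor]
    exact LinearMap.lTensor_surjective S' P.toKaehler_surjective
  obtain ⟨m, hm⟩ := hs w
  have h1 : P'.toKaehler
      (n - LinearMap.liftBaseChange S' (Extension.CotangentSpace.map f) m) = 0 := by
    rw [map_sub, toKaehler_lbc, hm, hw, sub_self]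
  obtain ⟨n₀, hn₀⟩ := (P'.exact_cotangentComplex_toKaehler _).mp h1
  exact ⟨m, n₀, by rw [hn₀]; abel⟩

end General

section Comp

variable {R S R' R'' T : Type u} [CommRing R] [CommRing S] [CommRing R'] [CommRing R'']
  [CommRing T] [Algebra R S] [Algebra R' T] [Algebra R'' T]
  [Algebra R R'] [Algebra R' R''] [Algebra R R''] [IsScalarTower R R' R'']
  [Algebra S T] [Algebra R T]
  [IsScalarTower R R' T] [IsScalarTower R S T] [IsScalarTower R R'' T] [IsScalarTower R' R'' T]
  {P : Extension.{u} R S} {P' : Extension.{u} R' T} {P'' : Extension.{u} R'' T}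

lemma lbc_comp (f : P.Hom P') (g : P'.Hom P'') (x : T ⊗[S] P.Cotangent) :
    LinearMap.liftBaseChange T (Extension.Cotangent.map (g.comp f)) x =
      Extension.Cotangent.map g (LinearMap.liftBaseChange T (Extension.Cotangent.map f) x) := by
  induction x using TensorProduct.induction_on with
  | zero => simp only [map_zero]
  | tmul s c =>
    rw [LinearMap.liftBaseChange_tmul, LinearMap.liftBaseChange_tmul, map_smul,
      Extension.Cotangent.map_comp]
    rfl
  | add a b ha hb => rw [map_add, map_add, map_add, ha, hb]

end Comp

section JZ

attribute [local instance] SMulCommClass.of_commMonoid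

variable {R S T : Type u} [CommRing R] [CommRing S] [CommRing T] [Algebra R S] [Algebra R T]
  [Algebra S T] [IsScalarTower R S T] {ι σ : Type u} (Q : Generators S T ι) (P : Generators R S σ)

/-- if `NL_{S/R}` is acyclic then `H¹(L_{T/R}) → H¹(L_{T/S})` is injective -/
theorem h1_map_ofComp_injective (hbij : Function.Bijective P.toExtension.cotangentComplex) :
    Function.Injective (Extension.H1Cotangent.map (Q.ofComp P).toExtensionHom) := by
  rw [injective_iff_map_eq_zero]
  intro x hx
  have h1 : Extension.Cotangent.map (Q.ofComp P).toExtensionHom x.1 = 0 := by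
    have := congrArg Subtype.val hx
    simpa only [Extension.H1Cotangent.map_apply_coe, Extension.H1Cotangent.val_zero] using this
  obtain ⟨y, hy⟩ := (Generators.Cotangent.exact Q P x.1).mp h1
  have h2 : (Q.comp P).toExtension.cotangentComplex x.1 = 0 := x.2
  have h3 := congrArg (fun l => l y)
    (Generators.H1Cotangent.map_comp_cotangentComplex_baseChange Q P)
  simp only [LinearMap.comp_apply] at h3
  have h4 : (P.toExtension.cotangentComplex.baseChange T) y = 0 := by
    apply Generators.CotangentSpace.map_toComp_injective Q P
    rw [map_zero, h3, hy]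
    exact h2
  have h5 : Function.Injective (P.toExtension.cotangentComplex.baseChange T) := by
    let e := LinearEquiv.ofBijective _ hbij
    have hc : e.symm.toLinearMap ∘ₗ P.toExtension.cotangentComplex = LinearMap.id := by
      ext z
      exact e.symm_apply_apply z
    have hc' := congrArg (LinearMap.baseChange T) hc
    rw [LinearMap.baseChange_comp, LinearMap.baseChange_id] at hc'
    intro a b hab
    have ha := congr($hc' a)
    have hb := congr($hc' b)
    simp only [LinearMap.comp_apply, LinearMap.id_apply] at ha hb
    rw [← ha, ← hb, hab]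
  have h6 : y = 0 := h5 (by rw [h4, map_zero])
  apply Subtype.ext
  rw [← hy, h6, map_zero]
  rfl

end JZ

lemma cotangentComplex_bijective_of_formallyEtale (R S : Type u) [CommRing R] [CommRing S]
    [Algebra R S] [Algebra.FormallyEtale R S] :
    Function.Bijective (Generators.self R S).toExtension.cotangentComplex := by
  constructor
  · exact (Extension.subsingleton_h1Cotangent _).mp
      (inferInstanceAs (Subsingleton (H1Cotangent R S)))
  · intro c
    exact ((Generators.self R S).toExtension.exact_cotangentComplex_toKaehler c).mp
      (Subsingleton.elim _ _)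

section Main

variable (A B Ah Bh : Type u) [CommRing A] [CommRing B] [CommRing Ah] [CommRing Bh]
  [Algebra A B] [Algebra A Ah] [Algebra B Bh] [Algebra Ah Bh] [Algebra A Bh]
  [IsScalarTower A Ah Bh] [IsScalarTower A B Bh]

lemma map_map (ω : Ω[B⁄A]) :
    KaehlerDifferential.map A Ah B Bh ω =
      KaehlerDifferential.map A Ah Bh Bh (KaehlerDifferential.map A A B Bh ω) := by
  have hω : ω ∈ Submodule.span B (Set.range (KaehlerDifferential.D A B)) := by
    rw [KaehlerDifferential.span_range_derivation]; trivial
  induction hω using Submodule.span_induction with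
  | mem x hx =>
    obtain ⟨b, rfl⟩ := hx
    simp only [KaehlerDifferential.map_D, Algebra.algebraMap_self, RingHom.id_apply]
  | zero => simp only [map_zero]
  | add x y _ _ hx hy => rw [map_add, map_add, map_add, hx, hy]
  | smul a x _ hx =>
    rw [map_smul, map_smul, hx, ← algebraMap_smul Bh a
      (KaehlerDifferential.map A A B Bh x), map_smul, algebraMap_smul]

theorem bcH0_bijective [Algebra.FormallyEtale B Bh] [Algebra.FormallyEtale A Ah] :
    Function.Bijective (LinearMap.liftBaseChange Bh (KaehlerDifferential.map A Ah B Bh)) := by
  have hfac : ∀ w : Bh ⊗[B] Ω[B⁄A],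
      LinearMap.liftBaseChange Bh (KaehlerDifferential.map A Ah B Bh) w =
        KaehlerDifferential.map A Ah Bh Bh (KaehlerDifferential.mapBaseChange A B Bh w) := by
    intro w
    induction w using TensorProduct.induction_on with
    | zero => simp only [map_zero]
    | tmul s ω =>
      rw [LinearMap.liftBaseChange_tmul, KaehlerDifferential.mapBaseChange_tmul, map_smul,
        map_map]
    | add a b ha hb => rw [map_add, map_add, map_add, ha, hb]
  have h1 : Function.Bijective (KaehlerDifferential.mapBaseChange A B Bh) :=
    (KaehlerDifferential.tensorKaehlerEquivOfFormallyEtale A B Bh).bijective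
  have h2 : Function.Bijective (KaehlerDifferential.map A Ah Bh Bh) := by
    refine ⟨?_, KaehlerDifferential.map_surjective A Ah Bh⟩
    rw [injective_iff_map_eq_zero]
    intro x hx
    obtain ⟨z, rfl⟩ := (KaehlerDifferential.exact_mapBaseChange_map A Ah Bh x).mp hx
    rw [tensor_eq_zero_of_subsingleton z, map_zero]
  have h3 : (LinearMap.liftBaseChange Bh (KaehlerDifferential.map A Ah B Bh) :
      Bh ⊗[B] Ω[B⁄A] → Ω[Bh⁄Ah]) =
      (KaehlerDifferential.map A Ah Bh Bh) ∘ (KaehlerDifferential.mapBaseChange A B Bh) :=
    funext hfac
  rw [h3]
  exact h2.comp h1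

/-- surjectivity on `H^{-1}` -/
theorem hKs [Module.Flat B Bh] [Algebra.FormallyEtale B Bh] [Algebra.FormallyEtale A Ah]
    (y : (Generators.self Ah Bh).toExtension.Cotangent)
    (hy : (Generators.self Ah Bh).toExtension.cotangentComplex y = 0) :
    ∃ x : Bh ⊗[B] (Generators.self A B).toExtension.Cotangent,
      (Generators.self A B).toExtension.cotangentComplex.baseChange Bh x = 0 ∧
      LinearMap.liftBaseChange Bh (Extension.Cotangent.map
        ((Generators.self A B).defaultHom (Generators.self Ah Bh)).toExtensionHom) x = y := by
  let f := ((Generators.self A B).defaultHom (Generators.self Ah Bh)).toExtensionHom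
  let u := ((Generators.self A B).defaultHom (Generators.self A Bh)).toExtensionHom
  let v := ((Generators.self A Bh).defaultHom (Generators.self Ah Bh)).toExtensionHom
  have F1 : ∀ z : Bh ⊗[B] H1Cotangent A B,
      (Generators.self A B).toExtension.cotangentComplex.baseChange Bh
        ((Generators.self A B).toExtension.h1Cotangentι.baseChange Bh z) = 0 := by
    intro z
    induction z using TensorProduct.induction_on with
    | zero => simp only [map_zero]
    | tmul s c =>
      rw [LinearMap.baseChange_tmul, LinearMap.baseChange_tmul]
      have : (Generators.self A B).toExtension.cotangentComplex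
          ((Generators.self A B).toExtension.h1Cotangentι c) = 0 := c.2
      rw [this, tmul_zero]
    | add a b ha hb => rw [map_add, map_add, ha, hb, add_zero]
  have F2 : ∀ z : Bh ⊗[B] H1Cotangent A B,
      LinearMap.liftBaseChange Bh (Extension.Cotangent.map f)
        ((Generators.self A B).toExtension.h1Cotangentι.baseChange Bh z) =
      (Algebra.H1Cotangent.map A Ah Bh Bh
        ((Algebra.H1Cotangent.map A A B Bh).liftBaseChange Bh z)).1 := by
    intro z
    induction z using TensorProduct.induction_on with
    | zero => simp only [map_zero, Extension.H1Cotangent.val_zero]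
    | tmul s c =>
      rw [LinearMap.baseChange_tmul, LinearMap.liftBaseChange_tmul,
        LinearMap.liftBaseChange_tmul, map_smul, Extension.H1Cotangent.val_smul]
      congr 1
      have e := Extension.H1Cotangent.map_eq f (v.comp u)
      have e2 := congrArg (fun l => (l c).1) e
      calc Extension.Cotangent.map f ((Generators.self A B).toExtension.h1Cotangentι c)
          = (Extension.H1Cotangent.map f c).1 := rfl
        _ = (Extension.H1Cotangent.map (v.comp u) c).1 := e2
        _ = (Extension.H1Cotangent.map v (Extension.H1Cotangent.map u c)).1 := by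
            rw [Extension.H1Cotangent.map_comp_apply]
        _ = _ := rfl
    | add a b ha hb =>
      rw [map_add, map_add, map_add, map_add, Extension.H1Cotangent.val_add, ha, hb]
  have hy' : y ∈ LinearMap.ker (Generators.self Ah Bh).toExtension.cotangentComplex := hy
  obtain ⟨y', hy'⟩ := (Algebra.H1Cotangent.exact_map_δ A Ah Bh ⟨y, hy'⟩).mp
    (tensor_eq_zero_of_subsingleton _)
  obtain ⟨z, hz⟩ := (Algebra.H1Cotangent.exact_liftBaseChange_map_of_flat A B Bh y').mp
    (Subsingleton.elim _ _)
  refine ⟨(Generators.self A B).toExtension.h1Cotangentι.baseChange Bh z, F1 z, ?_⟩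
  change LinearMap.liftBaseChange Bh (Extension.Cotangent.map f) _ = y
  rw [F2 z, hz, hy']

/-- injectivity on `H^{-1}` -/
theorem hKi [Algebra.FormallyEtale A Ah]
    (Q : Extension.{u} A Bh) (fQ : (Generators.self A B).toExtension.Hom Q)
    (hinj : Function.Injective (LinearMap.liftBaseChange Bh (Extension.Cotangent.map fQ)))
    (x : Bh ⊗[B] (Generators.self A B).toExtension.Cotangent)
    (hx : (Generators.self A B).toExtension.cotangentComplex.baseChange Bh x = 0)
    (hfx : LinearMap.liftBaseChange Bh (Extension.Cotangent.map
        ((Generators.self A B).defaultHom (Generators.self Ah Bh)).toExtensionHom) x = 0) :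
    x = 0 := by
  let f := ((Generators.self A B).defaultHom (Generators.self Ah Bh)).toExtensionHom
  let Gp := Generators.self A Ah
  let Gq := Generators.self Ah Bh
  let k : (Generators.self A B).toExtension.Hom (Gq.comp Gp).toExtension :=
    ((Generators.self A B).defaultHom (Gq.comp Gp)).toExtensionHom
  let oc : (Gq.comp Gp).toExtension.Hom Gq.toExtension := (Gq.ofComp Gp).toExtensionHom
  let h : (Gq.comp Gp).toExtension.Hom Q :=
    (Extension.defaultHom A Bh Q).comp ((Gq.comp Gp).defaultHom (Generators.self A Bh)).toExtensionHom
  have hy1 : (Gq.comp Gp).toExtension.cotangentComplex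
      (LinearMap.liftBaseChange Bh (Extension.Cotangent.map k) x) = 0 := by
    rw [cotangentComplex_lbc, hx, map_zero]
  have hy2 : Extension.Cotangent.map oc
      (LinearMap.liftBaseChange Bh (Extension.Cotangent.map k) x) = 0 := by
    rw [← lbc_comp k oc x, lbc_eq_of_mem_ker (oc.comp k) f x hx]
    exact hfx
  have hV := h1_map_ofComp_injective Gq Gp (cotangentComplex_bijective_of_formallyEtale A Ah)
  have hy0 : (⟨LinearMap.liftBaseChange Bh (Extension.Cotangent.map k) x, hy1⟩ :
      (Gq.comp Gp).toExtension.H1Cotangent) = 0 := by
    apply (injective_iff_map_eq_zero _).mp hV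
    apply Subtype.ext
    rw [Extension.H1Cotangent.map_apply_coe]
    exact hy2
  have hy : LinearMap.liftBaseChange Bh (Extension.Cotangent.map k) x = 0 :=
    congrArg Subtype.val hy0
  apply hinj
  rw [map_zero, lbc_eq_of_mem_ker fQ (h.comp k) x hx, lbc_comp k h x, hy, map_zero]

/-- the main abstract theorem -/
theorem quasiIso_bcMapSelf [Module.Flat B Bh] [Algebra.FormallyEtale B Bh]
    [Algebra.FormallyEtale A Ah]
    (Q : Extension.{u} A Bh) (fQ : (Generators.self A B).toExtension.Hom Q)
    (hinj : Function.Injective (LinearMap.liftBaseChange Bh (Extension.Cotangent.map fQ))) :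
    QuasiIso (NLCx.bcMapSelf A B Ah Bh) := by
  unfold NLCx.bcMapSelf
  apply NLQis.quasiIso_bcMap
  · exact fun x hx hfx => hKi A B Ah Bh Q fQ hinj x hx hfx
  · exact fun y hy => hKs A B Ah Bh y hy
  · exact fun m h => hCi_of_bijective _ (bcH0_bijective A B Ah Bh) m h
  · exact fun n => hCs_of_bijective _ (bcH0_bijective A B Ah Bh) n

end Main

end Groth.Agent.Lib.Helper8.NLHens
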