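import Mathlib
import Groth.Prelude
import Groth.Agent.Lib.Helper8.Hzl.IntegralHens
import Groth.Agent.Lib.Helper8.Hzl.FiniteSHens
import Groth.Agent.Lib.Helper8.Hzl.Lift
import Groth.Agent.Lib.Helper8.NLHens

/-!
# Lifting the standard presentation of a local ring to its (strict) henselization (helper8)

For a local `A`-algebra `B` with (strict) henselization `Bh`, the presentation `A[B] → B` lifts to
an extension `Q → Bh` of `A`-algebras with `Q` flat over `A[B]` and kernel generated by the kernel
of `A[B] → B` (`Q` is the (strict) henselization of the local ring of `A[B]` at the closed point).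
Consequently `Bh ⊗ I/I² → J/J²` is injective (`exists_extension_hens`, `exists_extension_shens`).
-/

set_option autoImplicit false
universe u

open IsLocalRing TensorProduct

namespace Groth.Agent.Lib.Helper8.NLHensQ

open Algebra Groth.Agent.Lib.Helper8.Hzl

section Lift

variable (A B T : Type u) [CommRing A] [CommRing B] [CommRing T]
  [Algebra A B] [Algebra B T] [Algebra A T] [IsScalarTower A B T]

theorem exists_extension_of_flat_lift (Qr : Type u) [CommRing Qr] [Algebra (Generators.self A B).toExtension.Ring Qr]
    [Module.Flat (Generators.self A B).toExtension.Ring Qr] (ρ : Qr →+* T)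
    (hρ : ∀ x : (Generators.self A B).toExtension.Ring, ρ (algebraMap (Generators.self A B).toExtension.Ring Qr x) = algebraMap B T (algebraMap (Generators.self A B).toExtension.Ring B x))
    (hsurj : Function.Surjective ρ)
    (hker : RingHom.ker ρ ≤ Ideal.map (algebraMap (Generators.self A B).toExtension.Ring Qr) (Generators.self A B).toExtension.ker) :
    ∃ (Q : Extension.{u} A T) (fQ : (Generators.self A B).toExtension.Hom Q),
      Function.Injective (LinearMap.liftBaseChange T (Extension.Cotangent.map fQ)) := by
  letI algAQ : Algebra A Qr := ((algebraMap (Generators.self A B).toExtension.Ring Qr).comp (algebraMap A (Generators.self A B).toExtension.Ring)).toAlgebra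
  haveI : IsScalarTower A (Generators.self A B).toExtension.Ring Qr := IsScalarTower.of_algebraMap_eq' rfl
  letI algQT : Algebra Qr T := ρ.toAlgebra
  haveI : IsScalarTower A Qr T := IsScalarTower.of_algebraMap_eq (fun a => by
    change algebraMap A T a = ρ (algebraMap (Generators.self A B).toExtension.Ring Qr (algebraMap A (Generators.self A B).toExtension.Ring a))
    rw [hρ, ← IsScalarTower.algebraMap_apply A (Generators.self A B).toExtension.Ring B, ← IsScalarTower.algebraMap_apply A B T])
  let Q : Extension.{u} A T :=
    { Ring := Qr
      σ := Function.surjInv hsurj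
      algebraMap_σ := Function.surjInv_eq hsurj }
  let fQ : (Generators.self A B).toExtension.Hom Q :=
    { toRingHom := algebraMap (Generators.self A B).toExtension.Ring Qr
      toRingHom_algebraMap := fun a => rfl
      algebraMap_toRingHom := fun x => hρ x }
  refine ⟨Q, fQ, ?_⟩
  letI alg : Algebra (Generators.self A B).toExtension.Ring Q.Ring := inferInstanceAs (Algebra (Generators.self A B).toExtension.Ring Qr)
  have halg : algebraMap (Generators.self A B).toExtension.Ring Q.Ring = fQ.toRingHom := rfl
  have hflat : Function.Injective
      (LinearMap.lTensor Qr (Submodule.subtype (Generators.self A B).toExtension.ker : (Generators.self A B).toExtension.ker →ₗ[(Generators.self A B).toExtension.Ring] (Generators.self A B).toExtension.Ring)) :=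
    Module.Flat.lTensor_preserves_injective_linearMap _ Subtype.val_injective
  let μ : Qr ⊗[(Generators.self A B).toExtension.Ring] (Generators.self A B).toExtension.ker →ₗ[(Generators.self A B).toExtension.Ring] Qr :=
    (TensorProduct.rid (Generators.self A B).toExtension.Ring Qr).toLinearMap ∘ₗ LinearMap.lTensor Qr (Submodule.subtype (Generators.self A B).toExtension.ker)
  have hμ : Function.Injective μ := (TensorProduct.rid (Generators.self A B).toExtension.Ring Qr).injective.comp hflat
  have hval : ∀ z : Qr ⊗[(Generators.self A B).toExtension.Ring] (Generators.self A B).toExtension.ker,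
      (((fQ.mapKer halg).liftBaseChange Qr z : Q.ker) : Qr) = μ z := by
    intro z
    induction z using TensorProduct.induction_on with
    | zero => simp only [map_zero, ZeroMemClass.coe_zero]
    | tmul q i =>
      rw [LinearMap.liftBaseChange_tmul]
      simp only [μ, LinearMap.comp_apply, LinearMap.lTensor_tmul, LinearEquiv.coe_coe,
        TensorProduct.rid_tmul, Submodule.subtype_apply, Submodule.coe_smul,
        Extension.Hom.mapKer_apply_coe, smul_eq_mul, Algebra.smul_def]
      exact mul_comm _ _
    | add a b ha hb => rw [map_add, map_add, Submodule.coe_add, ha, hb]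
  have hsurjK : ∀ j ∈ Ideal.map (algebraMap (Generators.self A B).toExtension.Ring Qr) (Generators.self A B).toExtension.ker,
      ∃ z, (((fQ.mapKer halg).liftBaseChange Qr z : Q.ker) : Qr) = j := by
    intro j hj
    rw [Ideal.map] at hj
    induction hj using Submodule.span_induction with
    | mem x hx =>
      obtain ⟨i, hi, rfl⟩ := hx
      exact ⟨1 ⊗ₜ ⟨i, hi⟩, by rw [LinearMap.liftBaseChange_tmul, one_smul]; rfl⟩
    | zero => exact ⟨0, by rw [map_zero]; rfl⟩
    | add x y _ _ hx hy =>
      obtain ⟨z₁, h₁⟩ := hx
      obtain ⟨z₂, h₂⟩ := hy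
      exact ⟨z₁ + z₂, by rw [map_add, Submodule.coe_add, h₁, h₂]⟩
    | smul a x _ hx =>
      obtain ⟨z, hz⟩ := hx
      exact ⟨a • z, by rw [map_smul, Submodule.coe_smul, hz]⟩
  have H : Function.Bijective ((fQ.mapKer halg).liftBaseChange Qr) := by
    constructor
    · rw [injective_iff_map_eq_zero]
      intro z hz
      apply hμ
      rw [map_zero, ← hval, hz]
      rfl
    · intro j
      obtain ⟨z, hz⟩ := hsurjK j.1 (hker j.2)
      exact ⟨z, Subtype.ext hz⟩
  exact (Extension.tensorCotangent fQ halg H).injective

end Lift

section Tensor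

variable (A B Bh : Type u) [CommRing A] [CommRing B] [CommRing Bh]
  [Algebra A B] [Algebra B Bh] [Algebra A Bh] [IsScalarTower A B Bh]

theorem includeRight_surjective (L : Type u) [CommRing L] [Algebra L B]
    (hLB : Function.Surjective (algebraMap L B)) (Qr : Type u) [CommRing Qr] [Algebra L Qr] :
    Function.Surjective (Algebra.TensorProduct.includeRight (R := L) (A := B) (B := Qr)) := by
  intro t
  induction t using TensorProduct.induction_on with
  | zero => exact ⟨0, map_zero _⟩
  | tmul b q =>
    obtain ⟨l, rfl⟩ := hLB b
    refine ⟨l • q, ?_⟩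
    rw [Algebra.TensorProduct.includeRight_apply, Algebra.algebraMap_eq_smul_one,
      TensorProduct.smul_tmul]
  | add x y hx hy =>
    obtain ⟨a, rfl⟩ := hx
    obtain ⟨b, rfl⟩ := hy
    exact ⟨a + b, map_add _ _ _⟩

theorem exists_extension_of_tensor (L : Type u) [CommRing L] [Algebra (Generators.self A B).toExtension.Ring L] [Algebra L B]
    [IsScalarTower (Generators.self A B).toExtension.Ring L B] [Module.Flat (Generators.self A B).toExtension.Ring L]
    (hLB : Function.Surjective (algebraMap L B))
    (hK : RingHom.ker (algebraMap L B) ≤ Ideal.map (algebraMap (Generators.self A B).toExtension.Ring L) (Generators.self A B).toExtension.ker)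
    (Qr : Type u) [CommRing Qr] [Algebra L Qr] [Module.Flat L Qr]
    (θ : B ⊗[L] Qr →ₐ[B] Bh) (hθ : Function.Bijective θ) :
    ∃ (Q : Extension.{u} A Bh) (fQ : (Generators.self A B).toExtension.Hom Q),
      Function.Injective (LinearMap.liftBaseChange Bh (Extension.Cotangent.map fQ)) := by
  letI : Algebra (Generators.self A B).toExtension.Ring Qr := ((algebraMap L Qr).comp (algebraMap (Generators.self A B).toExtension.Ring L)).toAlgebra
  haveI : IsScalarTower (Generators.self A B).toExtension.Ring L Qr := IsScalarTower.of_algebraMap_eq' rfl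
  haveI : Module.Flat (Generators.self A B).toExtension.Ring Qr := Module.Flat.trans (Generators.self A B).toExtension.Ring L Qr
  let ρ : Qr →+* Bh := (θ : B ⊗[L] Qr →+* Bh).comp
    (Algebra.TensorProduct.includeRight (R := L) (A := B) (B := Qr)).toRingHom
  have hρ' : ∀ q : Qr, ρ q = θ ((1 : B) ⊗ₜ[L] q) := fun q => rfl
  have hρL : ∀ l : L, ρ (algebraMap L Qr l) = algebraMap B Bh (algebraMap L B l) := by
    intro l
    have h1 : (1 : B) ⊗ₜ[L] (algebraMap L Qr l) =
        algebraMap B (B ⊗[L] Qr) (algebraMap L B l) := by
      rw [Algebra.TensorProduct.algebraMap_apply, Algebra.algebraMap_self, RingHom.id_apply,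
        Algebra.algebraMap_eq_smul_one (A := Qr) l, Algebra.algebraMap_eq_smul_one (A := B) l,
        TensorProduct.smul_tmul]
    rw [hρ', h1, AlgHom.commutes]
  have hρ : ∀ x : (Generators.self A B).toExtension.Ring, ρ (algebraMap (Generators.self A B).toExtension.Ring Qr x) =
      algebraMap B Bh (algebraMap (Generators.self A B).toExtension.Ring B x) := by
    intro x
    have : algebraMap (Generators.self A B).toExtension.Ring Qr x = algebraMap L Qr (algebraMap (Generators.self A B).toExtension.Ring L x) := rfl
    rw [this, hρL, ← IsScalarTower.algebraMap_apply (Generators.self A B).toExtension.Ring L B]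
  have hsurj : Function.Surjective ρ :=
    hθ.2.comp (includeRight_surjective B L hLB Qr)
  have hker : RingHom.ker ρ ≤ Ideal.map (algebraMap (Generators.self A B).toExtension.Ring Qr) (Generators.self A B).toExtension.ker := by
    intro q hq
    have h0 : (1 : B) ⊗ₜ[L] q = 0 := hθ.1 (by rw [map_zero]; exact hq)
    let K : Ideal L := RingHom.ker (algebraMap L B)
    have hex : Function.Exact (Submodule.subtype K : K →ₗ[L] L) (Algebra.linearMap L B) := by
      intro l
      constructor
      · intro h
        exact ⟨⟨l, h⟩, rfl⟩
      · rintro ⟨k, rfl⟩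
        exact k.2
    have hex' := rTensor_exact Qr hex hLB
    have h1 : (LinearMap.rTensor Qr (Algebra.linearMap L B)) ((1 : L) ⊗ₜ[L] q) = 0 := by
      rw [LinearMap.rTensor_tmul, Algebra.linearMap_apply, map_one]
      exact h0
    obtain ⟨z, hz⟩ := (hex' _).mp h1
    have h2 : ∀ z : K ⊗[L] Qr,
        TensorProduct.lid L Qr (LinearMap.rTensor Qr (Submodule.subtype K) z) ∈
          Ideal.map (algebraMap L Qr) K := by
      intro z
      induction z using TensorProduct.induction_on with
      | zero => simp only [map_zero, Submodule.zero_mem]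
      | tmul k q' =>
        rw [LinearMap.rTensor_tmul, TensorProduct.lid_tmul, Submodule.subtype_apply,
          Algebra.smul_def]
        exact Ideal.mul_mem_right _ _ (Ideal.mem_map_of_mem _ k.2)
      | add a b ha hb =>
        rw [map_add, map_add]
        exact Ideal.add_mem _ ha hb
    have h3 : q ∈ Ideal.map (algebraMap L Qr) K := by
      have := h2 z
      rw [hz, TensorProduct.lid_tmul, one_smul] at this
      exact this
    have h4 : Ideal.map (algebraMap L Qr) K ≤ Ideal.map (algebraMap (Generators.self A B).toExtension.Ring Qr) (Generators.self A B).toExtension.ker := by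
      calc Ideal.map (algebraMap L Qr) K
          ≤ Ideal.map (algebraMap L Qr) (Ideal.map (algebraMap (Generators.self A B).toExtension.Ring L) (Generators.self A B).toExtension.ker) :=
            Ideal.map_mono hK
        _ = Ideal.map (algebraMap (Generators.self A B).toExtension.Ring Qr) (Generators.self A B).toExtension.ker := by
            rw [Ideal.map_map]
            rfl
    exact h4 h3
  exact exists_extension_of_flat_lift A B Bh Qr ρ hρ hsurj hker

end Tensor

section Local

variable (A B : Type u) [CommRing A] [CommRing B] [IsLocalRing B] [Algebra A B]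

/-- the prime of the polynomial ring `A[B]` below the closed point of `B` -/
noncomputable abbrev nn : Ideal (Generators.self A B).toExtension.Ring :=
  (maximalIdeal B).comap (algebraMap (Generators.self A B).toExtension.Ring B)

instance nn_isPrime : (nn A B).IsPrime := Ideal.comap_isPrime _ _

/-- the local ring of `A[B]` at the closed point of `B` -/
noncomputable abbrev LL : Type u := Localization.AtPrime (nn A B)

lemma isUnit_of_primeCompl (y : (nn A B).primeCompl) : IsUnit (algebraMap (Generators.self A B).toExtension.Ring B y) :=
  IsLocalRing.notMem_maximalIdeal.mp y.2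

/-- the map from the local ring of `A[B]` to `B` -/
noncomputable def toB : LL A B →+* B :=
  IsLocalization.lift (M := (nn A B).primeCompl) (g := algebraMap (Generators.self A B).toExtension.Ring B)
    (isUnit_of_primeCompl A B)

/-- the algebra structure -/
noncomputable def algLB : Algebra (LL A B) B := (toB A B).toAlgebra

attribute [local instance] algLB

lemma towerPLB : IsScalarTower (Generators.self A B).toExtension.Ring (LL A B) B :=
  IsScalarTower.of_algebraMap_eq
    (fun x => (IsLocalization.lift_eq (isUnit_of_primeCompl A B) x).symm)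

lemma surjective_LB : Function.Surjective (algebraMap (LL A B) B) := fun b => by
  haveI := towerPLB A B
  obtain ⟨p, rfl⟩ := (Generators.self A B).toExtension.algebraMap_surjective b
  exact ⟨algebraMap (Generators.self A B).toExtension.Ring (LL A B) p, (IsScalarTower.algebraMap_apply (Generators.self A B).toExtension.Ring (LL A B) B p).symm⟩

lemma mk'_mul (p : (Generators.self A B).toExtension.Ring) (s : (nn A B).primeCompl) :
    algebraMap (LL A B) B (IsLocalization.mk' (LL A B) p s) * algebraMap (Generators.self A B).toExtension.Ring B s =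
      algebraMap (Generators.self A B).toExtension.Ring B p := by
  haveI := towerPLB A B
  rw [IsScalarTower.algebraMap_apply (Generators.self A B).toExtension.Ring (LL A B) B s, ← map_mul, IsLocalization.mk'_spec,
    ← IsScalarTower.algebraMap_apply]

lemma isLocalHom_LB : IsLocalHom (algebraMap (LL A B) B) := ⟨fun l hl => by
  obtain ⟨p, s, rfl⟩ := IsLocalization.exists_mk'_eq (nn A B).primeCompl l
  have h2 : IsUnit (algebraMap (Generators.self A B).toExtension.Ring B p) := by
    rw [← mk'_mul A B p s]
    exact hl.mul (isUnit_of_primeCompl A B s)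
  have h3 : p ∈ (nn A B).primeCompl := fun hp => (IsLocalRing.mem_maximalIdeal _).mp hp h2
  exact (IsLocalization.AtPrime.isUnit_mk'_iff (LL A B) (nn A B) p s).mpr h3⟩

lemma ker_LB_le :
    RingHom.ker (algebraMap (LL A B) B) ≤ Ideal.map (algebraMap (Generators.self A B).toExtension.Ring (LL A B)) (Generators.self A B).toExtension.ker := by
  intro l hl
  obtain ⟨p, s, rfl⟩ := IsLocalization.exists_mk'_eq (nn A B).primeCompl l
  have h1 := mk'_mul A B p s
  rw [RingHom.mem_ker] at hl
  rw [hl, zero_mul] at h1
  have hp : p ∈ (Generators.self A B).toExtension.ker := h1.symm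
  rw [IsLocalization.mk'_eq_mul_mk'_one]
  exact Ideal.mul_mem_right _ _ (Ideal.mem_map_of_mem _ hp)

variable (Bh : Type u) [CommRing Bh] [IsLocalRing Bh] [Algebra B Bh]
  [IsLocalHom (algebraMap B Bh)] [Algebra A Bh] [IsScalarTower A B Bh]

theorem exists_extension_hens [Hensel.IsHenselization B Bh] :
    ∃ (Q : Extension.{u} A Bh) (fQ : (Generators.self A B).toExtension.Hom Q),
      Function.Injective (LinearMap.liftBaseChange Bh (Extension.Cotangent.map fQ)) := by
  haveI := towerPLB A B
  haveI := isLocalHom_LB A B
  haveI : Algebra.IsIntegral (LL A B) B := Algebra.isIntegral_of_surjective (surjective_LB A B)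
  haveI hL := isHenselization (LL A B)
  haveI : IsLocalRing (B ⊗[LL A B] Hens (LL A B)) :=
    isLocalRing_tensor (LL A B) B (Hens (LL A B))
  haveI : IsLocalHom (algebraMap B (B ⊗[LL A B] Hens (LL A B))) :=
    isLocalHom_algebraMap_tensor (LL A B) B (Hens (LL A B))
  haveI : Hensel.IsHenselization B (B ⊗[LL A B] Hens (LL A B)) :=
    isHenselization_tensor (LL A B) B (Hens (LL A B))
  obtain ⟨e⟩ := nonempty_algEquiv_of_isHenselization B (B ⊗[LL A B] Hens (LL A B)) Bh
  haveI : Module.Flat (Generators.self A B).toExtension.Ring (LL A B) := IsLocalization.flat (LL A B) (nn A B).primeCompl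
  exact exists_extension_of_tensor A B Bh (LL A B) (surjective_LB A B) (ker_LB_le A B)
    (Hens (LL A B)) e.toAlgHom e.bijective

theorem exists_extension_shens [Hensel.IsStrictHenselization B Bh] :
    ∃ (Q : Extension.{u} A Bh) (fQ : (Generators.self A B).toExtension.Hom Q),
      Function.Injective (LinearMap.liftBaseChange Bh (Extension.Cotangent.map fQ)) := by
  haveI := towerPLB A B
  haveI := isLocalHom_LB A B
  haveI : Module.Finite (LL A B) B :=
    Module.Finite.of_surjective (Algebra.linearMap (LL A B) B) (surjective_LB A B)
  haveI hL := isStrictHenselization (LL A B)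
  obtain ⟨q, hq, ⟨e⟩⟩ := FiniteSHens.exists_maximal_equiv (LL A B) B (SHens (LL A B)) Bh
  have hinc := includeRight_surjective B (LL A B) (surjective_LB A B) (SHens (LL A B))
  haveI := strictHenselization_faithfullyFlat (LL A B) (SHens (LL A B))
  haveI : Nontrivial (B ⊗[LL A B] SHens (LL A B)) :=
    Module.FaithfullyFlat.rTensor_nontrivial (LL A B) (SHens (LL A B)) B
  haveI : IsLocalRing (B ⊗[LL A B] SHens (LL A B)) :=
    IsLocalRing.of_surjective'
      (Algebra.TensorProduct.includeRight (R := LL A B) (A := B) (B := SHens (LL A B))).toRingHom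
      hinc
  have hqm : q = maximalIdeal (B ⊗[LL A B] SHens (LL A B)) := IsLocalRing.eq_maximalIdeal hq
  have H : q.primeCompl ≤ IsUnit.submonoid (B ⊗[LL A B] SHens (LL A B)) := by
    intro x hx
    have hx' : x ∉ q := hx
    rw [hqm] at hx'
    exact IsLocalRing.notMem_maximalIdeal.mp hx'
  have hbij : Function.Bijective
      (algebraMap (B ⊗[LL A B] SHens (LL A B)) (Localization.AtPrime q)) := by
    let e0 : (B ⊗[LL A B] SHens (LL A B)) ≃ₐ[B ⊗[LL A B] SHens (LL A B)] Localization.AtPrime q :=
      IsLocalization.atUnits (B ⊗[LL A B] SHens (LL A B)) q.primeCompl H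
    have h0 : (algebraMap (B ⊗[LL A B] SHens (LL A B)) (Localization.AtPrime q) :
        B ⊗[LL A B] SHens (LL A B) → Localization.AtPrime q) = e0 :=
      funext fun x => (e0.commutes x).symm
    rw [h0]
    exact e0.bijective
  haveI : Module.Flat (Generators.self A B).toExtension.Ring (LL A B) := IsLocalization.flat (LL A B) (nn A B).primeCompl
  let θ : B ⊗[LL A B] SHens (LL A B) →ₐ[B] Bh :=
    e.toAlgHom.comp (IsScalarTower.toAlgHom B (B ⊗[LL A B] SHens (LL A B)) (Localization.AtPrime q))
  exact exists_extension_of_tensor A B Bh (LL A B) (surjective_LB A B) (ker_LB_le A B)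
    (SHens (LL A B)) θ (e.bijective.comp hbij)

end Local

end Groth.Agent.Lib.Helper8.NLHensQ
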