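import Mathlib
import Groth.Agent.Lib.Helper8.Goldman
import Groth.Agent.Lib.Helper6.ArtinTate

set_option autoImplicit false
universe u

open CategoryTheory AlgebraicGeometry TopologicalSpace

namespace Groth.Agent.Lib.Helper8

/-- Ring level: in the spectrum of a Noetherian ring, if a point `p₀` is open in its closure then its
closure is finite and all other points of the closure are closed points. -/
theorem ring_key (B : Type u) [CommRing B] [IsNoetherianRing B] (p₀ : PrimeSpectrum B)
    (O : Set (PrimeSpectrum B)) (hO : IsOpen O)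
    (hO' : O ∩ PrimeSpectrum.zeroLocus (p₀.asIdeal : Set B) = {p₀}) :
    (PrimeSpectrum.zeroLocus (p₀.asIdeal : Set B)).Finite ∧
      ∀ q ∈ PrimeSpectrum.zeroLocus (p₀.asIdeal : Set B), q ≠ p₀ →
        IsClosed ({q} : Set (PrimeSpectrum B)) := by
  have : p₀.asIdeal.IsPrime := p₀.2
  have hmk : Function.Surjective (Ideal.Quotient.mk p₀.asIdeal) := Ideal.Quotient.mk_surjective
  have hc : Topology.IsClosedEmbedding (PrimeSpectrum.comap (Ideal.Quotient.mk p₀.asIdeal)) :=
    PrimeSpectrum.isClosedEmbedding_comap_of_surjective (B ⧸ p₀.asIdeal) _ hmk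
  have hrange : Set.range (PrimeSpectrum.comap (Ideal.Quotient.mk p₀.asIdeal)) =
      PrimeSpectrum.zeroLocus (p₀.asIdeal : Set B) := by
    rw [range_comap_of_surjective (B ⧸ p₀.asIdeal) _ hmk, Ideal.mk_ker]
  have hbot : PrimeSpectrum.comap (Ideal.Quotient.mk p₀.asIdeal)
      (⟨⊥, Ideal.bot_prime⟩ : PrimeSpectrum (B ⧸ p₀.asIdeal)) = p₀ := by
    apply PrimeSpectrum.ext
    show Ideal.comap (Ideal.Quotient.mk p₀.asIdeal) ⊥ = p₀.asIdeal
    rw [← RingHom.ker_eq_comap_bot, Ideal.mk_ker]
  have hopenD : IsOpen ({⟨⊥, Ideal.bot_prime⟩} : Set (PrimeSpectrum (B ⧸ p₀.asIdeal))) := by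
    have hEq : ({⟨⊥, Ideal.bot_prime⟩} : Set (PrimeSpectrum (B ⧸ p₀.asIdeal))) =
        (PrimeSpectrum.comap (Ideal.Quotient.mk p₀.asIdeal)) ⁻¹' O := by
      ext q
      simp only [Set.mem_singleton_iff, Set.mem_preimage]
      constructor
      · rintro rfl
        rw [hbot]
        have : p₀ ∈ O ∩ PrimeSpectrum.zeroLocus (p₀.asIdeal : Set B) := by
          rw [hO']; exact Set.mem_singleton _
        exact this.1
      · intro h
        have hm : PrimeSpectrum.comap (Ideal.Quotient.mk p₀.asIdeal) q ∈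
            O ∩ PrimeSpectrum.zeroLocus (p₀.asIdeal : Set B) :=
          ⟨h, hrange ▸ Set.mem_range_self q⟩
        rw [hO', Set.mem_singleton_iff] at hm
        exact hc.injective (hm.trans hbot.symm)
    rw [hEq]; exact hO.preimage hc.continuous
  obtain ⟨f, hf0, hfield⟩ := (isOpen_singleton_bot_iff (B ⧸ p₀.asIdeal)).mp hopenD
  have hall : ∀ P : Ideal (B ⧸ p₀.asIdeal), P.IsPrime → P ≠ ⊥ → f ∈ P := by
    intro P hP hP0
    by_contra hfP
    exact hP0 ((away_isField_iff hf0).mp hfield P hP hfP)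
  have hfin : {P : Ideal (B ⧸ p₀.asIdeal) | P.IsPrime}.Finite :=
    Groth.Agent.Lib.Helper6.finite_setOf_isPrime_of_forall_mem hf0 hall
  have hfinD : Finite (PrimeSpectrum (B ⧸ p₀.asIdeal)) := by
    haveI : Finite {P : Ideal (B ⧸ p₀.asIdeal) | P.IsPrime} := hfin.to_subtype
    exact Finite.of_injective
      (fun q : PrimeSpectrum (B ⧸ p₀.asIdeal) =>
        (⟨q.asIdeal, q.2⟩ : {P : Ideal (B ⧸ p₀.asIdeal) | P.IsPrime}))
      (fun q q' h => PrimeSpectrum.ext (congrArg Subtype.val h))
  refine ⟨?_, ?_⟩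
  · rw [← hrange]
    exact Set.finite_range _
  · intro q hq hne
    rw [← hrange] at hq
    obtain ⟨q', rfl⟩ := hq
    have hq'0 : q'.asIdeal ≠ ⊥ := by
      intro h0
      apply hne
      have hq'e : q' = ⟨⊥, Ideal.bot_prime⟩ := PrimeSpectrum.ext h0
      rw [hq'e]; exact hbot
    have := q'.2
    have hmax : q'.asIdeal.IsMaximal :=
      Groth.Agent.Lib.Helper6.isMaximal_of_forall_mem hf0 hall q'.asIdeal hq'0
    have hcl : IsClosed ({q'} : Set (PrimeSpectrum (B ⧸ p₀.asIdeal))) :=
      (PrimeSpectrum.isClosed_singleton_iff_isMaximal q').mpr hmax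
    have := hc.isClosedMap _ hcl
    rwa [Set.image_singleton] at this

theorem ring_key' (B : Type u) [CommRing B] [IsNoetherianRing B] (p₀ : PrimeSpectrum B)
    (O : Set (PrimeSpectrum B)) (hO : IsOpen O) (hO' : O ∩ closure {p₀} = {p₀}) :
    (closure ({p₀} : Set (PrimeSpectrum B))).Finite ∧
      ∀ q ∈ closure ({p₀} : Set (PrimeSpectrum B)), q ≠ p₀ →
        IsClosed ({q} : Set (PrimeSpectrum B)) := by
  rw [PrimeSpectrum.closure_singleton] at hO' ⊢
  exact ring_key B p₀ O hO hO'

theorem transport_key {T X : Type*} [TopologicalSpace T] [TopologicalSpace X] (e : T → X)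
    (he : Topology.IsOpenEmbedding e)
    (hP : ∀ (p₀ : T) (O : Set T), IsOpen O → O ∩ closure {p₀} = {p₀} →
      (closure ({p₀} : Set T)).Finite ∧
        ∀ q ∈ closure ({p₀} : Set T), q ≠ p₀ → IsClosed ({q} : Set T))
    (p₀ : T) (O : Set X) (hO : IsOpen O) (hO' : O ∩ closure {e p₀} = {e p₀}) :
    (closure {e p₀} ∩ Set.range e).Finite ∧
      ∀ y ∈ closure ({e p₀} : Set X) ∩ Set.range e, y ≠ e p₀ →
        ∀ z ∈ Set.range e, y ⤳ z → z = y := by
  have hcl : closure ({p₀} : Set T) = e ⁻¹' closure {e p₀} := by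
    rw [he.isInducing.closure_eq_preimage_closure_image, Set.image_singleton]
  have hO2 : (e ⁻¹' O) ∩ closure {p₀} = {p₀} := by
    rw [hcl, ← Set.preimage_inter, hO']
    ext q
    simp only [Set.mem_preimage, Set.mem_singleton_iff]
    exact he.injective.eq_iff
  obtain ⟨hfin, hclosed⟩ := hP p₀ _ (hO.preimage he.continuous) hO2
  refine ⟨?_, ?_⟩
  · have hEq : closure {e p₀} ∩ Set.range e = e '' closure {p₀} := by
      rw [hcl, Set.image_preimage_eq_inter_range]
    rw [hEq]; exact hfin.image _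
  · rintro _ ⟨hy, q, rfl⟩ hne _ ⟨r, rfl⟩ hyz
    have hq : q ∈ closure ({p₀} : Set T) := by rw [hcl]; exact hy
    have hqne : q ≠ p₀ := fun h => hne (by rw [h])
    have hqcl := hclosed q hq hqne
    have hqr : q ⤳ r := he.isInducing.specializes_iff.mp hyz
    have hr : r ∈ closure ({q} : Set T) := hqr.mem_closure
    rw [hqcl.closure_eq, Set.mem_singleton_iff] at hr
    rw [hr]

/-- Local version on an affine open of a locally Noetherian scheme. -/
theorem local_key (X : Scheme.{u}) [IsLocallyNoetherian X] (x : X) (O : Set X) (hO : IsOpen O)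
    (hO' : O ∩ closure {x} = {x}) (U : X.Opens) (hU : IsAffineOpen U) (hxU : x ∈ U) :
    (closure {x} ∩ (U : Set X)).Finite ∧
      ∀ y ∈ closure ({x} : Set X) ∩ (U : Set X), y ≠ x → ∀ z ∈ U, y ⤳ z → z = y := by
  have : IsNoetherianRing Γ(X, U) := IsLocallyNoetherian.component_noetherian ⟨U, hU⟩
  have he : Topology.IsOpenEmbedding hU.fromSpec.base := hU.fromSpec.isOpenEmbedding
  have hrange : Set.range hU.fromSpec.base = (U : Set X) := hU.range_fromSpec
  obtain ⟨p₀, hp₀⟩ : ∃ p₀ : ↥(Spec Γ(X, U)), hU.fromSpec.base p₀ = x := by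
    have hx : x ∈ Set.range hU.fromSpec.base := by rw [hrange]; exact hxU
    exact hx
  have hP : ∀ (p : ↥(Spec Γ(X, U))) (O : Set ↥(Spec Γ(X, U))), IsOpen O →
      O ∩ closure {p} = {p} → (closure ({p} : Set ↥(Spec Γ(X, U)))).Finite ∧
        ∀ q ∈ closure ({p} : Set ↥(Spec Γ(X, U))), q ≠ p →
          IsClosed ({q} : Set ↥(Spec Γ(X, U))) := ring_key' Γ(X, U)
  subst hp₀
  have key := transport_key hU.fromSpec.base he hP p₀ O hO hO'
  rw [hrange] at key
  exact key

/-- Global version: in a Noetherian scheme, a point which is open in its closure has finite closure,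
and all other points of that closure are closed points. -/
theorem scheme_key (X : Scheme.{u}) [IsNoetherian X] (x : X) (O : Set X) (hO : IsOpen O)
    (hO' : O ∩ closure {x} = {x}) :
    (closure ({x} : Set X)).Finite ∧
      ∀ y ∈ closure ({x} : Set X), y ≠ x → IsClosed ({y} : Set X) := by
  have haff : ∀ y : X, ∃ W : X.Opens, IsAffineOpen W ∧ y ∈ W := fun y => by
    obtain ⟨W, hW, hyW, -⟩ := exists_isAffineOpen_mem_and_subset (x := y) (U := ⊤) trivial
    exact ⟨W, hW, hyW⟩
  choose W hW hyW using haff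
  refine ⟨?_, ?_⟩
  · obtain ⟨t, ht⟩ := CompactSpace.elim_nhds_subcover (fun y => (W y : Set X))
      (fun y => (W y).isOpen.mem_nhds (hyW y))
    have hsub : closure ({x} : Set X) ⊆ ⋃ y ∈ t, closure {x} ∩ (W y : Set X) := by
      intro z hz
      have : z ∈ ⋃ y ∈ t, (W y : Set X) := ht ▸ Set.mem_univ z
      obtain ⟨y, hyt, hzy⟩ := Set.mem_iUnion₂.mp this
      exact Set.mem_iUnion₂.mpr ⟨y, hyt, hz, hzy⟩
    refine (Set.Finite.biUnion t.finite_toSet (fun y _ => ?_)).subset hsub
    by_cases hne : (closure ({x} : Set X) ∩ (W y : Set X)).Nonempty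
    · obtain ⟨z, hz, hzW⟩ := hne
      have hxz : x ⤳ z := specializes_iff_mem_closure.mpr hz
      have hxW : x ∈ W y := hxz.mem_open (W y).isOpen hzW
      exact (local_key X x O hO hO' (W y) (hW y) hxW).1
    · rw [Set.not_nonempty_iff_eq_empty] at hne
      rw [hne]; exact Set.finite_empty
  · intro y hy hne
    have hxy : x ⤳ y := specializes_iff_mem_closure.mpr hy
    have hsub : closure ({y} : Set X) ⊆ {y} := by
      intro z hz
      have hyz : y ⤳ z := specializes_iff_mem_closure.mpr hz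
      have hyWz : y ∈ W z := hyz.mem_open (W z).isOpen (hyW z)
      have hxWz : x ∈ W z := hxy.mem_open (W z).isOpen hyWz
      exact (local_key X x O hO hO' (W z) (hW z) hxWz).2 y ⟨hy, hyWz⟩ hne z (hyW z) hyz
    have : closure ({y} : Set X) = {y} := Set.Subset.antisymm hsub subset_closure
    rw [← this]; exact isClosed_closure

end Groth.Agent.Lib.Helper8
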