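import Mathlib
import Groth.Agent.Lib.Helper8.NormBC

/-!
# Normalization of an integral scheme commutes with smooth base change (main results)
-/

set_option autoImplicit false
universe u
open CategoryTheory CategoryTheory.Limits AlgebraicGeometry TensorProduct Opposite

namespace Groth.Agent.Lib.Helper8.NormBC

theorem bijective_residueFieldMap_of_comp' {A B C : Scheme.{u}} (ρ : A ⟶ B) (g : B ⟶ C) (a : A)
    (h : Function.Bijective ((ρ ≫ g).residueFieldMap a).hom) :
    Function.Bijective (g.residueFieldMap (ρ a)).hom := by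
  refine ⟨(g.residueFieldMap (ρ a)).hom.injective, ?_⟩
  intro y
  rw [Scheme.residueFieldMap_comp] at h
  obtain ⟨z, hz⟩ := h.2 ((ρ.residueFieldMap a).hom y)
  refine ⟨z, (ρ.residueFieldMap a).hom.injective ?_⟩
  exact hz

/-- The local ring condition for the generic fibre of a smooth morphism of integral schemes. -/
theorem rc_core {X Y Q : Scheme.{u}} (f : X ⟶ Y) [Smooth f] [IsIntegral X] [IsIntegral Y]
    (ηY : Spec (Y.presheaf.stalk (genericPoint Y)) ⟶ Y)
    (hηY : ηY = Y.fromSpecStalk (genericPoint Y))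
    (p : Q ⟶ Spec (Y.presheaf.stalk (genericPoint Y))) (q : Q ⟶ X) (sq : IsPullback p q ηY f)
    (h : Spec (X.presheaf.stalk (genericPoint X)) ⟶ Q)
    (hq : h ≫ q = X.fromSpecStalk (genericPoint X))
    {U : X.Opens} (hU : IsAffineOpen U) {V : Y.Opens} (hV : IsAffineOpen V) (hUV : U ≤ f ⁻¹ᵁ V)
    (hne : (U : Set X).Nonempty) :
    Function.Injective (h.app (q ⁻¹ᵁ U)).hom ∧
      ∀ t : Γ(Spec (X.presheaf.stalk (genericPoint X)), h ⁻¹ᵁ q ⁻¹ᵁ U),
        ((q.app U ≫ h.app (q ⁻¹ᵁ U)).hom).IsIntegralElem t →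
          t ∈ Set.range (h.app (q ⁻¹ᵁ U)).hom := by
  obtain ⟨x₀, hx₀⟩ := hne
  have hVne : (V : Set Y).Nonempty := ⟨f x₀, hUV hx₀⟩
  have hUne : (U : Set X).Nonempty := ⟨x₀, hx₀⟩
  have hξY : genericPoint Y ∈ V :=
    ((genericPoint_spec Y).mem_open_set_iff V.2).mpr (by simpa using hVne)
  have hξX : genericPoint X ∈ U :=
    ((genericPoint_spec X).mem_open_set_iff U.2).mpr (by simpa using hUne)
  haveI : Nonempty V := ⟨⟨_, hξY⟩⟩
  haveI : Nonempty U := ⟨⟨_, hξX⟩⟩
  have hVtop : ηY ⁻¹ᵁ V = ⊤ := by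
    subst hηY
    refine top_le_iff.mp fun z _ => ?_
    have hz : (Y.fromSpecStalk (genericPoint Y)) z ∈
        Set.range (Y.fromSpecStalk (genericPoint Y)) := Set.mem_range_self z
    rw [Scheme.range_fromSpecStalk] at hz
    have hz' : (Y.fromSpecStalk (genericPoint Y)) z ⤳ genericPoint Y := hz
    exact hz'.mem_open V.2 hξY
  have hUXaff : IsAffineOpen (ηY ⁻¹ᵁ V) := by rw [hVtop]; exact isAffineOpen_top _
  have hUY : q ⁻¹ᵁ U = p ⁻¹ᵁ (ηY ⁻¹ᵁ V) ⊓ q ⁻¹ᵁ U := by
    rw [← Scheme.Hom.comp_preimage, sq.w, Scheme.Hom.comp_preimage, ← Scheme.Hom.preimage_inf,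
      inf_eq_right.mpr hUV]
  have hiso : IsIso (pushoutSection sq hUV (le_refl (ηY ⁻¹ᵁ V)) hUY) :=
    isIso_pushoutSection_of_isAffineOpen sq hUV (le_refl _) hUY hV hU hUXaff
  letI algBK : Algebra Γ(Y, V) Γ(Spec (Y.presheaf.stalk (genericPoint Y)), ηY ⁻¹ᵁ V) :=
    (ηY.appLE V (ηY ⁻¹ᵁ V) (le_refl _)).hom.toAlgebra
  letI algBA : Algebra Γ(Y, V) Γ(X, U) := (f.appLE V U hUV).hom.toAlgebra
  letI algAL : Algebra Γ(X, U)
      Γ(Spec (X.presheaf.stalk (genericPoint X)), h ⁻¹ᵁ q ⁻¹ᵁ U) :=
    (q.app U ≫ h.app (q ⁻¹ᵁ U)).hom.toAlgebra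
  haveI : Algebra.Smooth Γ(Y, V) Γ(X, U) := f.smooth_appLE hV hU hUV
  haveI : IsFractionRing Γ(Y, V) Γ(Spec (Y.presheaf.stalk (genericPoint Y)), ηY ⁻¹ᵁ V) :=
    isFractionRing_sections hV hVne ηY hηY (ηY.appLE V (ηY ⁻¹ᵁ V) (le_refl _)).hom
      (by rw [Scheme.Hom.app_eq_appLE])
  haveI : IsFractionRing Γ(X, U)
      Γ(Spec (X.presheaf.stalk (genericPoint X)), h ⁻¹ᵁ q ⁻¹ᵁ U) :=
    isFractionRing_sections hU hUne (h ≫ q) hq (q.app U ≫ h.app (q ⁻¹ᵁ U)).hom rfl
  let e₀ : CommRingCat.of (Γ(Spec (Y.presheaf.stalk (genericPoint Y)), ηY ⁻¹ᵁ V) ⊗[Γ(Y, V)]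
      Γ(X, U)) ≅ Γ(Q, q ⁻¹ᵁ U) :=
    (CommRingCat.isPushout_tensorProduct Γ(Y, V)
      Γ(Spec (Y.presheaf.stalk (genericPoint Y)), ηY ⁻¹ᵁ V) Γ(X, U)).isoPushout ≪≫
      asIso (pushoutSection sq hUV (le_refl (ηY ⁻¹ᵁ V)) hUY)
  have h1 := (CommRingCat.isPushout_tensorProduct Γ(Y, V)
      Γ(Spec (Y.presheaf.stalk (genericPoint Y)), ηY ⁻¹ᵁ V) Γ(X, U)).inr_isoPushout_hom
  have h2 : pushout.inr _ _ ≫ pushoutSection sq hUV (le_refl (ηY ⁻¹ᵁ V)) hUY =
      q.appLE U (q ⁻¹ᵁ U) le_rfl := pushout.inr_desc _ _ _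
  have hinr : CommRingCat.ofHom (Algebra.TensorProduct.includeRight (R := Γ(Y, V))
      (A := Γ(Spec (Y.presheaf.stalk (genericPoint Y)), ηY ⁻¹ᵁ V))
      (B := Γ(X, U))).toRingHom ≫ e₀.hom = q.app U :=
    ((Category.assoc _ _ _).symm.trans
      (congrArg (· ≫ pushoutSection sq hUV (le_refl (ηY ⁻¹ᵁ V)) hUY) h1)).trans
      (h2.trans (Scheme.Hom.app_eq_appLE q).symm)
  let ψ : Γ(Spec (Y.presheaf.stalk (genericPoint Y)), ηY ⁻¹ᵁ V) ⊗[Γ(Y, V)] Γ(X, U) →+*
      Γ(Spec (X.presheaf.stalk (genericPoint X)), h ⁻¹ᵁ q ⁻¹ᵁ U) :=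
    (e₀.hom ≫ h.app (q ⁻¹ᵁ U)).hom
  have hψ : ∀ a : Γ(X, U), ψ (1 ⊗ₜ[Γ(Y, V)] a) =
      algebraMap Γ(X, U) Γ(Spec (X.presheaf.stalk (genericPoint X)), h ⁻¹ᵁ q ⁻¹ᵁ U) a :=
    fun a => congrArg (h.app (q ⁻¹ᵁ U)).hom (congrArg (fun φ => φ.hom a) hinr)
  obtain ⟨hψinj, hψrange⟩ := ringCore ψ hψ
  have hinv : ∀ s, e₀.hom.hom (e₀.inv.hom s) = s :=
    fun s => congrArg (fun φ => φ.hom s) e₀.inv_hom_id
  have hψapp : ∀ y, ψ y = (h.app (q ⁻¹ᵁ U)).hom (e₀.hom.hom y) := fun y => rfl
  refine ⟨fun s s' hss => ?_, fun t ht => ?_⟩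
  · have h1 : ψ (e₀.inv.hom s) = ψ (e₀.inv.hom s') := by
      rw [hψapp, hψapp, hinv, hinv]; exact hss
    have h2 := hψinj h1
    have h3 := congrArg e₀.hom.hom h2
    rwa [hinv, hinv] at h3
  · obtain ⟨y, hy⟩ := hψrange t ht
    exact ⟨e₀.hom.hom y, hy⟩

/-- Existence of the comparison isomorphism. -/
theorem exists_iso {X Y : Scheme.{u}} (f : X ⟶ Y) [Smooth f] [IsIntegral X] [IsIntegral Y]
    [QuasiCompact (X.fromSpecStalk (genericPoint X))]
    [QuasiSeparated (X.fromSpecStalk (genericPoint X))]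
    [QuasiCompact (Y.fromSpecStalk (genericPoint Y))]
    [QuasiSeparated (Y.fromSpecStalk (genericPoint Y))] :
    ∃ e : (X.fromSpecStalk (genericPoint X)).normalization ≅
        pullback f (Y.fromSpecStalk (genericPoint Y)).fromNormalization,
      e.hom ≫ pullback.fst f (Y.fromSpecStalk (genericPoint Y)).fromNormalization =
        (X.fromSpecStalk (genericPoint X)).fromNormalization := by
  have hξ : f (genericPoint X) = genericPoint Y := by
    obtain ⟨x', hx', hfx'⟩ :=
      (Flat.generalizingMap f) (genericPoint_specializes (f (genericPoint X)))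
    have h1 : genericPoint X ⤳ x' := genericPoint_specializes x'
    have h2 : x' = genericPoint X := (hx'.antisymm h1).eq
    rw [← h2]; exact hfx'
  let α : Spec (X.presheaf.stalk (genericPoint X)) ⟶ Spec (Y.presheaf.stalk (genericPoint Y)) :=
    Spec.map (Y.presheaf.stalkSpecializes (specializes_of_eq hξ) ≫ f.stalkMap (genericPoint X))
  have hα : α ≫ Y.fromSpecStalk (genericPoint Y) = X.fromSpecStalk (genericPoint X) ≫ f := by
    dsimp only [α]
    rw [Spec.map_comp, Category.assoc, Scheme.SpecMap_stalkSpecializes_fromSpecStalk,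
      Scheme.SpecMap_stalkMap_fromSpecStalk]
  let h := pullback.lift α (X.fromSpecStalk (genericPoint X)) hα
  have hq : h ≫ pullback.snd (Y.fromSpecStalk (genericPoint Y)) f =
      X.fromSpecStalk (genericPoint X) := pullback.lift_snd _ _ _
  have H : X.fromSpecStalk (genericPoint X) =
      (h ≫ (pullback.snd (Y.fromSpecStalk (genericPoint Y)) f).toNormalization) ≫
        (pullback.snd (Y.fromSpecStalk (genericPoint Y)) f).fromNormalization := by
    rw [Category.assoc, Scheme.Hom.toNormalization_fromNormalization, hq]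
  have hc : IsIso ((X.fromSpecStalk (genericPoint X)).normalizationDesc
      (h ≫ (pullback.snd (Y.fromSpecStalk (genericPoint Y)) f).toNormalization)
      (pullback.snd (Y.fromSpecStalk (genericPoint Y)) f).fromNormalization H) := by
    refine isIso_normalizationDesc_of_local _ h _ hq.symm (fun x => ?_) H
    obtain ⟨_, ⟨V, hV, rfl⟩, hxV, -⟩ := Y.isBasis_affineOpens.exists_subset_of_mem_open
      (Set.mem_univ (f x)) isOpen_univ
    obtain ⟨_, ⟨U, hU, rfl⟩, hxU, hUV : U ≤ f ⁻¹ᵁ V⟩ :=
      X.isBasis_affineOpens.exists_subset_of_mem_open (a := x) hxV (f ⁻¹ᵁ V).2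
    exact ⟨U, hU, hxU, rc_core f _ rfl _ _ (IsPullback.of_hasPullback _ f) h hq hU hV hUV
      ⟨x, hxU⟩⟩
  refine ⟨asIso ((X.fromSpecStalk (genericPoint X)).normalizationDesc
      (h ≫ (pullback.snd (Y.fromSpecStalk (genericPoint Y)) f).toNormalization)
      (pullback.snd (Y.fromSpecStalk (genericPoint Y)) f).fromNormalization H) ≪≫
    asIso ((Y.fromSpecStalk (genericPoint Y)).normalizationPullback f) ≪≫
    pullbackSymmetry _ _, ?_⟩
  simp only [Iso.trans_hom, asIso_hom, Category.assoc, pullbackSymmetry_hom_comp_fst,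
    Scheme.Hom.normalizationPullback_snd, Scheme.Hom.normalizationDesc_comp]

/-- An automorphism of the normalization of an integral scheme over the scheme is the identity. -/
theorem aut_eq_id {X : Scheme.{u}} [IsIntegral X]
    [QuasiCompact (X.fromSpecStalk (genericPoint X))]
    [QuasiSeparated (X.fromSpecStalk (genericPoint X))]
    (σ : (X.fromSpecStalk (genericPoint X)).normalization ⟶
      (X.fromSpecStalk (genericPoint X)).normalization) [IsIso σ]
    (hσ : σ ≫ (X.fromSpecStalk (genericPoint X)).fromNormalization =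
      (X.fromSpecStalk (genericPoint X)).fromNormalization) :
    σ = 𝟙 _ := by
  refine Scheme.Hom.normalization.hom_ext (X.fromSpecStalk (genericPoint X)) σ (𝟙 _)
    (X.fromSpecStalk (genericPoint X)).fromNormalization ?_ hσ (Category.id_comp _)
  rw [Category.comp_id]
  have hfield : IsField (X.presheaf.stalk (genericPoint X)) :=
    isField_stalk_of_closure_mem_irreducibleComponents X _
      (by simp [irreducibleComponents_eq_singleton])
  haveI : Subsingleton (Spec (X.presheaf.stalk (genericPoint X))) :=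
    (subsingleton_primeSpectrum_of_isField hfield :
      Subsingleton (PrimeSpectrum (X.presheaf.stalk (genericPoint X))))
  have key : ∀ pt : Spec (X.presheaf.stalk (genericPoint X)),
      ((X.fromSpecStalk (genericPoint X)).toNormalization ≫ σ) pt =
        (X.fromSpecStalk (genericPoint X)).toNormalization pt ∧
      Function.Surjective ((X.fromSpecStalk (genericPoint X)).fromNormalization.residueFieldMap
        ((X.fromSpecStalk (genericPoint X)).toNormalization pt)).hom := by
    intro pt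
    have hgen : ∀ z : (X.fromSpecStalk (genericPoint X)).normalization,
        (X.fromSpecStalk (genericPoint X)).toNormalization pt ⤳ z := by
      intro z
      rw [specializes_iff_mem_closure]
      have hd : DenseRange (X.fromSpecStalk (genericPoint X)).toNormalization :=
        (X.fromSpecStalk (genericPoint X)).toNormalization.denseRange
      have hr : Set.range (X.fromSpecStalk (genericPoint X)).toNormalization =
          {(X.fromSpecStalk (genericPoint X)).toNormalization pt} := by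
        ext w; constructor
        · rintro ⟨a, rfl⟩; rw [Subsingleton.elim a pt]; rfl
        · rintro rfl; exact ⟨pt, rfl⟩
      have h5 := hd.closure_range
      rw [hr] at h5
      rw [h5]; trivial
    constructor
    · rw [Scheme.Hom.comp_apply]
      have hs1 := hgen (σ ((X.fromSpecStalk (genericPoint X)).toNormalization pt))
      have hz : σ ((inv σ) ((X.fromSpecStalk (genericPoint X)).toNormalization pt)) =
          (X.fromSpecStalk (genericPoint X)).toNormalization pt := by
        rw [← Scheme.Hom.comp_apply, IsIso.inv_hom_id]; rfl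
      have hs2 : σ ((X.fromSpecStalk (genericPoint X)).toNormalization pt) ⤳
          (X.fromSpecStalk (genericPoint X)).toNormalization pt := by
        have := (hgen ((inv σ) ((X.fromSpecStalk (genericPoint X)).toNormalization pt))).map
          σ.continuous
        rwa [hz] at this
      exact (hs2.antisymm hs1).eq
    · have hbij : ∀ (g : Spec (X.presheaf.stalk (genericPoint X)) ⟶ X),
          g = X.fromSpecStalk (genericPoint X) →
          Function.Bijective (g.residueFieldMap pt).hom := by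
        rintro _ rfl
        exact RatPt.residueFieldMap_bijective_of_stalkMap_surjective _ pt
          ((X.fromSpecStalk (genericPoint X)).stalkMap_surjective pt)
      exact (bijective_residueFieldMap_of_comp' _ _ pt
        (hbij _ (X.fromSpecStalk (genericPoint X)).toNormalization_fromNormalization)).2
  obtain ⟨h₁, hs⟩ := key (IsLocalRing.closedPoint X.functionField)
  exact RatPt.eq_of_residueFieldMap_surjective (K := X.functionField)
    (X.fromSpecStalk (genericPoint X)).fromNormalization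
    ((X.fromSpecStalk (genericPoint X)).toNormalization ≫ σ)
    (X.fromSpecStalk (genericPoint X)).toNormalization
    ((X.fromSpecStalk (genericPoint X)).toNormalization (IsLocalRing.closedPoint X.functionField))
    h₁ rfl hs (by rw [Category.assoc, hσ])

/-- Normalization of integral schemes commutes with smooth base change. -/
theorem main {X Y : Scheme.{u}} (f : X ⟶ Y) [Smooth f] [IsIntegral X] [IsIntegral Y]
    [QuasiCompact (X.fromSpecStalk (genericPoint X))]
    [QuasiSeparated (X.fromSpecStalk (genericPoint X))]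
    [QuasiCompact (Y.fromSpecStalk (genericPoint Y))]
    [QuasiSeparated (Y.fromSpecStalk (genericPoint Y))] :
    ∃! e : (X.fromSpecStalk (genericPoint X)).normalization ≅
        pullback f (Y.fromSpecStalk (genericPoint Y)).fromNormalization,
      e.hom ≫ pullback.fst f (Y.fromSpecStalk (genericPoint Y)).fromNormalization =
        (X.fromSpecStalk (genericPoint X)).fromNormalization := by
  obtain ⟨e, he⟩ := exists_iso f
  refine ⟨e, he, fun e' he' => ?_⟩
  have h1 : e.inv ≫ (X.fromSpecStalk (genericPoint X)).fromNormalization =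
      pullback.fst f (Y.fromSpecStalk (genericPoint Y)).fromNormalization := by
    rw [← he, Iso.inv_hom_id_assoc]
  have h2 := aut_eq_id (e'.hom ≫ e.inv) (by rw [Category.assoc, h1, he'])
  apply Iso.ext
  have h3 := (Iso.comp_inv_eq e).mp h2
  rw [Category.id_comp] at h3
  exact h3

end Groth.Agent.Lib.Helper8.NormBC
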