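import Mathlib
import Groth.Agent.Lib.Helper8.NormalSmooth

/-!
# Algebra for the finite-étale criterion for normalizations (helper8)

`A` an integrally closed domain with fraction field `K`, `L/K` finite, `B` the integral closure of
`A` in `L`.  We construct finite `A`-subalgebras `B₀ ⊆ B` separating finitely many homomorphisms and
generating `L`, and show that if `(B₀)_s` is étale over `A_s` then `(B₀)_s = B_s`.
-/

set_option autoImplicit false
set_option linter.style.haveILetI false

namespace Groth.Agent.Lib.Helper8.NormEtAlg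

open TensorProduct Function

universe u

attribute [local instance] Algebra.TensorProduct.rightAlgebra

section Span

variable {A K L : Type*} [CommRing A] [IsDomain A] [Field K] [Algebra A K] [IsFractionRing A K]
  [Field L] [Algebra K L] [Algebra A L] [IsScalarTower A K L]

/-- Elements of the `K`-span of a set have a nonzero `A`-multiple in any `A`-submodule containing
the set. -/
theorem exists_smul_mem_of_mem_span (M₀ : Submodule A L) (S : Set L) (hS : S ⊆ M₀)
    {x : L} (hx : x ∈ Submodule.span K S) : ∃ d : A, d ≠ 0 ∧ d • x ∈ M₀ := by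
  induction hx using Submodule.span_induction with
  | mem x h => exact ⟨1, one_ne_zero, by rw [one_smul]; exact hS h⟩
  | zero => exact ⟨1, one_ne_zero, by rw [smul_zero]; exact M₀.zero_mem⟩
  | add x y _ _ hx hy =>
    obtain ⟨d₁, hd₁, h₁⟩ := hx
    obtain ⟨d₂, hd₂, h₂⟩ := hy
    refine ⟨d₁ * d₂, mul_ne_zero hd₁ hd₂, ?_⟩
    have : (d₁ * d₂) • (x + y) = d₂ • (d₁ • x) + d₁ • (d₂ • y) := by
      rw [smul_add, mul_smul, mul_smul, smul_comm d₁ d₂ x]
    rw [this]
    exact M₀.add_mem (M₀.smul_mem _ h₁) (M₀.smul_mem _ h₂)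
  | smul κ x _ hx =>
    obtain ⟨d, hd, h⟩ := hx
    obtain ⟨a, e, he, rfl⟩ := IsFractionRing.div_surjective A κ
    have he0 : e ≠ 0 := nonZeroDivisors.ne_zero he
    refine ⟨e * d, mul_ne_zero he0 hd, ?_⟩
    have hek : algebraMap A K e ≠ 0 := by
      rw [Ne, map_eq_zero_iff _ (IsFractionRing.injective A K)]; exact he0
    have hel : algebraMap K L (algebraMap A K e) ≠ 0 := by rwa [Ne, map_eq_zero]
    have : (e * d) • ((algebraMap A K a / algebraMap A K e) • x) = a • (d • x) := by
      simp only [Algebra.smul_def, IsScalarTower.algebraMap_apply A K L, map_mul, map_div₀]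
      field_simp
    rw [this]
    exact M₀.smul_mem _ h

end Span

section B0

variable (A : Type u) [CommRing A] [IsDomain A] (K : Type u) [Field K] [Algebra A K]
  [IsFractionRing A K] (L : Type u) [Field L] [Algebra K L] [Algebra A L] [IsScalarTower A K L]
  [FiniteDimensional K L] (B : Type u) [CommRing B] [Algebra A B] [Algebra B L]
  [IsScalarTower A B L] [IsIntegralClosure B A L]

include K L in
/-- A finite subalgebra of the integral closure separating finitely many homomorphisms and
generating the field extension. -/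
theorem exists_B0 {Ω : Type*} [CommRing Ω] {n : ℕ} (φs : Fin n → (B →+* Ω)) (hφs : Injective φs) :
    ∃ B₀ : Subalgebra A B, Module.Finite A B₀ ∧
      (∀ i j, i ≠ j → ∃ b ∈ B₀, φs i b ≠ φs j b) ∧
      ∀ b : B, ∃ d : A, d ≠ 0 ∧ d • b ∈ B₀ := by
  classical
  haveI : Algebra.IsIntegral A B := IsIntegralClosure.isIntegral_algebra A L
  have hinj : Injective (algebraMap B L) := IsIntegralClosure.algebraMap_injective B A L
  have sep : ∀ p : Fin n × Fin n, ∃ b : B, p.1 ≠ p.2 → φs p.1 b ≠ φs p.2 b := by
    intro p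
    by_cases h : p.1 = p.2
    · exact ⟨0, fun h' => absurd h h'⟩
    · have hne : φs p.1 ≠ φs p.2 := fun h' => h (hφs h')
      obtain ⟨b, hb⟩ : ∃ b, φs p.1 b ≠ φs p.2 b := by
        by_contra hcon
        push_neg at hcon
        exact hne (RingHom.ext hcon)
      exact ⟨b, fun _ => hb⟩
  choose bsep hbsep using sep
  let bas := Module.finBasis K L
  have halg : ∀ m, ∃ c : B, ∃ d : A, d ≠ 0 ∧ algebraMap B L c = d • bas m := by
    intro m
    have hz : IsAlgebraic A (bas m) :=
      (IsFractionRing.isAlgebraic_iff A K L).mpr (Algebra.IsAlgebraic.isAlgebraic _)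
    obtain ⟨d, hd, hint⟩ := hz.exists_integral_multiple
    obtain ⟨c, hc⟩ := (IsIntegralClosure.isIntegral_iff (A := B)).mp hint
    exact ⟨c, d, hd, hc⟩
  choose c d hd hc using halg
  let S : Set B := Set.range bsep ∪ Set.range c
  have hSfin : S.Finite := (Set.finite_range _).union (Set.finite_range _)
  refine ⟨Algebra.adjoin A S, ?_, ?_, ?_⟩
  · exact Module.Finite.of_fg
      (fg_adjoin_of_finite hSfin (fun x _ => Algebra.IsIntegral.isIntegral x))
  · intro i j hij
    exact ⟨bsep (i, j), Algebra.subset_adjoin (Or.inl ⟨(i, j), rfl⟩), hbsep (i, j) hij⟩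
  · intro b
    let M₀ : Submodule A L := (Subalgebra.toSubmodule (Algebra.adjoin A S)).map
      (IsScalarTower.toAlgHom A B L).toLinearMap
    have hS' : Set.range (fun m => d m • bas m) ⊆ (M₀ : Set L) := by
      rintro _ ⟨m, rfl⟩
      exact ⟨c m, Algebra.subset_adjoin (Or.inr ⟨m, rfl⟩), hc m⟩
    have hspan : Submodule.span K (Set.range (fun m => d m • bas m)) = ⊤ := by
      rw [eq_top_iff, ← bas.span_eq, Submodule.span_le]
      rintro _ ⟨m, rfl⟩
      have hdk : algebraMap A K (d m) ≠ 0 := by
        rw [Ne, map_eq_zero_iff _ (IsFractionRing.injective A K)]; exact hd m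
      have : bas m = (algebraMap A K (d m))⁻¹ • (d m • bas m) := by
        rw [← IsScalarTower.algebraMap_smul K (d m) (bas m), smul_smul, inv_mul_cancel₀ hdk,
          one_smul]
      rw [this]
      exact Submodule.smul_mem _ _ (Submodule.subset_span ⟨m, rfl⟩)
    obtain ⟨e, he, hmem⟩ := exists_smul_mem_of_mem_span (K := K) M₀ _ hS'
      (x := algebraMap B L b) (hspan ▸ Submodule.mem_top)
    obtain ⟨b₁, hb₁, hb₁'⟩ := hmem
    refine ⟨e, he, ?_⟩
    have : e • b = b₁ := by
      apply hinj
      rw [Algebra.smul_def, map_mul, ← IsScalarTower.algebraMap_apply A B L, ← Algebra.smul_def]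
      exact hb₁'.symm
    rw [this]
    exact hb₁

end B0

section Count

/-- Distinct algebra homomorphisms to a field give distinct points of the fibre. -/
theorem le_card_primeSpectrum_tensor (A : Type*) [CommRing A] (B₀ Ω : Type*) [CommRing B₀]
    [Algebra A B₀] [Field Ω] [Algebra A Ω] {n : ℕ} (ψ : Fin n → (B₀ →ₐ[A] Ω)) (hψ : Injective ψ)
    [Finite (PrimeSpectrum (Ω ⊗[A] B₀))] : n ≤ Nat.card (PrimeSpectrum (Ω ⊗[A] B₀)) := by
  let σ : Fin n → (Ω ⊗[A] B₀ →ₐ[A] Ω) := fun i =>
    Algebra.TensorProduct.productMap (AlgHom.id A Ω) (ψ i)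
  let P : Fin n → PrimeSpectrum (Ω ⊗[A] B₀) := fun i =>
    ⟨RingHom.ker (σ i).toRingHom, RingHom.ker_isPrime _⟩
  have hP : Injective P := by
    intro i j hij
    apply hψ
    ext b
    have hker : RingHom.ker (σ i).toRingHom = RingHom.ker (σ j).toRingHom :=
      congrArg PrimeSpectrum.asIdeal hij
    have hmem : ((1 : Ω) ⊗ₜ[A] b - (ψ i b) ⊗ₜ[A] (1 : B₀)) ∈ RingHom.ker (σ i).toRingHom := by
      rw [RingHom.mem_ker]
      show σ i _ = 0
      rw [map_sub, Algebra.TensorProduct.productMap_apply_tmul,
        Algebra.TensorProduct.productMap_apply_tmul]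
      simp
    rw [hker, RingHom.mem_ker] at hmem
    have h0 : σ j ((1 : Ω) ⊗ₜ[A] b - (ψ i b) ⊗ₜ[A] (1 : B₀)) = 0 := hmem
    rw [map_sub, Algebra.TensorProduct.productMap_apply_tmul,
      Algebra.TensorProduct.productMap_apply_tmul] at h0
    simp only [AlgHom.coe_id, id_eq, one_mul, map_one, mul_one] at h0
    exact (sub_eq_zero.mp h0).symm
  have := Nat.card_le_card_of_injective P hP
  rwa [Nat.card_fin] at this

/-- The generic fibre of a subalgebra of `L` has degree at most `[L : K]`. -/
theorem finrank_tensor_le (A : Type*) [CommRing A] [IsDomain A] (K : Type*) [Field K]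
    [Algebra A K] [IsFractionRing A K] (L : Type*) [Field L] [Algebra K L] [Algebra A L]
    [IsScalarTower A K L] [FiniteDimensional K L] (B₀ : Type*) [CommRing B₀] [Algebra A B₀]
    (ι₀ : B₀ →ₐ[A] L) (hι₀ : Injective ι₀) :
    Module.finrank K (K ⊗[A] B₀) ≤ Module.finrank K L := by
  let μ : K ⊗[A] B₀ →ₐ[K] L :=
    Algebra.TensorProduct.lift (Algebra.ofId K L) ι₀ (fun _ _ => Commute.all _ _)
  have hμ : Injective μ := by
    haveI : IsLocalization (Algebra.algebraMapSubmonoid B₀ (nonZeroDivisors A)) (K ⊗[A] B₀) :=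
      IsLocalization.tensorRight K (nonZeroDivisors A)
    rw [injective_iff_map_eq_zero]
    intro t ht
    obtain ⟨⟨b, m⟩, hbm⟩ :=
      IsLocalization.surj (Algebra.algebraMapSubmonoid B₀ (nonZeroDivisors A)) t
    have h1 : ∀ b' : B₀, μ (algebraMap B₀ (K ⊗[A] B₀) b') = ι₀ b' := by
      intro b'
      show μ ((1 : K) ⊗ₜ[A] b') = _
      rw [Algebra.TensorProduct.lift_tmul, map_one, one_mul]
    have h2 := congrArg μ hbm
    rw [map_mul, ht, zero_mul, h1] at h2
    have hb0 : b = 0 := hι₀ (by rw [← h2, map_zero])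
    dsimp only at hbm
    rw [hb0, map_zero] at hbm
    exact (IsLocalization.map_units (K ⊗[A] B₀) m).mul_left_eq_zero.mp hbm
  exact LinearMap.finrank_le_finrank_of_injective (f := μ.toLinearMap) hμ

end Count

section Absorb

/-- Étale algebras over localizations of integrally closed domains are integrally closed when they
are domains. -/
theorem isIntegrallyClosed_of_etale_away (A : Type u) [CommRing A] [IsDomain A]
    [IsIntegrallyClosed A] (s : A) (hs : s ≠ 0) (E : Type u) [CommRing E] [IsDomain E]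
    [Algebra (Localization.Away s) E] [Algebra.Etale (Localization.Away s) E] :
    IsIntegrallyClosed E := by
  have hle : Submonoid.powers s ≤ nonZeroDivisors A :=
    powers_le_nonZeroDivisors_of_noZeroDivisors hs
  haveI : IsDomain (Localization.Away s) := IsLocalization.isDomain_localization hle
  haveI : IsIntegrallyClosed (Localization.Away s) :=
    isIntegrallyClosed_of_isLocalization _ _ hle
  refine IsIntegrallyClosed.of_localization_maximal (fun q _ hq => ?_)
  haveI : q.IsPrime := hq.isPrime
  exact (NormalSmooth.isDomain_isIntegrallyClosed_of_etale (Localization.Away s) E q).2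

variable (A : Type u) [CommRing A] [IsDomain A] (B : Type u) [CommRing B] [IsDomain B]
  [Algebra A B]

/-- The localization of a subalgebra `B₀` of a domain `B` is a domain. -/
theorem isDomain_tensor (hAB : Injective (algebraMap A B)) (B₀ : Subalgebra A B) (s : A)
    (hs : s ≠ 0) : IsDomain (Localization.Away s ⊗[A] B₀) := by
  haveI : IsLocalization (Algebra.algebraMapSubmonoid B₀ (Submonoid.powers s))
      (Localization.Away s ⊗[A] B₀) :=
    IsLocalization.tensorRight (Localization.Away s) (Submonoid.powers s)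
  have hAB₀ : Injective (algebraMap A B₀) := fun a a' h => hAB (congrArg Subtype.val h)
  have hM : Algebra.algebraMapSubmonoid B₀ (Submonoid.powers s) ≤ nonZeroDivisors B₀ := by
    rintro _ ⟨_, ⟨k, rfl⟩, rfl⟩
    apply mem_nonZeroDivisors_of_ne_zero
    rw [Ne, map_eq_zero_iff _ hAB₀]
    exact pow_ne_zero _ hs
  exact IsLocalization.isDomain_of_le_nonZeroDivisors _ hM

/-- If `(B₀)_s` is integrally closed, an integral element of `B` with a nonzero multiple in `B₀`
has an `s`-power multiple in `B₀`. -/
theorem absorb (hAB : Injective (algebraMap A B)) (B₀ : Subalgebra A B) (s : A) (hs : s ≠ 0)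
    [IsIntegrallyClosed (Localization.Away s ⊗[A] B₀)]
    (b : B) (hb : IsIntegral A b) (d : A) (hd : d ≠ 0) (hdb : d • b ∈ B₀) :
    ∃ k : ℕ, s ^ k • b ∈ B₀ := by
  haveI hloc : IsLocalization (Algebra.algebraMapSubmonoid B₀ (Submonoid.powers s))
      (Localization.Away s ⊗[A] B₀) :=
    IsLocalization.tensorRight (Localization.Away s) (Submonoid.powers s)
  have hAB₀ : Injective (algebraMap A B₀) := fun a a' h => hAB (congrArg Subtype.val h)
  have hM : Algebra.algebraMapSubmonoid B₀ (Submonoid.powers s) ≤ nonZeroDivisors B₀ := by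
    rintro _ ⟨_, ⟨k, rfl⟩, rfl⟩
    apply mem_nonZeroDivisors_of_ne_zero
    rw [Ne, map_eq_zero_iff _ hAB₀]
    exact pow_ne_zero _ hs
  haveI : IsDomain (Localization.Away s ⊗[A] B₀) := isDomain_tensor A B hAB B₀ s hs
  have hinj : Injective (algebraMap B₀ (Localization.Away s ⊗[A] B₀)) :=
    IsLocalization.injective _ hM
  obtain ⟨T, hT⟩ : ∃ T : Type u, T = (Localization.Away s ⊗[A] B₀) := ⟨_, rfl⟩
  set aBT := algebraMap B₀ (Localization.Away s ⊗[A] B₀) with haBT
  set aTF := algebraMap (Localization.Away s ⊗[A] B₀)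
    (FractionRing (Localization.Away s ⊗[A] B₀)) with haTF
  have hTF : Injective aTF := IsFractionRing.injective _ _
  let b₀ : B₀ := ⟨d • b, hdb⟩
  have hδ : aTF (aBT (algebraMap A B₀ d)) ≠ 0 := by
    rw [Ne, map_eq_zero_iff _ hTF, map_eq_zero_iff _ hinj, map_eq_zero_iff _ hAB₀]
    exact hd
  obtain ⟨x, hx⟩ : ∃ x, x = aTF (aBT b₀) / aTF (aBT (algebraMap A B₀ d)) := ⟨_, rfl⟩
  obtain ⟨p, hp, hpb⟩ := hb
  let θ : A →+* FractionRing (Localization.Away s ⊗[A] B₀) :=
    aTF.comp (aBT.comp (algebraMap A B₀))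
  have hxint : IsIntegral (Localization.Away s ⊗[A] B₀) x := by
    refine ⟨p.map (aBT.comp (algebraMap A B₀)), hp.map _, ?_⟩
    rw [Polynomial.eval₂_map]
    have h1 := Polynomial.scaleRoots_eval₂_mul (p := p) θ x d
    have h2 : θ d * x = aTF (aBT b₀) := by
      rw [hx]
      show aTF (aBT (algebraMap A B₀ d)) * _ = _
      field_simp
    have h3 : Polynomial.eval₂ (algebraMap A B₀) b₀ (p.scaleRoots d) = 0 := by
      apply Subtype.val_injective
      have h3a := Polynomial.hom_eval₂ (p.scaleRoots d) (algebraMap A B₀) B₀.val.toRingHom b₀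
      have h4 := Polynomial.scaleRoots_eval₂_mul (p := p) (algebraMap A B) b d
      rw [hpb, mul_zero, ← Algebra.smul_def] at h4
      exact h3a.trans h4
    have h5 : Polynomial.eval₂ θ (aTF (aBT b₀)) (p.scaleRoots d) = 0 := by
      have h5a := Polynomial.hom_eval₂ (p.scaleRoots d) (algebraMap A B₀) (aTF.comp aBT) b₀
      rw [h3, map_zero] at h5a
      exact h5a.symm
    rw [h2, h5] at h1
    have hθd : θ d ^ p.natDegree ≠ 0 := pow_ne_zero _ hδ
    exact (mul_eq_zero.mp h1.symm).resolve_left hθd
  obtain ⟨y, hy⟩ := IsIntegrallyClosed.algebraMap_eq_of_integral hxint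
  obtain ⟨⟨b₁, ⟨_, ⟨_, ⟨k, rfl⟩, rfl⟩⟩⟩, hyk⟩ :=
    IsLocalization.surj (Algebra.algebraMapSubmonoid B₀ (Submonoid.powers s)) y
  refine ⟨k, ?_⟩
  have h6 : aBT (b₀ * algebraMap A B₀ (s ^ k)) = aBT (b₁ * algebraMap A B₀ d) := by
    apply hTF
    have h7 := congrArg aTF hyk
    rw [map_mul] at h7
    change aTF y * aTF (aBT (algebraMap A B₀ (s ^ k))) = aTF (aBT b₁) at h7
    rw [hy, hx] at h7
    rw [map_mul, map_mul, map_mul, map_mul, ← h7]
    field_simp
  have h8 := hinj h6
  have h9 : (d • b) * algebraMap A B (s ^ k) = (b₁ : B) * algebraMap A B d :=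
    congrArg Subtype.val h8
  have hd' : algebraMap A B d ≠ 0 := by
    rw [Ne, map_eq_zero_iff _ hAB]; exact hd
  have h10 : s ^ k • b = (b₁ : B) := by
    apply mul_left_cancel₀ hd'
    rw [Algebra.smul_def] at h9 ⊢
    linear_combination h9
  rw [h10]
  exact b₁.2

end Absorb

section Equiv

variable (A : Type u) [CommRing A] (B : Type u) [CommRing B] [Algebra A B]

theorem bijective_map (B₀ : Subalgebra A B) (s : A) (h : ∀ b : B, ∃ k : ℕ, s ^ k • b ∈ B₀) :
    Function.Bijective (Algebra.TensorProduct.map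
      (AlgHom.id (Localization.Away s) (Localization.Away s)) B₀.val) := by
  constructor
  · have hflat := Module.Flat.lTensor_preserves_injective_linearMap (M := Localization.Away s)
      B₀.val.toLinearMap Subtype.val_injective
    intro x y hxy
    apply hflat
    exact hxy
  · intro t
    induction t using TensorProduct.induction_on with
    | zero => exact ⟨0, map_zero _⟩
    | tmul a b =>
      obtain ⟨k, hk⟩ := h b
      refine ⟨(a * IsLocalization.Away.invSelf s ^ k) ⊗ₜ[A] (⟨s ^ k • b, hk⟩ : B₀), ?_⟩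
      rw [Algebra.TensorProduct.map_tmul]
      show (a * _) ⊗ₜ[A] (s ^ k • b) = a ⊗ₜ[A] b
      rw [← TensorProduct.smul_tmul]
      congr 1
      have hu : algebraMap A (Localization.Away s) s * IsLocalization.Away.invSelf s = 1 :=
        IsLocalization.Away.mul_invSelf s
      rw [Algebra.smul_def, map_pow]
      calc algebraMap A (Localization.Away s) s ^ k * (a * IsLocalization.Away.invSelf s ^ k)
          = a * (algebraMap A (Localization.Away s) s * IsLocalization.Away.invSelf s) ^ k := by
            rw [mul_pow]; ring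
        _ = a := by rw [hu, one_pow, mul_one]
    | add x y hx hy =>
      obtain ⟨x', rfl⟩ := hx
      obtain ⟨y', rfl⟩ := hy
      exact ⟨x' + y', map_add _ _ _⟩

theorem etale_finite_of_absorb (B₀ : Subalgebra A B) [Module.Finite A B₀] (s : A)
    [Algebra.Etale (Localization.Away s) (Localization.Away s ⊗[A] B₀)]
    (h : ∀ b : B, ∃ k : ℕ, s ^ k • b ∈ B₀) :
    Algebra.Etale (Localization.Away s) (Localization.Away s ⊗[A] B) ∧
      Module.Finite (Localization.Away s) (Localization.Away s ⊗[A] B) := by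
  let e : (Localization.Away s ⊗[A] B₀) ≃ₐ[Localization.Away s] (Localization.Away s ⊗[A] B) :=
    AlgEquiv.ofBijective _ (bijective_map A B B₀ s h)
  exact ⟨Algebra.Etale.of_equiv e, Module.Finite.equiv e.toLinearEquiv⟩

end Equiv

end Groth.Agent.Lib.Helper8.NormEtAlg
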