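import Mathlib

/-!
# The generic fibre of an integral closure (helper8)

`A` a domain with fraction field `K`, `L/K` algebraic, `B` the integral closure of `A` in `L`:
then `K ⊗[A] B → L` is bijective.
-/

set_option autoImplicit false
set_option linter.style.haveILetI false

namespace Groth.Agent.Lib.Helper8.NormEtAlg2

open TensorProduct Function

universe u

attribute [local instance] Algebra.TensorProduct.rightAlgebra

variable (A : Type*) [CommRing A] [IsDomain A] (K : Type*) [Field K] [Algebra A K]
  [IsFractionRing A K] (L : Type*) [Field L] [Algebra K L] [Algebra A L] [IsScalarTower A K L]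
  (B : Type*) [CommRing B] [Algebra A B] [Algebra B L] [IsScalarTower A B L]

/-- The canonical map `K ⊗[A] B → L`. -/
noncomputable def mulMap : K ⊗[A] B →ₐ[K] L :=
  Algebra.TensorProduct.lift (Algebra.ofId K L) (IsScalarTower.toAlgHom A B L)
    (fun _ _ => Commute.all _ _)

theorem mulMap_tmul (k : K) (b : B) :
    mulMap A K L B (k ⊗ₜ[A] b) = algebraMap K L k * algebraMap B L b := by
  unfold mulMap
  rw [Algebra.TensorProduct.lift_tmul]
  rfl

theorem injective_mulMap (hBL : Injective (algebraMap B L)) : Injective (mulMap A K L B) := by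
  haveI : IsLocalization (Algebra.algebraMapSubmonoid B (nonZeroDivisors A)) (K ⊗[A] B) :=
    IsLocalization.tensorRight K (nonZeroDivisors A)
  rw [injective_iff_map_eq_zero]
  intro t ht
  obtain ⟨⟨b, m⟩, hbm⟩ :=
    IsLocalization.surj (Algebra.algebraMapSubmonoid B (nonZeroDivisors A)) t
  have h1 : ∀ b' : B, mulMap A K L B (algebraMap B (K ⊗[A] B) b') = algebraMap B L b' := by
    intro b'
    show mulMap A K L B ((1 : K) ⊗ₜ[A] b') = _
    rw [mulMap_tmul, map_one, one_mul]
  have h2 := congrArg (mulMap A K L B) hbm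
  rw [map_mul, ht, zero_mul, h1] at h2
  have hb0 : b = 0 := hBL (by rw [← h2, map_zero])
  dsimp only at hbm
  rw [hb0, map_zero] at hbm
  exact (IsLocalization.map_units (K ⊗[A] B) m).mul_left_eq_zero.mp hbm

theorem bijective_mulMap [Algebra.IsAlgebraic K L] [IsIntegralClosure B A L] :
    Bijective (mulMap A K L B) := by
  refine ⟨injective_mulMap A K L B (IsIntegralClosure.algebraMap_injective B A L), fun l => ?_⟩
  have hz : IsAlgebraic A l :=
    (IsFractionRing.isAlgebraic_iff A K L).mpr (Algebra.IsAlgebraic.isAlgebraic _)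
  obtain ⟨d, hd, hint⟩ := hz.exists_integral_multiple
  obtain ⟨b, hb⟩ := (IsIntegralClosure.isIntegral_iff (A := B)).mp hint
  have hdk : algebraMap A K d ≠ 0 := by
    rw [Ne, map_eq_zero_iff _ (IsFractionRing.injective A K)]; exact hd
  have hdl : algebraMap K L (algebraMap A K d) ≠ 0 := by rwa [Ne, map_eq_zero]
  refine ⟨(algebraMap A K d)⁻¹ ⊗ₜ[A] b, ?_⟩
  rw [mulMap_tmul, hb, Algebra.smul_def, IsScalarTower.algebraMap_apply A K L, map_inv₀]
  field_simp

end Groth.Agent.Lib.Helper8.NormEtAlg2
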