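import Mathlib
import Groth.Agent.Lib.Helper8.DegNormGen
import Groth.Agent.Lib.Helper8.NormEtAlg

/-!
# A finite algebra over a normal domain with enough geometric points is étale near the point
(helper8)
-/

set_option autoImplicit false
set_option linter.style.haveILetI false
universe u
open AlgebraicGeometry CategoryTheory Limits TensorProduct Function

namespace Groth.Agent.Lib.Helper8.NormEtSch

open Groth.Agent.Lib.Helper8.WtSch Groth.Agent.Lib.Helper8.WtBC Groth.Agent.Lib.Helper8.FibIntN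
  Groth.Agent.Lib.Helper8.DegNormGen Groth.Agent.Lib.Helper8.NormEtAlg

attribute [local instance] Algebra.TensorProduct.rightAlgebra

/-- Two base changes of `f` along maps that differ by a factorization: the property transfers. -/
theorem of_isPullback_of_fac {P : MorphismProperty Scheme.{u}} [P.IsStableUnderBaseChange]
    {Z Z' Y' X' S S' : Scheme.{u}} {a : Z ⟶ Y'} {b : Z ⟶ S} {f : Y' ⟶ X'} {g : S ⟶ X'}
    (h : IsPullback a b f g) {a' : Z' ⟶ Y'} {b' : Z' ⟶ S'} {g' : S' ⟶ X'}
    (h' : IsPullback a' b' f g') (c : S' ⟶ S) (hc : c ≫ g = g') (hb : P b) : P b' := by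
  have hw : a' ≫ f = (b' ≫ c) ≫ g := by rw [Category.assoc, hc, h'.w]
  have hl1 : h.lift a' (b' ≫ c) hw ≫ a = a' := h.lift_fst _ _ _
  have hl2 : h.lift a' (b' ≫ c) hw ≫ b = b' ≫ c := h.lift_snd _ _ _
  have big : IsPullback (h.lift a' (b' ≫ c) hw ≫ a) b' f (c ≫ g) := by
    rw [hl1, hc]; exact h'
  exact P.of_isPullback (IsPullback.of_right big hl2 h) hb

theorem stalk_Spec_normal (A : Type u) [CommRing A] [IsDomain A] [IsIntegrallyClosed A]
    (y : PrimeSpectrum A) :
    IsDomain ((Spec (.of A)).presheaf.stalk y) ∧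
      IsIntegrallyClosed ((Spec (.of A)).presheaf.stalk y) := by
  let e : Localization.AtPrime y.asIdeal ≃+* ((Spec (.of A)).presheaf.stalk y) :=
    (StructureSheaf.stalkIso A y).toRingEquiv
  haveI : IsDomain (Localization.AtPrime y.asIdeal) :=
    IsLocalization.isDomain_localization y.asIdeal.primeCompl_le_nonZeroDivisors
  haveI : IsIntegrallyClosed (Localization.AtPrime y.asIdeal) :=
    isIntegrallyClosed_of_isLocalization _ _ y.asIdeal.primeCompl_le_nonZeroDivisors
  exact ⟨MulEquiv.isDomain _ e.symm.toMulEquiv, IsIntegrallyClosed.of_equiv e⟩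

theorem exists_etale_away (A : Type u) [CommRing A] [IsDomain A] [IsIntegrallyClosed A]
    (K : Type u) [Field K] [Algebra A K] [IsFractionRing A K]
    (L : Type u) [Field L] [Algebra K L] [Algebra A L] [IsScalarTower A K L]
    [FiniteDimensional K L]
    (B₀ : Type u) [CommRing B₀] [IsDomain B₀] [Algebra A B₀] [Module.Finite A B₀]
    (ι₀ : B₀ →ₐ[A] L) (hι₀ : Injective ι₀)
    (Ω : Type u) [Field Ω] [IsAlgClosed Ω] [Algebra A Ω]
    (ψ : Fin (Module.finrank K L) → (B₀ →ₐ[A] Ω)) (hψ : Injective ψ) :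
    ∃ s : A, algebraMap A Ω s ≠ 0 ∧
      Algebra.Etale (Localization.Away s) (Localization.Away s ⊗[A] B₀) := by
  classical
  have hAL : Injective (algebraMap A L) := by
    rw [IsScalarTower.algebraMap_eq A K L]
    exact (algebraMap K L).injective.comp (IsFractionRing.injective A K)
  have hAB₀ : Injective (algebraMap A B₀) := by
    intro a a' h
    apply hAL
    rw [← ι₀.commutes a, ← ι₀.commutes a', h]
  let f₀ : Spec (.of B₀) ⟶ Spec (.of A) := Spec.map (CommRingCat.ofHom (algebraMap A B₀))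
  haveI hfin : IsFinite f₀ :=
    (IsFinite.SpecMap_iff _).mpr (RingHom.finite_algebraMap.mpr inferInstance)
  let g : Spec (.of Ω) ⟶ Spec (.of A) := Spec.map (CommRingCat.ofHom (algebraMap A Ω))
  let pt : Spec (.of Ω) := (⟨⊥, Ideal.bot_prime⟩ : PrimeSpectrum Ω)
  let y : Spec (.of A) := g pt
  have hgen : genericPoint (Spec (.of A)) = (⟨⊥, Ideal.bot_prime⟩ : PrimeSpectrum A) := by
    rw [genericPoint_eq_bot_of_affine]; rfl
  have hdom : ∀ x : Spec (.of B₀), (∀ x' : Spec (.of B₀), x' ⤳ x → x' = x) →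
      f₀ x = genericPoint (Spec (.of A)) := by
    intro x hx
    have h1 : (⟨⊥, Ideal.bot_prime⟩ : PrimeSpectrum B₀) ⤳ (x : PrimeSpectrum B₀) :=
      (PrimeSpectrum.le_iff_specializes _ _).mp
        (show (⟨⊥, Ideal.bot_prime⟩ : PrimeSpectrum B₀) ≤ x from
          (bot_le : (⊥ : Ideal B₀) ≤ PrimeSpectrum.asIdeal x))
    have h2 := hx _ h1
    rw [hgen, ← h2]
    apply PrimeSpectrum.ext
    show Ideal.comap (algebraMap A B₀) ⊥ = ⊥
    rw [← RingHom.ker_eq_comap_bot]
    exact (RingHom.injective_iff_ker_eq_bot _).mp hAB₀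
  obtain ⟨hle, heq⟩ := core_gen f₀ y (f₀.finite_preimage_singleton _)
    (f₀.finite_preimage_singleton _) hdom (stalk_Spec_normal A y).1 (stalk_Spec_normal A y).2
  -- the number of geometric points is at least `[L : K]`
  have hN : (Module.finrank K L : ℤ) ≤ MoreMor.fibreIntegral f₀ (fun _ => 1) y := by
    have hpo := CommRingCat.isPushout_of_isPushout A Ω B₀ (Ω ⊗[A] B₀)
    have hpb := (isPullback_SpecMap_of_isPushout _ _ _ _ hpo).flip
    obtain ⟨hGfin, hcard, -⟩ := card_eq_fibreIntegral_of_isPullback f₀ Ω _ _ g hpb pt y rfl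
      (f₀.finite_preimage_singleton _)
    haveI : Finite (PrimeSpectrum (Ω ⊗[A] B₀)) := hGfin
    have hc := le_card_primeSpectrum_tensor A B₀ Ω ψ hψ
    rw [← hcard]
    exact Nat.cast_le.mpr hc
  -- the generic degree is at most `[L : K]`
  have hD : MoreMor.fibreIntegral f₀ (wt f₀) (genericPoint (Spec (.of A))) ≤
      (Module.finrank K L : ℤ) := by
    have hpo := CommRingCat.isPushout_of_isPushout A K B₀ (K ⊗[A] B₀)
    have hpb := (isPullback_SpecMap_of_isPushout _ _ _ _ hpo).flip
    let ptK : Spec (.of K) := (⟨⊥, Ideal.bot_prime⟩ : PrimeSpectrum K)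
    have hgK : (Spec.map (CommRingCat.ofHom (algebraMap A K))) ptK =
        genericPoint (Spec (.of A)) := by
      rw [hgen]
      apply PrimeSpectrum.ext
      show Ideal.comap (algebraMap A K) ⊥ = ⊥
      rw [← RingHom.ker_eq_comap_bot]
      exact (RingHom.injective_iff_ker_eq_bot _).mp (IsFractionRing.injective A K)
    obtain ⟨-, hbc⟩ := fibreIntegral_wt_baseChange f₀
      (Spec.map (CommRingCat.ofHom (algebraMap A K))) _ _ hpb ptK
      (f₀.finite_preimage_singleton _)
    rw [hgK] at hbc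
    rw [← hbc]
    haveI : IsFinite (Spec.map (CommRingCat.ofHom (algebraMap K (K ⊗[A] B₀)))) :=
      (IsFinite.SpecMap_iff _).mpr (RingHom.finite_algebraMap.mpr inferInstance)
    haveI : Flat (Spec.map (CommRingCat.ofHom (algebraMap K (K ⊗[A] B₀)))) :=
      Flat.SpecMap_iff.mpr (RingHom.flat_algebraMap_iff.mpr inferInstance)
    rw [← finrank_eq_fibreIntegral, Scheme.Hom.finrank_SpecMap_algebraMap,
      Module.rankAtStalk_eq_finrank_of_free]
    exact Nat.cast_le.mpr (finrank_tensor_le A K L B₀ ι₀ hι₀)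
  obtain ⟨U, hyU, -, hEt⟩ := heq (le_antisymm hle (hD.trans hN))
  obtain ⟨_, ⟨_, ⟨s, rfl⟩, rfl⟩, hys, hsU⟩ :=
    PrimeSpectrum.isBasis_basic_opens.exists_subset_of_mem_open
      (show y ∈ (U : Set (Spec (.of A))) from hyU) U.2
  refine ⟨s, ?_, ?_⟩
  · intro h0
    apply hys
    show s ∈ Ideal.comap (algebraMap A Ω) ⊥
    rw [Ideal.mem_comap, h0]
    exact Ideal.zero_mem _
  · let j := Spec.map (CommRingCat.ofHom (algebraMap A (Localization.Away s)))
    have hjr : Set.range j ⊆ Set.range U.ι := by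
      rw [Scheme.Opens.range_ι]
      have : Set.range j = (PrimeSpectrum.basicOpen s : Set (PrimeSpectrum A)) :=
        PrimeSpectrum.localization_away_comap_range (Localization.Away s) s
      rw [this]
      exact hsU
    have hk : IsOpenImmersion.lift U.ι j hjr ≫ U.ι = j := IsOpenImmersion.lift_fac _ _ _
    haveI := hEt
    have h1 : IsPullback (pullback.fst (f₀ ∣_ U) (IsOpenImmersion.lift U.ι j hjr) ≫ (f₀ ⁻¹ᵁ U).ι)
        (pullback.snd (f₀ ∣_ U) (IsOpenImmersion.lift U.ι j hjr)) f₀
        (IsOpenImmersion.lift U.ι j hjr ≫ U.ι) :=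
      (IsPullback.of_hasPullback (f₀ ∣_ U) (IsOpenImmersion.lift U.ι j hjr)).paste_horiz
        (isPullback_morphismRestrict f₀ U).flip
    have hpo := CommRingCat.isPushout_of_isPushout A (Localization.Away s) B₀
      (Localization.Away s ⊗[A] B₀)
    have h2 := (isPullback_SpecMap_of_isPushout _ _ _ _ hpo).flip
    have h3 : Etale (Spec.map (CommRingCat.ofHom
        (algebraMap (Localization.Away s) (Localization.Away s ⊗[A] B₀)))) :=
      of_isPullback_of_fac (P := @Etale) h1 h2 (𝟙 _) (by rw [Category.id_comp, hk])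
        inferInstance
    exact RingHom.etale_algebraMap.mp (HasRingHomProperty.Spec_iff.mp h3)

end Groth.Agent.Lib.Helper8.NormEtSch
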