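import Mathlib
import Groth.Prelude.Def_Pi1
import Groth.Agent.Lib.Helper8.NormEtSch
import Groth.Agent.Lib.Helper12.NormField
import Groth.Agent.Lib.Helper24.FEtNormal

/-!
# The normalization of a normal integral scheme in a finite extension of its function field is
finite étale near a geometric point with `[L : K]` distinct lifts (helper8)
-/

set_option autoImplicit false
set_option linter.style.haveILetI false
universe u
open AlgebraicGeometry CategoryTheory Limits TensorProduct Function

namespace Groth.Agent.Lib.Helper8.NormEtMain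

open Groth.Agent.Lib.Helper8.NormEtAlg Groth.Agent.Lib.Helper8.NormEtSch
  Groth.Agent.Lib.Helper12 Groth.Agent.Lib.Helper12.NormGen Groth.Agent.Lib.Helper12.NormField

attribute [local instance] Algebra.TensorProduct.rightAlgebra

theorem alg_main (A : Type u) [CommRing A] [IsDomain A] [IsIntegrallyClosed A]
    (K : Type u) [Field K] [Algebra A K] [IsFractionRing A K]
    (L : Type u) [Field L] [Algebra K L] [Algebra A L] [IsScalarTower A K L]
    [FiniteDimensional K L]
    (B : Type u) [CommRing B] [Algebra A B] [Algebra B L] [IsScalarTower A B L]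
    [IsIntegralClosure B A L]
    (Ω : Type u) [Field Ω] [IsAlgClosed Ω] (φ : A →+* Ω)
    (φs : Fin (Module.finrank K L) → (B →+* Ω)) (hφs : Injective φs)
    (hφA : ∀ i, (φs i).comp (algebraMap A B) = φ) :
    ∃ s : A, φ s ≠ 0 ∧ Algebra.Etale (Localization.Away s) (Localization.Away s ⊗[A] B) ∧
      Module.Finite (Localization.Away s) (Localization.Away s ⊗[A] B) := by
  classical
  have hAL : Injective (algebraMap A L) := by
    rw [IsScalarTower.algebraMap_eq A K L]
    exact (algebraMap K L).injective.comp (IsFractionRing.injective A K)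
  have hBL : Injective (algebraMap B L) := IsIntegralClosure.algebraMap_injective B A L
  have hAB : Injective (algebraMap A B) := by
    intro a a' h
    apply hAL
    rw [IsScalarTower.algebraMap_apply A B L, IsScalarTower.algebraMap_apply A B L, h]
  haveI : IsDomain B := hBL.isDomain _
  haveI : Algebra.IsIntegral A B := IsIntegralClosure.isIntegral_algebra A L
  obtain ⟨B₀, hB₀fin, hsep, hgen⟩ := exists_B0 A K L B φs hφs
  haveI := hB₀fin
  letI : Algebra A Ω := φ.toAlgebra
  let ι₀ : B₀ →ₐ[A] L := (IsScalarTower.toAlgHom A B L).comp B₀.val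
  have hι₀ : Injective ι₀ := hBL.comp Subtype.val_injective
  let ψ : Fin (Module.finrank K L) → (B₀ →ₐ[A] Ω) := fun i =>
    { toRingHom := (φs i).comp B₀.val.toRingHom
      commutes' := fun a => by
        show φs i (algebraMap A B a) = φ a
        exact RingHom.congr_fun (hφA i) a }
  have hψ : Injective ψ := by
    intro i j hij
    by_contra hne
    obtain ⟨b, hb, hbne⟩ := hsep i j hne
    exact hbne (DFunLike.congr_fun hij ⟨b, hb⟩)
  obtain ⟨s, hs, hEt⟩ := exists_etale_away A K L B₀ ι₀ hι₀ Ω ψ hψ
  have hs0 : s ≠ 0 := fun h => hs (by rw [h, map_zero])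
  refine ⟨s, hs, ?_⟩
  haveI := hEt
  haveI : IsDomain (Localization.Away s ⊗[A] B₀) := isDomain_tensor A B hAB B₀ s hs0
  haveI : IsIntegrallyClosed (Localization.Away s ⊗[A] B₀) :=
    isIntegrallyClosed_of_etale_away A s hs0 _
  have habs : ∀ b : B, ∃ k : ℕ, s ^ k • b ∈ B₀ := by
    intro b
    obtain ⟨d, hd, hdb⟩ := hgen b
    exact absorb A B hAB B₀ s hs0 b (Algebra.IsIntegral.isIntegral b) d hd hdb
  exact etale_finite_of_absorb A B B₀ s habs

theorem transfer {X Y : Scheme.{u}} (ν : Y ⟶ X) [IsAffineHom ν] {W : X.Opens}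
    (hW : IsAffineOpen W) (s : Γ(X, W)) (P : MorphismProperty Scheme.{u})
    [P.IsStableUnderBaseChange] :
    letI := (ν.app W).hom.toAlgebra
    P (Spec.map (CommRingCat.ofHom (algebraMap (Localization.Away s)
      (Localization.Away s ⊗[Γ(X, W)] Γ(Y, ν ⁻¹ᵁ W))))) →
    P (pullback.snd ν (Scheme.Hom.opensRange
      (Spec.map (CommRingCat.ofHom (algebraMap Γ(X, W) (Localization.Away s))) ≫
        hW.fromSpec)).ι) := by
  letI := (ν.app W).hom.toAlgebra
  intro hP
  have hV : IsAffineOpen (ν ⁻¹ᵁ W) := hW.preimage ν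
  have sq1 : IsPullback hV.fromSpec (Spec.map (ν.app W)) ν hW.fromSpec := by
    rw [Scheme.Hom.app_eq_appLE]
    refine (IsOpenImmersion.isPullback (Spec.map (ν.appLE W (ν ⁻¹ᵁ W) le_rfl)) hV.fromSpec
      hW.fromSpec ν ?_ ?_).flip
    · exact (IsAffineOpen.SpecMap_appLE_fromSpec ν hW hV le_rfl).symm
    · rw [hW.opensRange_fromSpec, hV.opensRange_fromSpec]
  have hpo := CommRingCat.isPushout_of_isPushout Γ(X, W) (Localization.Away s) Γ(Y, ν ⁻¹ᵁ W)
    (Localization.Away s ⊗[Γ(X, W)] Γ(Y, ν ⁻¹ᵁ W))
  have sq2 := (isPullback_SpecMap_of_isPushout _ _ _ _ hpo).flip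
  have sq := sq2.paste_horiz sq1
  have hr : Set.range (Scheme.Hom.opensRange
      (Spec.map (CommRingCat.ofHom (algebraMap Γ(X, W) (Localization.Away s))) ≫
        hW.fromSpec)).ι = Set.range (Spec.map (CommRingCat.ofHom
          (algebraMap Γ(X, W) (Localization.Away s))) ≫ hW.fromSpec) := by
    rw [Scheme.Opens.range_ι, Scheme.Hom.coe_opensRange]
  exact of_isPullback_of_fac sq (IsPullback.of_hasPullback ν _)
    (IsOpenImmersion.isoOfRangeEq _ _ hr).hom (IsOpenImmersion.isoOfRangeEq_hom_fac _ _ hr) hP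

section Main

variable {X : Scheme.{u}} [IsIntegral X] (L : Type u) [Field L] [Algebra X.functionField L]

local notation "gL" => gmor X (algebraMap X.functionField L)

theorem main (hX : Pi1.IsNormalScheme X) [FiniteDimensional X.functionField L]
    [QuasiCompact gL] [QuasiSeparated gL]
    (Ω : Type u) [Field Ω] [IsAlgClosed Ω] (ξ : Spec (CommRingCat.of Ω) ⟶ X)
    (hcard : Nonempty (Fin (Module.finrank X.functionField L) ↪
      {η : Spec (CommRingCat.of Ω) ⟶ (gL).normalization // η ≫ (gL).fromNormalization = ξ})) :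
    ∃ U : X.Opens, Set.range ξ.base ⊆ (U : Set X) ∧
      Etale (pullback.snd (gL).fromNormalization U.ι) ∧
      IsFinite (pullback.snd (gL).fromNormalization U.ι) := by
  classical
  obtain ⟨emb⟩ := hcard
  let pt : Spec (CommRingCat.of Ω) := (⟨⊥, Ideal.bot_prime⟩ : PrimeSpectrum Ω)
  haveI hsub : Subsingleton ↥(Spec (CommRingCat.of Ω)) :=
    inferInstanceAs (Subsingleton (PrimeSpectrum Ω))
  obtain ⟨W, hW, hxW⟩ := NormAff.exists_affine_mem X (ξ pt)
  have hne : (W : Set X).Nonempty := ⟨_, hxW⟩
  haveI : Nonempty W := ⟨⟨_, hxW⟩⟩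
  have hV : IsAffineOpen ((gL).fromNormalization ⁻¹ᵁ W) := hW.preimage _
  have hmem : (gL).toNormalization (IsLocalRing.closedPoint L) ∈
      (gL).fromNormalization ⁻¹ᵁ W := by
    show (gL).fromNormalization ((gL).toNormalization _) ∈ W
    rw [fromNormalization_toNormalization_apply]
    exact NormAff.genericPoint_mem X hne
  letI algAL : Algebra Γ(X, W) L := ((algebraMap X.functionField L).comp
    (X.presheaf.germ W (genericPoint X) (NormAff.genericPoint_mem X hne)).hom).toAlgebra
  obtain ⟨E, hE1, hE2⟩ := affine_model'' X (algebraMap X.functionField L) hW hne hmem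
  letI algAB : Algebra Γ(X, W) Γ((gL).normalization, (gL).fromNormalization ⁻¹ᵁ W) :=
    ((gL).fromNormalization.app W).hom.toAlgebra
  let ι : Γ((gL).normalization, (gL).fromNormalization ⁻¹ᵁ W) →+* L :=
    (Scheme.stalkClosedPointTo (gL).toNormalization).hom.comp
      ((gL).normalization.presheaf.germ _ _ hmem).hom
  letI algBL : Algebra Γ((gL).normalization, (gL).fromNormalization ⁻¹ᵁ W) L := ι.toAlgebra
  have hEι : ∀ b, ((E b : integralClosure Γ(X, W) L) : L) = ι b := hE2
  haveI : IsScalarTower Γ(X, W) Γ((gL).normalization, (gL).fromNormalization ⁻¹ᵁ W) L :=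
    IsScalarTower.of_algebraMap_eq (fun a => by
      show algebraMap Γ(X, W) L a = ι (((gL).fromNormalization.app W).hom a)
      rw [← hEι, hE1]
      rfl)
  haveI : IsIntegralClosure Γ((gL).normalization, (gL).fromNormalization ⁻¹ᵁ W) Γ(X, W) L :=
    ⟨fun b b' h => E.injective (Subtype.ext ((hEι b).trans (h.trans (hEι b').symm))),
      fun {l} => ⟨fun hl => ⟨E.symm ⟨l, hl⟩, by
        show ι _ = l
        rw [← hEι, E.apply_symm_apply]⟩, fun ⟨b, hb⟩ => hb ▸ (by
        show IsIntegral _ (ι b)
        rw [← hEι]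
        exact (E b).2)⟩⟩
  haveI : IsScalarTower Γ(X, W) X.functionField L := IsScalarTower.of_algebraMap_eq (fun a => rfl)
  haveI : IsFractionRing Γ(X, W) X.functionField :=
    functionField_isFractionRing_of_isAffineOpen X W hW
  haveI : IsIntegrallyClosed Γ(X, W) :=
    Groth.Agent.Lib.Helper24.FEtNormal.isIntegrallyClosed_sections hX hW
  -- ring homomorphisms from the points
  have hrange : ∀ η : Spec (CommRingCat.of Ω) ⟶ (gL).normalization,
      η ≫ (gL).fromNormalization = ξ → Set.range η ⊆ Set.range hV.fromSpec := by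
    intro η hη
    rw [hV.range_fromSpec]
    rintro _ ⟨t, rfl⟩
    show (gL).fromNormalization (η t) ∈ W
    rw [← Scheme.Hom.comp_apply, hη, Subsingleton.elim t pt]
    exact hxW
  have hrangeξ : Set.range ξ ⊆ Set.range hW.fromSpec := by
    rw [hW.range_fromSpec]
    rintro _ ⟨t, rfl⟩
    rw [Subsingleton.elim t pt]
    exact hxW
  have hξ' : IsOpenImmersion.lift hW.fromSpec ξ hrangeξ ≫ hW.fromSpec = ξ :=
    IsOpenImmersion.lift_fac _ _ _
  let φ : Γ(X, W) →+* Ω := (Spec.preimage (IsOpenImmersion.lift hW.fromSpec ξ hrangeξ)).hom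
  let φs : Fin (Module.finrank X.functionField L) →
      (Γ((gL).normalization, (gL).fromNormalization ⁻¹ᵁ W) →+* Ω) := fun i =>
    (Spec.preimage (IsOpenImmersion.lift hV.fromSpec (emb i).1 (hrange _ (emb i).2))).hom
  have hφs : Injective φs := by
    intro i j hij
    have h1 : Spec.preimage (IsOpenImmersion.lift hV.fromSpec (emb i).1 (hrange _ (emb i).2)) =
        Spec.preimage (IsOpenImmersion.lift hV.fromSpec (emb j).1 (hrange _ (emb j).2)) :=
      CommRingCat.hom_ext hij
    have h2 := congrArg Spec.map h1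
    rw [Spec.map_preimage, Spec.map_preimage] at h2
    have h3 : (emb i).1 = (emb j).1 := by
      rw [← IsOpenImmersion.lift_fac hV.fromSpec (emb i).1 (hrange _ (emb i).2), h2,
        IsOpenImmersion.lift_fac]
    exact emb.injective (Subtype.ext h3)
  have hφA : ∀ i, (φs i).comp (algebraMap Γ(X, W)
      Γ((gL).normalization, (gL).fromNormalization ⁻¹ᵁ W)) = φ := by
    intro i
    have h1 : IsOpenImmersion.lift hV.fromSpec (emb i).1 (hrange _ (emb i).2) ≫
        Spec.map ((gL).fromNormalization.app W) =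
        IsOpenImmersion.lift hW.fromSpec ξ hrangeξ := by
      rw [← cancel_mono hW.fromSpec, Category.assoc, hξ', Scheme.Hom.app_eq_appLE,
        IsAffineOpen.SpecMap_appLE_fromSpec _ hW hV le_rfl, ← Category.assoc,
        IsOpenImmersion.lift_fac]
      exact (emb i).2
    have h2 : (gL).fromNormalization.app W ≫
        Spec.preimage (IsOpenImmersion.lift hV.fromSpec (emb i).1 (hrange _ (emb i).2)) =
        Spec.preimage (IsOpenImmersion.lift hW.fromSpec ξ hrangeξ) := by
      apply Spec.map_injective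
      rw [Spec.map_comp, Spec.map_preimage, Spec.map_preimage, h1]
    exact congrArg CommRingCat.Hom.hom h2
  obtain ⟨s, hs, hEt, hFin⟩ := alg_main Γ(X, W) X.functionField L
    Γ((gL).normalization, (gL).fromNormalization ⁻¹ᵁ W) Ω φ φs hφs hφA
  refine ⟨Scheme.Hom.opensRange (Spec.map (CommRingCat.ofHom
    (algebraMap Γ(X, W) (Localization.Away s))) ≫ hW.fromSpec), ?_, ?_, ?_⟩
  · have hu : IsUnit (φ s) := IsUnit.mk0 _ hs
    have hφ : Spec.map (CommRingCat.ofHom φ) = IsOpenImmersion.lift hW.fromSpec ξ hrangeξ :=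
      Spec.map_preimage _
    have hξJ : ξ = Spec.map (CommRingCat.ofHom (IsLocalization.Away.lift
        (S := Localization.Away s) s hu)) ≫
        (Spec.map (CommRingCat.ofHom (algebraMap Γ(X, W) (Localization.Away s))) ≫
          hW.fromSpec) := by
      rw [← Category.assoc, ← Spec.map_comp, ← CommRingCat.ofHom_comp,
        IsLocalization.Away.lift_comp, hφ, hξ']
    rintro _ ⟨t, rfl⟩
    show ξ t ∈ Set.range _
    rw [hξJ]
    exact ⟨_, rfl⟩
  · exact transfer (gL).fromNormalization hW s @Etale
      (HasRingHomProperty.Spec_iff.mpr (RingHom.etale_algebraMap.mpr hEt))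
  · exact transfer (gL).fromNormalization hW s @IsFinite
      ((IsFinite.SpecMap_iff _).mpr (RingHom.finite_algebraMap.mpr hFin))

end Main

end Groth.Agent.Lib.Helper8.NormEtMain
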