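import Mathlib
import Groth.Prelude.Def_Pi1
import Groth.Prelude.Def_FEt
import Groth.Agent.Lib.Helper8.NormEtMain
import Groth.Agent.Lib.Helper8.NormEtAlg2

/-!
# The essential image of restriction of finite étale covers to the generic point (helper8)

For `X` integral normal with function field `K` and `L/K` finite: `Spec L → Spec K` extends to a
finite étale cover of `X` iff the normalization of `X` in `L` is finite étale.
-/

set_option autoImplicit false
set_option linter.style.haveILetI false
universe u
open AlgebraicGeometry CategoryTheory Limits TensorProduct Function TopologicalSpace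

namespace Groth.Agent.Lib.Helper8.NormEtGen

open Groth.Agent.Lib.Helper8.NormEtAlg2 Groth.Agent.Lib.Helper8.NormEtSch
  Groth.Agent.Lib.Helper12 Groth.Agent.Lib.Helper12.NormGen Groth.Agent.Lib.Helper12.NormField

attribute [local instance] Algebra.TensorProduct.rightAlgebra

section Generic

variable {X : Scheme.{u}} [IsIntegral X]

instance : NoetherianSpace ↥(Spec (X.presheaf.stalk (genericPoint X))) :=
  inferInstanceAs (NoetherianSpace (PrimeSpectrum (X.functionField)))

theorem preimage_eq_top (W : X.Opens) [Nonempty W] :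
    X.fromSpecStalk (genericPoint X) ⁻¹ᵁ W = ⊤ := by
  rw [eq_top_iff]
  intro z _
  have h1 : X.fromSpecStalk (genericPoint X) z ⤳ genericPoint X := by
    have : X.fromSpecStalk (genericPoint X) z ∈ Set.range (X.fromSpecStalk (genericPoint X)) :=
      ⟨z, rfl⟩
    rw [Scheme.range_fromSpecStalk] at this
    exact this
  have h2 : genericPoint X ∈ W :=
    ((genericPoint_spec X).mem_open_set_iff W.isOpen).mpr (by simpa using ‹Nonempty W›)
  exact h1.mem_open W.isOpen h2

/-- A normal integral scheme is its own normalization in its generic point (after helper24). -/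
theorem isIso_fromNormalization_generic (hX : Pi1.IsNormalScheme X) :
    IsIso (X.fromSpecStalk (genericPoint X)).fromNormalization := by
  apply IsZariskiLocalAtTarget.of_forall_exists_morphismRestrict
    (P := MorphismProperty.isomorphisms Scheme) fun x => ?_
  obtain ⟨W, hW, hxW, -⟩ := Opens.isBasis_iff_nbhd.mp X.isBasis_affineOpens (Opens.mem_top x)
  have hW' : IsAffineOpen W := hW
  refine ⟨W, hxW, (isIso_morphismRestrict_iff_isIso_app _ hW').mpr ?_⟩
  haveI : Nonempty W := ⟨⟨x, hxW⟩⟩
  rw [Scheme.Hom.fromNormalization_app _ hW']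
  letI := ((X.fromSpecStalk (genericPoint X)).app W).hom.toAlgebra
  suffices h : Function.Bijective (algebraMap Γ(X, W) (integralClosure Γ(X, W)
      Γ(Spec (X.presheaf.stalk (genericPoint X)), X.fromSpecStalk (genericPoint X) ⁻¹ᵁ W))) by
    haveI : IsIso (CommRingCat.ofHom (algebraMap Γ(X, W) (integralClosure Γ(X, W)
      Γ(Spec (X.presheaf.stalk (genericPoint X)), X.fromSpecStalk (genericPoint X) ⁻¹ᵁ W)))) :=
      (ConcreteCategory.isIso_iff_bijective _).mpr h
    infer_instance
  have hη : genericPoint X ∈ W :=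
    ((genericPoint_spec X).mem_open_set_iff W.isOpen).mpr (by simpa using ‹Nonempty W›)
  haveI : IsIso (homOfLE (le_top : X.fromSpecStalk (genericPoint X) ⁻¹ᵁ W ≤ ⊤)) :=
    ⟨⟨homOfLE (by rw [preimage_eq_top W]), Subsingleton.elim _ _, Subsingleton.elim _ _⟩⟩
  let σ : X.functionField ≅ Γ(Spec (X.presheaf.stalk (genericPoint X)),
      X.fromSpecStalk (genericPoint X) ⁻¹ᵁ W) :=
    (Scheme.ΓSpecIso (X.presheaf.stalk (genericPoint X))).symm ≪≫
      asIso ((Spec (X.presheaf.stalk (genericPoint X))).presheaf.map
        (homOfLE (le_top : X.fromSpecStalk (genericPoint X) ⁻¹ᵁ W ≤ ⊤)).op)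
  have hσ : X.germToFunctionField W ≫ σ.hom = (X.fromSpecStalk (genericPoint X)).app W := by
    rw [Scheme.fromSpecStalk_app hη]
    rfl
  have hσ' : ∀ r : Γ(X, W), σ.hom (X.germToFunctionField W r) =
      algebraMap Γ(X, W) Γ(Spec (X.presheaf.stalk (genericPoint X)),
        X.fromSpecStalk (genericPoint X) ⁻¹ᵁ W) r := fun r => by
    have := congrArg (fun k => k.hom r) hσ
    exact this
  haveI : IsIntegrallyClosed Γ(X, W) :=
    Groth.Agent.Lib.Helper24.FEtNormal.isIntegrallyClosed_sections hX hW'
  haveI := functionField_isFractionRing_of_isAffineOpen X W hW'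
  constructor
  · intro a b hab
    have h1 := congrArg Subtype.val hab
    change algebraMap Γ(X, W) _ a = algebraMap Γ(X, W) _ b at h1
    rw [← hσ', ← hσ'] at h1
    have h2 := (ConcreteCategory.bijective_of_isIso σ.hom).1 h1
    exact X.germToFunctionField_injective W h2
  · rintro ⟨c, hc⟩
    obtain ⟨k, rfl⟩ := (ConcreteCategory.bijective_of_isIso σ.hom).2 c
    have hk : IsIntegral Γ(X, W) k := by
      have := IsIntegral.map_of_comp_eq (RingHom.id Γ(X, W)) σ.inv.hom (by
        ext r
        simp only [RingHom.comp_apply, RingHom.id_apply]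
        rw [← hσ' r]
        change algebraMap Γ(X, W) X.functionField r = σ.inv (σ.hom (X.germToFunctionField W r))
        rw [← CategoryTheory.comp_apply, Iso.hom_inv_id]
        rfl) hc
      have e : σ.inv.hom (σ.hom k) = k := by
        rw [← CategoryTheory.comp_apply, Iso.hom_inv_id]
        rfl
      rw [e] at this
      exact this
    obtain ⟨r, hr⟩ := IsIntegrallyClosed.isIntegral_iff.mp hk
    refine ⟨r, Subtype.ext ?_⟩
    change algebraMap Γ(X, W) _ r = σ.hom k
    rw [← hσ', ← hr]
    rfl

theorem isIso_fromNormalization_snd (hX : Pi1.IsNormalScheme X) {Yl : Scheme.{u}} (q : Yl ⟶ X)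
    [Etale q] :
    IsIso (pullback.snd (X.fromSpecStalk (genericPoint X)) q).fromNormalization := by
  haveI := isIso_fromNormalization_generic hX
  have h := Scheme.Hom.normalizationPullback_snd (X.fromSpecStalk (genericPoint X)) q
  rw [← h]
  infer_instance

end Generic

section Main

variable {X : Scheme.{u}} [IsIntegral X] (L : Type u) [Field L] [Algebra X.functionField L]

local notation "gL" => gmor X (algebraMap X.functionField L)

/-- If `Spec L → Spec K` is the generic fibre of a finite étale cover, the normalization in `L`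
is finite étale. -/
theorem forward (hX : Pi1.IsNormalScheme X) [QuasiCompact gL] [QuasiSeparated gL]
    (Z : FEt.Cat X)
    (θ : pullback Z.hom (X.fromSpecStalk (genericPoint X)) ≅ Spec (CommRingCat.of L))
    (hθ : θ.hom ≫ Spec.map (CommRingCat.ofHom (algebraMap X.functionField L)) =
      pullback.snd Z.hom (X.fromSpecStalk (genericPoint X))) :
    Etale (gL).fromNormalization ∧ IsFinite (gL).fromNormalization := by
  have hZ : IsFinite Z.hom ∧ Etale Z.hom := Z.prop
  haveI : IsFinite Z.hom := hZ.1
  haveI : Etale Z.hom := hZ.2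
  haveI : IsIso (pullback.snd (X.fromSpecStalk (genericPoint X)) Z.hom).fromNormalization :=
    isIso_fromNormalization_snd hX Z.hom
  let θ' : pullback (X.fromSpecStalk (genericPoint X)) Z.hom ≅ Spec (CommRingCat.of L) :=
    pullbackSymmetry (X.fromSpecStalk (genericPoint X)) Z.hom ≪≫ θ
  have hθ' : θ'.hom ≫ Spec.map (CommRingCat.ofHom (algebraMap X.functionField L)) =
      pullback.fst (X.fromSpecStalk (genericPoint X)) Z.hom := by
    simp only [θ', Iso.trans_hom, Category.assoc, hθ, pullbackSymmetry_hom_comp_snd]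
  have H : gL = (θ'.inv ≫ pullback.snd (X.fromSpecStalk (genericPoint X)) Z.hom) ≫ Z.hom := by
    rw [Category.assoc, ← pullback.condition, ← hθ', Category.assoc, Iso.inv_hom_id_assoc]
  have hδ1 := (gL).toNormalization_normalizationDesc _ _ H
  have hδ2 := (gL).normalizationDesc_comp _ _ H
  have H₂ : pullback.snd (X.fromSpecStalk (genericPoint X)) Z.hom =
      (θ'.hom ≫ (gL).toNormalization) ≫ (gL).normalizationDesc _ _ H := by
    rw [Category.assoc, hδ1, Iso.hom_inv_id_assoc]
  have hd1 := (pullback.snd (X.fromSpecStalk (genericPoint X))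
    Z.hom).toNormalization_normalizationDesc _ _ H₂
  have hd2 := (pullback.snd (X.fromSpecStalk (genericPoint X))
    Z.hom).normalizationDesc_comp _ _ H₂
  have hrδ : (inv (pullback.snd (X.fromSpecStalk (genericPoint X)) Z.hom).fromNormalization ≫
      (pullback.snd (X.fromSpecStalk (genericPoint X)) Z.hom).normalizationDesc _ _ H₂) ≫
        (gL).normalizationDesc _ _ H = 𝟙 _ := by
    rw [Category.assoc, hd2, IsIso.inv_hom_id]
  have e0 : pullback.snd (X.fromSpecStalk (genericPoint X)) Z.hom ≫
      inv (pullback.snd (X.fromSpecStalk (genericPoint X)) Z.hom).fromNormalization =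
      (pullback.snd (X.fromSpecStalk (genericPoint X)) Z.hom).toNormalization := by
    rw [IsIso.comp_inv_eq]
    exact (Scheme.Hom.toNormalization_fromNormalization _).symm
  have hδr : (gL).normalizationDesc _ _ H ≫
      (inv (pullback.snd (X.fromSpecStalk (genericPoint X)) Z.hom).fromNormalization ≫
      (pullback.snd (X.fromSpecStalk (genericPoint X)) Z.hom).normalizationDesc _ _ H₂) =
        𝟙 _ := by
    apply Scheme.Hom.normalization.hom_ext (gL) _ _ (gL).fromNormalization
    · rw [Category.comp_id, ← Category.assoc, hδ1, Category.assoc, ← Category.assoc _ (inv _),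
        e0, hd1, Iso.inv_hom_id_assoc]
    · have h3 : ∀ {T : Scheme.{u}} (k : Z.left ⟶ T),
          (inv (pullback.snd (X.fromSpecStalk (genericPoint X)) Z.hom).fromNormalization ≫
          (pullback.snd (X.fromSpecStalk (genericPoint X)) Z.hom).normalizationDesc _ _ H₂) ≫
            (gL).normalizationDesc _ _ H ≫ k = k := fun k => by
        rw [← Category.assoc, hrδ, Category.id_comp]
      rw [Category.assoc, ← hδ2, h3]
    · rw [Category.id_comp]
  haveI : IsIso ((gL).normalizationDesc _ _ H) := ⟨_, hδr, hrδ⟩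
  rw [← hδ2]
  exact ⟨inferInstance, inferInstance⟩

/-- The generic fibre of the normalization in `L` is `Spec L`. -/
theorem backward [FiniteDimensional X.functionField L] [QuasiCompact gL] [QuasiSeparated gL] :
    ∃ θ : pullback (gL).fromNormalization (X.fromSpecStalk (genericPoint X)) ≅
        Spec (CommRingCat.of L),
      θ.hom ≫ Spec.map (CommRingCat.ofHom (algebraMap X.functionField L)) =
        pullback.snd (gL).fromNormalization (X.fromSpecStalk (genericPoint X)) := by
  classical
  obtain ⟨W, hW, hxW⟩ := NormAff.exists_affine_mem X (genericPoint X)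
  have hne : (W : Set X).Nonempty := ⟨_, hxW⟩
  haveI : Nonempty W := ⟨⟨_, hxW⟩⟩
  have hV : IsAffineOpen ((gL).fromNormalization ⁻¹ᵁ W) := hW.preimage _
  have hmem : (gL).toNormalization (IsLocalRing.closedPoint L) ∈
      (gL).fromNormalization ⁻¹ᵁ W := by
    show (gL).fromNormalization ((gL).toNormalization _) ∈ W
    rw [fromNormalization_toNormalization_apply]
    exact NormAff.genericPoint_mem X hne
  letI algAL : Algebra Γ(X, W) L := ((algebraMap X.functionField L).comp
    (X.presheaf.germ W (genericPoint X) (NormAff.genericPoint_mem X hne)).hom).toAlgebra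
  obtain ⟨E, hE1, hE2⟩ := affine_model'' X (algebraMap X.functionField L) hW hne hmem
  letI algAB : Algebra Γ(X, W) Γ((gL).normalization, (gL).fromNormalization ⁻¹ᵁ W) :=
    ((gL).fromNormalization.app W).hom.toAlgebra
  let ι : Γ((gL).normalization, (gL).fromNormalization ⁻¹ᵁ W) →+* L :=
    (Scheme.stalkClosedPointTo (gL).toNormalization).hom.comp
      ((gL).normalization.presheaf.germ _ _ hmem).hom
  letI algBL : Algebra Γ((gL).normalization, (gL).fromNormalization ⁻¹ᵁ W) L := ι.toAlgebra
  have hEι : ∀ b, ((E b : integralClosure Γ(X, W) L) : L) = ι b := hE2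
  haveI : IsScalarTower Γ(X, W) Γ((gL).normalization, (gL).fromNormalization ⁻¹ᵁ W) L :=
    IsScalarTower.of_algebraMap_eq (fun a => by
      show algebraMap Γ(X, W) L a = ι (((gL).fromNormalization.app W).hom a)
      rw [← hEι, hE1]
      rfl)
  haveI : IsIntegralClosure Γ((gL).normalization, (gL).fromNormalization ⁻¹ᵁ W) Γ(X, W) L :=
    ⟨fun b b' h => E.injective (Subtype.ext ((hEι b).trans (h.trans (hEι b').symm))),
      fun {l} => ⟨fun hl => ⟨E.symm ⟨l, hl⟩, by
        show ι _ = l
        rw [← hEι, E.apply_symm_apply]⟩, fun ⟨b, hb⟩ => hb ▸ (by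
        show IsIntegral _ (ι b)
        rw [← hEι]
        exact (E b).2)⟩⟩
  haveI : IsScalarTower Γ(X, W) X.functionField L := IsScalarTower.of_algebraMap_eq (fun a => rfl)
  haveI : IsFractionRing Γ(X, W) X.functionField :=
    functionField_isFractionRing_of_isAffineOpen X W hW
  -- the squares
  have sq1 : IsPullback hV.fromSpec (Spec.map ((gL).fromNormalization.app W))
      (gL).fromNormalization hW.fromSpec := by
    rw [Scheme.Hom.app_eq_appLE]
    refine (IsOpenImmersion.isPullback (Spec.map ((gL).fromNormalization.appLE W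
      ((gL).fromNormalization ⁻¹ᵁ W) le_rfl)) hV.fromSpec hW.fromSpec (gL).fromNormalization
        ?_ ?_).flip
    · exact (IsAffineOpen.SpecMap_appLE_fromSpec (gL).fromNormalization hW hV le_rfl).symm
    · rw [hW.opensRange_fromSpec, hV.opensRange_fromSpec]
  have hpo := CommRingCat.isPushout_of_isPushout Γ(X, W) X.functionField
    Γ((gL).normalization, (gL).fromNormalization ⁻¹ᵁ W)
    (X.functionField ⊗[Γ(X, W)] Γ((gL).normalization, (gL).fromNormalization ⁻¹ᵁ W))
  have sq2 := (isPullback_SpecMap_of_isPushout _ _ _ _ hpo).flip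
  have sq := sq2.paste_horiz sq1
  have hj : Spec.map (CommRingCat.ofHom (algebraMap Γ(X, W) X.functionField)) ≫ hW.fromSpec =
      X.fromSpecStalk (genericPoint X) := hW.fromSpecStalk_eq_fromSpecStalk hxW
  have sq' : IsPullback
      (Spec.map (CommRingCat.ofHom (algebraMap
        Γ((gL).normalization, (gL).fromNormalization ⁻¹ᵁ W)
        (X.functionField ⊗[Γ(X, W)] Γ((gL).normalization, (gL).fromNormalization ⁻¹ᵁ W)))) ≫
        hV.fromSpec)
      (Spec.map (CommRingCat.ofHom (algebraMap X.functionField
        (X.functionField ⊗[Γ(X, W)] Γ((gL).normalization, (gL).fromNormalization ⁻¹ᵁ W)))))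
      (gL).fromNormalization (X.fromSpecStalk (genericPoint X)) := by
    rw [← hj]
    exact sq
  let μeq : (X.functionField ⊗[Γ(X, W)] Γ((gL).normalization, (gL).fromNormalization ⁻¹ᵁ W))
      ≃ₐ[X.functionField] L := AlgEquiv.ofBijective _ (bijective_mulMap Γ(X, W) X.functionField L
        Γ((gL).normalization, (gL).fromNormalization ⁻¹ᵁ W))
  let iso₂ : Spec (CommRingCat.of L) ≅ Spec (CommRingCat.of
      (X.functionField ⊗[Γ(X, W)] Γ((gL).normalization, (gL).fromNormalization ⁻¹ᵁ W))) :=
    Scheme.Spec.mapIso (μeq.toRingEquiv.toCommRingCatIso).op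
  have hiso₂ : iso₂.hom ≫ Spec.map (CommRingCat.ofHom (algebraMap X.functionField
      (X.functionField ⊗[Γ(X, W)] Γ((gL).normalization, (gL).fromNormalization ⁻¹ᵁ W)))) =
      Spec.map (CommRingCat.ofHom (algebraMap X.functionField L)) := by
    show Spec.map (μeq.toRingEquiv.toCommRingCatIso).hom ≫ _ = _
    rw [← Spec.map_comp]
    congr 1
    ext k
    exact μeq.commutes k
  let iso₁ := (IsPullback.of_hasPullback (gL).fromNormalization
    (X.fromSpecStalk (genericPoint X))).isoIsPullback _ _ sq'
  have hiso₁ : iso₁.hom ≫ Spec.map (CommRingCat.ofHom (algebraMap X.functionField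
      (X.functionField ⊗[Γ(X, W)] Γ((gL).normalization, (gL).fromNormalization ⁻¹ᵁ W)))) =
      pullback.snd (gL).fromNormalization (X.fromSpecStalk (genericPoint X)) :=
    IsPullback.isoIsPullback_hom_snd _ _ _ _
  refine ⟨iso₁ ≪≫ iso₂.symm, ?_⟩
  rw [Iso.trans_hom, Iso.symm_hom, Category.assoc, ← hiso₂, Iso.inv_hom_id_assoc, hiso₁]

theorem main9491 (hX : Pi1.IsNormalScheme X) [FiniteDimensional X.functionField L]
    [QuasiCompact gL] [QuasiSeparated gL]
    (Y₀ : FEt.Cat (Spec X.functionField)) (e : Y₀.left ≅ Spec (CommRingCat.of L))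
    (he : e.hom ≫ Spec.map (CommRingCat.ofHom (algebraMap X.functionField L)) = Y₀.hom) :
    (FEt.restrict (X.fromSpecStalk (genericPoint X))).essImage Y₀ ↔
      (Etale (gL).fromNormalization ∧ IsFinite (gL).fromNormalization) := by
  constructor
  · rintro ⟨Z, ⟨a⟩⟩
    have hw : a.hom.left ≫ Y₀.hom = pullback.snd Z.hom (X.fromSpecStalk (genericPoint X)) :=
      MorphismProperty.Over.w a.hom
    let aL : pullback Z.hom (X.fromSpecStalk (genericPoint X)) ≅ Y₀.left :=
      ⟨a.hom.left, a.inv.left, congrArg (fun k => k.left) a.hom_inv_id,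
        congrArg (fun k => k.left) a.inv_hom_id⟩
    refine forward L hX Z (aL ≪≫ e) ?_
    rw [Iso.trans_hom, Category.assoc, he]
    exact hw
  · rintro ⟨hEt, hFin⟩
    obtain ⟨θ, hθ⟩ := backward (X := X) L
    refine ⟨MorphismProperty.Over.mk ⊤ (gL).fromNormalization ⟨hFin, hEt⟩, ⟨?_⟩⟩
    refine MorphismProperty.Over.isoMk (θ ≪≫ e.symm) ?_
    show (θ ≪≫ e.symm).hom ≫ Y₀.hom =
      pullback.snd (gL).fromNormalization (X.fromSpecStalk (genericPoint X))
    rw [Iso.trans_hom, Iso.symm_hom, Category.assoc, ← he, Iso.inv_hom_id_assoc, hθ]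

end Main

end Groth.Agent.Lib.Helper8.NormEtGen
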