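import Mathlib
import Groth.Prelude.Def_Brnch
import Groth.Agent.Lib.Helper12.NormAff
import Groth.Agent.Lib.Helper8.NormFibreRing

/-!
# Branches of an integral scheme at a point vs. the fibre of the normalization (scheme level)

Helper library for S7657.
-/

set_option autoImplicit false
universe u

namespace Groth.Agent.Lib.Helper8.NormFibre

open AlgebraicGeometry CategoryTheory
open Groth.Agent.Lib.Helper12

section General

theorem mem_primeIdealOf_iff {Y : Scheme.{u}} {V : Y.Opens} (hV : IsAffineOpen V) (y : Y)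
    (hy : y ∈ V) (b : Γ(Y, V)) :
    b ∈ (hV.primeIdealOf ⟨y, hy⟩).asIdeal ↔ (Y.evaluation V y hy).hom b = 0 := by
  letI := Y.presheaf.algebra_section_stalk (U := V) ⟨y, hy⟩
  haveI := hV.isLocalization_stalk ⟨y, hy⟩
  rw [← IsLocalization.AtPrime.to_map_mem_maximal_iff (Y.presheaf.stalk y)
    (hV.primeIdealOf ⟨y, hy⟩).asIdeal b]
  exact (IsLocalRing.residue_eq_zero_iff _).symm

theorem comap_primeIdealOf {Y X : Scheme.{u}} (f : Y ⟶ X) {U : X.Opens} (hU : IsAffineOpen U)
    (hV : IsAffineOpen (f ⁻¹ᵁ U)) (y : Y) (hy : f y ∈ U) :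
    (hV.primeIdealOf ⟨y, hy⟩).asIdeal.comap (f.app U).hom =
      (hU.primeIdealOf ⟨f y, hy⟩).asIdeal := by
  have := IsAffineOpen.comap_primeIdealOf_appLE (f := f) (x := y) U hU (f ⁻¹ᵁ U) hV le_rfl hy
  rw [← Scheme.Hom.app_eq_appLE] at this
  exact congrArg PrimeSpectrum.asIdeal this

theorem primeIdealOf_injective {Y : Scheme.{u}} {V : Y.Opens} (hV : IsAffineOpen V) :
    Function.Injective hV.primeIdealOf := by
  intro a b h
  apply Subtype.ext
  rw [← hV.fromSpec_primeIdealOf a, ← hV.fromSpec_primeIdealOf b, h]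

theorem exists_primeIdealOf_eq {Y : Scheme.{u}} {V : Y.Opens} (hV : IsAffineOpen V)
    (P : PrimeSpectrum Γ(Y, V)) : ∃ y : V, hV.primeIdealOf y = P := by
  refine ⟨hV.isoSpec.inv P, ?_⟩
  show hV.isoSpec.hom (hV.isoSpec.inv P) = P
  rw [← Scheme.Hom.comp_apply, Iso.inv_hom_id]
  rfl

theorem exists_fibre_equiv {Y X : Scheme.{u}} (f : Y ⟶ X) (x : X) {U : X.Opens}
    (hU : IsAffineOpen U) (hV : IsAffineOpen (f ⁻¹ᵁ U)) (hxU : x ∈ U) :
    ∃ e : {y : Y // f y = x} ≃
        {P : PrimeSpectrum Γ(Y, f ⁻¹ᵁ U) //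
          P.asIdeal.comap (f.app U).hom = (hU.primeIdealOf ⟨x, hxU⟩).asIdeal},
      ∀ (y : Y) (hy : f y = x) (hyU : f y ∈ U),
        (e ⟨y, hy⟩).1 = hV.primeIdealOf ⟨y, hyU⟩ := by
  have hmem : ∀ y : {y : Y // f y = x}, f y.1 ∈ U := fun y => by
    rw [y.2]
    exact hxU
  have hcond : ∀ y : {y : Y // f y = x},
      (hV.primeIdealOf ⟨y.1, hmem y⟩).asIdeal.comap (f.app U).hom =
        (hU.primeIdealOf ⟨x, hxU⟩).asIdeal := by
    rintro ⟨y, rfl⟩
    exact comap_primeIdealOf f hU hV y _
  refine ⟨Equiv.ofBijective (fun y => ⟨hV.primeIdealOf ⟨y.1, hmem y⟩, hcond y⟩) ⟨?_, ?_⟩,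
    fun y hy hyU => rfl⟩
  · intro y₁ y₂ h
    have h1 : hV.primeIdealOf ⟨y₁.1, hmem y₁⟩ = hV.primeIdealOf ⟨y₂.1, hmem y₂⟩ :=
      congrArg Subtype.val h
    have h2 := primeIdealOf_injective hV h1
    exact Subtype.ext (Subtype.mk.inj h2)
  · rintro ⟨P, hP⟩
    obtain ⟨⟨y, hyV⟩, rfl⟩ := exists_primeIdealOf_eq hV P
    have hy : f y = x := by
      have h3 := comap_primeIdealOf f hU hV y hyV
      rw [hP] at h3
      have h4 : hU.primeIdealOf ⟨x, hxU⟩ = hU.primeIdealOf ⟨f y, hyV⟩ := PrimeSpectrum.ext h3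
      exact (congrArg Subtype.val (primeIdealOf_injective hU h4)).symm
    exact ⟨⟨y, hy⟩, rfl⟩

end General

section Normalization

variable (X : Scheme.{u}) [IsIntegral X]
  [QuasiCompact (X.fromSpecStalk (genericPoint X))]
  [QuasiSeparated (X.fromSpecStalk (genericPoint X))]


theorem card_emb_eq_sch (x : X) (x' : (X.fromSpecStalk (genericPoint X)).normalization) (hx' : (X.fromSpecStalk (genericPoint X)).fromNormalization x' = x) {U : X.Opens} (hU : IsAffineOpen U)
    (hxU : x ∈ U) (hx'U : (X.fromSpecStalk (genericPoint X)).fromNormalization x' ∈ U)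
    (β : Γ((X.fromSpecStalk (genericPoint X)).normalization, (X.fromSpecStalk (genericPoint X)).fromNormalization ⁻¹ᵁ U) →+* CAlg2.normRed (X.presheaf.stalk x))
    (hβ1 : ∀ r : Γ(X, U), β (((X.fromSpecStalk (genericPoint X)).fromNormalization.app U).hom r) =
      algebraMap (CAlg2.red (X.presheaf.stalk x)) (CAlg2.normRed (X.presheaf.stalk x))
        (Ideal.Quotient.mk (nilradical (X.presheaf.stalk x))
          ((X.presheaf.germ U x hxU).hom r)))
    (m' : MaximalSpectrum (CAlg2.normRed (X.presheaf.stalk x)))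
    (hm' : m'.asIdeal.comap β = ((hU.preimage (X.fromSpecStalk (genericPoint X)).fromNormalization).primeIdealOf ⟨x', hx'U⟩).asIdeal)
    (hgen : ∀ z : CAlg2.normRed (X.presheaf.stalk x) ⧸ m'.asIdeal, ∃ b b' : Γ((X.fromSpecStalk (genericPoint X)).normalization, (X.fromSpecStalk (genericPoint X)).fromNormalization ⁻¹ᵁ U),
      Ideal.Quotient.mk m'.asIdeal (β b') ≠ 0 ∧
        z * Ideal.Quotient.mk m'.asIdeal (β b') = Ideal.Quotient.mk m'.asIdeal (β b)) :
    ENat.card (Brnch.Emb (X.presheaf.stalk x) m') =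
      (letI := ((X.fromSpecStalk (genericPoint X)).fromNormalization.residueFieldMap x').hom.toAlgebra
       ENat.card (Field.Emb (X.residueField ((X.fromSpecStalk (genericPoint X)).fromNormalization x')) ((X.fromSpecStalk (genericPoint X)).normalization.residueField x'))) := by
  subst hx'
  have hV : IsAffineOpen ((X.fromSpecStalk (genericPoint X)).fromNormalization ⁻¹ᵁ U) := hU.preimage (X.fromSpecStalk (genericPoint X)).fromNormalization
  let ev₁ : Γ((X.fromSpecStalk (genericPoint X)).normalization, (X.fromSpecStalk (genericPoint X)).fromNormalization ⁻¹ᵁ U) →+* (X.fromSpecStalk (genericPoint X)).normalization.residueField x' := ((X.fromSpecStalk (genericPoint X)).normalization.evaluation ((X.fromSpecStalk (genericPoint X)).fromNormalization ⁻¹ᵁ U) x' hxU).hom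
  let ev₂ : Γ((X.fromSpecStalk (genericPoint X)).normalization, (X.fromSpecStalk (genericPoint X)).fromNormalization ⁻¹ᵁ U) →+* CAlg2.normRed (X.presheaf.stalk ((X.fromSpecStalk (genericPoint X)).fromNormalization x')) ⧸ m'.asIdeal :=
    (Ideal.Quotient.mk m'.asIdeal).comp β
  have hker : RingHom.ker ev₁ = RingHom.ker ev₂ := by
    ext b
    rw [RingHom.mem_ker, RingHom.mem_ker, ← mem_primeIdealOf_iff hV x' hxU b, ← hm']
    show _ ↔ Ideal.Quotient.mk _ (β b) = 0
    rw [Ideal.Quotient.eq_zero_iff_mem]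
    rfl
  haveI : m'.asIdeal.IsMaximal := m'.isMaximal
  letI : Field (CAlg2.normRed (X.presheaf.stalk ((X.fromSpecStalk (genericPoint X)).fromNormalization x')) ⧸ m'.asIdeal) :=
    Ideal.Quotient.field _
  obtain ⟨e, he⟩ := exists_ringEquiv_of_ker_eq ev₁ ev₂ hker
    (NormAff.evaluation_gen hV x' hxU) hgen
  symm
  refine @card_emb_eq_of_ringEquiv (X.presheaf.stalk ((X.fromSpecStalk (genericPoint X)).fromNormalization x')) _ _ m' ((X.fromSpecStalk (genericPoint X)).normalization.residueField x') _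
    (((X.fromSpecStalk (genericPoint X)).fromNormalization.residueFieldMap x').hom.toAlgebra) e ?_
  letI := X.presheaf.algebra_section_stalk (U := U) ⟨(X.fromSpecStalk (genericPoint X)).fromNormalization x', hxU⟩
  haveI := hU.isLocalization_stalk ⟨(X.fromSpecStalk (genericPoint X)).fromNormalization x', hxU⟩
  have hhom : ((e : (X.fromSpecStalk (genericPoint X)).normalization.residueField x' →+* _).comp
      (((X.fromSpecStalk (genericPoint X)).fromNormalization.residueFieldMap x').hom.comp (X.residue ((X.fromSpecStalk (genericPoint X)).fromNormalization x')).hom)) =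
      Brnch.toResidue (X.presheaf.stalk ((X.fromSpecStalk (genericPoint X)).fromNormalization x')) m' := by
    apply IsLocalization.ringHom_ext (hU.primeIdealOf ⟨(X.fromSpecStalk (genericPoint X)).fromNormalization x', hxU⟩).asIdeal.primeCompl
    ext r
    have hc : ((X.fromSpecStalk (genericPoint X)).fromNormalization.residueFieldMap x').hom ((X.evaluation U ((X.fromSpecStalk (genericPoint X)).fromNormalization x') hxU).hom r) =
        ((X.fromSpecStalk (genericPoint X)).normalization.evaluation ((X.fromSpecStalk (genericPoint X)).fromNormalization ⁻¹ᵁ U) x' hxU).hom (((X.fromSpecStalk (genericPoint X)).fromNormalization.app U).hom r) :=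
      congr($(NormAff.evaluation_comm X x' hxU) r)
    exact (congrArg e hc).trans ((he _).trans (congrArg (Ideal.Quotient.mk _) (hβ1 r)))
  exact fun a => congr($hhom a)

theorem main_sch (x : X) :
    ∃ Ψ : {x' : (X.fromSpecStalk (genericPoint X)).normalization // (X.fromSpecStalk (genericPoint X)).fromNormalization x' = x} ≃ MaximalSpectrum (CAlg2.normRed (X.presheaf.stalk x)),
      ∀ x' : {x' : (X.fromSpecStalk (genericPoint X)).normalization // (X.fromSpecStalk (genericPoint X)).fromNormalization x' = x},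
        ENat.card (Brnch.Emb (X.presheaf.stalk x) (Ψ x')) =
          (letI := ((X.fromSpecStalk (genericPoint X)).fromNormalization.residueFieldMap x'.1).hom.toAlgebra
           ENat.card (Field.Emb (X.residueField ((X.fromSpecStalk (genericPoint X)).fromNormalization x'.1)) ((X.fromSpecStalk (genericPoint X)).normalization.residueField x'.1))) := by
  obtain ⟨U, hU, hxU⟩ := NormAff.exists_affine_mem X x
  have hne : (U : Set X).Nonempty := ⟨x, hxU⟩
  haveI : Nonempty U := ⟨⟨x, hxU⟩⟩
  have hV : IsAffineOpen ((X.fromSpecStalk (genericPoint X)).fromNormalization ⁻¹ᵁ U) := hU.preimage (X.fromSpecStalk (genericPoint X)).fromNormalization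
  letI algRB : Algebra Γ(X, U) Γ((X.fromSpecStalk (genericPoint X)).normalization, (X.fromSpecStalk (genericPoint X)).fromNormalization ⁻¹ᵁ U) := ((X.fromSpecStalk (genericPoint X)).fromNormalization.app U).hom.toAlgebra
  obtain ⟨hdom, hinj, hbir, hic⟩ := NormAff.sections_props X hU hne
  haveI : Algebra.IsIntegral Γ(X, U) Γ((X.fromSpecStalk (genericPoint X)).normalization, (X.fromSpecStalk (genericPoint X)).fromNormalization ⁻¹ᵁ U) := ⟨IsIntegralHom.isIntegral_app (X.fromSpecStalk (genericPoint X)).fromNormalization U hU⟩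
  letI algRA : Algebra Γ(X, U) (X.presheaf.stalk x) :=
    X.presheaf.algebra_section_stalk (U := U) ⟨x, hxU⟩
  haveI hloc : IsLocalization.AtPrime (X.presheaf.stalk x)
      (hU.primeIdealOf ⟨x, hxU⟩).asIdeal := hU.isLocalization_stalk ⟨x, hxU⟩
  obtain ⟨β, Θ, hβ1, hΘ, hgen⟩ := main_ring Γ(X, U) Γ((X.fromSpecStalk (genericPoint X)).normalization, (X.fromSpecStalk (genericPoint X)).fromNormalization ⁻¹ᵁ U) (X.presheaf.stalk x)
    (hU.primeIdealOf ⟨x, hxU⟩).asIdeal hinj hbir
  obtain ⟨e, he⟩ := exists_fibre_equiv (X.fromSpecStalk (genericPoint X)).fromNormalization x hU hV hxU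
  refine ⟨e.trans Θ.symm, ?_⟩
  rintro ⟨x', hx'⟩
  have hx'U : (X.fromSpecStalk (genericPoint X)).fromNormalization x' ∈ U := by
    rw [hx']
    exact hxU
  refine card_emb_eq_sch X x x' hx' hU hxU hx'U β hβ1 _ ?_ (hgen _)
  rw [← hΘ, Equiv.trans_apply, Equiv.apply_symm_apply]
  exact congrArg PrimeSpectrum.asIdeal (he x' hx' hx'U)

end Normalization

end Groth.Agent.Lib.Helper8.NormFibre
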