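import Mathlib

/-!
# Counting maximal ideals of an integral closure by the separable degree

* `exists_pow_mem_range_of_fixed`: an element of a normal extension fixed by all automorphisms has a
  positive power in the base field.
* `exists_algEquiv_comap_eq`: transitivity of `Aut(N/K)` on the primes of the integral closure of an
  integrally closed domain `A` (fraction field `K`) in a finite normal extension `N` lying over a
  given prime of `A`.
* `card_le_finSepDegree`: for `A` moreover local and `L/K` finite, the integral closure of `A` in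
  `L` has at most `[L : K]_s` maximal ideals.
* `card_le_of_finSepDegree_algebraicClosure`: the same for an arbitrary field extension `F/K` whose
  relative algebraic closure has finite separable degree.
* `main`: the version for a local domain `O` whose normalization is local.
-/

set_option autoImplicit false
set_option maxHeartbeats 400000

namespace Groth.Agent.Lib.Helper8.NormMaxCount

open Polynomial

section Fixed

variable {K N : Type*} [Field K] [Field N] [Algebra K N] [Normal K N]

theorem exists_pow_mem_range_of_fixed (y : N) (hy : ∀ g : N ≃ₐ[K] N, g y = y) :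
    ∃ m : ℕ, 0 < m ∧ ∃ k : K, y ^ m = algebraMap K N k := by
  have hint : IsIntegral K y := Normal.isIntegral inferInstance y
  have halg : IsAlgebraic K y := hint.isAlgebraic
  set p := minpoly K y with hp
  have hsp : (p.map (algebraMap K N)).Splits := Normal.splits inferInstance y
  have hmon : (p.map (algebraMap K N)).Monic := (minpoly.monic hint).map _
  have hroots : ∀ z ∈ (p.map (algebraMap K N)).roots, z = y := by
    intro z hz
    have hz' : Polynomial.aeval z p = 0 := by
      rw [Polynomial.mem_roots hmon.ne_zero, Polynomial.IsRoot.def,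
        Polynomial.eval_map_algebraMap] at hz
      exact hz
    obtain ⟨σ, hσ⟩ := minpoly.exists_algEquiv_of_root' halg hz'
    rw [← hσ, hy σ]
  have hrep : (p.map (algebraMap K N)).roots =
      Multiset.replicate (Multiset.card (p.map (algebraMap K N)).roots) y :=
    Multiset.eq_replicate_card.mpr hroots
  have hcard : Multiset.card (p.map (algebraMap K N)).roots = p.natDegree := by
    rw [← hsp.natDegree_eq_card_roots, Polynomial.natDegree_map]
  have hc := hsp.coeff_zero_eq_prod_roots_of_monic hmon
  rw [hrep, Multiset.prod_replicate, hcard, Polynomial.coeff_map, Polynomial.natDegree_map] at hc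
  refine ⟨p.natDegree, minpoly.natDegree_pos hint, (-1) ^ p.natDegree * p.coeff 0, ?_⟩
  rw [map_mul, map_pow, map_neg, map_one, hc, ← mul_assoc, ← mul_pow]
  simp

end Fixed

section T1

variable {A K N : Type*} [CommRing A] [IsDomain A] [IsIntegrallyClosed A] [Field K] [Algebra A K]
  [IsFractionRing A K] [Field N] [Algebra K N] [Algebra A N] [IsScalarTower A K N] [Normal K N]
  [FiniteDimensional K N]

variable (A) in
/-- The action of an automorphism of `N/K` on the integral closure of `A` in `N`. -/
noncomputable def mapC (g : N ≃ₐ[K] N) : integralClosure A N →ₐ[A] integralClosure A N :=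
  ((g : N →ₐ[K] N).restrictScalars A).mapIntegralClosure

theorem exists_algEquiv_comap_eq (P Q : Ideal (integralClosure A N)) [P.IsPrime] [Q.IsPrime]
    (h : P.comap (algebraMap A (integralClosure A N)) =
      Q.comap (algebraMap A (integralClosure A N))) :
    ∃ g : N ≃ₐ[K] N, Q = P.comap (mapC A g) := by
  classical
  cases nonempty_fintype (N ≃ₐ[K] N)
  have key : ∃ g ∈ (Finset.univ : Finset (N ≃ₐ[K] N)), Q ≤ P.comap (mapC A g) := by
    rw [← Ideal.subset_union_prime (1 : N ≃ₐ[K] N) 1 (fun g _ _ _ => Ideal.comap_isPrime _ _)]
    intro b hb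
    let y : integralClosure A N := ∏ g : N ≃ₐ[K] N, mapC A g b
    have hyN : ∀ σ : N ≃ₐ[K] N, σ (y : N) = (y : N) := by
      intro σ
      have hy1 : (y : N) = ∏ g : N ≃ₐ[K] N, g (b : N) := by
        show (integralClosure A N).val (∏ g : N ≃ₐ[K] N, mapC A g b) = _
        rw [map_prod]
        rfl
      rw [hy1, map_prod]
      exact Fintype.prod_equiv (Equiv.mulLeft σ) _ _ (fun g => rfl)
    obtain ⟨m, hm, k, hk⟩ := exists_pow_mem_range_of_fixed (K := K) (y : N) hyN
    have hkint : IsIntegral A k := by
      have h1 : IsIntegral A (algebraMap K N k) := by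
        rw [← hk]
        exact (y ^ m).2
      exact (isIntegral_algebraMap_iff (algebraMap K N).injective).mp h1
    obtain ⟨a, ha⟩ := IsIntegrallyClosed.isIntegral_iff.mp hkint
    have hya : y ^ m = algebraMap A (integralClosure A N) a := by
      apply Subtype.ext
      show (y : N) ^ m = algebraMap A N a
      rw [hk, ← ha, ← IsScalarTower.algebraMap_apply]
    have hb1 : mapC A (1 : N ≃ₐ[K] N) b = b := Subtype.ext rfl
    have hyQ : y ∈ Q :=
      Q.mem_of_dvd (Finset.dvd_prod_of_mem _ (Finset.mem_univ (1 : N ≃ₐ[K] N)))
        (by rw [hb1]; exact hb)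
    have haQ : a ∈ Q.comap (algebraMap A (integralClosure A N)) := by
      rw [Ideal.mem_comap, ← hya]
      exact Ideal.pow_mem_of_mem Q hyQ m hm
    rw [← h, Ideal.mem_comap, ← hya] at haQ
    have hyP : y ∈ P := Ideal.IsPrime.mem_of_pow_mem inferInstance m haQ
    obtain ⟨g, hg1, hg⟩ := (Ideal.IsPrime.prod_mem_iff (p := P)).mp hyP
    exact Set.mem_biUnion (Finset.mem_coe.mpr (Finset.mem_univ g)) hg
  obtain ⟨g, -, hg⟩ := key
  refine ⟨g, ?_⟩
  by_contra hne
  have hlt : Q < P.comap (mapC A g) := lt_of_le_of_ne hg hne
  have h2 := Ideal.IsIntegral.comap_lt_comap (R := A) hlt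
  have hcm : (P.comap (mapC A g)).comap (algebraMap A (integralClosure A N)) =
      P.comap (algebraMap A (integralClosure A N)) := by
    ext a
    simp only [Ideal.mem_comap, AlgHom.commutes]
  rw [hcm, h] at h2
  exact lt_irrefl _ h2

end T1

section T2

variable {A K L N : Type*} [CommRing A] [IsDomain A] [IsIntegrallyClosed A] [IsLocalRing A]
  [Field K] [Algebra A K] [IsFractionRing A K]
  [Field L] [Algebra K L] [Algebra A L] [IsScalarTower A K L]
  [Field N] [Algebra K N] [Algebra A N] [IsScalarTower A K N] [Normal K N] [FiniteDimensional K N]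

variable (A) in
/-- Restriction of a `K`-embedding to integral closures. -/
noncomputable def resC (σ : L →ₐ[K] N) : integralClosure A L →ₐ[A] integralClosure A N :=
  (σ.restrictScalars A).mapIntegralClosure

omit [IsDomain A] [IsIntegrallyClosed A] in
lemma comap_algebraMap_eq_maximalIdeal {R : Type*} [CommRing R] [Algebra A R]
    [Algebra.IsIntegral A R] (M : Ideal R) [M.IsMaximal] :
    M.comap (algebraMap A R) = IsLocalRing.maximalIdeal A :=
  IsLocalRing.eq_maximalIdeal (Ideal.isMaximal_comap_of_isIntegral_of_isMaximal M)

theorem card_le_card_algHom [FiniteDimensional K L] (ι : L →ₐ[K] N)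
    (s : Finset (MaximalSpectrum (integralClosure A L))) : s.card ≤ Nat.card (L →ₐ[K] N) := by
  classical
  obtain ⟨P₀, hP₀⟩ := Ideal.exists_maximal (integralClosure A N)
  haveI := hP₀
  have hmax : ∀ σ : L →ₐ[K] N, (P₀.comap (resC A σ)).IsMaximal := by
    intro σ
    haveI : (P₀.comap (resC A σ)).IsPrime := Ideal.comap_isPrime _ _
    apply Ideal.isMaximal_of_isIntegral_of_isMaximal_comap (R := A)
    have hcm : (P₀.comap (resC A σ)).comap (algebraMap A (integralClosure A L)) =
        P₀.comap (algebraMap A (integralClosure A N)) := by
      ext a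
      simp only [Ideal.mem_comap, AlgHom.commutes]
    rw [hcm, comap_algebraMap_eq_maximalIdeal]
    exact IsLocalRing.maximalIdeal.isMaximal A
  let phi : (L →ₐ[K] N) → MaximalSpectrum (integralClosure A L) :=
    fun σ => ⟨P₀.comap (resC A σ), hmax σ⟩
  have hsurj : Function.Surjective phi := by
    intro q
    let ιC := resC A ι
    letI : Algebra (integralClosure A L) (integralClosure A N) := ιC.toRingHom.toAlgebra
    haveI : IsScalarTower A (integralClosure A L) (integralClosure A N) :=
      IsScalarTower.of_algebraMap_eq (fun a => (ιC.commutes a).symm)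
    haveI : Algebra.IsIntegral (integralClosure A L) (integralClosure A N) :=
      ⟨fun c => (integralClosure.isIntegral c).tower_top⟩
    have hinj : Function.Injective ιC := by
      intro x y hxy
      apply Subtype.ext
      exact (ι : L →+* N).injective (congrArg Subtype.val hxy)
    obtain ⟨Q, hQmax, hQ⟩ := Ideal.exists_ideal_over_maximal_of_isIntegral
      (S := integralClosure A N) q.asIdeal
      (by
        have : RingHom.ker (algebraMap (integralClosure A L) (integralClosure A N)) = ⊥ :=
          (RingHom.injective_iff_ker_eq_bot _).mp hinj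
        rw [this]
        exact bot_le)
    haveI := hQmax
    obtain ⟨g, hg⟩ := exists_algEquiv_comap_eq (K := K) P₀ Q
      (by rw [comap_algebraMap_eq_maximalIdeal, comap_algebraMap_eq_maximalIdeal])
    refine ⟨(g : N →ₐ[K] N).comp ι, ?_⟩
    apply MaximalSpectrum.ext
    show P₀.comap (resC A ((g : N →ₐ[K] N).comp ι)) = q.asIdeal
    rw [← hQ, hg]
    ext x
    simp only [Ideal.mem_comap]
    rfl
  haveI : Finite (L →ₐ[K] N) := inferInstance
  haveI : Finite (MaximalSpectrum (integralClosure A L)) := Finite.of_surjective phi hsurj
  haveI := Fintype.ofFinite (MaximalSpectrum (integralClosure A L))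
  calc s.card ≤ Fintype.card (MaximalSpectrum (integralClosure A L)) := Finset.card_le_univ s
    _ = Nat.card (MaximalSpectrum (integralClosure A L)) := Nat.card_eq_fintype_card.symm
    _ ≤ Nat.card (L →ₐ[K] N) := Nat.card_le_card_of_surjective phi hsurj

end T2

section T2b

variable {A K L : Type*} [CommRing A] [IsDomain A] [IsIntegrallyClosed A] [IsLocalRing A]
  [Field K] [Algebra A K] [IsFractionRing A K]
  [Field L] [Algebra K L] [Algebra A L] [IsScalarTower A K L]

theorem card_le_finSepDegree [FiniteDimensional K L]
    (s : Finset (MaximalSpectrum (integralClosure A L))) :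
    s.card ≤ Field.finSepDegree K L := by
  have h := card_le_card_algHom (A := A) (K := K) (L := L)
    (N := IntermediateField.normalClosure K L (AlgebraicClosure L))
    (IsScalarTower.toAlgHom K L _) s
  rwa [Nat.card_congr (normalClosure.algHomEquiv K L (AlgebraicClosure L))] at h

end T2b

section T3

variable {A K F : Type*} [CommRing A] [IsDomain A] [IsIntegrallyClosed A] [IsLocalRing A]
  [Field K] [Algebra A K] [IsFractionRing A K]
  [Field F] [Algebra K F] [Algebra A F] [IsScalarTower A K F]

theorem card_le_of_finSepDegree_algebraicClosure (n : ℕ) (hn0 : 0 < n)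
    (hn : Field.finSepDegree K (algebraicClosure K F) = n)
    (s : Finset (MaximalSpectrum (integralClosure A F))) : s.card ≤ n := by
  classical
  have hex : ∀ i j : MaximalSpectrum (integralClosure A F), i ≠ j →
      ∃ b : integralClosure A F, b ∈ j.asIdeal ∧ b ∉ i.asIdeal := by
    intro i j hij
    by_contra hcon
    push_neg at hcon
    have hle : j.asIdeal ≤ i.asIdeal := fun b hb => hcon b hb
    exact hij (MaximalSpectrum.ext (j.isMaximal.eq_of_le i.isMaximal.ne_top hle).symm)
  choose! c hc using hex
  let T : Set F := (fun p : MaximalSpectrum (integralClosure A F) ×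
      MaximalSpectrum (integralClosure A F) => ((c p.1 p.2 : integralClosure A F) : F)) ''
      (↑(s ×ˢ s) : Set _)
  have hTfin : T.Finite := (Finset.finite_toSet _).image _
  have hTint : ∀ x ∈ T, IsIntegral K x := by
    rintro _ ⟨p, -, rfl⟩
    exact (c p.1 p.2).2.tower_top
  let L₀ : IntermediateField K F := IntermediateField.adjoin K T
  haveI : Finite T := hTfin.to_subtype
  haveI : FiniteDimensional K L₀ := IntermediateField.finiteDimensional_adjoin hTint
  have hle : L₀ ≤ algebraicClosure K F := le_algebraicClosure K F L₀
  have hdeg : Field.finSepDegree K L₀ ≤ n := by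
    letI : Algebra L₀ (algebraicClosure K F) :=
      (IntermediateField.inclusion hle).toRingHom.toAlgebra
    haveI : IsScalarTower K L₀ (algebraicClosure K F) :=
      IsScalarTower.of_algebraMap_eq
        (fun x => ((IntermediateField.inclusion hle).commutes x).symm)
    haveI : Algebra.IsAlgebraic L₀ (algebraicClosure K F) :=
      Algebra.IsAlgebraic.tower_top (K := K) L₀
    have h1 := Field.finSepDegree_mul_finSepDegree_of_isAlgebraic K L₀ (algebraicClosure K F)
    rw [hn] at h1
    exact Nat.le_of_dvd hn0 ⟨_, h1.symm⟩
  let ρ : integralClosure A L₀ →ₐ[A] integralClosure A F :=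
    (L₀.val.restrictScalars A).mapIntegralClosure
  have hmax : ∀ m : MaximalSpectrum (integralClosure A F), (m.asIdeal.comap ρ).IsMaximal := by
    intro m
    haveI := m.isMaximal
    haveI : (m.asIdeal.comap ρ).IsPrime := Ideal.comap_isPrime _ _
    apply Ideal.isMaximal_of_isIntegral_of_isMaximal_comap (R := A)
    have hcm : (m.asIdeal.comap ρ).comap (algebraMap A (integralClosure A L₀)) =
        m.asIdeal.comap (algebraMap A (integralClosure A F)) := by
      ext a
      simp only [Ideal.mem_comap, AlgHom.commutes]
    rw [hcm, comap_algebraMap_eq_maximalIdeal]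
    exact IsLocalRing.maximalIdeal.isMaximal A
  let ψ : MaximalSpectrum (integralClosure A F) → MaximalSpectrum (integralClosure A L₀) :=
    fun m => ⟨m.asIdeal.comap ρ, hmax m⟩
  have hinj : Set.InjOn ψ (↑s : Set _) := by
    intro i hi j hj hij
    by_contra hne
    obtain ⟨h1, h2⟩ := hc i j hne
    have hmemT : ((c i j : integralClosure A F) : F) ∈ T :=
      ⟨(i, j), Finset.mem_coe.mpr (Finset.mem_product.mpr
        ⟨Finset.mem_coe.mp hi, Finset.mem_coe.mp hj⟩), rfl⟩
    have hmemL : ((c i j : integralClosure A F) : F) ∈ L₀ :=
      IntermediateField.subset_adjoin K T hmemT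
    let b₀ : integralClosure A L₀ := ⟨⟨(c i j : F), hmemL⟩,
      (isIntegral_algHom_iff (L₀.val.restrictScalars A)
        (fun x y hxy => Subtype.ext hxy)).mp (c i j).2⟩
    have hρ : ρ b₀ = c i j := Subtype.ext rfl
    have hb1 : b₀ ∈ (ψ j).asIdeal := by
      show ρ b₀ ∈ j.asIdeal
      rw [hρ]
      exact h1
    have hb2 : b₀ ∉ (ψ i).asIdeal := by
      show ρ b₀ ∉ i.asIdeal
      rw [hρ]
      exact h2
    rw [hij] at hb2
    exact hb2 hb1
  calc s.card = (s.image ψ).card := (Finset.card_image_of_injOn hinj).symm
    _ ≤ Field.finSepDegree K L₀ := card_le_finSepDegree (s.image ψ)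
    _ ≤ n := hdeg

end T3

section Main

variable (O K F : Type*) [CommRing O] [IsDomain O] [Field K] [Algebra O K] [IsFractionRing O K]
  [Field F] [Algebra K F] [Algebra O F] [IsScalarTower O K F]

/-- For a domain `O` with fraction field `K` whose normalization is local, and a field extension
`F/K` whose relative algebraic closure has separable degree `n > 0`: the integral closure of `O` in
`F` has at most `n` maximal ideals. -/
theorem main (hloc : IsLocalRing (integralClosure O K)) (n : ℕ) (hn0 : 0 < n)
    (hn : Field.finSepDegree K (algebraicClosure K F) = n)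
    (s : Finset (MaximalSpectrum (integralClosure O F).toSubring)) : s.card ≤ n := by
  classical
  haveI := hloc
  haveI : IsIntegrallyClosed (integralClosure O K) :=
    integralClosure.isIntegrallyClosedOfFiniteExtension K
  haveI : IsFractionRing (integralClosure O K) K :=
    integralClosure.isFractionRing_of_finite_extension K K
  have hmem : ∀ x : F, IsIntegral (integralClosure O K) x ↔ IsIntegral O x := fun x =>
    ⟨fun hx => isIntegral_trans x hx, fun hx => hx.tower_top⟩
  let e' : integralClosure (integralClosure O K) F →+* (integralClosure O F).toSubring :=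
    { toFun := fun y => ⟨y.1, (hmem y.1).mp y.2⟩
      map_one' := rfl
      map_mul' := fun _ _ => rfl
      map_zero' := rfl
      map_add' := fun _ _ => rfl }
  have hsurj : Function.Surjective e' := fun x => ⟨⟨x.1, (hmem x.1).mpr x.2⟩, rfl⟩
  let θ : MaximalSpectrum (integralClosure O F).toSubring →
      MaximalSpectrum (integralClosure (integralClosure O K) F) :=
    fun m => ⟨m.asIdeal.comap e', by
      haveI := m.isMaximal
      exact Ideal.comap_isMaximal_of_surjective e' hsurj⟩
  have hθ : Function.Injective θ := by
    intro m m' h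
    apply MaximalSpectrum.ext
    exact Ideal.comap_injective_of_surjective e' hsurj (congrArg MaximalSpectrum.asIdeal h)
  calc s.card = (s.image θ).card := (Finset.card_image_of_injective s hθ).symm
    _ ≤ n := card_le_of_finSepDegree_algebraicClosure (A := integralClosure O K) (K := K)
      (F := F) n hn0 hn _

end Main

end Groth.Agent.Lib.Helper8.NormMaxCount
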