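import Mathlib
import Groth.Prelude.Def_ega3
import Groth.Prelude.Def_CAlg2
import Groth.Agent.Lib.Helper13.SteinCount
import Groth.Agent.Lib.Helper13.UnibranchAlg
import Groth.Agent.Lib.Helper8.NormMaxCount

/-!
# Connected components of fibres over unibranch points (S4484)

Combines `Helper13.SteinCount.card_connectedComponents_le` (the number of connected components of a
fibre of a proper dominant morphism is at most the number of maximal ideals of the integral closure
of the local ring in the function field) with `Helper8.NormMaxCount.main`.
-/

set_option autoImplicit false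
set_option maxHeartbeats 400000

universe u

open AlgebraicGeometry CategoryTheory

namespace Groth.Agent.Lib.Helper8.NormMaxCountSch

theorem main {X Y : Scheme.{u}} [IsIntegral X] [IsIntegral Y] [IsLocallyNoetherian X]
    [IsLocallyNoetherian Y] (f : X ⟶ Y) [IsProper f]
    (hdom : f.base (genericPoint X) ⤳ genericPoint Y)
    [Algebra Y.functionField X.functionField]
    (halg : algebraMap Y.functionField X.functionField =
      CohIII.stalkToFunctionField f (genericPoint Y) hdom)
    (n : ℕ) (hn0 : 0 < n)
    (hn : Field.finSepDegree Y.functionField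
      ↥(algebraicClosure Y.functionField X.functionField) = n)
    (y : Y) (hy : CAlg2.IsUnibranch (Y.presheaf.stalk y)) :
    Finite (_root_.ConnectedComponents ↥(f.fiber y)) ∧
      Nat.card (_root_.ConnectedComponents ↥(f.fiber y)) ≤ n := by
  have hgy : genericPoint Y ⤳ y := genericPoint_specializes y
  have h : f.base (genericPoint X) ⤳ y := hdom.trans hgy
  have hcard := Groth.Agent.Lib.Helper13.SteinCount.card_connectedComponents_le f y h
  letI : Algebra (Y.presheaf.stalk y) X.functionField :=
    (CohIII.stalkToFunctionField f y h).toAlgebra
  haveI : IsScalarTower (Y.presheaf.stalk y) Y.functionField X.functionField := by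
    apply IsScalarTower.of_algebraMap_eq'
    rw [halg]
    show CohIII.stalkToFunctionField f y h =
      (CohIII.stalkToFunctionField f (genericPoint Y) hdom).comp
        (algebraMap (Y.presheaf.stalk y) Y.functionField)
    unfold CohIII.stalkToFunctionField
    rw [RingHom.comp_assoc]
    congr 1
    show _ = (Y.presheaf.stalkSpecializes hdom).hom.comp
      (Y.presheaf.stalkSpecializes ((genericPoint_spec Y).specializes trivial)).hom
    rw [← CommRingCat.hom_comp, TopCat.Presheaf.stalkSpecializes_comp]
  have hloc := Groth.Agent.Lib.Helper13.UnibranchAlg.isLocalRing_integralClosure_of_isUnibranch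
    (Y.presheaf.stalk y) Y.functionField hy
  have hfin : ∀ s : Finset (MaximalSpectrum (CohIII.integralClosureStalk f y h)), s.card ≤ n :=
    Groth.Agent.Lib.Helper8.NormMaxCount.main (Y.presheaf.stalk y) Y.functionField
      X.functionField hloc n hn0 hn
  haveI : Fintype (MaximalSpectrum (CohIII.integralClosureStalk f y h)) :=
    fintypeOfFinsetCardLe n hfin
  have hcard2 : Cardinal.mk (MaximalSpectrum (CohIII.integralClosureStalk f y h)) ≤
      (n : Cardinal) := by
    rw [Cardinal.mk_fintype]
    exact_mod_cast hfin Finset.univ
  have hle : Cardinal.mk (_root_.ConnectedComponents ↥(f.fiber y)) ≤ (n : Cardinal) :=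
    hcard.trans hcard2
  have hlt : Cardinal.mk (_root_.ConnectedComponents ↥(f.fiber y)) < Cardinal.aleph0 :=
    lt_of_le_of_lt hle (Cardinal.nat_lt_aleph0 n)
  haveI : Finite (_root_.ConnectedComponents ↥(f.fiber y)) := Cardinal.lt_aleph0_iff_finite.mp hlt
  refine ⟨inferInstance, ?_⟩
  have h3 := Cardinal.toNat_le_toNat hle (Cardinal.nat_lt_aleph0 n)
  rw [Cardinal.toNat_natCast] at h3
  exact h3

end Groth.Agent.Lib.Helper8.NormMaxCountSch
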