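import Mathlib
import Groth.Prelude

/-!
# The integral closure of `A` in the fraction field of a subalgebra `W ⊆ E`, inside `E`
-/

set_option autoImplicit false

universe u

namespace Groth.Agent.Lib.Helper8.NormalInter

section field

variable {A E : Type u} [CommRing A] [IsDomain A] [CommRing E] [IsDomain E] [Algebra A E]
  (K F : Type u) [Field K] [Field F] [Algebra A K] [IsFractionRing A K] [Algebra E F]
  [IsFractionRing E F] [Algebra A F] [IsScalarTower A E F] [Algebra K F] [IsScalarTower A K F]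
  (hAE : Function.Injective (algebraMap A E)) (W : Subalgebra A E)

/-- The fraction field of a subalgebra `W` of `E`, inside `F = Frac E`. -/
def fracField : IntermediateField K F where
  carrier := {z | ∃ P ∈ W, ∃ Q ∈ W, Q ≠ 0 ∧ z * algebraMap E F Q = algebraMap E F P}
  mul_mem' := by
    rintro z₁ z₂ ⟨P₁, hP₁, Q₁, hQ₁, h01, e1⟩ ⟨P₂, hP₂, Q₂, hQ₂, h02, e2⟩
    refine ⟨P₁ * P₂, W.mul_mem hP₁ hP₂, Q₁ * Q₂, W.mul_mem hQ₁ hQ₂, mul_ne_zero h01 h02, ?_⟩
    rw [map_mul, map_mul, ← e1, ← e2]; ring
  one_mem' := ⟨1, W.one_mem, 1, W.one_mem, one_ne_zero, by simp⟩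
  add_mem' := by
    rintro z₁ z₂ ⟨P₁, hP₁, Q₁, hQ₁, h01, e1⟩ ⟨P₂, hP₂, Q₂, hQ₂, h02, e2⟩
    refine ⟨P₁ * Q₂ + P₂ * Q₁, W.add_mem (W.mul_mem hP₁ hQ₂) (W.mul_mem hP₂ hQ₁), Q₁ * Q₂,
      W.mul_mem hQ₁ hQ₂, mul_ne_zero h01 h02, ?_⟩
    rw [map_add, map_mul, map_mul, map_mul, ← e1, ← e2]; ring
  zero_mem' := ⟨0, W.zero_mem, 1, W.one_mem, one_ne_zero, by simp⟩
  algebraMap_mem' := by
    intro k
    obtain ⟨a, b, hb, rfl⟩ := IsFractionRing.div_surjective (A := A) k
    have hb0 : b ≠ 0 := nonZeroDivisors.ne_zero hb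
    refine ⟨algebraMap A E a, W.algebraMap_mem a, algebraMap A E b, W.algebraMap_mem b,
      fun h => hb0 (hAE (by rw [h, map_zero])), ?_⟩
    rw [← IsScalarTower.algebraMap_apply A E F, ← IsScalarTower.algebraMap_apply A E F,
      IsScalarTower.algebraMap_apply A K F, IsScalarTower.algebraMap_apply A K F, ← map_mul]
    congr 1
    have : algebraMap A K b ≠ 0 :=
      fun h => hb0 (IsFractionRing.injective A K (by rw [h, map_zero]))
    field_simp
  inv_mem' := by
    rintro z ⟨P, hP, Q, hQ, h0, e⟩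
    by_cases hz : z = 0
    · subst hz
      exact ⟨0, W.zero_mem, 1, W.one_mem, one_ne_zero, by simp⟩
    · have hP0 : P ≠ 0 := by
        rintro rfl
        rw [map_zero] at e
        have hQF : algebraMap E F Q ≠ 0 :=
          fun h => h0 (IsFractionRing.injective E F (by rw [h, map_zero]))
        exact hz ((mul_eq_zero.mp e).resolve_right hQF)
      refine ⟨Q, hQ, P, hP, hP0, ?_⟩
      rw [← e, ← mul_assoc, inv_mul_cancel₀ hz, one_mul]

theorem mem_fracField {z : F} : z ∈ fracField K F hAE W ↔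
    ∃ P ∈ W, ∃ Q ∈ W, Q ≠ 0 ∧ z * algebraMap E F Q = algebraMap E F P := Iff.rfl

/-- The elements of `E` integral over `A` and lying in `Frac W`. -/
def Bsub : Subalgebra A E :=
  integralClosure A E ⊓
    ((fracField K F hAE W).toSubalgebra.restrictScalars A).comap (IsScalarTower.toAlgHom A E F)

theorem mem_Bsub_iff {x : E} : x ∈ Bsub K F hAE W ↔
    IsIntegral A x ∧ ∃ P ∈ W, ∃ Q ∈ W, Q ≠ 0 ∧ x * Q = P := by
  have key : algebraMap E F x ∈ fracField K F hAE W ↔ ∃ P ∈ W, ∃ Q ∈ W, Q ≠ 0 ∧ x * Q = P := by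
    rw [mem_fracField]
    constructor
    · rintro ⟨P, hP, Q, hQ, h0, e⟩
      exact ⟨P, hP, Q, hQ, h0, IsFractionRing.injective E F (by rw [map_mul, e])⟩
    · rintro ⟨P, hP, Q, hQ, h0, e⟩
      exact ⟨P, hP, Q, hQ, h0, by rw [← map_mul, e]⟩
  rw [← key]
  exact Iff.rfl

/-- The map to the fraction field of `W`. -/
noncomputable def toL : Bsub K F hAE W →ₐ[A] (fracField K F hAE W) where
  toFun x := ⟨algebraMap E F x, (Algebra.mem_inf.mp x.2).2⟩
  map_one' := Subtype.ext (map_one (algebraMap E F))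
  map_mul' x y := Subtype.ext (map_mul (algebraMap E F) (x : E) (y : E))
  map_zero' := Subtype.ext (map_zero (algebraMap E F))
  map_add' x y := Subtype.ext (map_add (algebraMap E F) (x : E) (y : E))
  commutes' a := Subtype.ext (IsScalarTower.algebraMap_apply A E F a).symm

theorem toL_coe (x : Bsub K F hAE W) : ((toL K F hAE W x : fracField K F hAE W) : F) =
    algebraMap E F x := rfl

theorem isIntegral_toL (x : Bsub K F hAE W) : IsIntegral A (toL K F hAE W x) := by
  have h1 : IsIntegral A (x : E) := (Algebra.mem_inf.mp x.2).1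
  have h2 : IsIntegral A (algebraMap E F x) := h1.map (IsScalarTower.toAlgHom A E F)
  exact (isIntegral_algHom_iff ((fracField K F hAE W).val.restrictScalars A)
    Subtype.val_injective).mp h2

/-- The map to the integral closure of `A` in the fraction field of `W`. -/
noncomputable def toIC : Bsub K F hAE W →ₐ[A] integralClosure A (fracField K F hAE W) :=
  (toL K F hAE W).codRestrict _ (isIntegral_toL K F hAE W)

theorem toIC_bijective [IsIntegrallyClosed E] : Function.Bijective (toIC K F hAE W) := by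
  constructor
  · intro x y hxy
    have h1 : ((toL K F hAE W x : fracField K F hAE W) : F) = (toL K F hAE W y : _) :=
      congrArg (fun z : integralClosure A (fracField K F hAE W) =>
        ((z : fracField K F hAE W) : F)) hxy
    rw [toL_coe, toL_coe] at h1
    exact Subtype.ext (IsFractionRing.injective E F h1)
  · intro y
    have h1 : IsIntegral A (y : fracField K F hAE W) := y.2
    have h2 : IsIntegral A (((y : fracField K F hAE W) : F)) :=
      h1.map ((fracField K F hAE W).val.restrictScalars A)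
    have h3 : IsIntegral E (((y : fracField K F hAE W) : F)) := h2.tower_top
    obtain ⟨x, hx⟩ := IsIntegrallyClosed.algebraMap_eq_of_integral h3
    have hxint : IsIntegral A x := by
      rw [← hx] at h2
      exact (isIntegral_algHom_iff (IsScalarTower.toAlgHom A E F)
        (IsFractionRing.injective E F)).mp h2
    have hxL : algebraMap E F x ∈ fracField K F hAE W := by
      rw [hx]; exact (y : fracField K F hAE W).2
    refine ⟨⟨x, Algebra.mem_inf.mpr ⟨hxint, hxL⟩⟩, ?_⟩
    apply Subtype.ext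
    apply Subtype.ext
    exact hx

variable [IsIntegrallyClosed A] [IsNoetherianRing A] [IsIntegrallyClosed E]
  [Module.Finite K F] [Algebra.IsSeparable K F]

theorem finite_Bsub : Module.Finite A (Bsub K F hAE W) := by
  haveI : Module.Finite A (integralClosure A (fracField K F hAE W)) :=
    IsIntegralClosure.finite A K (fracField K F hAE W) _
  exact Module.Finite.equiv
    (AlgEquiv.ofBijective (toIC K F hAE W) (toIC_bijective K F hAE W)).symm.toLinearEquiv

theorem isIntegrallyClosed_Bsub : IsIntegrallyClosed (Bsub K F hAE W) := by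
  haveI : IsIntegrallyClosed (integralClosure A (fracField K F hAE W)) :=
    integralClosure.isIntegrallyClosedOfFiniteExtension K
  exact IsIntegrallyClosed.of_equiv
    (AlgEquiv.ofBijective (toIC K F hAE W) (toIC_bijective K F hAE W)).symm.toRingEquiv

theorem exists_mul_mem_Bsub (x : E) (hx : ∃ P ∈ W, ∃ Q ∈ W, Q ≠ 0 ∧ x * Q = P) :
    ∃ d : A, d ≠ 0 ∧ algebraMap A E d * x ∈ Bsub K F hAE W := by
  have h1 : IsAlgebraic K (algebraMap E F x) := Algebra.IsAlgebraic.isAlgebraic _
  have h2 : IsAlgebraic A (algebraMap E F x) := (IsFractionRing.isAlgebraic_iff A K F).mpr h1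
  have h3 : IsAlgebraic A x := (isAlgebraic_algHom_iff (IsScalarTower.toAlgHom A E F)
    (IsFractionRing.injective E F)).mp h2
  obtain ⟨d, hd, hint⟩ := h3.exists_integral_multiple
  refine ⟨d, hd, ?_⟩
  rw [Algebra.smul_def] at hint
  rw [mem_Bsub_iff]
  refine ⟨hint, ?_⟩
  obtain ⟨P, hP, Q, hQ, h0, e⟩ := hx
  exact ⟨algebraMap A E d * P, W.mul_mem (W.algebraMap_mem d) hP, Q, hQ, h0, by rw [mul_assoc, e]⟩

end field

end Groth.Agent.Lib.Helper8.NormalInter
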