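import Mathlib
import Groth.Prelude
import Groth.Agent.Lib.Helper8.NormalSmooth

/-!
# A local domain, essentially of finite type and unramified over a normal domain and containing it,
is flat over it (EGA IV 18.10.1)
-/

set_option autoImplicit false

open IsLocalRing TensorProduct

universe u

namespace Groth.Agent.Lib.Helper8.UnramNormalFlat

/-- An étale algebra over a domain is algebraic. -/
theorem isAlgebraic_of_etale (R P : Type u) [CommRing R] [IsDomain R] [CommRing P] [Algebra R P]
    [Algebra.Etale R P] (p : P) : IsAlgebraic R p := by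
  haveI : Module.Finite (FractionRing R) (FractionRing R ⊗[R] P) :=
    Algebra.FormallyUnramified.finite_of_free _ _
  haveI hflat : Module.Flat R P := inferInstance
  have hι : Function.Injective
      (Algebra.TensorProduct.includeRight : P →ₐ[R] FractionRing R ⊗[R] P) :=
    Algebra.TensorProduct.includeRight_injective (IsFractionRing.injective R (FractionRing R))
  have h1 : IsIntegral (FractionRing R)
      ((Algebra.TensorProduct.includeRight : P →ₐ[R] FractionRing R ⊗[R] P) p) :=
    Algebra.IsIntegral.isIntegral _
  have h3 : IsAlgebraic R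
      ((Algebra.TensorProduct.includeRight : P →ₐ[R] FractionRing R ⊗[R] P) p) :=
    (IsFractionRing.isAlgebraic_iff R (FractionRing R) (FractionRing R ⊗[R] P)).mpr h1.isAlgebraic
  exact (isAlgebraic_algHom_iff _ hι).mp h3

theorem flat_of_unramified (R E : Type u) [CommRing R] [IsDomain R] [IsIntegrallyClosed R]
    [CommRing E] [IsDomain E] [IsLocalRing E] [Algebra R E]
    (hinj : Function.Injective (algebraMap R E))
    [Algebra.EssFiniteType R E] [Algebra.FormallyUnramified R E] :
    Module.Flat R E := by
  classical
  let D₀ : Subalgebra R E := Algebra.EssFiniteType.subalgebra R E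
  let q : Ideal D₀ := (maximalIdeal E).comap (algebraMap D₀ E)
  have hqprime : q.IsPrime := Ideal.comap_isPrime _ _
  have hM : Algebra.EssFiniteType.submonoid R E = q.primeCompl := by
    ext t
    change IsUnit (algebraMap D₀ E t) ↔ ¬ (algebraMap D₀ E t ∈ maximalIdeal E)
    rw [mem_maximalIdeal, mem_nonunits_iff, not_not]
  have hloc : IsLocalization.AtPrime E q := by
    change IsLocalization q.primeCompl E
    rw [← hM]
    infer_instance
  let e₀ : E ≃ₐ[D₀] Localization.AtPrime q :=
    IsLocalization.algEquiv q.primeCompl E (Localization.AtPrime q)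
  have hunr : Algebra.IsUnramifiedAt R q :=
    Algebra.FormallyUnramified.of_equiv (e₀.restrictScalars R)
  obtain ⟨f, hfq, P, φ, hφ⟩ := Algebra.IsUnramifiedAt.exists_hasStandardEtaleSurjectionOn
    (R := R) q
  have hfu : IsUnit (algebraMap D₀ E f) := by
    by_contra h
    exact hfq h
  let lam : Localization.Away f →ₐ[R] E :=
    IsLocalization.Away.liftAlgHom f (f := IsScalarTower.toAlgHom R D₀ E) hfu
  have hlam : ∀ x : D₀, lam (algebraMap D₀ (Localization.Away f) x) = algebraMap D₀ E x := by
    intro x
    simp [lam, IsLocalization.Away.lift_eq]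
  let θ : P.Ring →ₐ[R] E := lam.comp φ
  let r : Ideal P.Ring := (maximalIdeal E).comap θ.toRingHom
  have hrprime : r.IsPrime := Ideal.comap_isPrime _ _
  have hu : ∀ y : r.primeCompl, IsUnit (θ y) := fun y => by
    by_contra hn
    exact y.2 (show θ y ∈ maximalIdeal E from hn)
  let θ' : Localization.AtPrime r →ₐ[R] E :=
    IsLocalization.liftAlgHom (M := r.primeCompl) (f := θ) hu
  have hθ' : ∀ p : P.Ring, θ' (algebraMap P.Ring (Localization.AtPrime r) p) = θ p := by
    intro p
    simp [θ']
  have hθsurj : ∀ x : D₀, ∃ p : P.Ring, θ p = algebraMap D₀ E x := by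
    intro x
    obtain ⟨p, hp⟩ := hφ (algebraMap D₀ (Localization.Away f) x)
    exact ⟨p, by simp only [θ, AlgHom.comp_apply, hp, hlam]⟩
  have hsurj : Function.Surjective θ' := by
    intro d
    obtain ⟨⟨x, t⟩, hxt⟩ := IsLocalization.surj q.primeCompl d
    obtain ⟨px, hpx⟩ := hθsurj x
    obtain ⟨pt, hpt⟩ := hθsurj t
    have htu : IsUnit (algebraMap D₀ E t) := IsLocalization.map_units E t
    have hptr : pt ∈ r.primeCompl := by
      intro hmem
      have h1 : θ pt ∈ maximalIdeal E := hmem
      rw [hpt] at h1
      exact h1 htu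
    refine ⟨IsLocalization.mk' _ px ⟨pt, hptr⟩, ?_⟩
    apply htu.mul_right_cancel
    rw [hxt, ← hpx, ← hpt, ← hθ' pt, ← hθ' px, ← map_mul]
    congr 1
    exact IsLocalization.mk'_spec _ _ _
  -- the localization is a normal domain
  obtain ⟨hdom, -⟩ := NormalSmooth.isDomain_isIntegrallyClosed_of_etale R P.Ring r
  -- injectivity of `θ'`
  have hinj' : Function.Injective θ' := by
    rw [injective_iff_map_eq_zero]
    intro x hx
    by_contra hx0
    obtain ⟨a, s, rfl⟩ := IsLocalization.exists_mk'_eq r.primeCompl x
    have hspec : IsLocalization.mk' (Localization.AtPrime r) a s *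
        algebraMap P.Ring (Localization.AtPrime r) (s : P.Ring) =
        algebraMap P.Ring (Localization.AtPrime r) a := IsLocalization.mk'_spec _ _ _
    have hy0 : algebraMap P.Ring (Localization.AtPrime r) a ≠ 0 := by
      intro h0
      apply hx0
      rw [h0] at hspec
      exact (IsUnit.mul_left_eq_zero (IsLocalization.map_units _ s)).mp hspec
    have hθy : θ' (algebraMap P.Ring (Localization.AtPrime r) a) = 0 := by
      rw [← hspec, map_mul, hx, zero_mul]
    have halg : IsAlgebraic R (algebraMap P.Ring (Localization.AtPrime r) a) :=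
      (isAlgebraic_of_etale R P.Ring a).algebraMap
    obtain ⟨r₀, hr₀, z, hz⟩ := halg.exists_nonzero_dvd (mem_nonZeroDivisors_of_ne_zero hy0)
    apply hr₀
    apply hinj
    rw [map_zero, ← θ'.commutes r₀, hz, map_mul, hθy, zero_mul]
  haveI : Module.Flat R P.Ring := inferInstance
  haveI : Module.Flat R (Localization.AtPrime r) := Module.Flat.trans R P.Ring _
  exact Module.Flat.of_linearEquiv (AlgEquiv.ofBijective θ' ⟨hinj', hsurj⟩).symm.toLinearEquiv

end Groth.Agent.Lib.Helper8.UnramNormalFlat
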