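import Mathlib
import Groth.Prelude
import Groth.Agent.Lib.Helper8.EssEtUtil
import Groth.Agent.Lib.Helper8.UnramNormalFlat
import Groth.Agent.Lib.Helper8.NormalInterA
import Groth.Agent.Lib.Helper8.Hzl.Union

/-!
# Normal local intermediate rings of a strict henselization are unions of essentially étale
local subalgebras (EGA IV 18.?)
-/

set_option autoImplicit false

open IsLocalRing

universe u

namespace Groth.Agent.Lib.Helper8.NormalInter

theorem mem_of_isIntegral {A S : Type u} [CommRing A] [CommRing S] [Algebra A S]
    (D : Subalgebra A S) [IsDomain D] [IsIntegrallyClosed D] (y P Q : S) (hP : P ∈ D) (hQ : Q ∈ D)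
    (hQreg : ∀ z : S, Q * z = 0 → z = 0) (hy : IsIntegral A y) (h : y * Q = P) : y ∈ D := by
  obtain ⟨g, hgm, hg⟩ := hy
  have hgDm : (g.map (algebraMap A D)).Monic := hgm.map _
  let Pd : D := ⟨P, hP⟩
  let Qd : D := ⟨Q, hQ⟩
  have hQd0 : Qd ≠ 0 := by
    intro h0
    have hQ0 : Q = 0 := congrArg Subtype.val h0
    have h1 : (1 : S) = 0 := hQreg 1 (by rw [hQ0, zero_mul])
    exact one_ne_zero (α := D) (Subtype.ext h1)
  have hgy : Polynomial.eval₂ (algebraMap D S) y (g.map (algebraMap A D)) = 0 := by
    rw [Polynomial.eval₂_map, ← IsScalarTower.algebraMap_eq A D S]; exact hg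
  have hev : Polynomial.eval Pd (Polynomial.scaleRoots (g.map (algebraMap A D)) Qd) = 0 := by
    apply Subtype.val_injective
    have h1 := Polynomial.scaleRoots_eval₂_mul (p := g.map (algebraMap A D)) (algebraMap D S) y Qd
    rw [hgy, mul_zero] at h1
    have h2 : algebraMap D S Qd * y = algebraMap D S Pd := by
      change Q * y = P; rw [mul_comm]; exact h
    rw [h2, Polynomial.eval₂_at_apply] at h1
    exact h1
  have hQF : algebraMap D (FractionRing D) Qd ≠ 0 :=
    fun h0 => hQd0 (IsFractionRing.injective D (FractionRing D) (by rw [h0, map_zero]))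
  have hint : IsIntegral D
      (algebraMap D (FractionRing D) Pd / algebraMap D (FractionRing D) Qd) := by
    refine ⟨g.map (algebraMap A D), hgDm, ?_⟩
    have h1 := Polynomial.scaleRoots_eval₂_mul (p := g.map (algebraMap A D))
      (algebraMap D (FractionRing D))
      (algebraMap D (FractionRing D) Pd / algebraMap D (FractionRing D) Qd) Qd
    have h2 : algebraMap D (FractionRing D) Qd *
        (algebraMap D (FractionRing D) Pd / algebraMap D (FractionRing D) Qd) =
        algebraMap D (FractionRing D) Pd := by field_simp
    rw [h2, Polynomial.eval₂_at_apply, hev, map_zero] at h1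
    exact (mul_eq_zero.mp h1.symm).resolve_left (pow_ne_zero _ hQF)
  obtain ⟨d, hd⟩ := IsIntegrallyClosed.algebraMap_eq_of_integral hint
  have h3 : d * Qd = Pd := by
    apply IsFractionRing.injective D (FractionRing D)
    rw [map_mul, hd]; field_simp
  have h4 : (d : S) * Q = P := congrArg Subtype.val h3
  have h5 : y = d := by
    have : Q * (y - d) = 0 := by rw [mul_sub, mul_comm Q y, h, mul_comm Q, h4, sub_self]
    exact sub_eq_zero.mp (hQreg _ this)
  rw [h5]; exact d.2

set_option maxHeartbeats 1600000 in
theorem main_abs (A S E : Type u) [CommRing A] [IsLocalRing A] [IsDomain A] [IsIntegrallyClosed A]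
    [IsNoetherianRing A] [CommRing S] [IsLocalRing S] [Algebra A S] [IsLocalHom (algebraMap A S)]
    [Module.Flat A S] [Algebra.IsSeparable (ResidueField A) (ResidueField S)]
    [CommRing E] [IsLocalRing E] [Algebra A E] [Algebra E S] [IsScalarTower A E S]
    [IsLocalHom (algebraMap E S)] (hES : Function.Injective (algebraMap E S))
    (hE : EGA4loc.IsEssentiallyEtale A E)
    (D : Subalgebra A S) [IsLocalRing D] [IsLocalHom (algebraMap D S)] [IsDomain D]
    [IsIntegrallyClosed D]
    (W : Subalgebra A E) (hWD : W.map (IsScalarTower.toAlgHom A E S) ≤ D) :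
    ∃ D' : Subalgebra A S, D' ≤ D ∧ W.map (IsScalarTower.toAlgHom A E S) ≤ D' ∧
      (∀ x : S, ∀ b ∈ D', b ≠ 0 → b * x ∈ D' → x ∈ D') ∧
      ∃ _ : IsLocalRing D', IsLocalHom (algebraMap D' S) ∧ EGA4loc.IsEssentiallyEtale A D' := by
  classical
  haveI : Module.FaithfullyFlat A S := Module.FaithfullyFlat.of_flat_of_isLocalHom
  have hAS : Function.Injective (algebraMap A S) := FaithfulSMul.algebraMap_injective A S
  have hAE : Function.Injective (algebraMap A E) := by
    intro a b hab
    apply hAS
    rw [IsScalarTower.algebraMap_apply A E S, hab, ← IsScalarTower.algebraMap_apply A E S]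
  obtain ⟨hEdom, hEic⟩ := EssEtUtil.normal_of_essEtale A E hE
  haveI := hEdom
  haveI := hEic
  haveI : Algebra.EssFiniteType A E := EssEtUtil.essFiniteType_of_essEtale A E hE
  haveI : Algebra.FormallyEtale A E := EssEtUtil.formallyEtale_of_essEtale A E hE
  haveI : Algebra.FormallyUnramified A E := inferInstance
  haveI hlocAE : IsLocalHom (algebraMap A E) := ⟨fun a ha => by
    have h1 : IsUnit (algebraMap E S (algebraMap A E a)) := ha.map _
    rw [← IsScalarTower.algebraMap_apply A E S] at h1
    exact isUnit_of_map_unit (algebraMap A S) a h1⟩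
  have hmE : (maximalIdeal A).map (algebraMap A E) = maximalIdeal E :=
    Algebra.FormallyUnramified.map_maximalIdeal
  haveI : Module.Flat E S := EssEtUtil.flat_of_essEtale A E S hE
  -- fields
  haveI : FaithfulSMul A (FractionRing E) := (faithfulSMul_iff_algebraMap_injective A _).mpr (by
    rw [IsScalarTower.algebraMap_eq A E (FractionRing E)]
    exact (IsFractionRing.injective E (FractionRing E)).comp hAE)
  letI : Algebra (FractionRing A) (FractionRing E) := FractionRing.liftAlgebra A (FractionRing E)
  haveI : IsScalarTower A (FractionRing A) (FractionRing E) :=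
    FractionRing.isScalarTower_liftAlgebra A (FractionRing E)
  haveI : Algebra.EssFiniteType E (FractionRing E) :=
    Algebra.EssFiniteType.of_isLocalization (FractionRing E) (nonZeroDivisors E)
  haveI : Algebra.FormallyUnramified E (FractionRing E) :=
    Algebra.FormallyUnramified.of_isLocalization (nonZeroDivisors E)
  haveI : Algebra.EssFiniteType A (FractionRing E) := Algebra.EssFiniteType.comp A E (FractionRing E)
  haveI : Algebra.FormallyUnramified A (FractionRing E) :=
    Algebra.FormallyUnramified.comp A E (FractionRing E)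
  haveI : Algebra.EssFiniteType (FractionRing A) (FractionRing E) :=
    Algebra.EssFiniteType.of_comp A (FractionRing A) (FractionRing E)
  haveI : Algebra.FormallyUnramified (FractionRing A) (FractionRing E) :=
    Algebra.FormallyUnramified.of_restrictScalars A (FractionRing A) (FractionRing E)
  haveI : Module.Finite (FractionRing A) (FractionRing E) :=
    Algebra.FormallyUnramified.finite_of_free (FractionRing A) (FractionRing E)
  haveI : Algebra.IsSeparable (FractionRing A) (FractionRing E) :=
    Algebra.FormallyUnramified.isSeparable (FractionRing A) (FractionRing E)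
  -- the normal subalgebra
  let B : Subalgebra A E := Bsub (FractionRing A) (FractionRing E) hAE W
  haveI hBfin : Module.Finite A B := finite_Bsub (FractionRing A) (FractionRing E) hAE W
  haveI hBic : IsIntegrallyClosed B :=
    isIntegrallyClosed_Bsub (FractionRing A) (FractionRing E) hAE W
  let n : Ideal B := (maximalIdeal E).comap (algebraMap B E)
  haveI hn : n.IsPrime := Ideal.comap_isPrime _ _
  have hu : ∀ t : n.primeCompl, IsUnit (algebraMap B E t) := fun t => by
    by_contra h
    exact t.2 h
  let jR : Localization.AtPrime n →ₐ[A] E :=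
    IsLocalization.liftAlgHom (M := n.primeCompl) (f := IsScalarTower.toAlgHom A B E) hu
  have hjR : ∀ b : B, jR (algebraMap B (Localization.AtPrime n) b) = algebraMap B E b :=
    fun b => by simp [jR]
  letI algRE : Algebra (Localization.AtPrime n) E := jR.toRingHom.toAlgebra
  haveI towerARE : IsScalarTower A (Localization.AtPrime n) E :=
    IsScalarTower.of_algebraMap_eq (fun a => (jR.commutes a).symm)
  haveI towerBRE : IsScalarTower B (Localization.AtPrime n) E :=
    IsScalarTower.of_algebraMap_eq (fun b => (hjR b).symm)
  haveI : IsDomain (Localization.AtPrime n) :=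
    IsLocalization.isDomain_of_le_nonZeroDivisors (Localization.AtPrime n) (Ideal.primeCompl_le_nonZeroDivisors n)
  haveI : IsIntegrallyClosed (Localization.AtPrime n) :=
    isIntegrallyClosed_of_isLocalization (Localization.AtPrime n) n.primeCompl
      (Ideal.primeCompl_le_nonZeroDivisors n)
  have hmk : ∀ (a : B) (t : n.primeCompl),
      algebraMap (Localization.AtPrime n) E (IsLocalization.mk' (Localization.AtPrime n) a t) *
        algebraMap B E t = algebraMap B E a := by
    intro a t
    rw [← hjR t, ← hjR a]
    change jR _ * jR _ = jR _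
    rw [← map_mul, IsLocalization.mk'_spec]
  have hRE : Function.Injective (algebraMap (Localization.AtPrime n) E) := by
    rw [injective_iff_map_eq_zero]
    intro z hz
    obtain ⟨a, t, rfl⟩ := IsLocalization.exists_mk'_eq n.primeCompl z
    have h1 := hmk a t
    rw [hz, zero_mul] at h1
    have h2 : a = 0 := Subtype.val_injective h1.symm
    rw [h2, IsLocalization.mk'_zero]
  haveI hlocRE : IsLocalHom (algebraMap (Localization.AtPrime n) E) := ⟨fun z hz => by
    obtain ⟨a, t, rfl⟩ := IsLocalization.exists_mk'_eq n.primeCompl z
    have h1 := hmk a t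
    have h2 : IsUnit (algebraMap B E a) := h1 ▸ hz.mul (hu t)
    have h3 : a ∈ n.primeCompl := fun hmem => (show algebraMap B E a ∈ maximalIdeal E from hmem) h2
    have h4 : IsLocalization.mk' (Localization.AtPrime n) a t *
        algebraMap B (Localization.AtPrime n) t = algebraMap B (Localization.AtPrime n) a :=
      IsLocalization.mk'_spec _ _ _
    have h5 : IsUnit (algebraMap B (Localization.AtPrime n) a) :=
      IsLocalization.map_units _ (⟨a, h3⟩ : n.primeCompl)
    rw [← h4] at h5
    exact (IsUnit.mul_iff.mp h5).1⟩
  haveI : Algebra.EssFiniteType (Localization.AtPrime n) E :=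
    Algebra.EssFiniteType.of_comp A (Localization.AtPrime n) E
  haveI : Algebra.FormallyUnramified (Localization.AtPrime n) E :=
    Algebra.FormallyUnramified.of_restrictScalars A (Localization.AtPrime n) E
  haveI : Module.Flat (Localization.AtPrime n) E :=
    UnramNormalFlat.flat_of_unramified (Localization.AtPrime n) E hRE
  haveI : Module.FaithfullyFlat (Localization.AtPrime n) E :=
    Module.FaithfullyFlat.of_flat_of_isLocalHom
  have hmR : (maximalIdeal A).map (algebraMap A (Localization.AtPrime n)) =
      maximalIdeal (Localization.AtPrime n) := by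
    apply le_antisymm
    · rw [Ideal.map_le_iff_le_comap]
      intro a ha
      rw [Ideal.mem_comap, mem_maximalIdeal, mem_nonunits_iff]
      intro hunit
      have h1 : IsUnit (algebraMap (Localization.AtPrime n) E
          (algebraMap A (Localization.AtPrime n) a)) := hunit.map _
      rw [← IsScalarTower.algebraMap_apply A (Localization.AtPrime n) E] at h1
      exact (mem_nonunits_iff.mp ((mem_maximalIdeal a).mp ha))
        (isUnit_of_map_unit (algebraMap A E) a h1)
    · rw [← Ideal.comap_map_eq_self_of_faithfullyFlat (B := E)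
        ((maximalIdeal A).map (algebraMap A (Localization.AtPrime n))),
        Ideal.map_map, ← IsScalarTower.algebraMap_eq A (Localization.AtPrime n) E, hmE]
      intro z hz
      rw [Ideal.mem_comap, mem_maximalIdeal, mem_nonunits_iff]
      intro hunit
      exact (mem_nonunits_iff.mp ((mem_maximalIdeal z).mp hz))
        (isUnit_of_map_unit (algebraMap (Localization.AtPrime n) E) z hunit)
  haveI : Algebra.EssFiniteType B (Localization.AtPrime n) :=
    Algebra.EssFiniteType.of_isLocalization (Localization.AtPrime n) n.primeCompl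
  haveI : Algebra.EssFiniteType A (Localization.AtPrime n) :=
    Algebra.EssFiniteType.comp A B (Localization.AtPrime n)
  -- the map to `S`
  let ρ : Localization.AtPrime n →ₐ[A] S := (IsScalarTower.toAlgHom A E S).comp jR
  letI algRS : Algebra (Localization.AtPrime n) S := ρ.toRingHom.toAlgebra
  haveI : IsScalarTower A (Localization.AtPrime n) S :=
    IsScalarTower.of_algebraMap_eq (fun a => (ρ.commutes a).symm)
  haveI : IsScalarTower (Localization.AtPrime n) E S :=
    IsScalarTower.of_algebraMap_eq (fun z => rfl)
  haveI : IsLocalHom (algebraMap (Localization.AtPrime n) S) := ⟨fun z hz => by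
    have h1 : IsUnit (algebraMap E S (algebraMap (Localization.AtPrime n) E z)) := hz
    exact isUnit_of_map_unit (algebraMap (Localization.AtPrime n) E) z
      (isUnit_of_map_unit (algebraMap E S) _ h1)⟩
  have hRess : EGA4loc.IsEssentiallyEtale A (Localization.AtPrime n) :=
    EssEtUtil.essEtale_of_map_maximalIdeal A S (Localization.AtPrime n) hmR
  haveI : Module.Flat (Localization.AtPrime n) S :=
    EssEtUtil.flat_of_essEtale A (Localization.AtPrime n) S hRess
  haveI : Module.FaithfullyFlat (Localization.AtPrime n) S :=
    Module.FaithfullyFlat.of_flat_of_isLocalHom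
  have hρinj : Function.Injective ρ := hES.comp hRE
  let eD : Localization.AtPrime n ≃ₐ[A] ρ.range := AlgEquiv.ofInjective ρ hρinj
  have hlocD' : IsLocalRing ρ.range := eD.toRingEquiv.isLocalRing
  -- elements of `B` map into `D`
  have hBD : ∀ b : B, algebraMap E S (b : E) ∈ D := fun b => by
    obtain ⟨hbint, P, hP, Q, hQ, hQ0, e⟩ :=
      (mem_Bsub_iff (FractionRing A) (FractionRing E) hAE W).mp b.2
    refine mem_of_isIntegral D (algebraMap E S b) (algebraMap E S P) (algebraMap E S Q)
      (hWD ⟨P, hP, rfl⟩) (hWD ⟨Q, hQ, rfl⟩) ?_ (hbint.map (IsScalarTower.toAlgHom A E S))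
      (by rw [← map_mul, e])
    intro z hz
    have hreg : IsSMulRegular S (algebraMap E S Q) :=
      IsSMulRegular.of_flat ((isRegular_of_ne_zero hQ0).left.isSMulRegular)
    apply hreg
    simp only [smul_eq_mul]
    rw [hz, mul_zero]
  refine ⟨ρ.range, ?_, ?_, ?_, hlocD', ⟨fun y hy => ?_⟩,
    EssEtUtil.essEtale_of_algEquiv A (Localization.AtPrime n) ρ.range eD.symm hRess⟩
  · rintro _ ⟨z, rfl⟩
    obtain ⟨a, t, rfl⟩ := IsLocalization.exists_mk'_eq n.primeCompl z
    have hρmk : ρ (IsLocalization.mk' (Localization.AtPrime n) a t) * algebraMap E S (t : B) =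
        algebraMap E S (a : B) := by
      have h1 := hmk a t
      change algebraMap E S (algebraMap (Localization.AtPrime n) E _) * _ = _
      rw [← map_mul]
      exact congrArg (algebraMap E S) h1
    have htD := hBD t
    have htu : IsUnit (⟨algebraMap E S ((t : B) : E), htD⟩ : D) := by
      apply isUnit_of_map_unit (algebraMap D S)
      exact (hu t).map (algebraMap E S)
    obtain ⟨u, hu'⟩ := htu.exists_right_inv
    have h1 : algebraMap E S ((t : B) : E) * (u : S) = 1 := congrArg Subtype.val hu'
    have h2 : ρ (IsLocalization.mk' (Localization.AtPrime n) a t) =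
        algebraMap E S ((a : B) : E) * u := by
      calc ρ (IsLocalization.mk' (Localization.AtPrime n) a t)
          = ρ (IsLocalization.mk' (Localization.AtPrime n) a t) *
              (algebraMap E S ((t : B) : E) * (u : S)) := by rw [h1, mul_one]
        _ = algebraMap E S ((a : B) : E) * u := by rw [← mul_assoc, hρmk]
    change ρ _ ∈ D
    rw [h2]
    exact D.mul_mem (hBD a) u.2
  · rintro _ ⟨w, hw, rfl⟩
    obtain ⟨d, hd, hdw⟩ := exists_mul_mem_Bsub (FractionRing A) (FractionRing E) hAE W w
      ⟨w, hw, 1, W.one_mem, one_ne_zero, mul_one w⟩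
    have hdR : algebraMap A (Localization.AtPrime n) d ≠ 0 := fun h => hd (hAS (by
      rw [IsScalarTower.algebraMap_apply A (Localization.AtPrime n) S, h, map_zero, map_zero]))
    obtain ⟨r, hr⟩ := EssEtUtil.exists_eq_of_mul_eq (Localization.AtPrime n) S
      (algebraMap B (Localization.AtPrime n) ⟨_, hdw⟩)
      (algebraMap A (Localization.AtPrime n) d) hdR (algebraMap E S w) (by
        rw [← IsScalarTower.algebraMap_apply A (Localization.AtPrime n) S,
          IsScalarTower.algebraMap_apply A E S, ← map_mul]
        change _ = algebraMap E S (jR (algebraMap B (Localization.AtPrime n) _))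
        rw [hjR]
        rfl)
    exact ⟨r, hr⟩
  · rintro x _ ⟨b, rfl⟩ hb0 ⟨a, ha⟩
    have hb : b ≠ 0 := fun h => hb0 (by rw [h, map_zero])
    obtain ⟨r, hr⟩ := EssEtUtil.exists_eq_of_mul_eq (Localization.AtPrime n) S a b hb x ha.symm
    exact ⟨r, hr⟩
  · obtain ⟨z, hz⟩ := eD.surjective y
    have h1 : (algebraMap ρ.range S) y = ρ z := by
      rw [← hz]; rfl
    rw [h1] at hy
    rw [← hz]
    exact (isUnit_of_map_unit (algebraMap (Localization.AtPrime n) S) z hy).map eD

end Groth.Agent.Lib.Helper8.NormalInter
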