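import Mathlib
import Groth.Prelude
import Groth.Agent.Lib.Helper8.NormalInterB
import Groth.Agent.Lib.Helper8.Hzl.Transfer

/-!
# Normal local intermediate rings of a strict henselization: final statements
-/

set_option autoImplicit false

open IsLocalRing

universe u

namespace Groth.Agent.Lib.Helper8.NormalInter

theorem core (A S : Type u) [CommRing A] [IsLocalRing A] [IsDomain A] [IsIntegrallyClosed A]
    [IsNoetherianRing A] [CommRing S] [IsLocalRing S] [Algebra A S] [IsLocalHom (algebraMap A S)]
    [Hensel.IsStrictHenselization A S] (D : Subalgebra A S) [IsLocalRing D]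
    [IsLocalHom (algebraMap D S)] [IsDomain D] [IsIntegrallyClosed D]
    (s : Finset S) (hs : (s : Set S) ⊆ (D : Set S)) :
    ∃ D' : Subalgebra A S, D' ≤ D ∧ (s : Set S) ⊆ (D' : Set S) ∧
      (∀ x : S, ∀ b ∈ D', b ≠ 0 → b * x ∈ D' → x ∈ D') ∧
      ∃ _ : IsLocalRing D', IsLocalHom (algebraMap D' S) ∧ EGA4loc.IsEssentiallyEtale A D' := by
  haveI : Module.Flat A S := Hzl.strictHenselization_flat A S
  haveI : Algebra.IsSeparable (ResidueField A) (ResidueField S) :=
    (Hensel.IsStrictHenselization.isSepClosure (R := A) (S := S)).separable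
  obtain ⟨E, hsE, hEloc, hEdom, hEess⟩ := Hzl.exists_essEtale_subalgebra A S s
  haveI := hEloc
  haveI := hEdom
  have hWD : (Algebra.adjoin A {x : E | (x : S) ∈ s}).map (IsScalarTower.toAlgHom A E S) ≤ D := by
    rw [Subalgebra.map_le]
    apply Algebra.adjoin_le
    intro x hx
    exact hs hx
  obtain ⟨D', h1, h2, h3, h4⟩ := main_abs A S E Subtype.val_injective hEess D
    (Algebra.adjoin A {x : E | (x : S) ∈ s}) hWD
  exact ⟨D', h1, fun x hx => h2 ⟨⟨x, hsE hx⟩, Algebra.subset_adjoin hx, rfl⟩, h3, h4⟩

theorem eq_of_fg (A S : Type u) [CommRing A] [IsLocalRing A] [IsDomain A] [IsIntegrallyClosed A]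
    [IsNoetherianRing A] [CommRing S] [IsLocalRing S] [Algebra A S] [IsLocalHom (algebraMap A S)]
    [Hensel.IsStrictHenselization A S] (D : Subalgebra A S) [IsLocalRing D]
    [IsLocalHom (algebraMap D S)] [IsDomain D] [IsIntegrallyClosed D]
    (hfg : ∃ s : Finset D, Subfield.closure (Set.range (algebraMap A (FractionRing D)) ∪
        (algebraMap D (FractionRing D)) '' (s : Set D)) = ⊤) :
    EGA4loc.IsEssentiallyEtale A D := by
  classical
  obtain ⟨s₀, hs₀⟩ := hfg
  obtain ⟨D', hD'D, hsD', hsat, hloc', hdom', hess'⟩ := core A S D (s₀.image (algebraMap D S))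
    (by
      intro x hx
      rw [Finset.coe_image] at hx
      obtain ⟨d, _, rfl⟩ := hx
      exact d.2)
  have hDD' : D ≤ D' := by
    intro x hx
    have hx_top : algebraMap D (FractionRing D) ⟨x, hx⟩ ∈
        Subfield.closure (Set.range (algebraMap A (FractionRing D)) ∪
          (algebraMap D (FractionRing D)) '' (s₀ : Set D)) := by
      rw [hs₀]; trivial
    rw [Subfield.mem_closure_iff] at hx_top
    obtain ⟨y, hy, z, hz, hyz⟩ := hx_top
    have hcl : Subring.closure (Set.range (algebraMap A (FractionRing D)) ∪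
        (algebraMap D (FractionRing D)) '' (s₀ : Set D)) ≤
        (D'.toSubring.comap (algebraMap D S)).map (algebraMap D (FractionRing D)) := by
      rw [Subring.closure_le]
      rintro _ (⟨a, rfl⟩ | ⟨d, hd, rfl⟩)
      · refine ⟨algebraMap A D a, ?_, (IsScalarTower.algebraMap_apply A D (FractionRing D) a).symm⟩
        change algebraMap D S (algebraMap A D a) ∈ D'
        rw [← IsScalarTower.algebraMap_apply A D S]
        exact D'.algebraMap_mem a
      · refine ⟨d, ?_, rfl⟩
        change algebraMap D S d ∈ D'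
        exact hsD' (by rw [Finset.coe_image]; exact ⟨d, hd, rfl⟩)
    obtain ⟨yd, hyd, rfl⟩ := hcl hy
    obtain ⟨zd, hzd, rfl⟩ := hcl hz
    by_cases hz0 : zd = 0
    · rw [hz0, map_zero, div_zero] at hyz
      have : (⟨x, hx⟩ : D) = 0 :=
        IsFractionRing.injective D (FractionRing D) (by rw [← hyz, map_zero])
      have hx0 : x = 0 := congrArg Subtype.val this
      rw [hx0]; exact D'.zero_mem
    · have hzF : algebraMap D (FractionRing D) zd ≠ 0 :=
        fun h => hz0 (IsFractionRing.injective D (FractionRing D) (by rw [h, map_zero]))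
      have h1 : zd * ⟨x, hx⟩ = yd := by
        apply IsFractionRing.injective D (FractionRing D)
        rw [map_mul, ← hyz]; field_simp
      have h2 : (zd : S) * x = yd := congrArg Subtype.val h1
      refine hsat x (zd : S) hzd (fun h => hz0 (Subtype.ext h)) ?_
      rw [h2]; exact hyd
  have : D' = D := le_antisymm hD'D hDD'
  subst this
  exact hess'

end Groth.Agent.Lib.Helper8.NormalInter
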