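import Mathlib

/-!
# Normal local domains with separably closed fraction field are strictly henselian
-/

set_option autoImplicit false
universe u

open Polynomial IsLocalRing

namespace Groth.Agent.Lib.Helper8.NormalSepClosed

variable (A : Type u) [CommRing A] [IsDomain A] [IsIntegrallyClosed A]
  [IsSepClosed (FractionRing A)]

/-- A monic irreducible polynomial over an integrally closed domain with separably closed
fraction field is either linear or has zero derivative. -/
theorem natDegree_eq_one_or_derivative_eq_zero {f : A[X]} (hf : f.Monic) (hirr : Irreducible f) :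
    f.natDegree = 1 ∨ derivative f = 0 := by
  have hF : Irreducible (f.map (algebraMap A (FractionRing A))) :=
    (Monic.irreducible_iff_irreducible_map_fraction_map hf).mp hirr
  by_cases hsep : (f.map (algebraMap A (FractionRing A))).Separable
  · left
    have := IsSepClosed.degree_eq_one_of_irreducible (FractionRing A) hF hsep
    rw [← hf.natDegree_map (algebraMap A (FractionRing A))]
    exact natDegree_eq_of_degree_eq_some this
  · right
    have h0 : derivative (f.map (algebraMap A (FractionRing A))) = 0 := by
      by_contra h
      exact hsep ((separable_iff_derivative_ne_zero hF).mpr h)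
    rw [derivative_map] at h0
    exact (Polynomial.map_eq_zero_iff (IsFractionRing.injective A (FractionRing A))).mp h0

variable [IsLocalRing A]

theorem exists_root_of_simple_root :
    ∀ (n : ℕ) (f : A[X]), f.natDegree = n → f.Monic → ∀ a₀ : ResidueField A,
      aeval a₀ f = 0 → aeval a₀ (derivative f) ≠ 0 →
      ∃ a : A, f.IsRoot a ∧ residue A a = a₀ := by
  intro n
  induction n using Nat.strong_induction_on with
  | _ n ih =>
    intro f hn hf a₀ h0 h1
    by_cases hirr : Irreducible f
    · rcases natDegree_eq_one_or_derivative_eq_zero A hf hirr with h | h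
      · have hfe : f = X + C (f.coeff 0) := hf.eq_X_add_C h
        refine ⟨-f.coeff 0, ?_, ?_⟩
        · rw [IsRoot.def, hfe]; simp
        · rw [hfe] at h0
          simp only [map_add, aeval_X, aeval_C, ResidueField.algebraMap_eq] at h0
          rw [map_neg]
          exact (eq_neg_of_add_eq_zero_left h0).symm
      · exact absurd (by rw [h]; simp) h1
    · have hne1 : f ≠ 1 := by
        rintro rfl
        simp at h0
      rw [hf.irreducible_iff_natDegree] at hirr
      push_neg at hirr
      obtain ⟨g, h, hg, hh, hgh, hgd, hhd⟩ := hirr hne1
      have hdeg : g.natDegree + h.natDegree = n := by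
        rw [← hn, ← hgh, hg.natDegree_mul hh]
      have h0' : aeval a₀ g * aeval a₀ h = 0 := by rw [← map_mul, hgh, h0]
      have h1' : aeval a₀ (derivative g) * aeval a₀ h + aeval a₀ g * aeval a₀ (derivative h) ≠ 0 := by
        rw [← map_mul, ← map_mul, ← map_add, ← derivative_mul, hgh]; exact h1
      rcases mul_eq_zero.mp h0' with hz | hz
      · have hd : aeval a₀ (derivative g) ≠ 0 := by
          intro hd; apply h1'; rw [hd, hz]; simp
        obtain ⟨a, ha, hres⟩ := ih g.natDegree (by omega) g rfl hg a₀ hz hd
        refine ⟨a, ?_, hres⟩
        rw [← hgh]; exact root_mul_right_of_isRoot h ha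
      · have hd : aeval a₀ (derivative h) ≠ 0 := by
          intro hd; apply h1'; rw [hd, hz]; simp
        obtain ⟨a, ha, hres⟩ := ih h.natDegree (by omega) h rfl hh a₀ hz hd
        refine ⟨a, ?_, hres⟩
        rw [← hgh]; exact root_mul_left_of_isRoot g ha

theorem henselianLocalRing : HenselianLocalRing A := by
  have := (HenselianLocalRing.TFAE A).out 0 1
  rw [this]
  intro f hf a₀ h0 h1
  exact exists_root_of_simple_root A _ f rfl hf a₀ h0 h1

theorem isSepClosed_residueField : IsSepClosed (ResidueField A) := by
  refine IsSepClosed.of_exists_root _ fun p hp hirr hsep => ?_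
  have hl : p ∈ lifts (residue A) := by
    obtain ⟨q, hq⟩ := map_surjective (residue A) residue_surjective p
    exact (mem_lifts p).mpr ⟨q, hq⟩
  obtain ⟨f, hfmap, -, hfmonic⟩ := lifts_and_natDegree_eq_and_monic hl hp
  have hfirr : Irreducible f :=
    Monic.irreducible_of_irreducible_map (residue A) f hfmonic (by rw [hfmap]; exact hirr)
  rcases natDegree_eq_one_or_derivative_eq_zero A hfmonic hfirr with h | h
  · have hfe : f = X + C (f.coeff 0) := hfmonic.eq_X_add_C h
    refine ⟨residue A (-f.coeff 0), ?_⟩
    rw [← hfmap, eval_map, eval₂_at_apply, hfe]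
    simp
  · exfalso
    have hp' : derivative p = 0 := by rw [← hfmap, derivative_map, h, Polynomial.map_zero]
    have hsep' : IsCoprime p (derivative p) := hsep
    rw [hp', isCoprime_zero_right] at hsep'
    exact hirr.not_isUnit hsep'

end Groth.Agent.Lib.Helper8.NormalSepClosed
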