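import Mathlib

/-
Finite projective modules over a ring with an ideal `I` in the Jacobson radical: an isomorphism
of the reductions mod `I` lifts to an isomorphism.
-/

open TensorProduct

universe u

namespace Groth.Agent.Lib.Helper8.ProjLift

variable {R : Type u} [CommRing R] (I : Ideal R) (hI : I ≤ Ideal.jacobson ⊥)

theorem one_tmul_eq_zero_iff {M : Type*} [AddCommGroup M] [Module R M] (x : M) :
    (1 : R ⧸ I) ⊗ₜ[R] x = 0 ↔ x ∈ I • (⊤ : Submodule R M) := by
  rw [← Submodule.Quotient.mk_eq_zero, ← TensorProduct.quotTensorEquivQuotSMul_symm_mk I x]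
  exact (TensorProduct.quotTensorEquivQuotSMul M I).symm.map_eq_zero_iff

include hI in
theorem nonempty_linearEquiv (P₁ P₂ : Type u) [AddCommGroup P₁] [Module R P₁] [AddCommGroup P₂]
    [Module R P₂] [Module.Finite R P₁] [Module.Projective R P₁] [Module.Finite R P₂]
    [Module.Projective R P₂]
    (e : (R ⧸ I) ⊗[R] P₁ ≃ₗ[R ⧸ I] (R ⧸ I) ⊗[R] P₂) :
    Nonempty (P₁ ≃ₗ[R] P₂) := by
  let π₁ : P₁ →ₗ[R] (R ⧸ I) ⊗[R] P₁ := TensorProduct.mk R (R ⧸ I) P₁ 1
  let π₂ : P₂ →ₗ[R] (R ⧸ I) ⊗[R] P₂ := TensorProduct.mk R (R ⧸ I) P₂ 1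
  have hπ₂ : Function.Surjective π₂ := by
    intro t
    induction t using TensorProduct.induction_on with
    | zero => exact ⟨0, map_zero _⟩
    | tmul a x =>
      obtain ⟨a, rfl⟩ := Ideal.Quotient.mk_surjective a
      refine ⟨a • x, ?_⟩
      change (1 : R ⧸ I) ⊗ₜ[R] (a • x) = _
      rw [← TensorProduct.smul_tmul, Algebra.smul_def, mul_one]; rfl
    | add x y hx hy =>
      obtain ⟨x', rfl⟩ := hx
      obtain ⟨y', rfl⟩ := hy
      exact ⟨x' + y', map_add _ _ _⟩
  obtain ⟨f, hf⟩ := Module.projective_lifting_property π₂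
    ((e.toLinearMap.restrictScalars R) ∘ₗ π₁) hπ₂
  have hf' : ∀ x, (1 : R ⧸ I) ⊗ₜ[R] f x = e ((1 : R ⧸ I) ⊗ₜ[R] x) := fun x =>
    LinearMap.congr_fun hf x
  -- surjective
  have hsurj : Function.Surjective f := by
    rw [← LinearMap.range_eq_top, ← top_le_iff]
    apply Submodule.le_of_le_smul_of_le_jacobson_bot Module.Finite.fg_top hI
    rintro y -
    -- π₂ y = e (π₁ x) for some x
    have hπ₁ : Function.Surjective π₁ := by
      intro t
      induction t using TensorProduct.induction_on with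
      | zero => exact ⟨0, map_zero _⟩
      | tmul a x =>
        obtain ⟨a, rfl⟩ := Ideal.Quotient.mk_surjective a
        refine ⟨a • x, ?_⟩
        change (1 : R ⧸ I) ⊗ₜ[R] (a • x) = _
        rw [← TensorProduct.smul_tmul, Algebra.smul_def, mul_one]; rfl
      | add x y hx hy =>
        obtain ⟨x', rfl⟩ := hx
        obtain ⟨y', rfl⟩ := hy
        exact ⟨x' + y', map_add _ _ _⟩
    obtain ⟨x, hx⟩ := hπ₁ (e.symm (π₂ y))
    have h1 : (1 : R ⧸ I) ⊗ₜ[R] (y - f x) = 0 := by
      rw [TensorProduct.tmul_sub, hf']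
      change π₂ y - e (π₁ x) = 0
      rw [hx, LinearEquiv.apply_symm_apply, sub_self]
    rw [one_tmul_eq_zero_iff] at h1
    rw [← sub_add_cancel y (f x), add_comm]
    exact Submodule.add_mem_sup ⟨x, rfl⟩ h1
  -- splitting
  obtain ⟨g, hg⟩ := Module.projective_lifting_property f LinearMap.id hsurj
  let ρ : P₁ →ₗ[R] P₁ := LinearMap.id - g ∘ₗ f
  have hρK : ∀ k, f k = 0 → ρ k = k := fun k hk => by simp [ρ, hk]
  have hfρ : ∀ x, f (ρ x) = 0 := fun x => by
    have := LinearMap.congr_fun hg (f x)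
    simp only [LinearMap.comp_apply, LinearMap.id_apply] at this
    simp [ρ, this]
  have hKrange : LinearMap.ker f = LinearMap.range ρ := by
    ext k
    constructor
    · intro hk; exact ⟨k, hρK k hk⟩
    · rintro ⟨x, rfl⟩; exact hfρ x
  have hKfg : (LinearMap.ker f).FG := by
    rw [hKrange, LinearMap.range_eq_map]
    exact Module.Finite.fg_top.map ρ
  have hKle : LinearMap.ker f ≤ I • LinearMap.ker f := by
    intro k hk
    have h1 : (1 : R ⧸ I) ⊗ₜ[R] k = 0 := by
      apply e.injective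
      rw [← hf', LinearMap.mem_ker.mp hk, TensorProduct.tmul_zero, map_zero]
    rw [one_tmul_eq_zero_iff] at h1
    have h2 : ρ k ∈ Submodule.map ρ (I • (⊤ : Submodule R P₁)) := ⟨k, h1, rfl⟩
    rw [Submodule.map_smul'', Submodule.map_top, ← hKrange, hρK k hk] at h2
    exact h2
  have hK : LinearMap.ker f = ⊥ :=
    Submodule.eq_bot_of_le_smul_of_le_jacobson_bot I _ hKfg hKle hI
  exact ⟨LinearEquiv.ofBijective f ⟨LinearMap.ker_eq_bot.mp hK, hsurj⟩⟩

end Groth.Agent.Lib.Helper8.ProjLift
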