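import Mathlib
import Groth.Agent.Lib.Helper8.ProperAtDvr
import Groth.Agent.Lib.Helper15.RedInd

/-!
# Properness of a closed subset at a point via DVR sections (EGA IV 15.7, closure version)
-/

set_option autoImplicit false
universe u
open AlgebraicGeometry CategoryTheory CategoryTheory.Limits TopologicalSpace IsLocalRing

namespace Groth.Agent.Lib.Helper8.ProperAtDvrCl

open Groth.Agent.Lib.Helper8.RatPt Groth.Agent.Lib.Helper8.ProperAtDvr

theorem eq_closedPoint_of_field (K : Type u) [Field K] (t : ↥(Spec (CommRingCat.of K))) :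
    t = closedPoint K := by
  apply PrimeSpectrum.ext
  have h1 : t.asIdeal = ⊥ := by
    rcases Ideal.eq_bot_or_top t.asIdeal with h | h
    · exact h
    · exact absurd h t.isPrime.ne_top
  rw [h1]
  exact (IsLocalRing.maximalIdeal_eq_bot (R := K)).symm

/-- The image in `X` of a generic point of the reduced closed subscheme on `closure Z` lies in `Z`
when `Z` contains the maximal points of its closure. -/
theorem mem_of_mem_genericPoints {X W : Scheme.{u}} (ιW : W ⟶ X) [IsClosedImmersion ιW] (Z : Set X)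
    (hrange : Set.range ιW = closure Z)
    (hZ : ∀ z ∈ closure Z, (∀ z' ∈ closure Z, z ∈ closure {z'} → z' = z) → z ∈ Z) (w : W)
    (hw : w ∈ genericPoints W) : ιW w ∈ Z := by
  apply hZ _ (hrange ▸ ⟨w, rfl⟩)
  intro z' hz' hzz'
  obtain ⟨w', rfl⟩ : z' ∈ Set.range ιW := hrange ▸ hz'
  have h1 : w ∈ closure {w'} := by
    rw [ιW.isEmbedding.isInducing.closure_eq_preimage_closure_image, Set.image_singleton]
    exact hzz'
  have hcomp : closure {w} ∈ irreducibleComponents W := hw
  have h2 : closure {w} ⊆ closure {w'} :=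
    closure_minimal (Set.singleton_subset_iff.mpr h1) isClosed_closure
  have h3 : closure {w'} ⊆ closure {w} := hcomp.2 (isIrreducible_singleton.closure) h2
  have h4 : w' ∈ closure {w} := h3 (subset_closure rfl)
  exact congrArg ιW
    ((specializes_iff_mem_closure.mpr h1).antisymm (specializes_iff_mem_closure.mpr h4)).eq

/-- EGA IV 15.7 (closure version), the implication from DVR sections to properness. -/
theorem exists_isProper_closure {X Y : Scheme.{u}} [IsNoetherian Y] (f : X ⟶ Y) [IsSeparated f]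
    [LocallyOfFiniteType f] [QuasiCompact f] (Z : Set X)
    (hZ : ∀ z ∈ closure Z, (∀ z' ∈ closure Z, z ∈ closure {z'} → z' = z) → z ∈ Z) (y : Y)
    (H : ∀ (A' : Type u) [CommRing A'] [IsDomain A'] [IsDiscreteValuationRing A']
        (g : Spec (CommRingCat.of A') ⟶ Y),
        g.base (IsLocalRing.closedPoint A') = y →
        ∀ x' : ↥(pullback f g), (pullback.fst f g).base x' ∈ Z →
          (pullback.snd f g).base x' = genericPoint (Spec (CommRingCat.of A')) →
          Function.Bijective ((pullback.snd f g).residueFieldMap x').hom →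
          ∃ s : Spec (CommRingCat.of A') ⟶ pullback f g, s ≫ pullback.snd f g = 𝟙 _ ∧
            x' ∈ Set.range s.base) :
    ∃ U : Y.Opens, y ∈ U ∧ ∃ hC : IsClosed ((f ⁻¹ᵁ U).ι.base ⁻¹' closure Z),
      IsProper ((Scheme.IdealSheafData.vanishingIdeal
        (⟨(f ⁻¹ᵁ U).ι.base ⁻¹' closure Z, hC⟩ : TopologicalSpace.Closeds ↥(f ⁻¹ᵁ U))).subschemeι ≫
          (f ∣_ U)) := by
  classical
  let C : Closeds X := ⟨closure Z, isClosed_closure⟩
  obtain ⟨W, ιW, hιW, hWred, hrange⟩ : ∃ (W : Scheme.{u}) (ιW : W ⟶ X),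
      IsClosedImmersion ιW ∧ IsReduced W ∧ Set.range ιW = closure Z := by
    refine ⟨_, (Scheme.IdealSheafData.vanishingIdeal C).subschemeι, inferInstance,
      Groth.Agent.Lib.Helper7.isReduced_vanishingIdeal_subscheme C, ?_⟩
    rw [Scheme.IdealSheafData.range_subschemeι, Scheme.IdealSheafData.coe_support_vanishingIdeal]
    rfl
  haveI := hιW
  haveI := hWred
  have HW : DvrLiftsAt (ιW ≫ f) y (genericPoints W) := by
    intro L _ A hA x g hg hc hx _
    haveI := hA
    have hw : (x ≫ ιW) ≫ f = Spec.map (CommRingCat.ofHom A.subtype) ≫ g := by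
      rw [Category.assoc, hc]
    obtain ⟨σ, hσ1, hσ2⟩ : ∃ σ : Spec (CommRingCat.of L) ⟶ pullback f g,
        σ ≫ pullback.fst f g = x ≫ ιW ∧
        σ ≫ pullback.snd f g = Spec.map (CommRingCat.ofHom (algebraMap A L)) :=
      ⟨pullback.lift _ _ hw, pullback.lift_fst _ _ _, pullback.lift_snd _ _ _⟩
    obtain ⟨x', hx'⟩ : ∃ x' : ↥(pullback f g), x' = σ (closedPoint L) := ⟨_, rfl⟩
    have c1 : (pullback.fst f g).base x' ∈ Z := by
      rw [hx']
      change (σ ≫ pullback.fst f g) (closedPoint L) ∈ Z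
      rw [hσ1, Scheme.Hom.comp_apply]
      exact mem_of_mem_genericPoints ιW Z hrange hZ _ hx
    have c2 : (pullback.snd f g).base x' = genericPoint (Spec (CommRingCat.of A)) := by
      rw [hx']
      change (σ ≫ pullback.snd f g) (closedPoint L) = _
      rw [hσ2]
      exact specMap_closedPoint_eq_genericPoint (IsFractionRing.injective A L)
    have c3 : Function.Bijective ((pullback.snd f g).residueFieldMap x').hom := by
      rw [hx']
      exact (residueFieldMap_bijective_of_generic (pullback.snd f g) σ hσ2).1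
    obtain ⟨s, hs1, a, ha⟩ := H A g hg x' c1 c2 c3
    have h5 : (pullback.snd f g) x' = a := by
      rw [← ha]
      change (s ≫ pullback.snd f g) a = a
      rw [hs1]
      rfl
    have hb1 : (Spec.map (CommRingCat.ofHom (algebraMap A L)) ≫ s) (closedPoint L) = x' := by
      rw [← hσ2, Scheme.Hom.comp_apply, Scheme.Hom.comp_apply, ← hx', h5]
      exact ha
    have heq : Spec.map (CommRingCat.ofHom (algebraMap A L)) ≫ s = σ :=
      eq_of_residueFieldMap_surjective (pullback.snd f g) _ _ x' hb1 hx'.symm c3.2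
        (by rw [Category.assoc, hs1, Category.comp_id, hσ2])
    have hl₀ : Spec.map (CommRingCat.ofHom (algebraMap A L)) ≫ s ≫ pullback.fst f g = x ≫ ιW := by
      rw [← Category.assoc, heq, hσ1]
    have hl₀f : (s ≫ pullback.fst f g) ≫ f = g := by
      rw [Category.assoc, pullback.condition, ← Category.assoc, hs1, Category.id_comp]
    have hrl : Set.range (s ≫ pullback.fst f g) ⊆ Set.range ιW := by
      rw [hrange]
      rintro _ ⟨b, rfl⟩
      have h6 : (s ≫ pullback.fst f g) (genericPoint (Spec (CommRingCat.of A))) ∈ closure Z := by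
        rw [← specMap_closedPoint_eq_genericPoint (IsFractionRing.injective A L),
          ← Scheme.Hom.comp_apply, hl₀, Scheme.Hom.comp_apply, ← hrange]
        exact ⟨_, rfl⟩
      exact ((genericPoint_specializes b).map (s ≫ pullback.fst f g).continuous).mem_closed
        isClosed_closure h6
    obtain ⟨l, hl⟩ := Groth.Agent.Lib.Helper7.exists_lift_of_isReduced_of_range_subset
      (s ≫ pullback.fst f g) ιW hrl
    refine ⟨l, by rw [← Category.assoc, hl, hl₀f], ?_⟩
    rw [← cancel_mono ιW, Category.assoc, hl]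
    exact hl₀
  obtain ⟨U, hyU, hp⟩ := exists_isProper_restrict_of_noetherian (ιW ≫ f) y HW
  have hC : IsClosed ((f ⁻¹ᵁ U).ι.base ⁻¹' closure Z) :=
    isClosed_closure.preimage (f ⁻¹ᵁ U).ι.continuous
  refine ⟨U, hyU, hC, ?_⟩
  have hp' : IsProper (ιW ∣_ f ⁻¹ᵁ U ≫ f ∣_ U) := by
    rw [morphismRestrict_comp] at hp
    exact hp
  haveI : IsReduced ↑(ιW ⁻¹ᵁ f ⁻¹ᵁ U) := isReduced_of_isOpenImmersion (ιW ⁻¹ᵁ f ⁻¹ᵁ U).ι
  suffices h : ∀ (T : Scheme.{u}) (iW : T ⟶ ↑(f ⁻¹ᵁ U)), IsClosedImmersion iW → IsReduced T →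
      Set.range iW = (f ⁻¹ᵁ U).ι.base ⁻¹' closure Z → IsProper (iW ≫ f ∣_ U) from
    h _ _ inferInstance (Groth.Agent.Lib.Helper7.isReduced_vanishingIdeal_subscheme _) (by
      rw [Scheme.IdealSheafData.range_subschemeι,
        Scheme.IdealSheafData.coe_support_vanishingIdeal]
      rfl)
  intro T iW hiW hTr hrW
  haveI := hiW
  haveI := hTr
  have hr : Set.range iW = Set.range (ιW ∣_ f ⁻¹ᵁ U) := by
    rw [hrW]
    ext q
    constructor
    · intro hq
      have hq' : (f ⁻¹ᵁ U).ι q ∈ Set.range ιW := by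
        rw [hrange]
        exact hq
      obtain ⟨a, ha⟩ := hq'
      have haW : a ∈ ιW ⁻¹ᵁ f ⁻¹ᵁ U := by
        show ιW a ∈ f ⁻¹ᵁ U
        rw [ha]
        exact q.2
      exact ⟨⟨a, haW⟩, Subtype.ext (by rw [morphismRestrict_base_coe]; exact ha)⟩
    · rintro ⟨a, rfl⟩
      show (f ⁻¹ᵁ U).ι ((ιW ∣_ f ⁻¹ᵁ U) a) ∈ closure Z
      rw [← hrange]
      exact ⟨a.1, (morphismRestrict_base_coe ιW _ a).symm⟩
  obtain ⟨e, he⟩ := Groth.Agent.Lib.Helper15.RI.exists_iso_of_isReduced_of_range_eq iW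
    (ιW ∣_ f ⁻¹ᵁ U) hr
  rw [← he, Category.assoc]
  infer_instance

/-- EGA IV 15.7 (closure version), the implication from properness to DVR sections. -/
theorem exists_section_of_isProper_closure {X Y : Scheme.{u}} (f : X ⟶ Y) (Z : Set X) (y : Y)
    (U : Y.Opens) (hyU : y ∈ U) (hC : IsClosed ((f ⁻¹ᵁ U).ι.base ⁻¹' closure Z))
    (hp : IsProper ((Scheme.IdealSheafData.vanishingIdeal
        (⟨(f ⁻¹ᵁ U).ι.base ⁻¹' closure Z, hC⟩ : TopologicalSpace.Closeds ↥(f ⁻¹ᵁ U))).subschemeι ≫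
          (f ∣_ U)))
    (A' : Type u) [CommRing A'] [IsDomain A'] [IsDiscreteValuationRing A']
    (g : Spec (CommRingCat.of A') ⟶ Y) (hg : g.base (IsLocalRing.closedPoint A') = y)
    (x' : ↥(pullback f g)) (hx'Z : (pullback.fst f g).base x' ∈ Z)
    (hx'η : (pullback.snd f g).base x' = genericPoint (Spec (CommRingCat.of A')))
    (hρ : Function.Bijective ((pullback.snd f g).residueFieldMap x').hom) :
    ∃ s : Spec (CommRingCat.of A') ⟶ pullback f g, s ≫ pullback.snd f g = 𝟙 _ ∧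
      x' ∈ Set.range s.base := by
  classical
  obtain ⟨ιK, hιK⟩ : ∃ ιK : Spec (CommRingCat.of (FractionRing A')) ⟶ Spec (CommRingCat.of A'),
      ιK = Spec.map (CommRingCat.ofHom (algebraMap A' (FractionRing A'))) := ⟨_, rfl⟩
  -- `g` factors through `U`
  have hgU : Set.range g ⊆ Set.range U.ι := by
    rw [Scheme.Opens.range_ι]
    have h1 : g ⁻¹ᵁ U = ⊤ := Scheme.preimage_eq_top_of_closedPoint_mem g (by rw [hg]; exact hyU)
    rintro _ ⟨a, rfl⟩
    have : a ∈ g ⁻¹ᵁ U := h1 ▸ trivial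
    exact this
  obtain ⟨gU, hgU'⟩ : ∃ gU : Spec (CommRingCat.of A') ⟶ U, gU ≫ U.ι = g :=
    ⟨IsOpenImmersion.lift U.ι g hgU, IsOpenImmersion.lift_fac _ _ _⟩
  -- the `K`-point at `x'`
  have hη : (pullback.snd f g) x' = ιK (closedPoint (FractionRing A')) := by
    rw [hιK]
    exact hx'η.trans
      (specMap_closedPoint_eq_genericPoint (IsFractionRing.injective A' (FractionRing A'))).symm
  obtain ⟨σ, hσpt, hσ⟩ := exists_point_lift (pullback.snd f g) ιK x' hη hρ
  have hpb := isPullback_morphismRestrict f U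
  have hw : (ιK ≫ gU) ≫ U.ι = (σ ≫ pullback.fst f g) ≫ f := by
    rw [Category.assoc, hgU', Category.assoc, pullback.condition, ← Category.assoc, hσ]
  obtain ⟨σV, hσV1, hσV2⟩ : ∃ σV : Spec (CommRingCat.of (FractionRing A')) ⟶ ↑(f ⁻¹ᵁ U),
      σV ≫ f ∣_ U = ιK ≫ gU ∧ σV ≫ (f ⁻¹ᵁ U).ι = σ ≫ pullback.fst f g :=
    ⟨hpb.lift _ _ hw, hpb.lift_fst _ _ _, hpb.lift_snd _ _ _⟩
  obtain ⟨T, iW, hiW, hTr, hp', hrW⟩ : ∃ (T : Scheme.{u}) (iW : T ⟶ ↑(f ⁻¹ᵁ U)),
      IsClosedImmersion iW ∧ IsReduced T ∧ IsProper (iW ≫ f ∣_ U) ∧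
      Set.range iW = (f ⁻¹ᵁ U).ι.base ⁻¹' closure Z := by
    refine ⟨_, _, inferInstance, Groth.Agent.Lib.Helper7.isReduced_vanishingIdeal_subscheme _,
      hp, ?_⟩
    rw [Scheme.IdealSheafData.range_subschemeι, Scheme.IdealSheafData.coe_support_vanishingIdeal]
    rfl
  haveI := hiW
  haveI := hTr
  haveI := hp'
  have hrσ : Set.range σV ⊆ Set.range iW := by
    rw [hrW]
    rintro _ ⟨a, rfl⟩
    have ha : a = closedPoint (FractionRing A') := eq_closedPoint_of_field _ a
    subst ha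
    show (f ⁻¹ᵁ U).ι (σV (closedPoint (FractionRing A'))) ∈ closure Z
    rw [← Scheme.Hom.comp_apply, hσV2, Scheme.Hom.comp_apply, hσpt]
    exact subset_closure hx'Z
  obtain ⟨σW, hσW⟩ := Groth.Agent.Lib.Helper7.exists_lift_of_isReduced_of_range_subset σV iW hrσ
  have hex : ValuativeCriterion.Existence (iW ≫ f ∣_ U) := by
    have h0 : UniversallyClosed (iW ≫ f ∣_ U) := inferInstance
    rw [UniversallyClosed.eq_valuativeCriterion] at h0
    exact h0.1
  subst hιK
  let S : ValuativeCommSq (iW ≫ f ∣_ U) :=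
    { R := A', K := FractionRing A', i₁ := σW, i₂ := gU,
      commSq := ⟨by rw [← Category.assoc, hσW, hσV1]⟩ }
  obtain ⟨⟨lW, hl1, hl2⟩⟩ := hex S
  have hl1' : Spec.map (CommRingCat.ofHom (algebraMap A' (FractionRing A'))) ≫ lW = σW := hl1
  have hl2' : lW ≫ iW ≫ f ∣_ U = gU := hl2
  have hw2 : (lW ≫ iW ≫ (f ⁻¹ᵁ U).ι) ≫ f = 𝟙 _ ≫ g := by
    rw [Category.id_comp, Category.assoc, Category.assoc, ← morphismRestrict_ι,
      ← Category.assoc iW, ← Category.assoc lW, hl2', hgU']
  refine ⟨pullback.lift _ _ hw2, pullback.lift_snd _ _ _,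
    (Spec.map (CommRingCat.ofHom (algebraMap A' (FractionRing A')))) (closedPoint _), ?_⟩
  have hs : Spec.map (CommRingCat.ofHom (algebraMap A' (FractionRing A'))) ≫
      pullback.lift _ _ hw2 = σ := by
    apply pullback.hom_ext
    · rw [Category.assoc, pullback.lift_fst, ← Category.assoc, hl1', ← Category.assoc, hσW, hσV2]
    · rw [Category.assoc, pullback.lift_snd, Category.comp_id, hσ]
  change (Spec.map (CommRingCat.ofHom (algebraMap A' (FractionRing A'))) ≫
    pullback.lift _ _ hw2) (closedPoint _) = x'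
  rw [hs, hσpt]

end Groth.Agent.Lib.Helper8.ProperAtDvrCl
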