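import Mathlib
import Groth.Agent.Lib.Helper8.ProperAtDvr

/-!
# Properness at a point for integral schemes via valuation rings of the function field
(EGA IV 15.7, function field version)
-/

set_option autoImplicit false
universe u
open AlgebraicGeometry CategoryTheory CategoryTheory.Limits TopologicalSpace IsLocalRing

namespace Groth.Agent.Lib.Helper8.ProperAtDvrInt

open Groth.Agent.Lib.Helper8.RatPt Groth.Agent.Lib.Helper8.ProperAtDvr

section valuation

variable {K L : Type*} [Field K] [Field L]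

theorem valuation_comap_le_one_iff (A : ValuationSubring L) (χ : K →+* L) (z : K) :
    (A.comap χ).valuation z ≤ 1 ↔ A.valuation (χ z) ≤ 1 := by
  rw [ValuationSubring.valuation_le_one_iff, ValuationSubring.valuation_le_one_iff,
    ValuationSubring.mem_comap]

theorem valuation_comap_lt_one_iff (A : ValuationSubring L) (χ : K →+* L) (z : K) :
    (A.comap χ).valuation z < 1 ↔ A.valuation (χ z) < 1 := by
  rw [← ValuationSubring.mem_nonunits_iff, ← ValuationSubring.mem_nonunits_iff,
    ValuationSubring.mem_nonunits_iff_or, ValuationSubring.mem_nonunits_iff_or,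
    ValuationSubring.mem_comap, map_inv₀, map_eq_zero]

theorem isDiscreteValuationRing_comap (A : ValuationSubring L) [IsDiscreteValuationRing A]
    (χ : K →+* L) (hχ : Function.Bijective χ) : IsDiscreteValuationRing (A.comap χ) := by
  let φ : (A.comap χ) →+* A :=
    (χ.comp (A.comap χ).subtype).codRestrict A (fun a => ValuationSubring.mem_comap.mp a.2)
  have hφ : Function.Bijective φ := by
    constructor
    · intro a b hab
      apply Subtype.ext
      apply hχ.1
      exact congrArg Subtype.val hab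
    · intro a
      obtain ⟨k, hk⟩ := hχ.2 a.1
      refine ⟨⟨k, ?_⟩, Subtype.ext hk⟩
      rw [ValuationSubring.mem_comap, hk]
      exact a.2
  exact IsDiscreteValuationRing.RingEquivClass.isDiscreteValuationRing
    (RingEquiv.ofBijective φ hφ).symm

end valuation

/-- Lifting in a valuative square for a morphism which is proper over an open containing the image
of the closed point. -/
theorem exists_lift_of_isProper_restrict {X Y : Scheme.{u}} (f : X ⟶ Y) (U : Y.Opens)
    [IsProper (f ∣_ U)] {R K : Type u} [CommRing R] [IsDomain R] [ValuationRing R] [Field K]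
    [Algebra R K] [IsFractionRing R K] (x : Spec (CommRingCat.of K) ⟶ X)
    (g : Spec (CommRingCat.of R) ⟶ Y) (hgU : g (closedPoint R) ∈ U)
    (hc : x ≫ f = Spec.map (CommRingCat.ofHom (algebraMap R K)) ≫ g) :
    ∃ l : Spec (CommRingCat.of R) ⟶ X, l ≫ f = g ∧
      Spec.map (CommRingCat.ofHom (algebraMap R K)) ≫ l = x := by
  have hr : Set.range g ⊆ Set.range U.ι := by
    rw [Scheme.Opens.range_ι]
    have h1 : g ⁻¹ᵁ U = ⊤ := Scheme.preimage_eq_top_of_closedPoint_mem g hgU
    rintro _ ⟨a, rfl⟩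
    have : a ∈ g ⁻¹ᵁ U := h1 ▸ trivial
    exact this
  obtain ⟨gU, hgU'⟩ : ∃ gU : Spec (CommRingCat.of R) ⟶ U, gU ≫ U.ι = g :=
    ⟨IsOpenImmersion.lift U.ι g hr, IsOpenImmersion.lift_fac _ _ _⟩
  have hpb := isPullback_morphismRestrict f U
  have hw : (Spec.map (CommRingCat.ofHom (algebraMap R K)) ≫ gU) ≫ U.ι = x ≫ f := by
    rw [Category.assoc, hgU', hc]
  obtain ⟨xV, hxV1, hxV2⟩ : ∃ xV : Spec (CommRingCat.of K) ⟶ ↑(f ⁻¹ᵁ U),
      xV ≫ f ∣_ U = Spec.map (CommRingCat.ofHom (algebraMap R K)) ≫ gU ∧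
      xV ≫ (f ⁻¹ᵁ U).ι = x :=
    ⟨hpb.lift _ _ hw, hpb.lift_fst _ _ _, hpb.lift_snd _ _ _⟩
  have hex : ValuativeCriterion.Existence (f ∣_ U) := by
    have h0 : UniversallyClosed (f ∣_ U) := inferInstance
    rw [UniversallyClosed.eq_valuativeCriterion] at h0
    exact h0.1
  let S : ValuativeCommSq (f ∣_ U) :=
    { R := R, K := K, i₁ := xV, i₂ := gU, commSq := ⟨hxV1⟩ }
  obtain ⟨⟨lU, hl1, hl2⟩⟩ := hex S
  have hl1' : Spec.map (CommRingCat.ofHom (algebraMap R K)) ≫ lU = xV := hl1
  have hl2' : lU ≫ f ∣_ U = gU := hl2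
  refine ⟨lU ≫ (f ⁻¹ᵁ U).ι, ?_, ?_⟩
  · rw [Category.assoc, ← morphismRestrict_ι, ← Category.assoc, hl2', hgU']
  · rw [← Category.assoc, hl1', hxV2]

/-- From a local homomorphism `𝒪_{X,x₀} → A` (given by domination inside `L`) to a lift. -/
theorem exists_lift_of_dominates {X Y : Scheme.{u}} (f : X ⟶ Y) (ξ x₀ : X) (hsp : ξ ⤳ x₀)
    {L : Type u} [Field L] (A : ValuationSubring L)
    (χ : X.presheaf.stalk ξ ⟶ CommRingCat.of L)
    (γ : Y.presheaf.stalk (f x₀) ⟶ CommRingCat.of A)
    (hγ : γ ≫ CommRingCat.ofHom A.subtype =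
      Y.presheaf.stalkSpecializes (f.base.hom.map_specializes hsp) ≫ f.stalkMap ξ ≫ χ)
    (h1 : ∀ r : X.presheaf.stalk x₀, χ.hom ((X.presheaf.stalkSpecializes hsp).hom r) ∈ A)
    (h2 : ∀ r ∈ maximalIdeal (X.presheaf.stalk x₀),
      χ.hom ((X.presheaf.stalkSpecializes hsp).hom r) ∈ A.nonunits) :
    ∃ l : Spec (CommRingCat.of A) ⟶ X, l ≫ f = Spec.map γ ≫ Y.fromSpecStalk (f x₀) ∧
      Spec.map (CommRingCat.ofHom A.subtype) ≫ l = Spec.map χ ≫ X.fromSpecStalk ξ := by
  let θ : X.presheaf.stalk x₀ →+* A :=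
    (χ.hom.comp (X.presheaf.stalkSpecializes hsp).hom).codRestrict A h1
  have key : f.stalkMap x₀ ≫ CommRingCat.ofHom θ = γ := by
    apply CommRingCat.hom_ext
    apply RingHom.ext
    intro r
    apply Subtype.ext
    have h3 := congrArg (fun φ => φ.hom r) hγ
    have h4 := Scheme.Hom.stalkSpecializes_stalkMap_apply f ξ x₀ hsp r
    exact (congrArg χ.hom h4.symm).trans h3.symm
  refine ⟨Spec.map (CommRingCat.ofHom θ) ≫ X.fromSpecStalk x₀, ?_, ?_⟩
  · rw [Category.assoc, ← Scheme.SpecMap_stalkMap_fromSpecStalk, ← key, Spec.map_comp,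
      Category.assoc]
    rfl
  · rw [← Scheme.SpecMap_stalkSpecializes_fromSpecStalk hsp, ← Category.assoc, ← Category.assoc,
      ← Spec.map_comp, ← Spec.map_comp]
    rfl

end Groth.Agent.Lib.Helper8.ProperAtDvrInt
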