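import Mathlib
import Groth.Agent.Lib.Helper8.ProperAtDvrInt

/-!
# Properness at a point for integral schemes via valuation rings of the function field, II
-/

set_option autoImplicit false
universe u
open AlgebraicGeometry CategoryTheory CategoryTheory.Limits TopologicalSpace IsLocalRing

namespace Groth.Agent.Lib.Helper8.ProperAtDvrInt

open Groth.Agent.Lib.Helper8.RatPt Groth.Agent.Lib.Helper8.ProperAtDvr

/-- EGA IV 15.7 (function field version), the direct implication. -/
theorem exists_point_dominated {X Y : Scheme.{u}} [IsIntegral X] (f : X ⟶ Y) (y : Y)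
    (hξ : f.base (genericPoint X) ⤳ y) (U : Y.Opens) (hyU : y ∈ U) [IsProper (f ∣_ U)]
    (A : ValuationSubring X.functionField)
    (h1 : ∀ r : Y.presheaf.stalk y, A.valuation
      ((Y.presheaf.stalkSpecializes hξ ≫ f.stalkMap (genericPoint X)) r) ≤ 1)
    (h2 : ∀ r ∈ IsLocalRing.maximalIdeal (Y.presheaf.stalk y), A.valuation
      ((Y.presheaf.stalkSpecializes hξ ≫ f.stalkMap (genericPoint X)) r) < 1) :
    ∃ x : X, f.base x = y ∧
      (∀ r : X.presheaf.stalk x,
        A.valuation (X.presheaf.stalkSpecializes (genericPoint_specializes x) r) ≤ 1) ∧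
      (∀ r ∈ IsLocalRing.maximalIdeal (X.presheaf.stalk x),
        A.valuation (X.presheaf.stalkSpecializes (genericPoint_specializes x) r) < 1) := by
  obtain ⟨φy, hφy⟩ : ∃ φy : Y.presheaf.stalk y ⟶ X.functionField,
      φy = Y.presheaf.stalkSpecializes hξ ≫ f.stalkMap (genericPoint X) := ⟨_, rfl⟩
  rw [← hφy] at h1 h2
  have hmem : ∀ r, φy.hom r ∈ A := fun r => (A.valuation_le_one_iff _).mp (h1 r)
  let ψ : Y.presheaf.stalk y →+* A := φy.hom.codRestrict A hmem
  haveI : IsLocalHom ψ := by
    constructor
    intro r hr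
    by_contra hnu
    have hm : r ∈ maximalIdeal (Y.presheaf.stalk y) := (mem_maximalIdeal r).mpr hnu
    have h4 : ψ r ∈ maximalIdeal A := (A.valuation_lt_one_iff (ψ r)).mpr (h2 r hm)
    exact ((mem_maximalIdeal _).mp h4) hr
  have hψ : CommRingCat.ofHom ψ ≫ CommRingCat.ofHom A.subtype = φy := by
    apply CommRingCat.hom_ext
    apply RingHom.ext
    intro r
    rfl
  obtain ⟨g, hg⟩ : ∃ g : Spec (CommRingCat.of A) ⟶ Y,
      g = Spec.map (CommRingCat.ofHom ψ) ≫ Y.fromSpecStalk y := ⟨_, rfl⟩
  have hgcl : g (closedPoint A) = y := by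
    rw [hg, Scheme.Hom.comp_apply]
    have h3 : (Spec.map (CommRingCat.ofHom ψ)) (closedPoint A) =
        closedPoint (Y.presheaf.stalk y) := IsLocalRing.comap_closedPoint ψ
    rw [h3, Scheme.fromSpecStalk_closedPoint]
  have hsq : X.fromSpecStalk (genericPoint X) ≫ f =
      Spec.map (CommRingCat.ofHom (algebraMap A X.functionField)) ≫ g := by
    have h3 : Spec.map (CommRingCat.ofHom (algebraMap A X.functionField)) ≫ g =
        Spec.map φy ≫ Y.fromSpecStalk y := by
      rw [hg, ← Category.assoc, ← Spec.map_comp, ← hψ]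
      rfl
    rw [h3, hφy, Spec.map_comp, Category.assoc, Scheme.SpecMap_stalkSpecializes_fromSpecStalk,
      Scheme.SpecMap_stalkMap_fromSpecStalk]
  obtain ⟨l, hl1, hl2⟩ := exists_lift_of_isProper_restrict f U
    (X.fromSpecStalk (genericPoint X)) g (by rw [hgcl]; exact hyU) hsq
  have hfx : f.base (l (closedPoint A)) = y := by
    change (l ≫ f) (closedPoint A) = y
    rw [hl1, hgcl]
  have hθ : Scheme.stalkClosedPointTo l ≫ CommRingCat.ofHom A.subtype =
      X.presheaf.stalkSpecializes (genericPoint_specializes (l (closedPoint A))) := by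
    have h3 := Scheme.Spec_stalkClosedPointTo_fromSpecStalk l
    have h4 : Spec.map (Scheme.stalkClosedPointTo l ≫ CommRingCat.ofHom A.subtype) ≫
        X.fromSpecStalk (l (closedPoint A)) =
        Spec.map (X.presheaf.stalkSpecializes (genericPoint_specializes (l (closedPoint A)))) ≫
        X.fromSpecStalk (l (closedPoint A)) := by
      rw [Scheme.SpecMap_stalkSpecializes_fromSpecStalk, Spec.map_comp, Category.assoc, h3]
      exact hl2
    exact Spec.map_injective ((cancel_mono _).mp h4)
  refine ⟨l (closedPoint A), hfx, fun r => ?_, fun r hr => ?_⟩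
  · have h3 : (X.presheaf.stalkSpecializes (genericPoint_specializes (l (closedPoint A)))) r =
        (((Scheme.stalkClosedPointTo l).hom r : A) : X.functionField) :=
      (congrArg (fun φ => φ.hom r) hθ).symm
    rw [h3]
    exact A.valuation_le_one _
  · have h3 : (X.presheaf.stalkSpecializes (genericPoint_specializes (l (closedPoint A)))) r =
        (((Scheme.stalkClosedPointTo l).hom r : A) : X.functionField) :=
      (congrArg (fun φ => φ.hom r) hθ).symm
    rw [h3]
    exact (A.valuation_lt_one_iff _).mp (map_nonunit (Scheme.stalkClosedPointTo l).hom r hr)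

/-- EGA IV 15.7 (function field version): the domination condition gives the DVR lifting
property at the generic point. -/
theorem dvrLiftsAt_of_dominated {X Y : Scheme.{u}} [IsIntegral X] (f : X ⟶ Y) (y : Y)
    (hξ : f.base (genericPoint X) ⤳ y)
    (Hval : ∀ A : ValuationSubring X.functionField, IsDiscreteValuationRing A →
        (∀ r : Y.presheaf.stalk y, A.valuation
          ((Y.presheaf.stalkSpecializes hξ ≫ f.stalkMap (genericPoint X)) r) ≤ 1) →
        (∀ r ∈ IsLocalRing.maximalIdeal (Y.presheaf.stalk y), A.valuation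
          ((Y.presheaf.stalkSpecializes hξ ≫ f.stalkMap (genericPoint X)) r) < 1) →
        ∃ x : X, f.base x = y ∧
          (∀ r : X.presheaf.stalk x,
            A.valuation (X.presheaf.stalkSpecializes (genericPoint_specializes x) r) ≤ 1) ∧
          (∀ r ∈ IsLocalRing.maximalIdeal (X.presheaf.stalk x),
            A.valuation (X.presheaf.stalkSpecializes (genericPoint_specializes x) r) < 1)) :
    DvrLiftsAt f y {genericPoint X} := by
  intro L _ A hA x g hg hc hx hb
  haveI := hA
  -- present `x`
  obtain ⟨x₁, τ, rfl⟩ := exists_eq_specMap_fromSpecResidueField x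
  rw [specMap_fromSpecResidueField_apply, Set.mem_singleton_iff] at hx
  subst hx
  have hτ : Function.Bijective τ.hom := (desc_bijective_iff _ _ τ rfl).mp hb
  -- present `g`
  obtain ⟨y', γ, hγloc, rfl⟩ : ∃ (y' : Y) (γ : Y.presheaf.stalk y' ⟶ CommRingCat.of A),
      IsLocalHom γ.hom ∧ g = Spec.map γ ≫ Y.fromSpecStalk y' :=
    ⟨_, Scheme.stalkClosedPointTo g, inferInstance,
      (Scheme.Spec_stalkClosedPointTo_fromSpecStalk g).symm⟩
  haveI := hγloc
  have hy' : y' = y := by
    rw [← hg, Scheme.Hom.comp_apply]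
    have h3 : (Spec.map γ) (closedPoint A) = closedPoint (Y.presheaf.stalk y') :=
      IsLocalRing.comap_closedPoint γ.hom
    rw [h3, Scheme.fromSpecStalk_closedPoint]
  subst hy'
  obtain ⟨χ, hχ⟩ : ∃ χ : X.presheaf.stalk (genericPoint X) ⟶ CommRingCat.of L,
      χ = X.residue (genericPoint X) ≫ τ := ⟨_, rfl⟩
  have hχb : Function.Bijective χ.hom := by
    rw [hχ]
    have h3 : Function.Bijective (X.residue (genericPoint X)).hom :=
      ⟨RingHom.injective _, X.residue_surjective _⟩
    exact hτ.comp h3
  have hxeq : Spec.map τ ≫ X.fromSpecResidueField (genericPoint X) =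
      Spec.map χ ≫ X.fromSpecStalk (genericPoint X) := by
    rw [hχ, Spec.map_comp, Category.assoc]
    rfl
  rw [hxeq] at hc ⊢
  -- the key compatibility
  have hstar : γ ≫ CommRingCat.ofHom A.subtype =
      Y.presheaf.stalkSpecializes hξ ≫ f.stalkMap (genericPoint X) ≫ χ := by
    have h4 : Spec.map (γ ≫ CommRingCat.ofHom A.subtype) ≫ Y.fromSpecStalk y' =
        Spec.map (Y.presheaf.stalkSpecializes hξ ≫ f.stalkMap (genericPoint X) ≫ χ) ≫
          Y.fromSpecStalk y' := by
      rw [Spec.map_comp, Category.assoc, ← hc, Spec.map_comp, Spec.map_comp, Category.assoc,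
        Category.assoc, Category.assoc, Scheme.SpecMap_stalkSpecializes_fromSpecStalk,
        Scheme.SpecMap_stalkMap_fromSpecStalk]
    exact Spec.map_injective ((cancel_mono _).mp h4)
  haveI : IsDiscreteValuationRing (A.comap χ.hom) :=
    isDiscreteValuationRing_comap A χ.hom hχb
  have hγr : ∀ r : Y.presheaf.stalk y', χ.hom ((Y.presheaf.stalkSpecializes hξ ≫
      f.stalkMap (genericPoint X)).hom r) = ((γ.hom r : A) : L) := fun r =>
    (congrArg (fun φ => φ.hom r) hstar).symm
  obtain ⟨x₀, hfx₀, d1, d2⟩ := Hval (A.comap χ.hom) inferInstance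
    (fun r => by
      rw [valuation_comap_le_one_iff]
      have h5 := hγr r
      rw [ValuationSubring.valuation_le_one_iff]
      exact h5 ▸ (γ.hom r).2)
    (fun r hr => by
      rw [valuation_comap_lt_one_iff]
      have h5 := hγr r
      have h6 : A.valuation ((γ.hom r : A) : L) < 1 :=
        (A.valuation_lt_one_iff _).mp (map_nonunit γ.hom r hr)
      exact h5 ▸ h6)
  subst hfx₀
  obtain ⟨l, hl1, hl2⟩ := exists_lift_of_dominates f (genericPoint X) x₀
    (genericPoint_specializes x₀) A χ γ hstar
    (fun r => by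
      have h5 := d1 r
      rw [valuation_comap_le_one_iff, ValuationSubring.valuation_le_one_iff] at h5
      exact h5)
    (fun r hr => by
      have h5 := d2 r hr
      rw [valuation_comap_lt_one_iff] at h5
      exact h5)
  exact ⟨l, hl1, hl2⟩

end Groth.Agent.Lib.Helper8.ProperAtDvrInt
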