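import Mathlib
import Groth.Agent.Lib.Helper14.DepthTwoSections

/-!
# Finiteness from a regular pair and saturation (helper8)

Pure algebra used for the finiteness of global sections of a finite flat cover of the punctured
spectrum of a Noetherian local domain of depth at least two.
-/

set_option autoImplicit false

namespace Groth.Agent.Lib.Helper8.PuncFinAlg

open Groth.Agent.Lib.Helper14.DepthTwoSections

section scalar

variable {A : Type*} [CommRing A] [IsDomain A] (K : Type*) [Field K] [Algebra A K]
  [IsFractionRing A K]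

/-- scalar Hartogs: a fraction whose multiples by `xⁿ` and `yⁿ` are integral is integral, for a
regular pair `x, y`. -/
theorem scalar_hartogs (x y : A) (hx : ∀ a, x * a = 0 → a = 0)
    (hy : ∀ a b, y * a = x * b → ∃ c, a = x * c) (n : ℕ) (s : K) (a b : A)
    (ha : algebraMap A K a = algebraMap A K x ^ n * s)
    (hb : algebraMap A K b = algebraMap A K y ^ n * s) : ∃ c : A, algebraMap A K c = s := by
  have hinj : Function.Injective (algebraMap A K) := IsFractionRing.injective A K
  have h1 : y ^ n * a = x ^ n * b := by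
    apply hinj
    rw [map_mul, map_mul, map_pow, map_pow, ha, hb]
    ring
  obtain ⟨c, hc⟩ := exists_eq_pow_mul_of_pow_mul x y hx hy n n a b h1
  refine ⟨c, ?_⟩
  have hx0 : x ≠ 0 := by
    intro h0
    have := hx 1 (by rw [h0, zero_mul])
    exact one_ne_zero this
  have hxK : algebraMap A K x ^ n ≠ 0 :=
    pow_ne_zero _ (fun h => hx0 (hinj (by rw [h, map_zero])))
  apply mul_left_cancel₀ hxK
  rw [← ha, hc, map_mul, map_pow]

end scalar

/-- A torsion-free module over a Noetherian domain which is the "saturation" of a finitely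
generated submodule with respect to a regular pair is finite. -/
theorem finite_of_saturation {A C : Type*} [CommRing A] [IsDomain A] [IsNoetherianRing A]
    [AddCommGroup C] [Module A C]
    (x y : A) (hx : ∀ a, x * a = 0 → a = 0) (hy : ∀ a b, y * a = x * b → ∃ c, a = x * c)
    (htf : ∀ (a : A) (c : C), a ≠ 0 → a • c = 0 → c = 0)
    (T : Finset C)
    (hsat : ∀ c : C, ∃ n : ℕ, x ^ n • c ∈ Submodule.span A (T : Set C) ∧
      y ^ n • c ∈ Submodule.span A (T : Set C)) :
    Module.Finite A C := by
  classical
  let K := FractionRing A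
  let S := nonZeroDivisors A
  let CK := LocalizedModule S C
  let ι : C →ₗ[A] CK := LocalizedModule.mkLinearMap S C
  have hinj : Function.Injective (algebraMap A K) := IsFractionRing.injective A K
  have hx0 : x ≠ 0 := by
    intro h0
    have := hx 1 (by rw [h0, zero_mul])
    exact one_ne_zero this
  -- (i) `ι` is injective
  have hι : Function.Injective ι := by
    rw [← LinearMap.ker_eq_bot, LinearMap.ker_eq_bot']
    intro c hc
    obtain ⟨s, hs⟩ := (IsLocalizedModule.eq_zero_iff S ι).mp hc
    exact htf s.1 c (nonZeroDivisors.ne_zero s.2) hs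
  -- (ii) the image of `T` spans
  have hspan : Submodule.span K (ι '' (T : Set C)) = ⊤ := by
    rw [eq_top_iff]
    rintro z -
    obtain ⟨⟨m, s⟩, hms⟩ := IsLocalizedModule.surj S ι z
    obtain ⟨n, hn, -⟩ := hsat m
    have h1 : ι (x ^ n • m) ∈ Submodule.span K (ι '' (T : Set C)) := by
      have h0 : ι (x ^ n • m) ∈ Submodule.span A (ι '' (T : Set C)) := by
        rw [← Submodule.map_span]
        exact Submodule.mem_map_of_mem hn
      exact Submodule.span_subset_span A K _ h0
    have h2 : (algebraMap A K (x ^ n * s.1)) • z = ι (x ^ n • m) := by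
      rw [algebraMap_smul, mul_smul, map_smul]
      congr 1
    have h3 : algebraMap A K (x ^ n * s.1) ≠ 0 := by
      intro h
      have h4 : x ^ n * s.1 = 0 := hinj (by rw [h, map_zero])
      rcases mul_eq_zero.mp h4 with h5 | h5
      · exact hx0 (pow_eq_zero_iff (n := n) (by
          intro hn0; subst hn0; simp at h5) |>.mp h5)
      · exact nonZeroDivisors.ne_zero s.2 h5
    have h5 : z = (algebraMap A K (x ^ n * s.1))⁻¹ • ι (x ^ n • m) := by
      rw [← h2, smul_smul, inv_mul_cancel₀ h3, one_smul]
    rw [h5]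
    exact Submodule.smul_mem _ _ h1
  haveI : Module.Finite K CK := ⟨⟨T.image ι, by rw [Finset.coe_image]; exact hspan⟩⟩
  -- (iii) coordinates
  let k := Module.finrank K CK
  let bs : Module.Basis (Fin k) K CK := Module.finBasis K CK
  let θ : CK ≃ₗ[K] (Fin k → K) := bs.equivFun
  -- (iv) common denominator
  let Q : Finset K := (T ×ˢ (Finset.univ : Finset (Fin k))).image (fun p => θ (ι p.1) p.2)
  obtain ⟨d, hd⟩ := IsLocalization.exist_integer_multiples_of_finset S Q
  have hd0 : (d : A) ≠ 0 := nonZeroDivisors.ne_zero d.2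
  -- (v) the map
  let Φ : C →ₗ[A] (Fin k → K) :=
    (d : A) • ((θ.restrictScalars A).toLinearMap ∘ₗ ι)
  have hΦ_apply : ∀ c, Φ c = (d : A) • θ (ι c) := fun c => rfl
  let E : (Fin k → A) →ₗ[A] (Fin k → K) := (Algebra.linearMap A K).compLeft (Fin k)
  have hE_apply : ∀ u i, E u i = algebraMap A K (u i) := fun u i => rfl
  have hE : Function.Injective E := fun u v h => funext fun i => hinj (congrFun h i)
  have hmemE : ∀ v : Fin k → K, (∀ i, ∃ a : A, algebraMap A K a = v i) → v ∈ LinearMap.range E := by
    intro v hv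
    choose u hu using hv
    exact ⟨u, funext fun i => (hE_apply u i).trans (hu i)⟩
  have hT_in : ∀ t ∈ T, Φ t ∈ LinearMap.range E := by
    intro t ht
    apply hmemE
    intro i
    have hq : θ (ι t) i ∈ Q := Finset.mem_image.mpr ⟨(t, i), by simp [ht], rfl⟩
    obtain ⟨r, hr⟩ := hd _ hq
    exact ⟨r, by rw [hr, hΦ_apply]; rfl⟩
  have hspan_in : ∀ m ∈ Submodule.span A (T : Set C), Φ m ∈ LinearMap.range E := by
    intro m hm
    have hle : Submodule.span A (T : Set C) ≤ (LinearMap.range E).comap Φ :=
      Submodule.span_le.mpr (fun t ht => hT_in t ht)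
    exact hle hm
  have hall : ∀ c, Φ c ∈ LinearMap.range E := by
    intro c
    obtain ⟨n, hxn, hyn⟩ := hsat c
    obtain ⟨u, hu⟩ := hspan_in _ hxn
    obtain ⟨v, hv⟩ := hspan_in _ hyn
    apply hmemE
    intro i
    refine scalar_hartogs K x y hx hy n (Φ c i) (u i) (v i) ?_ ?_
    · rw [← hE_apply, hu, map_smul, Pi.smul_apply, Algebra.smul_def, map_pow]
    · rw [← hE_apply, hv, map_smul, Pi.smul_apply, Algebra.smul_def, map_pow]
  have hΦ : Function.Injective Φ := by
    rw [← LinearMap.ker_eq_bot, LinearMap.ker_eq_bot']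
    intro c hc
    rw [hΦ_apply, ← algebraMap_smul K (d : A), smul_eq_zero] at hc
    rcases hc with hc | hc
    · exact absurd (hinj (by rw [hc, map_zero])) hd0
    · exact hι (by rw [map_zero]; exact θ.injective (by rw [hc, map_zero]))
  let Ψ : C →ₗ[A] (Fin k → A) :=
    (LinearEquiv.ofInjective E hE).symm.toLinearMap ∘ₗ Φ.codRestrict (LinearMap.range E) hall
  have hΨ : Function.Injective Ψ := by
    intro c c' h
    have h1 : Φ.codRestrict (LinearMap.range E) hall c = Φ.codRestrict (LinearMap.range E) hall c' :=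
      (LinearEquiv.ofInjective E hE).symm.injective h
    exact hΦ (congrArg Subtype.val h1)
  exact Module.Finite.of_injective Ψ hΨ

/-- If `C_f` is finite over `A_f`, then `C` is the `f`-saturation of a finitely generated
`A`-submodule. -/
theorem exists_finset_sat {A C A' C' : Type*} [CommRing A] [CommRing C] [CommRing A']
    [CommRing C'] [Algebra A C] [Algebra A A'] [Algebra C C'] (f : A) [IsLocalization.Away f A']
    (hC' : IsLocalization.Away (algebraMap A C f) C') (σ : A' →+* C') (hσ : σ.Finite)
    (hcomm : σ.comp (algebraMap A A') = (algebraMap C C').comp (algebraMap A C)) :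
    ∃ T : Finset C, ∀ c : C, ∃ n : ℕ, f ^ n • c ∈ Submodule.span A (T : Set C) := by
  classical
  letI : Algebra A' C' := σ.toAlgebra
  letI : Algebra A C' := ((algebraMap C C').comp (algebraMap A C)).toAlgebra
  haveI : IsScalarTower A C C' := IsScalarTower.of_algebraMap_eq (fun _ => rfl)
  haveI : IsScalarTower A A' C' :=
    IsScalarTower.of_algebraMap_eq (fun a => (RingHom.congr_fun hcomm a).symm)
  haveI : Module.Finite A' C' := hσ
  haveI : IsLocalization ((Submonoid.powers f).map (algebraMap A C)) C' := by
    rw [Submonoid.map_powers]; exact hC'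
  obtain ⟨s, hs⟩ := (Module.Finite.fg_top : (⊤ : Submodule A' C').FG)
  refine ⟨IsLocalization.finsetIntegerMultiple ((Submonoid.powers f).map (algebraMap A C)) s,
    fun c => ?_⟩
  obtain ⟨⟨_, n1, rfl⟩, ht⟩ := multiple_mem_span_of_mem_localization_span (Submonoid.powers f) A'
    (s : Set C') (algebraMap C C' c) (by rw [hs]; trivial)
  have h1 : algebraMap C C' (f ^ n1 • c) ∈ Submodule.span A (s : Set C') := by
    rw [Algebra.algebraMap_eq_smul_one, smul_assoc, ← Algebra.algebraMap_eq_smul_one]
    exact ht
  obtain ⟨⟨_, n2, rfl⟩, hm⟩ := IsLocalization.smul_mem_finsetIntegerMultiple_span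
    (Submonoid.powers f) C' (f ^ n1 • c) s h1
  refine ⟨n2 + n1, ?_⟩
  rw [pow_add, mul_smul]
  exact hm

end Groth.Agent.Lib.Helper8.PuncFinAlg
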