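import Mathlib
import Groth.Agent.Lib.Helper8.PuncFinAlg
import Groth.Agent.Lib.Helper14.DepthTwoFEt
import Groth.Agent.Lib.Helper4.SerreNormal

/-!
# Finite étale covers of the punctured spectrum of a normal local domain (helper8)

* `finite_appTop_punctured`: global sections of a finite flat cover of the punctured spectrum of a
  Noetherian local domain of depth `≥ 2` are finite over the base.
* `exists_extension`: if the ring of global sections is finite étale, the cover extends.
-/

set_option autoImplicit false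

universe u

open AlgebraicGeometry CategoryTheory Opposite TopologicalSpace CategoryTheory.Limits

namespace Groth.Agent.Lib.Helper8.PuncFinSch

open Groth.Agent.Lib.Helper14.DepthTwoSections Groth.Agent.Lib.Helper14.DepthTwoFEt

/-- torsion-freeness of global sections of a flat scheme over an integral affine base -/
theorem eq_zero_of_appTop_mul_eq_zero {W S : Scheme.{u}} (g : W ⟶ S) [Flat g] [IsAffine S]
    [IsDomain Γ(S, ⊤)] (a : Γ(S, ⊤)) (ha : a ≠ 0) (c : Γ(W, ⊤))
    (h : g.appTop.hom a * c = 0) : c = 0 := by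
  refine TopCat.Sheaf.eq_of_locally_eq' W.sheaf (fun V : W.affineOpens => V.1) ⊤
    (fun V => homOfLE le_top) ?_ c 0 ?_
  · rw [iSup_affineOpens_eq_top]
  · intro V
    show res (le_top : V.1 ≤ ⊤) c = res le_top 0
    rw [map_zero]
    have hflat : (g.appLE ⊤ V.1 le_top).hom.Flat :=
      HasRingHomProperty.appLE (P := @Flat) g inferInstance ⟨⊤, isAffineOpen_top S⟩ V le_top
    have hreg : IsSMulRegular Γ(S, ⊤) a := (IsRegular.of_ne_zero ha).left.isSMulRegular
    have h2 : (g.appLE ⊤ V.1 le_top).hom a * res le_top c = 0 := by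
      have h3 : (g.appLE ⊤ V.1 le_top).hom a = res le_top (g.appTop.hom a) := rfl
      rw [h3, ← map_mul, h, map_zero]
    letI := (g.appLE ⊤ V.1 le_top).hom.toAlgebra
    haveI : Module.Flat Γ(S, ⊤) Γ(W, V.1) := hflat
    have h3 := IsSMulRegular.of_flat (S := Γ(W, V.1)) hreg
    apply h3
    show (g.appLE ⊤ V.1 le_top).hom a * res le_top c = (g.appLE ⊤ V.1 le_top).hom a * 0
    rw [h2, mul_zero]

lemma finite_appLE_of_eq {X Y : Scheme.{u}} (f : X ⟶ Y) (U : Y.Opens) (V : X.Opens)
    (e : V = f ⁻¹ᵁ U) (h : (f.app U).hom.Finite) : (f.appLE U V e.le).hom.Finite := by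
  subst e
  rw [Scheme.Hom.appLE_eq_app]
  exact h

/-- saturation: if `g` is finite over `D(f)`, then `Γ(W, ⊤)` is the `f`-saturation of a finitely
generated submodule. -/
theorem exists_finset_sat_sch {W S : Scheme.{u}} (g : W ⟶ S) [IsAffine S] [CompactSpace W]
    [QuasiSeparatedSpace W] (f : Γ(S, ⊤)) (hfin : (g.app (S.basicOpen f)).hom.Finite) :
    letI := g.appTop.hom.toAlgebra
    ∃ T : Finset Γ(W, ⊤), ∀ c : Γ(W, ⊤), ∃ n : ℕ,
      f ^ n • c ∈ Submodule.span Γ(S, ⊤) (T : Set Γ(W, ⊤)) := by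
  letI := g.appTop.hom.toAlgebra
  have e : W.basicOpen (g.appTop f) = g ⁻¹ᵁ S.basicOpen f :=
    (Scheme.preimage_basicOpen_top g f).symm
  have hC' : IsLocalization.Away (g.appTop f) Γ(W, W.basicOpen (g.appTop f)) :=
    isLocalization_basicOpen_of_qcqs isCompact_univ isQuasiSeparated_univ _
  have hσ : (g.appLE (S.basicOpen f) (W.basicOpen (g.appTop f)) e.le).hom.Finite :=
    finite_appLE_of_eq g _ _ e hfin
  refine PuncFinAlg.exists_finset_sat f hC'
    (g.appLE (S.basicOpen f) (W.basicOpen (g.appTop f)) e.le).hom hσ ?_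
  change CommRingCat.Hom.hom (S.presheaf.map _ ≫ g.appLE _ _ _) =
    CommRingCat.Hom.hom (g.appTop ≫ W.presheaf.map _)
  rw [g.map_appLE, Scheme.Hom.appLE]
  rfl

theorem finite_app_of_le {S W : Scheme.{u}} (U : S.Opens) (π : W ⟶ (U : Scheme.{u})) [IsFinite π]
    (D : S.Opens) (hD : IsAffineOpen D) (hDU : D ≤ U) :
    ((π ≫ U.ι).app D).hom.Finite := by
  have hDU' : D ≤ U.ι.opensRange := by rw [Scheme.Opens.opensRange_ι]; exact hDU
  have h1 : IsAffineOpen (U.ι ⁻¹ᵁ D) := hD.preimage_of_isOpenImmersion U.ι hDU'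
  have h2 := IsFinite.finite_app π (U.ι ⁻¹ᵁ D) h1
  haveI : IsIso (U.ι.app D) := Scheme.Hom.isIso_app U.ι D hDU'
  have h3 : Function.Bijective (U.ι.app D).hom :=
    (ConcreteCategory.isIso_iff_bijective _).mp inferInstance
  show ((π.app (U.ι ⁻¹ᵁ D)).hom.comp (U.ι.app D).hom).Finite
  exact RingHom.Finite.comp h2 (RingHom.Finite.of_surjective _ h3.2)

section punctured

variable (A : Type u) [CommRing A] [IsNoetherianRing A] [IsLocalRing A]

instance compactSpace_puncturedSpec : CompactSpace (FEt.puncturedSpec A : Scheme.{u}) := by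
  have h : IsCompact ((FEt.puncturedSpec A : (Spec (CommRingCat.of A)).Opens) :
      Set (Spec (CommRingCat.of A))) :=
    TopologicalSpace.NoetherianSpace.isCompact _
  exact isCompact_iff_compactSpace.mp h

instance isQuasiAffine_puncturedSpec : (FEt.puncturedSpec A : Scheme.{u}).IsQuasiAffine :=
  Scheme.IsQuasiAffine.of_isImmersion (FEt.puncturedSpec A).ι

variable [IsDomain A]

/-- Finiteness of the global sections of a finite flat cover of the punctured spectrum of a
Noetherian local domain of depth at least two. -/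
theorem finite_appTop_punctured (hA : (2 : ℕ∞) ≤ LocCoh.depth A A) {W : Scheme.{u}}
    (π : W ⟶ (FEt.puncturedSpec A : Scheme.{u})) [IsFinite π] [Flat π] :
    (π ≫ (FEt.puncturedSpec A).ι).appTop.hom.Finite := by
  obtain ⟨a, b, hab, haU, hbU⟩ := exists_regular_pair_spec A hA
  obtain ⟨hx, hy⟩ := pair_of_isWeaklyRegular hab
  let e : A ≃+* Γ(Spec (CommRingCat.of A), ⊤) :=
    (Scheme.ΓSpecIso (CommRingCat.of A)).symm.commRingCatIsoToRingEquiv
  haveI : IsDomain Γ(Spec (CommRingCat.of A), ⊤) := e.symm.toMulEquiv.isDomain A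
  haveI : IsNoetherianRing Γ(Spec (CommRingCat.of A), ⊤) := isNoetherianRing_of_ringEquiv A e
  haveI : W.IsQuasiAffine := Scheme.IsQuasiAffine.of_isAffineHom π
  haveI : Flat (π ≫ (FEt.puncturedSpec A).ι) := inferInstance
  letI := (π ≫ (FEt.puncturedSpec A).ι).appTop.hom.toAlgebra
  obtain ⟨Ta, hTa⟩ := exists_finset_sat_sch (π ≫ (FEt.puncturedSpec A).ι) a
    (finite_app_of_le _ π _ ((isAffineOpen_top _).basicOpen a) haU)
  obtain ⟨Tb, hTb⟩ := exists_finset_sat_sch (π ≫ (FEt.puncturedSpec A).ι) b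
    (finite_app_of_le _ π _ ((isAffineOpen_top _).basicOpen b) hbU)
  have hfin : Module.Finite Γ(Spec (CommRingCat.of A), ⊤) Γ(W, ⊤) := by
    classical
    refine PuncFinAlg.finite_of_saturation a b hx hy ?_ (Ta ∪ Tb) ?_
    · intro r c hr hrc
      rw [Algebra.smul_def] at hrc
      exact eq_zero_of_appTop_mul_eq_zero (π ≫ (FEt.puncturedSpec A).ι) r hr c hrc
    · intro c
      obtain ⟨n, hn⟩ := hTa c
      obtain ⟨m, hm⟩ := hTb c
      refine ⟨n + m, ?_, ?_⟩
      · rw [pow_add, mul_comm, mul_smul]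
        exact Submodule.smul_mem _ _ (Submodule.span_mono (by simp) hn)
      · rw [pow_add, mul_smul]
        exact Submodule.smul_mem _ _ (Submodule.span_mono (by simp) hm)
  exact hfin

end punctured

section normal

open Groth.Agent.Lib.Helper4 Groth.Agent.Lib.Helper4.SerreNormal

theorem depth_two_of_normal (A : Type u) [CommRing A] [IsDomain A] [IsNoetherianRing A]
    [IsLocalRing A] [IsIntegrallyClosed A] (hdim : (2 : WithBot ℕ∞) ≤ ringKrullDim A) :
    (2 : ℕ∞) ≤ LocCoh.depth A A := by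
  have h1 := min_two_le_depth_of_normal A
  have h2 : (2 : ℕ∞) ≤ (IsLocalRing.maximalIdeal A).height := by
    rw [← IsLocalRing.maximalIdeal_height_eq_ringKrullDim] at hdim
    have h' : ((2 : ℕ∞) : WithBot ℕ∞) ≤ ((IsLocalRing.maximalIdeal A).height : WithBot ℕ∞) := hdim
    exact WithBot.coe_le_coe.mp h'
  rw [min_eq_left (by exact_mod_cast h2)] at h1
  exact_mod_cast h1

end normal

section extension

variable (A : Type u) [CommRing A] [IsNoetherianRing A] [IsLocalRing A]

/-- If the ring of global sections of a finite étale cover of the punctured spectrum is finite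
étale over `A` (depth `≥ 2`), the cover extends. -/
theorem exists_extension (hA : (2 : ℕ∞) ≤ LocCoh.depth A A)
    (V : FEt.Cat (FEt.puncturedSpec A : Scheme.{u}))
    (hfin : (((V.hom ≫ (FEt.puncturedSpec A).ι).appTop).hom.comp
      (Scheme.ΓSpecIso (CommRingCat.of A)).inv.hom).Finite)
    (het : (((V.hom ≫ (FEt.puncturedSpec A).ι).appTop).hom.comp
      (Scheme.ΓSpecIso (CommRingCat.of A)).inv.hom).Etale) :
    ∃ Y : FEt.Cat (Spec (CommRingCat.of A)),
      Nonempty ((FEt.restrict (FEt.puncturedSpec A).ι).obj Y ≅ V) := by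
  let π : V.left ⟶ (FEt.puncturedSpec A : Scheme.{u}) := V.hom
  haveI : IsFinite π := V.prop.1
  obtain ⟨a, b, hab, ha, hb⟩ := exists_regular_pair_spec A hA
  have hbij : Function.Bijective (FEt.puncturedSpec A).ι.appTop.hom :=
    bijective_res_preimage_of_flat (𝟙 (Spec (CommRingCat.of A))) a b hab (FEt.puncturedSpec A)
      ha hb ((FEt.puncturedSpec A).ι ''ᵁ ⊤) (Scheme.Opens.ι_image_top _)
  haveI : IsIso (FEt.puncturedSpec A).ι.appTop := (ConcreteCategory.isIso_iff_bijective _).mpr hbij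
  let φ : CommRingCat.of A ⟶ Γ(V.left, ⊤) :=
    (Scheme.ΓSpecIso (CommRingCat.of A)).inv ≫ (π ≫ (FEt.puncturedSpec A).ι).appTop
  let e : Spec Γ((FEt.puncturedSpec A : Scheme.{u}), ⊤) ⟶ Spec (CommRingCat.of A) :=
    Spec.map (FEt.puncturedSpec A).ι.appTop ≫ Spec.map (Scheme.ΓSpecIso (CommRingCat.of A)).inv
  haveI : IsIso e := inferInstance
  have he : (FEt.puncturedSpec A : Scheme.{u}).toSpecΓ ≫ e = (FEt.puncturedSpec A).ι := by
    show _ ≫ Spec.map _ ≫ Spec.map _ = _
    rw [← Category.assoc, ← Scheme.toSpecΓ_naturality, Category.assoc,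
      toSpecΓ_SpecMap_ΓSpecIso_inv, Category.comp_id]
  have hφ : Spec.map π.appTop ≫ e = Spec.map φ := by
    show _ ≫ Spec.map _ ≫ Spec.map _ = Spec.map (_ ≫ _)
    rw [Scheme.Hom.comp_appTop, Spec.map_comp, Spec.map_comp, Category.assoc]
  have h1 : IsPullback V.left.toSpecΓ π (Spec.map π.appTop)
      (FEt.puncturedSpec A : Scheme.{u}).toSpecΓ := (Scheme.isPullback_toSpecΓ_toSpecΓ π).flip
  have h2 : IsPullback (FEt.puncturedSpec A : Scheme.{u}).toSpecΓ (𝟙 _) e
      (FEt.puncturedSpec A).ι := IsPullback.of_vert_isIso ⟨by rw [he, Category.id_comp]⟩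
  have h3 := h1.paste_vert h2
  rw [Category.comp_id, hφ] at h3
  have hfin' : IsFinite (Spec.map φ) := (IsFinite.SpecMap_iff φ).mpr hfin
  have het' : Etale (Spec.map φ) := (HasRingHomProperty.Spec_iff (P := @Etale)).mpr het
  refine ⟨MorphismProperty.Over.mk ⊤ (Spec.map φ) ⟨hfin', het'⟩,
    ⟨MorphismProperty.Over.isoMk h3.isoPullback.symm ?_⟩⟩
  exact h3.isoPullback_inv_snd

/-- If the cover extends, the ring of global sections is étale over `A`. -/
theorem etale_of_extends (hA : (2 : ℕ∞) ≤ LocCoh.depth A A)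
    (V : FEt.Cat (FEt.puncturedSpec A : Scheme.{u}))
    (hV : ∃ Y : FEt.Cat (Spec (CommRingCat.of A)),
      Nonempty ((FEt.restrict (FEt.puncturedSpec A).ι).obj Y ≅ V)) :
    (((V.hom ≫ (FEt.puncturedSpec A).ι).appTop).hom.comp
      (Scheme.ΓSpecIso (CommRingCat.of A)).inv.hom).Etale := by
  classical
  obtain ⟨Y, ⟨i⟩⟩ := hV
  haveI := Groth.Agent.Lib.Helper14.DepthTwoFEt.isAffine_left Y
  let f : Y.left ⟶ Spec (CommRingCat.of A) := Y.hom
  haveI : IsFinite f := Y.prop.1
  haveI : Etale f := Y.prop.2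
  have hcomp : V.hom ≫ (FEt.puncturedSpec A).ι =
      i.inv.left ≫ pullback.fst f (FEt.puncturedSpec A).ι ≫ f := by
    have h1 : i.inv.left ≫ ((FEt.restrict (FEt.puncturedSpec A).ι).obj Y).hom = V.hom :=
      Over.w i.inv.hom
    have h2 : ((FEt.restrict (FEt.puncturedSpec A).ι).obj Y).hom =
        pullback.snd f (FEt.puncturedSpec A).ι := rfl
    calc V.hom ≫ (FEt.puncturedSpec A).ι
        = (i.inv.left ≫ pullback.snd f (FEt.puncturedSpec A).ι) ≫ (FEt.puncturedSpec A).ι := by
          rw [← h1]; rfl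
      _ = i.inv.left ≫ pullback.fst f (FEt.puncturedSpec A).ι ≫ f := by
          rw [Category.assoc]
          exact congrArg (fun t => i.inv.left ≫ t)
            (pullback.condition (f := f) (g := (FEt.puncturedSpec A).ι)).symm
  have hbij1 := Groth.Agent.Lib.Helper14.DepthTwoFEt.bijective_fst_appTop hA Y
  have hbij2 : Function.Bijective i.inv.left.appTop.hom := by
    have : IsIso i.inv.left := inferInstance
    have : IsIso (i.inv.left.app ⊤) := inferInstance
    exact (ConcreteCategory.isIso_iff_bijective _).mp this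
  have hbij3 : Function.Bijective (Scheme.ΓSpecIso (CommRingCat.of A)).inv.hom :=
    (ConcreteCategory.isIso_iff_bijective _).mp inferInstance
  have heq : ((V.hom ≫ (FEt.puncturedSpec A).ι).appTop).hom.comp
        (Scheme.ΓSpecIso (CommRingCat.of A)).inv.hom =
      (i.inv.left.appTop.hom.comp (pullback.fst f (FEt.puncturedSpec A).ι).appTop.hom).comp
        (f.appTop.hom.comp (Scheme.ΓSpecIso (CommRingCat.of A)).inv.hom) := by
    rw [hcomp, Scheme.Hom.comp_appTop, Scheme.Hom.comp_appTop]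
    rfl
  rw [heq]
  have hb : Function.Bijective
      (i.inv.left.appTop.hom.comp (pullback.fst f (FEt.puncturedSpec A).ι).appTop.hom) := by
    rw [RingHom.coe_comp]; exact hbij2.comp hbij1
  refine RingHom.Etale.stableUnderComposition _ _ ?_ (RingHom.Etale.of_bijective hb)
  exact RingHom.Etale.stableUnderComposition _ _ (RingHom.Etale.of_bijective hbij3)
    (HasRingHomProperty.appTop (P := @Etale) f inferInstance)

end extension

end Groth.Agent.Lib.Helper8.PuncFinSch
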