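import Mathlib
import Groth.Prelude
import Groth.Agent.Lib.Helper8.BranchNbhdMain
import Groth.Agent.Lib.Helper8.Hzl.Noeth2
import Groth.Agent.Lib.Helper8.Hzl.Transfer

/-!
# Geometric unibranchness and connectedness of punctured spectra of strict henselizations
-/

set_option autoImplicit false
universe u

open AlgebraicGeometry CategoryTheory Limits IsLocalRing

namespace Groth.Agent.Lib.Helper8.PuncturedConn

open Groth.Agent.Lib.Helper8.Hzl

section ring

/-- A local ring whose maximal ideal is a minimal prime is geometrically unibranch. -/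
theorem isGeomUnibranch_of_maximalIdeal_mem_minimalPrimes (A : Type u) [CommRing A]
    [IsLocalRing A] (h : maximalIdeal A ∈ minimalPrimes A) : CAlg2.IsGeomUnibranch A := by
  haveI := isStrictHenselization A
  rw [EtaleUnibranch.isGeomUnibranch_iff_hasUniqueMinimalPrime (A := A) (Ash := SHens A)]
  have hnil : maximalIdeal A ≤ nilradical A := by
    rw [nilradical_eq_sInf]
    refine le_sInf fun p hp => ?_
    have hp' : p.IsPrime := hp
    exact h.2 ⟨hp', bot_le⟩ (IsLocalRing.le_maximalIdeal hp'.ne_top)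
  have hS : ∀ Q : Ideal (SHens A), Q.IsPrime → Q = maximalIdeal (SHens A) := by
    intro Q hQ
    have h1 : maximalIdeal (SHens A) ≤ Q := by
      rw [← strictHenselization_map_maximalIdeal A (SHens A), Ideal.map_le_iff_le_comap]
      intro a ha
      obtain ⟨n, hn⟩ := mem_nilradical.mp (hnil ha)
      rw [Ideal.mem_comap]
      apply hQ.mem_of_pow_mem n
      rw [← map_pow, hn, map_zero]
      exact Q.zero_mem
    exact le_antisymm (IsLocalRing.le_maximalIdeal hQ.ne_top) h1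
  exact ⟨maximalIdeal (SHens A),
    ⟨⟨(maximalIdeal.isMaximal _).isPrime, bot_le⟩, fun Q hQ _ => (hS Q hQ.1).ge⟩,
    fun Q hQ => hS Q hQ.1.1⟩

/-- In a noetherian local ring with preconnected punctured spectrum, two classes of minimal
primes (none of them the maximal ideal) are linked through a non-maximal prime. -/
theorem exists_prime_of_isPreconnected (S : Type u) [CommRing S] [IsLocalRing S]
    [IsNoetherianRing S]
    (hconn : _root_.IsPreconnected ({closedPoint S}ᶜ : Set (PrimeSpectrum S)))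
    (M : Set (Ideal S))
    (P₁ P₂ : Ideal S) (hP₁ : P₁ ∈ minimalPrimes S) (hP₂ : P₂ ∈ minimalPrimes S)
    (hM₁ : P₁ ∈ M) (hM₂ : P₂ ∉ M)
    (hne₁ : P₁ ≠ maximalIdeal S) (hne₂ : P₂ ≠ maximalIdeal S) :
    ∃ Q : Ideal S, Q.IsPrime ∧ Q ≠ maximalIdeal S ∧
      ∃ P ∈ minimalPrimes S, ∃ P' ∈ minimalPrimes S, P ∈ M ∧ P' ∉ M ∧ P ≤ Q ∧ P' ≤ Q := by
  classical
  have hfin : (minimalPrimes S).Finite := minimalPrimes.finite_of_isNoetherianRing S
  let T₁ : Set (PrimeSpectrum S) :=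
    ⋃ P ∈ (minimalPrimes S ∩ M), PrimeSpectrum.zeroLocus (P : Set S)
  let T₂ : Set (PrimeSpectrum S) :=
    ⋃ P ∈ (minimalPrimes S ∩ Mᶜ), PrimeSpectrum.zeroLocus (P : Set S)
  have hT₁ : IsClosed T₁ := (hfin.subset Set.inter_subset_left).isClosed_biUnion
    (fun P _ => PrimeSpectrum.isClosed_zeroLocus _)
  have hT₂ : IsClosed T₂ := (hfin.subset Set.inter_subset_left).isClosed_biUnion
    (fun P _ => PrimeSpectrum.isClosed_zeroLocus _)
  have hcov : ({closedPoint S}ᶜ : Set (PrimeSpectrum S)) ⊆ T₁ ∪ T₂ := by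
    intro Q _
    haveI := Q.2
    obtain ⟨P, hP, hPQ⟩ := Ideal.exists_minimalPrimes_le (bot_le : (⊥ : Ideal S) ≤ Q.asIdeal)
    by_cases hPM : P ∈ M
    · left
      exact Set.mem_biUnion (⟨hP, hPM⟩ : P ∈ minimalPrimes S ∩ M)
        ((PrimeSpectrum.mem_zeroLocus _ _).mpr hPQ)
    · right
      exact Set.mem_biUnion (⟨hP, hPM⟩ : P ∈ minimalPrimes S ∩ Mᶜ)
        ((PrimeSpectrum.mem_zeroLocus _ _).mpr hPQ)
  have hne1 : (({closedPoint S}ᶜ : Set (PrimeSpectrum S)) ∩ T₁).Nonempty := by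
    refine ⟨⟨P₁, hP₁.1.1⟩, ?_, Set.mem_biUnion (⟨hP₁, hM₁⟩ : P₁ ∈ minimalPrimes S ∩ M)
      ((PrimeSpectrum.mem_zeroLocus _ _).mpr le_rfl)⟩
    intro h
    exact hne₁ (congrArg PrimeSpectrum.asIdeal h)
  have hne2 : (({closedPoint S}ᶜ : Set (PrimeSpectrum S)) ∩ T₂).Nonempty := by
    refine ⟨⟨P₂, hP₂.1.1⟩, ?_, Set.mem_biUnion (⟨hP₂, hM₂⟩ : P₂ ∈ minimalPrimes S ∩ Mᶜ)
      ((PrimeSpectrum.mem_zeroLocus _ _).mpr le_rfl)⟩
    intro h
    exact hne₂ (congrArg PrimeSpectrum.asIdeal h)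
  obtain ⟨Q, hQW, hQ1, hQ2⟩ :=
    (isPreconnected_closed_iff.mp hconn) T₁ T₂ hT₁ hT₂ hcov hne1 hne2
  obtain ⟨P, ⟨hP, hPM⟩, hPQ⟩ := Set.mem_iUnion₂.mp hQ1
  obtain ⟨P', ⟨hP', hPM'⟩, hPQ'⟩ := Set.mem_iUnion₂.mp hQ2
  refine ⟨Q.asIdeal, Q.2, ?_, P, hP, P', hP', hPM, hPM',
    (PrimeSpectrum.mem_zeroLocus _ _).mp hPQ, (PrimeSpectrum.mem_zeroLocus _ _).mp hPQ'⟩
  intro h
  exact hQW (PrimeSpectrum.ext h)

end ring

section sch

/-- The strict henselization of the local ring at `g u` is a strict henselization of the local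
ring at `u`, for `g` étale. -/
theorem exists_isStrictHenselization_stalk {X U : Scheme.{u}} (g : U ⟶ X) [Etale g] (u : U)
    (Ash : Type u) [CommRing Ash] [IsLocalRing Ash] [Algebra (X.presheaf.stalk (g u)) Ash]
    [IsLocalHom (algebraMap (X.presheaf.stalk (g u)) Ash)]
    [Hensel.IsStrictHenselization (X.presheaf.stalk (g u)) Ash] :
    ∃ (φ : U.presheaf.stalk u →+* Ash) (hφ : IsLocalHom φ),
      φ.comp (g.stalkMap u).hom = algebraMap (X.presheaf.stalk (g u)) Ash ∧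
      @Hensel.IsStrictHenselization (U.presheaf.stalk u) Ash _ _ _ _ φ.toAlgebra hφ := by
  have hf : ∃ U' : U.Opens, u ∈ U' ∧ Etale (U'.ι ≫ g) := ⟨⊤, trivial, inferInstance⟩
  obtain ⟨W, V, hW, hV, hVW, hxV, het⟩ :=
    Groth.Agent.Lib.Helper8.EtaleAffineNhd.exists_affine_etale_appLE g u hf
  have hyW : g u ∈ W := hVW hxV
  have hcomm : X.presheaf.germ W (g u) hyW ≫ g.stalkMap u =
      g.appLE W V hVW ≫ U.presheaf.germ V u hxV := by
    rw [Scheme.Hom.germ_stalkMap, Scheme.Hom.appLE, Category.assoc, TopCat.Presheaf.germ_res]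
  letI algAC : Algebra Γ(X, W) Γ(U, V) := (g.appLE W V hVW).hom.toAlgebra
  haveI : Algebra.Etale Γ(X, W) Γ(U, V) := het
  letI algA : Algebra Γ(X, W) (X.presheaf.stalk (g u)) :=
    X.presheaf.algebra_section_stalk ⟨g u, hyW⟩
  letI algB : Algebra Γ(U, V) (U.presheaf.stalk u) := U.presheaf.algebra_section_stalk ⟨u, hxV⟩
  letI algAB : Algebra (X.presheaf.stalk (g u)) (U.presheaf.stalk u) :=
    (g.stalkMap u).hom.toAlgebra
  letI algA₀B : Algebra Γ(X, W) (U.presheaf.stalk u) :=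
    ((U.presheaf.germ V u hxV).hom.comp (g.appLE W V hVW).hom).toAlgebra
  haveI : IsScalarTower Γ(X, W) Γ(U, V) (U.presheaf.stalk u) :=
    IsScalarTower.of_algebraMap_eq (fun _ => rfl)
  haveI : IsScalarTower Γ(X, W) (X.presheaf.stalk (g u)) (U.presheaf.stalk u) := by
    refine IsScalarTower.of_algebraMap_eq (fun a => ?_)
    have := congrArg (fun φ => φ.hom a) hcomm
    exact this.symm
  haveI : IsLocalHom (algebraMap (X.presheaf.stalk (g u)) (U.presheaf.stalk u)) :=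
    (inferInstance : IsLocalHom (g.stalkMap u).hom)
  haveI := hW.isLocalization_stalk ⟨g u, hyW⟩
  haveI := hV.isLocalization_stalk ⟨u, hxV⟩
  exact EtaleUnibranch.exists_isStrictHenselization_of_etale
    (hW.primeIdealOf ⟨g u, hyW⟩).asIdeal (hV.primeIdealOf ⟨u, hxV⟩).asIdeal
    (X.presheaf.stalk (g u)) (U.presheaf.stalk u) Ash

/-- The maximal ideal of the local ring at `x` is a minimal prime iff `x` is a maximal point. -/
theorem maximalIdeal_mem_minimalPrimes_iff (X : Scheme.{u}) (x : X) :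
    maximalIdeal (X.presheaf.stalk x) ∈ minimalPrimes (X.presheaf.stalk x) ↔
      closure ({x} : Set X) ∈ irreducibleComponents X := by
  rw [Groth.Agent.Lib.Helper15.NT.closure_singleton_mem_irreducibleComponents_iff]
  constructor
  · intro h t ht
    have hmem : t ∈ Set.range (X.fromSpecStalk x) := by
      rw [Scheme.range_fromSpecStalk]; exact ht
    obtain ⟨𝔱, rfl⟩ := hmem
    have h1 : maximalIdeal _ ≤ 𝔱.asIdeal :=
      h.2 ⟨𝔱.2, bot_le⟩ (le_maximalIdeal 𝔱.2.ne_top)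
    have h2 : 𝔱 = closedPoint _ :=
      PrimeSpectrum.ext (le_antisymm (le_maximalIdeal 𝔱.2.ne_top) h1)
    rw [h2, Scheme.fromSpecStalk_closedPoint]
  · intro h
    refine ⟨⟨(maximalIdeal.isMaximal _).isPrime, bot_le⟩, ?_⟩
    rintro p ⟨hp, -⟩ _
    have ht : X.fromSpecStalk x ⟨p, hp⟩ ⤳ x := by
      have hmem : X.fromSpecStalk x ⟨p, hp⟩ ∈ Set.range (X.fromSpecStalk x) := ⟨_, rfl⟩
      rw [Scheme.range_fromSpecStalk] at hmem; exact hmem
    have h1 := h _ ht
    have h2 : X.fromSpecStalk x (closedPoint _) ⤳ X.fromSpecStalk x ⟨p, hp⟩ := by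
      rw [Scheme.fromSpecStalk_closedPoint]; exact h1
    have h3 : closedPoint (X.presheaf.stalk x) ⤳ (⟨p, hp⟩ : PrimeSpectrum _) :=
      (X.fromSpecStalk x).isEmbedding.isInducing.specializes_iff.mp h2
    exact (PrimeSpectrum.le_iff_specializes _ _).mpr h3

/-- Inductive step. -/
theorem isGeomUnibranch_stalk_of_generizations
    (hbr : ∀ (R S : Type u) [CommRing R] [IsLocalRing R] [CommRing S] [IsLocalRing S]
      [Algebra R S] [IsLocalHom (algebraMap R S)] [Hensel.IsStrictHenselization R S],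
      ENat.card (minimalPrimes S) = Brnch.numGeomBranches R)
    (X : Scheme.{u}) (x : X) [IsNoetherianRing (X.presheaf.stalk x)]
    (hx : closure ({x} : Set X) ∉ irreducibleComponents X)
    (hconn : _root_.IsPreconnected ({closedPoint (SHens (X.presheaf.stalk x))}ᶜ :
      Set (PrimeSpectrum (SHens (X.presheaf.stalk x)))))
    (IH : ∀ x' : X, x' ⤳ x → x' ≠ x → CAlg2.IsGeomUnibranch (X.presheaf.stalk x')) :
    CAlg2.IsGeomUnibranch (X.presheaf.stalk x) := by
  rw [BranchNbhd.isGeomUnibranch_stalk_iff X x hbr]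
  intro U g u hg hgu
  subst hgu
  haveI := hg
  refine le_antisymm ?_ (BranchNbhd.one_le_encard_irreducibleComponents_mem U u)
  by_contra hlt
  rw [not_le, Set.one_lt_encard_iff] at hlt
  obtain ⟨Z₁, Z₂, hZ₁, hZ₂, hZne⟩ := hlt
  have hb0 := Groth.Agent.Lib.Helper15.NT.bijOn_irreducibleComponents_of_range_eq_generizations
    (A := ↥(Spec (U.presheaf.stalk u))) (B := U)
    (f := (U.fromSpecStalk u : _ → _))
    (U.fromSpecStalk u).isEmbedding.isInducing u Scheme.range_fromSpecStalk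
  have hb : Set.BijOn (fun z : PrimeSpectrum (U.presheaf.stalk u) =>
        closure ({(U.fromSpecStalk u) z} : Set U))
      {z : PrimeSpectrum (U.presheaf.stalk u) |
        closure ({z} : Set (PrimeSpectrum (U.presheaf.stalk u))) ∈
          irreducibleComponents (PrimeSpectrum (U.presheaf.stalk u))}
      {Z : Set U | Z ∈ irreducibleComponents U ∧ u ∈ Z} := hb0
  obtain ⟨𝔷₁, h𝔷₁, rfl⟩ := hb.surjOn hZ₁
  obtain ⟨𝔷₂, h𝔷₂, rfl⟩ := hb.surjOn hZ₂
  have h𝔷ne : 𝔷₁ ≠ 𝔷₂ := fun h => hZne (by rw [h])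
  have h𝔷₁' : 𝔷₁.asIdeal ∈ minimalPrimes (U.presheaf.stalk u) :=
    (BranchNbhd.closure_singleton_mem_irreducibleComponents_iff 𝔷₁).mp h𝔷₁
  have h𝔷₂' : 𝔷₂.asIdeal ∈ minimalPrimes (U.presheaf.stalk u) :=
    (BranchNbhd.closure_singleton_mem_irreducibleComponents_iff 𝔷₂).mp h𝔷₂
  haveI := isStrictHenselization (X.presheaf.stalk (g u))
  obtain ⟨φ, hφ, hcomp, hB⟩ :=
    exists_isStrictHenselization_stalk g u (SHens (X.presheaf.stalk (g u)))
  letI algB : Algebra (U.presheaf.stalk u) (SHens (X.presheaf.stalk (g u))) := φ.toAlgebra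
  haveI : IsLocalHom (algebraMap (U.presheaf.stalk u) (SHens (X.presheaf.stalk (g u)))) := hφ
  haveI : Hensel.IsStrictHenselization (U.presheaf.stalk u)
    (SHens (X.presheaf.stalk (g u))) := hB
  haveI := strictHenselization_faithfullyFlat (U.presheaf.stalk u)
    (SHens (X.presheaf.stalk (g u)))
  haveI := strictHenselization_faithfullyFlat (X.presheaf.stalk (g u))
    (SHens (X.presheaf.stalk (g u)))
  haveI : IsNoetherianRing (SHens (X.presheaf.stalk (g u))) :=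
    (strictHenselization_isNoetherianRing_iff (X.presheaf.stalk (g u))
      (SHens (X.presheaf.stalk (g u)))).mp inferInstance
  obtain ⟨P₁, hP₁, hP₁c⟩ := BranchCount.exists_minimalPrime_comap_eq (U.presheaf.stalk u)
    (SHens (X.presheaf.stalk (g u))) 𝔷₁.asIdeal h𝔷₁'
  obtain ⟨P₂, hP₂, hP₂c⟩ := BranchCount.exists_minimalPrime_comap_eq (U.presheaf.stalk u)
    (SHens (X.presheaf.stalk (g u))) 𝔷₂.asIdeal h𝔷₂'
  have hnemax : ∀ P ∈ minimalPrimes (SHens (X.presheaf.stalk (g u))),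
      P ≠ maximalIdeal (SHens (X.presheaf.stalk (g u))) := by
    rintro P hP rfl
    apply hx
    rw [← maximalIdeal_mem_minimalPrimes_iff]
    have h1 := BranchSum.comap_mem_minimalPrimes (X.presheaf.stalk (g u))
      (SHens (X.presheaf.stalk (g u))) hP
    have h2 : (maximalIdeal (SHens (X.presheaf.stalk (g u)))).comap
        (algebraMap (X.presheaf.stalk (g u)) (SHens (X.presheaf.stalk (g u)))) =
        maximalIdeal (X.presheaf.stalk (g u)) :=
      ((IsLocalRing.local_hom_TFAE (algebraMap (X.presheaf.stalk (g u))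
        (SHens (X.presheaf.stalk (g u))))).out 0 4).mp
        (inferInstance : IsLocalHom (algebraMap (X.presheaf.stalk (g u))
          (SHens (X.presheaf.stalk (g u)))))
    rwa [h2] at h1
  obtain ⟨Q, hQ, hQne, P, hP, P', hP', hPM, hPM', hPQ, hP'Q⟩ :=
    exists_prime_of_isPreconnected (SHens (X.presheaf.stalk (g u))) hconn
      {P | P.comap (algebraMap (U.presheaf.stalk u) (SHens (X.presheaf.stalk (g u)))) =
        𝔷₁.asIdeal}
      P₁ P₂ hP₁ hP₂ hP₁c
      (by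
        show ¬ (P₂.comap _ = 𝔷₁.asIdeal)
        rw [hP₂c]
        exact fun h => h𝔷ne (PrimeSpectrum.ext h).symm)
      (hnemax P₁ hP₁) (hnemax P₂ hP₂)
  haveI := hQ
  haveI := hP'.1.1
  obtain ⟨𝔮, h𝔮⟩ : ∃ 𝔮 : PrimeSpectrum (U.presheaf.stalk u), 𝔮.asIdeal =
      Q.comap (algebraMap (U.presheaf.stalk u) (SHens (X.presheaf.stalk (g u)))) :=
    ⟨⟨_, Ideal.comap_isPrime _ _⟩, rfl⟩
  obtain ⟨𝔷', h𝔷'⟩ : ∃ 𝔷' : PrimeSpectrum (U.presheaf.stalk u), 𝔷'.asIdeal =
      P'.comap (algebraMap (U.presheaf.stalk u) (SHens (X.presheaf.stalk (g u)))) :=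
    ⟨⟨_, Ideal.comap_isPrime _ _⟩, rfl⟩
  have h𝔷'min : 𝔷'.asIdeal ∈ minimalPrimes (U.presheaf.stalk u) := by
    rw [h𝔷']
    exact BranchSum.comap_mem_minimalPrimes (U.presheaf.stalk u)
      (SHens (X.presheaf.stalk (g u))) hP'
  have h𝔷'ne : 𝔷' ≠ 𝔷₁ := fun h => hPM' (by
    show P'.comap _ = 𝔷₁.asIdeal
    rw [← h𝔷', h])
  have hs1 : 𝔷₁ ⤳ 𝔮 := (PrimeSpectrum.le_iff_specializes _ _).mp (by
    show 𝔷₁.asIdeal ≤ 𝔮.asIdeal
    rw [h𝔮, ← (hPM : P.comap _ = 𝔷₁.asIdeal)]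
    exact Ideal.comap_mono hPQ)
  have hs2 : 𝔷' ⤳ 𝔮 := (PrimeSpectrum.le_iff_specializes _ _).mp (by
    show 𝔷'.asIdeal ≤ 𝔮.asIdeal
    rw [h𝔮, h𝔷']
    exact Ideal.comap_mono hP'Q)
  have hu'1 : U.fromSpecStalk u 𝔮 ∈ closure ({U.fromSpecStalk u 𝔷₁} : Set U) :=
    specializes_iff_mem_closure.mp (hs1.map (U.fromSpecStalk u).continuous)
  have hu'2 : U.fromSpecStalk u 𝔮 ∈ closure ({U.fromSpecStalk u 𝔷'} : Set U) :=
    specializes_iff_mem_closure.mp (hs2.map (U.fromSpecStalk u).continuous)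
  have h𝔷'mem : 𝔷' ∈ {z : PrimeSpectrum (U.presheaf.stalk u) |
        closure ({z} : Set (PrimeSpectrum (U.presheaf.stalk u))) ∈
          irreducibleComponents (PrimeSpectrum (U.presheaf.stalk u))} :=
    (BranchNbhd.closure_singleton_mem_irreducibleComponents_iff 𝔷').mpr h𝔷'min
  have hZ' := hb.mapsTo h𝔷'mem
  have hZZ : closure ({U.fromSpecStalk u 𝔷'} : Set U) ≠ closure {U.fromSpecStalk u 𝔷₁} :=
    fun h => h𝔷'ne (hb.injOn h𝔷'mem h𝔷₁ h)
  have hu'gen : U.fromSpecStalk u 𝔮 ⤳ u := by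
    have hmem : U.fromSpecStalk u 𝔮 ∈ Set.range (U.fromSpecStalk u) := ⟨𝔮, rfl⟩
    rw [Scheme.range_fromSpecStalk] at hmem; exact hmem
  have hx'gen : g (U.fromSpecStalk u 𝔮) ⤳ g u := hu'gen.map g.continuous
  have hx'ne : g (U.fromSpecStalk u 𝔮) ≠ g u := by
    intro heq
    have hcomm := Scheme.SpecMap_stalkMap_fromSpecStalk g (x := u)
    have h3 : (Spec.map (g.stalkMap u) ≫ X.fromSpecStalk (g u)) 𝔮 =
        (U.fromSpecStalk u ≫ g) 𝔮 := by rw [hcomm]
    rw [Scheme.Hom.comp_apply, Scheme.Hom.comp_apply, heq] at h3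
    have h4 : X.fromSpecStalk (g u) ((Spec.map (g.stalkMap u)) 𝔮) =
        X.fromSpecStalk (g u) (closedPoint _) := by
      rw [h3, Scheme.fromSpecStalk_closedPoint]
    have h5 := (X.fromSpecStalk (g u)).isEmbedding.injective h4
    have h6 : (𝔮.asIdeal).comap (g.stalkMap u).hom = maximalIdeal (X.presheaf.stalk (g u)) :=
      congrArg PrimeSpectrum.asIdeal h5
    rw [h𝔮, Ideal.comap_comap] at h6
    have hc : (algebraMap (U.presheaf.stalk u) (SHens (X.presheaf.stalk (g u)))).comp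
        (g.stalkMap u).hom = algebraMap (X.presheaf.stalk (g u)) _ := hcomp
    rw [hc] at h6
    have h7 : maximalIdeal (SHens (X.presheaf.stalk (g u))) ≤ Q := by
      rw [← strictHenselization_map_maximalIdeal (X.presheaf.stalk (g u))
        (SHens (X.presheaf.stalk (g u))), Ideal.map_le_iff_le_comap, h6]
    exact hQne (le_antisymm (le_maximalIdeal hQ.ne_top) h7)
  have hgu' := IH _ hx'gen hx'ne
  rw [BranchNbhd.isGeomUnibranch_stalk_iff X _ hbr] at hgu'
  have h1 := hgu' U g (U.fromSpecStalk u 𝔮) hg rfl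
  rw [Set.encard_eq_one] at h1
  obtain ⟨Z, hZ⟩ := h1
  have ha : closure ({U.fromSpecStalk u 𝔷₁} : Set U) ∈
      {Z : Set U | Z ∈ irreducibleComponents U ∧ U.fromSpecStalk u 𝔮 ∈ Z} := ⟨hZ₁.1, hu'1⟩
  have hb' : closure ({U.fromSpecStalk u 𝔷'} : Set U) ∈
      {Z : Set U | Z ∈ irreducibleComponents U ∧ U.fromSpecStalk u 𝔮 ∈ Z} := ⟨hZ'.1, hu'2⟩
  rw [hZ] at ha hb'
  exact hZZ (hb'.trans ha.symm)

end sch

end Groth.Agent.Lib.Helper8.PuncturedConn
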