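/-
Helper8 library: going-down (lifting of generizations after arbitrary base change) at a quasi-finite
point of a morphism locally of finite type over a geometrically unibranch point.
-/
import Mathlib
import Groth.Prelude
import Groth.Agent.Lib.Helper8.QFUnivOpenAt

set_option autoImplicit false
set_option linter.style.haveILetI false
universe u
open IsLocalRing TensorProduct AlgebraicGeometry CategoryTheory CategoryTheory.Limits

namespace Groth.Agent.Lib.Helper8.QFGoingDownFT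

open Groth.Agent.Lib.Helper8 Groth.Agent.Lib.Helper8.Hzl Groth.Agent.Lib.Helper8.QFGoingDown
open Groth.Agent.Lib.Helper8.QFUnivOpen Groth.Agent.Lib.Helper12.UnivOpenFT
open Groth.Agent.Lib.Helper8.QFUnivOpenAt

/-- A morphism locally of finite type and locally quasi-finite which maps maximal points to
maximal points lifts generizations, after any base change, at the points over a point whose image
is geometrically unibranch. -/
theorem exists_generization_of_geomUnibranch {X Y : Scheme.{u}} (f : X ⟶ Y)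
    [LocallyOfFiniteType f] [LocallyQuasiFinite f] (x : X)
    (hy : CAlg2.IsGeomUnibranch (Y.presheaf.stalk (f.base x)))
    (hmax : ∀ ξ : X, (∀ ξ' : X, ξ' ⤳ ξ → ξ' = ξ) → ∀ η' : Y, η' ⤳ f ξ → η' = f ξ)
    {Y' : Scheme.{u}} (g : Y' ⟶ Y) (x' : ↥(pullback f g))
    (hx' : (pullback.fst f g).base x' = x) (y₁ : Y')
    (hy₁ : y₁ ⤳ (pullback.snd f g).base x') :
    ∃ x₁ : ↥(pullback f g), x₁ ⤳ x' ∧ (pullback.snd f g).base x₁ = y₁ := by
  set y' := (pullback.snd f g).base x' with hy'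
  have hcond : f.base x = g.base y' := by
    rw [← hx', hy', ← Scheme.Hom.comp_apply, ← Scheme.Hom.comp_apply, pullback.condition]
  -- affine charts
  obtain ⟨_, ⟨V, hV, rfl⟩, hxV, -⟩ := Y.isBasis_affineOpens.exists_subset_of_mem_open
    (Set.mem_univ (f.base x)) isOpen_univ
  obtain ⟨_, ⟨U, hU, rfl⟩, hxU, hUV⟩ := X.isBasis_affineOpens.exists_subset_of_mem_open
    (show x ∈ ((f ⁻¹ᵁ V : X.Opens) : Set X) from hxV) (f ⁻¹ᵁ V).2
  obtain ⟨_, ⟨V', hV', rfl⟩, hyV', hV'V⟩ := Y'.isBasis_affineOpens.exists_subset_of_mem_open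
    (show y' ∈ ((g ⁻¹ᵁ V : Y'.Opens) : Set Y') from by
      show g.base y' ∈ (V : Set Y)
      rw [← hcond]; exact hxV) (g ⁻¹ᵁ V).2
  have eU : U ≤ f ⁻¹ᵁ V := hUV
  have eV' : V' ≤ g ⁻¹ᵁ V := hV'V
  have hψfp : (f.appLE V U eU).hom.FiniteType :=
    HasRingHomProperty.appLE @LocallyOfFiniteType f inferInstance ⟨V, hV⟩ ⟨U, hU⟩ eU
  have hψqf : (f.appLE V U eU).hom.QuasiFinite :=
    HasRingHomProperty.appLE @LocallyQuasiFinite f inferInstance ⟨V, hV⟩ ⟨U, hU⟩ eU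
  letI algS : Algebra Γ(Y, V) Γ(X, U) := (f.appLE V U eU).hom.toAlgebra
  letI algT : Algebra Γ(Y, V) Γ(Y', V') := (g.appLE V V' eV').hom.toAlgebra
  haveI : Algebra.FiniteType Γ(Y, V) Γ(X, U) := hψfp
  haveI : Algebra.QuasiFinite Γ(Y, V) Γ(X, U) := hψqf
  have e₁ : Spec.map (CommRingCat.ofHom (algebraMap Γ(Y, V) Γ(X, U))) ≫ hV.fromSpec =
      hU.fromSpec ≫ f := IsAffineOpen.SpecMap_appLE_fromSpec f hV hU eU
  have e₂ : Spec.map (CommRingCat.ofHom (algebraMap Γ(Y, V) Γ(Y', V'))) ≫ hV.fromSpec =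
      hV'.fromSpec ≫ g := IsAffineOpen.SpecMap_appLE_fromSpec g hV hV' eV'
  obtain ⟨c, hcO, hc1, hc2, hcr⟩ := exists_chart f g Γ(Y, V) Γ(X, U) Γ(Y', V')
    hU.fromSpec hV.fromSpec hV'.fromSpec e₁ e₂
  obtain ⟨P, hP⟩ : x' ∈ Set.range c.base := by
    rw [hcr]
    refine ⟨?_, ?_⟩
    · show (pullback.fst f g).base x' ∈ Set.range hU.fromSpec.base
      rw [hU.range_fromSpec, hx']; exact hxU
    · show (pullback.snd f g).base x' ∈ Set.range hV'.fromSpec.base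
      rw [hV'.range_fromSpec]; exact hyV'
  -- the point of `Spec Γ(X, U)` under `P`
  obtain ⟨x₀, hx₀⟩ : ∃ x₀ : Spec Γ(X, U), x₀ = (specInl Γ(Y, V) Γ(X, U) Γ(Y', V')).base P :=
    ⟨_, rfl⟩
  have hx₀x : hU.fromSpec.base x₀ = x := by
    rw [hx₀, ← Scheme.Hom.comp_apply, ← hc1, Scheme.Hom.comp_apply, hP, hx']
  have hnat' : ∀ z : Spec Γ(X, U),
      hV.fromSpec (Spec.map (f.appLE V U eU) z) = f (hU.fromSpec z) := fun z => by
    rw [← Scheme.Hom.comp_apply, ← Scheme.Hom.comp_apply]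
    exact congrArg (fun φ : Spec Γ(X, U) ⟶ Y => φ.base z) e₁
  have hgu : CAlg2.IsGeomUnibranch
      (Localization.AtPrime (x₀.asIdeal.comap (f.appLE V U eU).hom)) := by
    have h1 : CAlg2.IsGeomUnibranch
        (Y.presheaf.stalk (hV.fromSpec (Spec.map (f.appLE V U eU) x₀))) := by
      rw [hnat', hx₀x]; exact hy
    let e₁' : Y.presheaf.stalk (hV.fromSpec (Spec.map (f.appLE V U eU) x₀)) ≃+*
        (Spec Γ(Y, V)).presheaf.stalk (Spec.map (f.appLE V U eU) x₀) :=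
      (asIso (hV.fromSpec.stalkMap (Spec.map (f.appLE V U eU) x₀))).commRingCatIsoToRingEquiv
    let e₂' : (Spec Γ(Y, V)).presheaf.stalk (Spec.map (f.appLE V U eU) x₀) ≃+*
        Localization.AtPrime (x₀.asIdeal.comap (f.appLE V U eU).hom) :=
      (Spec.stalkIso Γ(Y, V) (Spec.map (f.appLE V U eU) x₀)).commRingCatIsoToRingEquiv
    exact SmoothUnibranch.isGeomUnibranch_of_ringEquiv (e₁'.trans e₂').symm h1
  have hmin : ∀ 𝔮 ∈ minimalPrimes Γ(X, U),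
      𝔮.comap (f.appLE V U eU).hom ∈ minimalPrimes Γ(Y, V) := by
    intro 𝔮 h𝔮
    haveI h𝔮p : 𝔮.IsPrime := h𝔮.1.1
    have hξ₀ : ∀ ξ' : Spec Γ(X, U), ξ' ⤳ (⟨𝔮, h𝔮p⟩ : PrimeSpectrum Γ(X, U)) →
        ξ' = (⟨𝔮, h𝔮p⟩ : PrimeSpectrum Γ(X, U)) := by
      intro ξ' h
      have hle : ξ'.asIdeal ≤ 𝔮 := (PrimeSpectrum.le_iff_specializes ξ' ⟨𝔮, h𝔮p⟩).mpr h
      exact PrimeSpectrum.ext (le_antisymm hle (h𝔮.2 ⟨ξ'.isPrime, bot_le⟩ hle))
    have h1 := max_of_isOpenEmbedding _ hU.fromSpec.isOpenEmbedding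
      (⟨𝔮, h𝔮p⟩ : PrimeSpectrum Γ(X, U)) hξ₀
    have h2 := hmax _ h1
    rw [← hnat'] at h2
    refine ⟨⟨Ideal.comap_isPrime _ _, bot_le⟩, fun p' hp' hle => ?_⟩
    have h3 : (⟨p', hp'.1⟩ : PrimeSpectrum Γ(Y, V)) ⤳
        Spec.map (f.appLE V U eU) (⟨𝔮, h𝔮p⟩ : PrimeSpectrum Γ(X, U)) :=
      (PrimeSpectrum.le_iff_specializes (⟨p', hp'.1⟩ : PrimeSpectrum Γ(Y, V)) _).mp hle
    have h4 := h2 (hV.fromSpec (⟨p', hp'.1⟩ : PrimeSpectrum Γ(Y, V)))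
      (h3.map hV.fromSpec.continuous)
    have h5 := hV.fromSpec.isOpenEmbedding.injective h4
    exact (congrArg PrimeSpectrum.asIdeal h5).ge
  haveI hqp : (x₀.asIdeal).IsPrime := x₀.isPrime
  haveI : (x₀.asIdeal).LiesOver (x₀.asIdeal.comap (f.appLE V U eU).hom) := ⟨rfl⟩
  haveI : Algebra.QuasiFiniteAt Γ(Y, V) x₀.asIdeal := inferInstance
  have hPq : (P : PrimeSpectrum (Γ(X, U) ⊗[Γ(Y, V)] Γ(Y', V'))).asIdeal.comap
      (algebraMap Γ(X, U) (Γ(X, U) ⊗[Γ(Y, V)] Γ(Y', V'))) = x₀.asIdeal := by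
    rw [hx₀]; rfl
  -- the point of `Spec Γ(Y', V')` corresponding to `y₁`
  have hy₁V' : y₁ ∈ (V' : Set Y') := hy₁.mem_open V'.2 hyV'
  obtain ⟨c₁, hc₁⟩ : y₁ ∈ Set.range hV'.fromSpec.base := by
    rw [hV'.range_fromSpec]; exact hy₁V'
  have hsndP : hV'.fromSpec.base ((specInr Γ(Y, V) Γ(X, U) Γ(Y', V')).base P) =
      (pullback.snd f g).base x' := by
    rw [← Scheme.Hom.comp_apply, ← hc2, Scheme.Hom.comp_apply, hP]
  have hsp : c₁ ⤳ (specInr Γ(Y, V) Γ(X, U) Γ(Y', V')).base P := by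
    apply hV'.fromSpec.isOpenEmbedding.isInducing.specializes_iff.mp
    rw [hc₁, hsndP]; exact hy₁
  have hle : (c₁ : PrimeSpectrum Γ(Y', V')).asIdeal ≤
      (P : PrimeSpectrum (Γ(X, U) ⊗[Γ(Y, V)] Γ(Y', V'))).asIdeal.comap
        (Algebra.TensorProduct.includeRight :
          Γ(Y', V') →ₐ[Γ(Y, V)] Γ(X, U) ⊗[Γ(Y, V)] Γ(Y', V')).toRingHom :=
    (PrimeSpectrum.le_iff_specializes (c₁ : PrimeSpectrum Γ(Y', V'))
      ((specInr Γ(Y, V) Γ(X, U) Γ(Y', V')).base P)).mpr hsp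
  haveI hc₁p : (c₁ : PrimeSpectrum Γ(Y', V')).asIdeal.IsPrime := c₁.isPrime
  haveI hPp : (P : PrimeSpectrum (Γ(X, U) ⊗[Γ(Y, V)] Γ(Y', V'))).asIdeal.IsPrime := P.isPrime
  obtain ⟨Q'', hQ''p, hQ''le, hQ''c⟩ := goingDown_tensor_at Γ(Y, V) Γ(X, U)
    (x₀.asIdeal.comap (f.appLE V U eU).hom) x₀.asIdeal hgu hmin Γ(Y', V')
    (P : PrimeSpectrum (Γ(X, U) ⊗[Γ(Y, V)] Γ(Y', V'))).asIdeal hPq
    (c₁ : PrimeSpectrum Γ(Y', V')).asIdeal hle
  let P₁ : Spec (CommRingCat.of (Γ(X, U) ⊗[Γ(Y, V)] Γ(Y', V'))) := ⟨Q'', hQ''p⟩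
  refine ⟨c.base P₁, ?_, ?_⟩
  · rw [← hP]
    exact ((PrimeSpectrum.le_iff_specializes
      (P₁ : PrimeSpectrum (Γ(X, U) ⊗[Γ(Y, V)] Γ(Y', V'))) P).mp hQ''le).map c.continuous
  · rw [← Scheme.Hom.comp_apply, hc2, Scheme.Hom.comp_apply, ← hc₁]
    congr 1
    exact PrimeSpectrum.ext hQ''c

end Groth.Agent.Lib.Helper8.QFGoingDownFT
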