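import Mathlib
import Groth.Agent.Lib.Helper14.EssFTLocal
import Groth.Agent.Lib.Helper14.LCF.QFinSlice

/-!
# Primes with quasi-finite quotient (Stacks 0CM0-type lemma)

For a local homomorphism `A → B` of local rings, `A` Noetherian, `B` essentially of finite type with
finite residue field extension, a prime `q₀` of `B` not over `m_A` and `g ∉ q₀`, there is a prime
`q ⊇ q₀`, `g ∉ q`, not over `m_A`, with `B/q` quasi-finite over `A`.
-/

set_option autoImplicit false
universe u

open IsLocalRing Polynomial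

namespace Groth.Agent.Lib.Helper8.QFPrime

lemma enat_aux {a b : ℕ∞} (h0 : 0 < a) (h1 : a < b) (h2 : b ≤ 1) : False := by
  have h : (1 : ℕ∞) ≤ a := by
    have := Order.add_one_le_of_lt h0
    simpa using this
  exact lt_irrefl a (h1.trans_le (h2.trans h))

/-- In a Noetherian local domain in which every nonzero prime contains a fixed nonzero element,
every nonzero prime is the maximal ideal. -/
theorem eq_maximalIdeal_of_forall_mem {D : Type*} [CommRing D] [IsDomain D] [IsNoetherianRing D]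
    [IsLocalRing D] (f : D) (hf : f ≠ 0) (hall : ∀ P : Ideal D, P.IsPrime → P ≠ ⊥ → f ∈ P)
    (P : Ideal D) [hP : P.IsPrime] (hP0 : P ≠ ⊥) : P = maximalIdeal D := by
  classical
  by_contra hne
  have hPlt : P < maximalIdeal D := lt_of_le_of_ne (le_maximalIdeal hP.ne_top) hne
  have hbot : (⊥ : Ideal D) < P := bot_lt_iff_ne_bot.mpr hP0
  haveI hbp : (⊥ : Ideal D).IsPrime := Ideal.isPrime_bot
  have hPpos : 0 < P.height :=
    lt_of_le_of_lt zero_le (Ideal.height_strict_mono_of_isPrime hbot)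
  set I : Ideal D := Ideal.span {f} with hI
  have hfin : I.minimalPrimes.Finite := Ideal.finite_minimalPrimes_of_isNoetherianRing D I
  have hIP : I ≤ P := (Ideal.span_singleton_le_iff_mem _).mpr (hall P hP hP0)
  obtain ⟨P0, hP0min, hP0le⟩ := Ideal.exists_minimalPrimes_le hIP
  have hht : ∀ Q ∈ I.minimalPrimes, Q.height ≤ 1 := fun Q hQ =>
    Ideal.height_le_one_of_isPrincipal_of_mem_minimalPrimes I Q hQ
  have hne0 : ∀ Q ∈ I.minimalPrimes, Q ≠ ⊥ := by
    intro Q hQ h0
    have h1 : f ∈ Q := hQ.1.2 (Ideal.mem_span_singleton_self f)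
    rw [h0, Ideal.mem_bot] at h1
    exact hf h1
  have hnot : ¬ ((maximalIdeal D : Set D) ⊆
      ⋃ Q ∈ (hfin.toFinset : Set (Ideal D)), ((fun Q : Ideal D => Q) Q : Set D)) := by
    intro hsub
    have hprime : ∀ Q ∈ hfin.toFinset, Q ≠ P0 → Q ≠ P0 → (Q : Ideal D).IsPrime :=
      fun Q hQ _ _ => (hfin.mem_toFinset.mp hQ).1.1
    obtain ⟨Q, hQ, hmQ⟩ := (Ideal.subset_union_prime (R := D) (s := hfin.toFinset)
      (f := fun Q : Ideal D => Q) P0 P0 hprime (I := maximalIdeal D)).mp hsub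
    have hQ' : Q ∈ I.minimalPrimes := hfin.mem_toFinset.mp hQ
    haveI : Q.IsPrime := hQ'.1.1
    have hPQ : P < Q := lt_of_lt_of_le hPlt hmQ
    exact enat_aux hPpos (Ideal.height_strict_mono_of_isPrime hPQ) (hht Q hQ')
  obtain ⟨x, hxm, hxn⟩ := Set.not_subset.mp hnot
  have hxQ : ∀ Q ∈ I.minimalPrimes, x ∉ Q := fun Q hQ hx =>
    hxn (Set.mem_biUnion (Finset.mem_coe.mpr (hfin.mem_toFinset.mpr hQ)) hx)
  have hx0 : x ≠ 0 := fun h => hxQ P0 hP0min (h ▸ P0.zero_mem)
  obtain ⟨Q1, hQ1min, hQ1le⟩ := Ideal.exists_minimalPrimes_le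
    (I := Ideal.span {x}) (J := maximalIdeal D) ((Ideal.span_singleton_le_iff_mem _).mpr hxm)
  haveI hQ1P : Q1.IsPrime := hQ1min.1.1
  have hxQ1 : x ∈ Q1 := hQ1min.1.2 (Ideal.mem_span_singleton_self x)
  have hQ1ne : Q1 ≠ ⊥ := fun h => hx0 (by rw [h, Ideal.mem_bot] at hxQ1; exact hxQ1)
  have hQ1ht : Q1.height ≤ 1 :=
    Ideal.height_le_one_of_isPrincipal_of_mem_minimalPrimes (Ideal.span {x}) Q1 hQ1min
  have hfQ1 : I ≤ Q1 := (Ideal.span_singleton_le_iff_mem _).mpr (hall Q1 hQ1P hQ1ne)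
  obtain ⟨P1, hP1min, hP1le⟩ := Ideal.exists_minimalPrimes_le hfQ1
  haveI hP1P : P1.IsPrime := hP1min.1.1
  rcases eq_or_lt_of_le hP1le with h | h
  · exact hxQ P1 hP1min (h ▸ hxQ1)
  · have hP1pos : 0 < P1.height :=
      lt_of_le_of_lt zero_le (Ideal.height_strict_mono_of_isPrime
        (bot_lt_iff_ne_bot.mpr (hne0 P1 hP1min)))
    exact enat_aux hP1pos (Ideal.height_strict_mono_of_isPrime h) hQ1ht

/-- A local domain, essentially of finite type over a local ring `A`, with algebraic residue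
field extension, in which all nonzero primes contain a fixed nonzero element, and which is not
"generically over `m_A`", is quasi-finite over `A`. -/
theorem quasiFinite_of_forall_mem {A D : Type u} [CommRing A] [CommRing D] [IsLocalRing A]
    [IsLocalRing D] [IsDomain D] [IsNoetherianRing D] [Algebra A D] [IsLocalHom (algebraMap A D)]
    [Algebra.EssFiniteType A D]
    (hint : ∀ d : D, ∃ p : A[X], p.Monic ∧ aeval d p ∈ maximalIdeal D)
    (f : D) (hf : f ≠ 0) (hall : ∀ P : Ideal D, P.IsPrime → P ≠ ⊥ → f ∈ P)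
    (a : A) (ham : a ∈ maximalIdeal A) (ha0 : algebraMap A D a ≠ 0) :
    Algebra.QuasiFinite A D := by
  classical
  have key : ∀ (P : Ideal D), P.IsPrime → P ≠ ⊥ → P = maximalIdeal D := fun P hP h0 =>
    haveI := hP
    eq_maximalIdeal_of_forall_mem f hf hall P h0
  let C := Algebra.EssFiniteType.subalgebra A D
  let 𝔫 : Ideal C := Groth.Agent.Lib.Helper14.essPrime A D
  haveI h𝔫P : 𝔫.IsPrime := inferInstanceAs (Groth.Agent.Lib.Helper14.essPrime A D).IsPrime
  haveI hloc : IsLocalization.AtPrime D 𝔫 := Groth.Agent.Lib.Helper14.essPrime_isLocalization A D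
  have hmem : ∀ c : C, c ∈ 𝔫 ↔ algebraMap C D c ∈ maximalIdeal D := fun c => Iff.rfl
  have hAD : ∀ x : A, algebraMap A D x ∈ maximalIdeal D ↔ x ∈ maximalIdeal A := by
    intro x
    rw [mem_maximalIdeal, mem_maximalIdeal]
    exact map_mem_nonunits_iff (algebraMap A D) x
  -- `𝔫` is maximal
  have hmax : 𝔫.IsMaximal := by
    haveI : Algebra.IsIntegral A (C ⧸ 𝔫) := by
      constructor
      intro x
      obtain ⟨c, rfl⟩ := Ideal.Quotient.mk_surjective x
      obtain ⟨p, hpm, hp⟩ := hint (algebraMap C D c)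
      refine ⟨p, hpm, ?_⟩
      have h1 : aeval c p ∈ 𝔫 := by
        rw [hmem]
        have h2 := aeval_algHom_apply (IsScalarTower.toAlgHom A C D) c p
        rw [IsScalarTower.coe_toAlgHom'] at h2
        rw [← h2]
        exact hp
      have h2 : eval₂ (algebraMap A (C ⧸ 𝔫)) (Ideal.Quotient.mk 𝔫 c) p =
          Ideal.Quotient.mk 𝔫 (aeval c p) := by
        have h3 := aeval_algHom_apply (Ideal.Quotient.mkₐ A 𝔫) c p
        rw [Ideal.Quotient.mkₐ_eq_mk] at h3
        rw [← h3, aeval_def]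
      rw [h2]
      exact Ideal.Quotient.eq_zero_iff_mem.mpr h1
    haveI : (⊥ : Ideal (C ⧸ 𝔫)).IsPrime := Ideal.isPrime_bot
    have hcomap : (⊥ : Ideal (C ⧸ 𝔫)).comap (algebraMap A (C ⧸ 𝔫)) = maximalIdeal A := by
      ext x
      rw [Ideal.mem_comap, Ideal.mem_bot, IsScalarTower.algebraMap_apply A C (C ⧸ 𝔫),
        Ideal.Quotient.algebraMap_eq, Ideal.Quotient.eq_zero_iff_mem, hmem,
        ← IsScalarTower.algebraMap_apply, hAD]
    have hbot : (⊥ : Ideal (C ⧸ 𝔫)).IsMaximal := by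
      apply Ideal.isMaximal_of_isIntegral_of_isMaximal_comap (R := A) (⊥ : Ideal (C ⧸ 𝔫))
      rw [hcomap]
      exact maximalIdeal.isMaximal A
    exact (Ideal.bot_quotient_isMaximal_iff 𝔫).mp hbot
  have ha : ∀ q' : Ideal C, q'.IsPrime → 𝔫 ≤ q' →
      q'.comap (algebraMap A C) = 𝔫.comap (algebraMap A C) → q' = 𝔫 := by
    intro q' hq' hle _
    exact (hmax.eq_of_le hq'.ne_top hle).symm
  have hb : ∀ q' : Ideal C, q'.IsPrime → q' ≤ 𝔫 →
      q'.comap (algebraMap A C) = 𝔫.comap (algebraMap A C) → q' = 𝔫 := by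
    intro q' hq' hle hcomap
    have hdisj : Disjoint (𝔫.primeCompl : Set C) (q' : Set C) := by
      rw [Set.disjoint_left]
      intro x hx hx'
      exact hx (hle hx')
    have hQ' : (q'.map (algebraMap C D)).IsPrime :=
      IsLocalization.isPrime_of_isPrime_disjoint 𝔫.primeCompl D q' hq' hdisj
    have hcm : (q'.map (algebraMap C D)).comap (algebraMap C D) = q' :=
      IsLocalization.under_map_of_isPrime_disjoint 𝔫.primeCompl D hq' hdisj
    have ha𝔫 : algebraMap A C a ∈ 𝔫 := by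
      rw [hmem, ← IsScalarTower.algebraMap_apply, hAD]
      exact ham
    have haq' : algebraMap A C a ∈ q' := by
      have h1 : a ∈ 𝔫.comap (algebraMap A C) := ha𝔫
      rw [← hcomap] at h1
      exact h1
    have hne : q'.map (algebraMap C D) ≠ ⊥ := by
      intro h0
      have h1 : algebraMap C D (algebraMap A C a) ∈ q'.map (algebraMap C D) :=
        Ideal.mem_map_of_mem _ haq'
      rw [h0, Ideal.mem_bot, ← IsScalarTower.algebraMap_apply] at h1
      exact ha0 h1
    have h2 := key _ hQ' hne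
    rw [← hcm, h2]
    rfl
  haveI hqf : Algebra.QuasiFiniteAt A 𝔫 :=
    Groth.Agent.Lib.Helper14.LCF.quasiFiniteAt_of_isolated 𝔫 ha hb
  let e : Localization.AtPrime 𝔫 ≃ₐ[C] D := IsLocalization.algEquiv 𝔫.primeCompl _ _
  exact Algebra.QuasiFinite.of_surjective_algHom (e.restrictScalars A).toAlgHom
    (e.restrictScalars A).surjective

theorem exists_prime_quasiFinite {A B : Type u} [CommRing A] [CommRing B] [IsLocalRing A]
    [IsLocalRing B] [IsNoetherianRing A] [Algebra A B] [IsLocalHom (algebraMap A B)]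
    [Algebra.EssFiniteType A B]
    [Module.Finite (ResidueField A) (ResidueField B)]
    (q₀ : Ideal B) [hq₀P : q₀.IsPrime] (g : B) (hg : g ∉ q₀)
    (hq₀ : q₀.comap (algebraMap A B) ≠ maximalIdeal A) :
    ∃ q : Ideal B, q.IsPrime ∧ q₀ ≤ q ∧ g ∉ q ∧ q.comap (algebraMap A B) ≠ maximalIdeal A ∧
      Algebra.QuasiFinite A (B ⧸ q) := by
  classical
  haveI : IsNoetherianRing B := Algebra.EssFiniteType.isNoetherianRing A B
  have hle : q₀.comap (algebraMap A B) ≤ maximalIdeal A :=
    le_maximalIdeal (Ideal.IsPrime.ne_top inferInstance)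
  obtain ⟨a, ham, haq⟩ := SetLike.exists_of_lt (lt_of_le_of_ne hle hq₀)
  have haq' : algebraMap A B a ∉ q₀ := haq
  have hfq₀ : g * algebraMap A B a ∉ q₀ := fun h => (hq₀P.mem_or_mem h).elim hg haq'
  let S : Set (Ideal B) := {q | q.IsPrime ∧ q₀ ≤ q ∧ g * algebraMap A B a ∉ q}
  have hS : S.Nonempty := ⟨q₀, hq₀P, le_rfl, hfq₀⟩
  obtain ⟨q, ⟨hqP, hq₀q, hfq⟩, hmax⟩ : ∃ q ∈ S, ∀ I ∈ S, ¬ q < I :=
    set_has_maximal_iff_noetherian.mpr (inferInstance : IsNoetherian B B) S hS
  haveI := hqP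
  have hgq : g ∉ q := fun h => hfq (q.mul_mem_right _ h)
  have haq2 : algebraMap A B a ∉ q := fun h => hfq (q.mul_mem_left _ h)
  have hqA : q.comap (algebraMap A B) ≠ maximalIdeal A := by
    intro h
    have h1 : a ∈ q.comap (algebraMap A B) := h ▸ ham
    exact haq2 h1
  refine ⟨q, hqP, hq₀q, hgq, hqA, ?_⟩
  -- the quotient
  haveI : IsLocalRing (B ⧸ q) :=
    IsLocalRing.of_surjective' (Ideal.Quotient.mk q) Ideal.Quotient.mk_surjective
  haveI hloc1 : IsLocalHom (Ideal.Quotient.mk q) :=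
    IsLocalHom.of_surjective _ Ideal.Quotient.mk_surjective
  haveI hloc2 : IsLocalHom (algebraMap A (B ⧸ q)) := by
    rw [IsScalarTower.algebraMap_eq A B (B ⧸ q)]
    haveI : IsLocalHom (algebraMap B (B ⧸ q)) := hloc1
    exact RingHom.isLocalHom_comp _ _
  refine quasiFinite_of_forall_mem (A := A) (D := B ⧸ q) ?_
    (Ideal.Quotient.mk q (g * algebraMap A B a)) ?_ ?_ a ham ?_
  · -- algebraicity of the residue field
    intro d
    obtain ⟨b, rfl⟩ := Ideal.Quotient.mk_surjective d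
    have hi : IsIntegral (ResidueField A) (residue B b) := Algebra.IsIntegral.isIntegral _
    obtain ⟨pbar, hpm, hpb⟩ := hi
    obtain ⟨p, hpmap, -, hpmon⟩ := Polynomial.lifts_and_degree_eq_and_monic
      (Polynomial.mem_lifts_of_surjective (f := residue A) residue_surjective pbar) hpm
    refine ⟨p, hpmon, ?_⟩
    have h1 : aeval b p ∈ maximalIdeal B := by
      rw [← residue_eq_zero_iff]
      rw [← hpmap, Polynomial.eval₂_map] at hpb
      have hcomp : (algebraMap (ResidueField A) (ResidueField B)).comp (residue A) =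
          (residue B).comp (algebraMap A B) := RingHom.ext fun x => rfl
      rw [hcomp] at hpb
      rw [aeval_def, Polynomial.hom_eval₂]
      exact hpb
    have h2 := aeval_algHom_apply (Ideal.Quotient.mkₐ A q) b p
    rw [Ideal.Quotient.mkₐ_eq_mk] at h2
    rw [h2]
    exact map_nonunit (Ideal.Quotient.mk q) _ h1
  · exact fun h => hfq (Ideal.Quotient.eq_zero_iff_mem.mp h)
  · intro P hP hP0
    have hcP : (P.comap (Ideal.Quotient.mk q)).IsPrime := Ideal.comap_isPrime _ P
    have hqle : q ≤ P.comap (Ideal.Quotient.mk q) := by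
      intro x hx
      rw [Ideal.mem_comap, Ideal.Quotient.eq_zero_iff_mem.mpr hx]
      exact P.zero_mem
    have hqne : q ≠ P.comap (Ideal.Quotient.mk q) := by
      intro h
      apply hP0
      rw [← Ideal.map_comap_of_surjective (Ideal.Quotient.mk q) Ideal.Quotient.mk_surjective P,
        ← h, Ideal.map_quotient_self]
    by_contra hfP
    have hmemS : P.comap (Ideal.Quotient.mk q) ∈ S :=
      ⟨hcP, hq₀q.trans hqle, fun h => hfP h⟩
    exact hmax _ hmemS (lt_of_le_of_ne hqle hqne)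
  · exact fun h => haq2 (Ideal.Quotient.eq_zero_iff_mem.mp h)

end Groth.Agent.Lib.Helper8.QFPrime
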