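import Mathlib
import Groth.Agent.Lib.Helper8.QFPrime
import Groth.Agent.Lib.Helper7.RedLib
import Groth.Agent.Lib.Helper12.EquidimPt
import Groth.Agent.Lib.Helper3.CycPush

/-!
# Closed subschemes quasi-finite at a point closed in its fibre, meeting a given open
(scheme version of `QFPrime.exists_prime_quasiFinite`)
-/

set_option autoImplicit false
universe u

open CategoryTheory AlgebraicGeometry IsLocalRing TopologicalSpace

namespace Groth.Agent.Lib.Helper8.QFPrimeSch

/-- In a locally Noetherian scheme, a point in the closure of an open set has a generization in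
that open set. -/
theorem exists_generization_mem_of_mem_closure {X : Scheme.{u}} [IsLocallyNoetherian X]
    (U : X.Opens) (x : X) (hx : x ∈ closure (U : Set X)) : ∃ x' ∈ U, x' ⤳ x := by
  obtain ⟨_, ⟨(W : X.Opens), hW, rfl⟩, hxW, -⟩ :=
    X.isBasis_affineOpens.exists_subset_of_mem_open (Set.mem_univ x) isOpen_univ
  haveI : IsNoetherianRing Γ(X, W) := IsLocallyNoetherian.component_noetherian ⟨W, hW⟩
  haveI : NoetherianSpace ↥(W : Set X) := noetherianSpace_of_isAffineOpen W hW
  haveI : QuasiSober ↥(W : Set X) := inferInstanceAs (QuasiSober W.toScheme)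
  let T : Set ↥(W : Set X) := Subtype.val ⁻¹' (U : Set X)
  have hTopen : IsOpen T := U.isOpen.preimage continuous_subtype_val
  have hxT : (⟨x, hxW⟩ : ↥(W : Set X)) ∈ closure T := by
    rw [closure_subtype, Subtype.image_preimage_coe, mem_closure_iff]
    intro O hO hxO
    obtain ⟨y, ⟨hyO, hyW⟩, hyU⟩ := mem_closure_iff.mp hx (O ∩ (W : Set X)) (hO.inter W.isOpen)
      ⟨hxO, hxW⟩
    exact ⟨y, hyO, hyW, hyU⟩
  have hfin : (irreducibleComponents ↥(W : Set X)).Finite :=
    NoetherianSpace.finite_irreducibleComponents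
  have hT : T = ⋃ Z ∈ irreducibleComponents ↥(W : Set X), (T ∩ Z) := by
    rw [← Set.inter_iUnion₂, ← Set.sUnion_eq_biUnion, sUnion_irreducibleComponents, Set.inter_univ]
  rw [hT, hfin.closure_biUnion] at hxT
  obtain ⟨Z, hZ, hxZ⟩ := Set.mem_iUnion₂.mp hxT
  have hZirr : IsIrreducible Z := hZ.prop
  have hZcl : IsClosed Z := isClosed_of_mem_irreducibleComponents _ hZ
  have hgen : IsGenericPoint hZirr.genericPoint Z := hZirr.isGenericPoint_genericPoint hZcl
  have hne : (T ∩ Z).Nonempty := by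
    by_contra h
    rw [Set.not_nonempty_iff_eq_empty] at h
    rw [h, closure_empty] at hxZ
    exact hxZ
  have hξT : hZirr.genericPoint ∈ T :=
    (hgen.mem_open_set_iff hTopen).mpr (by rwa [Set.inter_comm] at hne)
  have hξx : hZirr.genericPoint ⤳ (⟨x, hxW⟩ : ↥(W : Set X)) := by
    apply hgen.specializes
    exact closure_minimal Set.inter_subset_right hZcl hxZ
  exact ⟨hZirr.genericPoint.1, hξT, hξx.map continuous_subtype_val⟩

variable {X S : Scheme.{u}} (f : X ⟶ S) [LocallyOfFiniteType f] [IsLocallyNoetherian S]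

theorem closed_in_fibre_of_isClosed (x : X)
    (hcl : IsClosed (Subtype.val ⁻¹' {x} : Set ↑(f ⁻¹' {f x}))) :
    ∀ x' : X, f x' = f x → x ⤳ x' → x' = x := by
  intro x' h1 h2
  have hmem : (⟨x', h1⟩ : ↑(f ⁻¹' {f x})) ∈
      closure (Subtype.val ⁻¹' {x} : Set ↑(f ⁻¹' {f x})) := by
    rw [closure_subtype, Subtype.image_preimage_coe]
    have h3 : (f ⁻¹' {f x} ∩ {x} : Set X) = {x} := by
      ext y
      simp only [Set.mem_inter_iff, Set.mem_preimage, Set.mem_singleton_iff]
      constructor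
      · exact fun h => h.2
      · rintro rfl
        exact ⟨rfl, rfl⟩
    rw [h3]
    exact specializes_iff_mem_closure.mp h2
  rw [hcl.closure_eq] at hmem
  exact hmem

theorem exists_closedSubscheme_quasiFiniteAt (x : X)
    (hcl : ∀ x' : X, f x' = f x → x ⤳ x' → x' = x) (U : X.Opens) (x' : X) (hx'U : x' ∈ U)
    (hx'x : x' ⤳ x) (hfx' : f x' ≠ f x) :
    ∃ (I : X.IdealSheafData) (z₀ x₀ : ↑I.subscheme), I.subschemeι x₀ = x ∧
      (I.subschemeι ≫ f).QuasiFiniteAt x₀ ∧ I.subschemeι z₀ ∈ U ∧ I.subschemeι z₀ ⤳ x ∧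
      f (I.subschemeι z₀) ≠ f x := by
  classical
  letI alg : Algebra (S.presheaf.stalk (f x)) (X.presheaf.stalk x) := (f.stalkMap x).hom.toAlgebra
  haveI hloc : IsLocalHom (algebraMap (S.presheaf.stalk (f x)) (X.presheaf.stalk x)) :=
    inferInstanceAs <| IsLocalHom (f.stalkMap x).hom
  haveI hess : Algebra.EssFiniteType (S.presheaf.stalk (f x)) (X.presheaf.stalk x) := by
    rw [← RingHom.essFiniteType_algebraMap, RingHom.algebraMap_toAlgebra]
    exact LocallyOfFiniteType.stalkMap f x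
  haveI hfin : Module.Finite (IsLocalRing.ResidueField (S.presheaf.stalk (f x)))
      (IsLocalRing.ResidueField (X.presheaf.stalk x)) := by
    have htr := Groth.Agent.Lib.Helper12.EquidimPt.trn_eq_zero_of_closed_in_fibre f x hcl
    unfold Groth.Agent.Lib.Helper12.SchemeDimIneq.trn at htr
    rw [Cardinal.toENat_eq_zero] at htr
    have h0 := Groth.Agent.Lib.Helper3.residueField_finite_of_trdeg_zero f x htr
    have hA : (f.residueFieldMap x).hom.toAlgebra =
        (inferInstance : Algebra (IsLocalRing.ResidueField <| S.presheaf.stalk (f x))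
          (IsLocalRing.ResidueField <| X.presheaf.stalk x)) := by
      refine Algebra.algebra_ext _ _ fun a ↦ ?_
      obtain ⟨a, rfl⟩ := IsLocalRing.residue_surjective a
      rfl
    unfold RingHom.Finite at h0
    rw [hA] at h0
    exact h0
  -- the point `x'` as a prime of the local ring
  have hx'r : x' ∈ Set.range (X.fromSpecStalk x) := by
    rw [Scheme.range_fromSpecStalk]
    exact hx'x
  obtain ⟨q₀, hq₀⟩ := hx'r
  -- key compatibility
  have hcompat : ∀ q : Spec (X.presheaf.stalk x),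
      f (X.fromSpecStalk x q) = S.fromSpecStalk (f x) (Spec.map (f.stalkMap x) q) := by
    intro q
    rw [← Scheme.Hom.comp_apply, ← Scheme.Hom.comp_apply, Scheme.SpecMap_stalkMap_fromSpecStalk]
  have hnotover : ∀ q : Spec (X.presheaf.stalk x),
      (f (X.fromSpecStalk x q) ≠ f x ↔
        q.asIdeal.comap (algebraMap (S.presheaf.stalk (f x)) (X.presheaf.stalk x)) ≠
          maximalIdeal (S.presheaf.stalk (f x))) := by
    intro q
    rw [not_iff_not, hcompat]
    constructor
    · intro h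
      have h1 : Spec.map (f.stalkMap x) q = closedPoint (S.presheaf.stalk (f x)) := by
        apply (S.fromSpecStalk (f x)).isEmbedding.injective
        rw [h, Scheme.fromSpecStalk_closedPoint]
      exact congrArg PrimeSpectrum.asIdeal h1
    · intro h
      have h1 : Spec.map (f.stalkMap x) q = closedPoint (S.presheaf.stalk (f x)) :=
        PrimeSpectrum.ext h
      rw [h1, Scheme.fromSpecStalk_closedPoint]
  let V : Set (PrimeSpectrum (X.presheaf.stalk x)) := (X.fromSpecStalk x) ⁻¹' (U : Set X)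
  have hV : IsOpen V := U.isOpen.preimage (X.fromSpecStalk x).continuous
  have hq₀V : q₀ ∈ V := by
    show X.fromSpecStalk x q₀ ∈ U
    rw [hq₀]
    exact hx'U
  have hq₀A : q₀.asIdeal.comap (algebraMap (S.presheaf.stalk (f x)) (X.presheaf.stalk x)) ≠
      maximalIdeal (S.presheaf.stalk (f x)) := by
    rw [← hnotover, hq₀]
    exact hfx'
  obtain ⟨_, ⟨g, rfl⟩, hq₀g, hgV⟩ :=
    PrimeSpectrum.isTopologicalBasis_basic_opens.exists_subset_of_mem_open hq₀V hV
  have hg : g ∉ q₀.asIdeal := hq₀g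
  obtain ⟨q', hq'P, -, hgq', hq'A, hqf⟩ :=
    Groth.Agent.Lib.Helper8.QFPrime.exists_prime_quasiFinite q₀.asIdeal g hg hq₀A
  obtain ⟨q, hq⟩ : ∃ q : Spec (X.presheaf.stalk x), q = (⟨q', hq'P⟩ : PrimeSpectrum _) := ⟨_, rfl⟩
  have hqV : q ∈ V := by
    rw [hq]
    exact hgV ((PrimeSpectrum.mem_basicOpen g ⟨q', hq'P⟩).mpr hgq')
  have hqA : q.asIdeal.comap (algebraMap (S.presheaf.stalk (f x)) (X.presheaf.stalk x)) ≠
      maximalIdeal (S.presheaf.stalk (f x)) := by
    rw [hq]
    exact hq'A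
  have hqf' : Algebra.QuasiFinite (S.presheaf.stalk (f x)) (X.presheaf.stalk x ⧸ q.asIdeal) := by
    rw [hq]
    exact hqf
  obtain ⟨z, hz⟩ : ∃ z : X, z = X.fromSpecStalk x q := ⟨_, rfl⟩
  have hzU : z ∈ U := by
    rw [hz]
    exact hqV
  have hzx : z ⤳ x := by
    have h1 : z ∈ Set.range (X.fromSpecStalk x) := ⟨q, hz.symm⟩
    rw [Scheme.range_fromSpecStalk] at h1
    exact h1
  have hfz : f z ≠ f x := by
    rw [hz, hnotover]
    exact hqA
  -- the reduced closed subscheme on the closure of `z`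
  let C : Closeds X := ⟨closure {z}, isClosed_closure⟩
  obtain ⟨I, hI⟩ : ∃ I : X.IdealSheafData, I = Scheme.IdealSheafData.vanishingIdeal C := ⟨_, rfl⟩
  have hrange : Set.range I.subschemeι = closure {z} := by
    rw [hI, Scheme.IdealSheafData.range_subschemeι,
      Scheme.IdealSheafData.coe_support_vanishingIdeal]
    rfl
  haveI hred : IsReduced I.subscheme := by
    rw [hI]
    exact Groth.Agent.Lib.Helper7.isReduced_vanishingIdeal_subscheme C
  obtain ⟨x₀, hx₀⟩ : x ∈ Set.range I.subschemeι := by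
    rw [hrange]
    exact specializes_iff_mem_closure.mp hzx
  obtain ⟨z₀, hz₀⟩ : z ∈ Set.range I.subschemeι := by
    rw [hrange]
    exact subset_closure rfl
  refine ⟨I, z₀, x₀, hx₀, ?_, by rw [hz₀]; exact hzU, by rw [hz₀]; exact hzx,
    by rw [hz₀]; exact hfz⟩
  -- quasi-finiteness at `x₀`
  have e : Inseparable x (I.subschemeι x₀) := .of_eq hx₀.symm
  obtain ⟨ψ, hψ⟩ : ∃ ψ : X.presheaf.stalk x ⟶ I.subscheme.presheaf.stalk x₀,
      ψ = X.presheaf.stalkSpecializes e.ge ≫ I.subschemeι.stalkMap x₀ := ⟨_, rfl⟩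
  have hE1 : Spec.map ψ ≫ X.fromSpecStalk x = I.subscheme.fromSpecStalk x₀ ≫ I.subschemeι := by
    rw [hψ, Spec.map_comp, Category.assoc, Scheme.SpecMap_stalkSpecializes_fromSpecStalk,
      Scheme.SpecMap_stalkMap_fromSpecStalk]
  have hψsurj : Function.Surjective ψ.hom := by
    rw [hψ, CommRingCat.hom_comp]
    refine (I.subschemeι.stalkMap_surjective x₀).comp ?_
    exact (ConcreteCategory.bijective_of_isIso (X.presheaf.stalkCongr e).hom).2
  have hE2 : ∀ b ∈ q.asIdeal, ψ.hom b = 0 := by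
    intro b hb
    have hnil : ψ.hom b ∈ nilradical (I.subscheme.presheaf.stalk x₀) := by
      rw [nilradical_eq_sInf, Ideal.mem_sInf]
      intro P hP
      have hP' : P.IsPrime := hP
      obtain ⟨P', hP'eq⟩ : ∃ P' : Spec (I.subscheme.presheaf.stalk x₀),
          P' = (⟨P, hP'⟩ : PrimeSpectrum _) := ⟨_, rfl⟩
      have h1 : X.fromSpecStalk x (Spec.map ψ P') ∈ closure ({z} : Set X) := by
        rw [← hrange, ← Scheme.Hom.comp_apply, hE1, Scheme.Hom.comp_apply]
        exact ⟨_, rfl⟩
      have h2 : X.fromSpecStalk x q ⤳ X.fromSpecStalk x (Spec.map ψ P') := by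
        rw [← hz]
        exact specializes_iff_mem_closure.mpr h1
      have h3 : q ⤳ Spec.map ψ P' :=
        (X.fromSpecStalk x).isEmbedding.isInducing.specializes_iff.mp h2
      have h4 : q.asIdeal ≤ (Spec.map ψ P').asIdeal :=
        (PrimeSpectrum.le_iff_specializes q (Spec.map ψ P')).mpr h3
      have h5 : b ∈ (Spec.map ψ P').asIdeal := h4 hb
      rw [hP'eq] at h5
      exact h5
    exact (mem_nilradical.mp hnil).eq_zero
  rw [Scheme.Hom.quasiFiniteAt_iff, ← Category.assoc, ← hE1, Category.assoc,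
    ← Scheme.SpecMap_stalkMap_fromSpecStalk, ← Category.assoc, ← Spec.map_comp]
  have hqfh : (f.stalkMap x ≫ ψ).hom.QuasiFinite := by
    let ψbar : (X.presheaf.stalk x ⧸ q.asIdeal) →+* I.subscheme.presheaf.stalk x₀ :=
      Ideal.Quotient.lift q.asIdeal ψ.hom hE2
    have hbarsurj : Function.Surjective ψbar :=
      Ideal.Quotient.lift_surjective_of_surjective q.asIdeal hE2 hψsurj
    have h1 : ψbar.QuasiFinite :=
      RingHom.QuasiFinite.of_finite (RingHom.Finite.of_surjective ψbar hbarsurj)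
    have h2 : (algebraMap (S.presheaf.stalk (f x)) (X.presheaf.stalk x ⧸ q.asIdeal)).QuasiFinite :=
      RingHom.quasiFinite_algebraMap.mpr hqf'
    have h3 := h1.comp h2
    have h4 : ψbar.comp (algebraMap (S.presheaf.stalk (f x)) (X.presheaf.stalk x ⧸ q.asIdeal)) =
        (f.stalkMap x ≫ ψ).hom := by
      ext a
      rfl
    rw [h4] at h3
    exact h3
  haveI : LocallyQuasiFinite (Spec.map (f.stalkMap x ≫ ψ)) :=
    (HasRingHomProperty.Spec_iff (P := @LocallyQuasiFinite)).mpr hqfh
  infer_instance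

end Groth.Agent.Lib.Helper8.QFPrimeSch
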