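/-
Helper8 library: ring-level quasi-finite fppf refinement (via Helper14.QFRefine).
-/
import Mathlib
import Groth.Agent.Lib.Helper14.QFRefine

set_option autoImplicit false
set_option linter.style.haveILetI false
universe u
open CategoryTheory CategoryTheory.Limits AlgebraicGeometry Opposite

namespace Groth.Agent.Lib.Helper8.QFRefineAlg

theorem exists_quasiFinite_ff_refinement (R : Type u) [CommRing R]
    (S : Type u) [CommRing S] [Algebra R S] [Module.FaithfullyFlat R S]
    [Algebra.FinitePresentation R S] :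
    ∃ (S' : Type u) (_ : CommRing S') (_ : Algebra R S'),
      Algebra.QuasiFinite R S' ∧ Algebra.FiniteType R S' ∧ Module.FaithfullyFlat R S' ∧
        Algebra.FinitePresentation R S' ∧ Nonempty (S →ₐ[R] S') := by
  classical
  let g : Spec (CommRingCat.of S) ⟶ Spec (CommRingCat.of R) :=
    Spec.map (CommRingCat.ofHom (algebraMap R S))
  haveI : Flat g := (HasRingHomProperty.Spec_iff (P := @Flat)).mpr
    (RingHom.flat_algebraMap_iff.mpr inferInstance)
  haveI : LocallyOfFinitePresentation g :=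
    (HasRingHomProperty.Spec_iff (P := @LocallyOfFinitePresentation)).mpr
      (RingHom.finitePresentation_algebraMap.mpr inferInstance)
  haveI : Surjective g := ⟨PrimeSpectrum.comap_surjective_of_faithfullyFlat⟩
  obtain ⟨T, h, hfl, hfp, hqf, hsurj, hloc⟩ :=
    Groth.Agent.Lib.Helper14.QFRefine.exists_quasiFinite_refinement g
  haveI := hfl
  haveI := hfp
  haveI := hqf
  -- affine refinement of the local factorizations
  have hloc' : ∀ t : T, ∃ (W : T.Opens) (r : (W : Scheme.{u}) ⟶ Spec (CommRingCat.of S)),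
      IsAffineOpen W ∧ t ∈ W ∧ r ≫ g = W.ι ≫ h := by
    intro t
    obtain ⟨V, r, htV, hr⟩ := hloc t
    obtain ⟨_, ⟨W, hW, rfl⟩, htW, hWV⟩ :=
      T.isBasis_affineOpens.exists_subset_of_mem_open htV V.2
    refine ⟨W, T.homOfLE hWV ≫ r, hW, htW, ?_⟩
    rw [Category.assoc, hr, ← Category.assoc, Scheme.homOfLE_ι]
  choose W r hW htW hr using hloc'
  have hopen : ∀ t : T, IsOpen (h '' (W t : Set T)) := fun t => h.isOpenMap _ (W t).isOpen
  have hcov : (Set.univ : Set (Spec (CommRingCat.of R))) ⊆ ⋃ t : T, h '' (W t : Set T) := by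
    intro y _
    obtain ⟨t, rfl⟩ := h.surjective y
    exact Set.mem_iUnion.mpr ⟨t, t, htW t, rfl⟩
  obtain ⟨s, hs⟩ := isCompact_univ.elim_finite_subcover _ hopen hcov
  haveI : ∀ t : s, IsAffine ((W t.1 : T.Opens) : Scheme.{u}) := fun t => hW t.1
  let X : Scheme.{u} := ∐ fun t : s => ((W t.1 : T.Opens) : Scheme.{u})
  haveI : IsAffine X := inferInstance
  let h' : X ⟶ Spec (CommRingCat.of R) := Sigma.desc fun t : s => (W t.1).ι ≫ h
  let ρ : X ⟶ Spec (CommRingCat.of S) := Sigma.desc fun t : s => r t.1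
  have hρ : ρ ≫ g = h' := by
    refine Sigma.hom_ext _ _ fun t => ?_
    simp only [ρ, h', Sigma.ι_desc_assoc, Sigma.ι_desc]
    exact hr t.1
  have hfl' : Flat h' := IsZariskiLocalAtSource.sigmaDesc (P := @Flat) fun t => inferInstance
  have hfp' : LocallyOfFinitePresentation h' :=
    IsZariskiLocalAtSource.sigmaDesc (P := @LocallyOfFinitePresentation) fun t => inferInstance
  have hqf' : LocallyQuasiFinite h' :=
    IsZariskiLocalAtSource.sigmaDesc (P := @LocallyQuasiFinite) fun t => inferInstance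
  have hsurj' : Surjective h' := by
    refine Surjective.sigmaDesc_of_union_range_eq_univ ?_
    rw [Set.eq_univ_iff_forall]
    intro y
    obtain ⟨t, hts, x, hx, rfl⟩ : ∃ t ∈ s, ∃ x ∈ (W t : Set T), h x = y := by
      simpa using hs (Set.mem_univ y)
    rw [Set.mem_iUnion]
    refine ⟨⟨t, hts⟩, ⟨x, hx⟩, ?_⟩
    rw [Scheme.Hom.comp_apply]
    rfl
  let φ : CommRingCat.of R ⟶ Γ(X, ⊤) := (Scheme.ΓSpecIso (CommRingCat.of R)).inv ≫ h'.appTop
  let ψ : CommRingCat.of S ⟶ Γ(X, ⊤) := (Scheme.ΓSpecIso (CommRingCat.of S)).inv ≫ ρ.appTop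
  have hψ : CommRingCat.ofHom (algebraMap R S) ≫ ψ = φ := by
    rw [show ψ = (Scheme.ΓSpecIso (CommRingCat.of S)).inv ≫ ρ.appTop from rfl,
      ← Category.assoc, Scheme.ΓSpecIso_inv_naturality, Category.assoc,
      ← Scheme.Hom.comp_appTop, hρ]
  have hφ : X.toSpecΓ ≫ Spec.map φ = h' := by
    rw [show φ = (Scheme.ΓSpecIso (CommRingCat.of R)).inv ≫ h'.appTop from rfl, Spec.map_comp,
      ← Category.assoc, ← Scheme.toSpecΓ_naturality, Category.assoc, ← SpecMap_ΓSpecIso_hom,
      ← Spec.map_comp, Iso.inv_hom_id, Spec.map_id, Category.comp_id]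
  have key : ∀ (P : MorphismProperty Scheme.{u}) (Q : ∀ {A B : Type u} [CommRing A] [CommRing B],
      (A →+* B) → Prop) [HasRingHomProperty P Q], P h' → Q φ.hom := by
    intro P Q _ hP
    have H := (HasRingHomProperty.isLocal_ringHomProperty P).respectsIso
    exact (H.cancel_left_isIso (Scheme.ΓSpecIso (CommRingCat.of R)).inv h'.appTop).mpr
      ((HasRingHomProperty.iff_of_isAffine (P := P)).mp hP)
  have hQfl : RingHom.Flat φ.hom := key @Flat RingHom.Flat hfl'
  have hQfp : RingHom.FinitePresentation φ.hom :=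
    key @LocallyOfFinitePresentation RingHom.FinitePresentation hfp'
  have hQqf : RingHom.QuasiFinite φ.hom := key @LocallyQuasiFinite RingHom.QuasiFinite hqf'
  letI : Algebra R Γ(X, ⊤) := φ.hom.toAlgebra
  haveI : Module.Flat R Γ(X, ⊤) := hQfl
  haveI : Algebra.FinitePresentation R Γ(X, ⊤) := hQfp
  have hsurjφ : Function.Surjective (PrimeSpectrum.comap (algebraMap R Γ(X, ⊤))) := by
    intro y
    obtain ⟨x, hx⟩ := hsurj'.surj y
    refine ⟨X.toSpecΓ x, ?_⟩
    rw [← hφ, Scheme.Hom.comp_apply] at hx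
    exact hx
  refine ⟨Γ(X, ⊤), inferInstance, φ.hom.toAlgebra, hQqf, inferInstance,
    Module.FaithfullyFlat.of_comap_surjective hsurjφ, hQfp,
    ⟨{ ψ.hom with commutes' := fun x => ?_ }⟩⟩
  exact congrArg (fun k => k.hom x) hψ


end Groth.Agent.Lib.Helper8.QFRefineAlg
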