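import Mathlib

/-!
# Étale-local splitting of the quasi-finite part of a finite type algebra over a prime
(Stacks 00UM)
-/

set_option autoImplicit false

open TensorProduct

namespace Groth.Agent.Lib.Helper8.QFSplit

universe u


/-- The primes over `p` at which the algebra is quasi-finite. -/
def qfPrimes (R : Type u) {S : Type u} [CommRing R] [CommRing S] [Algebra R S] (p : Ideal R) :
    Set (Ideal S) :=
  {q | ∃ (_ : q.IsPrime), q.LiesOver p ∧ Algebra.QuasiFiniteAt R q}

theorem finite_setOf_isOpen_singleton (X : Type*) [TopologicalSpace X]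
    [TopologicalSpace.NoetherianSpace X] : {x : X | IsOpen ({x} : Set X)}.Finite := by
  have hc : IsCompact {x : X | IsOpen ({x} : Set X)} :=
    TopologicalSpace.NoetherianSpace.isCompact _
  refine hc.finite ⟨?_⟩
  rw [discreteTopology_iff_isOpen_singleton]
  intro z
  rw [isOpen_induced_iff]
  refine ⟨{z.1}, z.2, ?_⟩
  ext y
  simp [Subtype.ext_iff]

theorem finite_qfPrimes (R S : Type u) [CommRing R] [CommRing S] [Algebra R S]
    [Algebra.FiniteType R S] (p : Ideal R) [p.IsPrime] : (qfPrimes R p : Set (Ideal S)).Finite := by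
  haveI : IsNoetherianRing (p.Fiber S) :=
    Algebra.FiniteType.isNoetherianRing p.ResidueField (p.Fiber S)
  have hZ := finite_setOf_isOpen_singleton (PrimeSpectrum (p.Fiber S))
  refine (hZ.image (fun x : PrimeSpectrum (p.Fiber S) =>
    x.asIdeal.comap Algebra.TensorProduct.includeRight.toRingHom)).subset ?_
  rintro q ⟨hq, hqp, hqf⟩
  let x : PrimeSpectrum (p.Fiber S) := PrimeSpectrum.primesOverOrderIsoFiber R S p ⟨q, hq, hqp⟩
  have hx : q = x.asIdeal.comap Algebra.TensorProduct.includeRight.toRingHom :=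
    congr($((PrimeSpectrum.primesOverOrderIsoFiber R S p).symm_apply_apply ⟨q, hq, hqp⟩).1).symm
  haveI : Algebra.QuasiFiniteAt p.ResidueField x.asIdeal := .baseChange q _ hx
  refine ⟨x, ?_, hx.symm⟩
  exact (Algebra.QuasiFiniteAt.isClopen_singleton (R := p.ResidueField) x).isOpen



/-- Descent of quasi-finiteness at a prime along a base change with trivial residue field
extension. -/
theorem quasiFiniteAt_comap_includeRight {R S R' : Type u} [CommRing R] [CommRing S] [CommRing R']
    [Algebra R S] [Algebra R R'] [Algebra.FiniteType R S]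
    (p : Ideal R) [p.IsPrime] (P : Ideal R') [P.IsPrime] [P.LiesOver p]
    (H : Function.Bijective (Ideal.ResidueField.mapₐ p P (Algebra.ofId _ _) (P.over_def p)))
    (Q : Ideal (R' ⊗[R] S)) [Q.IsPrime] [Q.LiesOver P] [Algebra.QuasiFiniteAt R' Q] :
    Algebra.QuasiFiniteAt R (Q.comap Algebra.TensorProduct.includeRight.toRingHom) := by
  letI := Localization.AtPrime.algebraOfLiesOver p P
  let e : P.Fiber (R' ⊗[R] S) ≃ₐ[p.ResidueField] p.Fiber S :=
    ((Algebra.TensorProduct.cancelBaseChange _ _ P.ResidueField _ _).restrictScalars _).trans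
      (Algebra.TensorProduct.congr (.symm <| .ofBijective (Algebra.ofId _ _) H) .refl)
  let Q₁ : Ideal (P.Fiber (R' ⊗[R] S)) :=
    (PrimeSpectrum.primesOverOrderIsoFiber R' (R' ⊗[R] S) P ⟨Q, ‹_›, ‹_›⟩).asIdeal
  have hQ₁ : Q = Q₁.comap Algebra.TensorProduct.includeRight.toRingHom :=
    congr($((PrimeSpectrum.primesOverOrderIsoFiber R' (R' ⊗[R] S) P).symm_apply_apply
      ⟨Q, ‹_›, ‹_›⟩).1).symm
  haveI : Algebra.QuasiFiniteAt P.ResidueField Q₁ := .baseChange Q _ hQ₁
  haveI : Module.Finite p.ResidueField P.ResidueField :=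
    Module.Finite.of_surjective (Algebra.linearMap p.ResidueField P.ResidueField) H.2
  haveI : Algebra.QuasiFiniteAt p.ResidueField Q₁ :=
    Algebra.QuasiFinite.trans p.ResidueField P.ResidueField _
  haveI : (Q.comap Algebra.TensorProduct.includeRight.toRingHom).LiesOver p := by
    constructor
    have h1 : Q.comap (algebraMap R (R' ⊗[R] S)) = p := by
      have := Ideal.LiesOver.trans Q P p
      exact (Q.over_def p).symm
    rw [← h1]
    show Q.comap (algebraMap R (R' ⊗[R] S)) = Ideal.comap (algebraMap R S)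
      (Q.comap Algebra.TensorProduct.includeRight.toRingHom)
    rw [Ideal.comap_comap]
    congr 1
    ext r
    simp [Algebra.TensorProduct.algebraMap_apply, Algebra.algebraMap_eq_smul_one, smul_tmul]
  refine Algebra.QuasiFiniteAt.of_quasiFiniteAt_residueField p _ (Q₁.comap e.symm.toRingHom) ?_
  ext x
  simp only [Ideal.mem_comap]
  rw [hQ₁]
  simp [e]



theorem liesOver_comap_includeRight {R S R' : Type u} [CommRing R] [CommRing S] [CommRing R']
    [Algebra R S] [Algebra R R'] (p : Ideal R) (P : Ideal R') [P.LiesOver p]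
    (Q : Ideal (R' ⊗[R] S)) [Q.LiesOver P] :
    (Q.comap Algebra.TensorProduct.includeRight.toRingHom).LiesOver p := by
  constructor
  have h1 : Q.comap (algebraMap R (R' ⊗[R] S)) = p := by
    have := Ideal.LiesOver.trans Q P p
    exact (Q.over_def p).symm
  rw [← h1]
  show Q.comap (algebraMap R (R' ⊗[R] S)) = Ideal.comap (algebraMap R S)
    (Q.comap Algebra.TensorProduct.includeRight.toRingHom)
  rw [Ideal.comap_comap]
  congr 1
  ext r
  simp [Algebra.TensorProduct.algebraMap_apply, Algebra.algebraMap_eq_smul_one, smul_tmul]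

/-- Splitting a ring by an idempotent. -/
theorem exists_prod_equiv_idem {E W : Type u} [CommRing E] [CommRing W] [Algebra E W] (e : W)
    (he : IsIdempotentElem e) :
    ∃ φ : W ≃ₐ[E] ((W ⧸ Ideal.span {1 - e}) × (W ⧸ Ideal.span {e})),
      ∀ w, φ w = (Ideal.Quotient.mk _ w, Ideal.Quotient.mk _ w) := by
  let ψ : W →ₐ[E] (W ⧸ Ideal.span {1 - e}) × (W ⧸ Ideal.span {e}) :=
    AlgHom.prod (Ideal.Quotient.mkₐ E _) (Ideal.Quotient.mkₐ E _)
  have h0 : (1 - e) * e = 0 := by rw [sub_mul, one_mul, he.eq, sub_self]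
  have hinj : Function.Injective ψ := by
    rw [injective_iff_map_eq_zero]
    intro x hx
    have h1 : Ideal.Quotient.mk (Ideal.span {1 - e}) x = 0 := congrArg Prod.fst hx
    have h2 : Ideal.Quotient.mk (Ideal.span {e}) x = 0 := congrArg Prod.snd hx
    rw [Ideal.Quotient.eq_zero_iff_mem] at h1 h2
    obtain ⟨a, ha⟩ := Ideal.mem_span_singleton'.mp h1
    obtain ⟨b, rfl⟩ := Ideal.mem_span_singleton'.mp h2
    have h3 : b * e = b * e * e := by rw [mul_assoc, he.eq]
    rw [h3, ← ha, mul_assoc, h0, mul_zero]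
  have hsurj : Function.Surjective ψ := by
    rintro ⟨a, b⟩
    obtain ⟨a', rfl⟩ := Ideal.Quotient.mk_surjective a
    obtain ⟨b', rfl⟩ := Ideal.Quotient.mk_surjective b
    refine ⟨e * a' + (1 - e) * b', ?_⟩
    refine Prod.ext ?_ ?_
    · show Ideal.Quotient.mk _ (e * a' + (1 - e) * b') = Ideal.Quotient.mk _ a'
      rw [Ideal.Quotient.eq]
      have : e * a' + (1 - e) * b' - a' = (b' - a') * (1 - e) := by ring
      rw [this]
      exact Ideal.mem_span_singleton'.mpr ⟨_, rfl⟩
    · show Ideal.Quotient.mk _ (e * a' + (1 - e) * b') = Ideal.Quotient.mk _ b'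
      rw [Ideal.Quotient.eq]
      have : e * a' + (1 - e) * b' - b' = (a' - b') * e := by ring
      rw [this]
      exact Ideal.mem_span_singleton'.mpr ⟨_, rfl⟩
  exact ⟨AlgEquiv.ofBijective ψ ⟨hinj, hsurj⟩, fun w => rfl⟩

theorem exists_split_qf (R S : Type u) [CommRing R] [CommRing S] [Algebra R S]
    [Algebra.FiniteType R S] (p : Ideal R) [p.IsPrime] (q : Ideal S) (hq : q ∈ qfPrimes R p) :
    ∃ (R' : Type u) (_ : CommRing R') (_ : Algebra R R') (_ : Algebra.Etale R R') (P : Ideal R')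
      (_ : P.IsPrime) (_ : P.LiesOver p) (A₀ : Type u) (_ : CommRing A₀) (_ : Algebra R' A₀)
      (B₁ : Type u) (_ : CommRing B₁) (_ : Algebra R' B₁) (_ : Algebra.FiniteType R' B₁),
      Function.Bijective (Ideal.ResidueField.mapₐ p P (Algebra.ofId _ _) (P.over_def p)) ∧
      Nonempty ((R' ⊗[R] S) ≃ₐ[R'] (A₀ × B₁)) ∧ Module.Finite R' A₀ ∧
      (∃! r : Ideal A₀, r.IsPrime ∧ r.comap (algebraMap R' A₀) = P) ∧
      (qfPrimes R' P : Set (Ideal B₁)).ncard < (qfPrimes R p : Set (Ideal S)).ncard := by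
  obtain ⟨hqp, hqo, hqf⟩ := hq
  haveI := hqp; haveI := hqo; haveI := hqf
  obtain ⟨R', _, _, _, P, _, _, e, he, P', _, _, hP'q, heP', H, hfin, huniq⟩ :=
    Algebra.exists_etale_isIdempotentElem_forall_liesOver_eq p q
  obtain ⟨φ, hφ⟩ := exists_prod_equiv_idem (E := R') e he
  refine ⟨R', inferInstance, inferInstance, inferInstance, P, inferInstance, inferInstance,
    (R' ⊗[R] S) ⧸ Ideal.span {1 - e}, inferInstance, inferInstance,
    (R' ⊗[R] S) ⧸ Ideal.span {e}, inferInstance, inferInstance,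
    Algebra.FiniteType.of_surjective (Ideal.Quotient.mkₐ R' _) Ideal.Quotient.mk_surjective,
    H, ⟨φ⟩, ?_, ?_, ?_⟩
  · -- finite
    haveI : IsLocalization.Away e ((R' ⊗[R] S) ⧸ Ideal.span {1 - e}) :=
      IsLocalization.away_of_isIdempotentElem he
        (by rw [Ideal.Quotient.algebraMap_eq]; exact Ideal.mk_ker) Ideal.Quotient.mk_surjective
    let ψ : Localization.Away e ≃ₐ[R' ⊗[R] S] ((R' ⊗[R] S) ⧸ Ideal.span {1 - e}) :=
      IsLocalization.algEquiv (Submonoid.powers e) _ _
    exact Module.Finite.equiv (ψ.restrictScalars R').toLinearEquiv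
  · -- unique prime
    have h1e : 1 - e ∈ P' := by
      have h0 : e * (1 - e) ∈ P' := by
        rw [mul_sub, mul_one, he.eq, sub_self]; exact P'.zero_mem
      exact (Ideal.IsPrime.mem_or_mem ‹P'.IsPrime› h0).resolve_left heP'
    have hker_le : RingHom.ker (Ideal.Quotient.mk (Ideal.span {1 - e})) ≤ P' := by
      rw [Ideal.mk_ker, Ideal.span_le, Set.singleton_subset_iff]; exact h1e
    have halg : algebraMap R' ((R' ⊗[R] S) ⧸ Ideal.span {1 - e}) =
        (Ideal.Quotient.mk (Ideal.span {1 - e})).comp (algebraMap R' (R' ⊗[R] S)) := rfl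
    refine ⟨P'.map (Ideal.Quotient.mk _),
      ⟨Ideal.map_isPrime_of_surjective Ideal.Quotient.mk_surjective hker_le, ?_⟩, ?_⟩
    · rw [halg, ← Ideal.comap_comap, Ideal.comap_map_of_surjective _ Ideal.Quotient.mk_surjective,
        ← RingHom.ker_eq_comap_bot, sup_eq_left.mpr hker_le]
      exact (P'.over_def P).symm
    · rintro r ⟨hr, hrc⟩
      haveI := hr
      haveI : (r.comap (Ideal.Quotient.mk (Ideal.span {1 - e}))).LiesOver P :=
        ⟨by rw [← hrc, halg, ← Ideal.comap_comap]⟩
      have hne : e ∉ r.comap (Ideal.Quotient.mk (Ideal.span {1 - e})) := by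
        intro h
        have h1 : Ideal.Quotient.mk (Ideal.span {1 - e}) (1 - e) = 0 :=
          Ideal.Quotient.eq_zero_iff_mem.mpr (Ideal.mem_span_singleton_self _)
        have h2 : Ideal.Quotient.mk (Ideal.span {1 - e}) e = 1 := by
          rw [map_sub, map_one, sub_eq_zero] at h1; exact h1.symm
        rw [Ideal.mem_comap, h2] at h
        exact hr.ne_top ((Ideal.eq_top_iff_one _).mpr h)
      have := huniq _ inferInstance inferInstance hne
      rw [← this, Ideal.map_comap_of_surjective _ Ideal.Quotient.mk_surjective]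
  · -- the measure decreases
    have hfinS := finite_qfPrimes R S p
    have hqmem : q ∈ (qfPrimes R p : Set (Ideal S)) := ⟨hqp, hqo, hqf⟩
    refine lt_of_le_of_lt ?_ (Set.ncard_sdiff_singleton_lt_of_mem hqmem hfinS)
    haveI hloc : IsLocalization.Away (1 - e) ((R' ⊗[R] S) ⧸ Ideal.span {e}) :=
      IsLocalization.away_of_isIdempotentElem he.one_sub
        (by rw [Ideal.Quotient.algebraMap_eq, Ideal.mk_ker, sub_sub_cancel])
        Ideal.Quotient.mk_surjective
    let Φ : Ideal ((R' ⊗[R] S) ⧸ Ideal.span {e}) → Ideal S := fun Q =>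
      (Q.comap (Ideal.Quotient.mk (Ideal.span {e}))).comap
        Algebra.TensorProduct.includeRight.toRingHom
    have key : ∀ Q ∈ (qfPrimes R' P : Set (Ideal ((R' ⊗[R] S) ⧸ Ideal.span {e}))),
        ∃ (_ : (Q.comap (Ideal.Quotient.mk (Ideal.span {e}))).IsPrime),
          (Q.comap (Ideal.Quotient.mk (Ideal.span {e}))).LiesOver P ∧
          Algebra.QuasiFiniteAt R' (Q.comap (Ideal.Quotient.mk (Ideal.span {e}))) ∧
          e ∈ Q.comap (Ideal.Quotient.mk (Ideal.span {e})) := by
      rintro Q ⟨hQp, hQo, hQf⟩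
      haveI := hQp
      refine ⟨inferInstance, ⟨?_⟩, ?_, ?_⟩
      · rw [Ideal.under, Ideal.comap_comap]; exact hQo.over
      · haveI : IsLocalization.AtPrime (Localization.AtPrime Q)
            (Q.comap (Ideal.Quotient.mk (Ideal.span {e}))) :=
          IsLocalization.isLocalization_isLocalization_atPrime_isLocalization
            (Submonoid.powers (1 - e)) (Localization.AtPrime Q) Q
        let ψ : Localization.AtPrime (Q.comap (Ideal.Quotient.mk (Ideal.span {e})))
            ≃ₐ[R' ⊗[R] S] Localization.AtPrime Q :=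
          IsLocalization.algEquiv (Q.comap (Ideal.Quotient.mk (Ideal.span {e}))).primeCompl _ _
        exact (Algebra.QuasiFinite.iff_of_algEquiv (ψ.restrictScalars R')).mpr hQf
      · rw [Ideal.mem_comap, Ideal.Quotient.eq_zero_iff_mem.mpr (Ideal.mem_span_singleton_self e)]
        exact Q.zero_mem
    have hmaps : ∀ Q ∈ (qfPrimes R' P : Set (Ideal ((R' ⊗[R] S) ⧸ Ideal.span {e}))),
        Φ Q ∈ (qfPrimes R p : Set (Ideal S)) \ {q} := by
      intro Q hQ
      obtain ⟨h1, h2, h3, h4⟩ := key Q hQ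
      haveI := h1; haveI := h2; haveI := h3
      refine ⟨⟨Ideal.comap_isPrime _ _, liesOver_comap_includeRight p P _,
        quasiFiniteAt_comap_includeRight p P H _⟩, ?_⟩
      intro h
      have h' : Φ Q = q := h
      have := Ideal.eq_of_comap_eq_comap_of_bijective_residueFieldMap H
        (Q.comap (Ideal.Quotient.mk (Ideal.span {e}))) P' (h'.trans hP'q.symm)
      rw [this] at h4
      exact heP' h4
    have hinj : Set.InjOn Φ (qfPrimes R' P : Set (Ideal ((R' ⊗[R] S) ⧸ Ideal.span {e}))) := by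
      intro Q₁ hQ₁ Q₂ hQ₂ h
      obtain ⟨h1, h2, -, -⟩ := key Q₁ hQ₁
      obtain ⟨h1', h2', -, -⟩ := key Q₂ hQ₂
      haveI := h1; haveI := h2; haveI := h1'; haveI := h2'
      have := Ideal.eq_of_comap_eq_comap_of_bijective_residueFieldMap H _ _ h
      exact Ideal.comap_injective_of_surjective _ Ideal.Quotient.mk_surjective this
    exact Set.ncard_le_ncard_of_injOn Φ hmaps hinj (hfinS.subset Set.diff_subset)



/-- The conclusion of Stacks 00UM with a flexible index type. -/
def Good (R S : Type u) [CommRing R] [CommRing S] [Algebra R S] (p : Ideal R) [p.IsPrime] : Prop :=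
  ∃ (R' : Type u) (_ : CommRing R') (_ : Algebra R R') (_ : Algebra.Etale R R') (p' : Ideal R')
    (_ : p'.IsPrime) (_ : p'.LiesOver p) (ι : Type) (_ : Finite ι) (A : ι → Type u)
    (_ : ∀ i, CommRing (A i)) (_ : ∀ i, Algebra R' (A i)) (B : Type u) (_ : CommRing B)
    (_ : Algebra R' B),
    Function.Bijective (Ideal.ResidueField.mapₐ p p' (Algebra.ofId R R') (p'.over_def p)) ∧
    Nonempty ((R' ⊗[R] S) ≃ₐ[R'] ((∀ i, A i) × B)) ∧
    (∀ i, Module.Finite R' (A i) ∧
      ∃! r : Ideal (A i), r.IsPrime ∧ r.comap (algebraMap R' (A i)) = p') ∧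
    ∀ (q : Ideal B) [q.IsPrime], q.comap (algebraMap R' B) = p' → ¬ Algebra.QuasiFiniteAt R' q

theorem good_of_forall_not (R S : Type u) [CommRing R] [CommRing S] [Algebra R S] (p : Ideal R)
    [p.IsPrime]
    (h : ∀ (q : Ideal S) [q.IsPrime], q.comap (algebraMap R S) = p → ¬ Algebra.QuasiFiniteAt R q) :
    Good R S p := by
  refine ⟨R, inferInstance, inferInstance, inferInstance, p, inferInstance, ⟨rfl⟩, Empty,
    inferInstance, fun _ => PUnit, fun _ => inferInstance, fun _ => inferInstance,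
    S, inferInstance, inferInstance, ?_, ⟨?_⟩, fun i => i.elim, h⟩
  · rw! [Algebra.ofId_self, Ideal.ResidueField.mapₐ_id]; exact Function.bijective_id
  · exact (Algebra.TensorProduct.lid R S).trans
      (AlgEquiv.uniqueProd (R := R) (A := S) (B := ∀ _ : Empty, PUnit.{u+1})).symm

theorem mapₐ_comp {R R' R'' : Type u} [CommRing R] [CommRing R'] [CommRing R''] [Algebra R R']
    [Algebra R' R''] [Algebra R R''] [IsScalarTower R R' R''] (p : Ideal R) [p.IsPrime]
    (P : Ideal R') [P.IsPrime] [P.LiesOver p] (p'' : Ideal R'') [p''.IsPrime] [p''.LiesOver P]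
    [p''.LiesOver p] (x : p.ResidueField) :
    Ideal.ResidueField.mapₐ p p'' (Algebra.ofId R R'') (p''.over_def p) x =
      Ideal.ResidueField.mapₐ P p'' (Algebra.ofId R' R'') (p''.over_def P)
        (Ideal.ResidueField.mapₐ p P (Algebra.ofId R R') (P.over_def p) x) := by
  have := Ideal.ResidueField.ringHom_ext (I := p)
    (f := (Ideal.ResidueField.mapₐ p p'' (Algebra.ofId R R'') (p''.over_def p)).toRingHom)
    (g := (Ideal.ResidueField.mapₐ P p'' (Algebra.ofId R' R'') (p''.over_def P)).toRingHom.comp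
      (Ideal.ResidueField.mapₐ p P (Algebra.ofId R R') (P.over_def p)).toRingHom) (by
      ext r
      simp only [RingHom.comp_apply, AlgHom.toRingHom_eq_coe, RingHom.coe_coe,
        Ideal.ResidueField.mapₐ_apply, Ideal.ResidueField.map_algebraMap]
      simp [Algebra.ofId_apply, ← IsScalarTower.algebraMap_apply])
  exact RingHom.congr_fun this x

theorem Good.trans_split {R S : Type u} [CommRing R] [CommRing S] [Algebra R S] (p : Ideal R)
    [p.IsPrime] (R' : Type u) [CommRing R'] [Algebra R R'] [Algebra.Etale R R'] (P : Ideal R')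
    [P.IsPrime] [P.LiesOver p]
    (H : Function.Bijective (Ideal.ResidueField.mapₐ p P (Algebra.ofId R R') (P.over_def p)))
    (A₀ : Type u) [CommRing A₀] [Algebra R' A₀] [Module.Finite R' A₀]
    (hA₀ : ∃! r : Ideal A₀, r.IsPrime ∧ r.comap (algebraMap R' A₀) = P)
    (B : Type u) [CommRing B] [Algebra R' B]
    (e : (R' ⊗[R] S) ≃ₐ[R'] (A₀ × B)) (hB : Good R' B P) : Good R S p := by
  obtain ⟨R'', _, _, _, p'', _, _, ι, _, A', instA', algA', B', _, _, H₂, ⟨e₂⟩, hA', hB'⟩ := hB
  letI : Algebra R R'' := ((algebraMap R' R'').comp (algebraMap R R')).toAlgebra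
  haveI : IsScalarTower R R' R'' := IsScalarTower.of_algebraMap_eq (fun _ => rfl)
  haveI : Algebra.Etale R R'' := Algebra.Etale.comp R R' R''
  haveI : p''.LiesOver p := Ideal.LiesOver.trans p'' P p
  let C : Option ι → Type u := fun o => Option.rec (motive := fun _ => Type u) (R'' ⊗[R'] A₀) A' o
  letI instC : ∀ o, CommRing (C o) := fun o =>
    Option.rec (motive := fun o => CommRing (C o))
      (inferInstance : CommRing (R'' ⊗[R'] A₀)) (fun i => instA' i) o
  letI algC : ∀ o, Algebra R'' (C o) := fun o =>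
    Option.rec (motive := fun o => Algebra R'' (C o))
      (inferInstance : Algebra R'' (R'' ⊗[R'] A₀)) (fun i => algA' i) o
  let c₁ : R'' ⊗[R] S ≃ₐ[R''] R'' ⊗[R'] (R' ⊗[R] S) :=
    (Algebra.TensorProduct.cancelBaseChange R R' R'' R'' S).symm
  let c₂ : R'' ⊗[R'] (R' ⊗[R] S) ≃ₐ[R''] R'' ⊗[R'] (A₀ × B) :=
    Algebra.TensorProduct.congr AlgEquiv.refl e
  let c₃ : R'' ⊗[R'] (A₀ × B) ≃ₐ[R''] (R'' ⊗[R'] A₀) × (R'' ⊗[R'] B) :=
    Algebra.TensorProduct.prodRight R' R'' R'' A₀ B
  let c₄ : ((R'' ⊗[R'] A₀) × (R'' ⊗[R'] B)) ≃ₐ[R'']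
      ((R'' ⊗[R'] A₀) × ((∀ i, A' i) × B')) :=
    AlgEquiv.prodCongr AlgEquiv.refl e₂
  let c₅ : ((R'' ⊗[R'] A₀) × ((∀ i, A' i) × B')) ≃ₐ[R''] ((∀ o, C o) × B') :=
    { toFun := fun x =>
        (fun o => Option.rec (motive := fun o => C o) x.1 (fun i => x.2.1 i) o, x.2.2)
      invFun := fun y => (y.1 none, (fun i => y.1 (some i), y.2))
      left_inv := fun x => rfl
      right_inv := fun y => by
        refine Prod.ext (funext fun o => ?_) rfl
        cases o <;> rfl
      map_mul' := fun x y => by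
        refine Prod.ext (funext fun o => ?_) rfl
        cases o <;> rfl
      map_add' := fun x y => by
        refine Prod.ext (funext fun o => ?_) rfl
        cases o <;> rfl
      commutes' := fun r => by
        refine Prod.ext (funext fun o => ?_) rfl
        cases o <;> rfl }
  have H₃ : Function.Bijective
      (Ideal.ResidueField.mapₐ p p'' (Algebra.ofId R R'') (p''.over_def p)) := by
    have : ⇑(Ideal.ResidueField.mapₐ p p'' (Algebra.ofId R R'') (p''.over_def p)) =
        ⇑(Ideal.ResidueField.mapₐ P p'' (Algebra.ofId R' R'') (p''.over_def P)) ∘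
          ⇑(Ideal.ResidueField.mapₐ p P (Algebra.ofId R R') (P.over_def p)) :=
      funext (mapₐ_comp p P p'')
    rw [this]
    exact H₂.comp H
  refine ⟨R'', inferInstance, inferInstance, inferInstance, p'', inferInstance, inferInstance,
    Option ι, inferInstance, C, instC, algC, B', inferInstance, inferInstance, H₃,
    ⟨c₁.trans (c₂.trans (c₃.trans (c₄.trans c₅)))⟩, ?_, hB'⟩
  intro o
  cases o with
  | some i => exact hA' i
  | none =>
    refine ⟨(inferInstance : Module.Finite R'' (R'' ⊗[R'] A₀)), ?_⟩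
    let F := Ideal.fiberIsoOfBijectiveResidueField (S := A₀) H₂
    obtain ⟨r₀, ⟨hr₀p, hr₀c⟩, huniq₀⟩ := hA₀
    let x₀ : P.primesOver A₀ := ⟨r₀, hr₀p, ⟨hr₀c.symm⟩⟩
    refine ⟨(F.symm x₀).1, ⟨(F.symm x₀).2.1, ((F.symm x₀).2.2.over).symm⟩, ?_⟩
    rintro r ⟨hr, hc⟩
    let y : p''.primesOver (R'' ⊗[R'] A₀) := ⟨r, hr, ⟨hc.symm⟩⟩
    have h1 : (F y).1 = r₀ := huniq₀ _ ⟨(F y).2.1, ((F y).2.2.over).symm⟩
    have h2 : F y = x₀ := Subtype.ext h1
    have h3 : y = F.symm x₀ := by rw [← h2, OrderIso.symm_apply_apply]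
    exact congrArg Subtype.val h3


/-- Stacks 00UM, by induction on the number of primes over `p` at which `S` is quasi-finite. -/
theorem good_of_finiteType : ∀ (n : ℕ) (R S : Type u) [CommRing R] [CommRing S] [Algebra R S]
    [Algebra.FiniteType R S] (p : Ideal R) [p.IsPrime],
    (qfPrimes R p : Set (Ideal S)).ncard = n → Good R S p := by
  intro n
  induction n using Nat.strong_induction_on with
  | _ n IH =>
  intro R S _ _ _ _ p _ hn
  by_cases hne : ∃ q : Ideal S, q ∈ qfPrimes R p
  swap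
  · refine good_of_forall_not R S p (fun q hq hqp hqf => hne ⟨q, hq, ⟨hqp.symm⟩, hqf⟩)
  obtain ⟨q, hq⟩ := hne
  obtain ⟨R', _, _, _, P, _, _, A₀, _, _, B₁, _, _, _, H, ⟨e⟩, hfin, huniq, hlt⟩ :=
    exists_split_qf R S p q hq
  rw [hn] at hlt
  exact Good.trans_split p R' P H A₀ huniq B₁ e (IH _ hlt R' B₁ P rfl)

/-- Stacks 00UM. -/
theorem exists_split_finiteType (R : Type u) [CommRing R]
    (S : Type u) [CommRing S] [Algebra R S] [Algebra.FiniteType R S] (p : Ideal R) [p.IsPrime] :
    ∃ (R' : Type u) (_ : CommRing R') (_ : Algebra R R') (_ : Algebra.Etale R R') (p' : Ideal R')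
      (_ : p'.IsPrime) (_ : p'.LiesOver p) (n : ℕ) (A : Fin n → Type u) (_ : ∀ i, CommRing (A i))
      (_ : ∀ i, Algebra R' (A i)) (B : Type u) (_ : CommRing B) (_ : Algebra R' B),
      Subfield.closure (Set.range (algebraMap R p'.ResidueField)) = ⊤ ∧
      Nonempty ((R' ⊗[R] S) ≃ₐ[R'] ((∀ i, A i) × B)) ∧
        (∀ i, Module.Finite R' (A i) ∧
          ∃! r : Ideal (A i), r.IsPrime ∧ r.comap (algebraMap R' (A i)) = p') ∧
        ∀ (q : Ideal B) [q.IsPrime], q.comap (algebraMap R' B) = p' →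
          ¬ Algebra.QuasiFiniteAt R' q := by
  obtain ⟨R', _, _, _, p', _, _, ι, _, A, instA, algA, B, _, _, H, ⟨e⟩, hA, hB⟩ :=
    good_of_finiteType _ R S p rfl
  let eq := Finite.equivFin ι
  refine ⟨R', inferInstance, inferInstance, inferInstance, p', inferInstance, inferInstance,
    Nat.card ι, fun i => A (eq.symm i), fun i => instA (eq.symm i), fun i => algA (eq.symm i),
    B, inferInstance, inferInstance, ?_,
    ⟨e.trans (AlgEquiv.prodCongr (AlgEquiv.piCongrLeft' R' A eq) AlgEquiv.refl)⟩,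
    fun i => hA (eq.symm i), hB⟩
  -- the residue field is generated by the image of `R`
  rw [eq_top_iff]
  rintro y -
  obtain ⟨x, rfl⟩ := H.2 y
  obtain ⟨a, b, -, rfl⟩ := IsFractionRing.div_surjective (A := R ⧸ p) x
  obtain ⟨a, rfl⟩ := Ideal.Quotient.mk_surjective a
  obtain ⟨b, rfl⟩ := Ideal.Quotient.mk_surjective b
  rw [map_div₀, Ideal.algebraMap_quotient_residueField_mk,
    Ideal.algebraMap_quotient_residueField_mk, AlgHom.commutes, AlgHom.commutes]
  exact div_mem (Subfield.subset_closure ⟨a, rfl⟩) (Subfield.subset_closure ⟨b, rfl⟩)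

end Groth.Agent.Lib.Helper8.QFSplit
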