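import Mathlib
import Groth.Agent.Lib.Helper8.EssLocDim
import Groth.Agent.Lib.Helper8.CoreQF

/-!
# Helper8 library: a quasi-finite map to an affine space at a point closed in its fibre

`exists_quasiFinite_family_of_trdeg_eq_zero`: `C` of finite type over the local ring `A`, `𝔮` a
prime of the closed fibre with residue field algebraic over that of `A`, at which all fibre
components have dimension `≤ n`.  Then there is a finite set `s ⊆ 𝔮` of at most `n` elements
such that `C` is quasi-finite at `𝔮` over `A[T_c, c ∈ s]`.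
-/

set_option autoImplicit false
universe u
open IsLocalRing

namespace Groth.Agent.Lib.Helper8.QSFamily

open Groth.Agent.Lib.Helper12 Groth.Agent.Lib.Helper8.EssLocDim Groth.Agent.Lib.Helper8.CoreQF

theorem exists_quasiFinite_family_of_trdeg_eq_zero {A C : Type u} [CommRing A] [IsLocalRing A]
    [CommRing C] [Algebra A C] [Algebra.FiniteType A C]
    (𝔮 : Ideal C) [𝔮.IsPrime] [𝔮.LiesOver (maximalIdeal A)] (n : ℕ)
    (H1 : ∀ (P : Ideal C) [P.IsPrime] [P.LiesOver (maximalIdeal A)], P ≤ 𝔮 →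
        Algebra.trdeg (A ⧸ maximalIdeal A) (C ⧸ P) ≤ n)
    (he0 : Algebra.trdeg (A ⧸ maximalIdeal A) (C ⧸ 𝔮) = 0) :
    ∃ s : Finset C, (∀ c ∈ s, c ∈ 𝔮) ∧ s.card ≤ n ∧
      (letI : Algebra (MvPolynomial s A) C :=
        (MvPolynomial.aeval (fun i : s => (i : C))).toRingHom.toAlgebra
       Algebra.QuasiFiniteAt (MvPolynomial s A) 𝔮) := by
  classical
  letI : Field (A ⧸ maximalIdeal A) := Ideal.Quotient.field _
  haveI : Algebra.FiniteType (A ⧸ maximalIdeal A) (C ⧸ mC A C) := finiteType_fibre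
  haveI : IsNoetherianRing (C ⧸ mC A C) :=
    Algebra.FiniteType.isNoetherianRing (A ⧸ maximalIdeal A) _
  have hIq : mC A C ≤ 𝔮 := map_le_of_liesOver 𝔮
  haveI hQ' : (𝔮.map (Ideal.Quotient.mk (mC A C))).IsPrime :=
    DimIneq.isPrime_map_mk_of_le _ 𝔮 hIq
  have hQcomap : (𝔮.map (Ideal.Quotient.mk (mC A C))).comap (Ideal.Quotient.mk (mC A C)) = 𝔮 :=
    DimIneq.comap_map_mk_of_le _ 𝔮 hIq
  -- (1) the dimension count
  obtain ⟨P', hP'min, hP'le, hsum⟩ := DimFT2.exists_minimalPrimes_coheight_eq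
    (A ⧸ maximalIdeal A) (C ⧸ mC A C) ⟨𝔮.map (Ideal.Quotient.mk (mC A C)), hQ'⟩
  haveI hP'prime : P'.IsPrime := hP'min.1.1
  haveI : (P'.comap (Ideal.Quotient.mk (mC A C))).IsPrime := Ideal.comap_isPrime _ _
  haveI : (P'.comap (Ideal.Quotient.mk (mC A C))).LiesOver (maximalIdeal A) :=
    liesOver_of_map_le _ (le_comap_mk P')
  have hPq : P'.comap (Ideal.Quotient.mk (mC A C)) ≤ 𝔮 := by
    rw [← hQcomap]; exact Ideal.comap_mono hP'le
  obtain ⟨a, ha1, ha2⟩ := exists_trdeg_eq_coheight (P'.comap (Ideal.Quotient.mk (mC A C))) P' rfl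
  obtain ⟨e, he1, he2⟩ :=
    exists_trdeg_eq_coheight 𝔮 (𝔮.map (Ideal.Quotient.mk (mC A C))) hQcomap
  have he : e = 0 := by
    rw [he0] at he1
    exact_mod_cast he1.symm
  subst he
  have hht : (𝔮.map (Ideal.Quotient.mk (mC A C))).height ≠ ⊤ := Ideal.height_ne_top hQ'.ne_top
  obtain ⟨d, hd⟩ := ENat.ne_top_iff_exists.mp hht
  have hda : d = a := by
    have h1 : (𝔮.map (Ideal.Quotient.mk (mC A C))).height =
        Order.height (⟨𝔮.map (Ideal.Quotient.mk (mC A C)), hQ'⟩ : PrimeSpectrum (C ⧸ mC A C)) :=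
      PrimeSpectrum.height_eq_orderHeight ⟨_, hQ'⟩
    have h2 : (Order.height (⟨𝔮.map (Ideal.Quotient.mk (mC A C)), hQ'⟩ :
        PrimeSpectrum (C ⧸ mC A C)) : ℕ∞) = d := by rw [← h1, ← hd]
    rw [h2, he2, ha2] at hsum
    have : d + 0 = a := by exact_mod_cast hsum
    omega
  have han : a ≤ n := by
    have := H1 (P'.comap (Ideal.Quotient.mk (mC A C))) hPq
    rw [ha1] at this
    exact_mod_cast this
  -- (2) a system of parameters in the fibre
  obtain ⟨t₁, ht₁min, ht₁card⟩ := Ideal.exists_finset_card_eq_height_of_isNoetherianRing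
    (𝔮.map (Ideal.Quotient.mk (mC A C)))
  have ht₁d : t₁.card = d := by
    rw [← hd] at ht₁card
    exact_mod_cast ht₁card
  have hsurj₁ : Function.Surjective (Ideal.Quotient.mk (mC A C)) := Ideal.Quotient.mk_surjective
  let lift₁ : C ⧸ mC A C → C := Function.surjInv hsurj₁
  have hlift₁ : ∀ y, Ideal.Quotient.mk (mC A C) (lift₁ y) = y := Function.surjInv_eq hsurj₁
  have hlift𝔮 : ∀ y ∈ t₁, lift₁ y ∈ 𝔮 := by
    intro y hy
    rw [← hQcomap, Ideal.mem_comap, hlift₁]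
    exact ht₁min.1.2 (Ideal.subset_span hy)
  let s : Finset C := t₁.image lift₁
  have hscard : s.card ≤ n := by
    have h3 : s.card ≤ t₁.card := Finset.card_image_le
    omega
  have hs𝔮 : ∀ c ∈ s, c ∈ 𝔮 := by
    intro c hc
    obtain ⟨y, hy, rfl⟩ := Finset.mem_image.mp hc
    exact hlift𝔮 y hy
  refine ⟨s, hs𝔮, hscard, ?_⟩
  letI : Algebra (MvPolynomial s A) C :=
    (MvPolynomial.aeval (fun i : s => (i : C))).toRingHom.toAlgebra
  haveI : IsScalarTower A (MvPolynomial s A) C :=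
    IsScalarTower.of_algebraMap_eq
      (fun a => ((MvPolynomial.aeval (fun i : s => (i : C))).commutes a).symm)
  haveI : Algebra.FiniteType (MvPolynomial s A) C :=
    Algebra.FiniteType.of_restrictScalars_finiteType A _ C
  apply quasiFiniteAt_of_forall_eq
  intro 𝔯 h𝔯prime h𝔯under hcomp
  haveI := h𝔯prime
  have h𝔯A : 𝔯.under A = 𝔮.under A := by
    rw [← Ideal.under_under (B := MvPolynomial s A) 𝔯, h𝔯under, Ideal.under_under]
  haveI : 𝔯.LiesOver (maximalIdeal A) := ⟨by rw [h𝔯A]; exact Ideal.over_def 𝔮 _⟩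
  have hmemiff : ∀ p : MvPolynomial s A,
      MvPolynomial.aeval (fun i : s => (i : C)) p ∈ 𝔯 ↔
        MvPolynomial.aeval (fun i : s => (i : C)) p ∈ 𝔮 := by
    intro p
    have h1 : p ∈ 𝔯.under (MvPolynomial s A) ↔ p ∈ 𝔮.under (MvPolynomial s A) := by
      rw [h𝔯under]
    exact h1
  have hsmem : ∀ c (hc : c ∈ s), (c ∈ 𝔯 ↔ c ∈ 𝔮) := by
    intro c hc
    have := hmemiff (MvPolynomial.X ⟨c, hc⟩)
    rwa [MvPolynomial.aeval_X] at this
  rcases hcomp with hle | hle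
  · -- `𝔯 ≤ 𝔮`: minimality over the parameters
    have hI𝔯 : mC A C ≤ 𝔯 := map_le_of_liesOver 𝔯
    haveI h𝔯' : (𝔯.map (Ideal.Quotient.mk (mC A C))).IsPrime :=
      DimIneq.isPrime_map_mk_of_le _ 𝔯 hI𝔯
    have h𝔯'le : 𝔯.map (Ideal.Quotient.mk (mC A C)) ≤ 𝔮.map (Ideal.Quotient.mk (mC A C)) :=
      Ideal.map_mono hle
    have hspan : Ideal.span (t₁ : Set (C ⧸ mC A C)) ≤
        𝔯.map (Ideal.Quotient.mk (mC A C)) := by
      rw [Ideal.span_le]
      intro y hy
      have hys : lift₁ y ∈ s := Finset.mem_image_of_mem _ hy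
      have := Ideal.mem_map_of_mem (Ideal.Quotient.mk (mC A C))
        ((hsmem _ hys).mpr (hlift𝔮 y hy))
      rwa [hlift₁] at this
    have h1 : 𝔮.map (Ideal.Quotient.mk (mC A C)) ≤ 𝔯.map (Ideal.Quotient.mk (mC A C)) :=
      ht₁min.2 ⟨h𝔯', hspan⟩ h𝔯'le
    have h2 : 𝔮 ≤ 𝔯 := by
      rw [← hQcomap, ← DimIneq.comap_map_mk_of_le _ 𝔯 hI𝔯]
      exact Ideal.comap_mono h1
    exact le_antisymm hle h2
  · -- `𝔮 ≤ 𝔯`: the residue transcendence degree cannot drop
    by_contra hne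
    have hlt : 𝔮 < 𝔯 := lt_of_le_of_ne hle (Ne.symm hne)
    obtain ⟨a', b', ha', hb', hlt'⟩ :=
      ValDim.trdeg_lt_of_lt_of_liesOver (maximalIdeal A) 𝔮 𝔯 hlt
    have hae : a' = 0 := by
      have := ha'.symm.trans he0
      exact_mod_cast this
    omega

end Groth.Agent.Lib.Helper8.QSFamily
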