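import Mathlib
import Groth.Agent.Lib.Helper8.CoreGD

/-!
# Helper8 library: going down through a quasi-finite map to an affine space, general prime

`exists_prime_liesOver_of_quasiFiniteAt`: in the situation of
`CoreGD.exists_prime_of_quasiFiniteAt`, every prime `𝔶` of `A[T_i]` below `𝔮 ∩ A[T_i]` is the
trace of a prime `𝔭 ≤ 𝔮` of `C`, and `C` is "integral up to a denominator outside `𝔭`" over
`A[T_i]`.
-/

set_option autoImplicit false
universe u

namespace Groth.Agent.Lib.Helper8.QSGoingDown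

open Groth.Agent.Lib.Helper8.CoreGD

theorem exists_prime_liesOver_of_quasiFiniteAt {A C : Type u} [CommRing A] [IsDomain A]
    [IsIntegrallyClosed A] [CommRing C] [IsDomain C] [Algebra A C] [Algebra.FiniteType A C]
    (hinj : Function.Injective (algebraMap A C)) (𝔮 : Ideal C) [𝔮.IsPrime]
    {ι : Type u} [Finite ι] (v : ι → C)
    (n : ℕ) (hn : Algebra.trdeg A C = n) (hcard : Nat.card ι ≤ n)
    (hqf : letI : Algebra (MvPolynomial ι A) C := (MvPolynomial.aeval v).toRingHom.toAlgebra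
      Algebra.QuasiFiniteAt (MvPolynomial ι A) 𝔮)
    (𝔶 : Ideal (MvPolynomial ι A)) [h𝔶prime : 𝔶.IsPrime]
    (h𝔶 : ∀ p ∈ 𝔶, MvPolynomial.aeval v p ∈ 𝔮) :
    ∃ 𝔭 : Ideal C, 𝔭.IsPrime ∧ 𝔭 ≤ 𝔮 ∧
      (∀ p : MvPolynomial ι A, MvPolynomial.aeval v p ∈ 𝔭 ↔ p ∈ 𝔶) ∧
      Function.Injective (MvPolynomial.aeval v : MvPolynomial ι A →ₐ[A] C) ∧
      ∀ x : C, ∃ r : C, r ∉ 𝔭 ∧
        (MvPolynomial.aeval v : MvPolynomial ι A →ₐ[A] C).toRingHom.IsIntegralElem r ∧
        (MvPolynomial.aeval v : MvPolynomial ι A →ₐ[A] C).toRingHom.IsIntegralElem (r * x) := by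
  classical
  letI : Algebra (MvPolynomial ι A) C := (MvPolynomial.aeval v).toRingHom.toAlgebra
  haveI : IsScalarTower A (MvPolynomial ι A) C :=
    IsScalarTower.of_algebraMap_eq (fun a => ((MvPolynomial.aeval v).commutes a).symm)
  haveI : Algebra.FiniteType (MvPolynomial ι A) C :=
    Algebra.FiniteType.of_restrictScalars_finiteType A _ C
  have halgmap : ∀ p, algebraMap (MvPolynomial ι A) C p = MvPolynomial.aeval v p := fun p => rfl
  haveI : Algebra.QuasiFiniteAt (MvPolynomial ι A) 𝔮 := hqf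
  obtain ⟨r', hr𝔮, hbij⟩ := Algebra.ZariskisMainProperty.of_finiteType (R := MvPolynomial ι A) 𝔮
  have hr0 : r'.1 ≠ 0 := fun h => hr𝔮 (h ▸ zero_mem _)
  have hpow : ∀ x : C, ∃ m : ℕ, IsIntegral (MvPolynomial ι A) (r'.1 ^ m * x) := by
    intro x
    have h1 := Localization.awayMap_surjective_iff.mp hbij.2 x
    obtain ⟨b, m, hb⟩ := h1
    refine ⟨m, ?_⟩
    have : r'.1 ^ m * x = b.1 := hb.symm
    rw [this]
    exact b.2
  -- everything is algebraic over the subalgebra generated by `v`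
  haveI halg : Algebra.IsAlgebraic (Algebra.adjoin A (Set.range v)) C := by
    rw [← MvPolynomial.aeval_range]
    have hint : ∀ y : C, IsIntegral (MvPolynomial ι A) y →
        IsAlgebraic (MvPolynomial.aeval v : MvPolynomial ι A →ₐ[A] C).range y := by
      intro y hy
      have h1 : (algebraMap (MvPolynomial.aeval v : MvPolynomial ι A →ₐ[A] C).range
          C).IsIntegralElem y := by
        refine RingHom.IsIntegralElem.of_comp
          (f := (MvPolynomial.aeval v : MvPolynomial ι A →ₐ[A] C).rangeRestrict.toRingHom) ?_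
        exact hy
      exact IsIntegral.isAlgebraic h1
    refine ⟨fun x => ?_⟩
    obtain ⟨m, hm⟩ := hpow x
    have hrm : IsIntegral (MvPolynomial ι A) (r'.1 ^ m) := r'.2.pow m
    exact IsAlgebraic.of_mul (mem_nonZeroDivisors_of_ne_zero (pow_ne_zero m hr0))
      (hint _ hrm) (hint _ hm)
  have hvind : AlgebraicIndependent A v := algebraicIndependent_of_card_le hinj v n hn hcard
  have hφinj : Function.Injective (algebraMap (MvPolynomial ι A) C) :=
    algebraicIndependent_iff_injective_aeval.mp hvind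
  -- going down
  haveI : IsIntegrallyClosed (MvPolynomial ι A) := isIntegrallyClosed_mvPolynomial_finite A ι
  haveI : FaithfulSMul (MvPolynomial ι A) (integralClosure (MvPolynomial ι A) C) := by
    rw [faithfulSMul_iff_algebraMap_injective]
    intro a b hab
    apply hφinj
    exact congrArg Subtype.val hab
  have h𝔶le : 𝔶 ≤
      (𝔮.under (integralClosure (MvPolynomial ι A) C)).under (MvPolynomial ι A) := by
    intro p hp
    show MvPolynomial.aeval v p ∈ 𝔮
    exact h𝔶 p hp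
  obtain ⟨𝔭₀, h𝔭₀le, h𝔭₀prime, h𝔭₀over⟩ := Ideal.exists_ideal_le_liesOver_of_le
    (p := 𝔶)
    (q := (𝔮.under (integralClosure (MvPolynomial ι A) C)).under (MvPolynomial ι A))
    (𝔮.under (integralClosure (MvPolynomial ι A) C)) h𝔶le
  haveI := h𝔭₀prime
  have hr𝔭₀ : r' ∉ 𝔭₀ := fun h => hr𝔮 (h𝔭₀le h)
  -- transfer to `C`
  let ψ : Localization.Away r' ≃+* Localization.Away r'.1 := RingEquiv.ofBijective _ hbij
  have hψ : ∀ x : integralClosure (MvPolynomial ι A) C,
      ψ (algebraMap _ (Localization.Away r') x) = algebraMap C (Localization.Away r'.1) x.1 := by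
    intro x
    show Localization.awayMap (integralClosure (MvPolynomial ι A) C).val.toRingHom r'
      (algebraMap _ _ x) = _
    simp only [Localization.awayMap, IsLocalization.Away.map]
    rw [IsLocalization.map_eq]
    rfl
  have hdisj : Disjoint (Submonoid.powers r' : Set (integralClosure (MvPolynomial ι A) C))
      (𝔭₀ : Set (integralClosure (MvPolynomial ι A) C)) :=
    (Ideal.disjoint_powers_iff_notMem _ (Ideal.IsPrime.isRadical h𝔭₀prime)).mpr hr𝔭₀
  haveI hP₁ : (𝔭₀.map (algebraMap _ (Localization.Away r'))).IsPrime :=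
    IsLocalization.isPrime_of_isPrime_disjoint (Submonoid.powers r') _ 𝔭₀ h𝔭₀prime hdisj
  have hP₁comap : (𝔭₀.map (algebraMap _ (Localization.Away r'))).comap
      (algebraMap _ (Localization.Away r')) = 𝔭₀ :=
    IsLocalization.under_map_of_isPrime_disjoint (Submonoid.powers r') _ h𝔭₀prime hdisj
  let 𝔭 : Ideal C := ((𝔭₀.map (algebraMap _ (Localization.Away r'))).comap
    (ψ.symm : Localization.Away r'.1 →+* Localization.Away r')).comap
      (algebraMap C (Localization.Away r'.1))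
  haveI h𝔭prime : 𝔭.IsPrime := Ideal.comap_isPrime _ _
  have h𝔭mem : ∀ x : integralClosure (MvPolynomial ι A) C, x.1 ∈ 𝔭 ↔ x ∈ 𝔭₀ := by
    intro x
    have h1 : x.1 ∈ 𝔭 ↔ ψ.symm (algebraMap C (Localization.Away r'.1) x.1) ∈
        𝔭₀.map (algebraMap _ (Localization.Away r')) := Iff.rfl
    rw [h1, ← hψ x, RingEquiv.symm_apply_apply, ← Ideal.mem_comap, hP₁comap]
  have hr𝔭 : r'.1 ∉ 𝔭 := fun h => hr𝔭₀ ((h𝔭mem r').mp h)
  refine ⟨𝔭, h𝔭prime, ?_, ?_, hφinj, ?_⟩
  · intro x hx
    obtain ⟨m, hm⟩ := hpow x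
    have h1 : r'.1 ^ m * x ∈ 𝔭 := 𝔭.mul_mem_left _ hx
    have h2 : (⟨r'.1 ^ m * x, hm⟩ : integralClosure (MvPolynomial ι A) C) ∈ 𝔭₀ :=
      (h𝔭mem ⟨_, hm⟩).mp h1
    have h3 : r'.1 ^ m * x ∈ 𝔮 := h𝔭₀le h2
    rcases Ideal.IsPrime.mem_or_mem inferInstance h3 with h4 | h4
    · exact absurd (Ideal.IsPrime.mem_of_pow_mem inferInstance m h4) hr𝔮
    · exact h4
  · intro p
    have h4 : (algebraMap (MvPolynomial ι A) (integralClosure (MvPolynomial ι A) C) p).1 =
        MvPolynomial.aeval v p := rfl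
    rw [← h4, h𝔭mem, h𝔭₀over.over]
    rfl
  · intro x
    obtain ⟨m, hm⟩ := hpow x
    refine ⟨r'.1 ^ m, fun h => hr𝔭 (Ideal.IsPrime.mem_of_pow_mem inferInstance m h), ?_, hm⟩
    exact r'.2.pow m

end Groth.Agent.Lib.Helper8.QSGoingDown
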