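import Mathlib
import Groth.Agent.Lib.Helper8.QSFamily
import Groth.Agent.Lib.Helper8.QSGoingDown
import Groth.Agent.Lib.Helper8.CoreMain

/-!
# Helper8 library: quasi-sections through a point of the closed fibre, over a valuation ring

`exists_quasiSection_of_valuationRing`: `V` a valuation ring which is not a field, `C` a domain
of finite type containing `V`, `𝔮` a prime of the closed fibre whose residue field is algebraic
over that of `V`, `u ≠ 0`.  Then there is a prime `𝔭 ≤ 𝔮` with `𝔭 ∩ V = 0`, `u ∉ 𝔭` and `C/𝔭`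
algebraic over `V`.
-/

set_option autoImplicit false
universe u
open IsLocalRing

namespace Groth.Agent.Lib.Helper8.QSVal

open Groth.Agent.Lib.Helper12 Groth.Agent.Lib.Helper8.EssLocDim

/-- Congruence of a polynomial expression modulo an ideal under congruent substitutions. -/
theorem aeval_sub_algebraMap_eval_mem {V C : Type u} [CommRing V] [CommRing C] [Algebra V C]
    {ι : Type*} (I : Ideal C) (v : ι → C) (a : ι → V)
    (h : ∀ i, v i - algebraMap V C (a i) ∈ I) (p : MvPolynomial ι V) :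
    MvPolynomial.aeval v p - algebraMap V C (MvPolynomial.eval a p) ∈ I := by
  have h1 : ((Ideal.Quotient.mkₐ V I).comp (MvPolynomial.aeval v)) =
      (Ideal.Quotient.mkₐ V I).comp ((Algebra.ofId V C).comp (MvPolynomial.aeval a)) := by
    apply MvPolynomial.algHom_ext
    intro i
    simp only [AlgHom.comp_apply, MvPolynomial.aeval_X, Ideal.Quotient.mkₐ_eq_mk,
      Algebra.ofId_apply]
    exact Ideal.Quotient.eq.mpr (h i)
  have h2 := congrArg (fun f => f p) h1
  simp only [AlgHom.comp_apply, Ideal.Quotient.mkₐ_eq_mk, Algebra.ofId_apply,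
    MvPolynomial.coe_aeval_eq_eval] at h2
  exact Ideal.Quotient.eq.mp h2

theorem infinite_maximalIdeal {V : Type u} [CommRing V] [IsDomain V] [IsLocalRing V]
    (hV : maximalIdeal V ≠ ⊥) : (maximalIdeal V : Set V).Infinite := by
  obtain ⟨π, hπ, hπ0⟩ := Submodule.exists_mem_ne_zero_of_ne_bot hV
  have hnu : ¬ IsUnit π := (mem_maximalIdeal π).mp hπ
  have hinj : Function.Injective (fun n : ℕ => π ^ n) := pow_injective_of_not_isUnit hnu hπ0
  refine Set.infinite_of_injective_forall_mem (f := fun n : ℕ => π ^ (n + 1)) ?_ ?_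
  · intro m n hmn
    have := hinj hmn
    omega
  · intro n
    exact Ideal.pow_mem_of_mem _ hπ _ (Nat.succ_pos n)

theorem exists_quasiSection_of_valuationRing {V C : Type u} [CommRing V] [IsDomain V]
    [ValuationRing V] [CommRing C] [IsDomain C] [Algebra V C] [Algebra.FiniteType V C]
    (hinj : Function.Injective (algebraMap V C)) (hV : maximalIdeal V ≠ ⊥)
    (𝔮 : Ideal C) [𝔮.IsPrime] [𝔮.LiesOver (maximalIdeal V)]
    (h0 : Algebra.trdeg (V ⧸ maximalIdeal V) (C ⧸ 𝔮) = 0) (u : C) (hu : u ≠ 0) :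
    ∃ 𝔭 : Ideal C, 𝔭.IsPrime ∧ 𝔭 ≤ 𝔮 ∧ u ∉ 𝔭 ∧ 𝔭.under V = ⊥ ∧
      ∀ x : C, IsAlgebraic V (Ideal.Quotient.mk 𝔭 x) := by
  classical
  haveI := CoreMain.isIntegrallyClosed_of_valuationRing V
  obtain ⟨n, hn⟩ := Cardinal.lt_aleph0.mp (trdeg_lt_aleph0_of_finiteType (R := V) (S := C))
  obtain ⟨s, hs𝔮, hscard, hqf⟩ := QSFamily.exists_quasiFinite_family_of_trdeg_eq_zero 𝔮 n
    (fun P _ _ _ => by
      rw [← hn]; exact ValDim.trdeg_quotient_le_of_valuationRing' hinj P (maximalIdeal V)) h0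
  have hcard : Nat.card s ≤ n := by
    rw [Nat.card_eq_fintype_card, Fintype.card_coe]; exact hscard
  -- a nonzero polynomial whose value is a multiple of `u`
  have hw : ∃ w₀ : MvPolynomial s V, w₀ ≠ 0 ∧
      u ∣ MvPolynomial.aeval (fun i : s => (i : C)) w₀ := by
    haveI : (⊥ : Ideal (MvPolynomial s V)).IsPrime := Ideal.isPrime_bot
    obtain ⟨𝔭', h𝔭'prime, -, -, hφinj, hint⟩ :=
      QSGoingDown.exists_prime_liesOver_of_quasiFiniteAt hinj 𝔮 (fun i : s => (i : C)) n hn hcard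
        hqf ⊥ (fun p hp => by rw [Ideal.mem_bot.mp hp, map_zero]; exact zero_mem _)
    obtain ⟨r, hr𝔭', hrint, hruint⟩ := hint u
    have hr0 : r ≠ 0 := fun h => hr𝔭' (h ▸ zero_mem _)
    have hru0 : r * u ≠ 0 := mul_ne_zero hr0 hu
    letI : Algebra (MvPolynomial s V) C :=
      (MvPolynomial.aeval (fun i : s => (i : C))).toRingHom.toAlgebra
    have halg : IsAlgebraic (MvPolynomial s V) (r * u) := IsIntegral.isAlgebraic hruint
    obtain ⟨w₀, hw₀, hdvd⟩ := halg.exists_nonzero_dvd (mem_nonZeroDivisors_of_ne_zero hru0)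
    exact ⟨w₀, hw₀, dvd_of_mul_left_dvd hdvd⟩
  obtain ⟨w₀, hw₀, hdvd⟩ := hw
  -- a point of the maximal ideal where `w₀` does not vanish
  have hinf := infinite_maximalIdeal hV
  obtain ⟨a, ha, haw⟩ : ∃ a : s → V, (∀ i, a i ∈ maximalIdeal V) ∧
      MvPolynomial.eval a w₀ ≠ 0 := by
    by_contra hcon
    push Not at hcon
    apply hw₀
    refine MvPolynomial.funext_set (fun _ : s => (maximalIdeal V : Set V)) (fun _ => hinf) ?_
    intro x hx
    rw [map_zero]
    exact hcon x (fun i => hx i (Set.mem_univ i))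
  -- the prime of the affine space
  let 𝔶 : Ideal (MvPolynomial s V) := RingHom.ker (MvPolynomial.eval a)
  haveI h𝔶prime : 𝔶.IsPrime := RingHom.ker_isPrime _
  have hcong𝔮 : ∀ p : MvPolynomial s V, MvPolynomial.aeval (fun i : s => (i : C)) p -
      algebraMap V C (MvPolynomial.eval a p) ∈ 𝔮 := by
    apply aeval_sub_algebraMap_eval_mem
    intro i
    refine sub_mem (hs𝔮 i.1 i.2) ?_
    have h1 : a i ∈ 𝔮.under V := by
      rw [← Ideal.over_def 𝔮 (maximalIdeal V)]; exact ha i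
    exact h1
  have h𝔶 : ∀ p ∈ 𝔶, MvPolynomial.aeval (fun i : s => (i : C)) p ∈ 𝔮 := by
    intro p hp
    have h1 := hcong𝔮 p
    rw [RingHom.mem_ker.mp hp, map_zero, sub_zero] at h1
    exact h1
  obtain ⟨𝔭, h𝔭prime, h𝔭le, h𝔭iff, -, hint⟩ :=
    QSGoingDown.exists_prime_liesOver_of_quasiFiniteAt hinj 𝔮 (fun i : s => (i : C)) n hn hcard
      hqf 𝔶 h𝔶
  haveI := h𝔭prime
  have hcong𝔭 : ∀ p : MvPolynomial s V, MvPolynomial.aeval (fun i : s => (i : C)) p -
      algebraMap V C (MvPolynomial.eval a p) ∈ 𝔭 := by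
    apply aeval_sub_algebraMap_eval_mem
    intro i
    have h1 : (MvPolynomial.X i - MvPolynomial.C (a i) : MvPolynomial s V) ∈ 𝔶 := by
      rw [RingHom.mem_ker, map_sub, MvPolynomial.eval_X, MvPolynomial.eval_C, sub_self]
    have h2 := (h𝔭iff _).mpr h1
    rw [map_sub, MvPolynomial.aeval_X, MvPolynomial.aeval_C] at h2
    exact h2
  refine ⟨𝔭, h𝔭prime, h𝔭le, ?_, ?_, ?_⟩
  · intro hu𝔭
    have h1 : MvPolynomial.aeval (fun i : s => (i : C)) w₀ ∈ 𝔭 :=
      Ideal.mem_of_dvd 𝔭 hdvd hu𝔭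
    exact haw (RingHom.mem_ker.mp ((h𝔭iff w₀).mp h1))
  · rw [eq_bot_iff]
    intro c hc
    rw [Ideal.mem_bot]
    have h1 : MvPolynomial.aeval (fun i : s => (i : C)) (MvPolynomial.C c) ∈ 𝔭 := by
      rw [MvPolynomial.aeval_C]; exact hc
    have h2 := RingHom.mem_ker.mp ((h𝔭iff _).mp h1)
    rwa [MvPolynomial.eval_C] at h2
  · intro x
    have hkey : ∀ y : C, (MvPolynomial.aeval (fun i : s => (i : C)) :
        MvPolynomial s V →ₐ[V] C).toRingHom.IsIntegralElem y →
        IsIntegral V (Ideal.Quotient.mk 𝔭 y) := by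
      rintro y ⟨P, hPmonic, hPeval⟩
      have hcomp : (Ideal.Quotient.mk 𝔭).comp (MvPolynomial.aeval (fun i : s => (i : C)) :
          MvPolynomial s V →ₐ[V] C).toRingHom =
          (algebraMap V (C ⧸ 𝔭)).comp (MvPolynomial.eval a) := by
        ext p
        · simp
        · have := hcong𝔭 (MvPolynomial.X p)
          simp only [RingHom.comp_apply]
          exact Ideal.Quotient.eq.mpr this
      have h1 : Polynomial.eval₂ ((Ideal.Quotient.mk 𝔭).comp
          (MvPolynomial.aeval (fun i : s => (i : C)) : MvPolynomial s V →ₐ[V] C).toRingHom)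
          (Ideal.Quotient.mk 𝔭 y) P = 0 := by
        rw [← Polynomial.hom_eval₂, hPeval, map_zero]
      rw [hcomp] at h1
      exact RingHom.IsIntegralElem.of_comp (f := MvPolynomial.eval a) ⟨P, hPmonic, h1⟩
    obtain ⟨r, hr𝔭, hrint, hrxint⟩ := hint x
    have hr0 : Ideal.Quotient.mk 𝔭 r ≠ 0 := fun h => hr𝔭 (Ideal.Quotient.eq_zero_iff_mem.mp h)
    have h1 := (hkey r hrint).isAlgebraic
    have h2 := (hkey (r * x) hrxint).isAlgebraic
    rw [map_mul] at h2
    exact IsAlgebraic.of_mul (mem_nonZeroDivisors_of_ne_zero hr0) h1 h2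

end Groth.Agent.Lib.Helper8.QSVal
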