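import Mathlib
import Groth.Agent.Lib.Helper8.QSVal
import Groth.Agent.Lib.Helper8.CoreGen

/-!
# Helper8 library: quasi-sections through a point closed in its fibre (domains)

`exists_quasiSection_of_domain`: `A ⊆ C` domains with `C` of finite type, `𝔮` a prime of `C` not
lying over `0` and with residue field algebraic over that of `𝔮 ∩ A`, `u ≠ 0`.  Then there is a
prime `𝔭 ≤ 𝔮` with `𝔭 ∩ A = 0`, `u ∉ 𝔭` and `C/𝔭` algebraic over `A`.
-/

set_option autoImplicit false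
universe u
open IsLocalRing

namespace Groth.Agent.Lib.Helper8.QSDomain

theorem exists_quasiSection_of_domain {A C : Type u} [CommRing A] [IsDomain A] [CommRing C]
    [IsDomain C] [Algebra A C] [Algebra.FiniteType A C]
    (hinj : Function.Injective (algebraMap A C)) (𝔮 : Ideal C) [𝔮.IsPrime]
    (h𝔮 : 𝔮.under A ≠ ⊥)
    (h0 : Algebra.trdeg (A ⧸ 𝔮.under A) (C ⧸ 𝔮) = 0) (u : C) (hu : u ≠ 0) :
    ∃ 𝔭 : Ideal C, 𝔭.IsPrime ∧ 𝔭 ≤ 𝔮 ∧ u ∉ 𝔭 ∧ 𝔭.under A = ⊥ ∧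
      ∀ x : C, IsAlgebraic A (Ideal.Quotient.mk 𝔭 x) := by
  obtain ⟨V, _, _, _, C₁, _, _, _, _, i, j, 𝔮₁, hVinj, hi, hj, hcomm, h𝔮₁, h𝔮₁V, h𝔮₁j, hgen,
    hfrac, htr⟩ := ValModel.exists_valuation_model hinj 𝔮
  haveI := h𝔮₁
  haveI : 𝔮₁.LiesOver (maximalIdeal V) := ⟨h𝔮₁V.symm⟩
  subst h𝔮₁j
  have hunder : ∀ P₁ : Ideal C₁, (P₁.comap j).under A = (P₁.under V).comap i := by
    intro P₁
    ext a
    simp only [Ideal.under_def, Ideal.mem_comap, hcomm]
  have hker : (⊥ : Ideal V).comap i = ⊥ := by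
    rw [← RingHom.ker_eq_comap_bot]
    exact (RingHom.injective_iff_ker_eq_bot i).mp hi
  have hV : maximalIdeal V ≠ ⊥ := by
    intro h
    apply h𝔮
    rw [hunder, h𝔮₁V, h, hker]
  have h0' : Algebra.trdeg (V ⧸ maximalIdeal V) (C₁ ⧸ 𝔮₁) = 0 := by
    have h1 := CoreGen.trdeg_quotient_le_of_model i j hcomm hgen ((𝔮₁.comap j).under A)
      (maximalIdeal V) 𝔮₁ (by rw [hunder, h𝔮₁V])
    rw [h0] at h1
    exact le_antisymm h1 zero_le
  obtain ⟨𝔭₁, h𝔭₁prime, h𝔭₁le, hu𝔭₁, h𝔭₁bot, halg₁⟩ :=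
    QSVal.exists_quasiSection_of_valuationRing hVinj hV 𝔮₁ h0' (j u)
      (fun h => hu (hj (h.trans (map_zero j).symm)))
  haveI := h𝔭₁prime
  refine ⟨𝔭₁.comap j, Ideal.comap_isPrime _ _, Ideal.comap_mono h𝔭₁le, hu𝔭₁, ?_, ?_⟩
  · rw [hunder, h𝔭₁bot, hker]
  · intro x
    letI algAV : Algebra A V := i.toAlgebra
    letI algAQ : Algebra A (C₁ ⧸ 𝔭₁) := ((algebraMap V (C₁ ⧸ 𝔭₁)).comp i).toAlgebra
    haveI : IsScalarTower A V (C₁ ⧸ 𝔭₁) := IsScalarTower.of_algebraMap_eq (fun a => rfl)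
    haveI : Algebra.IsAlgebraic A V := by
      refine ⟨fun v => ?_⟩
      obtain ⟨a, b, hb, hab⟩ := hfrac v
      refine ⟨Polynomial.C b * Polynomial.X - Polynomial.C a, ?_, ?_⟩
      · intro h
        have h1 : (Polynomial.C b * Polynomial.X - Polynomial.C a : Polynomial A).coeff 1 = b := by
          rw [Polynomial.coeff_sub, Polynomial.coeff_C_mul, Polynomial.coeff_X_one, mul_one,
            Polynomial.coeff_C_ne_zero one_ne_zero, sub_zero]
        rw [h, Polynomial.coeff_zero] at h1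
        exact hb h1.symm
      · simp only [map_sub, map_mul, Polynomial.aeval_C, Polynomial.aeval_X]
        show i b * v - i a = 0
        rw [hab, sub_self]
    have h1 : IsAlgebraic A (Ideal.Quotient.mk 𝔭₁ (j x)) := (halg₁ (j x)).restrictScalars A
    let j₀ : C ⧸ 𝔭₁.comap j →+* C₁ ⧸ 𝔭₁ := Ideal.quotientMap 𝔭₁ j le_rfl
    let j' : C ⧸ 𝔭₁.comap j →ₐ[A] C₁ ⧸ 𝔭₁ :=
      { j₀ with
        commutes' := by
          intro a
          show j₀ (Ideal.Quotient.mk _ (algebraMap A C a)) =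
            Ideal.Quotient.mk _ (algebraMap V C₁ (i a))
          rw [Ideal.quotientMap_mk, hcomm] }
    have hj' : Function.Injective j' := Ideal.quotientMap_injective' (H := le_rfl) le_rfl
    have h2 : j' (Ideal.Quotient.mk _ x) = Ideal.Quotient.mk 𝔭₁ (j x) :=
      Ideal.quotientMap_mk (H := le_rfl)
    rw [← h2] at h1
    exact (isAlgebraic_algHom_iff j' hj').mp h1

end Groth.Agent.Lib.Helper8.QSDomain
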