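import Mathlib
import Groth.Agent.Lib.Helper8.QSDomain
import Groth.Agent.Lib.Helper12.ValDim4
import Groth.Agent.Lib.Helper12.DimIneq

/-!
# Helper8 library: quasi-sections between a prime and a specialization closed in its fibre

`exists_quasiSection`: `C` of finite type over `A`, primes `P ≤ Q` of `C` lying over different
primes of `A`, `Q` with residue field algebraic over that of `Q ∩ A`, `u ∉ P`.  Then there is a
prime `P₁` between `P` and `Q` in the fibre of `P`, with residue field algebraic over that of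
`P ∩ A`, not containing `u`.
-/

set_option autoImplicit false
universe u

namespace Groth.Agent.Lib.Helper8.QSRing

open Groth.Agent.Lib.Helper12

theorem exists_quasiSection {A C : Type u} [CommRing A] [CommRing C] [Algebra A C]
    [Algebra.FiniteType A C] (P Q : Ideal C) [P.IsPrime] [Q.IsPrime] (hPQ : P ≤ Q)
    (hne : P.under A ≠ Q.under A)
    (h0 : Algebra.trdeg (A ⧸ Q.under A) (C ⧸ Q) = 0) (u : C) (hu : u ∉ P) :
    ∃ P₁ : Ideal C, P₁.IsPrime ∧ P ≤ P₁ ∧ P₁ ≤ Q ∧ u ∉ P₁ ∧ P₁.under A = P.under A ∧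
      Algebra.trdeg (A ⧸ P₁.under A) (C ⧸ P₁) = 0 := by
  set p := P.under A with hp
  have hinj : Function.Injective (algebraMap (A ⧸ p) (C ⧸ P)) :=
    Ideal.algebraMap_quotient_injective
  haveI hQ' : (Q.map (Ideal.Quotient.mk P)).IsPrime := DimIneq.isPrime_map_mk_of_le P Q hPQ
  have hQ'comap := DimIneq.comap_map_mk_of_le P Q hPQ
  haveI : Algebra.FiniteType (A ⧸ p) (C ⧸ P) := by
    haveI : Algebra.FiniteType A (C ⧸ P) :=
      Algebra.FiniteType.of_surjective (Ideal.Quotient.mkₐ A P) Ideal.Quotient.mk_surjective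
    exact Algebra.FiniteType.of_restrictScalars_finiteType A (A ⧸ p) (C ⧸ P)
  have hQ'ne : (Q.map (Ideal.Quotient.mk P)).under (A ⧸ p) ≠ ⊥ := by
    intro hbot
    apply hne
    apply le_antisymm
    · exact Ideal.comap_mono hPQ
    · intro a ha
      have h1 : Ideal.Quotient.mk p a ∈ (Q.map (Ideal.Quotient.mk P)).under (A ⧸ p) := by
        show algebraMap (A ⧸ p) (C ⧸ P) (Ideal.Quotient.mk p a) ∈ Q.map (Ideal.Quotient.mk P)
        exact Ideal.mem_map_of_mem _ ha
      rw [hbot, Ideal.mem_bot] at h1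
      exact Ideal.Quotient.eq_zero_iff_mem.mp h1
  have h0' := (ValDim.trdeg_quotient_quotient P Q hPQ).trans h0
  obtain ⟨𝔭, h𝔭prime, h𝔭le, hu𝔭, h𝔭bot, halg⟩ :=
    QSDomain.exists_quasiSection_of_domain hinj (Q.map (Ideal.Quotient.mk P)) hQ'ne h0'
      (Ideal.Quotient.mk P u) (fun h => hu (Ideal.Quotient.eq_zero_iff_mem.mp h))
  haveI := h𝔭prime
  set P₁ := 𝔭.comap (Ideal.Quotient.mk P) with hP₁
  haveI hP₁prime : P₁.IsPrime := Ideal.comap_isPrime _ _
  have hP₁under : P₁.under A = p := by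
    rw [hP₁, ValDim.under_comap_mk P 𝔭, h𝔭bot, ← RingHom.ker_eq_comap_bot, Ideal.mk_ker]
  refine ⟨P₁, hP₁prime, ?_, ?_, hu𝔭, hP₁under, ?_⟩
  · intro x hx
    rw [hP₁, Ideal.mem_comap, Ideal.Quotient.eq_zero_iff_mem.mpr hx]; exact zero_mem _
  · rw [← hQ'comap]; exact Ideal.comap_mono h𝔭le
  · have h1 := DimIneq.trdeg_quotient_eq (A := A) (B := C) (k := A ⧸ p) (L := (C ⧸ P) ⧸ 𝔭)
      (Ideal.Quotient.mk p) ((Ideal.Quotient.mk 𝔭).comp (Ideal.Quotient.mk P))
      Ideal.Quotient.mk_surjective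
      (Ideal.Quotient.mk_surjective.comp Ideal.Quotient.mk_surjective)
      (fun a => rfl) (P₁.under A) P₁ (by rw [Ideal.mk_ker, hP₁under]) (by
        rw [← RingHom.comap_ker, Ideal.mk_ker])
    rw [h1]
    haveI : Algebra.IsAlgebraic (A ⧸ p) ((C ⧸ P) ⧸ 𝔭) := ⟨fun y => by
      obtain ⟨x, rfl⟩ := Ideal.Quotient.mk_surjective y
      exact halg x⟩
    exact trdeg_eq_zero

end Groth.Agent.Lib.Helper8.QSRing
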