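import Mathlib
import Groth.Agent.Lib.Helper8.QSRing
import Groth.Agent.Lib.Helper8.NormFibreSch
import Groth.Agent.Lib.Helper12.ValDimSch
import Groth.Agent.Lib.Helper12.SchemeDimFT4
import Groth.Agent.Lib.Helper12.EquidimPt
import Groth.Agent.Lib.Helper12.FibreMax

/-!
# Helper8 library: quasi-section points between a point and a specialization closed in its fibre
-/

set_option autoImplicit false
universe u
open AlgebraicGeometry CategoryTheory TopologicalSpace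

namespace Groth.Agent.Lib.Helper8.QSSch

open Groth.Agent.Lib.Helper12 Groth.Agent.Lib.Helper12.SchemeDimIneq
  Groth.Agent.Lib.Helper12.SchemeDimFT

theorem exists_quasiSection_point {X S : Scheme.{u}} (f : X ⟶ S) [LocallyOfFiniteType f]
    (x x' : X) (hsp : x ⤳ x') (hne : f x ≠ f x') (h0 : trn f x' = 0) (O : X.Opens)
    (hxO : x ∈ O) :
    ∃ x₁ : X, x₁ ∈ O ∧ f x₁ = f x ∧ trn f x₁ = 0 ∧ x ⤳ x₁ ∧ x₁ ⤳ x' := by
  obtain ⟨_, ⟨V, hV, rfl⟩, hx'V, -⟩ := S.isBasis_affineOpens.exists_subset_of_mem_open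
    (Set.mem_univ (f x')) isOpen_univ
  obtain ⟨_, ⟨U, hU, rfl⟩, hx'U, hUV⟩ := X.isBasis_affineOpens.exists_subset_of_mem_open
    hx'V (f ⁻¹ᵁ V).2
  have hUV' : U ≤ f ⁻¹ᵁ V := hUV
  have hxU : x ∈ U := hsp.mem_open U.2 hx'U
  letI := (f.appLE V U hUV').hom.toAlgebra
  haveI : Algebra.FiniteType Γ(S, V) Γ(X, U) := Scheme.Hom.finiteType_appLE f hV hU hUV'
  have hPQ : (hU.primeIdealOf ⟨x, hxU⟩).asIdeal ≤ (hU.primeIdealOf ⟨x', hx'U⟩).asIdeal :=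
    (primeIdealOf_le_iff hU ⟨x, hxU⟩ ⟨x', hx'U⟩).mpr hsp
  have hunder : ∀ (y : X) (hy : y ∈ U), (hU.primeIdealOf ⟨y, hy⟩).asIdeal.under Γ(S, V) =
      (hV.primeIdealOf ⟨f y, hUV' hy⟩).asIdeal :=
    fun y hy => (primeIdealOf_comap f hU hV hUV' y hy).symm
  have hfeq : ∀ (y z : X) (hy : y ∈ U) (hz : z ∈ U),
      (hU.primeIdealOf ⟨y, hy⟩).asIdeal.under Γ(S, V) =
        (hU.primeIdealOf ⟨z, hz⟩).asIdeal.under Γ(S, V) → f y = f z := by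
    intro y z hy hz h
    rw [hunder y hy, hunder z hz] at h
    have := NormFibre.primeIdealOf_injective hV (PrimeSpectrum.ext h)
    exact congrArg Subtype.val this
  have hne' : (hU.primeIdealOf ⟨x, hxU⟩).asIdeal.under Γ(S, V) ≠
      (hU.primeIdealOf ⟨x', hx'U⟩).asIdeal.under Γ(S, V) :=
    fun h => hne (hfeq x x' hxU hx'U h)
  have htrn : ∀ (y : X) (hy : y ∈ U), trn f y = Cardinal.toENat
      (Algebra.trdeg (Γ(S, V) ⧸ (hU.primeIdealOf ⟨y, hy⟩).asIdeal.under Γ(S, V))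
        (Γ(X, U) ⧸ (hU.primeIdealOf ⟨y, hy⟩).asIdeal)) := by
    intro y hy
    unfold trn
    have h1 := trdeg_chart f hU hV hUV' y hy
    simp only at h1
    rw [← h1]
    haveI l1 : (hU.primeIdealOf ⟨y, hy⟩).asIdeal.LiesOver
        (hV.primeIdealOf ⟨f y, hUV' hy⟩).asIdeal := ⟨primeIdealOf_comap f hU hV hUV' y hy⟩
    rw [ValDim.trdeg_quotient_liesOver_eq (hU.primeIdealOf ⟨y, hy⟩).asIdeal
      (hV.primeIdealOf ⟨f y, hUV' hy⟩).asIdeal]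
  have hQ0 : Algebra.trdeg (Γ(S, V) ⧸ (hU.primeIdealOf ⟨x', hx'U⟩).asIdeal.under Γ(S, V))
      (Γ(X, U) ⧸ (hU.primeIdealOf ⟨x', hx'U⟩).asIdeal) = 0 := by
    rw [htrn x' hx'U] at h0
    exact Cardinal.toENat_eq_zero.mp h0
  obtain ⟨u, huO, hxu⟩ := hU.exists_basicOpen_le (V := O) ⟨x, hxO⟩ hxU
  have huP : u ∉ (hU.primeIdealOf ⟨x, hxU⟩).asIdeal :=
    (mem_basicOpen_iff_notMem_primeIdealOf hU ⟨x, hxU⟩ u).mp hxu
  obtain ⟨P₁, hP₁prime, hPP₁, hP₁Q, huP₁, hP₁under, hP₁0⟩ :=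
    QSRing.exists_quasiSection _ _ hPQ hne' hQ0 u huP
  obtain ⟨⟨x₁, hx₁U⟩, hx₁⟩ := SchemeDimFT.exists_primeIdealOf_eq hU ⟨P₁, hP₁prime⟩
  have hx₁P : (hU.primeIdealOf ⟨x₁, hx₁U⟩).asIdeal = P₁ := congrArg PrimeSpectrum.asIdeal hx₁
  subst hx₁P
  refine ⟨x₁, ?_, ?_, ?_, ?_, ?_⟩
  · apply huO
    exact (mem_basicOpen_iff_notMem_primeIdealOf hU ⟨x₁, hx₁U⟩ u).mpr huP₁
  · exact hfeq x₁ x hx₁U hxU hP₁under
  · rw [htrn x₁ hx₁U, hP₁0]
    simp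
  · exact (primeIdealOf_le_iff hU ⟨x, hxU⟩ ⟨x₁, hx₁U⟩).mp hPP₁
  · exact (primeIdealOf_le_iff hU ⟨x₁, hx₁U⟩ ⟨x', hx'U⟩).mp hP₁Q

/-- A point whose residue field is algebraic over that of its image is closed in its fibre. -/
theorem isClosed_in_fibre_of_trn_eq_zero {X S : Scheme.{u}} (f : X ⟶ S) [LocallyOfFiniteType f]
    (x x₁ : X) (hfx₁ : f x₁ = f x) (htrn : trn f x₁ = 0) :
    IsClosed (Subtype.val ⁻¹' {x₁} : Set ↑(f ⁻¹' {f x})) := by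
  apply isClosed_of_closure_subset
  intro w hw
  have hK : (Subtype.val ⁻¹' {x₁} : Set ↑(f ⁻¹' {f x})) = {⟨x₁, hfx₁⟩} := by
    ext w; simp [Subtype.ext_iff]
  rw [hK] at hw
  have h1 : (⟨x₁, hfx₁⟩ : ↑(f ⁻¹' {f x})) ⤳ w := specializes_iff_mem_closure.mpr hw
  have h2 : x₁ ⤳ w.1 := h1.map continuous_subtype_val
  show w.1 = x₁
  by_contra hne'
  have h3 := FibreMax.trn_lt_of_specializes f w.1 x₁ (hfx₁.trans w.2.symm) h2 (Ne.symm hne')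
  rw [htrn] at h3
  exact not_lt_bot h3

/-- A point closed in its fibre has residue field algebraic over that of its image. -/
theorem trn_eq_zero_of_isClosed_in_fibre {X S : Scheme.{u}} (f : X ⟶ S) [LocallyOfFiniteType f]
    (x' : X) (hcl : IsClosed (Subtype.val ⁻¹' {x'} : Set ↑(f ⁻¹' {f x'}))) :
    trn f x' = 0 := by
  apply EquidimPt.trn_eq_zero_of_closed_in_fibre f x'
  intro y hy hsp'
  have h1 : (⟨x', rfl⟩ : ↑(f ⁻¹' {f x'})) ⤳ ⟨y, hy⟩ :=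
    Topology.IsInducing.subtypeVal.specializes_iff.mp hsp'
  have h2 := h1.mem_closed hcl
    (show (⟨x', rfl⟩ : ↑(f ⁻¹' {f x'})) ∈ Subtype.val ⁻¹' {x'} from rfl)
  exact h2

end Groth.Agent.Lib.Helper8.QSSch
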