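import Mathlib

/-!
# Quadratic forms given by matrices: basic calculus, projections onto orthogonal complements of
hyperbolic families, and a rank lemma over a residue field.
-/

set_option autoImplicit false
set_option linter.style.haveILetI false
set_option linter.unusedSectionVars false

open Matrix

universe u

namespace Groth.Agent.Lib.Helper8.QuadSplit

section Forms

variable {B : Type*} [CommRing B] {ι : Type*} [Fintype ι] [DecidableEq ι]

/-- The (non-symmetric) bilinear form `v, w ↦ vᵀ c w` of a square matrix. -/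
noncomputable def Cf (c : Matrix ι ι B) : LinearMap.BilinForm B (ι → B) := Matrix.toBilin' c

/-- The quadratic function `v ↦ vᵀ c v`. -/
noncomputable def Qf (c : Matrix ι ι B) (v : ι → B) : B := Cf c v v

/-- The polar form of `Qf c`. -/
noncomputable def Bf (c : Matrix ι ι B) : LinearMap.BilinForm B (ι → B) := Cf c + (Cf c).flip

theorem Cf_apply (c : Matrix ι ι B) (v w : ι → B) : Cf c v w = v ⬝ᵥ c *ᵥ w :=
  Matrix.toBilin'_apply' c v w

theorem Bf_apply (c : Matrix ι ι B) (v w : ι → B) : Bf c v w = Cf c v w + Cf c w v := by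
  simp [Bf]

theorem Bf_comm (c : Matrix ι ι B) (v w : ι → B) : Bf c v w = Bf c w v := by
  rw [Bf_apply, Bf_apply, add_comm]

theorem Bf_self (c : Matrix ι ι B) (v : ι → B) : Bf c v v = 2 * Qf c v := by
  rw [Bf_apply, Qf, two_mul]

theorem Qf_add (c : Matrix ι ι B) (v w : ι → B) :
    Qf c (v + w) = Qf c v + Qf c w + Bf c v w := by
  simp only [Qf, Bf_apply, map_add, LinearMap.add_apply]
  ring

theorem Qf_smul (c : Matrix ι ι B) (x : B) (v : ι → B) : Qf c (x • v) = x * x * Qf c v := by
  simp only [Qf, map_smul, LinearMap.smul_apply, smul_eq_mul]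
  ring

theorem Qf_neg (c : Matrix ι ι B) (v : ι → B) : Qf c (-v) = Qf c v := by
  simp only [Qf, map_neg, LinearMap.neg_apply, neg_neg]

theorem Bf_eq (c : Matrix ι ι B) (v w : ι → B) : Bf c v w = v ⬝ᵥ (c + cᵀ) *ᵥ w := by
  rw [Bf_apply, Cf_apply, Cf_apply, Matrix.add_mulVec, dotProduct_add]
  congr 1
  rw [Matrix.dotProduct_mulVec, dotProduct_comm, Matrix.mulVec_transpose]

theorem Bf_single (c : Matrix ι ι B) (j : ι) (w : ι → B) :
    Bf c (Pi.single j 1) w = ((c + cᵀ) *ᵥ w) j := by
  rw [Bf_eq, single_one_dotProduct]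

/-- Compatibility with a ring homomorphism. -/
theorem Cf_map {B' : Type*} [CommRing B'] (φ : B →+* B') (c : Matrix ι ι B) (v w : ι → B) :
    Cf (c.map φ) (fun i => φ (v i)) (fun i => φ (w i)) = φ (Cf c v w) := by
  rw [Cf_apply, Cf_apply, RingHom.map_dotProduct]
  congr 1
  funext i
  exact (RingHom.map_mulVec φ c w i).symm

theorem Qf_map {B' : Type*} [CommRing B'] (φ : B →+* B') (c : Matrix ι ι B) (v : ι → B) :
    Qf (c.map φ) (fun i => φ (v i)) = φ (Qf c v) := Cf_map φ c v v

theorem Bf_map {B' : Type*} [CommRing B'] (φ : B →+* B') (c : Matrix ι ι B) (v w : ι → B) :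
    Bf (c.map φ) (fun i => φ (v i)) (fun i => φ (w i)) = φ (Bf c v w) := by
  rw [Bf_apply, Bf_apply, Cf_map, Cf_map, map_add]

theorem Qf_mem (c : Matrix ι ι B) (q : Ideal B) (y : ι → B) (hy : ∀ j, y j ∈ q) :
    Qf c y ∈ q := by
  rw [Qf, Cf_apply, dotProduct]
  exact Ideal.sum_mem _ fun j _ => Ideal.mul_mem_right _ _ (hy j)

theorem mem_of_Bf_single_mem (c : Matrix ι ι B) (hP : IsUnit (c + cᵀ).det) (q : Ideal B)
    (y : ι → B) (hy : ∀ j, Bf c (Pi.single j 1) y ∈ q) : ∀ j, y j ∈ q := by
  have h1 : y = (c + cᵀ)⁻¹ *ᵥ ((c + cᵀ) *ᵥ y) := by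
    rw [Matrix.mulVec_mulVec, Matrix.nonsing_inv_mul _ hP, Matrix.one_mulVec]
  intro j
  rw [h1]
  show ((c + cᵀ)⁻¹ *ᵥ ((c + cᵀ) *ᵥ y)) j ∈ q
  rw [Matrix.mulVec, dotProduct]
  refine Ideal.sum_mem _ fun l _ => Ideal.mul_mem_left _ _ ?_
  rw [← Bf_single]
  exact hy l

end Forms

section Hyp

variable {B : Type*} [CommRing B] {ι : Type*} [Fintype ι] [DecidableEq ι]

/-- A family of `k` mutually orthogonal hyperbolic pairs. -/
structure HypFam (c : Matrix ι ι B) {k : ℕ} (e f : Fin k → ι → B) : Prop where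
  qe : ∀ i, Qf c (e i) = 0
  qf : ∀ i, Qf c (f i) = 0
  ef : ∀ i j, Bf c (e i) (f j) = if i = j then 1 else 0
  ee : ∀ i j, Bf c (e i) (e j) = 0
  ff : ∀ i j, Bf c (f i) (f j) = 0

theorem HypFam.map {B' : Type*} [CommRing B'] (φ : B →+* B') {c : Matrix ι ι B} {k : ℕ}
    {e f : Fin k → ι → B} (h : HypFam c e f) :
    HypFam (c.map φ) (fun i j => φ (e i j)) (fun i j => φ (f i j)) where
  qe i := by rw [Qf_map, h.qe, map_zero]
  qf i := by rw [Qf_map, h.qf, map_zero]
  ef i j := by rw [Bf_map, h.ef, apply_ite φ, map_one, map_zero]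
  ee i j := by rw [Bf_map, h.ee, map_zero]
  ff i j := by rw [Bf_map, h.ff, map_zero]

/-- Orthogonality to all members of the family. -/
def InW (c : Matrix ι ι B) {k : ℕ} (e f : Fin k → ι → B) (w : ι → B) : Prop :=
  ∀ j, Bf c w (e j) = 0 ∧ Bf c w (f j) = 0

theorem InW.add {c : Matrix ι ι B} {k : ℕ} {e f : Fin k → ι → B} {w w' : ι → B}
    (h : InW c e f w) (h' : InW c e f w') : InW c e f (w + w') := fun j => by
  simp only [map_add, LinearMap.add_apply, (h j).1, (h j).2, (h' j).1, (h' j).2, add_zero,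
    and_self]

theorem InW.smul {c : Matrix ι ι B} {k : ℕ} {e f : Fin k → ι → B} {w : ι → B}
    (h : InW c e f w) (x : B) : InW c e f (x • w) := fun j => by
  simp only [map_smul, LinearMap.smul_apply, (h j).1, (h j).2, smul_zero, and_self]

theorem InW.map {B' : Type*} [CommRing B'] (φ : B →+* B') {c : Matrix ι ι B} {k : ℕ}
    {e f : Fin k → ι → B} {w : ι → B} (h : InW c e f w) :
    InW (c.map φ) (fun i j => φ (e i j)) (fun i j => φ (f i j)) (fun j => φ (w j)) := fun j => by
  constructor
  · rw [Bf_map, (h j).1, map_zero]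
  · rw [Bf_map, (h j).2, map_zero]

/-- The projection onto the orthogonal complement of a hyperbolic family. -/
noncomputable def proj (c : Matrix ι ι B) {k : ℕ} (e f : Fin k → ι → B) (v : ι → B) : ι → B :=
  v - ∑ j, (Bf c v (f j) • e j + Bf c v (e j) • f j)

theorem proj_inW {c : Matrix ι ι B} {k : ℕ} {e f : Fin k → ι → B} (h : HypFam c e f)
    (v : ι → B) : InW c e f (proj c e f v) := by
  intro i
  constructor
  · rw [proj, map_sub, LinearMap.sub_apply, map_sum, LinearMap.sum_apply]
    simp only [map_add, map_smul, LinearMap.add_apply, LinearMap.smul_apply, smul_eq_mul, h.ee,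
      mul_zero, zero_add, Bf_comm c (f _) (e i), h.ef, mul_ite, mul_one, Finset.sum_ite_eq,
      Finset.mem_univ, if_true, sub_self]
  · rw [proj, map_sub, LinearMap.sub_apply, map_sum, LinearMap.sum_apply]
    simp only [map_add, map_smul, LinearMap.add_apply, LinearMap.smul_apply, smul_eq_mul, h.ff,
      mul_zero, add_zero, h.ef, mul_ite, mul_one, Finset.sum_ite_eq', Finset.mem_univ, if_true,
      sub_self]

theorem Bf_proj_of_inW {c : Matrix ι ι B} {k : ℕ} {e f : Fin k → ι → B} {w : ι → B}
    (hw : InW c e f w) (v : ι → B) : Bf c w (proj c e f v) = Bf c w v := by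
  rw [proj, map_sub, map_sum]
  simp only [map_add, map_smul, smul_eq_mul, (hw _).1, (hw _).2, mul_zero, add_zero,
    Finset.sum_const_zero, sub_zero]

end Hyp

section Rank

/-- A rank count over the residue field: the standard basis vectors of `ι → B` cannot all be
congruent modulo a prime `q` (up to a factor `s ∉ q`) to combinations of fewer than `card ι`
fixed vectors. -/
theorem rank_contra {B : Type u} [CommRing B] (q : Ideal B) [q.IsPrime] {ι σ : Type*}
    [Fintype ι] [DecidableEq ι] [Fintype σ]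
    (hcard : Fintype.card σ < Fintype.card ι) (v : σ → ι → B) (s : B) (hs : s ∉ q)
    (h : ∀ i : ι, ∃ r : σ → B,
      ∀ j, (s • (Pi.single i (1 : B) : ι → B) - ∑ t, r t • v t) j ∈ q) : False := by
  classical
  let κ := q.ResidueField
  let φ : B →+* κ := algebraMap B κ
  have hφs : φ s ≠ 0 := fun h0 => hs (Ideal.algebraMap_residueField_eq_zero.mp h0)
  have hφq : ∀ x ∈ q, φ x = 0 := fun x hx => Ideal.algebraMap_residueField_eq_zero.mpr hx
  let vb : σ → ι → κ := fun t j => φ (v t j)
  have hspan : Submodule.span κ (Set.range vb) = ⊤ := by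
    rw [eq_top_iff, ← (Pi.basisFun κ ι).span_eq, Submodule.span_le]
    rintro _ ⟨i, rfl⟩
    obtain ⟨r, hr⟩ := h i
    have h1 : (Pi.basisFun κ ι) i = (φ s)⁻¹ • ∑ t, φ (r t) • vb t := by
      funext j
      have h2 := hφq _ (hr j)
      simp only [Pi.sub_apply, Pi.smul_apply, Finset.sum_apply, smul_eq_mul, map_sub, map_mul,
        map_sum] at h2
      rw [sub_eq_zero] at h2
      simp only [Pi.basisFun_apply, Pi.smul_apply, Finset.sum_apply, smul_eq_mul]
      rw [show (∑ t, φ (r t) * vb t j) = ∑ t, φ (r t) * φ (v t j) from rfl, ← h2, ← mul_assoc,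
        inv_mul_cancel₀ hφs, one_mul]
      by_cases hij : j = i
      · subst hij
        simp
      · rw [Pi.single_eq_of_ne hij, Pi.single_eq_of_ne hij, map_zero]
    rw [SetLike.mem_coe, h1]
    exact Submodule.smul_mem _ _ (Submodule.sum_mem _ fun t _ =>
      Submodule.smul_mem _ _ (Submodule.subset_span ⟨t, rfl⟩))
  have h3 : Fintype.card ι ≤ Fintype.card σ := by
    calc Fintype.card ι = Module.finrank κ (ι → κ) :=
          (Module.finrank_fintype_fun_eq_card κ).symm
      _ = Module.finrank κ (⊤ : Submodule κ (ι → κ)) := (finrank_top κ (ι → κ)).symm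
      _ = (Set.range vb).finrank κ := by rw [← hspan]; rfl
      _ ≤ Fintype.card σ := finrank_range_le_card vb
  omega

end Rank

/-- Alternating matrices give the zero quadratic function. -/
theorem sum_alt_eq_zero {B : Type*} [CommRing B] {ι : Type*} [DecidableEq ι] (N : ι → ι → B)
    (hd : ∀ α, N α α = 0) (hs : ∀ α β, N α β + N β α = 0) (x : ι → B) (s : Finset ι) :
    ∑ α ∈ s, ∑ β ∈ s, N α β * x α * x β = 0 := by
  induction s using Finset.induction_on with
  | empty => simp
  | insert a s ha ih =>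
    rw [Finset.sum_insert ha]
    simp_rw [Finset.sum_insert ha]
    rw [Finset.sum_add_distrib, ih, hd a, add_zero, zero_mul, zero_mul, zero_add,
      ← Finset.sum_add_distrib]
    refine Finset.sum_eq_zero fun β _ => ?_
    have := hs a β
    linear_combination (x a * x β) * this

end Groth.Agent.Lib.Helper8.QuadSplit
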