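import Mathlib
import Groth.Agent.Lib.Helper8.QuadSplitA

/-!
# Adding one hyperbolic pair after a standard étale extension
-/

set_option autoImplicit false
set_option linter.style.haveILetI false
set_option linter.unusedSectionVars false

open Matrix Polynomial

universe u

namespace Groth.Agent.Lib.Helper8.QuadSplit

section Step

variable {B : Type u} [CommRing B] {ι : Type} [Fintype ι] [DecidableEq ι]

/-- the projection of the `i`-th standard basis vector -/
noncomputable def wv (c : Matrix ι ι B) {k : ℕ} (e f : Fin k → ι → B) (i : ι) : ι → B :=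
  proj c e f (Pi.single i 1)

theorem wv_inW {c : Matrix ι ι B} {k : ℕ} {e f : Fin k → ι → B} (h : HypFam c e f) (i : ι) :
    InW c e f (wv c e f i) := proj_inW h _

theorem Bf_wv {c : Matrix ι ι B} {k : ℕ} {e f : Fin k → ι → B} {w : ι → B}
    (hw : InW c e f w) (i : ι) : Bf c w (wv c e f i) = Bf c w (Pi.single i 1) :=
  Bf_proj_of_inW hw _

theorem Bf_single_wv {c : Matrix ι ι B} {k : ℕ} {e f : Fin k → ι → B} (h : HypFam c e f)
    (i j : ι) : Bf c (Pi.single j 1) (wv c e f i) = Bf c (wv c e f i) (wv c e f j) := by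
  rw [Bf_comm, Bf_wv (wv_inW h i) j]

theorem exists_Qf_not_mem (c : Matrix ι ι B)
    (hP : IsUnit (c + cᵀ).det) (q : Ideal B) [hq : q.IsPrime] {k : ℕ}
    (hk : 2 * k < Fintype.card ι)
    (e f : Fin k → ι → B) (h : HypFam c e f) :
    ∃ w, InW c e f w ∧ Qf c w ∉ q := by
  by_contra hcon
  push_neg at hcon
  have hW : ∀ i, InW c e f (wv c e f i) := fun i => wv_inW h i
  have hG : ∀ i j, Bf c (wv c e f i) (wv c e f j) ∈ q := by
    intro i j
    have h1 := Qf_add c (wv c e f i) (wv c e f j)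
    have h2 : Bf c (wv c e f i) (wv c e f j) =
        Qf c (wv c e f i + wv c e f j) - Qf c (wv c e f i) - Qf c (wv c e f j) := by
      rw [h1]; ring
    rw [h2]
    exact Ideal.sub_mem _ (Ideal.sub_mem _ (hcon _ ((hW i).add (hW j))) (hcon _ (hW i)))
      (hcon _ (hW j))
  have hmem : ∀ i j, wv c e f i j ∈ q := by
    intro i
    apply mem_of_Bf_single_mem c hP q
    intro j
    rw [Bf_single_wv h]
    exact hG i j
  refine rank_contra q (σ := Fin k ⊕ Fin k) (ι := ι) ?_ (Sum.elim e f) 1 (fun h1 => ?_) ?_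
  · simp only [Fintype.card_sum, Fintype.card_fin]; omega
  · exact (Ideal.ne_top_iff_one q).mp hq.ne_top h1
  · intro i
    refine ⟨Sum.elim (fun j => Bf c (Pi.single i 1) (f j)) (fun j => Bf c (Pi.single i 1) (e j)),
      fun j => ?_⟩
    have h3 : (1 : B) • (Pi.single i (1 : B) : ι → B) - ∑ t : Fin k ⊕ Fin k,
        Sum.elim (fun j => Bf c (Pi.single i 1) (f j)) (fun j => Bf c (Pi.single i 1) (e j)) t •
          Sum.elim e f t = wv c e f i := by
      rw [one_smul, Fintype.sum_sum_type]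
      simp only [Sum.elim_inl, Sum.elim_inr]
      rw [wv, proj, Finset.sum_add_distrib]
    rw [h3]
    exact hmem i j

theorem exists_disc_not_mem (c : Matrix ι ι B)
    (hP : IsUnit (c + cᵀ).det) (q : Ideal B) [hq : q.IsPrime] {k : ℕ}
    (hk : 2 * k + 1 < Fintype.card ι)
    (e f : Fin k → ι → B) (h : HypFam c e f) (w₁ : ι → B) (hw₁ : InW c e f w₁)
    (ha : Qf c w₁ ∉ q) :
    ∃ w₂, InW c e f w₂ ∧ (Bf c w₁ w₂) ^ 2 - 4 * Qf c w₁ * Qf c w₂ ∉ q := by
  by_contra hcon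
  push_neg at hcon
  have hW : ∀ i, InW c e f (wv c e f i) := fun i => wv_inW h i
  have hu : ∀ i, Bf c w₁ (wv c e f i) = Bf c w₁ (Pi.single i 1) := fun i => Bf_wv hw₁ i
  by_cases h2 : (2 : B) ∈ q
  · have h4 : ∀ x : B, 4 * Qf c w₁ * x ∈ q := fun x => by
      have h5 : (4 : B) * Qf c w₁ * x = 2 * (2 * Qf c w₁ * x) := by ring
      rw [h5]
      exact Ideal.mul_mem_right _ _ h2
    have hB : ∀ w, InW c e f w → Bf c w₁ w ∈ q := by
      intro w hw
      have h5 := Ideal.add_mem _ (hcon w hw) (h4 (Qf c w))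
      rw [sub_add_cancel] at h5
      exact hq.mem_of_pow_mem 2 h5
    have hmem : ∀ j, w₁ j ∈ q := by
      apply mem_of_Bf_single_mem c hP q
      intro j
      rw [Bf_comm, ← hu j]
      exact hB _ (hW j)
    exact ha (Qf_mem c q w₁ hmem)
  · have hs : 4 * Qf c w₁ ∉ q := by
      intro h4
      have h5 : (4 : B) * Qf c w₁ = 2 * (2 * Qf c w₁) := by ring
      rw [h5] at h4
      rcases hq.mem_or_mem h4 with h6 | h6
      · exact h2 h6
      · rcases hq.mem_or_mem h6 with h7 | h7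
        · exact h2 h7
        · exact ha h7
    have hpol : ∀ w w', InW c e f w → InW c e f w' →
        2 * Bf c w₁ w * Bf c w₁ w' - 4 * Qf c w₁ * Bf c w w' ∈ q := by
      intro w w' hw hw'
      have h5 := hcon (w + w') (hw.add hw')
      have h6 := hcon w hw
      have h7 := hcon w' hw'
      have h8 : 2 * Bf c w₁ w * Bf c w₁ w' - 4 * Qf c w₁ * Bf c w w' =
          ((Bf c w₁ (w + w')) ^ 2 - 4 * Qf c w₁ * Qf c (w + w')) -
            ((Bf c w₁ w) ^ 2 - 4 * Qf c w₁ * Qf c w) -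
            ((Bf c w₁ w') ^ 2 - 4 * Qf c w₁ * Qf c w') := by
        rw [Qf_add, map_add]
        ring
      rw [h8]
      exact Ideal.sub_mem _ (Ideal.sub_mem _ h5 h6) h7
    have hzmem : ∀ i j, ((4 * Qf c w₁) • wv c e f i -
        (2 * Bf c w₁ (Pi.single i 1)) • w₁) j ∈ q := by
      intro i
      apply mem_of_Bf_single_mem c hP q
      intro j
      have h9 : Bf c (Pi.single j 1) ((4 * Qf c w₁) • wv c e f i -
          (2 * Bf c w₁ (Pi.single i 1)) • w₁) =
          -(2 * Bf c w₁ (wv c e f j) * Bf c w₁ (wv c e f i) -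
            4 * Qf c w₁ * Bf c (wv c e f j) (wv c e f i)) := by
        rw [map_sub, map_smul, map_smul, smul_eq_mul, smul_eq_mul, Bf_single_wv h,
          Bf_comm c (Pi.single j 1) w₁, hu j, hu i, Bf_comm c (wv c e f j) (wv c e f i)]
        ring
      rw [h9]
      exact neg_mem_iff.mpr (hpol _ _ (hW j) (hW i))
    refine rank_contra q (σ := (Fin k ⊕ Fin k) ⊕ Unit) (ι := ι) ?_
      (Sum.elim (Sum.elim e f) (fun _ => w₁)) (4 * Qf c w₁) hs ?_
    · simp only [Fintype.card_sum, Fintype.card_fin, Fintype.card_unit]; omega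
    · intro i
      refine ⟨Sum.elim (Sum.elim (fun j => 4 * Qf c w₁ * Bf c (Pi.single i 1) (f j))
        (fun j => 4 * Qf c w₁ * Bf c (Pi.single i 1) (e j)))
        (fun _ => 2 * Bf c w₁ (Pi.single i 1)), fun j => ?_⟩
      have hsum : ∑ t : (Fin k ⊕ Fin k) ⊕ Unit,
          Sum.elim (Sum.elim (fun j => 4 * Qf c w₁ * Bf c (Pi.single i 1) (f j))
            (fun j => 4 * Qf c w₁ * Bf c (Pi.single i 1) (e j)))
            (fun _ => 2 * Bf c w₁ (Pi.single i 1)) t •
            Sum.elim (Sum.elim e f) (fun _ => w₁) t =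
          (4 * Qf c w₁) • ∑ j, (Bf c (Pi.single i 1) (f j) • e j +
            Bf c (Pi.single i 1) (e j) • f j) + (2 * Bf c w₁ (Pi.single i 1)) • w₁ := by
        rw [Fintype.sum_sum_type, Fintype.sum_sum_type]
        simp only [Sum.elim_inl, Sum.elim_inr, Finset.univ_unique, Finset.sum_singleton]
        rw [Finset.smul_sum, ← Finset.sum_add_distrib]
        congr 1
        refine Finset.sum_congr rfl fun j _ => ?_
        rw [smul_add, smul_smul, smul_smul]
      have h3 : (4 * Qf c w₁) • (Pi.single i (1 : B) : ι → B) - ∑ t : (Fin k ⊕ Fin k) ⊕ Unit,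
          Sum.elim (Sum.elim (fun j => 4 * Qf c w₁ * Bf c (Pi.single i 1) (f j))
            (fun j => 4 * Qf c w₁ * Bf c (Pi.single i 1) (e j)))
            (fun _ => 2 * Bf c w₁ (Pi.single i 1)) t •
            Sum.elim (Sum.elim e f) (fun _ => w₁) t =
          (4 * Qf c w₁) • wv c e f i - (2 * Bf c w₁ (Pi.single i 1)) • w₁ := by
        rw [hsum, wv, proj, smul_sub]
        abel
      rw [h3]
      exact hzmem i j

/-- Transport of vectors along a ring homomorphism. -/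
def mv {B' : Type*} [CommRing B'] (φ : B →+* B') (v : ι → B) : ι → B' := fun i => φ (v i)

theorem Qf_mv {B' : Type*} [CommRing B'] (φ : B →+* B') (c : Matrix ι ι B) (v : ι → B) :
    Qf (c.map φ) (mv φ v) = φ (Qf c v) := Qf_map φ c v

theorem Bf_mv {B' : Type*} [CommRing B'] (φ : B →+* B') (c : Matrix ι ι B) (v w : ι → B) :
    Bf (c.map φ) (mv φ v) (mv φ w) = φ (Bf c v w) := Bf_map φ c v w

theorem HypFam.mv {B' : Type*} [CommRing B'] (φ : B →+* B') {c : Matrix ι ι B} {k : ℕ}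
    {e f : Fin k → ι → B} (h : HypFam c e f) :
    HypFam (c.map φ) (fun i => QuadSplit.mv φ (e i)) (fun i => QuadSplit.mv φ (f i)) :=
  h.map φ

theorem InW.mv {B' : Type*} [CommRing B'] (φ : B →+* B') {c : Matrix ι ι B} {k : ℕ}
    {e f : Fin k → ι → B} {w : ι → B} (h : InW c e f w) :
    InW (c.map φ) (fun i => QuadSplit.mv φ (e i)) (fun i => QuadSplit.mv φ (f i))
      (QuadSplit.mv φ w) :=
  h.map φ

theorem step (c : Matrix ι ι B)
    (hP : IsUnit (c + cᵀ).det) (q : Ideal B) [hq : q.IsPrime] {k : ℕ}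
    (hk : 2 * k + 1 < Fintype.card ι)
    (e f : Fin k → ι → B) (h : HypFam c e f) :
    ∃ (B' : Type u) (_ : CommRing B') (_ : Algebra B B'), Algebra.Etale B B' ∧
      ∃ (q' : Ideal B') (_ : q'.IsPrime), q'.comap (algebraMap B B') = q ∧
      ∃ e' f' : Fin (k + 1) → ι → B', HypFam (c.map (algebraMap B B')) e' f' := by
  classical
  haveI : Nontrivial B := by
    refine ⟨⟨0, 1, fun h01 => hq.ne_top ?_⟩⟩
    rw [Ideal.eq_top_iff_one, ← h01]
    exact q.zero_mem
  obtain ⟨w₁, hw₁, ha⟩ := exists_Qf_not_mem c hP q (by omega) e f h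
  obtain ⟨w₂, hw₂, hD⟩ := exists_disc_not_mem c hP q hk e f h w₁ hw₁ ha
  have haD : Qf c w₁ * ((Bf c w₁ w₂) ^ 2 - 4 * Qf c w₁ * Qf c w₂) ∉ q :=
    fun h1 => (hq.mem_or_mem h1).elim ha hD
  -- the standard étale pair
  have hlin : (C (Bf c w₁ w₂) * X + C (Qf c w₁ * Qf c w₂) : B[X]).degree < ((2 : ℕ) : WithBot ℕ) :=
    lt_of_le_of_lt (degree_linear_le) (by norm_num)
  have hmonic : (X ^ 2 + (C (Bf c w₁ w₂) * X + C (Qf c w₁ * Qf c w₂)) : B[X]).Monic :=
    monic_X_pow_add hlin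
  have hd : derivative (X ^ 2 + (C (Bf c w₁ w₂) * X + C (Qf c w₁ * Qf c w₂)) : B[X]) =
      2 * X + C (Bf c w₁ w₂) := by
    simp [derivative_X_pow]
    ring
  have hcond : derivative (X ^ 2 + (C (Bf c w₁ w₂) * X + C (Qf c w₁ * Qf c w₂)) : B[X]) *
        (C (Qf c w₁) * derivative (X ^ 2 + (C (Bf c w₁ w₂) * X + C (Qf c w₁ * Qf c w₂)) : B[X])) +
      (X ^ 2 + (C (Bf c w₁ w₂) * X + C (Qf c w₁ * Qf c w₂)) : B[X]) * C (-(4 * Qf c w₁)) =
      C (Qf c w₁ * ((Bf c w₁ w₂) ^ 2 - 4 * Qf c w₁ * Qf c w₂)) ^ 1 := by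
    rw [hd, pow_one]
    simp only [map_mul, map_sub, map_pow, map_neg, map_ofNat]
    ring
  let Pp : StandardEtalePair B :=
    ⟨X ^ 2 + (C (Bf c w₁ w₂) * X + C (Qf c w₁ * Qf c w₂)), hmonic,
      C (Qf c w₁ * ((Bf c w₁ w₂) ^ 2 - 4 * Qf c w₁ * Qf c w₂)),
      ⟨C (Qf c w₁) * derivative (X ^ 2 + (C (Bf c w₁ w₂) * X + C (Qf c w₁ * Qf c w₂)) : B[X]),
        C (-(4 * Qf c w₁)), 1, hcond⟩⟩
  refine ⟨Pp.Ring, inferInstance, inferInstance, inferInstance, ?_⟩
  have hU1 : Pp.X ^ 2 + algebraMap B Pp.Ring (Bf c w₁ w₂) * Pp.X +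
      algebraMap B Pp.Ring (Qf c w₁) * algebraMap B Pp.Ring (Qf c w₂) = 0 := by
    have h1 := Pp.hasMap_X.1
    have h2 : aeval Pp.X (X ^ 2 + (C (Bf c w₁ w₂) * X + C (Qf c w₁ * Qf c w₂)) : B[X]) = 0 := h1
    simpa [add_assoc] using h2
  have hU2 : IsUnit (algebraMap B Pp.Ring
      (Qf c w₁ * ((Bf c w₁ w₂) ^ 2 - 4 * Qf c w₁ * Qf c w₂))) := by
    have h1 := Pp.hasMap_X.2
    have h2 : IsUnit (aeval Pp.X
      (C (Qf c w₁ * ((Bf c w₁ w₂) ^ 2 - 4 * Qf c w₁ * Qf c w₂)) : B[X])) := h1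
    rwa [aeval_C] at h2
  -- a prime above `q`
  have hq' : ∃ (q' : Ideal Pp.Ring) (_ : q'.IsPrime), q'.comap (algebraMap B Pp.Ring) = q := by
    let κ := q.ResidueField
    let L := AlgebraicClosure κ
    let ψ : B →+* L := (algebraMap κ L).comp (algebraMap B κ)
    letI : Algebra B L := ψ.toAlgebra
    have hψ : ∀ x, ψ x = 0 ↔ x ∈ q := fun x => by
      show algebraMap κ L (algebraMap B κ x) = 0 ↔ _
      rw [map_eq_zero, Ideal.algebraMap_residueField_eq_zero]
    have hdeg : ((X ^ 2 + (C (Bf c w₁ w₂) * X + C (Qf c w₁ * Qf c w₂)) : B[X]).map ψ).degree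
        ≠ 0 := by
      rw [hmonic.degree_map, degree_add_eq_left_of_degree_lt (by rw [degree_X_pow]; exact hlin),
        degree_X_pow]
      norm_num
    obtain ⟨x, hx⟩ := IsAlgClosed.exists_root _ hdeg
    have hx1 : aeval x Pp.f = 0 := by
      show aeval x (X ^ 2 + (C (Bf c w₁ w₂) * X + C (Qf c w₁ * Qf c w₂)) : B[X]) = 0
      rw [aeval_def, ← eval_map]
      exact hx
    have hx2 : IsUnit (aeval x Pp.g) := by
      show IsUnit (aeval x
        (C (Qf c w₁ * ((Bf c w₁ w₂) ^ 2 - 4 * Qf c w₁ * Qf c w₂)) : B[X]))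
      rw [aeval_C]
      exact IsUnit.mk0 _ (fun h0 => haD ((hψ _).mp h0))
    let θ : Pp.Ring →ₐ[B] L := Pp.lift x ⟨hx1, hx2⟩
    refine ⟨RingHom.ker θ.toRingHom, RingHom.ker_isPrime _, ?_⟩
    ext y
    rw [Ideal.mem_comap, RingHom.mem_ker]
    show θ (algebraMap B Pp.Ring y) = 0 ↔ _
    rw [θ.commutes]
    exact hψ y
  obtain ⟨q', hq'p, hq'c⟩ := hq'
  refine ⟨q', hq'p, hq'c, ?_⟩
  -- the new hyperbolic pair
  have hfam' := h.mv (algebraMap B Pp.Ring)
  have hw₁' := hw₁.mv (algebraMap B Pp.Ring)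
  have hw₂' := hw₂.mv (algebraMap B Pp.Ring)
  have hQ1 := Qf_mv (algebraMap B Pp.Ring) c w₁
  have hQ2 := Qf_mv (algebraMap B Pp.Ring) c w₂
  have hB12 := Bf_mv (algebraMap B Pp.Ring) c w₁ w₂
  have he0W := (hw₁'.smul Pp.X).add (hw₂'.smul (algebraMap B Pp.Ring (Qf c w₁)))
  have hQe0 : Qf (c.map (algebraMap B Pp.Ring))
      (Pp.X • mv (algebraMap B Pp.Ring) w₁ +
        algebraMap B Pp.Ring (Qf c w₁) • mv (algebraMap B Pp.Ring) w₂) = 0 := by
    rw [Qf_add, Qf_smul, Qf_smul, hQ1, hQ2]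
    simp only [map_smul, LinearMap.smul_apply, smul_eq_mul, hB12]
    linear_combination (algebraMap B Pp.Ring (Qf c w₁)) * hU1
  have hlam : Bf (c.map (algebraMap B Pp.Ring))
      (Pp.X • mv (algebraMap B Pp.Ring) w₁ +
        algebraMap B Pp.Ring (Qf c w₁) • mv (algebraMap B Pp.Ring) w₂)
      (mv (algebraMap B Pp.Ring) w₁) =
      algebraMap B Pp.Ring (Qf c w₁) * (2 * Pp.X + algebraMap B Pp.Ring (Bf c w₁ w₂)) := by
    rw [map_add, LinearMap.add_apply, map_smul, map_smul, LinearMap.smul_apply,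
      LinearMap.smul_apply, Bf_self, hQ1,
      Bf_comm _ (mv (algebraMap B Pp.Ring) w₂) (mv (algebraMap B Pp.Ring) w₁), hB12]
    simp only [smul_eq_mul]
    ring
  have hunit_a : IsUnit (algebraMap B Pp.Ring (Qf c w₁)) := by
    rw [map_mul] at hU2
    exact isUnit_of_mul_isUnit_left hU2
  have hlamU : IsUnit (Bf (c.map (algebraMap B Pp.Ring))
      (Pp.X • mv (algebraMap B Pp.Ring) w₁ +
        algebraMap B Pp.Ring (Qf c w₁) • mv (algebraMap B Pp.Ring) w₂)
      (mv (algebraMap B Pp.Ring) w₁)) := by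
    have h1 : IsUnit (Bf (c.map (algebraMap B Pp.Ring))
      (Pp.X • mv (algebraMap B Pp.Ring) w₁ +
        algebraMap B Pp.Ring (Qf c w₁) • mv (algebraMap B Pp.Ring) w₂)
      (mv (algebraMap B Pp.Ring) w₁) * Bf (c.map (algebraMap B Pp.Ring))
      (Pp.X • mv (algebraMap B Pp.Ring) w₁ +
        algebraMap B Pp.Ring (Qf c w₁) • mv (algebraMap B Pp.Ring) w₂)
      (mv (algebraMap B Pp.Ring) w₁)) := by
      have h2 : Bf (c.map (algebraMap B Pp.Ring))
          (Pp.X • mv (algebraMap B Pp.Ring) w₁ +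
            algebraMap B Pp.Ring (Qf c w₁) • mv (algebraMap B Pp.Ring) w₂)
          (mv (algebraMap B Pp.Ring) w₁) * Bf (c.map (algebraMap B Pp.Ring))
          (Pp.X • mv (algebraMap B Pp.Ring) w₁ +
            algebraMap B Pp.Ring (Qf c w₁) • mv (algebraMap B Pp.Ring) w₂)
          (mv (algebraMap B Pp.Ring) w₁) =
          algebraMap B Pp.Ring (Qf c w₁) * algebraMap B Pp.Ring
            (Qf c w₁ * ((Bf c w₁ w₂) ^ 2 - 4 * Qf c w₁ * Qf c w₂)) := by
        rw [hlam]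
        simp only [map_mul, map_sub, map_pow, map_ofNat]
        linear_combination (4 * (algebraMap B Pp.Ring (Qf c w₁)) ^ 2) * hU1
      rw [h2]
      exact hunit_a.mul hU2
    exact isUnit_of_mul_isUnit_left h1
  obtain ⟨μ, hμ⟩ := hlamU.exists_right_inv
  have hf0W := hw₁'.smul μ
  have hBe0f0 : Bf (c.map (algebraMap B Pp.Ring))
      (Pp.X • mv (algebraMap B Pp.Ring) w₁ +
        algebraMap B Pp.Ring (Qf c w₁) • mv (algebraMap B Pp.Ring) w₂)
      (μ • mv (algebraMap B Pp.Ring) w₁) = 1 := by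
    rw [map_smul, smul_eq_mul, mul_comm]
    exact hμ
  have hf1W := hf0W.add (he0W.smul
    (-(Qf (c.map (algebraMap B Pp.Ring)) (μ • mv (algebraMap B Pp.Ring) w₁))))
  have hQf1 : Qf (c.map (algebraMap B Pp.Ring))
      (μ • mv (algebraMap B Pp.Ring) w₁ +
        (-(Qf (c.map (algebraMap B Pp.Ring)) (μ • mv (algebraMap B Pp.Ring) w₁))) •
          (Pp.X • mv (algebraMap B Pp.Ring) w₁ +
            algebraMap B Pp.Ring (Qf c w₁) • mv (algebraMap B Pp.Ring) w₂)) = 0 := by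
    rw [Qf_add, Qf_smul _ (-(Qf (c.map (algebraMap B Pp.Ring)) (μ • mv (algebraMap B Pp.Ring) w₁))),
      hQe0, map_smul, smul_eq_mul, Bf_comm _ (μ • mv (algebraMap B Pp.Ring) w₁), hBe0f0]
    ring
  have hBe0f1 : Bf (c.map (algebraMap B Pp.Ring))
      (Pp.X • mv (algebraMap B Pp.Ring) w₁ +
        algebraMap B Pp.Ring (Qf c w₁) • mv (algebraMap B Pp.Ring) w₂)
      (μ • mv (algebraMap B Pp.Ring) w₁ +
        (-(Qf (c.map (algebraMap B Pp.Ring)) (μ • mv (algebraMap B Pp.Ring) w₁))) •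
          (Pp.X • mv (algebraMap B Pp.Ring) w₁ +
            algebraMap B Pp.Ring (Qf c w₁) • mv (algebraMap B Pp.Ring) w₂)) = 1 := by
    rw [map_add, hBe0f0, map_smul, smul_eq_mul, Bf_self, hQe0]
    ring
  refine ⟨(Fin.cons (Pp.X • mv (algebraMap B Pp.Ring) w₁ +
        algebraMap B Pp.Ring (Qf c w₁) • mv (algebraMap B Pp.Ring) w₂)
      (fun i => mv (algebraMap B Pp.Ring) (e i)) : Fin (k + 1) → ι → Pp.Ring),
    (Fin.cons (μ • mv (algebraMap B Pp.Ring) w₁ +
        (-(Qf (c.map (algebraMap B Pp.Ring)) (μ • mv (algebraMap B Pp.Ring) w₁))) •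
          (Pp.X • mv (algebraMap B Pp.Ring) w₁ +
            algebraMap B Pp.Ring (Qf c w₁) • mv (algebraMap B Pp.Ring) w₂))
      (fun i => mv (algebraMap B Pp.Ring) (f i)) : Fin (k + 1) → ι → Pp.Ring),
    ⟨?_, ?_, ?_, ?_, ?_⟩⟩
  · intro i
    refine Fin.cases ?_ (fun i => ?_) i
    · rw [Fin.cons_zero]; exact hQe0
    · rw [Fin.cons_succ]; exact hfam'.qe i
  · intro i
    refine Fin.cases ?_ (fun i => ?_) i
    · rw [Fin.cons_zero]; exact hQf1
    · rw [Fin.cons_succ]; exact hfam'.qf i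
  · intro i j
    refine Fin.cases ?_ (fun i => ?_) i <;> refine Fin.cases ?_ (fun j => ?_) j
    · rw [Fin.cons_zero, Fin.cons_zero, if_pos rfl]; exact hBe0f1
    · rw [Fin.cons_zero, Fin.cons_succ, if_neg (Fin.succ_ne_zero j).symm]; exact (he0W j).2
    · rw [Fin.cons_zero, Fin.cons_succ, if_neg (Fin.succ_ne_zero i), Bf_comm]; exact (hf1W i).1
    · rw [Fin.cons_succ, Fin.cons_succ, hfam'.ef i j]
      simp only [Fin.succ_inj]
  · intro i j
    refine Fin.cases ?_ (fun i => ?_) i <;> refine Fin.cases ?_ (fun j => ?_) j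
    · rw [Fin.cons_zero, Bf_self, hQe0, mul_zero]
    · rw [Fin.cons_zero, Fin.cons_succ]; exact (he0W j).1
    · rw [Fin.cons_zero, Fin.cons_succ, Bf_comm]; exact (he0W i).1
    · rw [Fin.cons_succ, Fin.cons_succ]; exact hfam'.ee i j
  · intro i j
    refine Fin.cases ?_ (fun i => ?_) i <;> refine Fin.cases ?_ (fun j => ?_) j
    · rw [Fin.cons_zero, Bf_self, hQf1, mul_zero]
    · rw [Fin.cons_zero, Fin.cons_succ]; exact (hf1W j).2
    · rw [Fin.cons_zero, Fin.cons_succ, Bf_comm]; exact (hf1W i).2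
    · rw [Fin.cons_succ, Fin.cons_succ]; exact hfam'.ff i j

end Step

end Groth.Agent.Lib.Helper8.QuadSplit
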