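/-
Helper library (helper8): étale-local splitting of ordinary quadratic forms of even rank, part C:
induction on the number of hyperbolic pairs, the change of basis, and the local-to-global step.
-/
import Mathlib
import Groth.Agent.Lib.Helper8.QuadSplitB

set_option autoImplicit false

open Matrix

universe u

namespace Groth.Agent.Lib.Helper8.QuadSplit

section Local

variable {A : Type u} [CommRing A] {ι : Type} [Fintype ι] [DecidableEq ι]

theorem isUnit_det_map {B : Type*} [CommRing B] (φ : A →+* B) (c : Matrix ι ι A)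
    (hP : IsUnit (c + cᵀ).det) : IsUnit ((c.map φ) + (c.map φ)ᵀ).det := by
  have h1 : (c.map φ) + (c.map φ)ᵀ = φ.mapMatrix (c + cᵀ) := by
    ext i j
    simp
  rw [h1, ← RingHom.map_det]
  exact hP.map _

theorem Qf_eq_sum {B : Type*} [CommRing B] (c : Matrix ι ι B) (v : ι → B) :
    Qf c v = ∑ i, ∑ j, v i * c i j * v j := by
  unfold Qf Cf
  exact Matrix.toBilin'_apply _ _ _

theorem local_family (c : Matrix ι ι A) (hP : IsUnit (c + cᵀ).det) (p : Ideal A)
    [hp : p.IsPrime] :
    ∀ k : ℕ, 2 * k ≤ Fintype.card ι →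
    ∃ (B : Type u) (_ : CommRing B) (_ : Algebra A B), Algebra.Etale A B ∧
      ∃ (q : Ideal B) (_ : q.IsPrime), q.comap (algebraMap A B) = p ∧
      ∃ e f : Fin k → ι → B, HypFam (c.map (algebraMap A B)) e f := by
  intro k
  induction k with
  | zero =>
    intro _
    refine ⟨A, inferInstance, inferInstance, inferInstance, p, hp, ?_, fun i => i.elim0,
      fun i => i.elim0, ?_⟩
    · rfl
    · exact ⟨fun i => i.elim0, fun i => i.elim0, fun i => i.elim0, fun i => i.elim0,
        fun i => i.elim0⟩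
  | succ k ih =>
    intro hk
    obtain ⟨B, iB, iAB, hEt, q, hq, hqp, e, f, h⟩ := ih (by omega)
    have hPB := isUnit_det_map (algebraMap A B) c hP
    haveI := hq
    obtain ⟨B', iB', iBB', hEt', q', hq', hq'q, e', f', h'⟩ :=
      step (c.map (algebraMap A B)) hPB q (by omega) e f h
    letI : Algebra A B' := ((algebraMap B B').comp (algebraMap A B)).toAlgebra
    haveI : IsScalarTower A B B' := IsScalarTower.of_algebraMap_eq (fun _ => rfl)
    refine ⟨B', iB', inferInstance, Algebra.Etale.comp A B B', q', hq', ?_, e', f', ?_⟩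
    · rw [← hqp, ← hq'q, Ideal.comap_comap]
      rfl
    · have h2 : c.map (algebraMap A B') = (c.map (algebraMap A B)).map (algebraMap B B') := by
        rw [Matrix.map_map]
        rfl
      rw [h2]
      exact h'

end Local

section Split

variable {B : Type*} [CommRing B] {m : ℕ}

/-- The Gram matrix of the split form. -/
def Jm (B : Type*) [CommRing B] (m : ℕ) (α β : Fin m ⊕ Fin m) : B :=
  Sum.elim (fun i => Sum.elim (fun _ => (0 : B)) (fun j => if i = j then 1 else 0) β)
    (fun _ => 0) α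

theorem sum_Jm (x : Fin m ⊕ Fin m → B) :
    ∑ α, ∑ β, Jm B m α β * x α * x β = ∑ j, x (Sum.inl j) * x (Sum.inr j) := by
  simp only [Fintype.sum_sum_type, Jm, Sum.elim_inl, Sum.elim_inr, zero_mul,
    Finset.sum_const_zero, add_zero, zero_add, ite_mul, one_mul, Finset.sum_ite_eq,
    Finset.mem_univ, if_true]

theorem split_of_family (c : Matrix (Fin m ⊕ Fin m) (Fin m ⊕ Fin m) B)
    (e f : Fin m → (Fin m ⊕ Fin m) → B) (h : HypFam c e f) :
    ∃ g : Matrix (Fin m ⊕ Fin m) (Fin m ⊕ Fin m) B, IsUnit g.det ∧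
      ∀ x, Qf c (g *ᵥ x) = ∑ j, x (Sum.inl j) * x (Sum.inr j) := by
  classical
  let v : (Fin m ⊕ Fin m) → (Fin m ⊕ Fin m) → B := Sum.elim e f
  let g : Matrix (Fin m ⊕ Fin m) (Fin m ⊕ Fin m) B := Matrix.of fun i α => v α i
  have hgx : ∀ x : (Fin m ⊕ Fin m) → B, g *ᵥ x = ∑ α, x α • v α := by
    intro x
    ext i
    simp only [Matrix.mulVec, dotProduct, g, Matrix.of_apply, Finset.sum_apply, Pi.smul_apply,
      smul_eq_mul]
    exact Finset.sum_congr rfl fun α _ => mul_comm _ _
  have hQv : ∀ α, Cf c (v α) (v α) = 0 := by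
    rintro (i | i)
    · exact h.qe i
    · exact h.qf i
  have hBv : ∀ α β, Bf c (v α) (v β) = Jm B m α β + Jm B m β α := by
    rintro (i | i) (j | j)
    · simpa [v, Jm] using h.ee i j
    · simpa [v, Jm] using h.ef i j
    · have := h.ef j i
      rw [Bf_comm] at this
      simpa [v, Jm] using this
    · simpa [v, Jm] using h.ff i j
  have hJd : ∀ α, Jm B m α α = 0 := by
    rintro (i | i) <;> simp [Jm]
  refine ⟨g, ?_, ?_⟩
  · -- invertibility via the Gram matrix
    have hG : gᵀ * (c + cᵀ) * g = Matrix.of fun α β => Bf c (v α) (v β) := by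
      ext α β
      rw [Matrix.of_apply, Bf_eq]
      simp only [Matrix.mul_apply, dotProduct, Matrix.mulVec, Matrix.transpose_apply, g,
        Matrix.of_apply, Finset.sum_mul, Finset.mul_sum]
      rw [Finset.sum_comm]
      refine Finset.sum_congr rfl fun i _ => Finset.sum_congr rfl fun j _ => ?_
      ring
    have hS : (Matrix.of fun α β => Bf c (v α) (v β)) =
        (Matrix.fromBlocks 0 1 1 0 : Matrix (Fin m ⊕ Fin m) (Fin m ⊕ Fin m) B) := by
      ext α β
      rw [Matrix.of_apply, hBv]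
      rcases α with i | i <;> rcases β with j | j <;>
        simp [Jm, Matrix.one_apply, eq_comm]
    have hSS : (Matrix.fromBlocks 0 1 1 0 : Matrix (Fin m ⊕ Fin m) (Fin m ⊕ Fin m) B) *
        Matrix.fromBlocks 0 1 1 0 = 1 := by
      rw [Matrix.fromBlocks_multiply]
      simp [Matrix.fromBlocks_one]
    have hSu : IsUnit (Matrix.fromBlocks 0 1 1 0 :
        Matrix (Fin m ⊕ Fin m) (Fin m ⊕ Fin m) B).det :=
      Matrix.isUnit_det_of_left_inverse hSS
    rw [← hS, ← hG, Matrix.det_mul] at hSu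
    exact isUnit_of_mul_isUnit_right hSu
  · intro x
    rw [hgx, ← sum_Jm x]
    have h1 : Qf c (∑ α, x α • v α) = ∑ α, ∑ β, Cf c (v α) (v β) * x α * x β := by
      unfold Qf
      have h0 : ∀ β, Cf c (∑ α, x α • v α) (x β • v β) =
          ∑ α, Cf c (v α) (v β) * x α * x β := by
        intro β
        rw [map_sum, LinearMap.sum_apply]
        refine Finset.sum_congr rfl fun α _ => ?_
        rw [map_smul, map_smul, LinearMap.smul_apply, smul_eq_mul, smul_eq_mul]
        ring
      rw [map_sum]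
      simp_rw [h0]
      exact Finset.sum_comm
    rw [h1]
    have h2 := sum_alt_eq_zero (fun α β => Cf c (v α) (v β) - Jm B m α β)
      (fun α => by rw [hQv, hJd, sub_zero])
      (fun α β => by
        have := hBv α β
        rw [Bf_apply] at this
        linear_combination this) x Finset.univ
    rw [← sub_eq_zero, ← h2, ← Finset.sum_sub_distrib]
    refine Finset.sum_congr rfl fun α _ => ?_
    rw [← Finset.sum_sub_distrib]
    refine Finset.sum_congr rfl fun β _ => ?_
    ring

end Split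

section Global

theorem global_split (A : Type u) [CommRing A] (m : ℕ)
    (c : Matrix (Fin m ⊕ Fin m) (Fin m ⊕ Fin m) A) (hP : IsUnit (c + cᵀ).det) :
    ∃ (n : ℕ) (B : Fin n → Type u) (_ : ∀ t, CommRing (B t)) (_ : ∀ t, Algebra A (B t)),
      (∀ t, Algebra.Etale A (B t)) ∧
      (∀ p : PrimeSpectrum A, ∃ (t : Fin n) (q : PrimeSpectrum (B t)),
        q.asIdeal.comap (algebraMap A (B t)) = p.asIdeal) ∧
      ∀ t, ∃ g : Matrix (Fin m ⊕ Fin m) (Fin m ⊕ Fin m) (B t), IsUnit g.det ∧
        ∀ x : Fin m ⊕ Fin m → B t, Qf (c.map (algebraMap A (B t))) (g *ᵥ x) =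
          ∑ j : Fin m, x (Sum.inl j) * x (Sum.inr j) := by
  classical
  have hloc : ∀ p : PrimeSpectrum A, ∃ (B : Type u) (_ : CommRing B) (_ : Algebra A B),
      Algebra.Etale A B ∧
      (∃ q : PrimeSpectrum B, q.asIdeal.comap (algebraMap A B) = p.asIdeal) ∧
      ∃ g : Matrix (Fin m ⊕ Fin m) (Fin m ⊕ Fin m) B, IsUnit g.det ∧
        ∀ x : Fin m ⊕ Fin m → B, Qf (c.map (algebraMap A B)) (g *ᵥ x) =
          ∑ j : Fin m, x (Sum.inl j) * x (Sum.inr j) := by
    intro p
    obtain ⟨B, iB, iAB, hEt, q, hq, hqp, e, f, h⟩ :=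
      local_family c hP p.asIdeal m (by rw [Fintype.card_sum, Fintype.card_fin]; omega)
    exact ⟨B, iB, iAB, hEt, ⟨⟨q, hq⟩, hqp⟩, split_of_family _ e f h⟩
  choose Bp iCR iAlg hEt hq hg using hloc
  let U : PrimeSpectrum A → Set (PrimeSpectrum A) := fun p =>
    Set.range (PrimeSpectrum.comap (algebraMap A (Bp p)))
  have hUo : ∀ p, IsOpen (U p) := fun p =>
    (PrimeSpectrum.isOpenMap_comap_of_hasGoingDown_of_finitePresentation).isOpen_range
  have hUc : (Set.univ : Set (PrimeSpectrum A)) ⊆ ⋃ p, U p := by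
    intro p _
    obtain ⟨q, hq'⟩ := hq p
    exact Set.mem_iUnion.2 ⟨p, q, PrimeSpectrum.ext hq'⟩
  obtain ⟨s, hs⟩ := isCompact_univ.elim_finite_subcover U hUo hUc
  let pt : Fin s.card → PrimeSpectrum A := fun t => (s.equivFin.symm t : PrimeSpectrum A)
  refine ⟨s.card, fun t => Bp (pt t), fun t => iCR (pt t), fun t => iAlg (pt t),
    fun t => hEt (pt t), ?_, fun t => hg (pt t)⟩
  intro p
  have hp := hs (Set.mem_univ p)
  simp only [Set.mem_iUnion] at hp
  obtain ⟨p', hp's, q, hq'⟩ := hp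
  obtain ⟨t, rfl⟩ : ∃ t, pt t = p' := ⟨s.equivFin ⟨p', hp's⟩, by simp [pt]⟩
  exact ⟨t, q, congrArg PrimeSpectrum.asIdeal hq'⟩

end Global

end Groth.Agent.Lib.Helper8.QuadSplit
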