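/-
Helper library (helper8): odd-rank semiregular quadratic forms, part A:
coordinates of base-changed forms, the split form, and isometries from matrices.
-/
import Mathlib
import Groth.Agent.Lib.Helper8.QuadSplitC
import Groth.Agent.Lib.Helper19.HalfDisc3

set_option autoImplicit false

open Matrix QuadGrp
open scoped TensorProduct

universe u v

namespace Groth.Agent.Lib.Helper8.QuadOdd

open Groth.Agent.Lib.Helper19.HalfDisc Groth.Agent.Lib.Helper8.QuadSplit

section Table

variable {R : Type u} [CommRing R] {N : Type v} [AddCommGroup N] [Module R N] {n : ℕ}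

/-- The value of a quadratic form in coordinates. -/
theorem form_eq_Qf (β : Module.Basis (Fin n) R N) (q : QuadraticForm R N) (x : N) :
    q x = Qf (um (coeffs β (LinearEquiv.refl R R) q)) (β.equivFun x) := by
  have h1 : q x = (q.toBilin β) x x := by
    conv_lhs => rw [← QuadraticMap.toQuadraticMap_toBilin q β]
    rfl
  rw [h1, ← Matrix.toLinearMap₂_toMatrix₂ β β (q.toBilin β), toMatrix₂_toBilin,
    Matrix.toLinearMap₂_apply, Qf_eq_sum]
  refine Finset.sum_congr rfl fun i _ => Finset.sum_congr rfl fun j _ => ?_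
  simp only [smul_eq_mul, Module.Basis.equivFun_apply]
  ring

end Table

section BC

variable {R : Type u} [CommRing R] {M : Type v} [AddCommGroup M] [Module R M] [Module.Free R M]
  {n : ℕ} (A : Type*) [CommRing A] [Algebra R A]

theorem coeffs_bcForm (b : Module.Basis (Fin n) R M) (Q : QuadraticForm R M) :
    coeffs (Algebra.TensorProduct.basis A b) (LinearEquiv.refl A A) (baseChangeForm A Q) =
      (algebraMap R A) ∘ coeffs b (LinearEquiv.refl R R) Q := by
  funext s
  induction s using Sym2.ind with
  | _ i j =>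
    rw [Function.comp_apply, coeffs_mk, coeffs_mk]
    by_cases h : i = j
    · rw [if_pos h, if_pos h, LinearEquiv.refl_apply, LinearEquiv.refl_apply,
        Algebra.TensorProduct.basis_apply,
        Groth.Agent.Lib.Helper19.QuadCentre.bcForm_one_tmul]
    · rw [if_neg h, if_neg h, LinearEquiv.refl_apply, LinearEquiv.refl_apply,
        Algebra.TensorProduct.basis_apply, Algebra.TensorProduct.basis_apply,
        Groth.Agent.Lib.Helper19.QuadCentre.polar_bcForm]

theorem bcForm_eq_Qf (b : Module.Basis (Fin n) R M) (Q : QuadraticForm R M) (x : A ⊗[R] M) :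
    baseChangeForm A Q x =
      Qf ((um (coeffs b (LinearEquiv.refl R R) Q)).map (algebraMap R A))
        ((Algebra.TensorProduct.basis A b).equivFun x) := by
  rw [form_eq_Qf (Algebra.TensorProduct.basis A b), coeffs_bcForm, um_map]

end BC

section Split

variable (A : Type*) [CommRing A] (m : ℕ)

/-- position of the first vector of the `l`-th hyperbolic pair -/
def posE (l : Fin m) : Fin (2 * m + 1) := ⟨2 * l.val + 1, by have := l.isLt; omega⟩

/-- position of the second vector of the `l`-th hyperbolic pair -/
def posF (l : Fin m) : Fin (2 * m + 1) := ⟨2 * l.val + 2, by have := l.isLt; omega⟩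

theorem splitForm_apply (y : Fin (2 * m + 1) → A) :
    splitForm A (2 * m + 1) y = y 0 * y 0 + ∑ l : Fin m, y (posE m l) * y (posF m l) := by
  have h1 : (2 * m + 1) % 2 = 1 := by omega
  have h2 : (2 * m + 1) / 2 = m := by omega
  unfold splitForm
  rw [_root_.add_apply, dif_pos h1, _root_.sum_apply, QuadraticMap.comp_apply, QuadraticMap.sq_apply,
    LinearMap.proj_apply, add_comm]
  congr 1
  refine Fintype.sum_equiv (finCongr h2) _ _ (fun l => ?_)
  rw [QuadraticMap.linMulLin_apply, LinearMap.proj_apply, LinearMap.proj_apply]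
  congr 2 <;> (apply Fin.ext; simp [posE, posF])

variable {A}

theorem splitForm_map {B : Type*} [CommRing B] (φ : A →+* B) (y : Fin (2 * m + 1) → A) :
    φ (splitForm A (2 * m + 1) y) = splitForm B (2 * m + 1) (φ ∘ y) := by
  rw [splitForm_apply, splitForm_apply, map_add, map_mul, map_sum]
  simp only [Function.comp_apply, map_mul]

end Split

section Bridge

variable {R : Type u} [CommRing R] (m : ℕ) (A : Type*) [CommRing A] [Algebra R A]

theorem coeffs_splitForm_map :
    coeffs (Pi.basisFun A (Fin (2 * m + 1))) (LinearEquiv.refl A A) (splitForm A (2 * m + 1)) =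
      (algebraMap R A) ∘ coeffs (Pi.basisFun R (Fin (2 * m + 1))) (LinearEquiv.refl R R)
        (splitForm R (2 * m + 1)) := by
  have hb : ∀ i, (Pi.basisFun A (Fin (2 * m + 1)) i : Fin (2 * m + 1) → A) =
      (algebraMap R A) ∘ (Pi.basisFun R (Fin (2 * m + 1)) i) := by
    intro i
    funext j
    simp [Pi.basisFun_apply, Pi.single_apply, apply_ite (algebraMap R A)]
  funext s
  induction s using Sym2.ind with
  | _ i j =>
    rw [Function.comp_apply, coeffs_mk, coeffs_mk]
    by_cases h : i = j
    · rw [if_pos h, if_pos h, LinearEquiv.refl_apply, LinearEquiv.refl_apply, hb,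
        ← splitForm_map]
    · have hadd : (algebraMap R A) ∘ ((Pi.basisFun R (Fin (2 * m + 1)) i : Fin (2 * m + 1) → R) +
          Pi.basisFun R (Fin (2 * m + 1)) j) =
          (algebraMap R A) ∘ (Pi.basisFun R (Fin (2 * m + 1)) i) +
            (algebraMap R A) ∘ (Pi.basisFun R (Fin (2 * m + 1)) j) := by
        funext k
        simp
      rw [if_neg h, if_neg h, LinearEquiv.refl_apply, LinearEquiv.refl_apply,
        QuadraticMap.polar, QuadraticMap.polar, map_sub, map_sub, splitForm_map, splitForm_map,
        splitForm_map, hb, hb, hadd]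

theorem bcForm_splitForm (x : A ⊗[R] (Fin (2 * m + 1) → R)) :
    baseChangeForm A (splitForm R (2 * m + 1)) x =
      splitForm A (2 * m + 1)
        ((Algebra.TensorProduct.basis A (Pi.basisFun R (Fin (2 * m + 1)))).equivFun x) := by
  rw [form_eq_Qf (Algebra.TensorProduct.basis A (Pi.basisFun R (Fin (2 * m + 1)))),
    coeffs_bcForm,
    form_eq_Qf (Pi.basisFun A (Fin (2 * m + 1))) (splitForm A (2 * m + 1)),
    coeffs_splitForm_map (R := R) m A, Pi.basisFun_equivFun]
  rfl

/-- An invertible matrix carrying the form to the split form gives an isometry. -/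
theorem nonempty_isometryEquiv (Q : QuadraticForm R (Fin (2 * m + 1) → R))
    (g : Matrix (Fin (2 * m + 1)) (Fin (2 * m + 1)) A) (hg : IsUnit g.det)
    (h : ∀ y, Qf ((um (coeffs (Pi.basisFun R (Fin (2 * m + 1))) (LinearEquiv.refl R R) Q)).map
      (algebraMap R A)) (g *ᵥ y) = splitForm A (2 * m + 1) y) :
    Nonempty ((baseChangeForm A Q).IsometryEquiv
      (baseChangeForm A (splitForm R (2 * m + 1)))) := by
  classical
  let β := Algebra.TensorProduct.basis A (Pi.basisFun R (Fin (2 * m + 1)))
  let E : (Fin (2 * m + 1) → A) ≃ₗ[A] (Fin (2 * m + 1) → A) :=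
    Matrix.toLinearEquiv' g (Matrix.invertibleOfIsUnitDet g hg)
  have hE : ∀ ξ, g *ᵥ (E.symm ξ) = ξ := by
    intro ξ
    have h1 := E.apply_symm_apply ξ
    rw [← h1]
    simp only [E, LinearEquiv.symm_apply_apply]
    rw [← Matrix.toLin'_apply]
    rfl
  refine ⟨⟨β.equivFun ≪≫ₗ E.symm ≪≫ₗ β.equivFun.symm, fun x => ?_⟩⟩
  show baseChangeForm A (splitForm R (2 * m + 1)) (β.equivFun.symm (E.symm (β.equivFun x))) = _
  rw [bcForm_splitForm, LinearEquiv.apply_symm_apply, ← h, hE,
    bcForm_eq_Qf A (Pi.basisFun R (Fin (2 * m + 1)))]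

end Bridge

end Groth.Agent.Lib.Helper8.QuadOdd
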