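/-
Helper library (helper8): odd-rank semiregular quadratic forms, part B:
étale-local existence of `m` hyperbolic pairs in rank `2m+1`, and an anisotropic vector
in their orthogonal complement.
-/
import Mathlib
import Groth.Agent.Lib.Helper8.QuadOddA

set_option autoImplicit false

open Matrix QuadGrp

universe u v

namespace Groth.Agent.Lib.Helper8.QuadOdd

open Groth.Agent.Lib.Helper19.HalfDisc Groth.Agent.Lib.Helper8.QuadSplit

section Away

theorem exists_prime_away {R : Type u} [CommRing R] (p : Ideal R) [hp : p.IsPrime] (s : R)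
    (hs : s ∉ p) :
    ∃ (q : Ideal (Localization.Away s)) (_ : q.IsPrime),
      q.comap (algebraMap R (Localization.Away s)) = p := by
  have hd : Disjoint ((Submonoid.powers s : Submonoid R) : Set R) (p : Set R) :=
    (Ideal.disjoint_powers_iff_notMem_of_isPrime s).mpr hs
  exact ⟨p.map (algebraMap R _),
    IsLocalization.isPrime_of_isPrime_disjoint (Submonoid.powers s) _ p hp hd,
    IsLocalization.under_map_of_isPrime_disjoint (Submonoid.powers s) _ hp hd⟩

end Away

section Emb

variable {B : Type*} [CommRing B] {k : ℕ}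

/-- extension by zero at the coordinate `i` -/
def emb (i : Fin (k + 1)) (v : Fin k → B) : Fin (k + 1) → B := Fin.insertNth i (0 : B) v

theorem Cf_emb (c : Matrix (Fin (k + 1)) (Fin (k + 1)) B) (i : Fin (k + 1)) (v w : Fin k → B) :
    Cf c (emb i v) (emb i w) = Cf (c.submatrix i.succAbove i.succAbove) v w := by
  rw [Cf_apply, Cf_apply]
  simp only [dotProduct, Matrix.mulVec, emb]
  rw [Fin.sum_univ_succAbove _ i]
  simp only [Fin.insertNth_apply_same, zero_mul, zero_add, Fin.insertNth_apply_succAbove]
  refine Finset.sum_congr rfl fun j _ => ?_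
  congr 1
  rw [Fin.sum_univ_succAbove _ i]
  simp only [Fin.insertNth_apply_same, mul_zero, zero_add, Fin.insertNth_apply_succAbove,
    Matrix.submatrix_apply]

theorem hypFam_emb (c : Matrix (Fin (k + 1)) (Fin (k + 1)) B) (i : Fin (k + 1)) {r : ℕ}
    (e f : Fin r → Fin k → B) (h : HypFam (c.submatrix i.succAbove i.succAbove) e f) :
    HypFam c (fun l => emb i (e l)) (fun l => emb i (f l)) where
  qe l := by
    have := h.qe l
    unfold Qf at this ⊢
    rw [Cf_emb]; exact this
  qf l := by
    have := h.qf l
    unfold Qf at this ⊢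
    rw [Cf_emb]; exact this
  ef l l' := by
    have := h.ef l l'
    rw [Bf_apply] at this ⊢
    rw [Cf_emb, Cf_emb]; exact this
  ee l l' := by
    have := h.ee l l'
    rw [Bf_apply] at this ⊢
    rw [Cf_emb, Cf_emb]; exact this
  ff l l' := by
    have := h.ff l l'
    rw [Bf_apply] at this ⊢
    rw [Cf_emb, Cf_emb]; exact this

end Emb

section Families

variable {R : Type u} [CommRing R] {m : ℕ}

theorem local_family_inv2 (a : Sym2 (Fin (2 * m + 1)) → R) (ha : IsUnit (hd a))
    (p : Ideal R) [hp : p.IsPrime] (h2 : (2 : R) ∉ p) :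
    ∃ (B : Type u) (_ : CommRing B) (_ : Algebra R B), Algebra.Etale R B ∧
      ∃ (q : Ideal B) (_ : q.IsPrime), q.comap (algebraMap R B) = p ∧
      ∃ e f : Fin m → Fin (2 * m + 1) → B, HypFam ((um a).map (algebraMap R B)) e f := by
  classical
  have hodd : Odd (2 * m + 1) := ⟨m, rfl⟩
  obtain ⟨q₂, hq₂, hq₂p⟩ := exists_prime_away p 2 h2
  have hP : IsUnit (((um a).map (algebraMap R (Localization.Away (2 : R)))) +
      ((um a).map (algebraMap R (Localization.Away (2 : R))))ᵀ).det := by
    have h1 : ((um a).map (algebraMap R (Localization.Away (2 : R)))) +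
        ((um a).map (algebraMap R (Localization.Away (2 : R))))ᵀ =
        (algebraMap R (Localization.Away (2 : R))).mapMatrix (pm a) := by
      rw [pm_eq_um_add]
      ext i j
      simp
    rw [h1, ← RingHom.map_det, ← two_mul_hd hodd, map_mul]
    exact (IsLocalization.Away.algebraMap_isUnit (2 : R)).mul (ha.map _)
  haveI := hq₂
  obtain ⟨B, iB, iAB, hEt, q, hq, hqq, e, f, h⟩ :=
    local_family ((um a).map (algebraMap R (Localization.Away (2 : R)))) hP q₂ m
      (by rw [Fintype.card_fin]; omega)
  letI : Algebra R B := ((algebraMap (Localization.Away (2 : R)) B).comp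
    (algebraMap R (Localization.Away (2 : R)))).toAlgebra
  haveI : IsScalarTower R (Localization.Away (2 : R)) B :=
    IsScalarTower.of_algebraMap_eq (fun _ => rfl)
  refine ⟨B, iB, inferInstance, Algebra.Etale.comp R (Localization.Away (2 : R)) B, q, hq, ?_,
    e, f, ?_⟩
  · rw [← hq₂p, ← hqq, Ideal.comap_comap]
    rfl
  · have h3 : (um a).map (algebraMap R B) =
        ((um a).map (algebraMap R (Localization.Away (2 : R)))).map
          (algebraMap (Localization.Away (2 : R)) B) := by
      rw [Matrix.map_map]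
      rfl
    rw [h3]
    exact h

theorem local_family_char2 (a : Sym2 (Fin (2 * m + 1)) → R) (ha : IsUnit (hd a))
    (p : Ideal R) [hp : p.IsPrime] (h2 : (2 : R) ∈ p) :
    ∃ (B : Type u) (_ : CommRing B) (_ : Algebra R B), Algebra.Etale R B ∧
      ∃ (q : Ideal B) (_ : q.IsPrime), q.comap (algebraMap R B) = p ∧
      ∃ e f : Fin m → Fin (2 * m + 1) → B, HypFam ((um a).map (algebraMap R B)) e f := by
  classical
  have hodd : Odd (2 * m + 1) := ⟨m, rfl⟩
  have h2κ : (2 : p.ResidueField) = 0 := by
    have h3 : algebraMap R p.ResidueField 2 = 0 := Ideal.algebraMap_residueField_eq_zero.mpr h2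
    rwa [map_ofNat] at h3
  have hne : hd ((algebraMap R p.ResidueField) ∘ a) ≠ 0 := by
    rw [hd_map]
    exact (ha.map _).ne_zero
  obtain ⟨i, hi⟩ := exists_minor_ne_zero hodd h2κ _ hne
  have hδp : ((pm a).submatrix i.succAbove i.succAbove).det ∉ p := by
    intro hmem
    apply hi
    rw [pm_map, Matrix.submatrix_map, ← RingHom.mapMatrix_apply, ← RingHom.map_det]
    exact Ideal.algebraMap_residueField_eq_zero.mpr hmem
  obtain ⟨q₁, hq₁, hq₁p⟩ :=
    exists_prime_away p ((pm a).submatrix i.succAbove i.succAbove).det hδp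
  have hP : IsUnit ((((um a).map (algebraMap R (Localization.Away
        ((pm a).submatrix i.succAbove i.succAbove).det))).submatrix i.succAbove i.succAbove) +
      (((um a).map (algebraMap R (Localization.Away
        ((pm a).submatrix i.succAbove i.succAbove).det))).submatrix
          i.succAbove i.succAbove)ᵀ).det := by
    have h1 : (((um a).map (algebraMap R (Localization.Away
          ((pm a).submatrix i.succAbove i.succAbove).det))).submatrix i.succAbove i.succAbove) +
        (((um a).map (algebraMap R (Localization.Away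
          ((pm a).submatrix i.succAbove i.succAbove).det))).submatrix
            i.succAbove i.succAbove)ᵀ =
        (algebraMap R (Localization.Away
          ((pm a).submatrix i.succAbove i.succAbove).det)).mapMatrix
            ((pm a).submatrix i.succAbove i.succAbove) := by
      rw [pm_eq_um_add]
      ext j l
      simp
    rw [h1, ← RingHom.map_det]
    exact IsLocalization.Away.algebraMap_isUnit _
  haveI := hq₁
  obtain ⟨B, iB, iAB, hEt, q, hq, hqq, e', f', h'⟩ :=
    local_family _ hP q₁ m (by rw [Fintype.card_fin])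
  letI : Algebra R B := ((algebraMap (Localization.Away
    ((pm a).submatrix i.succAbove i.succAbove).det) B).comp
    (algebraMap R (Localization.Away ((pm a).submatrix i.succAbove i.succAbove).det))).toAlgebra
  haveI : IsScalarTower R (Localization.Away ((pm a).submatrix i.succAbove i.succAbove).det) B :=
    IsScalarTower.of_algebraMap_eq (fun _ => rfl)
  refine ⟨B, iB, inferInstance, Algebra.Etale.comp R (Localization.Away
    ((pm a).submatrix i.succAbove i.succAbove).det) B, q, hq, ?_,
    fun l => emb i (e' l), fun l => emb i (f' l), ?_⟩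
  · rw [← hq₁p, ← hqq, Ideal.comap_comap]
    rfl
  · apply hypFam_emb
    have h3 : ((um a).map (algebraMap R B)).submatrix i.succAbove i.succAbove =
        (((um a).map (algebraMap R (Localization.Away
          ((pm a).submatrix i.succAbove i.succAbove).det))).submatrix
            i.succAbove i.succAbove).map (algebraMap (Localization.Away
          ((pm a).submatrix i.succAbove i.succAbove).det) B) := by
      ext j l
      rfl
    rw [h3]
    exact h'

theorem local_family_odd (a : Sym2 (Fin (2 * m + 1)) → R) (ha : IsUnit (hd a))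
    (p : Ideal R) [hp : p.IsPrime] :
    ∃ (B : Type u) (_ : CommRing B) (_ : Algebra R B), Algebra.Etale R B ∧
      ∃ (q : Ideal B) (_ : q.IsPrime), q.comap (algebraMap R B) = p ∧
      ∃ e f : Fin m → Fin (2 * m + 1) → B, HypFam ((um a).map (algebraMap R B)) e f := by
  by_cases h2 : (2 : R) ∈ p
  · exact local_family_char2 a ha p h2
  · exact local_family_inv2 a ha p h2

end Families

section Radical

variable {B : Type u} [CommRing B] {m : ℕ}

/-- The quadratic radical of a semiregular table is zero modulo every prime. -/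
theorem rad_zero (a : Sym2 (Fin (2 * m + 1)) → B) (q : Ideal B) [hq : q.IsPrime]
    (ha : hd a ∉ q) (w : Fin (2 * m + 1) → B) (hQ : Qf (um a) w ∈ q)
    (hB : ∀ j, Bf (um a) (Pi.single j 1) w ∈ q) : ∀ j, w j ∈ q := by
  classical
  let κ := q.ResidueField
  let ψ : B →+* κ := algebraMap B κ
  have hψ : ∀ x, ψ x = 0 ↔ x ∈ q := fun x => Ideal.algebraMap_residueField_eq_zero
  let Qκ : QuadraticForm κ (Fin (2 * m + 1) → κ) :=
    LinearMap.BilinMap.toQuadraticMap (Cf (um (ψ ∘ a)))
  have hco : coeffs (Pi.basisFun κ (Fin (2 * m + 1))) (LinearEquiv.refl κ κ) Qκ = ψ ∘ a := by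
    funext s
    induction s using Sym2.ind with
    | _ i j =>
      rw [coeffs_mk]
      by_cases h : i = j
      · subst h
        rw [if_pos rfl, LinearEquiv.refl_apply, Pi.basisFun_apply]
        show Cf (um (ψ ∘ a)) (Pi.single i 1) (Pi.single i 1) = _
        unfold Cf
        rw [Matrix.toBilin'_single, um_apply, if_pos rfl]
      · rw [if_neg h, LinearEquiv.refl_apply, Pi.basisFun_apply, Pi.basisFun_apply,
          LinearMap.BilinMap.polar_toQuadraticMap]
        unfold Cf
        rw [Matrix.toBilin'_single, Matrix.toBilin'_single]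
        have h1 := congrFun (congrFun (pm_eq_um_add (ψ ∘ a)) i) j
        rw [pm_apply, if_neg h, Matrix.add_apply, Matrix.transpose_apply] at h1
        exact h1.symm
  have hρ : (pm (coeffs (Pi.basisFun κ (Fin (2 * m + 1))) (LinearEquiv.refl κ κ) Qκ)).mulVec
      (ψ ∘ w) = 0 := by
    rw [hco, pm_map]
    funext j
    rw [← RingHom.map_mulVec, Pi.zero_apply, hψ, pm_eq_um_add, ← Bf_single]
    exact hB j
  intro j
  have hkey := key_identity (Pi.basisFun κ (Fin (2 * m + 1))) Qκ (ψ ∘ w) hρ j
  have hQ0 : Qκ ((Pi.basisFun κ (Fin (2 * m + 1))).equivFun.symm (ψ ∘ w)) = 0 := by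
    rw [Pi.basisFun_equivFun]
    show Cf (um (ψ ∘ a)) (ψ ∘ w) (ψ ∘ w) = 0
    rw [um_map]
    have h1 := Qf_map ψ (um a) w
    unfold Qf at h1
    rw [show (ψ ∘ w) = fun i => ψ (w i) from rfl, h1]
    exact (hψ _).mpr hQ
  rw [hQ0, zero_mul, hco, hd_map] at hkey
  rcases mul_eq_zero.mp hkey with h1 | h1
  · exact (hψ _).mp (pow_eq_zero_iff (two_ne_zero) |>.mp h1)
  · exact absurd ((hψ _).mp h1) ha

/-- In the orthogonal complement of `m` hyperbolic pairs there is a vector with `Q(w) ∉ q`. -/
theorem exists_Qf_not_mem_odd (a : Sym2 (Fin (2 * m + 1)) → B) (q : Ideal B) [hq : q.IsPrime]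
    (ha : hd a ∉ q) (e f : Fin m → Fin (2 * m + 1) → B) (h : HypFam (um a) e f) :
    ∃ w, InW (um a) e f w ∧ Qf (um a) w ∉ q := by
  classical
  by_contra hcon
  push_neg at hcon
  have hW : ∀ i, InW (um a) e f (wv (um a) e f i) := fun i => wv_inW h i
  have hG : ∀ i j, Bf (um a) (wv (um a) e f i) (wv (um a) e f j) ∈ q := by
    intro i j
    have h1 := Qf_add (um a) (wv (um a) e f i) (wv (um a) e f j)
    have h2 : Bf (um a) (wv (um a) e f i) (wv (um a) e f j) =
        Qf (um a) (wv (um a) e f i + wv (um a) e f j) - Qf (um a) (wv (um a) e f i) -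
          Qf (um a) (wv (um a) e f j) := by
      rw [h1]; ring
    rw [h2]
    exact Ideal.sub_mem _ (Ideal.sub_mem _ (hcon _ ((hW i).add (hW j))) (hcon _ (hW i)))
      (hcon _ (hW j))
  have hmem : ∀ i j, wv (um a) e f i j ∈ q := by
    intro i
    apply rad_zero a q ha _ (hcon _ (hW i))
    intro j
    rw [Bf_single_wv h]
    exact hG i j
  refine rank_contra q (σ := Fin m ⊕ Fin m) (ι := Fin (2 * m + 1)) ?_ (Sum.elim e f) 1
    (fun h1 => ?_) ?_
  · simp only [Fintype.card_sum, Fintype.card_fin]; omega
  · exact (Ideal.ne_top_iff_one q).mp hq.ne_top h1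
  · intro i
    refine ⟨Sum.elim (fun j => Bf (um a) (Pi.single i 1) (f j))
      (fun j => Bf (um a) (Pi.single i 1) (e j)), fun j => ?_⟩
    have h3 : (1 : B) • (Pi.single i (1 : B) : Fin (2 * m + 1) → B) - ∑ t : Fin m ⊕ Fin m,
        Sum.elim (fun j => Bf (um a) (Pi.single i 1) (f j))
          (fun j => Bf (um a) (Pi.single i 1) (e j)) t •
          Sum.elim e f t = wv (um a) e f i := by
      rw [one_smul, Fintype.sum_sum_type]
      simp only [Sum.elim_inl, Sum.elim_inr]
      rw [wv, proj, Finset.sum_add_distrib]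
    rw [h3]
    exact hmem i j

end Radical

end Groth.Agent.Lib.Helper8.QuadOdd
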