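/-
Helper library (helper8): odd-rank semiregular quadratic forms, part C:
the change of basis to the split form and the fppf-local splitting at a prime.
-/
import Mathlib
import Groth.Agent.Lib.Helper8.QuadOddB

set_option autoImplicit false

open Matrix QuadGrp

universe u v

namespace Groth.Agent.Lib.Helper8.QuadOdd

open Groth.Agent.Lib.Helper19.HalfDisc Groth.Agent.Lib.Helper8.QuadSplit

section Index

/-- the positions of the split basis -/
def pos (m : ℕ) : Unit ⊕ (Fin m ⊕ Fin m) → Fin (2 * m + 1) :=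
  Sum.elim (fun _ => 0) (Sum.elim (posE m) (posF m))

theorem pos_bijective (m : ℕ) : Function.Bijective (pos m) := by
  constructor
  · intro x y h
    rcases x with _ | l | l <;> rcases y with _ | l' | l' <;>
      simp only [pos, Sum.elim_inl, Sum.elim_inr, posE, posF, Fin.ext_iff, Fin.val_zero] at h <;>
      first
        | rfl
        | (exfalso; omega)
        | (have hl : l = l' := Fin.ext (by omega); subst hl; rfl)
  · intro j
    have hj := j.isLt
    rcases Nat.even_or_odd j.val with ⟨r, hr⟩ | ⟨r, hr⟩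
    · rcases Nat.eq_zero_or_pos r with h0 | h0
      · exact ⟨Sum.inl (), Fin.ext (by simp only [pos, Sum.elim_inl, Fin.val_zero]; omega)⟩
      · exact ⟨Sum.inr (Sum.inr ⟨r - 1, by omega⟩),
          Fin.ext (by simp only [pos, Sum.elim_inr, posF]; omega)⟩
    · exact ⟨Sum.inr (Sum.inl ⟨r, by omega⟩),
        Fin.ext (by simp only [pos, Sum.elim_inr, Sum.elim_inl, posE]; omega)⟩

/-- the index equivalence -/
noncomputable def sig (m : ℕ) : Unit ⊕ (Fin m ⊕ Fin m) ≃ Fin (2 * m + 1) :=
  Equiv.ofBijective (pos m) (pos_bijective m)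

theorem sig_apply (m : ℕ) (x) : sig m x = pos m x := rfl

end Index

section SplitBasis

variable {B : Type*} [CommRing B] {m : ℕ}

/-- The Gram table of the split form of odd rank. -/
def Jo (B : Type*) [CommRing B] (m : ℕ) (α β : Unit ⊕ (Fin m ⊕ Fin m)) : B :=
  Sum.elim (fun _ => Sum.elim (fun _ => (1 : B)) (fun _ => 0) β)
    (fun x => Sum.elim (fun _ => 0) (fun y => Jm B m x y) β) α

theorem sum_Jo (x : Unit ⊕ (Fin m ⊕ Fin m) → B) :
    ∑ α, ∑ β, Jo B m α β * x α * x β =
      x (Sum.inl ()) * x (Sum.inl ()) +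
        ∑ l, x (Sum.inr (Sum.inl l)) * x (Sum.inr (Sum.inr l)) := by
  rw [Fintype.sum_sum_type]
  simp only [Fintype.sum_sum_type (α₁ := Unit), Jo, Sum.elim_inl, Sum.elim_inr,
    Finset.univ_unique, Finset.sum_singleton, zero_mul, Finset.sum_const_zero, add_zero,
    zero_add, one_mul]
  congr 1
  exact sum_Jm (fun z => x (Sum.inr z))

theorem Qf_sum {ι α : Type*} [Fintype ι] [DecidableEq ι] [Fintype α] (c : Matrix ι ι B)
    (v : α → ι → B) (x : α → B) :
    Qf c (∑ a, x a • v a) = ∑ a, ∑ b, Cf c (v a) (v b) * x a * x b := by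
  unfold Qf
  have h0 : ∀ b, Cf c (∑ a, x a • v a) (x b • v b) = ∑ a, Cf c (v a) (v b) * x a * x b := by
    intro b
    rw [map_sum, LinearMap.sum_apply]
    refine Finset.sum_congr rfl fun a _ => ?_
    rw [map_smul, map_smul, LinearMap.smul_apply, smul_eq_mul, smul_eq_mul]
    ring
  rw [map_sum]
  simp_rw [h0]
  exact Finset.sum_comm

theorem split_of_family_odd (c : Matrix (Fin (2 * m + 1)) (Fin (2 * m + 1)) B)
    (e f : Fin m → Fin (2 * m + 1) → B) (h : HypFam c e f)
    (w : Fin (2 * m + 1) → B) (hw : InW c e f w) (hQw : Qf c w = 1) :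
    ∃ g : Matrix (Fin (2 * m + 1)) (Fin (2 * m + 1)) B, IsUnit g.det ∧
      ∀ y, Qf c (g *ᵥ y) = splitForm B (2 * m + 1) y := by
  classical
  let v : Unit ⊕ (Fin m ⊕ Fin m) → Fin (2 * m + 1) → B :=
    Sum.elim (fun _ => w) (Sum.elim e f)
  let g : Matrix (Fin (2 * m + 1)) (Fin (2 * m + 1)) B :=
    Matrix.of fun i j => v ((sig m).symm j) i
  have hgx : ∀ y : Fin (2 * m + 1) → B, g *ᵥ y = ∑ α, y (sig m α) • v α := by
    intro y
    ext i
    simp only [Matrix.mulVec, dotProduct, g, Matrix.of_apply, Finset.sum_apply, Pi.smul_apply,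
      smul_eq_mul]
    rw [← Equiv.sum_comp (sig m)]
    refine Finset.sum_congr rfl fun α _ => ?_
    rw [Equiv.symm_apply_apply, mul_comm]
  have hQv : ∀ α, Cf c (v α) (v α) = Jo B m α α := by
    have hqw' : Cf c w w = 1 := hQw
    have hqe' : ∀ l, Cf c (e l) (e l) = 0 := fun l => h.qe l
    have hqf' : ∀ l, Cf c (f l) (f l) = 0 := fun l => h.qf l
    rintro (_ | l | l)
    · simpa [v, Jo] using hqw'
    · simpa [v, Jo, Jm] using hqe' l
    · simpa [v, Jo, Jm] using hqf' l
  have hBv : ∀ α β, Bf c (v α) (v β) = Jo B m α β + Jo B m β α := by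
    rintro (_ | l | l) (_ | l' | l')
    · have h1 := Bf_self c w
      rw [hQw] at h1
      simp only [v, Jo, Sum.elim_inl]
      rw [h1]
      ring
    · simpa [v, Jo] using (hw l').1
    · simpa [v, Jo] using (hw l').2
    · have h1 := (hw l).1
      rw [Bf_comm] at h1
      simpa [v, Jo] using h1
    · simpa [v, Jo, Jm] using h.ee l l'
    · simpa [v, Jo, Jm] using h.ef l l'
    · have h1 := (hw l).2
      rw [Bf_comm] at h1
      simpa [v, Jo] using h1
    · have h1 := h.ef l' l
      rw [Bf_comm] at h1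
      simpa [v, Jo, Jm] using h1
    · simpa [v, Jo, Jm] using h.ff l l'
  refine ⟨g, ?_, ?_⟩
  · -- invertibility through a left quasi-inverse
    let r : Unit ⊕ (Fin m ⊕ Fin m) → Fin (2 * m + 1) → B :=
      Sum.elim (fun _ => c *ᵥ w)
        (Sum.elim (fun l => (c + cᵀ) *ᵥ f l) (fun l => (c + cᵀ) *ᵥ e l))
    let G : Matrix (Unit ⊕ (Fin m ⊕ Fin m)) (Unit ⊕ (Fin m ⊕ Fin m)) B :=
      Matrix.of fun α β => v β (sig m α)
    let H : Matrix (Unit ⊕ (Fin m ⊕ Fin m)) (Unit ⊕ (Fin m ⊕ Fin m)) B :=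
      Matrix.of fun α β => r α (sig m β)
    have hgG : g = G.submatrix (sig m).symm (sig m).symm := by
      ext i j
      simp only [g, G, Matrix.of_apply, Matrix.submatrix_apply, Equiv.apply_symm_apply]
    have hP : ∀ α γ, (H * G) α γ = r α ⬝ᵥ v γ := by
      intro α γ
      simp only [Matrix.mul_apply, H, G, Matrix.of_apply, dotProduct]
      exact Equiv.sum_comp (sig m) (fun i => r α i * v γ i)
    have hr0 : ∀ γ, r (Sum.inl ()) ⬝ᵥ v γ = Cf c (v γ) w := by
      intro γ
      rw [Cf_apply, dotProduct_comm]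
      rfl
    have hr1 : ∀ l γ, r (Sum.inr (Sum.inl l)) ⬝ᵥ v γ = Bf c (v γ) (f l) := by
      intro l γ
      rw [Bf_eq, dotProduct_comm]
      rfl
    have hr2 : ∀ l γ, r (Sum.inr (Sum.inr l)) ⬝ᵥ v γ = Bf c (v γ) (e l) := by
      intro l γ
      rw [Bf_eq, dotProduct_comm]
      rfl
    have hHG : H * G = Matrix.fromBlocks (1 : Matrix Unit Unit B)
        (Matrix.of fun (_ : Unit) γ => r (Sum.inl ()) ⬝ᵥ v (Sum.inr γ)) 0
        (1 : Matrix (Fin m ⊕ Fin m) (Fin m ⊕ Fin m) B) := by
      ext α γ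
      rw [hP]
      rcases α with _ | l | l <;> rcases γ with _ | l' | l'
      · rw [hr0, Matrix.fromBlocks_apply₁₁]
        have hqw' : Cf c w w = 1 := hQw
        simpa [v] using hqw'
      · rw [Matrix.fromBlocks_apply₁₂]
        rfl
      · rw [Matrix.fromBlocks_apply₁₂]
        rfl
      · rw [hr1, Matrix.fromBlocks_apply₂₁]
        simpa [v] using (hw l).2
      · rw [hr1, Matrix.fromBlocks_apply₂₂, Matrix.one_apply]
        have h1 := h.ef l' l
        simp only [v, Sum.elim_inr, Sum.elim_inl, h1, Sum.inl.injEq]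
        simp only [eq_comm]
      · rw [hr1, Matrix.fromBlocks_apply₂₂, Matrix.one_apply]
        have h1 := h.ff l' l
        simp only [v, Sum.elim_inr, h1]
        simp
      · rw [hr2, Matrix.fromBlocks_apply₂₁]
        simpa [v] using (hw l).1
      · rw [hr2, Matrix.fromBlocks_apply₂₂, Matrix.one_apply]
        have h1 := h.ee l' l
        simp only [v, Sum.elim_inr, Sum.elim_inl, h1]
        simp
      · rw [hr2, Matrix.fromBlocks_apply₂₂, Matrix.one_apply]
        have h1 := h.ef l l'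
        rw [Bf_comm] at h1
        simp only [v, Sum.elim_inr, h1, Sum.inr.injEq]
    have hdet : H.det * G.det = 1 := by
      rw [← Matrix.det_mul, hHG, Matrix.det_fromBlocks_zero₂₁, Matrix.det_one, Matrix.det_one,
        one_mul]
    rw [hgG, Matrix.det_submatrix_equiv_self]
    exact IsUnit.of_mul_eq_one_right _ hdet
  · intro y
    rw [hgx, Qf_sum, splitForm_apply]
    have h2 := sum_alt_eq_zero (fun α β => Cf c (v α) (v β) - Jo B m α β)
      (fun α => by rw [hQv, sub_self])
      (fun α β => by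
        have := hBv α β
        rw [Bf_apply] at this
        linear_combination this) (fun α => y (sig m α)) Finset.univ
    have h3 := sum_Jo (fun α => y (sig m α))
    have h4 : ∑ α, ∑ β, Cf c (v α) (v β) * y (sig m α) * y (sig m β) =
        ∑ α, ∑ β, Jo B m α β * y (sig m α) * y (sig m β) := by
      rw [← sub_eq_zero, ← h2, ← Finset.sum_sub_distrib]
      refine Finset.sum_congr rfl fun α _ => ?_
      rw [← Finset.sum_sub_distrib]
      refine Finset.sum_congr rfl fun β _ => ?_
      ring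
    rw [h4, h3]
    rfl

theorem split_of_sqrt (c : Matrix (Fin (2 * m + 1)) (Fin (2 * m + 1)) B)
    (e f : Fin m → Fin (2 * m + 1) → B) (h : HypFam c e f)
    (w : Fin (2 * m + 1) → B) (hw : InW c e f w) (t : B) (ht : IsUnit t)
    (htt : t * t = Qf c w) :
    ∃ g : Matrix (Fin (2 * m + 1)) (Fin (2 * m + 1)) B, IsUnit g.det ∧
      ∀ y, Qf c (g *ᵥ y) = splitForm B (2 * m + 1) y := by
  obtain ⟨s, hs⟩ := ht.exists_left_inv
  refine split_of_family_odd c e f h (s • w) (hw.smul s) ?_
  rw [Qf_smul, ← htt]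
  linear_combination (s * t + 1) * hs

end SplitBasis

end Groth.Agent.Lib.Helper8.QuadOdd
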