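/-
Helper library (helper8): odd-rank semiregular quadratic forms, part D:
adjoining a square root, the fppf-local splitting at a prime, and the global faithfully flat cover.
-/
import Mathlib
import Groth.Agent.Lib.Helper8.QuadOddC

set_option autoImplicit false

open Matrix QuadGrp Polynomial

universe u v

namespace Groth.Agent.Lib.Helper8.QuadOdd

open Groth.Agent.Lib.Helper19.HalfDisc Groth.Agent.Lib.Helper8.QuadSplit

section Sqrt

theorem exists_sqrt_ext {B : Type u} [CommRing B] (u : B) (hu : IsUnit u) (q : Ideal B)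
    [hq : q.IsPrime] :
    ∃ (B' : Type u) (_ : CommRing B') (_ : Algebra B B'), Module.Flat B B' ∧
      Algebra.FinitePresentation B B' ∧
      (∃ (q' : Ideal B') (_ : q'.IsPrime), q'.comap (algebraMap B B') = q) ∧
      ∃ t : B', IsUnit t ∧ t * t = algebraMap B B' u := by
  classical
  haveI : Nontrivial B := by
    refine ⟨⟨0, 1, fun h01 => hq.ne_top ?_⟩⟩
    rw [Ideal.eq_top_iff_one, ← h01]
    exact q.zero_mem
  have hmonic : (X ^ 2 - C u : B[X]).Monic := monic_X_pow_sub_C u two_ne_zero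
  haveI : Module.Free B (AdjoinRoot (X ^ 2 - C u : B[X])) := hmonic.free_adjoinRoot
  haveI : Module.Finite B (AdjoinRoot (X ^ 2 - C u : B[X])) := hmonic.finite_adjoinRoot
  haveI : Nontrivial (AdjoinRoot (X ^ 2 - C u : B[X])) := by
    have hdim : (AdjoinRoot.powerBasis' hmonic).dim = 2 := by
      rw [AdjoinRoot.powerBasis'_dim, natDegree_X_pow_sub_C]
    exact ⟨⟨(AdjoinRoot.powerBasis' hmonic).basis ⟨0, by omega⟩, 0, Module.Basis.ne_zero _ _⟩⟩
  have htt : AdjoinRoot.root (X ^ 2 - C u : B[X]) * AdjoinRoot.root (X ^ 2 - C u : B[X]) =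
      algebraMap B _ u := by
    have h1 := AdjoinRoot.eval₂_root (X ^ 2 - C u : B[X])
    rw [eval₂_sub, eval₂_pow, eval₂_X, eval₂_C, sub_eq_zero] at h1
    rw [AdjoinRoot.algebraMap_eq, ← h1]
    exact (pow_two _).symm
  refine ⟨AdjoinRoot (X ^ 2 - C u : B[X]), inferInstance, inferInstance, inferInstance,
    inferInstance, ?_, AdjoinRoot.root _, ?_, htt⟩
  · obtain ⟨⟨Q, hQ1, hQ2⟩⟩ :=
      Ideal.nonempty_primesOver (S := AdjoinRoot (X ^ 2 - C u : B[X])) q
    exact ⟨Q, hQ1, hQ2.over.symm⟩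
  · have h1 : IsUnit (algebraMap B (AdjoinRoot (X ^ 2 - C u : B[X])) u) := hu.map _
    rw [← htt] at h1
    exact isUnit_of_mul_isUnit_left h1

end Sqrt

section LocalSplit

variable {R : Type u} [CommRing R] {m : ℕ}

theorem local_split_odd (a : Sym2 (Fin (2 * m + 1)) → R) (ha : IsUnit (hd a))
    (p : Ideal R) [hp : p.IsPrime] :
    ∃ (B : Type u) (_ : CommRing B) (_ : Algebra R B), Module.Flat R B ∧
      Algebra.FinitePresentation R B ∧
      (∃ q : PrimeSpectrum B, q.asIdeal.comap (algebraMap R B) = p) ∧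
      ∃ g : Matrix (Fin (2 * m + 1)) (Fin (2 * m + 1)) B, IsUnit g.det ∧
        ∀ y, Qf ((um a).map (algebraMap R B)) (g *ᵥ y) = splitForm B (2 * m + 1) y := by
  classical
  obtain ⟨B₀, iB₀, iRB₀, hEt₀, q₀, hq₀, hq₀p, e, f, h⟩ := local_family_odd a ha p
  haveI := hq₀
  haveI := hEt₀
  have ha₀ : hd ((algebraMap R B₀) ∘ a) ∉ q₀ := by
    rw [hd_map]
    intro hmem
    exact hq₀.ne_top (Ideal.eq_top_of_isUnit_mem _ hmem (ha.map _))
  have h' : HypFam (um ((algebraMap R B₀) ∘ a)) e f := by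
    rw [um_map]
    exact h
  obtain ⟨w, hw, hu⟩ := exists_Qf_not_mem_odd _ q₀ ha₀ e f h'
  rw [um_map] at hw hu
  obtain ⟨q₁, hq₁, hq₁q⟩ := exists_prime_away q₀ _ hu
  haveI := hq₁
  obtain ⟨B₂, iB₂, iB₁₂, hfl, hfp, ⟨q₂, hq₂, hq₂q⟩, t, ht, htt⟩ :=
    exists_sqrt_ext (algebraMap B₀ (Localization.Away (Qf ((um a).map (algebraMap R B₀)) w))
      (Qf ((um a).map (algebraMap R B₀)) w)) (IsLocalization.Away.algebraMap_isUnit _) q₁
  letI : Algebra R B₂ := ((algebraMap (Localization.Away (Qf ((um a).map (algebraMap R B₀)) w))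
    B₂).comp (algebraMap R (Localization.Away (Qf ((um a).map (algebraMap R B₀)) w)))).toAlgebra
  haveI : IsScalarTower R (Localization.Away (Qf ((um a).map (algebraMap R B₀)) w)) B₂ :=
    IsScalarTower.of_algebraMap_eq (fun _ => rfl)
  haveI := hfl
  haveI := hfp
  have hflR : Module.Flat R B₂ :=
    Module.Flat.trans R (Localization.Away (Qf ((um a).map (algebraMap R B₀)) w)) B₂
  have hfpR : Algebra.FinitePresentation R B₂ :=
    Algebra.FinitePresentation.trans R
      (Localization.Away (Qf ((um a).map (algebraMap R B₀)) w)) B₂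
  let ρ : B₀ →+* B₂ := (algebraMap (Localization.Away (Qf ((um a).map (algebraMap R B₀)) w))
    B₂).comp (algebraMap B₀ (Localization.Away (Qf ((um a).map (algebraMap R B₀)) w)))
  have hρ : ∀ x, ρ (algebraMap R B₀ x) = algebraMap R B₂ x := by
    intro x
    show algebraMap (Localization.Away (Qf ((um a).map (algebraMap R B₀)) w)) B₂
      (algebraMap B₀ (Localization.Away (Qf ((um a).map (algebraMap R B₀)) w))
        (algebraMap R B₀ x)) =
      algebraMap (Localization.Away (Qf ((um a).map (algebraMap R B₀)) w)) B₂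
        (algebraMap R (Localization.Away (Qf ((um a).map (algebraMap R B₀)) w)) x)
    rw [← IsScalarTower.algebraMap_apply R B₀
      (Localization.Away (Qf ((um a).map (algebraMap R B₀)) w))]
  have hc : (um a).map (algebraMap R B₂) = ((um a).map (algebraMap R B₀)).map ρ := by
    ext i j
    simp only [Matrix.map_apply]
    exact (hρ _).symm
  refine ⟨B₂, iB₂, inferInstance, hflR, hfpR, ⟨⟨q₂, hq₂⟩, ?_⟩, ?_⟩
  · show q₂.comap (algebraMap R B₂) = p
    rw [IsScalarTower.algebraMap_eq R (Localization.Away (Qf ((um a).map (algebraMap R B₀)) w))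
      B₂, ← Ideal.comap_comap, hq₂q,
      IsScalarTower.algebraMap_eq R B₀ (Localization.Away (Qf ((um a).map (algebraMap R B₀)) w)),
      ← Ideal.comap_comap, hq₁q, hq₀p]
  · rw [hc]
    refine split_of_sqrt _ _ _ (h.mv ρ) (QuadSplit.mv ρ w) (hw.mv ρ) t ht ?_
    rw [htt, Qf_mv]
    rfl

end LocalSplit

section Global

variable {R : Type u} [CommRing R] {m : ℕ}

theorem global_split_odd (a : Sym2 (Fin (2 * m + 1)) → R) (ha : IsUnit (hd a)) :
    ∃ (A : Type u) (_ : CommRing A) (_ : Algebra R A), Module.FaithfullyFlat R A ∧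
      Algebra.FinitePresentation R A ∧
      ∃ g : Matrix (Fin (2 * m + 1)) (Fin (2 * m + 1)) A, IsUnit g.det ∧
        ∀ y, Qf ((um a).map (algebraMap R A)) (g *ᵥ y) = splitForm A (2 * m + 1) y := by
  classical
  have hloc := fun p : PrimeSpectrum R => local_split_odd a ha p.asIdeal
  choose Bp iCR iAlg hFl hFp hq g hg hgy using hloc
  let U : PrimeSpectrum R → Set (PrimeSpectrum R) := fun p =>
    Set.range (PrimeSpectrum.comap (algebraMap R (Bp p)))
  have hUo : ∀ p, IsOpen (U p) := fun p => by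
    haveI := hFl p
    haveI := hFp p
    exact (PrimeSpectrum.isOpenMap_comap_of_hasGoingDown_of_finitePresentation).isOpen_range
  have hUc : (Set.univ : Set (PrimeSpectrum R)) ⊆ ⋃ p, U p := by
    intro p _
    obtain ⟨q, hq'⟩ := hq p
    exact Set.mem_iUnion.2 ⟨p, q, PrimeSpectrum.ext hq'⟩
  obtain ⟨s, hs⟩ := isCompact_univ.elim_finite_subcover U hUo hUc
  let pt : Fin s.card → PrimeSpectrum R := fun t => (s.equivFin.symm t : PrimeSpectrum R)
  haveI : ∀ t, Module.Flat R (Bp (pt t)) := fun t => hFl (pt t)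
  haveI : ∀ t, Algebra.FinitePresentation R (Bp (pt t)) := fun t => hFp (pt t)
  haveI hflat : Module.Flat R (∀ t, Bp (pt t)) :=
    Module.Flat.of_linearEquiv
      (DFinsupp.linearEquivFunOnFintype (R := R) (M := fun t => Bp (pt t))).symm
  have hsurj : Function.Surjective
      (PrimeSpectrum.comap (algebraMap R (∀ t, Bp (pt t)))) := by
    intro p
    have hp := hs (Set.mem_univ p)
    simp only [Set.mem_iUnion] at hp
    obtain ⟨p', hp's, q, hq'⟩ := hp
    obtain ⟨t, rfl⟩ : ∃ t, pt t = p' := ⟨s.equivFin ⟨p', hp's⟩, by simp [pt]⟩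
    refine ⟨PrimeSpectrum.comap (Pi.evalRingHom (fun t => Bp (pt t)) t) q, ?_⟩
    rw [← hq']
    rfl
  refine ⟨∀ t, Bp (pt t), inferInstance, inferInstance,
    Module.FaithfullyFlat.of_comap_surjective hsurj, inferInstance,
    Matrix.of fun i j t => g (pt t) i j, ?_, ?_⟩
  · rw [Pi.isUnit_iff]
    intro t
    have h1 : ((Matrix.of fun i j t => g (pt t) i j :
        Matrix (Fin (2 * m + 1)) (Fin (2 * m + 1)) (∀ t, Bp (pt t))).det) t =
        (g (pt t)).det := by
      have h2 := RingHom.map_det (Pi.evalRingHom (fun t => Bp (pt t)) t)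
        (Matrix.of fun i j t => g (pt t) i j :
          Matrix (Fin (2 * m + 1)) (Fin (2 * m + 1)) (∀ t, Bp (pt t)))
      rw [Pi.evalRingHom_apply] at h2
      rw [h2]
      rfl
    rw [h1]
    exact hg (pt t)
  · intro y
    funext t
    have h1 := Qf_map (Pi.evalRingHom (fun t => Bp (pt t)) t)
      ((um a).map (algebraMap R (∀ t, Bp (pt t))))
      ((Matrix.of fun i j t => g (pt t) i j :
          Matrix (Fin (2 * m + 1)) (Fin (2 * m + 1)) (∀ t, Bp (pt t))) *ᵥ y)
    rw [Pi.evalRingHom_apply] at h1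
    rw [← h1]
    have h2 := splitForm_map m (Pi.evalRingHom (fun t => Bp (pt t)) t) y
    rw [Pi.evalRingHom_apply] at h2
    rw [h2, ← hgy (pt t)]
    congr 1
    funext i
    have h3 := RingHom.map_mulVec (Pi.evalRingHom (fun t => Bp (pt t)) t)
      (Matrix.of fun i j t => g (pt t) i j :
          Matrix (Fin (2 * m + 1)) (Fin (2 * m + 1)) (∀ t, Bp (pt t))) y i
    rw [h3]
    rfl

end Global

end Groth.Agent.Lib.Helper8.QuadOdd
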