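import Mathlib

set_option autoImplicit false
universe u v

namespace Groth.Agent.Lib.Helper8

section QC

variable {X : Type u} [TopologicalSpace X]

/-- quasi-constructible: finite union of locally closed subsets -/
def IsQC (Z : Set X) : Prop :=
  ∃ T : Set (Set X), T.Finite ∧ (∀ t ∈ T, IsLocallyClosed t) ∧ Z = ⋃₀ T

/-- locally quasi-constructible -/
def IsLQC (Z : Set X) : Prop :=
  ∀ x : X, ∃ U : Set X, IsOpen U ∧ x ∈ U ∧
    ∃ T : Set (Set X), T.Finite ∧ (∀ t ∈ T, IsLocallyClosed t) ∧ U ∩ Z = ⋃₀ T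

theorem IsQC.of_isLocallyClosed {Z : Set X} (h : IsLocallyClosed Z) : IsQC Z :=
  ⟨{Z}, Set.finite_singleton Z, fun t ht => by rw [Set.mem_singleton_iff.mp ht]; exact h,
    (Set.sUnion_singleton Z).symm⟩

theorem IsQC.empty : IsQC (∅ : Set X) :=
  ⟨∅, Set.finite_empty, fun t ht => absurd ht (Set.notMem_empty t), Set.sUnion_empty.symm⟩

theorem IsQC.univ : IsQC (Set.univ : Set X) := IsQC.of_isLocallyClosed isOpen_univ.isLocallyClosed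

theorem IsQC.union {Z Z' : Set X} (h : IsQC Z) (h' : IsQC Z') : IsQC (Z ∪ Z') := by
  obtain ⟨T, hT, hTl, rfl⟩ := h
  obtain ⟨T', hT', hTl', rfl⟩ := h'
  refine ⟨T ∪ T', hT.union hT', ?_, (Set.sUnion_union T T').symm⟩
  rintro t (ht | ht)
  · exact hTl t ht
  · exact hTl' t ht

theorem IsQC.inter {Z Z' : Set X} (h : IsQC Z) (h' : IsQC Z') : IsQC (Z ∩ Z') := by
  obtain ⟨T, hT, hTl, rfl⟩ := h
  obtain ⟨T', hT', hTl', rfl⟩ := h'
  refine ⟨Set.image2 (· ∩ ·) T T', hT.image2 _ hT', ?_, ?_⟩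
  · rintro _ ⟨t, ht, t', ht', rfl⟩
    exact (hTl t ht).inter (hTl' t' ht')
  · ext x
    simp only [Set.mem_inter_iff, Set.mem_sUnion, Set.mem_image2]
    constructor
    · rintro ⟨⟨t, ht, hxt⟩, ⟨t', ht', hxt'⟩⟩
      exact ⟨t ∩ t', ⟨t, ht, t', ht', rfl⟩, hxt, hxt'⟩
    · rintro ⟨_, ⟨t, ht, t', ht', rfl⟩, hxt, hxt'⟩
      exact ⟨⟨t, ht, hxt⟩, ⟨t', ht', hxt'⟩⟩

theorem IsQC.compl_of_isLocallyClosed {Z : Set X} (h : IsLocallyClosed Z) : IsQC Zᶜ := by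
  obtain ⟨U, F, hU, hF, rfl⟩ := h
  rw [Set.compl_inter]
  exact (IsQC.of_isLocallyClosed hU.isClosed_compl.isLocallyClosed).union
    (IsQC.of_isLocallyClosed hF.isOpen_compl.isLocallyClosed)

theorem IsQC.compl {Z : Set X} (h : IsQC Z) : IsQC Zᶜ := by
  obtain ⟨T, hT, hTl, rfl⟩ := h
  induction T, hT using Set.Finite.induction_on with
  | empty => rw [Set.sUnion_empty, Set.compl_empty]; exact IsQC.univ
  | @insert a s _ _ ih =>
    rw [Set.sUnion_insert, Set.compl_union]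
    exact (IsQC.compl_of_isLocallyClosed (hTl a (Set.mem_insert a s))).inter
      (ih fun t ht => hTl t (Set.mem_insert_of_mem a ht))

theorem IsQC.diff {Z Z' : Set X} (h : IsQC Z) (h' : IsQC Z') : IsQC (Z \ Z') :=
  h.inter h'.compl

theorem IsQC.isLQC {Z : Set X} (h : IsQC Z) : IsLQC Z := by
  intro x
  obtain ⟨T, hT, hTl, hZ⟩ := h
  exact ⟨Set.univ, isOpen_univ, trivial, T, hT, hTl, by rw [Set.univ_inter]; exact hZ⟩

theorem IsLQC.exists_nhd {Z : Set X} (h : IsLQC Z) (x : X) :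
    ∃ U : Set X, IsOpen U ∧ x ∈ U ∧ IsQC (U ∩ Z) := by
  obtain ⟨U, hU, hxU, T, hT, hTl, hZ⟩ := h x
  exact ⟨U, hU, hxU, T, hT, hTl, hZ⟩

theorem isLQC_of_forall_exists_nhd {Z : Set X}
    (h : ∀ x : X, ∃ U : Set X, IsOpen U ∧ x ∈ U ∧ IsQC (U ∩ Z)) : IsLQC Z := by
  intro x
  obtain ⟨U, hU, hxU, T, hT, hTl, hZ⟩ := h x
  exact ⟨U, hU, hxU, T, hT, hTl, hZ⟩

/-- a common neighbourhood for two LQC sets -/
theorem IsLQC.exists_nhd₂ {Z Z' : Set X} (h : IsLQC Z) (h' : IsLQC Z') (x : X) :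
    ∃ U : Set X, IsOpen U ∧ x ∈ U ∧ IsQC (U ∩ Z) ∧ IsQC (U ∩ Z') := by
  obtain ⟨U, hU, hxU, hq⟩ := h.exists_nhd x
  obtain ⟨U', hU', hxU', hq'⟩ := h'.exists_nhd x
  refine ⟨U ∩ U', hU.inter hU', ⟨hxU, hxU'⟩, ?_, ?_⟩
  · have : U ∩ U' ∩ Z = (U ∩ Z) ∩ U' := by ext; simp only [Set.mem_inter_iff]; tauto
    rw [this]
    exact hq.inter (IsQC.of_isLocallyClosed hU'.isLocallyClosed)
  · have : U ∩ U' ∩ Z' = (U' ∩ Z') ∩ U := by ext; simp only [Set.mem_inter_iff]; tauto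
    rw [this]
    exact hq'.inter (IsQC.of_isLocallyClosed hU.isLocallyClosed)

theorem IsLQC.inter {Z Z' : Set X} (h : IsLQC Z) (h' : IsLQC Z') : IsLQC (Z ∩ Z') := by
  apply isLQC_of_forall_exists_nhd
  intro x
  obtain ⟨U, hU, hxU, hq, hq'⟩ := h.exists_nhd₂ h' x
  refine ⟨U, hU, hxU, ?_⟩
  have : U ∩ (Z ∩ Z') = (U ∩ Z) ∩ (U ∩ Z') := by ext; simp only [Set.mem_inter_iff]; tauto
  rw [this]
  exact hq.inter hq'

theorem IsLQC.diff {Z Z' : Set X} (h : IsLQC Z) (h' : IsLQC Z') : IsLQC (Z \ Z') := by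
  apply isLQC_of_forall_exists_nhd
  intro x
  obtain ⟨U, hU, hxU, hq, hq'⟩ := h.exists_nhd₂ h' x
  refine ⟨U, hU, hxU, ?_⟩
  have : U ∩ (Z \ Z') = (U ∩ Z) \ (U ∩ Z') := by
    ext; simp only [Set.mem_inter_iff, Set.mem_diff]; tauto
  rw [this]
  exact hq.diff hq'

theorem IsLQC.of_isOpen {U : Set X} (h : IsOpen U) : IsLQC U :=
  (IsQC.of_isLocallyClosed h.isLocallyClosed).isLQC

theorem IsLQC.of_isLocallyClosed {U : Set X} (h : IsLocallyClosed U) : IsLQC U :=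
  (IsQC.of_isLocallyClosed h).isLQC

/-- `X₀` is very dense: every nonempty locally closed set meets it. -/
def IsVeryDense (X₀ : Set X) : Prop :=
  ∀ Z : Set X, IsLocallyClosed Z → Z.Nonempty → (Z ∩ X₀).Nonempty

theorem IsVeryDense.inter_nonempty_of_isQC {X₀ : Set X} (h : IsVeryDense X₀) {Z : Set X}
    (hZ : IsQC Z) (hne : Z.Nonempty) : (Z ∩ X₀).Nonempty := by
  obtain ⟨T, hT, hTl, rfl⟩ := hZ
  obtain ⟨z, t, ht, hzt⟩ := hne
  obtain ⟨w, hwt, hw0⟩ := h t (hTl t ht) ⟨z, hzt⟩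
  exact ⟨w, ⟨t, ht, hwt⟩, hw0⟩

theorem IsVeryDense.inter_nonempty_of_isLQC {X₀ : Set X} (h : IsVeryDense X₀) {Z : Set X}
    (hZ : IsLQC Z) (hne : Z.Nonempty) : (Z ∩ X₀).Nonempty := by
  obtain ⟨z, hz⟩ := hne
  obtain ⟨U, hU, hzU, hq⟩ := hZ.exists_nhd z
  obtain ⟨w, ⟨_, hwZ⟩, hw0⟩ := h.inter_nonempty_of_isQC hq ⟨z, hzU, hz⟩
  exact ⟨w, hwZ, hw0⟩

theorem IsVeryDense.eq_of_isLQC {X₀ : Set X} (h : IsVeryDense X₀) {Z Z' : Set X}
    (hZ : IsLQC Z) (hZ' : IsLQC Z') (e : Z ∩ X₀ = Z' ∩ X₀) : Z = Z' := by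
  have key : ∀ {A B : Set X}, IsLQC A → IsLQC B → A ∩ X₀ = B ∩ X₀ → A ⊆ B := by
    intro A B hA hB e
    by_contra hne
    obtain ⟨a, haA, haB⟩ := Set.not_subset.mp hne
    obtain ⟨w, ⟨hwA, hwB⟩, hw0⟩ := h.inter_nonempty_of_isLQC (hA.diff hB) ⟨a, haA, haB⟩
    have : w ∈ A ∩ X₀ := ⟨hwA, hw0⟩
    rw [e] at this
    exact hwB this.1
  exact Set.Subset.antisymm (key hZ hZ' e) (key hZ' hZ e.symm)

end QC

end Groth.Agent.Lib.Helper8
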