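import Groth.Agent.Lib.Helper8.QuasiHomeo

set_option autoImplicit false
universe u v

open scoped Set.Notation

namespace Groth.Agent.Lib.Helper8

section QH

variable {X Y : Type u} [TopologicalSpace X] [TopologicalSpace Y]

/-- quasi-homeomorphism, in the "preimage is a bijection on opens" form, unbundled -/
def IsQH (f : X → Y) : Prop :=
  (∀ U₁ U₂ : Set Y, IsOpen U₁ → IsOpen U₂ → f ⁻¹' U₁ = f ⁻¹' U₂ → U₁ = U₂) ∧
  (∀ V : Set X, IsOpen V → ∃ U : Set Y, IsOpen U ∧ f ⁻¹' U = V)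

theorem isQH_of_bijective (f : X → Y) (hf : Continuous f)
    (hq : Function.Bijective (fun U : TopologicalSpace.Opens Y =>
      (⟨f ⁻¹' (U : Set Y), U.isOpen.preimage hf⟩ : TopologicalSpace.Opens X))) : IsQH f := by
  refine ⟨fun U₁ U₂ h₁ h₂ e => ?_, fun V hV => ?_⟩
  · have := @hq.1 ⟨U₁, h₁⟩ ⟨U₂, h₂⟩ (TopologicalSpace.Opens.ext e)
    exact congrArg (fun U : TopologicalSpace.Opens Y => (U : Set Y)) this
  · obtain ⟨U, hU⟩ := hq.2 ⟨V, hV⟩
    exact ⟨U, U.isOpen, congrArg (fun U : TopologicalSpace.Opens X => (U : Set X)) hU⟩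

theorem IsQH.subset_of_preimage_subset {f : X → Y} (h : IsQH f) {U₁ U₂ : Set Y}
    (h₁ : IsOpen U₁) (h₂ : IsOpen U₂) (e : f ⁻¹' U₁ ⊆ f ⁻¹' U₂) : U₁ ⊆ U₂ := by
  have : U₁ ∪ U₂ = U₂ := h.1 _ _ (h₁.union h₂) h₂
    (by rw [Set.preimage_union]; exact Set.union_eq_self_of_subset_left e)
  rw [← this]; exact Set.subset_union_left

theorem IsQH.isVeryDense_range {f : X → Y} (h : IsQH f) : IsVeryDense (Set.range f) := by
  rintro Z ⟨U, F, hU, hF, rfl⟩ ⟨z, hzU, hzF⟩
  by_contra hne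
  rw [Set.not_nonempty_iff_eq_empty] at hne
  have hsub : U ⊆ Fᶜ ∩ U := by
    apply h.subset_of_preimage_subset hU (hF.isOpen_compl.inter hU)
    intro x hx
    refine ⟨fun hxF => ?_, hx⟩
    have hmem : f x ∈ U ∩ F ∩ Set.range f := ⟨⟨hx, hxF⟩, x, rfl⟩
    rw [hne] at hmem; exact hmem
  exact (hsub hzU).1 hzF

theorem IsQH.preimage_injOn_isLQC {f : X → Y} (h : IsQH f) {Z Z' : Set Y} (hZ : IsLQC Z)
    (hZ' : IsLQC Z') (e : f ⁻¹' Z = f ⁻¹' Z') : Z = Z' := by
  apply h.isVeryDense_range.eq_of_isLQC hZ hZ'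
  rw [← Set.image_preimage_eq_inter_range, ← Set.image_preimage_eq_inter_range, e]

theorem IsQH.restrictPreimage {f : X → Y} (h : IsQH f) {Y' : Set Y} (hY' : IsLQC Y') :
    IsQH (Y'.restrictPreimage f) := by
  refine ⟨fun U₁ U₂ h₁ h₂ e => ?_, fun V hV => ?_⟩
  · obtain ⟨W₁, hW₁, rfl⟩ := isOpen_induced_iff.mp h₁
    obtain ⟨W₂, hW₂, rfl⟩ := isOpen_induced_iff.mp h₂
    have key : W₁ ∩ Y' = W₂ ∩ Y' := by
      apply h.preimage_injOn_isLQC ((IsLQC.of_isOpen hW₁).inter hY')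
        ((IsLQC.of_isOpen hW₂).inter hY')
      ext x
      constructor
      · rintro ⟨hx1, hx2⟩
        have hm : (⟨x, hx2⟩ : f ⁻¹' Y') ∈
            (Y'.restrictPreimage f) ⁻¹' (Subtype.val ⁻¹' W₁) := hx1
        rw [e] at hm
        exact ⟨hm, hx2⟩
      · rintro ⟨hx1, hx2⟩
        have hm : (⟨x, hx2⟩ : f ⁻¹' Y') ∈
            (Y'.restrictPreimage f) ⁻¹' (Subtype.val ⁻¹' W₂) := hx1
        rw [← e] at hm
        exact ⟨hm, hx2⟩
    ext ⟨y, hy⟩
    constructor
    · intro hy1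
      have hm : y ∈ W₁ ∩ Y' := ⟨hy1, hy⟩
      rw [key] at hm; exact hm.1
    · intro hy1
      have hm : y ∈ W₂ ∩ Y' := ⟨hy1, hy⟩
      rw [← key] at hm; exact hm.1
  · obtain ⟨V₀, hV₀, rfl⟩ := isOpen_induced_iff.mp hV
    obtain ⟨U₀, hU₀, rfl⟩ := h.2 V₀ hV₀
    exact ⟨Subtype.val ⁻¹' U₀, hU₀.preimage continuous_subtype_val, rfl⟩

theorem isQH_of_openCover {f : X → Y} {ι : Type v} (W : ι → Set Y) (hWo : ∀ i, IsOpen (W i))
    (hWc : ⋃ i, W i = Set.univ) (h : ∀ i, IsQH ((W i).restrictPreimage f)) : IsQH f := by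
  have hcov : ∀ y : Y, ∃ i, y ∈ W i := fun y =>
    Set.mem_iUnion.mp (hWc ▸ Set.mem_univ y)
  refine ⟨fun U₁ U₂ h₁ h₂ e => ?_, fun V hV => ?_⟩
  · have key : ∀ i, (Subtype.val ⁻¹' U₁ : Set (W i)) = Subtype.val ⁻¹' U₂ := by
      intro i
      apply (h i).1 _ _ (h₁.preimage continuous_subtype_val) (h₂.preimage continuous_subtype_val)
      show Subtype.val ⁻¹' (f ⁻¹' U₁) = Subtype.val ⁻¹' (f ⁻¹' U₂)
      rw [e]
    ext y
    obtain ⟨i, hi⟩ := hcov y
    exact Set.ext_iff.mp (key i) ⟨y, hi⟩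
  · have hex : ∀ i, ∃ U : Set (W i), IsOpen U ∧
        ((W i).restrictPreimage f) ⁻¹' U = Subtype.val ⁻¹' V :=
      fun i => (h i).2 _ (hV.preimage continuous_subtype_val)
    choose U hUo hU using hex
    refine ⟨⋃ i, Subtype.val '' (U i),
      isOpen_iUnion fun i => (hWo i).isOpenMap_subtype_val _ (hUo i), ?_⟩
    ext x
    constructor
    · intro hx
      obtain ⟨i, ⟨y, hy⟩, hyU, (hyx : y = f x)⟩ := Set.mem_iUnion.mp hx
      subst hyx
      have hm : (⟨x, hy⟩ : f ⁻¹' W i) ∈ ((W i).restrictPreimage f) ⁻¹' (U i) := hyU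
      rw [hU i] at hm
      exact hm
    · intro hxV
      obtain ⟨i, hi⟩ := hcov (f x)
      have hm : (⟨x, hi⟩ : f ⁻¹' W i) ∈ (Subtype.val ⁻¹' V : Set (f ⁻¹' W i)) := hxV
      rw [← hU i] at hm
      exact Set.mem_iUnion.mpr ⟨i, ⟨f x, hi⟩, hm, rfl⟩

theorem IsQH.isCompact_preimage_iff {f : X → Y} (h : IsQH f) (hf : Continuous f) {U : Set Y}
    (hU : IsOpen U) : IsCompact (f ⁻¹' U) ↔ IsCompact U := by
  constructor
  · intro hc
    rw [isCompact_iff_finite_subcover]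
    intro ι W hWo hUW
    obtain ⟨s, hs⟩ := hc.elim_finite_subcover (fun i => f ⁻¹' W i)
      (fun i => (hWo i).preimage hf)
      (by rw [← Set.preimage_iUnion]; exact Set.preimage_mono hUW)
    refine ⟨s, ?_⟩
    apply h.subset_of_preimage_subset hU (isOpen_biUnion fun i _ => hWo i)
    rw [Set.preimage_iUnion₂]; exact hs
  · intro hc
    rw [isCompact_iff_finite_subcover]
    intro ι V hVo hUV
    choose W hWo hW using fun i => h.2 (V i) (hVo i)
    have hUW : U ⊆ ⋃ i, W i := by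
      apply h.subset_of_preimage_subset hU (isOpen_iUnion hWo)
      rw [Set.preimage_iUnion]; simp_rw [hW]; exact hUV
    obtain ⟨s, hs⟩ := hc.elim_finite_subcover W hWo hUW
    refine ⟨s, ?_⟩
    have hpre := Set.preimage_mono (f := f) hs
    rw [Set.preimage_iUnion₂] at hpre
    simp_rw [hW] at hpre
    exact hpre

theorem IsQH.isCompact_preimage_iff_of_isLQC {f : X → Y} (h : IsQH f) (hf : Continuous f)
    {Y' : Set Y} (hY' : IsLQC Y') : IsCompact (f ⁻¹' Y') ↔ IsCompact Y' := by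
  rw [isCompact_iff_isCompact_univ, isCompact_iff_isCompact_univ (s := Y')]
  have := (h.restrictPreimage hY').isCompact_preimage_iff hf.restrictPreimage isOpen_univ
  rwa [Set.preimage_univ] at this

theorem IsQH.noetherianSpace_iff {f : X → Y} (h : IsQH f) (hf : Continuous f) :
    TopologicalSpace.NoetherianSpace X ↔ TopologicalSpace.NoetherianSpace Y := by
  rw [TopologicalSpace.noetherianSpace_iff_opens, TopologicalSpace.noetherianSpace_iff_opens]
  constructor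
  · intro hX U
    exact (h.isCompact_preimage_iff hf U.isOpen).mp (hX ⟨f ⁻¹' U, U.isOpen.preimage hf⟩)
  · intro hY V
    obtain ⟨U, hU, hUV⟩ := h.2 V V.isOpen
    have := (h.isCompact_preimage_iff hf hU).mpr (hY ⟨U, hU⟩)
    rw [hUV] at this; exact this

theorem IsQH.retrocompact_iff {f : X → Y} (h : IsQH f) (hf : Continuous f) {Y' : Set Y}
    (hY' : IsLQC Y') :
    (∀ U : Set Y, IsOpen U → IsCompact U → IsCompact (U ∩ Y')) ↔
      (∀ V : Set X, IsOpen V → IsCompact V → IsCompact (V ∩ f ⁻¹' Y')) := by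
  constructor
  · intro H V hV hVc
    obtain ⟨U, hU, rfl⟩ := h.2 V hV
    have hUc := (h.isCompact_preimage_iff hf hU).mp hVc
    rw [← Set.preimage_inter]
    exact (h.isCompact_preimage_iff_of_isLQC hf ((IsLQC.of_isOpen hU).inter hY')).mpr
      (H U hU hUc)
  · intro H U hU hUc
    have := H (f ⁻¹' U) (hU.preimage hf) ((h.isCompact_preimage_iff hf hU).mpr hUc)
    rw [← Set.preimage_inter] at this
    exact (h.isCompact_preimage_iff_of_isLQC hf ((IsLQC.of_isOpen hU).inter hY')).mp this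

theorem IsQH.exists_isLocallyClosed_preimage_eq {f : X → Y} (h : IsQH f) {Z : Set X}
    (hZ : IsLocallyClosed Z) : ∃ Z' : Set Y, IsLocallyClosed Z' ∧ f ⁻¹' Z' = Z := by
  obtain ⟨V, C, hV, hC, rfl⟩ := hZ
  obtain ⟨U, hU, rfl⟩ := h.2 V hV
  obtain ⟨W, hW, hWC⟩ := h.2 Cᶜ hC.isOpen_compl
  refine ⟨U ∩ Wᶜ, hU.isLocallyClosed.inter hW.isClosed_compl.isLocallyClosed, ?_⟩
  rw [Set.preimage_inter, Set.preimage_compl, hWC, compl_compl]

theorem IsQH.isRetrocompact_preimage_iff {f : X → Y} (h : IsQH f) (hf : Continuous f)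
    {U : Set Y} (hU : IsOpen U) : IsRetrocompact (f ⁻¹' U) ↔ IsRetrocompact U := by
  constructor
  · intro hr U' hU'c hU'o
    have := hr ((h.isCompact_preimage_iff hf hU'o).mpr hU'c) (hU'o.preimage hf)
    rw [← Set.preimage_inter] at this
    exact (h.isCompact_preimage_iff hf (hU.inter hU'o)).mp this
  · intro hr V hVc hVo
    obtain ⟨U', hU', rfl⟩ := h.2 V hVo
    rw [← Set.preimage_inter]
    exact (h.isCompact_preimage_iff hf (hU.inter hU')).mpr
      (hr ((h.isCompact_preimage_iff hf hU').mp hVc) hU')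

theorem IsQH.isConstructible_preimage {f : X → Y} (h : IsQH f) (hf : Continuous f) {Z : Set Y}
    (hZ : Topology.IsConstructible Z) : Topology.IsConstructible (f ⁻¹' Z) :=
  hZ.preimage hf fun _ hs hr => (h.isRetrocompact_preimage_iff hf hs).mpr hr

theorem IsQH.exists_isConstructible_preimage_eq {f : X → Y} (h : IsQH f) (hf : Continuous f)
    {Z : Set X} (hZ : Topology.IsConstructible Z) :
    ∃ Z' : Set Y, Topology.IsConstructible Z' ∧ f ⁻¹' Z' = Z := by
  induction hZ using Topology.IsConstructible.empty_union_induction with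
  | open_retrocompact V hVo hVc =>
    obtain ⟨U, hU, rfl⟩ := h.2 V hVo
    exact ⟨U, ((h.isRetrocompact_preimage_iff hf hU).mp hVc).isConstructible hU, rfl⟩
  | union s hs t ht hs' ht' =>
    obtain ⟨s', hs', rfl⟩ := hs'
    obtain ⟨t', ht', rfl⟩ := ht'
    exact ⟨s' ∪ t', hs'.union ht', Set.preimage_union⟩
  | compl s hs hs' =>
    obtain ⟨s', hs', rfl⟩ := hs'
    exact ⟨s'ᶜ, hs'.compl, Set.preimage_compl⟩

theorem isQC_of_isConstructible {Z : Set X} (hZ : Topology.IsConstructible Z) : IsQC Z := by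
  induction hZ using Topology.IsConstructible.empty_union_induction with
  | open_retrocompact U hUo _ => exact IsQC.of_isLocallyClosed hUo.isLocallyClosed
  | union s _ t _ hs' ht' => exact hs'.union ht'
  | compl s _ hs' => exact hs'.compl

theorem IsQC.image_val_of_isOpen {U : Set X} (hU : IsOpen U) {Z : Set U} (hZ : IsQC Z) :
    IsQC (Subtype.val '' Z) := by
  obtain ⟨T, hT, hTl, rfl⟩ := hZ
  refine ⟨(fun t : Set U => Subtype.val '' t) '' T, hT.image _, ?_, ?_⟩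
  · rintro _ ⟨t, ht, rfl⟩
    exact (hTl t ht).image hU.isOpenEmbedding_subtypeVal.isInducing
      (by rw [Subtype.range_coe]; exact hU.isLocallyClosed)
  · rw [Set.image_sUnion, Set.sUnion_image]

theorem isLQC_of_isLocallyConstructible {Z : Set X} (hZ : Topology.IsLocallyConstructible Z) :
    IsLQC Z := by
  apply isLQC_of_forall_exists_nhd
  intro x
  obtain ⟨U, hxU, hU, hc⟩ := hZ x
  refine ⟨U, hU, mem_of_mem_nhds hxU, ?_⟩
  have := (isQC_of_isConstructible hc).image_val_of_isOpen hU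
  rwa [Subtype.image_preimage_coe] at this

theorem IsQH.isLocallyConstructible_preimage {f : X → Y} (h : IsQH f) (hf : Continuous f)
    {Z : Set Y} (hZ : Topology.IsLocallyConstructible Z) :
    Topology.IsLocallyConstructible (f ⁻¹' Z) := by
  intro x
  obtain ⟨U, hxU, hU, hc⟩ := hZ (f x)
  refine ⟨f ⁻¹' U, hf.continuousAt.preimage_mem_nhds hxU, hU.preimage hf, ?_⟩
  have hg : IsQH (U.restrictPreimage f) := h.restrictPreimage (IsLQC.of_isOpen hU)
  exact hg.isConstructible_preimage hf.restrictPreimage hc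

theorem IsQH.exists_isLocallyConstructible_preimage_eq {f : X → Y} (h : IsQH f)
    (hf : Continuous f) {Z' : Set X} (hZ' : Topology.IsLocallyConstructible Z') :
    ∃ Z : Set Y, Topology.IsLocallyConstructible Z ∧ f ⁻¹' Z = Z' := by
  have key : ∀ x : X, ∃ U : Set Y, IsOpen U ∧ f x ∈ U ∧ ∃ Zx : Set U,
      Topology.IsConstructible Zx ∧
        (U.restrictPreimage f) ⁻¹' Zx = (Subtype.val ⁻¹' Z' : Set (f ⁻¹' U)) := by
    intro x
    obtain ⟨V, hxV, hV, hc⟩ := hZ' x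
    obtain ⟨U, hU, rfl⟩ := h.2 V hV
    have hg : IsQH (U.restrictPreimage f) := h.restrictPreimage (IsLQC.of_isOpen hU)
    obtain ⟨Zx, hZx, e⟩ := hg.exists_isConstructible_preimage_eq hf.restrictPreimage hc
    exact ⟨U, hU, (mem_of_mem_nhds hxV : x ∈ f ⁻¹' U), Zx, hZx, e⟩
  choose U hUo hxU Zx hZx hZxe using key
  have hS_pre : ∀ x, f ⁻¹' (Subtype.val '' Zx x) = f ⁻¹' U x ∩ Z' := by
    intro x
    ext a
    constructor
    · rintro ⟨⟨y, hy⟩, hyZ, (e : y = f a)⟩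
      subst e
      have hm : (⟨a, hy⟩ : f ⁻¹' U x) ∈ ((U x).restrictPreimage f) ⁻¹' Zx x := hyZ
      rw [hZxe x] at hm
      exact ⟨hy, hm⟩
    · rintro ⟨ha, haZ⟩
      have hm : (⟨a, ha⟩ : f ⁻¹' U x) ∈ (Subtype.val ⁻¹' Z' : Set (f ⁻¹' U x)) := haZ
      rw [← hZxe x] at hm
      exact ⟨⟨f a, ha⟩, hm, rfl⟩
  have hS_qc : ∀ x, IsQC (Subtype.val '' Zx x) := fun x =>
    (isQC_of_isConstructible (hZx x)).image_val_of_isOpen (hUo x)
  have hcompat : ∀ x x', Subtype.val '' Zx x ∩ U x' = Subtype.val '' Zx x' ∩ U x := by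
    intro x x'
    apply h.preimage_injOn_isLQC
      ((hS_qc x).inter (IsQC.of_isLocallyClosed (hUo x').isLocallyClosed)).isLQC
      ((hS_qc x').inter (IsQC.of_isLocallyClosed (hUo x).isLocallyClosed)).isLQC
    rw [Set.preimage_inter, Set.preimage_inter, hS_pre, hS_pre]
    ext a; simp only [Set.mem_inter_iff]; tauto
  have hcover : ∀ y : Y, ∃ x, y ∈ U x := by
    have hun : (⋃ x, U x) = Set.univ := by
      apply h.1 _ _ (isOpen_iUnion hUo) isOpen_univ
      rw [Set.preimage_univ, Set.preimage_iUnion]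
      exact Set.eq_univ_of_forall fun a => Set.mem_iUnion.mpr ⟨a, hxU a⟩
    intro y
    exact Set.mem_iUnion.mp (hun ▸ Set.mem_univ y)
  refine ⟨⋃ x, Subtype.val '' Zx x, ?_, ?_⟩
  · intro y
    obtain ⟨x, hyx⟩ := hcover y
    refine ⟨U x, (hUo x).mem_nhds hyx, hUo x, ?_⟩
    have hEq : (U x ↓∩ ⋃ x', Subtype.val '' Zx x') = Zx x := by
      ext ⟨z, hz⟩
      constructor
      · intro hzm
        obtain ⟨x', hzx'⟩ := Set.mem_iUnion.mp hzm
        have hm : z ∈ Subtype.val '' Zx x' ∩ U x := ⟨hzx', hz⟩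
        rw [← hcompat x x'] at hm
        obtain ⟨⟨⟨z', hz'⟩, hz'Z, (e : z' = z)⟩, _⟩ := hm
        subst e
        exact hz'Z
      · intro hzZ
        exact Set.mem_iUnion.mpr ⟨x, ⟨z, hz⟩, hzZ, rfl⟩
    rw [hEq]
    exact hZx x
  · rw [Set.preimage_iUnion]
    simp_rw [hS_pre]
    ext a
    simp only [Set.mem_iUnion, Set.mem_inter_iff, Set.mem_preimage]
    constructor
    · rintro ⟨x, _, haZ⟩; exact haZ
    · intro haZ; exact ⟨a, hxU a, haZ⟩

end QH

end Groth.Agent.Lib.Helper8
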