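import Mathlib
import Groth.Agent.Lib.Helper8.EtSepNormal
import Groth.Agent.Lib.Helper8.HenselSect
import Groth.Agent.Lib.Helper8.EtaleReduced
import Groth.Agent.Lib.Helper8.EtaleUnibranchSch
import Groth.Agent.Lib.Helper8.EtaleIrredSch
import Groth.Agent.Lib.Helper8.PullbackPoint
import Groth.Agent.Lib.Helper8.RatPt
import Groth.Agent.Lib.Helper15.MaxPts

/-!
# Rational sections of separated unramified morphisms at geometrically unibranch points
-/

set_option autoImplicit false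
open CategoryTheory CategoryTheory.Limits AlgebraicGeometry Opposite TopologicalSpace
universe u

namespace Groth.Agent.Lib.Helper8.RatSect

/-- A point whose local ring has prime nilradical and which has a neighbourhood covered by finitely
many irreducible components has an irreducible open neighbourhood. -/
theorem exists_irreducible_open_nhd {Z : Scheme.{u}} (z : Z)
    (hprime : (nilradical (Z.presheaf.stalk z)).IsPrime)
    (hfin : ∃ W : Set Z, IsOpen W ∧ z ∈ W ∧ ∃ S : Set (Set Z), S.Finite ∧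
      S ⊆ irreducibleComponents Z ∧ W ⊆ ⋃₀ S) :
    ∃ W₁ : Z.Opens, z ∈ W₁ ∧ IsIrreducible (W₁ : Set Z) := by
  classical
  obtain ⟨W, hWo, hzW, S, hSfin, hSsub, hWS⟩ := hfin
  have huniq : ∀ T₁ ∈ irreducibleComponents Z, ∀ T₂ ∈ irreducibleComponents Z,
      z ∈ T₁ → z ∈ T₂ → T₁ = T₂ := by
    let p₀ : PrimeSpectrum (Z.presheaf.stalk z) := ⟨nilradical _, hprime⟩
    have key : ∀ T ∈ irreducibleComponents Z, z ∈ T →
        T = closure {(Z.fromSpecStalk z) p₀} := by
      intro T hT hzT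
      obtain ⟨η, rfl⟩ :=
        Groth.Agent.Lib.Helper15.NT.exists_eq_closure_singleton_of_mem_irreducibleComponents hT
      have hηz : η ⤳ z := specializes_iff_mem_closure.mpr hzT
      have hmem : η ∈ Set.range (Z.fromSpecStalk z) := by
        rw [Scheme.range_fromSpecStalk]; exact hηz
      obtain ⟨p, rfl⟩ := hmem
      have := p.2
      have hle : p₀ ≤ p := by
        show nilradical _ ≤ p.asIdeal
        exact nilradical_le_prime p.asIdeal
      have hsp : p₀ ⤳ p := (PrimeSpectrum.le_iff_specializes _ _).mp hle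
      have hsp' : (Z.fromSpecStalk z) p₀ ⤳ (Z.fromSpecStalk z) p :=
        hsp.map (Z.fromSpecStalk z).continuous
      have h1 : closure {(Z.fromSpecStalk z) p} ⊆ closure {(Z.fromSpecStalk z) p₀} :=
        specializes_iff_closure_subset.mp hsp'
      exact h1.antisymm (hT.2 isIrreducible_singleton.closure h1)
    intro T₁ hT₁ T₂ hT₂ h1 h2
    rw [key T₁ hT₁ h1, key T₂ hT₂ h2]
  obtain ⟨T₀, hT₀S, hzT₀⟩ : ∃ T₀ ∈ S, z ∈ T₀ := by
    obtain ⟨T, hT, hz⟩ := hWS hzW
    exact ⟨T, hT, hz⟩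
  set C : Set Z := ⋃₀ {T ∈ S | z ∉ T} with hC
  have hCclosed : IsClosed C := by
    rw [hC, Set.sUnion_eq_biUnion]
    apply Set.Finite.isClosed_biUnion (hSfin.subset (Set.sep_subset _ _))
    intro T hT
    exact isClosed_of_mem_irreducibleComponents T (hSsub hT.1)
  have hzC : z ∉ C := by
    rintro ⟨T, ⟨-, hzT⟩, hz⟩
    exact hzT hz
  have hsub : W ∩ Cᶜ ⊆ T₀ := by
    rintro w ⟨hwW, hwC⟩
    obtain ⟨T, hTS, hwT⟩ := hWS hwW
    by_cases hzT : z ∈ T
    · rw [← huniq T (hSsub hTS) T₀ (hSsub hT₀S) hzT hzT₀]; exact hwT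
    · exact (hwC ⟨T, ⟨hTS, hzT⟩, hwT⟩).elim
  have hopen : IsOpen (W ∩ Cᶜ) := hWo.inter hCclosed.isOpen_compl
  refine ⟨⟨W ∩ Cᶜ, hopen⟩, (show z ∈ W ∩ Cᶜ from ⟨hzW, hzC⟩), ?_⟩
  show IsIrreducible (W ∩ Cᶜ)
  exact ⟨⟨z, hzW, hzC⟩, (hSsub hT₀S).1.2.open_subset hopen hsub⟩

theorem exists_finite_cover_of_locallyFinite {Z : Type*} [TopologicalSpace Z]
    (hcomp : LocallyFinite (fun T : ↥(irreducibleComponents Z) => (T : Set Z))) (z : Z) :
    ∃ W : Set Z, IsOpen W ∧ z ∈ W ∧ ∃ S : Set (Set Z), S.Finite ∧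
      S ⊆ irreducibleComponents Z ∧ W ⊆ ⋃₀ S := by
  obtain ⟨t, ht, hfin⟩ := hcomp z
  refine ⟨interior t, isOpen_interior, mem_interior_iff_mem_nhds.mpr ht,
    Subtype.val '' {T : ↥(irreducibleComponents Z) | ((T : Set Z) ∩ t).Nonempty},
    hfin.image _, ?_, ?_⟩
  · rintro _ ⟨T, -, rfl⟩; exact T.2
  · intro w hw
    refine ⟨irreducibleComponent w,
      ⟨⟨irreducibleComponent w, irreducibleComponent_mem_irreducibleComponents w⟩, ?_, rfl⟩,
      mem_irreducibleComponent⟩
    exact ⟨w, mem_irreducibleComponent, interior_subset hw⟩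

theorem exists_irreducible_open_nhd_of_geomUnibranch {Y : Scheme.{u}}
    (hcomp : LocallyFinite (fun Z : ↥(irreducibleComponents ↥Y) => (Z : Set ↥Y))) (y : Y)
    (hy : CAlg2.IsGeomUnibranch (Y.presheaf.stalk y)) :
    ∃ Wy : Y.Opens, y ∈ Wy ∧ IsIrreducible (Wy : Set Y) :=
  exists_irreducible_open_nhd y ((Ideal.Quotient.isDomain_iff_prime _).mp hy.1.1)
    (exists_finite_cover_of_locallyFinite hcomp y)

theorem bijective_residueFieldMap_congr {A B : Scheme.{u}} (g : A ⟶ B) {p q : A} (h : p = q)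
    (hb : Function.Bijective (g.residueFieldMap p).hom) :
    Function.Bijective (g.residueFieldMap q).hom := by
  subst h; exact hb

theorem isGeomUnibranch_stalk_congr {Y : Scheme.{u}} {p q : Y} (h : p = q)
    (hp : CAlg2.IsGeomUnibranch (Y.presheaf.stalk p)) :
    CAlg2.IsGeomUnibranch (Y.presheaf.stalk q) := by
  subst h; exact hp

/-- An étale separated morphism from an irreducible scheme admitting a section over a nonempty open
(more precisely, a morphism `s` from a nonempty scheme with `s ≫ g` an open immersion) is an open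
immersion. -/
theorem isOpenImmersion_of_section {W Y Ω : Scheme.{u}} (g : W ⟶ Y) [Etale g] [IsSeparated g]
    [IrreducibleSpace W] [Nonempty Ω] (s : Ω ⟶ W) (hs : IsOpenImmersion (s ≫ g)) :
    IsOpenImmersion g := by
  have := hs
  have hse : Etale s := Etale.of_comp s g
  have hsm : Mono s := mono_of_mono_fac (show s ≫ g = s ≫ g from rfl)
  have hso : IsOpenImmersion s := IsOpenImmersion.of_flat_of_mono s
  obtain ⟨ω, hω⟩ : genericPoint W ∈ Set.range s := by
    have hopen : IsOpen (Set.range s) := s.isOpenEmbedding.isOpen_range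
    rw [(genericPoint_spec W).mem_open_set_iff hopen]
    obtain ⟨ω⟩ := ‹Nonempty Ω›
    exact ⟨s ω, trivial, ω, rfl⟩
  have hres : Function.Bijective (g.residueFieldMap (genericPoint W)).hom := by
    have h0 : Function.Bijective ((s ≫ g).residueFieldMap ω).hom := by
      refine RatPt.residueFieldMap_bijective_of_stalkMap_surjective (s ≫ g) ω ?_
      exact (ConcreteCategory.bijective_of_isIso ((s ≫ g).stalkMap ω)).2
    exact bijective_residueFieldMap_congr g hω
      (HenselSect.bijective_residueFieldMap_of_comp s g ω h0)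
  apply EtSepNormal.isOpenImmersion_of_diagonal_surjective
  rw [Set.eq_univ_iff_forall]
  intro d
  have hZ := irreducibleComponent_mem_irreducibleComponents d
  obtain ⟨ζd, hζd⟩ :=
    Groth.Agent.Lib.Helper15.NT.exists_eq_closure_singleton_of_mem_irreducibleComponents hZ
  have hmax : ∀ t' : ↥(pullback g g), t' ⤳ ζd → ζd ⤳ t' :=
    (Groth.Agent.Lib.Helper15.NT.closure_singleton_mem_irreducibleComponents_iff ζd).mp (hζd ▸ hZ)
  have key : ∀ (p : pullback g g ⟶ W), Flat p → p ζd = genericPoint W := by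
    intro p hp
    have := hp
    obtain ⟨ζ', hζ', hpζ'⟩ := (Flat.generalizingMap p) (genericPoint_specializes (p ζd))
    have : ζ' = ζd := (hζ'.antisymm (hmax ζ' hζ')).eq
    rw [← this]; exact hpζ'
  have h1 : pullback.fst g g ζd = genericPoint W := key _ inferInstance
  have h2 : pullback.snd g g ζd = genericPoint W := key _ inferInstance
  have hΔ1 : pullback.fst g g (pullback.diagonal g (genericPoint W)) = genericPoint W := by
    rw [← Scheme.Hom.comp_apply, pullback.diagonal_fst]; rfl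
  have hΔ2 : pullback.snd g g (pullback.diagonal g (genericPoint W)) = genericPoint W := by
    rw [← Scheme.Hom.comp_apply, pullback.diagonal_snd]; rfl
  have heq : ζd = pullback.diagonal g (genericPoint W) :=
    pullback_point_ext ζd _ (h1.trans hΔ1.symm) (h2.trans hΔ2.symm)
      (bijective_residueFieldMap_congr g hΔ2.symm hres)
  have hcl : IsClosed (Set.range (pullback.diagonal g).base) :=
    (pullback.diagonal g).isClosedEmbedding.isClosed_range
  have hd : d ∈ closure ({ζd} : Set ↥(pullback g g)) := by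
    rw [← hζd]; exact mem_irreducibleComponent
  exact (hcl.closure_subset_iff.mpr
    (Set.singleton_subset_iff.mpr ⟨genericPoint W, heq.symm⟩)) hd

set_option maxHeartbeats 1600000 in
/-- Local structure of an unramified morphism: a neighbourhood of `x` is a closed subscheme of a
scheme étale over a given affine open neighbourhood of `f x`. -/
theorem exists_chart {X Y : Scheme.{u}} [IsReduced Y] (f : X ⟶ Y)
    [LocallyOfFiniteType f] [FormallyUnramified f] (x : X) (V₁ : Y.Opens)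
    (hV₁ : IsAffineOpen V₁) (hx : f x ∈ V₁) :
    ∃ (T W : Scheme.{u}) (a : T ⟶ X) (b : T ⟶ W) (g : W ⟶ (V₁ : Scheme.{u})) (x₀ : T),
      IsOpenImmersion a ∧ IsClosedImmersion b ∧ Etale g ∧ IsSeparated g ∧ IsReduced W ∧
      a ≫ f = b ≫ g ≫ V₁.ι ∧ a x₀ = x := by
  obtain ⟨_, ⟨V, hV, rfl⟩, hxV, hVW⟩ :=
    X.isBasis_affineOpens.exists_subset_of_mem_open hx (V₁.2.preimage f.continuous)
  have hft : (f.appLE V₁ V hVW).hom.FiniteType := f.finiteType_appLE hV₁ hV hVW
  have hun : (f.appLE V₁ V hVW).hom.FormallyUnramified :=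
    HasRingHomProperty.appLE @FormallyUnramified f ‹_› ⟨V₁, hV₁⟩ ⟨V, hV⟩ hVW
  algebraize [(f.appLE V₁ V hVW).hom]
  obtain ⟨q, rfl⟩ : x ∈ Set.range hV.fromSpec := by rw [hV.range_fromSpec]; exact hxV
  have hunq : Algebra.IsUnramifiedAt Γ(Y, V₁) q.asIdeal :=
    Algebra.FormallyUnramified.comp _ Γ(X, V) _
  obtain ⟨s, hsq, P, φ, hφ⟩ :=
    Algebra.IsUnramifiedAt.exists_hasStandardEtaleSurjectionOn (R := Γ(Y, V₁)) q.asIdeal
  have hg0 : Etale (Spec.map (CommRingCat.ofHom (algebraMap Γ(Y, V₁) P.Ring))) := by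
    rw [HasRingHomProperty.Spec_iff (P := @Etale)]
    exact RingHom.etale_algebraMap.mpr inferInstance
  have : IsAffine (V₁ : Scheme.{u}) := hV₁
  let g : Spec (.of P.Ring) ⟶ (V₁ : Scheme.{u}) :=
    Spec.map (CommRingCat.ofHom (algebraMap Γ(Y, V₁) P.Ring)) ≫ hV₁.isoSpec.inv
  have hg : Etale g := inferInstance
  have hgs : IsSeparated g := inferInstance
  have hred : _root_.IsReduced P.Ring := isReduced_standardEtalePair P
  have hWred : IsReduced (Spec (.of P.Ring)) := inferInstance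
  let a : Spec (.of (Localization.Away s)) ⟶ X :=
    Spec.map (CommRingCat.ofHom (algebraMap Γ(X, V) (Localization.Away s))) ≫ hV.fromSpec
  let b : Spec (.of (Localization.Away s)) ⟶ Spec (.of P.Ring) :=
    Spec.map (CommRingCat.ofHom φ.toRingHom)
  have hb : IsClosedImmersion b := IsClosedImmersion.spec_of_surjective _ hφ
  have hcomm : a ≫ f = b ≫ g ≫ V₁.ι := by
    simp only [a, b, g, Category.assoc]
    rw [IsAffineOpen.isoSpec_inv_ι, ← hV₁.SpecMap_appLE_fromSpec f hV hVW, ← Spec.map_comp_assoc,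
      ← Spec.map_comp_assoc]
    congr 2
    ext r
    show algebraMap Γ(X, V) (Localization.Away s) (algebraMap Γ(Y, V₁) Γ(X, V) r) =
      φ (algebraMap Γ(Y, V₁) P.Ring r)
    rw [φ.commutes, ← IsScalarTower.algebraMap_apply]
  have ha : IsOpenImmersion a := inferInstance
  have hqs : q ∈ (PrimeSpectrum.basicOpen s : Set (PrimeSpectrum Γ(X, V))) := hsq
  rw [← PrimeSpectrum.localization_away_comap_range (Localization.Away s) s] at hqs
  obtain ⟨x₀, hx₀⟩ := hqs
  refine ⟨_, _, a, b, g, x₀, ha, hb, hg, hgs, hWred, hcomm, ?_⟩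
  simp only [a, Scheme.Hom.comp_apply]
  congr 1

theorem isOpenImmersion_section {X Y : Scheme.{u}} (f : X ⟶ Y) [LocallyOfFiniteType f]
    [FormallyUnramified f] (U : Y.Opens) (u : (U : Scheme.{u}) ⟶ X) (hu : u ≫ f = U.ι) :
    IsOpenImmersion u := by
  have : Etale (u ≫ f) := by rw [hu]; infer_instance
  have : Etale u := Etale.of_comp u f
  have : Mono (u ≫ f) := by rw [hu]; infer_instance
  have : Mono u := mono_of_mono_fac (show u ≫ f = u ≫ f from rfl)
  exact IsOpenImmersion.of_flat_of_mono u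

theorem mem_range_section_of_mem_closure {X Y : Scheme.{u}} (f : X ⟶ Y) [IsSeparated f]
    (U : Y.Opens) (u : (U : Scheme.{u}) ⟶ X) (hu : u ≫ f = U.ι) (x : X)
    (hx : x ∈ closure (Set.range u)) (hfx : f x ∈ U) : x ∈ Set.range u := by
  have hrange : Set.range u ⊆ Set.range (f ⁻¹ᵁ U).ι := by
    rintro _ ⟨t, rfl⟩
    rw [Scheme.Opens.range_ι]
    show f (u t) ∈ U
    rw [← Scheme.Hom.comp_apply, hu]; exact t.2
  let uO : (U : Scheme.{u}) ⟶ ((f ⁻¹ᵁ U : X.Opens) : Scheme.{u}) :=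
    IsOpenImmersion.lift (f ⁻¹ᵁ U).ι u hrange
  have huO : uO ≫ (f ⁻¹ᵁ U).ι = u := IsOpenImmersion.lift_fac _ _ _
  have hsec : uO ≫ (f ∣_ U) = 𝟙 _ := by
    rw [← cancel_mono U.ι, Category.assoc, morphismRestrict_ι, reassoc_of% huO, hu,
      Category.id_comp]
  have : IsClosedImmersion (uO ≫ (f ∣_ U)) := by rw [hsec]; infer_instance
  have : IsClosedImmersion uO := IsClosedImmersion.of_comp uO (f ∣_ U)
  have hcl : IsClosed (Set.range uO) := uO.isClosedEmbedding.isClosed_range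
  let xO : ↥((f ⁻¹ᵁ U : X.Opens) : Scheme.{u}) := ⟨x, hfx⟩
  have hxO : xO ∈ closure (Set.range uO) := by
    rw [(f ⁻¹ᵁ U).ι.isOpenEmbedding.isInducing.closure_eq_preimage_closure_image]
    show (f ⁻¹ᵁ U).ι xO ∈ closure ((f ⁻¹ᵁ U).ι '' Set.range uO)
    rw [← Set.range_comp]
    have hfun : ((f ⁻¹ᵁ U).ι : _ → _) ∘ uO = u := by
      funext t
      rw [Function.comp_apply, ← Scheme.Hom.comp_apply, huO]
    rw [hfun]; exact hx
  rw [hcl.closure_eq] at hxO
  obtain ⟨t, ht⟩ := hxO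
  refine ⟨t, ?_⟩
  rw [← huO, Scheme.Hom.comp_apply, ht]; rfl

theorem exists_mem_closure_range_of_closed {X Y : Scheme.{u}} (f : X ⟶ Y) (U : Y.Opens)
    (hU : Dense (U : Set Y)) (u : (U : Scheme.{u}) ⟶ X) (hu : u ≫ f = U.ι)
    (hcl : ∀ T : Set ↥X, IsClosed T → IsIrreducible T → IsClosed (f '' T))
    (y : Y) (Wy : Y.Opens) (hyWy : y ∈ Wy) (hWy : IsIrreducible (Wy : Set Y)) :
    ∃ x ∈ closure (Set.range u), f x = y := by
  let A₀ : Set ↥(U : Scheme.{u}) := U.ι ⁻¹' (Wy : Set Y)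
  have hA₀ : IsIrreducible A₀ := by
    refine ⟨?_, hWy.2.preimage U.ι.isOpenEmbedding⟩
    obtain ⟨p, hpW, hpU⟩ := hU.inter_open_nonempty Wy Wy.2 ⟨y, hyWy⟩
    exact ⟨⟨p, hpU⟩, hpW⟩
  have hA : IsIrreducible (closure (u '' A₀)) :=
    (hA₀.image u u.continuous.continuousOn).closure
  have hcl' := hcl _ isClosed_closure hA
  have hsub : (Wy : Set Y) ∩ U ⊆ f '' closure (u '' A₀) := by
    rintro p ⟨hpW, hpU⟩
    refine ⟨u ⟨p, hpU⟩, subset_closure ⟨⟨p, hpU⟩, hpW, rfl⟩, ?_⟩
    rw [← Scheme.Hom.comp_apply, hu]; rfl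
  have hy : y ∈ f '' closure (u '' A₀) :=
    (hcl'.closure_subset_iff.mpr hsub) (hU.open_subset_closure_inter Wy.2 hyWy)
  obtain ⟨x, hx, hfx⟩ := hy
  exact ⟨x, closure_mono (Set.image_subset_range _ _) hx, hfx⟩

end Groth.Agent.Lib.Helper8.RatSect
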