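import Mathlib
import Groth.Agent.Lib.Helper8.RatSect

/-!
# Extending a rational section of a separated unramified morphism at a geometrically unibranch point
-/

set_option autoImplicit false
open CategoryTheory CategoryTheory.Limits AlgebraicGeometry Opposite TopologicalSpace
universe u

namespace Groth.Agent.Lib.Helper8.RatSect

set_option maxHeartbeats 1600000 in
theorem exists_section_nhd {X Y : Scheme.{u}} [IsReduced Y]
    (hcomp : LocallyFinite (fun Z : ↥(irreducibleComponents ↥Y) => (Z : Set ↥Y)))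
    (f : X ⟶ Y) [IsSeparated f] [LocallyOfFiniteType f] [FormallyUnramified f]
    (U : Y.Opens) (u : (U : Scheme.{u}) ⟶ X) (hu : u ≫ f = U.ι)
    (y : Y) (hy : CAlg2.IsGeomUnibranch (Y.presheaf.stalk y))
    (x : X) (hxcl : x ∈ closure (Set.range u)) (hfx : f x = y) :
    ∃ (V : Y.Opens) (v : (V : Scheme.{u}) ⟶ X), y ∈ V ∧ v ≫ f = V.ι ∧
      Y.homOfLE (inf_le_left : U ⊓ V ≤ U) ≫ u = Y.homOfLE (inf_le_right : U ⊓ V ≤ V) ≫ v := by
  -- an irreducible affine open neighbourhood of `y`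
  obtain ⟨Wy, hyWy, hWyirr⟩ := exists_irreducible_open_nhd_of_geomUnibranch hcomp y hy
  obtain ⟨V₁, hV₁, hyV₁, hV₁Wy⟩ : ∃ V₁ : Y.Opens, IsAffineOpen V₁ ∧ y ∈ V₁ ∧
      (V₁ : Set Y) ⊆ (Wy : Set Y) := by
    obtain ⟨_, ⟨V₁, hV₁, rfl⟩, hyV₁, hV₁Wy⟩ :=
      Y.isBasis_affineOpens.exists_subset_of_mem_open hyWy Wy.2
    exact ⟨V₁, hV₁, hyV₁, hV₁Wy⟩
  have hV₁irr : IsIrreducible (V₁ : Set Y) :=
    ⟨⟨y, hyV₁⟩, hWyirr.2.open_subset V₁.2 hV₁Wy⟩
  have : IrreducibleSpace (V₁ : Scheme.{u}) := Subtype.irreducibleSpace hV₁irr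
  -- the chart
  obtain ⟨T, W, a, b, g, x₀, ha, hb, hg, hgs, hWred, hcomm, hax₀⟩ :=
    exists_chart f x V₁ hV₁ (by rw [hfx]; exact hyV₁)
  have hgw : (g ≫ V₁.ι) (b x₀) = y := by
    rw [← Scheme.Hom.comp_apply, ← hcomm, Scheme.Hom.comp_apply, hax₀, hfx]
  have hprimeW : (nilradical (W.presheaf.stalk (b x₀))).IsPrime := by
    have hY' : CAlg2.IsGeomUnibranch (Y.presheaf.stalk ((g ≫ V₁.ι).base (b x₀))) :=
      isGeomUnibranch_stalk_congr hgw.symm hy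
    obtain ⟨⟨⟨hdom, -⟩, -⟩, -⟩ :=
      EtaleUnibranchSch.stalk_isGeomUnibranch_of_etale_nhd (g ≫ V₁.ι) (b x₀) hY'
        ⟨⊤, trivial, inferInstance⟩
    exact (Ideal.Quotient.isDomain_iff_prime _).mp hdom
  obtain ⟨W₁, hwW₁, hW₁irr⟩ := exists_irreducible_open_nhd (b x₀) hprimeW
    (EtaleIrredSch.exists_open_finite_cover g (b x₀))
  have : IrreducibleSpace (W₁ : Scheme.{u}) := Subtype.irreducibleSpace hW₁irr
  have : IsReduced (W₁ : Scheme.{u}) := isReduced_of_isOpenImmersion W₁.ι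
  -- restriction over `W₁`
  have hb₁ : IsClosedImmersion (b ∣_ W₁) := IsZariskiLocalAtTarget.restrict hb W₁
  let a₁ : ((b ⁻¹ᵁ W₁ : T.Opens) : Scheme.{u}) ⟶ X := (b ⁻¹ᵁ W₁).ι ≫ a
  let g₁ : (W₁ : Scheme.{u}) ⟶ Y := W₁.ι ≫ g ≫ V₁.ι
  have hcomm₁ : a₁ ≫ f = (b ∣_ W₁) ≫ g₁ := by
    simp only [a₁, g₁, Category.assoc]
    rw [hcomm, morphismRestrict_ι_assoc]
  have ha₁ : IsOpenImmersion a₁ := inferInstance
  have hg₁e : Etale g₁ := inferInstance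
  have hg₁s : IsSeparated g₁ := inferInstance
  let x₁ : ↥((b ⁻¹ᵁ W₁ : T.Opens) : Scheme.{u}) := ⟨x₀, hwW₁⟩
  have ha₁x₁ : a₁ x₁ = x := by
    show a ((b ⁻¹ᵁ W₁).ι x₁) = x
    exact hax₀
  -- the open part of `U` mapping into the chart
  let ΩU : (U : Scheme.{u}).Opens := u ⁻¹ᵁ a₁.opensRange
  have hΩne : Nonempty ↥(ΩU : Scheme.{u}) := by
    have hopen : IsOpen (Set.range a₁) := a₁.isOpenEmbedding.isOpen_range
    have hxmem : x ∈ Set.range a₁ := ⟨x₁, ha₁x₁⟩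
    obtain ⟨_, ⟨τ, hτ⟩, ⟨t, rfl⟩⟩ := mem_closure_iff.mp hxcl _ hopen hxmem
    exact ⟨⟨t, ⟨τ, hτ⟩⟩⟩
  have hrange : Set.range (ΩU.ι ≫ u) ⊆ Set.range a₁ := by
    rintro _ ⟨ω, rfl⟩
    rw [Scheme.Hom.comp_apply]
    exact ω.2
  let l : (ΩU : Scheme.{u}) ⟶ ((b ⁻¹ᵁ W₁ : T.Opens) : Scheme.{u}) :=
    IsOpenImmersion.lift a₁ (ΩU.ι ≫ u) hrange
  have hl : l ≫ a₁ = ΩU.ι ≫ u := IsOpenImmersion.lift_fac _ _ _
  let s₁ : (ΩU : Scheme.{u}) ⟶ (W₁ : Scheme.{u}) := l ≫ (b ∣_ W₁)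
  have hs₁ : s₁ ≫ g₁ = ΩU.ι ≫ U.ι := by
    simp only [s₁, Category.assoc]
    rw [← hcomm₁, reassoc_of% hl, hu]
  have hs₁o : IsOpenImmersion (s₁ ≫ g₁) := by rw [hs₁]; infer_instance
  have hse : Etale s₁ := Etale.of_comp s₁ g₁
  have hsm : Mono s₁ := mono_of_mono_fac (show s₁ ≫ g₁ = s₁ ≫ g₁ from rfl)
  have hso : IsOpenImmersion s₁ := IsOpenImmersion.of_flat_of_mono s₁
  -- `b ∣_ W₁` is an isomorphism
  have hb₁surj : AlgebraicGeometry.Surjective (b ∣_ W₁) := by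
    constructor
    have hopen : IsOpen (Set.range s₁) := s₁.isOpenEmbedding.isOpen_range
    have hne : (Set.range s₁).Nonempty := Set.range_nonempty _
    have hdense : Dense (Set.range s₁) := hopen.dense hne
    have hsub : Set.range s₁ ⊆ Set.range (b ∣_ W₁) := by
      rintro _ ⟨ω, rfl⟩
      exact ⟨l ω, (Scheme.Hom.comp_apply l (b ∣_ W₁) ω).symm⟩
    have hcl : IsClosed (Set.range (b ∣_ W₁)) := (b ∣_ W₁).isClosedEmbedding.isClosed_range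
    intro p
    exact (hcl.closure_subset_iff.mpr hsub) (hdense p)
  have hb₁iso : IsIso (b ∣_ W₁) := isIso_of_isClosedImmersion_of_surjective (b ∣_ W₁)
  -- `g₁` is an open immersion
  have hg₁oi : IsOpenImmersion g₁ := isOpenImmersion_of_section g₁ s₁ hs₁o
  have hvf : (g₁.isoOpensRange.inv ≫ inv (b ∣_ W₁) ≫ a₁) ≫ f = g₁.opensRange.ι := by
    rw [Category.assoc, Category.assoc, hcomm₁, IsIso.inv_hom_id_assoc]
    exact Scheme.Hom.isoOpensRange_inv_comp g₁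
  refine ⟨g₁.opensRange, g₁.isoOpensRange.inv ≫ inv (b ∣_ W₁) ≫ a₁, ?_, hvf, ?_⟩
  · refine ⟨⟨b x₀, hwW₁⟩, ?_⟩
    show (g ≫ V₁.ι) (W₁.ι ⟨b x₀, hwW₁⟩) = y
    exact hgw
  · have : IsReduced ((U ⊓ g₁.opensRange : Y.Opens) : Scheme.{u}) :=
      isReduced_of_isOpenImmersion (U ⊓ g₁.opensRange).ι
    have hjrange : Set.range (ΩU.ι ≫ U.ι) ⊆ Set.range (U ⊓ g₁.opensRange).ι := by
      rintro _ ⟨ω, rfl⟩
      rw [Scheme.Opens.range_ι]
      refine ⟨?_, ?_⟩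
      · rw [Scheme.Hom.comp_apply]; exact (ΩU.ι ω).2
      · rw [← hs₁, Scheme.Hom.comp_apply]; exact ⟨s₁ ω, rfl⟩
    let ι : (ΩU : Scheme.{u}) ⟶ ((U ⊓ g₁.opensRange : Y.Opens) : Scheme.{u}) :=
      IsOpenImmersion.lift (U ⊓ g₁.opensRange).ι (ΩU.ι ≫ U.ι) hjrange
    have hι : ι ≫ (U ⊓ g₁.opensRange).ι = ΩU.ι ≫ U.ι := IsOpenImmersion.lift_fac _ _ _
    have hιo : IsOpenImmersion ι := by
      have : IsOpenImmersion (ι ≫ (U ⊓ g₁.opensRange).ι) := by rw [hι]; infer_instance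
      exact IsOpenImmersion.of_comp ι (U ⊓ g₁.opensRange).ι
    have hVirr : IsIrreducible ((g₁.opensRange : Y.Opens) : Set Y) := by
      have h0 : ((g₁.opensRange : Y.Opens) : Set Y) = g₁ '' Set.univ := by
        rw [Set.image_univ]; rfl
      rw [h0]
      exact (IrreducibleSpace.isIrreducible_univ _).image _ g₁.continuous.continuousOn
    have hUVirr : IsIrreducible ((U ⊓ g₁.opensRange : Y.Opens) : Set Y) := by
      refine ⟨?_, hVirr.2.open_subset (U ⊓ g₁.opensRange).2 (fun p hp => hp.2)⟩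
      obtain ⟨ω⟩ := hΩne
      exact ⟨(ι ω).1, (ι ω).2⟩
    have : IrreducibleSpace ((U ⊓ g₁.opensRange : Y.Opens) : Scheme.{u}) :=
      Subtype.irreducibleSpace hUVirr
    have hdom : IsDominant ι :=
      ⟨(ι.isOpenEmbedding.isOpen_range).dense (Set.range_nonempty _)⟩
    refine ext_of_isDominant_of_isSeparated f ?_ ι ?_
    · rw [Category.assoc, Category.assoc, hu, hvf, Scheme.homOfLE_ι, Scheme.homOfLE_ι]
    · have h1 : ι ≫ Y.homOfLE (inf_le_left : U ⊓ g₁.opensRange ≤ U) = ΩU.ι := by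
        rw [← cancel_mono U.ι, Category.assoc, Scheme.homOfLE_ι, hι]
      have h2 : ι ≫ Y.homOfLE (inf_le_right : U ⊓ g₁.opensRange ≤ g₁.opensRange) ≫
          g₁.isoOpensRange.inv = s₁ := by
        rw [← cancel_mono g₁, Category.assoc, Category.assoc,
          Scheme.Hom.isoOpensRange_inv_comp, Scheme.homOfLE_ι, hι, hs₁]
      rw [reassoc_of% h1, ← hl, reassoc_of% h2]
      simp only [s₁, Category.assoc, IsIso.hom_inv_id_assoc]

end Groth.Agent.Lib.Helper8.RatSect
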