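import Mathlib

set_option autoImplicit false
set_option linter.style.haveILetI false
universe u
open CategoryTheory AlgebraicGeometry

namespace Groth.Agent.Lib.Helper8

/-- A section all of whose germs vanish is zero. -/
theorem section_eq_zero_of_germ {X : Scheme.{u}} (V : X.Opens) (t : Γ(X, V))
    (h : ∀ (x : X) (hx : x ∈ V), X.presheaf.germ V x hx t = 0) : t = 0 := by
  apply TopCat.Presheaf.section_ext X.sheaf V t 0
  intro x hx
  rw [map_zero]
  exact h x hx

/-- flat + surjective morphisms are injective on sections. -/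
theorem app_injective_of_flat_of_surjective {X X' : Scheme.{u}} (g : X' ⟶ X) [Flat g] [Surjective g]
    (V : X.Opens) : Function.Injective (g.app V) := by
  rw [injective_iff_map_eq_zero]
  intro t ht
  apply section_eq_zero_of_germ
  intro x hx
  obtain ⟨x', rfl⟩ := g.surjective x
  have h1 := Scheme.Hom.germ_stalkMap_apply g V x' hx t
  rw [ht, map_zero] at h1
  have hflat : (g.stalkMap x').hom.Flat := Flat.stalkMap g x'
  algebraize [(g.stalkMap x').hom]
  haveI : IsLocalHom (algebraMap (X.presheaf.stalk (g x')) (X'.presheaf.stalk x')) :=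
    g.toLRSHom.prop x'
  have : Module.FaithfullyFlat (X.presheaf.stalk (g x')) (X'.presheaf.stalk x') :=
    Module.FaithfullyFlat.of_flat_of_isLocalHom
  have hinj : Function.Injective (algebraMap (X.presheaf.stalk (g x')) (X'.presheaf.stalk x')) :=
    FaithfulSMul.algebraMap_injective _ _
  exact hinj (h1.trans (map_zero _).symm)

theorem comp_app_apply' {W Y X : Scheme.{u}} (p : W ⟶ Y) (q : Y ⟶ X) (V : X.Opens) (t : Γ(X, V)) :
    (p ≫ q).app V t = p.app (q ⁻¹ᵁ V) (q.app V t) := by
  rw [Scheme.Hom.comp_app]; rfl

theorem app_eq_zero_of_eq {W X : Scheme.{u}} {p q : W ⟶ X} (e : p = q) (V : X.Opens) (t : Γ(X, V))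
    (h : q.app V t = 0) : p.app V t = 0 := by
  subst e; exact h

end Groth.Agent.Lib.Helper8

namespace Groth.Agent.Lib.Helper8

/-- vanishing of a pulled-back section is insensitive to restricting the morphism to an open. -/
theorem morphismRestrict_app_eq_zero_iff {Z X : Scheme.{u}} (f : Z ⟶ X) (U : X.Opens)
    (W : U.toScheme.Opens) (s : Γ(X, U.ι ''ᵁ W)) :
    (f ∣_ U).app W s = 0 ↔ f.app (U.ι ''ᵁ W) s = 0 := by
  have h := morphismRestrict_app f U W
  have h2 : (f ∣_ U).app W s =
      (Z.presheaf.map (eqToHom (image_morphismRestrict_preimage f U W)).op)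
        (f.app (U.ι ''ᵁ W) s) := by
    rw [h]; rfl
  rw [h2]
  constructor
  · intro h0
    have hinj : Function.Injective
        (Z.presheaf.map (eqToHom (image_morphismRestrict_preimage f U W)).op) :=
      ((ConcreteCategory.isIso_iff_bijective _).mp inferInstance).1
    exact hinj (h0.trans (map_zero _).symm)
  · intro h0
    rw [h0, map_zero]
    rfl

/-- vanishing of pulled-back sections passes to smaller opens. -/
theorem app_map_eq_zero {Z X : Scheme.{u}} (f : Z ⟶ X) {V V' : X.Opens} (i : V' ⟶ V) (t : Γ(X, V))
    (h : f.app V t = 0) : f.app V' (X.presheaf.map i.op t) = 0 := by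
  have := f.naturality i.op
  have h2 := congrArg (fun φ => φ t) this
  simp only [CommRingCat.comp_apply] at h2
  rw [h2, h, map_zero]

end Groth.Agent.Lib.Helper8
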