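import Mathlib
import Groth.Prelude.Def_Found
import Groth.Prelude.Def_FDesc
import Groth.Prelude.Def_EGA43
import Groth.Agent.Lib.Helper12.DvrSecMain
import Groth.Agent.Lib.Helper12.ConstrNhds
import Groth.Agent.Lib.Helper12.FibreDimFP
import Groth.Agent.Lib.Helper12.Chevalley

/-!
# Helper library (helper8): dimension of section components, finite presentation case
(EGA IV 15.6.6 (ii) without Noetherian hypotheses on the base)
-/

set_option autoImplicit false
universe u v
open AlgebraicGeometry CategoryTheory CategoryTheory.Limits IsLocalRing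

namespace Groth.Agent.Lib.Helper8.SecDimFP

open Groth.Agent.Lib.Helper12.SecComp Groth.Agent.Lib.Helper12.SecCompBC
open Groth.Agent.Lib.Helper12.DvrSecSch Groth.Agent.Lib.Helper12.DvrSecBC Groth.Agent.Lib.Helper8
open Groth.Agent.Lib.Helper12.ConstrNhds Groth.Agent.Lib.Helper12.UnivOpenDim Topology

/-- A proper specialization `c ⤳ x` in a scheme whose local ring at `x` is Noetherian is realized
by a discrete valuation ring. -/
theorem exists_dvr_of_specializes' {X : Scheme.{u}} {c x : X}
    [IsNoetherianRing (X.presheaf.stalk x)] (hcx : c ⤳ x) (hne : c ≠ x) :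
    ∃ (R : Type u) (_ : CommRing R) (_ : IsDomain R) (_ : IsDiscreteValuationRing R)
      (u : Spec (CommRingCat.of R) ⟶ X),
      u.base (IsLocalRing.closedPoint R) = x ∧
      ∀ t : Spec (CommRingCat.of (FractionRing R)),
        (Spec.map (CommRingCat.ofHom (algebraMap R (FractionRing R))) ≫ u).base t = c := by
  obtain ⟨𝔭, h𝔭⟩ : ∃ 𝔭 : PrimeSpectrum (X.presheaf.stalk x),
      (X.fromSpecStalk x).base 𝔭 = c := by
    have : c ∈ Set.range (X.fromSpecStalk x) := by
      rw [Scheme.range_fromSpecStalk]; exact hcx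
    exact this
  haveI : 𝔭.asIdeal.IsPrime := 𝔭.isPrime
  have hne' : 𝔭.asIdeal ≠ IsLocalRing.maximalIdeal (X.presheaf.stalk x) := by
    intro hm
    have hcp : 𝔭 = IsLocalRing.closedPoint (X.presheaf.stalk x) := PrimeSpectrum.ext hm
    apply hne
    rw [← h𝔭, hcp]
    exact Scheme.fromSpecStalk_closedPoint
  obtain ⟨R, iR, iD, iV, φ, hloc, hker⟩ :=
    Groth.Agent.Lib.Helper11.Birat9.exists_dvr_of_prime (X.presheaf.stalk x) 𝔭.asIdeal hne'
  haveI := hloc
  refine ⟨R, iR, iD, iV, Spec.map (CommRingCat.ofHom φ) ≫ X.fromSpecStalk x, ?_, ?_⟩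
  · have hcl : (Spec.map (CommRingCat.ofHom φ)).base (IsLocalRing.closedPoint R) =
        IsLocalRing.closedPoint (X.presheaf.stalk x) := IsLocalRing.comap_closedPoint φ
    show (X.fromSpecStalk x).base ((Spec.map (CommRingCat.ofHom φ)).base
      (IsLocalRing.closedPoint R)) = x
    rw [hcl]; exact Scheme.fromSpecStalk_closedPoint
  · intro t
    have h0 : (Spec.map (CommRingCat.ofHom φ)).base
        ((Spec.map (CommRingCat.ofHom (algebraMap R (FractionRing R)))).base t) = 𝔭 := by
      apply PrimeSpectrum.ext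
      show Ideal.comap φ (Ideal.comap (algebraMap R (FractionRing R))
        (PrimeSpectrum.asIdeal (R := FractionRing R) t)) = 𝔭.asIdeal
      have ht : PrimeSpectrum.asIdeal (R := FractionRing R) t = ⊥ := Ideal.eq_bot_of_prime _
      rw [ht, Ideal.comap_bot_of_injective _ (IsFractionRing.injective R (FractionRing R))]
      ext a
      rw [Ideal.mem_comap, Ideal.mem_bot]
      exact hker a
    show (X.fromSpecStalk x).base ((Spec.map (CommRingCat.ofHom φ)).base
        ((Spec.map (CommRingCat.ofHom (algebraMap R (FractionRing R)))).base t)) = c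
    rw [h0]; exact h𝔭

/-- Preimages of locally constructible sets under morphisms of schemes are locally constructible. -/
theorem isLocallyConstructible_preimage {W V : Scheme.{u}} (g : W ⟶ V) {s : Set V}
    (hs : IsLocallyConstructible s) : IsLocallyConstructible (g ⁻¹' s) := by
  intro x
  obtain ⟨U₀, hU₀x, hU₀, hc⟩ := hs (g x)
  let O : V.Opens := ⟨U₀, hU₀⟩
  have hgx : g x ∈ U₀ := mem_of_mem_nhds hU₀x
  have hxO : x ∈ g ⁻¹ᵁ O := hgx
  refine ⟨((g ⁻¹ᵁ O : W.Opens) : Set W), (g ⁻¹ᵁ O).isOpen.mem_nhds hxO, (g ⁻¹ᵁ O).isOpen, ?_⟩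
  have h1 : IsConstructible ((g ∣_ O) ⁻¹' ((Subtype.val : ↥O → V) ⁻¹' s)) :=
    Scheme.Hom.isConstructible_preimage (g ∣_ O) hc
  have h2 : (Subtype.val ⁻¹' (g ⁻¹' s) : Set ↥((g ⁻¹ᵁ O : W.Opens) : Set W)) =
      ((g ∣_ O) ⁻¹' ((Subtype.val : ↥O → V) ⁻¹' s)) := by
    ext w
    show g w.1 ∈ s ↔ ((g ∣_ O) w).1 ∈ s
    rw [morphismRestrict_base_coe]
  first
    | (rw [h2]; exact h1)
    | (have h1' := h1; rw [← h2] at h1'; exact h1')
    | exact h2 ▸ h1
    | exact h2.symm ▸ h1

section Sec

variable {X Y : Scheme.{u}} (f : X ⟶ Y) [LocallyOfFiniteType f]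
  (g : Y ⟶ X) (hg : g ≫ f = 𝟙 Y)

/-- Section components irreducible from geometric irreducibility (no Noetherian hypothesis). -/
theorem isIrreducible_sectionComponent'
    (hirr : ∀ (y : Y) (K : Type u) [Field K]
      [Algebra (IsLocalRing.ResidueField (Y.presheaf.stalk y)) K],
      IsIrreducible ((FBase.bcπ (f.fiberToSpecResidueField y) K ≫ f.fiberι y).base ⁻¹'
        (connectedComponentIn (f.base ⁻¹' {y}) (g.base y)))) (y : Y) :
    IsIrreducible (connectedComponentIn (f.base ⁻¹' {y}) (g.base y)) :=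
  isIrreducible_of_preimage_bc f y _ (connectedComponentIn_subset _ _)
    (IsLocalRing.ResidueField (Y.presheaf.stalk y)) (hirr y _)

include hg in
/-- Upper semicontinuity of `y ↦ dim X_y^0` for a morphism locally of finite type with irreducible
section components. -/
theorem upperSemicontinuous_dim_sectionComponent
    (hirrY : ∀ y : Y, IsIrreducible (connectedComponentIn (f.base ⁻¹' {y}) (g.base y))) :
    UpperSemicontinuous (fun y : Y =>
      topologicalKrullDim ↥(connectedComponentIn (f.base ⁻¹' {y}) (g.base y))) := by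
  have hfg : ∀ y : Y, f.base (g.base y) = y := sec_apply f g hg
  have hF : ∀ y : Y, topologicalKrullDim ↥(connectedComponentIn (f.base ⁻¹' {y}) (g.base y)) =
      FlatMor.fibreDimAt f (g.base y) :=
    fun y => dim_connectedComponentIn_eq_fibreDimAt' f (g.base y) y (hfg y) (hirrY y)
  intro y c hc
  simp only [hF] at hc ⊢
  obtain ⟨m, hm⟩ := exists_nat_fibreDimAt f (g.base y)
  have hopen := Groth.Agent.Lib.Helper12.Chevalley.isOpen_setOf_fibreDimAt_le f m
  have hopen2 : IsOpen (g.base ⁻¹' {x : X | FlatMor.fibreDimAt f x ≤ m}) :=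
    hopen.preimage g.continuous
  have hy : y ∈ g.base ⁻¹' {x : X | FlatMor.fibreDimAt f x ≤ m} := by
    simp only [Set.mem_preimage, Set.mem_setOf_eq]
    rw [hm]
  refine Filter.eventually_of_mem (hopen2.mem_nhds hy) ?_
  intro y' hy'
  simp only [Set.mem_preimage, Set.mem_setOf_eq] at hy'
  rw [hm] at hc
  exact lt_of_le_of_lt hy' hc

include hg in
/-- **EGA IV 15.6.6 (ii), case (α), for one generization**, assuming only that the local ring of
the base at `y₀` is Noetherian. -/
theorem dim_le_dim_of_generization_of_isGeomReducedAt'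
    (hirr : ∀ (y : Y) (K : Type u) [Field K]
      [Algebra (IsLocalRing.ResidueField (Y.presheaf.stalk y)) K],
      IsIrreducible ((FBase.bcπ (f.fiberToSpecResidueField y) K ≫ f.fiberι y).base ⁻¹'
        (connectedComponentIn (f.base ⁻¹' {y}) (g.base y))))
    (y₀ y' : Y) [IsNoetherianRing (Y.presheaf.stalk y₀)] (hy' : y' ⤳ y₀) (hne : y' ≠ y₀)
    (hopen : ∀ ξ ∈ connectedComponentIn (f.base ⁻¹' {y₀}) (g.base y₀),
      connectedComponentIn (f.base ⁻¹' {y₀}) (g.base y₀) ⊆ closure {ξ} → EGA43.IsUnivOpenAt f ξ)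
    (hα : FBase.IsGeomReducedAt (f.fiberToSpecResidueField (f.base (g.base y₀)))
      (f.asFiber (g.base y₀))) :
    topologicalKrullDim ↥(connectedComponentIn (f.base ⁻¹' {y₀}) (g.base y₀)) ≤
      topologicalKrullDim ↥(connectedComponentIn (f.base ⁻¹' {y'}) (g.base y')) := by
  obtain ⟨R, iR, iD, iV, u, hus, huη⟩ :=
    exists_dvr_of_specializes' hy' hne
  subst hus
  obtain ⟨t₀⟩ : Nonempty ↥(Spec (CommRingCat.of (FractionRing R))) := inferInstance
  set η := (Spec.map (CommRingCat.ofHom (algebraMap R (FractionRing R)))).base t₀ with hη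
  have huη' : u.base η = y' := by
    have := huη t₀
    rwa [Scheme.Hom.comp_apply] at this
  subst huη'
  set s : ↥(Spec (CommRingCat.of R)) := closedPoint R with hs
  set f' := pullback.snd f u with hf'
  set p₁ := pullback.fst f u with hp₁
  haveI : LocallyOfFiniteType f' :=
    MorphismProperty.pullback_snd (P := @LocallyOfFiniteType) f u inferInstance
  haveI : IsLocallyNoetherian (pullback f u) := LocallyOfFiniteType.isLocallyNoetherian f'
  have hsq : IsPullback p₁ f' f u := IsPullback.of_hasPullback f u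
  have hdim : ∀ t : ↥(pullback f u), FlatMor.fibreDimAt f' t = FlatMor.fibreDimAt f (p₁.base t) :=
    (Groth.Agent.S9358.result f u p₁ f' hsq 0).1
  have hirrY := isIrreducible_sectionComponent' f g hirr
  -- the components upstairs
  have hP : ∀ y'' : ↥(Spec (CommRingCat.of R)),
      connectedComponentIn (f'.base ⁻¹' {y''}) (sec' f u g hg y'') =
      {t : ↥(pullback f u) | f' t = y'' ∧
        p₁ t ∈ connectedComponentIn (f.base ⁻¹' {u y''}) (g (u y''))} ∧
      IsIrreducible (connectedComponentIn (f'.base ⁻¹' {y''}) (sec' f u g hg y'')) := by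
    intro y''
    have h1 := isIrreducible_fibre_pullback f u y''
      (connectedComponentIn (f.base ⁻¹' {u y''}) (g (u y'')))
      (@hirr (u y'') (Scheme.residueField _ y'') _ (u.residueFieldMap y'').hom.toAlgebra)
    have h2 := connectedComponentIn_pullback f u g hg y'' (IsPreirreducible.isPreconnected h1.2)
    exact ⟨h2, h2 ▸ h1⟩
  have hsy : ∀ t : ↥(Spec (CommRingCat.of R)), f' (sec' f u g hg t) = t := sec'_snd_apply f u g hg
  -- dimensions agree
  have hd : ∀ y'' : ↥(Spec (CommRingCat.of R)),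
      topologicalKrullDim ↥(connectedComponentIn (f'.base ⁻¹' {y''}) (sec' f u g hg y'')) =
      topologicalKrullDim ↥(connectedComponentIn (f.base ⁻¹' {u y''}) (g (u y''))) := by
    intro y''
    rw [dim_connectedComponentIn_eq_fibreDimAt' f' (sec' f u g hg y'') y'' (hsy y'') (hP y'').2,
      dim_connectedComponentIn_eq_fibreDimAt' f (g (u y'')) (u y'') (sec_apply f g hg (u y''))
        (hirrY (u y'')), hdim]
    have : p₁.base (sec' f u g hg y'') = g (u y'') := sec'_fst_apply f u g hg y''
    rw [this]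
  -- notation
  set xs := sec' f u g hg s with hxs
  set Cs := connectedComponentIn (f'.base ⁻¹' {s}) xs with hCs
  have hCs_sub : Cs ⊆ f'.base ⁻¹' {s} := connectedComponentIn_subset _ _
  have hxsF : xs ∈ f'.base ⁻¹' {s} := hsy s
  have hxsC : xs ∈ Cs := mem_connectedComponentIn hxsF
  -- generic point of the special component
  have hirr1 : IsIrreducible (connectedComponentIn (f'.base ⁻¹' {f'.base xs}) xs) := by
    have := (hP s).2
    rw [show f'.base xs = s from hsy s]
    exact this
  obtain ⟨ξ', hξ'C, hξ'gen⟩ := exists_generic_of_isIrreducible f' xs hirr1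
  rw [show f'.base xs = s from hsy s] at hξ'C hξ'gen
  have hfξ' : f'.base ξ' = s := hCs_sub hξ'C
  -- its image downstairs
  have hξC : p₁.base ξ' ∈ connectedComponentIn (f.base ⁻¹' {u s}) (g (u s)) := by
    have h1 : ξ' ∈ {t : ↥(pullback f u) | f' t = s ∧
        p₁ t ∈ connectedComponentIn (f.base ⁻¹' {u s}) (g (u s))} := by
      rw [← (hP s).1]; exact hξ'C
    exact h1.2
  have hξgen : connectedComponentIn (f.base ⁻¹' {u s}) (g (u s)) ⊆ closure {p₁.base ξ'} := by
    intro t ht
    have htF' : t ∈ f.base ⁻¹' {u.base s} := connectedComponentIn_subset _ _ ht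
    have htF : f.base t = u.base s := htF'
    obtain ⟨t', ht'1, ht'2⟩ := Scheme.Pullback.exists_preimage_pullback (f := f) (g := u) t s htF
    have ht'C : t' ∈ Cs := by
      rw [hCs, (hP s).1]
      exact ⟨ht'2, by rw [ht'1]; exact ht⟩
    have h1 : ξ' ⤳ t' := hξ'gen t' ht'C
    have h2 : p₁.base ξ' ⤳ t := by
      rw [← ht'1]; exact h1.map p₁.continuous
    exact specializes_iff_mem_closure.mp h2
  have hUO' : EGA43.IsUnivOpenAt f' ξ' :=
    isUnivOpenAt_of_isPullback hsq (p₁.base ξ') (hopen _ hξC hξgen) ξ' rfl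
  -- the hypotheses of the key lemma
  have hπ : ∃ π : (Spec (CommRingCat.of R)).presheaf.stalk (f'.base xs),
      maximalIdeal ((Spec (CommRingCat.of R)).presheaf.stalk (f'.base xs)) = Ideal.span {π} :=
    exists_maximalIdeal_stalk_eq_span R (f'.base xs) (hsy s)
  have hgenF : ∀ z : ↥(pullback f u), f'.base z = f'.base xs → z ⤳ xs → ξ' ⤳ z := by
    intro z hz hzx
    apply hξ'gen
    rw [show f'.base xs = s from hsy s] at hz
    exact mem_connectedComponentIn_of_specializes _ xs z hxsF hz hzx
  have hred : IsReduced ((f'.fiber (f'.base xs)).presheaf.stalk (f'.asFiber xs)) := by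
    apply isReduced_fiber_stalk_of_isGeomReducedAt f u xs
    have h1 : p₁.base xs = g (u s) := sec'_fst_apply f u g hg s
    rw [h1]
    exact hα
  have hdom : IsDomain ((f'.fiber (f'.base xs)).presheaf.stalk (f'.asFiber xs)) :=
    isDomain_fiber_stalk f' xs ξ' hred (by rw [hfξ']; exact (hsy s).symm) (hξ'gen xs hxsC) hgenF
  have hmax : ∀ z : ↥(pullback f u), f'.base z = f'.base ξ' → ξ' ∈ closure {z} → z = ξ' := by
    intro z hz hcl
    have hzξ : z ⤳ ξ' := specializes_iff_mem_closure.mpr hcl
    have hzF : z ∈ f'.base ⁻¹' {s} := by rw [hfξ'] at hz; exact hz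
    have h1 : z ∈ connectedComponentIn (f'.base ⁻¹' {s}) ξ' :=
      mem_connectedComponentIn_of_specializes _ ξ' z (hCs_sub hξ'C) hzF hzξ
    have h2 : connectedComponentIn (f'.base ⁻¹' {s}) xs =
        connectedComponentIn (f'.base ⁻¹' {s}) ξ' := connectedComponentIn_eq hξ'C
    have h3 : ξ' ⤳ z := hξ'gen z (by rw [h2]; exact h1)
    exact (hzξ.antisymm h3).eq
  have hηs : η ⤳ f'.base xs := by
    rw [show f'.base xs = s from hsy s]
    exact IsLocalRing.specializes_closedPoint η
  have hηne : η ≠ f'.base xs := by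
    rw [show f'.base xs = s from hsy s]
    intro h
    apply hne
    rw [h]
  have hηmax : ∀ z : ↥(Spec (CommRingCat.of R)), z ⤳ η → z = η :=
    fun z hz => eq_of_specializes_generic R t₀ z hz
  have hxη : sec' f u g hg η ⤳ xs := by
    have h1 : η ⤳ s := IsLocalRing.specializes_closedPoint η
    exact h1.map (sec' f u g hg).continuous
  have key := fibreDimAt_le_dim_connectedComponentIn f' xs ξ' hπ hdom (hξ'gen xs hxsC)
    (by rw [hfξ']; exact (hsy s).symm) hmax hUO' η hηs hηne hηmax (sec' f u g hg η) hxη (hsy η)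
  -- conclude
  rw [← hd s, ← hd η]
  refine le_trans (le_of_eq ?_) key
  have h2 : connectedComponentIn (f'.base ⁻¹' {s}) xs =
      connectedComponentIn (f'.base ⁻¹' {s}) ξ' := connectedComponentIn_eq hξ'C
  rw [h2]
  exact dim_connectedComponentIn_eq_fibreDimAt' f' ξ' s hfξ' (h2 ▸ (hP s).2)

end Sec

end Groth.Agent.Lib.Helper8.SecDimFP
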