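import Mathlib
import Groth.Agent.Lib.Helper8.SecDimFP

/-!
# Helper library (helper8): EGA IV 15.6.6 (ii) for morphisms of finite presentation
-/

set_option autoImplicit false
universe u
open AlgebraicGeometry CategoryTheory CategoryTheory.Limits IsLocalRing

namespace Groth.Agent.Lib.Helper8.SecDimFP

open Groth.Agent.Lib.Helper12.SecComp Groth.Agent.Lib.Helper12.SecCompBC
open Groth.Agent.Lib.Helper12.ConstrNhds Groth.Agent.Lib.Helper12.UnivOpenDim Topology

/-- **EGA IV 15.6.6 (ii)**, finite presentation version. -/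
theorem main {X Y : Scheme.{u}} (f : X ⟶ Y)
    [LocallyOfFinitePresentation f] (g : Y ⟶ X) (hg : g ≫ f = 𝟙 Y)
    (hirr : ∀ y : Y, (∀ (K : Type u) [Field K] [Algebra (IsLocalRing.ResidueField (Y.presheaf.stalk y)) K],
        IsIrreducible ((FBase.bcπ (f.fiberToSpecResidueField y) K ≫ f.fiberι y).base ⁻¹' connectedComponentIn (f.base ⁻¹' {y}) (g.base y))))
    (y₀ : Y) (hopen : ∀ ξ ∈ connectedComponentIn (f.base ⁻¹' {y₀}) (g.base y₀), connectedComponentIn (f.base ⁻¹' {y₀}) (g.base y₀) ⊆ closure {ξ} → EGA43.IsUnivOpenAt f ξ)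
    (hαβ : (FBase.IsGeomReducedAt (f.fiberToSpecResidueField (f.base (g.base y₀))) (f.asFiber (g.base y₀)) ∧
        IsNoetherianRing (Y.presheaf.stalk y₀)) ∨
      (∀ y' : Y, y₀ ∈ closure {y'} → closure {y'} ∈ irreducibleComponents (Y : Type u) →
        topologicalKrullDim ↥(f.fiber y') = topologicalKrullDim ↥(connectedComponentIn (f.base ⁻¹' {y'}) (g.base y')))) :
    ∃ V ∈ nhds y₀, ∀ z ∈ V, topologicalKrullDim ↥(connectedComponentIn (f.base ⁻¹' {z}) (g.base z)) = topologicalKrullDim ↥(connectedComponentIn (f.base ⁻¹' {y₀}) (g.base y₀)) := by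
  have hfg : ∀ y : Y, f.base (g.base y) = y := sec_apply f g hg
  have hirr' : ∀ (y : Y) (K : Type u) [Field K]
      [Algebra (IsLocalRing.ResidueField (Y.presheaf.stalk y)) K],
      IsIrreducible ((FBase.bcπ (f.fiberToSpecResidueField y) K ≫ f.fiberι y).base ⁻¹'
        (connectedComponentIn (f.base ⁻¹' {y}) (g.base y))) := fun y K _ _ => hirr y K
  have hirrY := isIrreducible_sectionComponent' f g hirr'
  set d := fun y : Y => topologicalKrullDim ↥(connectedComponentIn (f.base ⁻¹' {y}) (g.base y))
    with hd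
  have husc : UpperSemicontinuous d := upperSemicontinuous_dim_sectionComponent f g hg hirrY
  have hdF : ∀ y : Y, d y = FlatMor.fibreDimAt f (g.base y) :=
    fun y => dim_connectedComponentIn_eq_fibreDimAt' f (g.base y) y (hfg y) (hirrY y)
  -- monotone under specialization
  have hmono : ∀ a b : Y, a ⤳ b → d a ≤ d b := by
    intro a b hab
    by_contra hlt
    rw [not_le] at hlt
    have h1 : ∀ᶠ z in nhds b, d z < d a := husc b (d a) hlt
    have h2 : ∀ᶠ z in nhds a, d z < d a := h1.filter_mono hab.nhds_le_nhds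
    exact lt_irrefl _ h2.self_of_nhds
  -- generic point of the component over y₀
  have hirr0 : IsIrreducible (connectedComponentIn (f.base ⁻¹' {f.base (g.base y₀)}) (g.base y₀)) := by
    rw [hfg]; exact hirrY y₀
  obtain ⟨ξ, hξC, hξgen⟩ := exists_generic_of_isIrreducible f (g.base y₀) hirr0
  rw [hfg] at hξC hξgen
  have hξcl : connectedComponentIn (f.base ⁻¹' {y₀}) (g.base y₀) ⊆ closure {ξ} :=
    fun t ht => specializes_iff_mem_closure.mp (hξgen t ht)
  have hUO := hopen ξ hξC hξcl
  have hCsub : connectedComponentIn (f.base ⁻¹' {y₀}) (g.base y₀) ⊆ f.base ⁻¹' {y₀} :=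
    connectedComponentIn_subset _ _
  have hfξ : f.base ξ = y₀ := hCsub hξC
  have hgen : ∀ y' : Y, y' ⤳ y₀ → d y₀ ≤ d y' := by
    rcases hαβ with ⟨hα, hN⟩ | hβ
    · intro y' hy'
      by_cases hne : y' = y₀
      · rw [hne]
      · haveI := hN
        exact dim_le_dim_of_generization_of_isGeomReducedAt' f g hg hirr' y₀ y' hy' hne hopen hα
    · intro y' hy'
      obtain ⟨y'', hy''⟩ := QuasiSober.sober (isIrreducible_irreducibleComponent (x := y'))
        isClosed_irreducibleComponent
      have h1 : y'' ⤳ y' := hy''.specializes mem_irreducibleComponent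
      have hcl : closure {y''} = irreducibleComponent y' := hy''.def
      have h2 : closure {y''} ∈ irreducibleComponents (Y : Type u) :=
        hcl ▸ irreducibleComponent_mem_irreducibleComponents y'
      have h3 : y₀ ∈ closure {y''} := specializes_iff_mem_closure.mp (h1.trans hy')
      have h4 := hβ y'' h3 h2
      have hmax : ∀ x' : X, f.base x' = f.base ξ → ξ ∈ closure {x'} → x' = ξ := by
        intro z hz hcl'
        have hzξ : z ⤳ ξ := specializes_iff_mem_closure.mpr hcl'
        have hzF : z ∈ f.base ⁻¹' {y₀} := by rw [hfξ] at hz; exact hz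
        have h5 : z ∈ connectedComponentIn (f.base ⁻¹' {y₀}) ξ :=
          mem_connectedComponentIn_of_specializes _ ξ z (hCsub hξC) hzF hzξ
        have h6 : connectedComponentIn (f.base ⁻¹' {y₀}) (g.base y₀) =
            connectedComponentIn (f.base ⁻¹' {y₀}) ξ := connectedComponentIn_eq hξC
        have h7 : ξ ⤳ z := hξgen z (by rw [h6]; exact h5)
        exact (hzξ.antisymm h7).eq
      have h5 := le_dim_of_isUnivOpenAt f ξ hmax hUO ⊤ trivial y''
        (by rw [hfξ]; exact h1.trans hy')
      have h6 : topologicalKrullDim ↥(((⊤ : X.Opens) : Set X) ∩ f.base ⁻¹' {y''}) =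
          topologicalKrullDim ↥(f.fiber y'') := by
        rw [show ((⊤ : X.Opens) : Set X) ∩ f.base ⁻¹' {y''} = f.base ⁻¹' {y''} by simp]
        exact (IsHomeomorph.topologicalKrullDim_eq _ (f.fiberHomeo y'').isHomeomorph).symm
      have h8 : connectedComponentIn (f.base ⁻¹' {y₀}) (g.base y₀) =
          connectedComponentIn (f.base ⁻¹' {y₀}) ξ := connectedComponentIn_eq hξC
      have h7 : d y₀ = FlatMor.fibreDimAt f ξ := by
        show topologicalKrullDim ↥(connectedComponentIn (f.base ⁻¹' {y₀}) (g.base y₀)) = _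
        rw [h8]
        exact dim_connectedComponentIn_eq_fibreDimAt' f ξ y₀ hfξ (h8 ▸ hirrY y₀)
      calc d y₀ = FlatMor.fibreDimAt f ξ := h7
        _ ≤ _ := h5
        _ = topologicalKrullDim ↥(f.fiber y'') := h6
        _ = d y'' := h4
        _ ≤ d y' := hmono y'' y' h1
  -- neighbourhood
  obtain ⟨m, hm⟩ : ∃ m : ℕ, d y₀ = (m : WithBot ℕ∞) := by
    rw [hdF]; exact exists_nat_fibreDimAt f _
  have hE2 : {z : Y | d y₀ ≤ d z} ∈ nhds y₀ := by
    have hlc : IsLocallyConstructible {z : Y | d y₀ ≤ d z} := by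
      rcases Nat.eq_zero_or_pos m with h0 | hpos
      · have hU : {z : Y | d y₀ ≤ d z} = Set.univ := by
          ext z
          simp only [Set.mem_setOf_eq, Set.mem_univ, iff_true]
          obtain ⟨k, hk⟩ : ∃ k : ℕ, d z = (k : WithBot ℕ∞) := by
            rw [hdF]; exact exists_nat_fibreDimAt f _
          rw [hm, hk, h0]
          exact_mod_cast Nat.zero_le k
        rw [hU]; exact IsLocallyConstructible.univ
      · obtain ⟨m', rfl⟩ : ∃ m', m = m' + 1 := ⟨m - 1, by omega⟩
        have hop := Groth.Agent.Lib.Helper12.Chevalley.isOpen_setOf_fibreDimAt_le f m'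
        have hretro :=
          Groth.Agent.Lib.Helper12.FibreDimFP.isRetrocompact_setOf_fibreDimAt_le f m'
        have hlcA : IsLocallyConstructible {x : X | FlatMor.fibreDimAt f x ≤ m'} :=
          hretro.isLocallyConstructible hop
        have hpre := isLocallyConstructible_preimage g hlcA
        have hcompl := isLocallyConstructible_compl hpre
        have hU : {z : Y | d y₀ ≤ d z} =
            (g ⁻¹' {x : X | FlatMor.fibreDimAt f x ≤ m'})ᶜ := by
          ext z
          simp only [Set.mem_setOf_eq, Set.mem_compl_iff, Set.mem_preimage]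
          rw [hm, hdF z]
          obtain ⟨k, hk⟩ := exists_nat_fibreDimAt f (g.base z)
          rw [hk]
          constructor
          · intro h1 h2
            have h1' : m' + 1 ≤ k := by exact_mod_cast h1
            have h2' : k ≤ m' := by exact_mod_cast h2
            omega
          · intro h2
            have h3 : ¬ (k ≤ m') := fun h => h2 (by exact_mod_cast h)
            have h4 : m' + 1 ≤ k := by omega
            exact_mod_cast h4
        rw [hU]; exact hcompl
    exact mem_nhds_of_isLocallyConstructible _ hlc y₀ hgen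
  have h0 : d y₀ < ((m + 1 : ℕ) : WithBot ℕ∞) := by
    rw [hm]; exact_mod_cast Nat.lt_succ_self m
  have hL : {z : Y | d z < ((m + 1 : ℕ) : WithBot ℕ∞)} ∈ nhds y₀ := husc y₀ _ h0
  refine ⟨_, Filter.inter_mem hE2 hL, ?_⟩
  rintro z ⟨hz1, hz2⟩
  apply le_antisymm _ hz1
  show d z ≤ d y₀
  rw [hm]
  obtain ⟨k, hk⟩ : ∃ k : ℕ, d z = (k : WithBot ℕ∞) := by
    rw [hdF]; exact exists_nat_fibreDimAt f _
  have hz2' : d z < ((m + 1 : ℕ) : WithBot ℕ∞) := hz2
  rw [hk] at hz2' ⊢
  have : k < m + 1 := by exact_mod_cast hz2'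
  exact_mod_cast Nat.lt_succ_iff.mp this

end Groth.Agent.Lib.Helper8.SecDimFP
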