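import Groth.Agent.Lib.Helper8.FreeIdeal

set_option autoImplicit false
set_option linter.style.haveILetI false
universe u v

open TensorProduct

namespace Groth.Agent.Lib.Helper8

/-- Local case: over a local ring with nilpotent maximal ideal, flatness can be tested on a family of
algebras whose kernels have zero intersection. -/
theorem flat_of_forall_flat_baseChange_of_isLocalRing {A : Type u} [CommRing A] [IsLocalRing A]
    (hnil : IsNilpotent (IsLocalRing.maximalIdeal A))
    {ι : Type*} (B : ι → Type u) [∀ i, CommRing (B i)] [∀ i, Algebra A (B i)]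
    (hB : ∀ a : A, (∀ i, algebraMap A (B i) a = 0) → a = 0)
    (M : Type u) [AddCommGroup M] [Module A M]
    (h : ∀ i, Module.Flat (B i) (B i ⊗[A] M)) : Module.Flat A M := by
  letI : Field (A ⧸ IsLocalRing.maximalIdeal A) := Ideal.Quotient.field _
  have hfree : Module.Free (A ⧸ IsLocalRing.maximalIdeal A)
      ((A ⧸ IsLocalRing.maximalIdeal A) ⊗[A] M) := Module.Free.of_divisionRing _ _
  obtain ⟨R₀, hR₀⟩ := exists_ideal_flat_free.{u, u} M _ hnil hfree
  have hzero : R₀ = ⊥ := by
    rw [eq_bot_iff]
    intro r hr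
    rw [Ideal.mem_bot]
    apply hB
    intro i
    have h1 := (hR₀ (B i)).1 (h i)
    have h2 : algebraMap A (B i) r ∈ R₀.map (algebraMap A (B i)) := Ideal.mem_map_of_mem _ hr
    rw [h1] at h2
    exact h2
  have h3 : R₀.map (algebraMap A A) = ⊥ := by rw [hzero, Ideal.map_bot]
  haveI : Module.Free A (A ⊗[A] M) := (hR₀ A).2 h3
  haveI : Module.Free A M := Module.Free.of_equiv (TensorProduct.lid A M)
  infer_instance

/-- In a semilocal ring, there is an element outside a given maximal ideal lying in all the others. -/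
theorem exists_notMem_mem_other_maximal {A : Type u} [CommRing A] [Finite (MaximalSpectrum A)]
    (m : Ideal A) [hm : m.IsMaximal] :
    ∃ s : A, s ∉ m ∧ ∀ m' : Ideal A, m'.IsMaximal → m' ≠ m → s ∈ m' := by
  classical
  haveI := Fintype.ofFinite (MaximalSpectrum A)
  have hex : ∀ p : MaximalSpectrum A, ∃ t : A, t ∉ m ∧ (p.asIdeal ≠ m → t ∈ p.asIdeal) := by
    intro p
    by_cases hp : p.asIdeal = m
    · exact ⟨1, (Ideal.ne_top_iff_one m).mp hm.ne_top, fun h => absurd hp h⟩
    · have hnle : ¬ p.asIdeal ≤ m := fun hle => hp (p.isMaximal.eq_of_le hm.ne_top hle)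
      obtain ⟨t, htp, htm⟩ := Set.not_subset.mp hnle
      exact ⟨t, htm, fun _ => htp⟩
  choose t ht1 ht2 using hex
  refine ⟨∏ p, t p, ?_, ?_⟩
  · intro hmem
    obtain ⟨p, _, hp⟩ := (hm.isPrime.prod_mem_iff).mp hmem
    exact ht1 p hp
  · intro m' hm' hne
    exact Ideal.mem_of_dvd m' (Finset.dvd_prod_of_mem t (Finset.mem_univ (⟨m', hm'⟩ : MaximalSpectrum A)))
      (ht2 ⟨m', hm'⟩ hne)

theorem span_mul_le_jacobson {A : Type u} [CommRing A] (m : Ideal A) [hm : m.IsMaximal] (s : A)
    (hs : ∀ m' : Ideal A, m'.IsMaximal → m' ≠ m → s ∈ m') :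
    Ideal.span {s} * m ≤ Ring.jacobson A := by
  rw [Ring.jacobson_eq_sInf_isMaximal]
  apply le_sInf
  intro m' hm'
  by_cases h : m' = m
  · rw [h]; exact Ideal.mul_le_right
  · refine le_trans (Ideal.mul_le_left (I := Ideal.span {s}) (J := m)) ?_
    rw [Ideal.span_singleton_le_iff_mem]
    exact hs m' hm' h

end Groth.Agent.Lib.Helper8

namespace Groth.Agent.Lib.Helper8

section Localize

variable {A : Type u} [CommRing A] [Finite (MaximalSpectrum A)] (m : Ideal A) [hm : m.IsMaximal]

theorem span_pow_mul_pow_eq_bot {n : ℕ} (hn : Ring.jacobson A ^ n = 0) (s : A)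
    (hs : ∀ m' : Ideal A, m'.IsMaximal → m' ≠ m → s ∈ m') :
    Ideal.span {s} ^ n * m ^ n = ⊥ := by
  rw [← mul_pow, eq_bot_iff, ← Ideal.zero_eq_bot, ← hn]
  exact Ideal.pow_right_mono (span_mul_le_jacobson m s hs) n

theorem isNilpotent_maximalIdeal_localization (hnil : IsNilpotent (Ring.jacobson A)) :
    IsNilpotent (IsLocalRing.maximalIdeal (Localization.AtPrime m)) := by
  obtain ⟨s, hsm, hs⟩ := exists_notMem_mem_other_maximal m
  obtain ⟨n, hn⟩ := hnil
  refine ⟨n, ?_⟩
  have h1 := span_pow_mul_pow_eq_bot m hn s hs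
  have h2 := congrArg (Ideal.map (algebraMap A (Localization.AtPrime m))) h1
  rw [Ideal.map_mul, Ideal.map_pow, Ideal.map_pow, Ideal.map_bot, Ideal.map_span,
    Set.image_singleton] at h2
  have hunit : IsUnit (algebraMap A (Localization.AtPrime m) s) :=
    IsLocalization.map_units _ (⟨s, hsm⟩ : m.primeCompl)
  rw [Ideal.span_singleton_eq_top.mpr hunit, ← Ideal.one_eq_top, one_pow, one_mul,
    Localization.AtPrime.map_eq_maximalIdeal] at h2
  rw [h2]
  rfl

theorem localization_family_injective (hnil : IsNilpotent (Ring.jacobson A))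
    {ι : Type*} (B : ι → Type u) [∀ i, CommRing (B i)] [∀ i, Algebra A (B i)]
    (hB : ∀ a : A, (∀ i, algebraMap A (B i) a = 0) → a = 0)
    (a : Localization.AtPrime m)
    (ha : ∀ i, algebraMap (Localization.AtPrime m)
      (Localization (Algebra.algebraMapSubmonoid (B i) m.primeCompl)) a = 0) : a = 0 := by
  obtain ⟨s, hsm, hs⟩ := exists_notMem_mem_other_maximal m
  obtain ⟨n, hn⟩ := hnil
  have h1 := span_pow_mul_pow_eq_bot m hn s hs
  obtain ⟨a0, t, rfl⟩ := IsLocalization.exists_mk'_eq m.primeCompl a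
  rw [IsLocalization.mk'_eq_zero_iff]
  refine ⟨⟨s ^ n, Submonoid.pow_mem _ (show s ∈ m.primeCompl from hsm) n⟩, ?_⟩
  apply hB
  intro i
  have h2 : algebraMap A (Localization (Algebra.algebraMapSubmonoid (B i) m.primeCompl)) a0 = 0 := by
    rw [IsScalarTower.algebraMap_apply A (Localization.AtPrime m) _,
      ← IsLocalization.mk'_spec (Localization.AtPrime m) a0 t, map_mul, ha i, zero_mul]
  rw [IsScalarTower.algebraMap_apply A (B i) _,
    IsLocalization.map_eq_zero_iff (Algebra.algebraMapSubmonoid (B i) m.primeCompl)] at h2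
  obtain ⟨⟨c, si, hsi, rfl⟩, hc⟩ := h2
  simp only at hc
  have hsim : si ∉ m := hsi
  have hsup : Ideal.span {si} ⊔ m = ⊤ := by
    by_contra hne
    have heq : m = Ideal.span {si} ⊔ m := hm.eq_of_le hne le_sup_right
    apply hsim
    rw [heq]
    exact Ideal.mem_sup_left (Ideal.mem_span_singleton_self si)
  have hsup' : Ideal.span {si} ⊔ m ^ n = ⊤ := Ideal.sup_pow_eq_top hsup
  obtain ⟨y, hy, μ, hμ, hyμ⟩ := Submodule.mem_sup.mp ((Ideal.eq_top_iff_one _).mp hsup')
  obtain ⟨r, rfl⟩ := Ideal.mem_span_singleton'.mp hy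
  have h3 : s ^ n * μ = 0 := by
    have hmem : s ^ n * μ ∈ Ideal.span {s} ^ n * m ^ n :=
      Ideal.mul_mem_mul (Ideal.pow_mem_pow (Ideal.mem_span_singleton_self s) n) hμ
    rw [h1] at hmem
    exact hmem
  have h4 : s ^ n * a0 = (s ^ n * r) * (si * a0) := by
    calc s ^ n * a0 = s ^ n * (r * si + μ) * a0 := by rw [hyμ, mul_one]
      _ = (s ^ n * r) * (si * a0) + (s ^ n * μ) * a0 := by ring
      _ = (s ^ n * r) * (si * a0) := by rw [h3, zero_mul, add_zero]
  change algebraMap A (B i) (s ^ n * a0) = 0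
  rw [h4, map_mul, map_mul (algebraMap A (B i)) si a0, hc, mul_zero]

end Localize

/-- EGA IV 11.4.2-type statement: over a semilocal ring with nilpotent Jacobson radical, flatness can be
tested on a family of algebras whose kernels have zero intersection. -/
theorem flat_of_forall_flat_baseChange_of_semilocal {A : Type u} [CommRing A]
    [Finite (MaximalSpectrum A)] (hnil : IsNilpotent (Ring.jacobson A))
    {ι : Type*} (B : ι → Type u) [∀ i, CommRing (B i)] [∀ i, Algebra A (B i)]
    (hB : ∀ a : A, (∀ i, algebraMap A (B i) a = 0) → a = 0)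
    (M : Type u) [AddCommGroup M] [Module A M]
    (h : ∀ i, Module.Flat (B i) (B i ⊗[A] M)) : Module.Flat A M := by
  apply Module.flat_of_isLocalized_maximal A M (fun P _ => Localization.AtPrime P ⊗[A] M)
    (fun P _ => TensorProduct.mk A (Localization.AtPrime P) M 1)
  intro P hP
  haveI : Module.Flat (Localization.AtPrime P) (Localization.AtPrime P ⊗[A] M) := by
    apply flat_of_forall_flat_baseChange_of_isLocalRing
      (isNilpotent_maximalIdeal_localization P hnil)
      (fun i => Localization (Algebra.algebraMapSubmonoid (B i) P.primeCompl))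
      (fun a ha => localization_family_injective P hnil B hB a ha)
    intro i
    haveI := h i
    haveI : Module.Flat (Localization (Algebra.algebraMapSubmonoid (B i) P.primeCompl))
        (Localization (Algebra.algebraMapSubmonoid (B i) P.primeCompl) ⊗[A] M) :=
      Module.Flat.of_linearEquiv
        (AlgebraTensorModule.cancelBaseChange A (B i)
          (Localization (Algebra.algebraMapSubmonoid (B i) P.primeCompl))
          (Localization (Algebra.algebraMapSubmonoid (B i) P.primeCompl)) M).symm
    exact Module.Flat.of_linearEquiv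
      (AlgebraTensorModule.cancelBaseChange A (Localization.AtPrime P)
        (Localization (Algebra.algebraMapSubmonoid (B i) P.primeCompl))
        (Localization (Algebra.algebraMapSubmonoid (B i) P.primeCompl)) M)
  exact Module.Flat.trans A (Localization.AtPrime P) _

end Groth.Agent.Lib.Helper8
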