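import Mathlib
import Groth.Prelude
import Groth.Agent.S9237
import Groth.Agent.Lib.Helper8.SmoothBranches
import Groth.Agent.Lib.Helper8.Hzl.TensorHens

/-!
# Branches and smooth ring maps with purely inseparable residue field extension

For `R → S` smooth, `q` a prime of `S` over `p` with `κ(q)/κ(p)` purely inseparable: the
henselizations of `R_p` and `S_q` have the same number of minimal primes.
-/

set_option autoImplicit false
universe u
open IsLocalRing TensorProduct

namespace Groth.Agent.Lib.Helper8.SmoothBranchesHens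

open Groth.Agent.Lib.Helper8 Groth.Agent.Lib.Helper8.Hzl Groth.Agent.Lib.Helper8.SmoothBranches
open Groth.Agent.Lib.Helper8.UnibranchHens

section abstractLemmas

theorem isUnibranch_of_henselian_domain (A : Type u) [CommRing A] [IsDomain A]
    [HenselianLocalRing A] : CAlg2.IsUnibranch A := by
  have hnilA : nilradical A = ⊥ := by rw [nilradical_eq_zero, Ideal.zero_eq_bot]
  haveI : (nilradical A).IsPrime := by rw [hnilA]; exact Ideal.isPrime_bot
  have hdomred : IsDomain (CAlg2.red A) := Ideal.Quotient.isDomain _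
  haveI := hdomred
  exact ⟨hdomred, isLocalRing_of_isIntegral_of_isDomain A (CAlg2.normRed A)⟩

theorem encard_eq_one_of_unibranch (D T : Type u) [CommRing D] [IsLocalRing D] [IsDomain D]
    [CommRing T] [IsLocalRing T] [Algebra D T] [IsLocalHom (algebraMap D T)]
    [Hensel.IsHenselization D T] (hDU : CAlg2.IsUnibranch D) :
    (minimalPrimes T).encard = 1 := by
  have hfin : (minimalPrimes D).Finite := by
    rw [IsDomain.minimalPrimes_eq_singleton_bot]
    exact Set.finite_singleton _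
  have hnb : Brnch.numBranches D = 1 := by
    rw [show Brnch.numBranches D = _ from if_pos hfin]
    haveI := hDU.2
    exact ENat.card_eq_one_iff_unique.mpr ⟨inferInstance⟩
  rw [← ENat.card_coe_set_eq, Groth.Agent.S9237.result D T, hnb]

variable (Rh CQ Sh : Type u) [CommRing Rh] [CommRing CQ] [IsLocalRing CQ] [CommRing Sh]
  [IsLocalRing Sh] [Algebra CQ Sh] [IsLocalHom (algebraMap CQ Sh)] [Algebra Rh CQ] [Algebra Rh Sh]
  [IsScalarTower Rh CQ Sh] (𝔭 : Ideal Rh) (IQ : Ideal CQ)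
  [IsLocalRing (CQ ⧸ IQ)] [Algebra (Rh ⧸ 𝔭) (CQ ⧸ IQ)]

theorem hpi_quotient (hIQ : IQ ≠ ⊤)
    (halg : ∀ y : Rh, algebraMap (Rh ⧸ 𝔭) (CQ ⧸ IQ) (Ideal.Quotient.mk 𝔭 y) =
      Ideal.Quotient.mk IQ (algebraMap Rh CQ y))
    (hpiS : ∀ t : Sh, ∃ (n : ℕ) (y : Rh),
      t ^ (ringExpChar (ResidueField Sh)) ^ n - algebraMap Rh Sh y ∈ maximalIdeal Sh) :
    ∀ x : (CQ ⧸ IQ) ⧸ maximalIdeal (CQ ⧸ IQ), ∃ n : ℕ,
      x ^ (ringExpChar ((CQ ⧸ IQ) ⧸ maximalIdeal (CQ ⧸ IQ))) ^ n ∈
        ((Ideal.Quotient.mk (maximalIdeal (CQ ⧸ IQ))).comp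
          (algebraMap (Rh ⧸ 𝔭) (CQ ⧸ IQ))).range := by
  haveI hlocmk : IsLocalHom (Ideal.Quotient.mk IQ) := BranchSumGeom.isLocalHom_mk IQ hIQ
  have hIQle : IQ ≤ maximalIdeal CQ := IsLocalRing.le_maximalIdeal hIQ
  -- the residue map to the residue field of `Sh`
  let ψ₀ : CQ ⧸ IQ →+* ResidueField Sh :=
    Ideal.Quotient.lift IQ ((residue Sh).comp (algebraMap CQ Sh)) (fun c hc => by
      rw [RingHom.comp_apply, residue_eq_zero_iff]
      exact map_nonunit (algebraMap CQ Sh) c (hIQle hc))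
  let ψ : (CQ ⧸ IQ) ⧸ maximalIdeal (CQ ⧸ IQ) →+* ResidueField Sh :=
    Ideal.Quotient.lift _ ψ₀ (fun d hd => by
      obtain ⟨c, rfl⟩ := Ideal.Quotient.mk_surjective d
      have hc : c ∈ maximalIdeal CQ := by
        by_contra hnot
        have hu : IsUnit c := by rwa [mem_maximalIdeal, mem_nonunits_iff, not_not] at hnot
        exact (mem_maximalIdeal _).mp hd (hu.map _)
      show residue Sh (algebraMap CQ Sh c) = 0
      rw [residue_eq_zero_iff]
      exact map_nonunit (algebraMap CQ Sh) c hc)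
  letI : Field ((CQ ⧸ IQ) ⧸ maximalIdeal (CQ ⧸ IQ)) := Ideal.Quotient.field _
  have hexp : ringExpChar ((CQ ⧸ IQ) ⧸ maximalIdeal (CQ ⧸ IQ)) =
      ringExpChar (ResidueField Sh) := by
    haveI : ExpChar (ResidueField Sh) (ringExpChar (ResidueField Sh)) := ringExpChar.expChar _
    haveI : ExpChar ((CQ ⧸ IQ) ⧸ maximalIdeal (CQ ⧸ IQ)) (ringExpChar (ResidueField Sh)) :=
      RingHom.expChar ψ ψ.injective _
    exact ringExpChar.eq _ _
  intro x
  obtain ⟨d', rfl⟩ := Ideal.Quotient.mk_surjective x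
  obtain ⟨d, rfl⟩ := Ideal.Quotient.mk_surjective d'
  obtain ⟨n, y, hy⟩ := hpiS (algebraMap CQ Sh d)
  refine ⟨n, RingHom.mem_range.mpr ⟨Ideal.Quotient.mk 𝔭 y, ?_⟩⟩
  rw [hexp]
  have h1 : d ^ (ringExpChar (ResidueField Sh)) ^ n - algebraMap Rh CQ y ∈ maximalIdeal CQ := by
    by_contra hnot
    have hu : IsUnit (d ^ (ringExpChar (ResidueField Sh)) ^ n - algebraMap Rh CQ y) := by
      rwa [mem_maximalIdeal, mem_nonunits_iff, not_not] at hnot
    have hu' := hu.map (algebraMap CQ Sh)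
    rw [map_sub, map_pow, ← IsScalarTower.algebraMap_apply Rh CQ Sh] at hu'
    exact (mem_maximalIdeal _).mp hy hu'
  have h2 : Ideal.Quotient.mk IQ
      (d ^ (ringExpChar (ResidueField Sh)) ^ n - algebraMap Rh CQ y) ∈ maximalIdeal (CQ ⧸ IQ) :=
    map_nonunit (Ideal.Quotient.mk IQ) _ h1
  symm
  rw [← sub_eq_zero, RingHom.comp_apply, halg]
  rw [← map_pow, ← map_pow, ← map_sub, ← map_sub, Ideal.Quotient.eq_zero_iff_mem]
  exact h2

theorem encard_eq_one_quotient_of_smooth [IsDomain (Rh ⧸ 𝔭)] [IsLocalRing (Rh ⧸ 𝔭)]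
    (hIQ : IQ ≠ ⊤)
    (halg : ∀ y : Rh, algebraMap (Rh ⧸ 𝔭) (CQ ⧸ IQ) (Ideal.Quotient.mk 𝔭 y) =
      Ideal.Quotient.mk IQ (algebraMap Rh CQ y))
    (hAU : CAlg2.IsUnibranch (Rh ⧸ 𝔭))
    (Sb : Type u) [CommRing Sb] [Algebra (Rh ⧸ 𝔭) Sb] [Algebra.Smooth (Rh ⧸ 𝔭) Sb]
    (Qb : Ideal Sb) [Qb.IsPrime] [Algebra Sb (CQ ⧸ IQ)] [IsLocalization.AtPrime (CQ ⧸ IQ) Qb]
    [IsScalarTower (Rh ⧸ 𝔭) Sb (CQ ⧸ IQ)] [IsLocalHom (algebraMap (Rh ⧸ 𝔭) (CQ ⧸ IQ))]
    (T : Type u) [CommRing T] [IsLocalRing T] [Algebra (CQ ⧸ IQ) T]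
    [IsLocalHom (algebraMap (CQ ⧸ IQ) T)] [Hensel.IsHenselization (CQ ⧸ IQ) T]
    (hpiS : ∀ t : Sh, ∃ (n : ℕ) (y : Rh),
      t ^ (ringExpChar (ResidueField Sh)) ^ n - algebraMap Rh Sh y ∈ maximalIdeal Sh) :
    (minimalPrimes T).encard = 1 := by
  obtain ⟨hDdom, hDU⟩ := SmoothUnibranch.isUnibranch_of_smooth (Rh ⧸ 𝔭) Sb Qb (CQ ⧸ IQ) hAU
    (hpi_quotient Rh CQ Sh 𝔭 IQ hIQ halg hpiS)
  haveI := hDdom
  exact encard_eq_one_of_unibranch (CQ ⧸ IQ) T hDU

end abstractLemmas

section main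

variable (R : Type u) [CommRing R] (S : Type u) [CommRing S] [Algebra R S]
  (p : Ideal R) [p.IsPrime] (q : Ideal S) [q.IsPrime] [q.LiesOver p]
  (Rh : Type u) [CommRing Rh] [IsLocalRing Rh] [Algebra (Localization.AtPrime p) Rh]
  [IsLocalHom (algebraMap (Localization.AtPrime p) Rh)]
  [Algebra R Rh] [IsScalarTower R (Localization.AtPrime p) Rh]
  (Sh : Type u) [CommRing Sh] [IsLocalRing Sh] [Algebra (Localization.AtPrime q) Sh]
  [IsLocalHom (algebraMap (Localization.AtPrime q) Sh)]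
  [Algebra S Sh] [IsScalarTower S (Localization.AtPrime q) Sh] [Algebra R Sh] [IsScalarTower R S Sh]
  [Algebra Rh Sh] [IsScalarTower R Rh Sh]
  [hR : Hensel.IsHenselization (Localization.AtPrime p) Rh]

include p q hR in
/-- A map `R^h → S^h` over `R → S` is automatically local. -/
theorem isLocalHom_of_hens : IsLocalHom (algebraMap Rh Sh) := by
  have hle : (maximalIdeal Rh).map (algebraMap Rh Sh) ≤ maximalIdeal Sh := by
    rw [← henselization_map_maximalIdeal (Localization.AtPrime p) Rh,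
      ← Localization.AtPrime.map_eq_maximalIdeal, Ideal.map_map, Ideal.map_map,
      Ideal.map_le_iff_le_comap]
    intro r hr
    rw [Ideal.mem_comap]
    simp only [RingHom.comp_apply]
    rw [← IsScalarTower.algebraMap_apply R (Localization.AtPrime p) Rh,
      ← IsScalarTower.algebraMap_apply R Rh Sh, IsScalarTower.algebraMap_apply R S Sh,
      mem_maximalIdeal_algebraMap_iff S q Sh]
    rw [‹q.LiesOver p›.over] at hr
    exact hr
  exact ((local_hom_TFAE (algebraMap Rh Sh)).out 0 2 rfl rfl).mpr hle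

variable [Algebra.Smooth R S] [hS : Hensel.IsHenselization (Localization.AtPrime q) Sh]

include p q hR hS in
theorem flat_hens : Module.Flat Rh Sh := by
  haveI hlocRS : IsLocalHom (algebraMap Rh Sh) := isLocalHom_of_hens R S p q Rh Sh
  letI algCQSh : Algebra (Localization.AtPrime (tensorPrime R S Rh Sh)) Sh := (locTo R S Rh Sh).toAlgebra
  haveI hlocCQ : IsLocalHom (algebraMap (Localization.AtPrime (tensorPrime R S Rh Sh)) Sh) := isLocalHom_locTo R S Rh Sh
  letI algBCQ : Algebra (Localization.AtPrime q) (Localization.AtPrime (tensorPrime R S Rh Sh)) := (fromLoc R S q Rh Sh).toAlgebra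
  haveI hlocBCQ : IsLocalHom (algebraMap (Localization.AtPrime q) (Localization.AtPrime (tensorPrime R S Rh Sh))) :=
    isLocalHom_fromLoc R S q Rh Sh
  haveI htowBCQ : IsScalarTower (Localization.AtPrime q) (Localization.AtPrime (tensorPrime R S Rh Sh)) Sh :=
    IsScalarTower.of_algebraMap_eq' (locTo_comp_fromLoc R S q Rh Sh).symm
  haveI hSH : Hensel.IsHenselization (Localization.AtPrime (tensorPrime R S Rh Sh)) Sh :=
    isHenselization_of_factor (Localization.AtPrime q) Sh _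
      (fun T _ _ g hg h hh => comp_locTo_eq R S p q Rh Sh T g hg h hh)
  have hcomp : ∀ y : Rh, algebraMap (Localization.AtPrime (tensorPrime R S Rh Sh)) Sh (algebraMap (Rh ⊗[R] S) (Localization.AtPrime (tensorPrime R S Rh Sh)) (algebraMap Rh (Rh ⊗[R] S) y)) =
      algebraMap Rh Sh y := by
    intro y
    have h1 : algebraMap Rh (Rh ⊗[R] S) y = y ⊗ₜ[R] (1 : S) := by
      rw [Algebra.TensorProduct.algebraMap_apply]
      rfl
    rw [h1]
    show locTo R S Rh Sh (algebraMap _ _ (y ⊗ₜ[R] (1 : S))) = _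
    rw [locTo_algebraMap, tensorTo_tmul, map_one, mul_one]
  haveI : Module.Flat (Localization.AtPrime (tensorPrime R S Rh Sh)) Sh := henselization_flat (Localization.AtPrime (tensorPrime R S Rh Sh)) Sh
  haveI : IsScalarTower Rh (Localization.AtPrime (tensorPrime R S Rh Sh)) Sh := IsScalarTower.of_algebraMap_eq (fun y => by
    rw [IsScalarTower.algebraMap_apply Rh (Rh ⊗[R] S) (Localization.AtPrime (tensorPrime R S Rh Sh))]
    exact (hcomp y).symm)
  haveI : Module.Flat (Rh ⊗[R] S) (Localization.AtPrime (tensorPrime R S Rh Sh)) := IsLocalization.flat (Localization.AtPrime (tensorPrime R S Rh Sh)) (tensorPrime R S Rh Sh).primeCompl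
  haveI : Module.Flat Rh (Localization.AtPrime (tensorPrime R S Rh Sh)) := Module.Flat.trans Rh (Rh ⊗[R] S) (Localization.AtPrime (tensorPrime R S Rh Sh))
  exact Module.Flat.trans Rh (Localization.AtPrime (tensorPrime R S Rh Sh)) Sh

include p q hR hS in
theorem fibre_encard_eq_one_hens
    (hpiS : ∀ t : Sh, ∃ (n : ℕ) (y : Rh),
      t ^ (ringExpChar (ResidueField Sh)) ^ n - algebraMap Rh Sh y ∈ maximalIdeal Sh)
    (𝔭 : Ideal Rh) (h𝔭 : 𝔭 ∈ minimalPrimes Rh) :
    (𝔭.map (algebraMap Rh Sh)).minimalPrimes.encard = 1 := by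
  haveI h𝔭p : 𝔭.IsPrime := h𝔭.1.1
  haveI hlocRS : IsLocalHom (algebraMap Rh Sh) := isLocalHom_of_hens R S p q Rh Sh
  letI algCQSh : Algebra (Localization.AtPrime (tensorPrime R S Rh Sh)) Sh := (locTo R S Rh Sh).toAlgebra
  haveI hlocCQ : IsLocalHom (algebraMap (Localization.AtPrime (tensorPrime R S Rh Sh)) Sh) := isLocalHom_locTo R S Rh Sh
  letI algBCQ : Algebra (Localization.AtPrime q) (Localization.AtPrime (tensorPrime R S Rh Sh)) := (fromLoc R S q Rh Sh).toAlgebra
  haveI hlocBCQ : IsLocalHom (algebraMap (Localization.AtPrime q) (Localization.AtPrime (tensorPrime R S Rh Sh))) :=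
    isLocalHom_fromLoc R S q Rh Sh
  haveI htowBCQ : IsScalarTower (Localization.AtPrime q) (Localization.AtPrime (tensorPrime R S Rh Sh)) Sh :=
    IsScalarTower.of_algebraMap_eq' (locTo_comp_fromLoc R S q Rh Sh).symm
  haveI hSH : Hensel.IsHenselization (Localization.AtPrime (tensorPrime R S Rh Sh)) Sh :=
    isHenselization_of_factor (Localization.AtPrime q) Sh _
      (fun T _ _ g hg h hh => comp_locTo_eq R S p q Rh Sh T g hg h hh)
  have hcomp : ∀ y : Rh, algebraMap (Localization.AtPrime (tensorPrime R S Rh Sh)) Sh (algebraMap (Rh ⊗[R] S) (Localization.AtPrime (tensorPrime R S Rh Sh)) (algebraMap Rh (Rh ⊗[R] S) y)) =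
      algebraMap Rh Sh y := by
    intro y
    have h1 : algebraMap Rh (Rh ⊗[R] S) y = y ⊗ₜ[R] (1 : S) := by
      rw [Algebra.TensorProduct.algebraMap_apply]
      rfl
    rw [h1]
    show locTo R S Rh Sh (algebraMap _ _ (y ⊗ₜ[R] (1 : S))) = _
    rw [locTo_algebraMap, tensorTo_tmul, map_one, mul_one]
  have hJ : (Ideal.map (algebraMap (Localization.AtPrime (tensorPrime R S Rh Sh)) Sh) (Ideal.map (algebraMap (Rh ⊗[R] S) (Localization.AtPrime (tensorPrime R S Rh Sh))) (Ideal.map (algebraMap Rh (Rh ⊗[R] S)) 𝔭))) = 𝔭.map (algebraMap Rh Sh) := by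
    rw [Ideal.map_map, Ideal.map_map]
    congr 1
    ext y
    exact hcomp y
  have hJne : 𝔭.map (algebraMap Rh Sh) ≠ ⊤ :=
    BranchSumGeom.map_ne_top Rh Sh 𝔭 (Ideal.IsPrime.ne_top h𝔭p)
  have hIQne : (Ideal.map (algebraMap (Rh ⊗[R] S) (Localization.AtPrime (tensorPrime R S Rh Sh))) (Ideal.map (algebraMap Rh (Rh ⊗[R] S)) 𝔭)) ≠ ⊤ := by
    intro h
    rw [h, Ideal.map_top] at hJ
    exact hJne hJ.symm
  haveI : Nontrivial ((Localization.AtPrime (tensorPrime R S Rh Sh)) ⧸ (Ideal.map (algebraMap (Rh ⊗[R] S) (Localization.AtPrime (tensorPrime R S Rh Sh))) (Ideal.map (algebraMap Rh (Rh ⊗[R] S)) 𝔭))) := Ideal.Quotient.nontrivial_iff.mpr hIQne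
  haveI hDloc : IsLocalRing ((Localization.AtPrime (tensorPrime R S Rh Sh)) ⧸ (Ideal.map (algebraMap (Rh ⊗[R] S) (Localization.AtPrime (tensorPrime R S Rh Sh))) (Ideal.map (algebraMap Rh (Rh ⊗[R] S)) 𝔭))) :=
    IsLocalRing.of_surjective' (Ideal.Quotient.mk _) Ideal.Quotient.mk_surjective
  have hJ'ne : (Ideal.map (algebraMap (Localization.AtPrime (tensorPrime R S Rh Sh)) Sh) (Ideal.map (algebraMap (Rh ⊗[R] S) (Localization.AtPrime (tensorPrime R S Rh Sh))) (Ideal.map (algebraMap Rh (Rh ⊗[R] S)) 𝔭))) ≠ ⊤ := by rw [hJ]; exact hJne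
  haveI : Nontrivial (Sh ⧸ (Ideal.map (algebraMap (Localization.AtPrime (tensorPrime R S Rh Sh)) Sh) (Ideal.map (algebraMap (Rh ⊗[R] S) (Localization.AtPrime (tensorPrime R S Rh Sh))) (Ideal.map (algebraMap Rh (Rh ⊗[R] S)) 𝔭)))) := Ideal.Quotient.nontrivial_iff.mpr hJ'ne
  haveI hTloc : IsLocalRing (Sh ⧸ (Ideal.map (algebraMap (Localization.AtPrime (tensorPrime R S Rh Sh)) Sh) (Ideal.map (algebraMap (Rh ⊗[R] S) (Localization.AtPrime (tensorPrime R S Rh Sh))) (Ideal.map (algebraMap Rh (Rh ⊗[R] S)) 𝔭)))) :=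
    IsLocalRing.of_surjective' (Ideal.Quotient.mk _) Ideal.Quotient.mk_surjective
  haveI hlocDT := BranchSumGeom.isLocalHom_quotientMap (Localization.AtPrime (tensorPrime R S Rh Sh)) Sh (Ideal.map (algebraMap (Rh ⊗[R] S) (Localization.AtPrime (tensorPrime R S Rh Sh))) (Ideal.map (algebraMap Rh (Rh ⊗[R] S)) 𝔭))
  haveI := BranchFibre.isHenselization_quotient (Localization.AtPrime (tensorPrime R S Rh Sh)) Sh (Ideal.map (algebraMap (Rh ⊗[R] S) (Localization.AtPrime (tensorPrime R S Rh Sh))) (Ideal.map (algebraMap Rh (Rh ⊗[R] S)) 𝔭))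
  -- the base `Rh ⧸ 𝔭`
  haveI hAdom : IsDomain (Rh ⧸ 𝔭) := Ideal.Quotient.isDomain 𝔭
  haveI hAloc : IsLocalRing (Rh ⧸ 𝔭) :=
    IsLocalRing.of_surjective' (Ideal.Quotient.mk 𝔭) Ideal.Quotient.mk_surjective
  haveI : HenselianLocalRing Rh := hR.henselian
  haveI : Algebra.IsIntegral Rh (Rh ⧸ 𝔭) :=
    Algebra.isIntegral_of_surjective Ideal.Quotient.mk_surjective
  haveI hAhens : HenselianLocalRing (Rh ⧸ 𝔭) := henselianLocalRing_of_isIntegral Rh (Rh ⧸ 𝔭)
  have hAU : CAlg2.IsUnibranch (Rh ⧸ 𝔭) := isUnibranch_of_henselian_domain (Rh ⧸ 𝔭)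
  -- the smooth algebra
  haveI hSmooth : Algebra.Smooth (Rh ⧸ 𝔭) ((Rh ⊗[R] S) ⧸ (Ideal.map (algebraMap Rh (Rh ⊗[R] S)) 𝔭)) :=
    Algebra.Smooth.of_equiv (Algebra.TensorProduct.quotIdealMapEquivQuotTensor (Rh ⊗[R] S) 𝔭).symm
  haveI hlocD : IsLocalization (Algebra.algebraMapSubmonoid ((Rh ⊗[R] S) ⧸ (Ideal.map (algebraMap Rh (Rh ⊗[R] S)) 𝔭)) (tensorPrime R S Rh Sh).primeCompl) ((Localization.AtPrime (tensorPrime R S Rh Sh)) ⧸ (Ideal.map (algebraMap (Rh ⊗[R] S) (Localization.AtPrime (tensorPrime R S Rh Sh))) (Ideal.map (algebraMap Rh (Rh ⊗[R] S)) 𝔭))) :=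
    inferInstance
  haveI hAtPrime := SmoothUnibranch.isLocalization_atPrime_comap_maximalIdeal
    (Algebra.algebraMapSubmonoid ((Rh ⊗[R] S) ⧸ (Ideal.map (algebraMap Rh (Rh ⊗[R] S)) 𝔭)) (tensorPrime R S Rh Sh).primeCompl) ((Localization.AtPrime (tensorPrime R S Rh Sh)) ⧸ (Ideal.map (algebraMap (Rh ⊗[R] S) (Localization.AtPrime (tensorPrime R S Rh Sh))) (Ideal.map (algebraMap Rh (Rh ⊗[R] S)) 𝔭)))
  have hle𝔭 : 𝔭 ≤ Ideal.comap (algebraMap Rh (Localization.AtPrime (tensorPrime R S Rh Sh))) (Ideal.map (algebraMap (Rh ⊗[R] S) (Localization.AtPrime (tensorPrime R S Rh Sh))) (Ideal.map (algebraMap Rh (Rh ⊗[R] S)) 𝔭)) := by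
    intro a ha
    rw [Ideal.mem_comap, IsScalarTower.algebraMap_apply Rh (Rh ⊗[R] S) (Localization.AtPrime (tensorPrime R S Rh Sh))]
    exact Ideal.mem_map_of_mem _ (Ideal.mem_map_of_mem _ ha)
  letI algAD : Algebra (Rh ⧸ 𝔭) ((Localization.AtPrime (tensorPrime R S Rh Sh)) ⧸ (Ideal.map (algebraMap (Rh ⊗[R] S) (Localization.AtPrime (tensorPrime R S Rh Sh))) (Ideal.map (algebraMap Rh (Rh ⊗[R] S)) 𝔭))) := Ideal.Quotient.algebraQuotientOfLEComap hle𝔭
  haveI : IsScalarTower (Rh ⧸ 𝔭) ((Rh ⊗[R] S) ⧸ (Ideal.map (algebraMap Rh (Rh ⊗[R] S)) 𝔭)) ((Localization.AtPrime (tensorPrime R S Rh Sh)) ⧸ (Ideal.map (algebraMap (Rh ⊗[R] S) (Localization.AtPrime (tensorPrime R S Rh Sh))) (Ideal.map (algebraMap Rh (Rh ⊗[R] S)) 𝔭))) := IsScalarTower.of_algebraMap_eq (fun x => by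
    obtain ⟨a, rfl⟩ := Ideal.Quotient.mk_surjective x
    show Ideal.Quotient.mk (Ideal.map (algebraMap (Rh ⊗[R] S) (Localization.AtPrime (tensorPrime R S Rh Sh))) (Ideal.map (algebraMap Rh (Rh ⊗[R] S)) 𝔭)) (algebraMap Rh (Localization.AtPrime (tensorPrime R S Rh Sh)) a) =
      Ideal.Quotient.mk (Ideal.map (algebraMap (Rh ⊗[R] S) (Localization.AtPrime (tensorPrime R S Rh Sh))) (Ideal.map (algebraMap Rh (Rh ⊗[R] S)) 𝔭)) (algebraMap (Rh ⊗[R] S) (Localization.AtPrime (tensorPrime R S Rh Sh)) (algebraMap Rh (Rh ⊗[R] S) a))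
    rw [IsScalarTower.algebraMap_apply Rh (Rh ⊗[R] S) (Localization.AtPrime (tensorPrime R S Rh Sh))])
  haveI hlocmkIQ : IsLocalHom (Ideal.Quotient.mk (Ideal.map (algebraMap (Rh ⊗[R] S) (Localization.AtPrime (tensorPrime R S Rh Sh))) (Ideal.map (algebraMap Rh (Rh ⊗[R] S)) 𝔭))) := BranchSumGeom.isLocalHom_mk _ hIQne
  haveI : IsLocalHom (algebraMap (Rh ⧸ 𝔭) ((Localization.AtPrime (tensorPrime R S Rh Sh)) ⧸ (Ideal.map (algebraMap (Rh ⊗[R] S) (Localization.AtPrime (tensorPrime R S Rh Sh))) (Ideal.map (algebraMap Rh (Rh ⊗[R] S)) 𝔭)))) := ⟨fun ā hā => by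
    obtain ⟨a, rfl⟩ := Ideal.Quotient.mk_surjective ā
    have h1 : IsUnit (Ideal.Quotient.mk (Ideal.map (algebraMap (Rh ⊗[R] S) (Localization.AtPrime (tensorPrime R S Rh Sh))) (Ideal.map (algebraMap Rh (Rh ⊗[R] S)) 𝔭)) (algebraMap Rh (Localization.AtPrime (tensorPrime R S Rh Sh)) a)) := hā
    rw [IsScalarTower.algebraMap_apply Rh (Rh ⊗[R] S) (Localization.AtPrime (tensorPrime R S Rh Sh))] at h1
    have h2 : IsUnit (algebraMap (Rh ⊗[R] S) (Localization.AtPrime (tensorPrime R S Rh Sh)) (algebraMap Rh (Rh ⊗[R] S) a)) :=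
      isUnit_of_map_unit (Ideal.Quotient.mk (Ideal.map (algebraMap (Rh ⊗[R] S) (Localization.AtPrime (tensorPrime R S Rh Sh))) (Ideal.map (algebraMap Rh (Rh ⊗[R] S)) 𝔭))) _ h1
    have h3 : IsUnit (algebraMap Rh Sh a) := by
      rw [← hcomp a]
      exact h2.map (algebraMap (Localization.AtPrime (tensorPrime R S Rh Sh)) Sh)
    have h4 : IsUnit a := isUnit_of_map_unit (algebraMap Rh Sh) a h3
    exact h4.map _⟩
  haveI : IsScalarTower Rh (Localization.AtPrime (tensorPrime R S Rh Sh)) Sh := IsScalarTower.of_algebraMap_eq (fun y => by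
    rw [IsScalarTower.algebraMap_apply Rh (Rh ⊗[R] S) (Localization.AtPrime (tensorPrime R S Rh Sh))]
    exact (hcomp y).symm)
  have h1 : (minimalPrimes (Sh ⧸ (Ideal.map (algebraMap (Localization.AtPrime (tensorPrime R S Rh Sh)) Sh) (Ideal.map (algebraMap (Rh ⊗[R] S) (Localization.AtPrime (tensorPrime R S Rh Sh))) (Ideal.map (algebraMap Rh (Rh ⊗[R] S)) 𝔭))))).encard = 1 :=
    encard_eq_one_quotient_of_smooth Rh (Localization.AtPrime (tensorPrime R S Rh Sh)) Sh 𝔭 (Ideal.map (algebraMap (Rh ⊗[R] S) (Localization.AtPrime (tensorPrime R S Rh Sh))) (Ideal.map (algebraMap Rh (Rh ⊗[R] S)) 𝔭)) hIQne (fun _ => rfl) hAU ((Rh ⊗[R] S) ⧸ (Ideal.map (algebraMap Rh (Rh ⊗[R] S)) 𝔭))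
      ((maximalIdeal ((Localization.AtPrime (tensorPrime R S Rh Sh)) ⧸ (Ideal.map (algebraMap (Rh ⊗[R] S) (Localization.AtPrime (tensorPrime R S Rh Sh))) (Ideal.map (algebraMap Rh (Rh ⊗[R] S)) 𝔭)))).comap (algebraMap ((Rh ⊗[R] S) ⧸ (Ideal.map (algebraMap Rh (Rh ⊗[R] S)) 𝔭)) ((Localization.AtPrime (tensorPrime R S Rh Sh)) ⧸ (Ideal.map (algebraMap (Rh ⊗[R] S) (Localization.AtPrime (tensorPrime R S Rh Sh))) (Ideal.map (algebraMap Rh (Rh ⊗[R] S)) 𝔭))))) (Sh ⧸ (Ideal.map (algebraMap (Localization.AtPrime (tensorPrime R S Rh Sh)) Sh) (Ideal.map (algebraMap (Rh ⊗[R] S) (Localization.AtPrime (tensorPrime R S Rh Sh))) (Ideal.map (algebraMap Rh (Rh ⊗[R] S)) 𝔭)))) hpiS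
  rw [BranchSum.encard_minimalPrimes_quotient, hJ] at h1
  exact h1

include p q hR hS in
/-- Compatible henselizations of `R_p` and `S_q`, `R → S` smooth with purely inseparable residue
field extension, have the same number of minimal primes. -/
theorem encard_minimalPrimes_eq_hens
    (hpiS : ∀ t : Sh, ∃ (n : ℕ) (y : Rh),
      t ^ (ringExpChar (ResidueField Sh)) ^ n - algebraMap Rh Sh y ∈ maximalIdeal Sh) :
    (minimalPrimes Sh).encard = (minimalPrimes Rh).encard := by
  haveI := flat_hens R S p q Rh Sh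
  exact encard_minimalPrimes_eq_of_fibres Rh Sh
    (fun 𝔭 h𝔭 => fibre_encard_eq_one_hens R S p q Rh Sh hpiS 𝔭 h𝔭)

end main

section canonical

variable (R : Type u) [CommRing R] (S : Type u) [CommRing S] [Algebra R S] [Algebra.Smooth R S]
  (p : Ideal R) [p.IsPrime] (q : Ideal S) [q.IsPrime] [q.LiesOver p]

/-- For `R → S` smooth and `q` over `p` with purely inseparable residue field extension (in
power form), the local rings `R_p` and `S_q` have the same number of branches. -/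
theorem numBranches_eq_of_smooth
    (hpiB : ∀ b : (Localization.AtPrime q), ∃ (n : ℕ) (a : (Localization.AtPrime p)),
      b ^ (ringExpChar (ResidueField (Localization.AtPrime q))) ^ n -
        Localization.localRingHom p q (algebraMap R S) (q.over_def p) a ∈ maximalIdeal (Localization.AtPrime q)) :
    Brnch.numBranches (Localization.AtPrime p) = Brnch.numBranches (Localization.AtPrime q) := by
  haveI hR := Hzl.isHenselization (Localization.AtPrime p)
  haveI hS := Hzl.isHenselization (Localization.AtPrime q)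
  letI : Algebra R (Hens (Localization.AtPrime p)) := ((algebraMap (Localization.AtPrime p) (Hens (Localization.AtPrime p))).comp (algebraMap R (Localization.AtPrime p))).toAlgebra
  haveI : IsScalarTower R (Localization.AtPrime p) (Hens (Localization.AtPrime p)) := IsScalarTower.of_algebraMap_eq (fun _ => rfl)
  letI : Algebra S (Hens (Localization.AtPrime q)) := ((algebraMap (Localization.AtPrime q) (Hens (Localization.AtPrime q))).comp (algebraMap S (Localization.AtPrime q))).toAlgebra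
  haveI : IsScalarTower S (Localization.AtPrime q) (Hens (Localization.AtPrime q)) := IsScalarTower.of_algebraMap_eq (fun _ => rfl)
  letI : Algebra R (Hens (Localization.AtPrime q)) := ((algebraMap S (Hens (Localization.AtPrime q))).comp (algebraMap R S)).toAlgebra
  haveI : IsScalarTower R S (Hens (Localization.AtPrime q)) := IsScalarTower.of_algebraMap_eq (fun _ => rfl)
  let f₀ : (Localization.AtPrime p) →+* (Localization.AtPrime q) := Localization.localRingHom p q (algebraMap R S) (q.over_def p)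
  haveI : IsLocalHom f₀ := Localization.isLocalHom_localRingHom p q _ (q.over_def p)
  let f : (Localization.AtPrime p) →+* Hens (Localization.AtPrime q) := (algebraMap (Localization.AtPrime q) (Hens (Localization.AtPrime q))).comp f₀
  have hfloc : IsLocalHom f := RingHom.isLocalHom_comp _ _
  haveI : HenselianLocalRing (Hens (Localization.AtPrime q)) := hS.henselian
  obtain ⟨g, hg, -⟩ := hR.universal (Hens (Localization.AtPrime q)) f hfloc
  replace hg : g.comp (algebraMap (Localization.AtPrime p) (Hens (Localization.AtPrime p))) = f := hg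
  letI algRhSh : Algebra (Hens (Localization.AtPrime p)) (Hens (Localization.AtPrime q)) := g.toAlgebra
  haveI : IsScalarTower R (Hens (Localization.AtPrime p)) (Hens (Localization.AtPrime q)) := IsScalarTower.of_algebraMap_eq (fun r => by
    show algebraMap (Localization.AtPrime q) (Hens (Localization.AtPrime q)) (algebraMap S (Localization.AtPrime q) (algebraMap R S r)) =
      g (algebraMap (Localization.AtPrime p) (Hens (Localization.AtPrime p)) (algebraMap R (Localization.AtPrime p) r))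
    have h1 := RingHom.congr_fun hg (algebraMap R (Localization.AtPrime p) r)
    rw [RingHom.comp_apply] at h1
    rw [h1]
    show _ = algebraMap (Localization.AtPrime q) (Hens (Localization.AtPrime q)) (f₀ (algebraMap R (Localization.AtPrime p) r))
    rw [Localization.localRingHom_to_map])
  have hexpB : ringExpChar (ResidueField (Hens (Localization.AtPrime q))) = ringExpChar (ResidueField (Localization.AtPrime q)) := by
    haveI : ExpChar (ResidueField (Localization.AtPrime q)) (ringExpChar (ResidueField (Localization.AtPrime q))) := ringExpChar.expChar _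
    haveI : ExpChar (ResidueField (Hens (Localization.AtPrime q))) (ringExpChar (ResidueField (Localization.AtPrime q))) :=
      expChar_of_injective_ringHom
        (ResidueField.map (algebraMap (Localization.AtPrime q) (Hens (Localization.AtPrime q)))).injective _
    exact ringExpChar.eq _ _
  have hpiS : ∀ t : Hens (Localization.AtPrime q), ∃ (n : ℕ) (y : Hens (Localization.AtPrime p)),
      t ^ (ringExpChar (ResidueField (Hens (Localization.AtPrime q)))) ^ n - algebraMap (Hens (Localization.AtPrime p)) (Hens (Localization.AtPrime q)) y ∈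
        maximalIdeal (Hens (Localization.AtPrime q)) := by
    intro t
    obtain ⟨x, hx⟩ := (henselization_residue_bijective (Localization.AtPrime q) (Hens (Localization.AtPrime q))).2 (residue _ t)
    obtain ⟨b, rfl⟩ := residue_surjective x
    rw [ResidueField.map_residue] at hx
    obtain ⟨n, a, hna⟩ := hpiB b
    refine ⟨n, algebraMap (Localization.AtPrime p) (Hens (Localization.AtPrime p)) a, ?_⟩
    have h3 : algebraMap (Hens (Localization.AtPrime p)) (Hens (Localization.AtPrime q)) (algebraMap (Localization.AtPrime p) (Hens (Localization.AtPrime p)) a) =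
        algebraMap (Localization.AtPrime q) (Hens (Localization.AtPrime q)) (f₀ a) := RingHom.congr_fun hg a
    rw [hexpB, ← residue_eq_zero_iff, map_sub, map_pow, ← hx, h3, ← map_pow, ← map_pow, ← map_sub,
      ← map_sub, residue_eq_zero_iff]
    exact map_nonunit (algebraMap (Localization.AtPrime q) (Hens (Localization.AtPrime q))) _ hna
  have key := encard_minimalPrimes_eq_hens R S p q (Hens (Localization.AtPrime p)) (Hens (Localization.AtPrime q)) hpiS
  rw [← Groth.Agent.S9237.result (Localization.AtPrime p) (Hens (Localization.AtPrime p)), ← Groth.Agent.S9237.result (Localization.AtPrime q) (Hens (Localization.AtPrime q)),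
    ENat.card_coe_set_eq, ENat.card_coe_set_eq]
  exact key.symm

end canonical

end Groth.Agent.Lib.Helper8.SmoothBranchesHens
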