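import Mathlib
import Groth.Agent.Lib.Helper8.SmoothChartRing
import Groth.Agent.Lib.Helper8.SmoothSliceSch

set_option autoImplicit false
open CategoryTheory CategoryTheory.Limits AlgebraicGeometry Opposite
universe u

/-! Étale coordinates adapted to a smooth closed subscheme (SGA 1 II 4.10, scheme form). -/

namespace Groth.Agent.Lib.Helper8.SmoothChartSch

/-- A commutative square with monic second projection and monic right leg is cartesian as soon
as cones lift along the second projection. -/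
theorem isPullback_of_mono_of_lift {C : Type*} [Category C] {W X Y Z : C} (fst : W ⟶ X)
    (snd : W ⟶ Y) (f : X ⟶ Z) (g : Y ⟶ Z) [Mono snd] [Mono f] (comm : fst ≫ f = snd ≫ g)
    (hl : ∀ {T : C} (a : T ⟶ X) (b : T ⟶ Y), a ≫ f = b ≫ g → ∃ l : T ⟶ W, l ≫ snd = b) :
    IsPullback fst snd f g := by
  have hex := fun (c : PullbackCone f g) => hl c.fst c.snd c.condition
  refine IsPullback.of_isLimit (PullbackCone.IsLimit.mk comm (fun c => (hex c).choose)
    (fun c => ?_) (fun c => (hex c).choose_spec) (fun c m hm1 hm2 => ?_))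
  · rw [← cancel_mono f, Category.assoc, comm, ← Category.assoc, (hex c).choose_spec,
      c.condition]
  · rw [← cancel_mono snd, hm2, (hex c).choose_spec]

/-- Lifting along a morphism of affine schemes which is surjective on global sections. -/
theorem exists_lift_of_affine {T Z Z' : Scheme.{u}} [IsAffine Z] [IsAffine Z'] (c : Z' ⟶ Z)
    (hc : Function.Surjective c.appTop) (b : T ⟶ Z)
    (hker : RingHom.ker c.appTop.hom ≤ RingHom.ker b.appTop.hom) : ∃ l : T ⟶ Z', l ≫ c = b := by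
  let lam : Γ(Z', ⊤) →+* Γ(T, ⊤) :=
    RingHom.liftOfSurjective c.appTop.hom hc ⟨b.appTop.hom, hker⟩
  have hlam : lam.comp c.appTop.hom = b.appTop.hom :=
    RingHom.liftOfSurjective_comp c.appTop.hom hc ⟨b.appTop.hom, hker⟩
  have h2 : c.appTop ≫ CommRingCat.ofHom lam = b.appTop := by
    ext x
    exact congr($hlam x)
  refine ⟨T.toSpecΓ ≫ Spec.map (CommRingCat.ofHom lam) ≫ Z'.isoSpec.inv, ?_⟩
  simp only [Category.assoc]
  rw [← Scheme.isoSpec_inv_naturality c, ← Spec.map_comp_assoc, h2,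
    ← Scheme.toSpecΓ_naturality_assoc, Scheme.toSpecΓ_isoSpec_inv, Category.comp_id]

/-- The zero section `𝔸^m → 𝔸^{m+n}` followed by the projection is the identity. -/
theorem zeroSection_comp_reindex (S : Scheme.{u}) (m n : ℕ) :
    AffineSpace.homOfVector (𝔸(ULift.{u} (Fin m); S) ↘ S)
        (fun j : ULift.{u} (Fin m ⊕ Fin n) =>
          Sum.elim (fun a => AffineSpace.coord S (ULift.up a)) (fun _ => 0) j.down) ≫
      AffineSpace.reindex (fun a : ULift.{u} (Fin m) =>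
        (ULift.up (Sum.inl a.down) : ULift.{u} (Fin m ⊕ Fin n))) S = 𝟙 _ := by
  refine AffineSpace.hom_ext ?_ ?_
  · simp only [Category.assoc, AffineSpace.reindex_over, AffineSpace.homOfVector_over,
      Category.id_comp]
  · intro a
    exact (congrArg _ (AffineSpace.reindex_appTop_coord _ S a)).trans
      (AffineSpace.homOfVector_appTop_coord _ _ _)

theorem mono_zeroSection (S : Scheme.{u}) (m n : ℕ) :
    Mono (AffineSpace.homOfVector (𝔸(ULift.{u} (Fin m); S) ↘ S)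
        (fun j : ULift.{u} (Fin m ⊕ Fin n) =>
          Sum.elim (fun a => AffineSpace.coord S (ULift.up a)) (fun _ => 0) j.down)) :=
  mono_of_mono_fac (zeroSection_comp_reindex S m n)

open Groth.Agent.Lib.Helper8 in
/-- SGA 1 II 4.10 (scheme form): étale coordinates adapted to a smooth closed subscheme. -/
theorem main {S X Y : Scheme.{u}} (pX : X ⟶ S) (pY : Y ⟶ S) [Smooth pX] [Smooth pY]
    (i : Y ⟶ X) [IsClosedImmersion i] (w : i ≫ pX = pY) (y : Y) :
    ∃ (U : X.Opens) (m n : ℕ) (π : (U : Scheme.{u}) ⟶ 𝔸(ULift.{u} (Fin m ⊕ Fin n); S))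
      (ρ : (↑(i ⁻¹ᵁ U) : Scheme.{u}) ⟶ 𝔸(ULift.{u} (Fin m); S)),
      i y ∈ U ∧ Etale π ∧ π ≫ (𝔸(ULift.{u} (Fin m ⊕ Fin n); S) ↘ S) = U.ι ≫ pX ∧
      IsPullback ρ (i ∣_ U)
        (AffineSpace.homOfVector (𝔸(ULift.{u} (Fin m); S) ↘ S)
          (fun j : ULift.{u} (Fin m ⊕ Fin n) =>
            Sum.elim (fun a => AffineSpace.coord S (ULift.up a)) (fun _ => 0) j.down))
        π := by
  subst w
  obtain ⟨V, U₀, hV, hU₀, hU₀V, hxU₀, -, hsV, hsm⟩ :=
    SmoothSliceSch.exists_affine_smooth_appLE pX (i y) ⊤ trivial inferInstance ⊤ trivial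
  letI algAB : Algebra Γ(S, V) Γ(X, U₀) := (pX.appLE V U₀ hU₀V).hom.toAlgebra
  haveI : Algebra.Smooth Γ(S, V) Γ(X, U₀) := hsm
  have hY₀ : IsAffineOpen (i ⁻¹ᵁ U₀) := hU₀.preimage i
  have hyY₀ : y ∈ i ⁻¹ᵁ U₀ := hxU₀
  haveI : IsAffine (U₀ : Scheme.{u}) := hU₀
  haveI : IsAffine ((i ⁻¹ᵁ U₀ : Y.Opens) : Scheme.{u}) := hY₀
  let ψ : Γ(X, U₀) ⟶ Γ(Y, i ⁻¹ᵁ U₀) := i.appLE U₀ (i ⁻¹ᵁ U₀) le_rfl
  letI algAC : Algebra Γ(S, V) Γ(Y, i ⁻¹ᵁ U₀) :=
    (ψ.hom.comp (algebraMap Γ(S, V) Γ(X, U₀))).toAlgebra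
  have hY₀V : i ⁻¹ᵁ U₀ ≤ (i ≫ pX) ⁻¹ᵁ V := fun z hz => hU₀V hz
  haveI : Algebra.Smooth Γ(S, V) Γ(Y, i ⁻¹ᵁ U₀) := by
    have h := HasRingHomProperty.appLE @Smooth (i ≫ pX) inferInstance ⟨V, hV⟩
      ⟨i ⁻¹ᵁ U₀, hY₀⟩ hY₀V
    rw [← Scheme.Hom.appLE_comp_appLE i pX V U₀ (i ⁻¹ᵁ U₀) hU₀V le_rfl] at h
    exact h
  let ψa : Γ(X, U₀) →ₐ[Γ(S, V)] Γ(Y, i ⁻¹ᵁ U₀) := { ψ.hom with commutes' := fun _ => rfl }
  -- the restricted closed immersion over `U₀`
  have hc₀top : (i ∣_ U₀).appTop = U₀.topIso.hom ≫ ψ ≫ (i ⁻¹ᵁ U₀).topIso.inv := by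
    rw [← Scheme.Hom.resLE_eq_morphismRestrict, Scheme.Hom.appTop, Scheme.Hom.resLE_app_top]
  have hc₀surj : Function.Surjective (i ∣_ U₀).appTop :=
    (IsClosedImmersion.isAffine_surjective_of_isAffine (i ∣_ U₀)).2
  have hinjY₀ : Function.Injective (i ⁻¹ᵁ U₀).topIso.inv :=
    (ConcreteCategory.bijective_of_isIso (i ⁻¹ᵁ U₀).topIso.inv).1
  have hψsurj : Function.Surjective ψa := by
    intro z
    obtain ⟨t, ht⟩ := hc₀surj ((i ⁻¹ᵁ U₀).topIso.inv z)
    refine ⟨U₀.topIso.hom t, hinjY₀ ?_⟩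
    rw [← ht, hc₀top]
    rfl
  obtain ⟨n, g, hg, f, hf, m, H⟩ := SmoothChartRing.exists_chart_of_surjective
    Γ(S, V) Γ(X, U₀) Γ(Y, i ⁻¹ᵁ U₀) ψa hψsurj (hY₀.primeIdealOf ⟨y, hyY₀⟩).asIdeal
  have hfq : i y ∈ X.basicOpen f := by
    rw [EtaleAffineNhd.mem_basicOpen_iff_notMem_primeIdealOf hU₀ f (i y) hxU₀]
    have h1 := IsAffineOpen.comap_primeIdealOf_appLE (f := i) (x := y) U₀ hU₀ (i ⁻¹ᵁ U₀) hY₀
      le_rfl hyY₀
    intro hmem
    apply hf
    rw [← h1] at hmem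
    exact hmem
  have hU : IsAffineOpen (X.basicOpen f) := hU₀.basicOpen f
  have hUU₀ : X.basicOpen f ≤ U₀ := X.basicOpen_le f
  have hUV : X.basicOpen f ≤ pX ⁻¹ᵁ V := hUU₀.trans hU₀V
  haveI : IsLocalization.Away f Γ(X, X.basicOpen f) := hU₀.isLocalization_basicOpen f
  letI algAB' : Algebra Γ(S, V) Γ(X, X.basicOpen f) :=
    ((algebraMap Γ(X, U₀) Γ(X, X.basicOpen f)).comp (algebraMap Γ(S, V) Γ(X, U₀))).toAlgebra
  haveI : IsScalarTower Γ(S, V) Γ(X, U₀) Γ(X, X.basicOpen f) :=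
    IsScalarTower.of_algebraMap_eq (fun _ => rfl)
  obtain ⟨g', hét, hker⟩ := H Γ(X, X.basicOpen f)
  let wv : ULift.{u} (Fin m ⊕ Fin n) → Γ(X, X.basicOpen f) := fun j =>
    Sum.elim g' (fun b => algebraMap Γ(X, U₀) Γ(X, X.basicOpen f) (g b)) j.down
  let v : ULift.{u} (Fin m ⊕ Fin n) → Γ((X.basicOpen f : Scheme.{u}), ⊤) := fun j =>
    (X.basicOpen f).topIso.inv (wv j)
  let π : ((X.basicOpen f : X.Opens) : Scheme.{u}) ⟶ 𝔸(ULift.{u} (Fin m ⊕ Fin n); S) :=
    AffineSpace.homOfVector ((X.basicOpen f).ι ≫ pX) v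
  have hπover : π ≫ (𝔸(ULift.{u} (Fin m ⊕ Fin n); S) ↘ S) = (X.basicOpen f).ι ≫ pX :=
    AffineSpace.homOfVector_over _ _
  have hπcoord : ∀ j, π.appTop (AffineSpace.coord S j) = v j := fun j =>
    AffineSpace.homOfVector_appTop_coord _ _ _
  -- étaleness of π
  have hπét : Etale π := by
    let φ : CommRingCat.of (MvPolynomial (ULift.{u} (Fin m ⊕ Fin n)) Γ(S, V)) ⟶
        CommRingCat.of Γ(X, X.basicOpen f) :=
      CommRingCat.ofHom (MvPolynomial.aeval wv : MvPolynomial (ULift.{u} (Fin m ⊕ Fin n))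
        Γ(S, V) →ₐ[Γ(S, V)] Γ(X, X.basicOpen f)).toRingHom
    haveI : Etale (Spec.map φ) := by
      rw [HasRingHomProperty.Spec_iff (P := @Etale)]
      exact hét
    haveI : Etale (AffineSpace.map (ULift.{u} (Fin m ⊕ Fin n)) hV.fromSpec) :=
      MorphismProperty.of_isPullback (P := @Etale)
        (AffineSpace.isPullback_map hV.fromSpec).flip inferInstance
    have hφC : CommRingCat.ofHom MvPolynomial.C ≫ φ = pX.appLE V (X.basicOpen f) hUV := by
      ext a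
      show (MvPolynomial.aeval wv) (MvPolynomial.C a) = _
      rw [MvPolynomial.aeval_C]
      show X.presheaf.map (homOfLE hUU₀).op (pX.appLE V U₀ hU₀V a) = _
      rw [← Scheme.Hom.appLE_map pX hU₀V (homOfLE hUU₀).op]
      rfl
    have hπ : π = hU.isoSpec.hom ≫ Spec.map φ ≫
        (AffineSpace.SpecIso (ULift.{u} (Fin m ⊕ Fin n)) Γ(S, V)).inv ≫
          AffineSpace.map _ hV.fromSpec := by
      refine AffineSpace.hom_ext ?_ ?_
      · rw [hπover]
        simp only [Category.assoc, AffineSpace.map_over, AffineSpace.SpecIso_inv_over_assoc]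
        rw [← Spec.map_comp_assoc, hφC, hV.SpecMap_appLE_fromSpec pX hU hUV,
          IsAffineOpen.isoSpec_hom_fromSpec_assoc]
      · intro j
        rw [hπcoord]
        show v j = hU.isoSpec.hom.appTop ((Spec.map φ).appTop
          ((AffineSpace.SpecIso (ULift.{u} (Fin m ⊕ Fin n)) Γ(S, V)).inv.appTop
            ((AffineSpace.map _ hV.fromSpec).appTop (AffineSpace.coord S j))))
        have e3 : (Spec.map φ).appTop ((Scheme.ΓSpecIso
            (.of (MvPolynomial (ULift.{u} (Fin m ⊕ Fin n)) Γ(S, V)))).inv (MvPolynomial.X j)) =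
            (Scheme.ΓSpecIso Γ(X, X.basicOpen f)).inv (φ (MvPolynomial.X j)) :=
          (congr($(Scheme.ΓSpecIso_inv_naturality φ) (MvPolynomial.X j))).symm
        have e4 : φ (MvPolynomial.X j) = wv j := MvPolynomial.aeval_X _ _
        rw [AffineSpace.map_appTop_coord, AffineSpace.SpecIso_inv_appTop_coord, e3, e4,
          IsAffineOpen.isoSpec_hom_appTop]
        exact (congrArg (fun t => (X.basicOpen f).topIso.inv t)
          ((Scheme.ΓSpecIso Γ(X, X.basicOpen f)).inv_hom_id_apply (wv j))).symm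
    rw [hπ]
    infer_instance
  -- vanishing of the last coordinates on the closed subscheme
  have hcUtop : (i ∣_ X.basicOpen f).appTop = (X.basicOpen f).topIso.hom ≫
      i.appLE (X.basicOpen f) (i ⁻¹ᵁ X.basicOpen f) le_rfl ≫
        (i ⁻¹ᵁ X.basicOpen f).topIso.inv := by
    rw [← Scheme.Hom.resLE_eq_morphismRestrict, Scheme.Hom.appTop, Scheme.Hom.resLE_app_top]
  have hnat : X.presheaf.map (homOfLE hUU₀).op ≫
      i.appLE (X.basicOpen f) (i ⁻¹ᵁ X.basicOpen f) le_rfl =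
      i.appLE U₀ (i ⁻¹ᵁ U₀) le_rfl ≫ Y.presheaf.map (homOfLE (i.preimage_mono hUU₀)).op := by
    rw [Scheme.Hom.map_appLE, Scheme.Hom.appLE_map]
  have hM : X.presheaf.map (homOfLE hUU₀).op ≫ (X.basicOpen f).topIso.inv ≫
      (i ∣_ X.basicOpen f).appTop =
      ψ ≫ Y.presheaf.map (homOfLE (i.preimage_mono hUU₀)).op ≫
        (i ⁻¹ᵁ X.basicOpen f).topIso.inv := by
    rw [hcUtop, Iso.inv_hom_id_assoc, ← Category.assoc, hnat, Category.assoc]
  have hvanish : ∀ b', (i ∣_ X.basicOpen f).appTop (v ⟨Sum.inr b'⟩) = 0 := by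
    intro b'
    have h1 := congr($hM (g b'))
    have h2 : (ψ ≫ Y.presheaf.map (homOfLE (i.preimage_mono hUU₀)).op ≫
        (i ⁻¹ᵁ X.basicOpen f).topIso.inv) (g b') = 0 := by
      show ((i ⁻¹ᵁ X.basicOpen f).topIso.inv)
        ((Y.presheaf.map (homOfLE (i.preimage_mono hUU₀)).op) (ψa (g b'))) = 0
      rw [hg b', map_zero, map_zero]
    exact h1.trans h2
  have hhom : (X.homOfLE hUU₀).appTop = U₀.topIso.hom ≫ X.presheaf.map (homOfLE hUU₀).op ≫
      (X.basicOpen f).topIso.inv := by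
    have hid : (𝟙 X : X ⟶ X).appLE U₀ (X.basicOpen f) hUU₀ =
        X.presheaf.map (homOfLE hUU₀).op := by
      simp only [Scheme.Hom.appLE, Scheme.Hom.id_app]
      exact Category.id_comp _
    rw [← Scheme.Hom.resLE_id hUU₀, Scheme.Hom.appTop, Scheme.Hom.resLE_app_top, hid]
  let pr : 𝔸(ULift.{u} (Fin m ⊕ Fin n); S) ⟶ 𝔸(ULift.{u} (Fin m); S) :=
    AffineSpace.reindex (fun a : ULift.{u} (Fin m) =>
      (ULift.up (Sum.inl a.down) : ULift.{u} (Fin m ⊕ Fin n))) S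
  let hz : 𝔸(ULift.{u} (Fin m); S) ⟶ 𝔸(ULift.{u} (Fin m ⊕ Fin n); S) :=
    AffineSpace.homOfVector (𝔸(ULift.{u} (Fin m); S) ↘ S)
      (fun j : ULift.{u} (Fin m ⊕ Fin n) =>
        Sum.elim (fun a => AffineSpace.coord S (ULift.up a)) (fun _ => 0) j.down)
  have hzover : hz ≫ (𝔸(ULift.{u} (Fin m ⊕ Fin n); S) ↘ S) = 𝔸(ULift.{u} (Fin m); S) ↘ S :=
    AffineSpace.homOfVector_over _ _
  have hprover : pr ≫ (𝔸(ULift.{u} (Fin m); S) ↘ S) = 𝔸(ULift.{u} (Fin m ⊕ Fin n); S) ↘ S :=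
    AffineSpace.reindex_over _ S
  have hzcoordl : ∀ a : Fin m, hz.appTop (AffineSpace.coord S ⟨Sum.inl a⟩) =
      AffineSpace.coord S (ULift.up a) := fun a => AffineSpace.homOfVector_appTop_coord _ _ _
  have hzcoordr : ∀ b' : Fin n, hz.appTop (AffineSpace.coord S ⟨Sum.inr b'⟩) = 0 :=
    fun b' => AffineSpace.homOfVector_appTop_coord _ _ _
  have hprcoord : ∀ a : Fin m, pr.appTop (AffineSpace.coord S (ULift.up a)) =
      AffineSpace.coord S ⟨Sum.inl a⟩ := fun a => AffineSpace.reindex_appTop_coord _ S _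
  haveI : Mono hz := mono_zeroSection S m n
  refine ⟨X.basicOpen f, m, n, π, (i ∣_ X.basicOpen f) ≫ π ≫ pr, hfq, hπét, hπover, ?_⟩
  refine isPullback_of_mono_of_lift ((i ∣_ X.basicOpen f) ≫ π ≫ pr) (i ∣_ X.basicOpen f) hz π
    ?_ ?_
  · -- commutativity
    refine AffineSpace.hom_ext ?_ ?_
    · simp only [Category.assoc]
      rw [hzover, hprover]
    · rintro ⟨a | b'⟩
      · show (i ∣_ X.basicOpen f).appTop (π.appTop (pr.appTop
          (hz.appTop (AffineSpace.coord S ⟨Sum.inl a⟩)))) = _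
        rw [hzcoordl, hprcoord]
        rfl
      · show (i ∣_ X.basicOpen f).appTop (π.appTop (pr.appTop
          (hz.appTop (AffineSpace.coord S ⟨Sum.inr b'⟩)))) =
          (i ∣_ X.basicOpen f).appTop (π.appTop (AffineSpace.coord S ⟨Sum.inr b'⟩))
        rw [hzcoordr, hπcoord, hvanish, map_zero, map_zero, map_zero]
  · -- lifting
    intro T a b hab
    have hb : ∀ b' : Fin n, b.appTop (v ⟨Sum.inr b'⟩) = 0 := by
      intro b'
      have h1 := congr(($hab).appTop (AffineSpace.coord S ⟨Sum.inr b'⟩))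
      have h2 : (a ≫ hz).appTop (AffineSpace.coord S ⟨Sum.inr b'⟩) = 0 := by
        show a.appTop (hz.appTop (AffineSpace.coord S ⟨Sum.inr b'⟩)) = 0
        rw [hzcoordr]
        exact map_zero _
      have h3 : (b ≫ π).appTop (AffineSpace.coord S ⟨Sum.inr b'⟩) = b.appTop (v ⟨Sum.inr b'⟩) := by
        show b.appTop (π.appTop (AffineSpace.coord S ⟨Sum.inr b'⟩)) = _
        rw [hπcoord]
      rw [h2, h3] at h1
      exact h1.symm
    have hkerb : RingHom.ker (i ∣_ U₀).appTop.hom ≤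
        RingHom.ker (b ≫ X.homOfLE hUU₀).appTop.hom := by
      intro z hz
      have hx : ψa (U₀.topIso.hom z) = 0 := by
        apply hinjY₀
        rw [map_zero]
        have : (i ∣_ U₀).appTop z = 0 := hz
        rw [← this, hc₀top]
        rfl
      have hmem := hker (U₀.topIso.hom z) hx
      have hχ : Ideal.span (Set.range fun b' =>
          algebraMap Γ(X, U₀) Γ(X, X.basicOpen f) (g b')) ≤
          RingHom.ker (b.appTop.hom.comp (X.basicOpen f).topIso.inv.hom) := by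
        rw [Ideal.span_le]
        rintro _ ⟨b', rfl⟩
        exact RingHom.mem_ker.mpr (hb b')
      have h2 := RingHom.mem_ker.mp (hχ hmem)
      have e1 : (b ≫ X.homOfLE hUU₀).appTop = U₀.topIso.hom ≫
          X.presheaf.map (homOfLE hUU₀).op ≫ (X.basicOpen f).topIso.inv ≫ b.appTop := by
        rw [Scheme.Hom.comp_appTop, hhom]
        simp only [Category.assoc]
      rw [RingHom.mem_ker, e1]
      exact h2
    obtain ⟨l₀, hl₀⟩ := exists_lift_of_affine (i ∣_ U₀) hc₀surj (b ≫ X.homOfLE hUU₀) hkerb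
    have hcomm : b ≫ (X.basicOpen f).ι = (l₀ ≫ (i ⁻¹ᵁ U₀).ι) ≫ i := by
      rw [Category.assoc, ← morphismRestrict_ι, ← Category.assoc, hl₀, Category.assoc,
        Scheme.homOfLE_ι]
    exact ⟨(isPullback_morphismRestrict i (X.basicOpen f)).lift b (l₀ ≫ (i ⁻¹ᵁ U₀).ι) hcomm,
      IsPullback.lift_fst _ _ _ _⟩

end Groth.Agent.Lib.Helper8.SmoothChartSch
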