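import Mathlib
import Groth.Agent.Lib.Helper8.SmoothFiberSch

set_option autoImplicit false
universe u

open AlgebraicGeometry CategoryTheory Limits

namespace Groth.Agent.Lib.Helper8.SmoothFibreOpen

open Groth.Agent.Lib.Helper8.SmoothFiberSch

theorem smooth_fibre_iff {X Y : Scheme.{u}} (f : X ⟶ Y) [Flat f]
    [LocallyOfFinitePresentation f] (y : Y) :
    Smooth (f.fiberToSpecResidueField y) ↔ ∀ x : X, f x = y → x ∈ f.smoothLocus := by
  haveI hlfp : ∀ y : Y, LocallyOfFinitePresentation (f.fiberToSpecResidueField y) := fun y =>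
    MorphismProperty.pullback_snd _ _ inferInstance
  rw [← Scheme.Hom.smoothLocus_eq_top_iff]
  constructor
  · intro h x hx
    subst hx
    rw [mem_smoothLocus_iff_flat_and_fiber]
    refine ⟨Flat.stalkMap f x, ?_⟩
    rw [h]
    trivial
  · intro h
    rw [eq_top_iff]
    intro x' _
    obtain ⟨x, rfl⟩ : ∃ x : f ⁻¹' {y}, x' = (f.fiberHomeo y).symm x :=
      ⟨f.fiberHomeo y x', by simp⟩
    obtain ⟨x, hx⟩ := x
    have hx' : f x = y := hx
    subst hx'
    exact ((mem_smoothLocus_iff_flat_and_fiber f x).mp (h x rfl)).2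

theorem isOpen_smooth_fibre {X Y : Scheme.{u}} (f : X ⟶ Y) [IsProper f] [Flat f]
    [LocallyOfFinitePresentation f] :
    IsOpen {y : Y | Smooth (f.fiberToSpecResidueField y)} := by
  have : {y : Y | Smooth (f.fiberToSpecResidueField y)} = (f '' (f.smoothLocus : Set X)ᶜ)ᶜ := by
    ext y
    simp only [Set.mem_setOf_eq, smooth_fibre_iff, Set.mem_compl_iff, Set.mem_image, not_exists,
      not_and]
    constructor
    · intro h x hx hxy
      exact hx (h x hxy)
    · intro h x hxy
      by_contra hx
      exact h x hx hxy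
  rw [this]
  exact (f.isClosedMap _ f.smoothLocus.isOpen.isClosed_compl).isOpen_compl

end Groth.Agent.Lib.Helper8.SmoothFibreOpen
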