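import Mathlib
import Groth.Agent.Lib.Helper8.SmoothQuotChart
set_option autoImplicit false
open TensorProduct KaehlerDifferential IsLocalRing

/-! Étale coordinates vanishing along a section of a smooth algebra. -/

namespace Groth.Agent.Lib.Helper8.SmoothSectionRing

open Groth.Agent.Lib.Helper8.SmoothQuotChart

universe u

/-- Let `B` be a smooth `A`-algebra with a retraction `ψ : B → A` and `Q'` a prime of `A`. Then
there are `f₀ ∈ B` with `ψ f₀ ∉ Q'` and elements `x_j ∈ ker ψ` which give an étale map
`A[X] → B_f` for every multiple `f` of `f₀`. -/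
theorem exists_etale_coordinates_of_section (A B : Type u) [CommRing A] [CommRing B] [Algebra A B]
    [Algebra.Smooth A B] (ψ : B →ₐ[A] A) (Q' : Ideal A) [Q'.IsPrime] :
    ∃ (f₀ : B) (_ : ψ f₀ ∉ Q') (M : ℕ) (x : ULift.{u} (Fin M) → B), (∀ j, ψ (x j) = 0) ∧
      ∀ (f : B), f₀ ∣ f → ∀ (B'' : Type u) [CommRing B''] [Algebra B B''] [Algebra A B'']
        [IsScalarTower A B B''] [IsLocalization.Away f B''],
        (MvPolynomial.aeval (fun j => algebraMap B B'' (x j)) :
          MvPolynomial (ULift.{u} (Fin M)) A →ₐ[A] B'').toRingHom.Etale := by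
  classical
  let q : Ideal B := Q'.comap ψ
  haveI : q.IsPrime := Ideal.comap_isPrime _ _
  haveI : Algebra.FormallySmooth B (Localization.AtPrime q) :=
    Algebra.FormallySmooth.of_isLocalization q.primeCompl
  haveI : Algebra.IsSmoothAt A q := Algebra.FormallySmooth.comp A B (Localization.AtPrime q)
  let c : B → q.ResidueField ⊗[B] Ω[B⁄A] := fun b => (1 : q.ResidueField) ⊗ₜ[B] D A B b
  have hc : Submodule.span q.ResidueField (Set.range c) = ⊤ := by
    have h1 := Submodule.baseChange_span (R := B) q.ResidueField (Set.range (D A B))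
    rw [KaehlerDifferential.span_range_derivation, Submodule.baseChange_top,
      ← Set.range_comp] at h1
    exact h1.symm
  obtain ⟨κ', a', ha', hsp, hli⟩ := exists_linearIndependent' q.ResidueField c
  rw [hc] at hsp
  let bas := Module.Basis.mk hli hsp.ge
  haveI : Finite κ' := Module.Finite.finite_basis bas
  let e : κ' ≃ ULift.{u} (Fin (Nat.card κ')) := (Finite.equivFin κ').trans Equiv.ulift.symm
  let x : ULift.{u} (Fin (Nat.card κ')) → B := fun j =>
    a' (e.symm j) - algebraMap A B (ψ (a' (e.symm j)))
  have hxD : (fun j => (1 : q.ResidueField) ⊗ₜ[B] D A B (x j)) = (c ∘ a') ∘ e.symm := by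
    funext j
    simp only [x, c, map_sub, Derivation.map_algebraMap, sub_zero, Function.comp_apply]
  have hx : Function.Bijective (Finsupp.linearCombination q.ResidueField
      (fun j => (1 : q.ResidueField) ⊗ₜ[B] D A B (x j))) := by
    rw [hxD]
    refine ⟨hli.comp e.symm e.symm.injective, ?_⟩
    rw [← LinearMap.range_eq_top, Finsupp.range_linearCombination,
      e.symm.surjective.range_comp]
    exact hsp
  obtain ⟨f₁, hf₁, hét⟩ := exists_etale_aeval A B q x hx
  refine ⟨f₁, fun h => hf₁ h, Nat.card κ', x, fun j => ?_, ?_⟩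
  · simp only [x, map_sub, AlgHom.commutes, Algebra.algebraMap_self, RingHom.id_apply, sub_self]
  · intro f hf B'' _ _ _ _ _
    let ε : Localization.Away f ≃ₐ[B] B'' := IsLocalization.algEquiv (Submonoid.powers f) _ _
    let εA : Localization.Away f ≃ₐ[A] B'' := ε.restrictScalars A
    have key : (MvPolynomial.aeval (fun j => algebraMap B B'' (x j)) :
          MvPolynomial (ULift.{u} (Fin (Nat.card κ'))) A →ₐ[A] B'') =
        (εA : Localization.Away f →ₐ[A] B'').comp
          (MvPolynomial.aeval (fun j => algebraMap B (Localization.Away f) (x j))) := by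
      apply MvPolynomial.algHom_ext
      intro j
      simp [εA]
    rw [key]
    have h2 : ((εA : Localization.Away f →ₐ[A] B'').toRingHom).Etale :=
      RingHom.Etale.of_bijective εA.bijective
    exact RingHom.Etale.stableUnderComposition _ _ (hét f hf) h2

end Groth.Agent.Lib.Helper8.SmoothSectionRing
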