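import Mathlib
import Groth.Agent.Lib.Helper8.SmoothSectionRing
import Groth.Agent.Lib.Helper8.EtaleAffineNhd
import Groth.Agent.Lib.Helper8.LocStruct2

set_option autoImplicit false
open CategoryTheory CategoryTheory.Limits AlgebraicGeometry Opposite
universe u

/-! Smoothness along a section is equivalent to the existence of an étale chart carrying the
section to the zero section (SGA 1 II 4.10 for sections). -/

namespace Groth.Agent.Lib.Helper8.SmoothSectionSch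

/-- Étaleness of a morphism to affine space given by sections on an affine open, checked on the
ring map `A[X] → Γ(X, V)`. -/
theorem etale_homOfVector {X S : Scheme.{u}} (f : X ⟶ S) {U : S.Opens} (hU : IsAffineOpen U)
    {V : X.Opens} (hV : IsAffineOpen V) (hVU : V ≤ f ⁻¹ᵁ U) {n : Type u} (w : n → Γ(X, V))
    (hw : (MvPolynomial.eval₂Hom (f.appLE U V hVU).hom w).Etale) :
    Etale (AffineSpace.homOfVector (V.ι ≫ f) (fun j => V.topIso.inv (w j))) := by
  let φ : CommRingCat.of (MvPolynomial n Γ(S, U)) ⟶ CommRingCat.of Γ(X, V) :=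
    CommRingCat.ofHom (MvPolynomial.eval₂Hom (f.appLE U V hVU).hom w)
  haveI : Etale (Spec.map φ) := by
    rw [HasRingHomProperty.Spec_iff (P := @Etale)]
    exact hw
  haveI : Etale (AffineSpace.map n hU.fromSpec) :=
    MorphismProperty.of_isPullback (P := @Etale)
      (AffineSpace.isPullback_map hU.fromSpec).flip inferInstance
  have hφC : CommRingCat.ofHom MvPolynomial.C ≫ φ = f.appLE U V hVU := by
    ext a
    exact MvPolynomial.eval₂Hom_C _ _ a
  have hπ : AffineSpace.homOfVector (V.ι ≫ f) (fun j => V.topIso.inv (w j)) =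
      hV.isoSpec.hom ≫ Spec.map φ ≫ (AffineSpace.SpecIso n Γ(S, U)).inv ≫
        AffineSpace.map n hU.fromSpec := by
    refine AffineSpace.hom_ext ?_ ?_
    · rw [AffineSpace.homOfVector_over]
      simp only [Category.assoc, AffineSpace.map_over, AffineSpace.SpecIso_inv_over_assoc]
      rw [← Spec.map_comp_assoc, hφC, hU.SpecMap_appLE_fromSpec f hV hVU,
        IsAffineOpen.isoSpec_hom_fromSpec_assoc]
    · intro j
      rw [AffineSpace.homOfVector_appTop_coord]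
      show V.topIso.inv (w j) = hV.isoSpec.hom.appTop ((Spec.map φ).appTop
        ((AffineSpace.SpecIso n Γ(S, U)).inv.appTop
          ((AffineSpace.map n hU.fromSpec).appTop (AffineSpace.coord S j))))
      have e3 : (Spec.map φ).appTop ((Scheme.ΓSpecIso
          (.of (MvPolynomial n Γ(S, U)))).inv (MvPolynomial.X j)) =
          (Scheme.ΓSpecIso Γ(X, V)).inv (φ (MvPolynomial.X j)) :=
        (congr($(Scheme.ΓSpecIso_inv_naturality φ) (MvPolynomial.X j))).symm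
      have e4 : φ (MvPolynomial.X j) = w j := MvPolynomial.eval₂Hom_X' _ _ j
      rw [AffineSpace.map_appTop_coord, AffineSpace.SpecIso_inv_appTop_coord, e3, e4,
        IsAffineOpen.isoSpec_hom_appTop]
      exact (congrArg (fun t => V.topIso.inv t)
        ((Scheme.ΓSpecIso Γ(X, V)).inv_hom_id_apply (w j))).symm
  rw [hπ]
  infer_instance

open Groth.Agent.Lib.Helper8 in
/-- SGA 1 II 4.10 for sections: `f` is smooth at `i y` iff there is an étale chart around the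
section vanishing along it. -/
theorem main {X Y : Scheme.{u}} (f : X ⟶ Y) [LocallyOfFinitePresentation f] (i : Y ⟶ X)
    (hi : i ≫ f = 𝟙 Y) (y : Y) :
    i.base y ∈ f.smoothLocus ↔
      ∃ (U : Y.Opens) (V : X.Opens) (_ : y ∈ U) (hUV : U ≤ i ⁻¹ᵁ V) (hVU : V ≤ f ⁻¹ᵁ U) (m : ℕ)
        (v : ULift.{u} (Fin m) → Γ(V, ⊤)),
        Etale (AffineSpace.homOfVector (f.resLE U V hVU) v) ∧
          ∀ j, (i.resLE V U hUV).appTop (v j) = 0 := by
  have hfi : ∀ u : Y, f (i u) = u := fun u => by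
    have := congrArg (fun g : Y ⟶ Y => g u) hi
    simpa using this
  constructor
  · intro hx
    obtain ⟨U₁, hU₁, V₁, hV₁, hV₁U₁, hxV₁, hsm₁⟩ :=
      exists_smooth_of_formallySmooth_stalk f (i y) hx
    have hyU₁ : y ∈ U₁ := by
      have := hV₁U₁ hxV₁
      rwa [Scheme.Hom.mem_preimage, hfi] at this
    obtain ⟨a, haV, hya⟩ := hU₁.exists_basicOpen_le (V := i ⁻¹ᵁ V₁) ⟨y, hxV₁⟩ hyU₁
    have hU₂ : IsAffineOpen (Y.basicOpen a) := hU₁.basicOpen a
    have hU₂U₁ : Y.basicOpen a ≤ U₁ := Y.basicOpen_le a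
    have hV₂ : IsAffineOpen (X.basicOpen (f.appLE U₁ V₁ hV₁U₁ a)) := hV₁.basicOpen _
    have hV₂V₁ : X.basicOpen (f.appLE U₁ V₁ hV₁U₁ a) ≤ V₁ := X.basicOpen_le _
    have hV₂eq : X.basicOpen (f.appLE U₁ V₁ hV₁U₁ a) = V₁ ⊓ f ⁻¹ᵁ (Y.basicOpen a) :=
      Scheme.basicOpen_appLE f V₁ U₁ hV₁U₁ a
    have hV₂U₂ : X.basicOpen (f.appLE U₁ V₁ hV₁U₁ a) ≤ f ⁻¹ᵁ (Y.basicOpen a) := by
      rw [hV₂eq]; exact inf_le_right
    have hU₂V₂ : Y.basicOpen a ≤ i ⁻¹ᵁ (X.basicOpen (f.appLE U₁ V₁ hV₁U₁ a)) := by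
      intro u hu
      show i u ∈ X.basicOpen (f.appLE U₁ V₁ hV₁U₁ a)
      rw [hV₂eq]
      refine ⟨haV hu, ?_⟩
      show f (i u) ∈ Y.basicOpen a
      rw [hfi u]
      exact hu
    -- rings
    letI algA₁B₁ : Algebra Γ(Y, U₁) Γ(X, V₁) := (f.appLE U₁ V₁ hV₁U₁).hom.toAlgebra
    haveI : Algebra.Smooth Γ(Y, U₁) Γ(X, V₁) := hsm₁
    haveI : IsLocalization.Away a Γ(Y, Y.basicOpen a) := hU₁.isLocalization_basicOpen a
    haveI : IsLocalization.Away (f.appLE U₁ V₁ hV₁U₁ a)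
        Γ(X, X.basicOpen (f.appLE U₁ V₁ hV₁U₁ a)) := hV₁.isLocalization_basicOpen _
    letI algAB : Algebra Γ(Y, Y.basicOpen a) Γ(X, X.basicOpen (f.appLE U₁ V₁ hV₁U₁ a)) :=
      (f.appLE (Y.basicOpen a) (X.basicOpen (f.appLE U₁ V₁ hV₁U₁ a)) hV₂U₂).hom.toAlgebra
    letI algA₁B : Algebra Γ(Y, U₁) Γ(X, X.basicOpen (f.appLE U₁ V₁ hV₁U₁ a)) :=
      ((algebraMap Γ(X, V₁) Γ(X, X.basicOpen (f.appLE U₁ V₁ hV₁U₁ a))).comp
        (algebraMap Γ(Y, U₁) Γ(X, V₁))).toAlgebra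
    haveI : IsScalarTower Γ(Y, U₁) Γ(X, V₁) Γ(X, X.basicOpen (f.appLE U₁ V₁ hV₁U₁ a)) :=
      IsScalarTower.of_algebraMap_eq (fun _ => rfl)
    haveI : IsScalarTower Γ(Y, U₁) Γ(Y, Y.basicOpen a)
        Γ(X, X.basicOpen (f.appLE U₁ V₁ hV₁U₁ a)) := by
      refine IsScalarTower.of_algebraMap_eq (fun r => ?_)
      show (X.presheaf.map (homOfLE hV₂V₁).op) ((f.appLE U₁ V₁ hV₁U₁) r) =
        (f.appLE (Y.basicOpen a) (X.basicOpen (f.appLE U₁ V₁ hV₁U₁ a)) hV₂U₂)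
          ((Y.presheaf.map (homOfLE hU₂U₁).op) r)
      rw [← CommRingCat.comp_apply, ← CommRingCat.comp_apply, Scheme.Hom.appLE_map,
        Scheme.Hom.map_appLE]
    haveI : Algebra.Etale Γ(X, V₁) Γ(X, X.basicOpen (f.appLE U₁ V₁ hV₁U₁ a)) :=
      Algebra.Etale.of_isLocalizationAway (f.appLE U₁ V₁ hV₁U₁ a)
    haveI : Algebra.Smooth Γ(Y, U₁) Γ(X, X.basicOpen (f.appLE U₁ V₁ hV₁U₁ a)) :=
      Algebra.Smooth.comp Γ(Y, U₁) Γ(X, V₁) _
    haveI : Algebra.Etale Γ(Y, U₁) Γ(Y, Y.basicOpen a) := Algebra.Etale.of_isLocalizationAway a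
    haveI : Algebra.Smooth Γ(Y, Y.basicOpen a) Γ(X, X.basicOpen (f.appLE U₁ V₁ hV₁U₁ a)) :=
      { formallySmooth := (Algebra.FormallySmooth.iff_restrictScalars (R := Γ(Y, U₁))
          (A := Γ(Y, Y.basicOpen a))).mp inferInstance
        finitePresentation :=
          Algebra.FinitePresentation.of_restrict_scalars_finitePresentation Γ(Y, U₁) _ _ }
    -- the retraction
    have hψφ : f.appLE (Y.basicOpen a) (X.basicOpen (f.appLE U₁ V₁ hV₁U₁ a)) hV₂U₂ ≫
        i.appLE (X.basicOpen (f.appLE U₁ V₁ hV₁U₁ a)) (Y.basicOpen a) hU₂V₂ = 𝟙 _ := by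
      rw [Scheme.Hom.appLE_comp_appLE]
      have : ∀ (g : Y ⟶ Y) (_ : g = 𝟙 Y) (e : Y.basicOpen a ≤ g ⁻¹ᵁ Y.basicOpen a),
          g.appLE (Y.basicOpen a) (Y.basicOpen a) e = 𝟙 _ := by
        rintro g rfl e
        show (𝟙 Y : Y ⟶ Y).app (Y.basicOpen a) ≫ Y.presheaf.map (homOfLE e).op = 𝟙 _
        exact (Category.id_comp _).trans (Y.presheaf.map_id _)
      exact this _ hi _
    let ψa : Γ(X, X.basicOpen (f.appLE U₁ V₁ hV₁U₁ a)) →ₐ[Γ(Y, Y.basicOpen a)]
        Γ(Y, Y.basicOpen a) :=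
      { (i.appLE (X.basicOpen (f.appLE U₁ V₁ hV₁U₁ a)) (Y.basicOpen a) hU₂V₂).hom with
        commutes' := fun r => congr($hψφ r) }
    obtain ⟨f₀, hf₀, M, x, hxψ, H⟩ := SmoothSectionRing.exists_etale_coordinates_of_section
      Γ(Y, Y.basicOpen a) Γ(X, X.basicOpen (f.appLE U₁ V₁ hV₁U₁ a)) ψa
      (hU₂.primeIdealOf ⟨y, hya⟩).asIdeal
    -- the opens
    have hyU : y ∈ Y.basicOpen (ψa f₀) :=
      (EtaleAffineNhd.mem_basicOpen_iff_notMem_primeIdealOf hU₂ (ψa f₀) y hya).mpr hf₀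
    have hUU₂ : Y.basicOpen (ψa f₀) ≤ Y.basicOpen a := Y.basicOpen_le _
    have hVV₂ : X.basicOpen (f₀ * algebraMap Γ(Y, Y.basicOpen a) _ (ψa f₀)) ≤
        X.basicOpen (f.appLE U₁ V₁ hV₁U₁ a) := X.basicOpen_le _
    have hVeq : X.basicOpen (f₀ * algebraMap Γ(Y, Y.basicOpen a)
        Γ(X, X.basicOpen (f.appLE U₁ V₁ hV₁U₁ a)) (ψa f₀)) =
        X.basicOpen f₀ ⊓ (X.basicOpen (f.appLE U₁ V₁ hV₁U₁ a) ⊓
          f ⁻¹ᵁ (Y.basicOpen (ψa f₀))) := by
      rw [Scheme.basicOpen_mul]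
      congr 1
      exact Scheme.basicOpen_appLE f _ _ hV₂U₂ (ψa f₀)
    have hVU : X.basicOpen (f₀ * algebraMap Γ(Y, Y.basicOpen a)
        Γ(X, X.basicOpen (f.appLE U₁ V₁ hV₁U₁ a)) (ψa f₀)) ≤ f ⁻¹ᵁ (Y.basicOpen (ψa f₀)) := by
      rw [hVeq]; exact inf_le_right.trans inf_le_right
    have hUV : Y.basicOpen (ψa f₀) ≤ i ⁻¹ᵁ (X.basicOpen (f₀ * algebraMap Γ(Y, Y.basicOpen a)
        Γ(X, X.basicOpen (f.appLE U₁ V₁ hV₁U₁ a)) (ψa f₀))) := by
      intro u hu
      have hu₂ : u ∈ Y.basicOpen a := hUU₂ hu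
      show i u ∈ X.basicOpen _
      rw [hVeq]
      refine ⟨?_, hU₂V₂ hu₂, ?_⟩
      · have h1 := (Scheme.basicOpen_appLE i _ _ hU₂V₂ f₀).le hu
        exact h1.2
      · show f (i u) ∈ Y.basicOpen (ψa f₀)
        rw [hfi u]
        exact hu
    have hV : IsAffineOpen (X.basicOpen (f₀ * algebraMap Γ(Y, Y.basicOpen a)
        Γ(X, X.basicOpen (f.appLE U₁ V₁ hV₁U₁ a)) (ψa f₀))) := hV₂.basicOpen _
    have hU : IsAffineOpen (Y.basicOpen (ψa f₀)) := hU₂.basicOpen _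
    haveI : IsLocalization.Away (f₀ * algebraMap Γ(Y, Y.basicOpen a)
        Γ(X, X.basicOpen (f.appLE U₁ V₁ hV₁U₁ a)) (ψa f₀))
        Γ(X, X.basicOpen (f₀ * algebraMap Γ(Y, Y.basicOpen a)
          Γ(X, X.basicOpen (f.appLE U₁ V₁ hV₁U₁ a)) (ψa f₀))) :=
      hV₂.isLocalization_basicOpen _
    letI algAB'' : Algebra Γ(Y, Y.basicOpen a) Γ(X, X.basicOpen (f₀ * algebraMap
        Γ(Y, Y.basicOpen a) Γ(X, X.basicOpen (f.appLE U₁ V₁ hV₁U₁ a)) (ψa f₀))) :=
      ((algebraMap Γ(X, X.basicOpen (f.appLE U₁ V₁ hV₁U₁ a)) _).comp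
        (algebraMap Γ(Y, Y.basicOpen a) Γ(X, X.basicOpen (f.appLE U₁ V₁ hV₁U₁ a)))).toAlgebra
    haveI : IsScalarTower Γ(Y, Y.basicOpen a) Γ(X, X.basicOpen (f.appLE U₁ V₁ hV₁U₁ a))
        Γ(X, X.basicOpen (f₀ * algebraMap Γ(Y, Y.basicOpen a)
          Γ(X, X.basicOpen (f.appLE U₁ V₁ hV₁U₁ a)) (ψa f₀))) :=
      IsScalarTower.of_algebraMap_eq (fun _ => rfl)
    have hét := H (f₀ * algebraMap Γ(Y, Y.basicOpen a)
      Γ(X, X.basicOpen (f.appLE U₁ V₁ hV₁U₁ a)) (ψa f₀)) (Dvd.intro _ rfl)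
      Γ(X, X.basicOpen (f₀ * algebraMap Γ(Y, Y.basicOpen a)
        Γ(X, X.basicOpen (f.appLE U₁ V₁ hV₁U₁ a)) (ψa f₀)))
    -- abbreviations
    generalize hf' : f₀ * algebraMap Γ(Y, Y.basicOpen a)
      Γ(X, X.basicOpen (f.appLE U₁ V₁ hV₁U₁ a)) (ψa f₀) = f' at *
    have hVU₂ : X.basicOpen f' ≤ f ⁻¹ᵁ (Y.basicOpen a) := hVV₂.trans hV₂U₂
    let w : ULift.{u} (Fin M) → Γ(X, X.basicOpen f') := fun j =>
      algebraMap Γ(X, X.basicOpen (f.appLE U₁ V₁ hV₁U₁ a)) Γ(X, X.basicOpen f') (x j)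
    have hw : (MvPolynomial.eval₂Hom (f.appLE (Y.basicOpen a) (X.basicOpen f') hVU₂).hom
        w).Etale := by
      have e : (f.appLE (Y.basicOpen a) (X.basicOpen f') hVU₂).hom =
          algebraMap Γ(Y, Y.basicOpen a) Γ(X, X.basicOpen f') := by
        ext r
        show _ = X.presheaf.map (homOfLE hVV₂).op
          (f.appLE (Y.basicOpen a) (X.basicOpen (f.appLE U₁ V₁ hV₁U₁ a)) hV₂U₂ r)
        rw [← CommRingCat.comp_apply, Scheme.Hom.appLE_map]
      rw [e]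
      exact hét
    have hét₂ := etale_homOfVector f hU₂ hV hVU₂ w hw
    let v : ULift.{u} (Fin M) → Γ((X.basicOpen f' : Scheme.{u}), ⊤) := fun j =>
      (X.basicOpen f').topIso.inv (w j)
    refine ⟨Y.basicOpen (ψa f₀), X.basicOpen f', hyU, hUV, hVU, M, v, ?_, ?_⟩
    · -- étaleness by cancelling the open immersion of affine spaces
      haveI : Etale (AffineSpace.map (ULift.{u} (Fin M)) (Y.basicOpen (ψa f₀)).ι) :=
        MorphismProperty.of_isPullback (P := @Etale)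
          (AffineSpace.isPullback_map (Y.basicOpen (ψa f₀)).ι).flip inferInstance
      let π := AffineSpace.homOfVector (f.resLE (Y.basicOpen (ψa f₀)) (X.basicOpen f') hVU) v
      have hπover : π ≫ (𝔸(ULift.{u} (Fin M); ((Y.basicOpen (ψa f₀) : Y.Opens) : Scheme.{u})) ↘
          ((Y.basicOpen (ψa f₀) : Y.Opens) : Scheme.{u})) =
          f.resLE (Y.basicOpen (ψa f₀)) (X.basicOpen f') hVU :=
        AffineSpace.homOfVector_over _ _
      have hπcoord : ∀ j, π.appTop (AffineSpace.coord _ j) = v j := fun j =>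
        AffineSpace.homOfVector_appTop_coord _ _ _
      have hcomp : π ≫ AffineSpace.map (ULift.{u} (Fin M)) (Y.basicOpen (ψa f₀)).ι =
          AffineSpace.homOfVector ((X.basicOpen f').ι ≫ f) v := by
        refine AffineSpace.hom_ext ?_ ?_
        · rw [Category.assoc, AffineSpace.map_over, ← Category.assoc, hπover,
            AffineSpace.homOfVector_over, Scheme.Hom.resLE_comp_ι]
        · intro j
          rw [AffineSpace.homOfVector_appTop_coord]
          exact (congrArg (fun t => π.appTop t)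
            (AffineSpace.map_appTop_coord (Y.basicOpen (ψa f₀)).ι j)).trans (hπcoord j)
      refine MorphismProperty.of_postcomp (W := @Etale) (W' := @Etale) π
        (AffineSpace.map (ULift.{u} (Fin M)) (Y.basicOpen (ψa f₀)).ι) inferInstance ?_
      rw [hcomp]
      exact hét₂
    · -- vanishing along the section
      have hres : (i.resLE (X.basicOpen f') (Y.basicOpen (ψa f₀)) hUV).appTop =
          (X.basicOpen f').topIso.hom ≫ i.appLE (X.basicOpen f') (Y.basicOpen (ψa f₀)) hUV ≫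
            (Y.basicOpen (ψa f₀)).topIso.inv := by
        rw [Scheme.Hom.appTop, Scheme.Hom.resLE_app_top]
      have hnat : X.presheaf.map (homOfLE hVV₂).op ≫
          i.appLE (X.basicOpen f') (Y.basicOpen (ψa f₀)) hUV =
          i.appLE (X.basicOpen (f.appLE U₁ V₁ hV₁U₁ a)) (Y.basicOpen a) hU₂V₂ ≫
            Y.presheaf.map (homOfLE hUU₂).op := by
        rw [Scheme.Hom.map_appLE, Scheme.Hom.appLE_map]
      have hM : X.presheaf.map (homOfLE hVV₂).op ≫ (X.basicOpen f').topIso.inv ≫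
          (i.resLE (X.basicOpen f') (Y.basicOpen (ψa f₀)) hUV).appTop =
          i.appLE (X.basicOpen (f.appLE U₁ V₁ hV₁U₁ a)) (Y.basicOpen a) hU₂V₂ ≫
            Y.presheaf.map (homOfLE hUU₂).op ≫ (Y.basicOpen (ψa f₀)).topIso.inv := by
        rw [hres, Iso.inv_hom_id_assoc, ← Category.assoc, hnat, Category.assoc]
      intro j
      have h1 := congr($hM (x j))
      have h2 : (i.appLE (X.basicOpen (f.appLE U₁ V₁ hV₁U₁ a)) (Y.basicOpen a) hU₂V₂ ≫
          Y.presheaf.map (homOfLE hUU₂).op ≫ (Y.basicOpen (ψa f₀)).topIso.inv) (x j) = 0 := by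
        show ((Y.basicOpen (ψa f₀)).topIso.inv)
          ((Y.presheaf.map (homOfLE hUU₂).op) (ψa (x j))) = 0
        rw [hxψ j, map_zero, map_zero]
      exact h1.trans h2
  · rintro ⟨U, V, hyU, hUV, hVU, m, v, hét, -⟩
    haveI := hét
    haveI : Smooth (𝔸(ULift.{u} (Fin m); (U : Scheme.{u})) ↘ (U : Scheme.{u})) := by
      haveI := LocStruct.smoothOfRelativeDimension_affineSpace m (U : Scheme.{u})
      exact SmoothOfRelativeDimension.smooth m _
    have hsm : Smooth (f.resLE U V hVU) := by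
      rw [← AffineSpace.homOfVector_over (f.resLE U V hVU) v]
      infer_instance
    have hsm2 : Smooth (V.ι ≫ f) := by
      rw [← Scheme.Hom.resLE_comp_ι f hVU]
      infer_instance
    have hx : (⟨i y, hUV hyU⟩ : V) ∈ V.ι ⁻¹ᵁ f.smoothLocus := by
      rw [Scheme.Hom.preimage_smoothLocus_eq, Scheme.Hom.smoothLocus_eq_top]
      trivial
    exact hx

end Groth.Agent.Lib.Helper8.SmoothSectionSch
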