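import Mathlib
import Groth.Agent.Lib.Helper8.SmoothSlice
set_option autoImplicit false
open TensorProduct KaehlerDifferential IsLocalRing

/-! If the closed fibre of a formally smooth local algebra with separable residue extension is not
a field, some element of the maximal ideal has nonzero differential in `κ ⊗ Ω`. -/

namespace Groth.Agent.Lib.Helper8.SmoothSliceFibre
open Groth.Agent.Lib.Helper8.SmoothSlice
universe u

section Fibre
variable {R' T : Type u} [CommRing R'] [CommRing T] [IsLocalRing R'] [IsLocalRing T] [Algebra R' T]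

local notation "Tb" => T ⧸ Ideal.map (algebraMap R' T) (maximalIdeal R')
local notation "k₀" => R' ⧸ maximalIdeal R'

theorem exists_mem_maximalIdeal_tmul_D_ne_zero [IsLocalHom (algebraMap R' T)]
    [Algebra.FormallySmooth R' T] [Algebra.EssFiniteType R' T]
    [Algebra k₀ (ResidueField T)] [IsScalarTower R' k₀ (ResidueField T)]
    [Algebra.FormallySmooth k₀ (ResidueField T)]
    (hne : Ideal.map (algebraMap R' T) (maximalIdeal R') ≠ maximalIdeal T) :
    ∃ t ∈ maximalIdeal T, (1 : ResidueField T) ⊗ₜ[T] D R' T t ≠ 0 := by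
  classical
  by_contra hcon
  push_neg at hcon
  have hJm : Ideal.map (algebraMap R' T) (maximalIdeal R') ≤ maximalIdeal T :=
    Ideal.map_le_iff_le_comap.mpr (fun a ha => _root_.map_nonunit _ a ha)
  haveI : Algebra.FormallySmooth k₀ Tb :=
    Algebra.FormallySmooth.of_equiv
      (Algebra.TensorProduct.quotIdealMapEquivQuotTensor T (maximalIdeal R')).symm
  letI algTbκ : Algebra Tb (ResidueField T) :=
    (Ideal.Quotient.lift _ (IsLocalRing.residue T)
      (fun a ha => (IsLocalRing.residue_eq_zero_iff a).mpr (hJm ha))).toAlgebra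
  have halg : ∀ t : T, algebraMap Tb (ResidueField T) (Ideal.Quotient.mk _ t) =
      IsLocalRing.residue T t := fun t => rfl
  haveI : IsScalarTower k₀ Tb (ResidueField T) := by
    refine IsScalarTower.of_algebraMap_eq (fun c => ?_)
    obtain ⟨r, rfl⟩ := Ideal.Quotient.mk_surjective c
    have h1 : algebraMap k₀ (ResidueField T) (Ideal.Quotient.mk _ r) =
        algebraMap R' (ResidueField T) r :=
      (IsScalarTower.algebraMap_apply R' k₀ (ResidueField T) r).symm
    rw [h1]
    rfl
  have hsurj : Function.Surjective (algebraMap Tb (ResidueField T)) := by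
    intro y
    obtain ⟨t, rfl⟩ := IsLocalRing.residue_surjective y
    exact ⟨Ideal.Quotient.mk _ t, rfl⟩
  obtain ⟨l, hl⟩ := (Algebra.FormallySmooth.iff_split_injection (R := k₀) (P := Tb)
    (A := ResidueField T) hsurj).mp inferInstance
  have hinj : Function.Injective (kerCotangentToTensor k₀ Tb (ResidueField T)) := by
    intro a b hab
    have := congrArg l hab
    rwa [← LinearMap.comp_apply, ← LinearMap.comp_apply, hl] at this
  haveI : IsScalarTower R' k₀ Tb := IsScalarTower.of_algebraMap_eq (fun r => rfl)
  have key : ∀ ω ∈ maximalIdeal T • (⊤ : Submodule T Ω[T⁄R']),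
      (1 : ResidueField T) ⊗ₜ[Tb] (KaehlerDifferential.map R' k₀ T Tb ω) = 0 := by
    intro ω hω
    refine Submodule.smul_induction_on hω (fun r hr n _ => ?_) (fun x y hx hy => ?_)
    · rw [map_smul, algebra_compatible_smul Tb r, ← TensorProduct.smul_tmul, Algebra.smul_def,
        mul_one]
      have h2 : algebraMap Tb (ResidueField T) (algebraMap T Tb r) = 0 :=
        (IsLocalRing.residue_eq_zero_iff r).mpr hr
      rw [h2, TensorProduct.zero_tmul]
    · rw [map_add, TensorProduct.tmul_add, hx, hy, add_zero]
  have hcot : ∀ y : (RingHom.ker (algebraMap Tb (ResidueField T))).Cotangent, y = 0 := by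
    intro y
    obtain ⟨⟨yb, hyb⟩, rfl⟩ := Ideal.toCotangent_surjective _ y
    obtain ⟨t, rfl⟩ := Ideal.Quotient.mk_surjective yb
    have htm : t ∈ maximalIdeal T := by
      rw [RingHom.mem_ker, halg] at hyb
      exact (IsLocalRing.residue_eq_zero_iff t).mp hyb
    apply hinj
    rw [map_zero, kerCotangentToTensor_toCotangent]
    have h2 := (one_tmul_eq_zero_iff (D R' T t)).mp (hcon t htm)
    have h3 := key _ h2
    rwa [KaehlerDifferential.map_D] at h3
  haveI hss : Subsingleton (RingHom.ker (algebraMap Tb (ResidueField T))).Cotangent :=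
    ⟨fun a b => (hcot a).trans (hcot b).symm⟩
  have hidem := (Ideal.cotangent_subsingleton_iff _).mp hss
  haveI : IsNoetherianRing k₀ := inferInstanceAs (IsNoetherianRing (ResidueField R'))
  haveI : Algebra.EssFiniteType k₀ Tb := inferInstance
  haveI : IsNoetherianRing Tb := Algebra.EssFiniteType.isNoetherianRing k₀ Tb
  haveI : Nontrivial Tb := Ideal.Quotient.nontrivial_iff.mpr
    (fun h => (maximalIdeal.isMaximal T).ne_top (top_le_iff.mp (h ▸ hJm)))
  haveI : IsLocalRing Tb :=
    IsLocalRing.of_surjective' (Ideal.Quotient.mk _) Ideal.Quotient.mk_surjective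
  have hker : RingHom.ker (algebraMap Tb (ResidueField T)) = ⊥ := by
    rcases (Ideal.isIdempotentElem_iff_eq_bot_or_top_of_isLocalRing _).mp hidem with h | h
    · exact h
    · exfalso
      have h1 : (1 : Tb) ∈ RingHom.ker (algebraMap Tb (ResidueField T)) := h ▸ Submodule.mem_top
      rw [RingHom.mem_ker, map_one] at h1
      exact one_ne_zero h1
  apply hne
  refine le_antisymm hJm ?_
  intro t ht
  have h1 : Ideal.Quotient.mk _ t ∈ RingHom.ker (algebraMap Tb (ResidueField T)) := by
    rw [RingHom.mem_ker, halg]
    exact (IsLocalRing.residue_eq_zero_iff t).mpr ht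
  rw [hker, Ideal.mem_bot] at h1
  exact Ideal.Quotient.eq_zero_iff_mem.mp h1

end Fibre

end Groth.Agent.Lib.Helper8.SmoothSliceFibre
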