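import Mathlib
import Groth.Agent.Lib.Helper8.SmoothSliceFibre
import Groth.Agent.Lib.Helper8.SmoothSliceSch

set_option autoImplicit false
open CategoryTheory CategoryTheory.Limits AlgebraicGeometry Opposite TensorProduct
universe u

/-! Smooth effective Cartier divisors through non-generic points of fibres with separable
residue field (scheme glue). -/

namespace Groth.Agent.Lib.Helper8.SmoothSliceFibreSch

/-- The local rings of the spectrum of a field are fields. -/
theorem maximalIdeal_stalk_Spec_eq_bot (K : CommRingCat.{u}) (hK : IsField K) (y : Spec K) :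
    IsLocalRing.maximalIdeal ((Spec K).presheaf.stalk y) = ⊥ := by
  have hT : IsAffineOpen (⊤ : (Spec K).Opens) := isAffineOpen_top (Spec K)
  have hy : y ∈ (⊤ : (Spec K).Opens) := trivial
  letI : Algebra Γ(Spec K, ⊤) ((Spec K).presheaf.stalk y) :=
    (Spec K).presheaf.algebra_section_stalk ⟨y, hy⟩
  haveI : IsLocalization.AtPrime ((Spec K).presheaf.stalk y)
      (hT.primeIdealOf ⟨y, hy⟩).asIdeal := hT.isLocalization_stalk ⟨y, hy⟩
  have hΓ : IsField Γ(Spec K, ⊤) :=
    MulEquiv.isField hK (Scheme.ΓSpecIso K).commRingCatIsoToRingEquiv.toMulEquiv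
  rw [eq_bot_iff]
  intro w hw
  obtain ⟨a, s, rfl⟩ :=
    IsLocalization.exists_mk'_eq (hT.primeIdealOf ⟨y, hy⟩).asIdeal.primeCompl w
  have ha : a ∈ (hT.primeIdealOf ⟨y, hy⟩).asIdeal := by
    rw [← IsLocalization.AtPrime.to_map_mem_maximal_iff ((Spec K).presheaf.stalk y) _ a
      inferInstance, ← IsLocalization.mk'_spec _ a s]
    exact Ideal.mul_mem_right _ _ hw
  have ha0 : a = 0 := by
    by_contra hne
    obtain ⟨b, hb⟩ := hΓ.mul_inv_cancel hne
    have h1 : (1 : Γ(Spec K, ⊤)) ∈ (hT.primeIdealOf ⟨y, hy⟩).asIdeal :=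
      hb ▸ Ideal.mul_mem_right _ _ ha
    exact (hT.primeIdealOf ⟨y, hy⟩).isPrime.ne_top ((Ideal.eq_top_iff_one _).mpr h1)
  rw [ha0, IsLocalization.mk'_zero]
  exact zero_mem _

/-- If `𝔪_s O_{X,x} = 𝔪_x`, the local ring of the fibre at `x` is a field. -/
theorem maximalIdeal_fiber_stalk_eq_bot {X S : Scheme.{u}} (f : X ⟶ S) (s : S) (z : f.fiber s)
    (h : (IsLocalRing.maximalIdeal (S.presheaf.stalk (f (f.fiberι s z)))).map
        (f.stalkMap (f.fiberι s z)).hom =
      IsLocalRing.maximalIdeal (X.presheaf.stalk (f.fiberι s z))) :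
    IsLocalRing.maximalIdeal ((f.fiber s).presheaf.stalk z) = ⊥ := by
  rw [eq_bot_iff]
  intro w hw
  obtain ⟨t, rfl⟩ := (f.fiberι s).stalkMap_surjective z w
  have ht : t ∈ IsLocalRing.maximalIdeal (X.presheaf.stalk (f.fiberι s z)) := by
    rw [IsLocalRing.mem_maximalIdeal, mem_nonunits_iff] at hw ⊢
    exact fun hu => hw (hu.map ((f.fiberι s).stalkMap z).hom)
  rw [← h] at ht
  have key : ∀ a ∈ IsLocalRing.maximalIdeal (S.presheaf.stalk (f (f.fiberι s z))),
      ((f.fiberι s).stalkMap z).hom ((f.stalkMap (f.fiberι s z)).hom a) = 0 := by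
    intro a ha
    have e1 : ((f.fiberι s).stalkMap z).hom ((f.stalkMap (f.fiberι s z)).hom a) =
        ((f.fiberι s ≫ f).stalkMap z).hom a := by
      rw [Scheme.Hom.stalkMap_comp]
      rfl
    have hpt : (f.fiberι s ≫ f) z =
        (f.fiberToSpecResidueField s ≫ S.fromSpecResidueField s) z := by
      rw [f.fiber_fac s]
    set c := (S.presheaf.stalkCongr (.of_eq hpt)).hom with hc
    have hb : c.hom a ∈ IsLocalRing.maximalIdeal _ := map_nonunit c.hom a ha
    have e2 : (f.fiberι s ≫ f).stalkMap z =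
        c ≫ (f.fiberToSpecResidueField s ≫ S.fromSpecResidueField s).stalkMap z :=
      Scheme.Hom.stalkMap_congr_hom _ _ (f.fiber_fac s) z
    have e3 : (f.fiberToSpecResidueField s ≫ S.fromSpecResidueField s).stalkMap z =
        (S.fromSpecResidueField s).stalkMap ((f.fiberToSpecResidueField s) z) ≫
          (f.fiberToSpecResidueField s).stalkMap z :=
      Scheme.Hom.stalkMap_comp _ _ z
    have e4 : ((f.fiberι s ≫ f).stalkMap z).hom a =
        ((f.fiberToSpecResidueField s).stalkMap z).hom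
          (((S.fromSpecResidueField s).stalkMap ((f.fiberToSpecResidueField s) z)).hom
            (c.hom a)) := by
      rw [e2, e3]
      rfl
    have h4 := map_nonunit ((S.fromSpecResidueField s).stalkMap
      ((f.fiberToSpecResidueField s) z)).hom _ hb
    rw [maximalIdeal_stalk_Spec_eq_bot (S.residueField s) (Field.toIsField _), Ideal.mem_bot] at h4
    rw [e1, e4, h4, map_zero]
  have h5 : Ideal.map ((f.fiberι s).stalkMap z).hom
      ((IsLocalRing.maximalIdeal (S.presheaf.stalk (f (f.fiberι s z)))).map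
        (f.stalkMap (f.fiberι s z)).hom) = ⊥ := by
    rw [Ideal.map_map, eq_bot_iff, Ideal.map_le_iff_le_comap]
    intro a ha
    rw [Ideal.mem_comap, RingHom.comp_apply, key a ha]
    exact zero_mem _
  rw [← h5]
  exact Ideal.mem_map_of_mem _ ht

theorem exists_smooth_effCartier_through_point {X S : Scheme.{u}} (f : X ⟶ S) (x : X)
    (W : X.Opens) (hxW : x ∈ W) (hW : Smooth (W.ι ≫ f))
    (hsep : letI := (f.residueFieldMap x).hom.toAlgebra
      Algebra.FormallySmooth (S.residueField (f x)) (X.residueField x))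
    (hgen : IsLocalRing.maximalIdeal ↑((f.fiber (f x)).presheaf.stalk (f.asFiber x)) ≠ ⊥) :
    ∃ (U : X.Opens) (hU : IsAffineOpen U) (hx : x ∈ U) (h' : Γ(X, U)),
      h' ∈ nonZeroDivisors Γ(X, U) ∧
      X.presheaf.germ U x hx h' ∈ IsLocalRing.maximalIdeal ↑(X.presheaf.stalk x) ∧
      Smooth (Spec.map (CommRingCat.ofHom (Ideal.Quotient.mk (Ideal.span {h'}))) ≫
        hU.fromSpec ≫ f) := by
  -- the closed fibre of the local ring is not a field
  let P : X → Prop := fun y =>
    (IsLocalRing.maximalIdeal (S.presheaf.stalk (f y))).map (f.stalkMap y).hom ≠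
      IsLocalRing.maximalIdeal (X.presheaf.stalk y)
  have hP' : P (f.fiberι (f x) (f.asFiber x)) := fun h =>
    hgen (maximalIdeal_fiber_stalk_eq_bot f (f x) (f.asFiber x) h)
  have hP : P x := (congrArg P (f.fiberι_asFiber x)).mp hP'
  -- local data
  obtain ⟨V, U₀, hV, hU₀, hUV, hxU₀, -, hfxV, hsm⟩ :=
    Groth.Agent.Lib.Helper8.SmoothSliceSch.exists_affine_smooth_appLE f x W hxW hW ⊤ trivial
  letI algRA : Algebra Γ(S, V) Γ(X, U₀) := (f.appLE V U₀ hUV).hom.toAlgebra
  haveI : Algebra.Smooth Γ(S, V) Γ(X, U₀) := hsm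
  letI algAT : Algebra Γ(X, U₀) (X.presheaf.stalk x) :=
    X.presheaf.algebra_section_stalk ⟨x, hxU₀⟩
  letI algRR' : Algebra Γ(S, V) (S.presheaf.stalk (f x)) :=
    S.presheaf.algebra_section_stalk ⟨f x, hfxV⟩
  letI algR'T : Algebra (S.presheaf.stalk (f x)) (X.presheaf.stalk x) :=
    (f.stalkMap x).hom.toAlgebra
  letI algRT : Algebra Γ(S, V) (X.presheaf.stalk x) :=
    ((algebraMap Γ(X, U₀) (X.presheaf.stalk x)).comp (algebraMap Γ(S, V) Γ(X, U₀))).toAlgebra
  haveI : IsScalarTower Γ(S, V) Γ(X, U₀) (X.presheaf.stalk x) :=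
    IsScalarTower.of_algebraMap_eq (fun _ => rfl)
  haveI : IsScalarTower Γ(S, V) (S.presheaf.stalk (f x)) (X.presheaf.stalk x) := by
    refine IsScalarTower.of_algebraMap_eq (fun r => ?_)
    show X.presheaf.germ U₀ x hxU₀ (f.appLE V U₀ hUV r) =
      f.stalkMap x (S.presheaf.germ V (f x) hfxV r)
    rw [Scheme.Hom.germ_stalkMap_apply]
    show X.presheaf.germ U₀ x hxU₀ ((X.presheaf.map (homOfLE hUV).op) (f.app V r)) = _
    rw [TopCat.Presheaf.germ_res_apply]
  haveI : IsLocalization.AtPrime (X.presheaf.stalk x) (hU₀.primeIdealOf ⟨x, hxU₀⟩).asIdeal :=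
    hU₀.isLocalization_stalk ⟨x, hxU₀⟩
  haveI : IsLocalization.AtPrime (S.presheaf.stalk (f x)) (hV.primeIdealOf ⟨f x, hfxV⟩).asIdeal :=
    hV.isLocalization_stalk ⟨f x, hfxV⟩
  haveI : Algebra.FormallySmooth Γ(X, U₀) (X.presheaf.stalk x) :=
    Algebra.FormallySmooth.of_isLocalization (hU₀.primeIdealOf ⟨x, hxU₀⟩).asIdeal.primeCompl
  haveI : Algebra.FormallySmooth Γ(S, V) (X.presheaf.stalk x) :=
    Algebra.FormallySmooth.comp Γ(S, V) Γ(X, U₀) (X.presheaf.stalk x)
  haveI : Algebra.FormallySmooth (S.presheaf.stalk (f x)) (X.presheaf.stalk x) :=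
    Algebra.FormallySmooth.localization_base (hV.primeIdealOf ⟨f x, hfxV⟩).asIdeal.primeCompl
  haveI : Algebra.EssFiniteType Γ(X, U₀) (X.presheaf.stalk x) :=
    Algebra.EssFiniteType.of_isLocalization _ (hU₀.primeIdealOf ⟨x, hxU₀⟩).asIdeal.primeCompl
  haveI : Algebra.EssFiniteType Γ(S, V) (X.presheaf.stalk x) :=
    Algebra.EssFiniteType.comp Γ(S, V) Γ(X, U₀) (X.presheaf.stalk x)
  haveI : Algebra.EssFiniteType (S.presheaf.stalk (f x)) (X.presheaf.stalk x) :=
    Algebra.EssFiniteType.of_comp Γ(S, V) (S.presheaf.stalk (f x)) (X.presheaf.stalk x)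
  haveI : IsLocalHom (algebraMap (S.presheaf.stalk (f x)) (X.presheaf.stalk x)) :=
    inferInstanceAs (IsLocalHom (f.stalkMap x).hom)
  letI algkκ : Algebra (S.presheaf.stalk (f x) ⧸ IsLocalRing.maximalIdeal (S.presheaf.stalk (f x)))
      (IsLocalRing.ResidueField (X.presheaf.stalk x)) := (f.residueFieldMap x).hom.toAlgebra
  haveI : IsScalarTower (S.presheaf.stalk (f x))
      (S.presheaf.stalk (f x) ⧸ IsLocalRing.maximalIdeal (S.presheaf.stalk (f x)))
      (IsLocalRing.ResidueField (X.presheaf.stalk x)) :=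
    IsScalarTower.of_algebraMap_eq (fun _ => rfl)
  haveI : Algebra.FormallySmooth
      (S.presheaf.stalk (f x) ⧸ IsLocalRing.maximalIdeal (S.presheaf.stalk (f x)))
      (IsLocalRing.ResidueField (X.presheaf.stalk x)) := hsep
  obtain ⟨t, htm, htd⟩ :=
    Groth.Agent.Lib.Helper8.SmoothSliceFibre.exists_mem_maximalIdeal_tmul_D_ne_zero
      (R' := S.presheaf.stalk (f x)) (T := X.presheaf.stalk x) hP
  obtain ⟨U, hU, hx, h', hh', hnzd, hsm'⟩ :=
    Groth.Agent.Lib.Helper8.SmoothSliceSch.exists_smooth_effCartier_of_differential_ne_zero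
      f x W hxW hW t htm htd
  exact ⟨U, hU, hx, h', hnzd, hh' ▸ htm, hsm'⟩

end Groth.Agent.Lib.Helper8.SmoothSliceFibreSch
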