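import Mathlib

/-!
# Splitting algebras and finite flat covers dominating standard étale algebras
-/

set_option autoImplicit false

open Polynomial TensorProduct

universe u

namespace Groth.Agent.Lib.Helper8

/-- Every monic polynomial splits into linear factors over some finite free algebra. -/
theorem exists_splitting_algebra (n : ℕ) : ∀ (R : Type u) [CommRing R] (f : R[X]), f.Monic →
    f.natDegree = n →
    ∃ (S' : Type u) (_ : CommRing S') (_ : Algebra R S'), Module.Finite R S' ∧ Module.Free R S' ∧
      (Nontrivial R → Nontrivial S') ∧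
      ∃ α : Fin n → S', f.map (algebraMap R S') = ∏ i, (X - C (α i)) := by
  induction n with
  | zero =>
    intro R _ f hf hdeg
    refine ⟨R, inferInstance, inferInstance, inferInstance, inferInstance, id, Fin.elim0, ?_⟩
    rw [hf.natDegree_eq_zero.mp hdeg]
    simp
  | succ n ih =>
    intro R _ f hf hdeg
    rcases subsingleton_or_nontrivial R with hR | hR
    · exfalso
      have : f = 0 := Subsingleton.elim _ _
      rw [this] at hdeg
      simp at hdeg
    let S₁ := AdjoinRoot f
    have hfin₁ : Module.Finite R S₁ := hf.finite_adjoinRoot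
    have hfree₁ : Module.Free R S₁ := hf.free_adjoinRoot
    have hnt₁ : Nontrivial S₁ := by
      have h1 : Module.finrank R S₁ = n + 1 := by
        rw [(AdjoinRoot.powerBasis' hf).finrank, AdjoinRoot.powerBasis'_dim, hdeg]
      exact Module.nontrivial_of_finrank_pos (R := R) (by omega)
    let a : S₁ := AdjoinRoot.root f
    let F : S₁[X] := f.map (AdjoinRoot.of f)
    have hFmonic : F.Monic := hf.map _
    have hroot : F.IsRoot a := AdjoinRoot.isRoot_root f
    let g : S₁[X] := F /ₘ (X - C a)
    have hFg : (X - C a) * g = F := mul_divByMonic_eq_iff_isRoot.mpr hroot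
    have hgmonic : g.Monic := (monic_X_sub_C a).of_mul_monic_left (hFg ▸ hFmonic)
    have hgdeg : g.natDegree = n := by
      have h1 : F.natDegree = n + 1 := by rw [hf.natDegree_map, hdeg]
      rw [← hFg, (monic_X_sub_C a).natDegree_mul hgmonic, natDegree_X_sub_C] at h1
      omega
    obtain ⟨S', _, _, hfin, hfree, hnt, β, hβ⟩ := ih S₁ g hgmonic hgdeg
    letI : Algebra R S' := ((algebraMap S₁ S').comp (algebraMap R S₁)).toAlgebra
    haveI : IsScalarTower R S₁ S' := IsScalarTower.of_algebraMap_eq (fun _ => rfl)
    refine ⟨S', inferInstance, inferInstance, Module.Finite.trans S₁ S', Module.Free.trans (S := S₁),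
      fun _ => hnt hnt₁, Fin.cons (algebraMap S₁ S' a) β, ?_⟩
    rw [Fin.prod_univ_succ]
    simp only [Fin.cons_zero, Fin.cons_succ]
    rw [← hβ, IsScalarTower.algebraMap_eq R S₁ S', ← Polynomial.map_map]
    change F.map (algebraMap S₁ S') = _
    rw [← hFg, Polynomial.map_mul, Polynomial.map_sub, map_X, map_C]

/-- Two primes over the same prime admit a common field of values. -/
theorem exists_common_field (R : Type u) [CommRing R] (S S' : Type u) [CommRing S] [CommRing S']
    [Algebra R S] [Algebra R S'] (q : Ideal S) [q.IsPrime] (q' : Ideal S') [q'.IsPrime]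
    (h : q.under R = q'.under R) :
    ∃ (Ω : Type u) (_ : Field Ω) (a : S →+* Ω) (a' : S' →+* Ω),
      (∀ s, a s = 0 ↔ s ∈ q) ∧ (∀ s, a' s = 0 ↔ s ∈ q') ∧
      a.comp (algebraMap R S) = a'.comp (algebraMap R S') := by
  let p : Ideal R := q.under R
  have hq : p = q.comap (algebraMap R S) := rfl
  have hq' : p = q'.comap (algebraMap R S') := h
  let ι : p.ResidueField →+* q.ResidueField := Ideal.ResidueField.map p q (algebraMap R S) hq
  let ι' : p.ResidueField →+* q'.ResidueField := Ideal.ResidueField.map p q' (algebraMap R S') hq'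
  letI := ι.toAlgebra
  letI := ι'.toAlgebra
  have hnt : Nontrivial (q.ResidueField ⊗[p.ResidueField] q'.ResidueField) :=
    Algebra.TensorProduct.nontrivial_of_algebraMap_injective_of_isDomain _ _ _
      ι.injective ι'.injective
  obtain ⟨m, hm⟩ := Ideal.exists_maximal (q.ResidueField ⊗[p.ResidueField] q'.ResidueField)
  letI : Field ((q.ResidueField ⊗[p.ResidueField] q'.ResidueField) ⧸ m) := Ideal.Quotient.field m
  let b : q.ResidueField →+* (q.ResidueField ⊗[p.ResidueField] q'.ResidueField) ⧸ m :=
    (Ideal.Quotient.mk m).comp Algebra.TensorProduct.includeLeftRingHom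
  let b' : q'.ResidueField →+* (q.ResidueField ⊗[p.ResidueField] q'.ResidueField) ⧸ m :=
    (Ideal.Quotient.mk m).comp
      (Algebra.TensorProduct.includeRight : q'.ResidueField →ₐ[p.ResidueField] _).toRingHom
  refine ⟨_, inferInstance, b.comp (algebraMap S q.ResidueField),
    b'.comp (algebraMap S' q'.ResidueField), fun s => ?_, fun s => ?_, ?_⟩
  · rw [RingHom.comp_apply, map_eq_zero_iff b b.injective, Ideal.algebraMap_residueField_eq_zero]
  · rw [RingHom.comp_apply, map_eq_zero_iff b' b'.injective, Ideal.algebraMap_residueField_eq_zero]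
  · ext r
    simp only [RingHom.comp_apply]
    have h1 : algebraMap S q.ResidueField (algebraMap R S r) =
        ι (algebraMap R p.ResidueField r) := (Ideal.ResidueField.map_algebraMap p q _ hq r).symm
    have h2 : algebraMap S' q'.ResidueField (algebraMap R S' r) =
        ι' (algebraMap R p.ResidueField r) := (Ideal.ResidueField.map_algebraMap p q' _ hq' r).symm
    rw [h1, h2]
    change Ideal.Quotient.mk m (ι (algebraMap R p.ResidueField r) ⊗ₜ 1) =
      Ideal.Quotient.mk m (1 ⊗ₜ ι' (algebraMap R p.ResidueField r))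
    congr 1
    have e1 : ι (algebraMap R p.ResidueField r) = algebraMap R p.ResidueField r • (1 : q.ResidueField) := by
      rw [Algebra.smul_def, mul_one]; rfl
    have e2 : ι' (algebraMap R p.ResidueField r) = algebraMap R p.ResidueField r • (1 : q'.ResidueField) := by
      rw [Algebra.smul_def, mul_one]; rfl
    rw [e1, e2, TensorProduct.smul_tmul]

end Groth.Agent.Lib.Helper8

namespace Groth.Agent.Lib.Helper8

open Polynomial TensorProduct

/-- The data of a finite free cover over which a standard étale algebra is Zariski-locally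
dominated. -/
theorem exists_finite_free_dominating (R : Type u) [CommRing R] (S : Type u) [CommRing S]
    [Algebra R S] (pr : StandardEtalePresentation R S) :
    ∃ (S' : Type u) (_ : CommRing S') (_ : Algebra R S'),
      Module.Finite R S' ∧ Module.Free R S' ∧ (Nontrivial R → Nontrivial S') ∧
        ∀ (q : Ideal S) [q.IsPrime] (q' : Ideal S') [q'.IsPrime], q'.under R = q.under R →
          ∃ (g' : S') (_ : g' ∉ q') (φ : S →ₐ[R] Localization.Away g'),
            (q'.map (algebraMap S' (Localization.Away g'))).comap φ = q := by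
  classical
  obtain ⟨S', _, _, hfin, hfree, hnt, α, hα⟩ :=
    exists_splitting_algebra pr.f.natDegree R pr.f pr.monic_f rfl
  refine ⟨S', inferInstance, inferInstance, hfin, hfree, hnt, ?_⟩
  intro q _ q' _ hqq'
  obtain ⟨Ω, _, a, a', hka, hka', hcomp⟩ := exists_common_field R S S' q q' hqq'.symm
  letI : Algebra R Ω := (a.comp (algebraMap R S)).toAlgebra
  let aA : S →ₐ[R] Ω := { a with commutes' := fun r => rfl }
  let a'A : S' →ₐ[R] Ω := { a' with commutes' := fun r => (DFunLike.congr_fun hcomp r).symm }
  have haA : ∀ s, aA s = a s := fun _ => rfl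
  have ha'A : ∀ s, a'A s = a' s := fun _ => rfl
  set β : Ω := aA pr.x with hβ
  have hfβ : aeval β pr.f = 0 := by
    rw [hβ, aeval_algHom_apply, pr.hasMap.1, map_zero]
  -- the roots in `Ω`
  have hprod : aeval β pr.f = ∏ i, (β - a'A (α i)) := by
    have h1 : pr.f.map (algebraMap R Ω) = ∏ i, (X - C (a'A (α i))) := by
      have : algebraMap R Ω = (a'A : S' →+* Ω).comp (algebraMap R S') :=
        RingHom.ext fun r => (a'A.commutes r).symm
      rw [this, ← Polynomial.map_map, hα, Polynomial.map_prod]
      refine Finset.prod_congr rfl fun i _ => ?_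
      rw [Polynomial.map_sub, map_X, map_C]
      rfl
    rw [aeval_def, eval₂_eq_eval_map, h1, eval_prod]
    refine Finset.prod_congr rfl fun i _ => ?_
    rw [eval_sub, eval_X, eval_C]
  rw [hfβ] at hprod
  obtain ⟨i, -, hi⟩ := Finset.prod_eq_zero_iff.mp hprod.symm
  have hβi : a'A (α i) = β := (sub_eq_zero.mp hi).symm
  -- the localizing element
  set g' : S' := aeval (α i) pr.g with hg'
  have hg'Ω : a'A g' ≠ 0 := by
    rw [hg', ← aeval_algHom_apply, hβi, hβ, aeval_algHom_apply]
    exact (pr.hasMap.2.map aA).ne_zero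
  have hg'q' : g' ∉ q' := fun h => hg'Ω ((hka' g').mpr h)
  -- the map
  have hαroot : aeval (α i) pr.f = 0 := by
    rw [aeval_def, eval₂_eq_eval_map, hα, eval_prod]
    exact Finset.prod_eq_zero (Finset.mem_univ i) (by rw [eval_sub, eval_X, eval_C, sub_self])
  let t : Localization.Away g' := algebraMap S' _ (α i)
  have ht : pr.P.HasMap t := by
    refine ⟨?_, ?_⟩
    · change aeval (algebraMap S' (Localization.Away g') (α i)) pr.f = 0
      rw [← IsScalarTower.toAlgHom_apply R S' (Localization.Away g'), aeval_algHom_apply, hαroot,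
        map_zero]
    · change IsUnit (aeval (algebraMap S' (Localization.Away g') (α i)) pr.g)
      rw [← IsScalarTower.toAlgHom_apply R S' (Localization.Away g'), aeval_algHom_apply]
      exact IsLocalization.Away.algebraMap_isUnit g'
  let φ : S →ₐ[R] Localization.Away g' := (pr.P.lift t ht).comp pr.equivRing.toAlgHom
  have hφx : φ pr.x = t := by
    change pr.P.lift t ht (pr.equivRing pr.x) = t
    rw [pr.equivRing_x, pr.P.lift_X]
  have hu : IsUnit (a'A g') := IsUnit.mk0 _ hg'Ω
  let Ψ : Localization.Away g' →ₐ[R] Ω := IsLocalization.Away.liftAlgHom g' (f := a'A) hu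
  have hΨ : ∀ s', Ψ (algebraMap S' _ s') = a'A s' := fun s' => by
    simp [Ψ, IsLocalization.Away.lift_eq]
  have hΨφ : Ψ.comp φ = aA := pr.hom_ext (by
    rw [AlgHom.comp_apply, hφx, hΨ, hβi])
  have hker : ∀ y : Localization.Away g', Ψ y = 0 ↔
      y ∈ q'.map (algebraMap S' (Localization.Away g')) := by
    intro y
    obtain ⟨s', m, rfl⟩ := IsLocalization.exists_mk'_eq (Submonoid.powers g') y
    rw [IsLocalization.mk'_mem_map_algebraMap_iff]
    have h1 : Ψ (IsLocalization.mk' _ s' m) * a'A (m : S') = a'A s' := by
      rw [← hΨ, ← hΨ, ← map_mul, IsLocalization.mk'_spec]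
    have hmu : a'A (m : S') ≠ 0 := by
      obtain ⟨k, hk⟩ := m.2
      rw [← hk, map_pow]
      exact pow_ne_zero _ hg'Ω
    constructor
    · intro h0
      rw [h0, zero_mul] at h1
      exact ⟨1, Submonoid.one_mem _, by rw [one_mul]; exact (hka' s').mp h1.symm⟩
    · rintro ⟨c, ⟨k, rfl⟩, hc⟩
      have h2 : s' ∈ q' := (‹q'.IsPrime›.mem_or_mem hc).resolve_left
        (fun h => hg'q' (‹q'.IsPrime›.mem_of_pow_mem k h))
      have h3 : a'A s' = 0 := (hka' s').mpr h2
      rw [h3] at h1
      exact (mul_eq_zero.mp h1).resolve_right hmu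
  refine ⟨g', hg'q', φ, ?_⟩
  ext s
  rw [Ideal.mem_comap, ← hker, ← AlgHom.comp_apply, hΨφ, haA, hka]

end Groth.Agent.Lib.Helper8

namespace Groth.Agent.Lib.Helper8

/-- Consequences of finite freeness used for the covers. -/
theorem finite_free_props (R : Type u) [CommRing R] (S' : Type u) [CommRing S'] [Algebra R S']
    [Module.Finite R S'] [Module.Free R S'] (hnt : Nontrivial R → Nontrivial S') :
    Algebra.FinitePresentation R S' ∧ Module.Flat R S' ∧
      Function.Surjective (PrimeSpectrum.comap (algebraMap R S')) := by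
  have : Module.FinitePresentation R S' := Module.finitePresentation_of_projective R S'
  refine ⟨inferInstance, inferInstance, ?_⟩
  rcases subsingleton_or_nontrivial R with hR | hR
  · intro x
    exact absurd ((Ideal.eq_top_iff_one _).mpr (by
      rw [Subsingleton.elim (1 : R) 0]; exact Ideal.zero_mem _)) x.isPrime.ne_top
  · haveI := hnt hR
    exact PrimeSpectrum.comap_surjective_of_faithfullyFlat

end Groth.Agent.Lib.Helper8

namespace Groth.Agent.Lib.Helper8

open IsLocalRing

/-- Passing from a principal localization to the localization at the prime. -/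
theorem exists_algHom_atPrime_of_away {R : Type u} [CommRing R] {S S' : Type u} [CommRing S]
    [CommRing S'] [Algebra R S] [Algebra R S'] (q : Ideal S) (q' : Ideal S') [q'.IsPrime]
    (g' : S') (hg' : g' ∉ q') (φ : S →ₐ[R] Localization.Away g')
    (hφ : (q'.map (algebraMap S' (Localization.Away g'))).comap φ = q) :
    ∃ φ' : S →ₐ[R] Localization.AtPrime q',
      (maximalIdeal (Localization.AtPrime q')).comap φ'.toRingHom = q := by
  have hu : IsUnit (IsScalarTower.toAlgHom R S' (Localization.AtPrime q') g') :=
    IsLocalization.map_units (Localization.AtPrime q') (⟨g', hg'⟩ : q'.primeCompl)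
  let l : Localization.Away g' →ₐ[R] Localization.AtPrime q' :=
    IsLocalization.Away.liftAlgHom g' (f := IsScalarTower.toAlgHom R S' (Localization.AtPrime q')) hu
  have hl : ∀ s', l (algebraMap S' _ s') = algebraMap S' (Localization.AtPrime q') s' := fun s' => by
    simp [l, IsLocalization.Away.lift_eq]
  have hker : ∀ y : Localization.Away g', l y ∈ maximalIdeal (Localization.AtPrime q') ↔
      y ∈ q'.map (algebraMap S' (Localization.Away g')) := by
    intro y
    obtain ⟨s', m, rfl⟩ := IsLocalization.exists_mk'_eq (Submonoid.powers g') y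
    rw [IsLocalization.mk'_mem_map_algebraMap_iff]
    have h1 : l (IsLocalization.mk' _ s' m) * algebraMap S' (Localization.AtPrime q') (m : S') =
        algebraMap S' (Localization.AtPrime q') s' := by
      rw [← hl, ← hl, ← map_mul, IsLocalization.mk'_spec]
    have hmq : (m : S') ∉ q' := by
      obtain ⟨k, hk⟩ := m.2
      rw [← hk]
      exact fun h => hg' (‹q'.IsPrime›.mem_of_pow_mem k h)
    have hmu : IsUnit (algebraMap S' (Localization.AtPrime q') (m : S')) :=
      IsLocalization.map_units (Localization.AtPrime q') (⟨m, hmq⟩ : q'.primeCompl)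
    have h2 : l (IsLocalization.mk' _ s' m) ∈ maximalIdeal (Localization.AtPrime q') ↔
        algebraMap S' (Localization.AtPrime q') s' ∈ maximalIdeal (Localization.AtPrime q') := by
      rw [← h1]
      exact (Ideal.mul_unit_mem_iff_mem _ hmu).symm
    rw [h2, IsLocalization.AtPrime.to_map_mem_maximal_iff (Localization.AtPrime q') q']
    constructor
    · intro h
      exact ⟨1, Submonoid.one_mem _, by rwa [one_mul]⟩
    · rintro ⟨c, ⟨k, rfl⟩, hc⟩
      exact (‹q'.IsPrime›.mem_or_mem hc).resolve_left
        (fun h => hg' (‹q'.IsPrime›.mem_of_pow_mem k h))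
  refine ⟨l.comp φ, ?_⟩
  ext s
  rw [Ideal.mem_comap]
  change l (φ s) ∈ _ ↔ _
  rw [hker, ← hφ]
  rfl

end Groth.Agent.Lib.Helper8
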