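import Mathlib
import Groth.Agent.Lib.Helper8.Splitting

/-!
# Finite free covers dominating étale algebras Zariski-locally
-/

set_option autoImplicit false

open Polynomial TensorProduct

universe u

namespace Groth.Agent.Lib.Helper8

variable (R : Type u) [CommRing R] (S : Type u) [CommRing S] [Algebra R S]

/-- `S'` dominates `S` at the primes in `U`: over any prime of `S'` with the same contraction to
`R` as a prime of `U`, the algebra `S` maps to a principal localization of `S'`. -/
def Dominates (U : Set (Ideal S)) (S' : Type u) [CommRing S'] [Algebra R S'] : Prop :=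
  ∀ q ∈ U, q.IsPrime → ∀ (q' : Ideal S') [q'.IsPrime], q'.under R = q.under R →
    ∃ (g' : S') (_ : g' ∉ q'), Nonempty (S →ₐ[R] Localization.Away g')

variable {R S}

/-- A map to a principal localization of a tensor factor gives a map to a principal localization
of the tensor product. -/
lemma exists_algHom_away_tensor_left {A B : Type u} [CommRing A] [CommRing B] [Algebra R A]
    [Algebra R B] (g : A) (ψ : S →ₐ[R] Localization.Away g) :
    Nonempty (S →ₐ[R] Localization.Away
      ((Algebra.TensorProduct.includeLeft : A →ₐ[R] A ⊗[R] B) g)) := by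
  set g' := (Algebra.TensorProduct.includeLeft : A →ₐ[R] A ⊗[R] B) g
  let f : A →ₐ[R] Localization.Away g' :=
    (IsScalarTower.toAlgHom R (A ⊗[R] B) (Localization.Away g')).comp
      Algebra.TensorProduct.includeLeft
  have hu : IsUnit (f g) := IsLocalization.Away.algebraMap_isUnit g'
  exact ⟨(IsLocalization.Away.liftAlgHom g (f := f) hu).comp ψ⟩

lemma exists_algHom_away_tensor_right {A B : Type u} [CommRing A] [CommRing B] [Algebra R A]
    [Algebra R B] (g : B) (ψ : S →ₐ[R] Localization.Away g) :
    Nonempty (S →ₐ[R] Localization.Away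
      ((Algebra.TensorProduct.includeRight : B →ₐ[R] A ⊗[R] B) g)) := by
  set g' := (Algebra.TensorProduct.includeRight : B →ₐ[R] A ⊗[R] B) g
  let f : B →ₐ[R] Localization.Away g' :=
    (IsScalarTower.toAlgHom R (A ⊗[R] B) (Localization.Away g')).comp
      Algebra.TensorProduct.includeRight
  have hu : IsUnit (f g) := IsLocalization.Away.algebraMap_isUnit g'
  exact ⟨(IsLocalization.Away.liftAlgHom g (f := f) hu).comp ψ⟩

/-- Combining two dominating algebras. -/
theorem Dominates.tensor {U₁ U₂ : Set (Ideal S)} {A B : Type u} [CommRing A] [CommRing B]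
    [Algebra R A] [Algebra R B] (h₁ : Dominates R S U₁ A) (h₂ : Dominates R S U₂ B) :
    Dominates R S (U₁ ∪ U₂) (A ⊗[R] B) := by
  intro q hq hqp q' _ hqq'
  rcases hq with hq | hq
  · let q₁ : Ideal A := q'.comap (Algebra.TensorProduct.includeLeft : A →ₐ[R] A ⊗[R] B)
    have hq₁ : q₁.under R = q.under R := by
      rw [← hqq']
      ext r
      simp only [Ideal.under, Ideal.mem_comap, q₁]
      rw [AlgHom.commutes]
    obtain ⟨g, hg, ⟨ψ⟩⟩ := h₁ q hq hqp q₁ hq₁
    exact ⟨_, hg, exists_algHom_away_tensor_left g ψ⟩
  · let q₂ : Ideal B := q'.comap (Algebra.TensorProduct.includeRight : B →ₐ[R] A ⊗[R] B)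
    have hq₂ : q₂.under R = q.under R := by
      rw [← hqq']
      ext r
      simp only [Ideal.under, Ideal.mem_comap, q₂]
      rw [AlgHom.commutes]
    obtain ⟨g, hg, ⟨ψ⟩⟩ := h₂ q hq hqp q₂ hq₂
    exact ⟨_, hg, exists_algHom_away_tensor_right g ψ⟩

/-- A standard étale principal open is dominated by a finite free algebra. -/
theorem exists_dominates_of_isStandardEtale (f : S)
    [Algebra.IsStandardEtale R (Localization.Away f)] :
    ∃ (S' : Type u) (_ : CommRing S') (_ : Algebra R S'),
      Module.Finite R S' ∧ Module.Free R S' ∧ (Nontrivial R → Nontrivial S') ∧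
        Dominates R S {q | f ∉ q} S' := by
  obtain ⟨pr⟩ := Algebra.IsStandardEtale.nonempty_standardEtalePresentation (R := R)
    (S := Localization.Away f)
  obtain ⟨S', _, _, hfin, hfree, hnt, H⟩ := exists_finite_free_dominating R (Localization.Away f) pr
  refine ⟨S', inferInstance, inferInstance, hfin, hfree, hnt, ?_⟩
  intro q hfq hqp q' _ hqq'
  have hdisj : Disjoint (Submonoid.powers f : Set S) (q : Set S) := by
    rw [Set.disjoint_left]
    rintro x ⟨k, rfl⟩ hx
    exact hfq (hqp.mem_of_pow_mem k hx)
  let qf : Ideal (Localization.Away f) := q.map (algebraMap S _)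
  haveI : qf.IsPrime :=
    IsLocalization.isPrime_of_isPrime_disjoint (Submonoid.powers f) _ q hqp hdisj
  have hqfcomap : qf.comap (algebraMap S _) = q :=
    IsLocalization.comap_map_of_isPrime_disjoint (Submonoid.powers f) _ hqp hdisj
  have hunder : q'.under R = qf.under R := by
    rw [hqq', Ideal.under, Ideal.under, IsScalarTower.algebraMap_eq R S (Localization.Away f),
      ← Ideal.comap_comap, hqfcomap]
  obtain ⟨g', hg', φ, -⟩ := H qf q' hunder
  exact ⟨g', hg', ⟨φ.comp (IsScalarTower.toAlgHom R S (Localization.Away f))⟩⟩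

/-- Finitely many standard étale principal opens are dominated by one finite free algebra. -/
theorem exists_dominates_finset (s : Finset S)
    (hs : ∀ f ∈ s, Algebra.IsStandardEtale R (Localization.Away f)) :
    ∃ (S' : Type u) (_ : CommRing S') (_ : Algebra R S'),
      Module.Finite R S' ∧ Module.Free R S' ∧ (Nontrivial R → Nontrivial S') ∧
        Dominates R S {q | ∃ f ∈ s, f ∉ q} S' := by
  classical
  induction s using Finset.induction_on with
  | empty =>
    refine ⟨R, inferInstance, inferInstance, inferInstance, inferInstance, id, ?_⟩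
    rintro q ⟨f, hf, -⟩
    simp at hf
  | insert f s hfs ih =>
    obtain ⟨A, _, _, hfinA, hfreeA, hntA, hA⟩ := ih (fun g hg => hs g (Finset.mem_insert_of_mem hg))
    haveI := hs f (Finset.mem_insert_self f s)
    obtain ⟨B, _, _, hfinB, hfreeB, hntB, hB⟩ := exists_dominates_of_isStandardEtale (R := R) f
    refine ⟨A ⊗[R] B, inferInstance, inferInstance, inferInstance, inferInstance, fun hR => ?_, ?_⟩
    · haveI := hntA hR
      haveI := hntB hR
      exact (Module.FaithfullyFlat.nontrivial_tensorProduct_iff_left R A (N := B)).mpr inferInstance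
    · have := hA.tensor hB
      intro q hq
      apply this q
      obtain ⟨g, hg, hgq⟩ := hq
      rcases Finset.mem_insert.mp hg with rfl | hg
      · exact Or.inr hgq
      · exact Or.inl ⟨g, hg, hgq⟩

end Groth.Agent.Lib.Helper8
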