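import Mathlib

/-!
# A finite morphism whose generic residue extension is purely inseparable and whose self-product has
only dominating components is universally injective

Used for EGA III 4.3.7.
-/

set_option autoImplicit false
universe u
open CategoryTheory CategoryTheory.Limits AlgebraicGeometry

namespace Groth.Agent.Lib.Helper8.SteinRadA

/-- `Spec` of a purely inseparable field extension is universally injective. -/
theorem universallyInjective_SpecMap {K K' : Type u} [Field K] [Field K'] (φ : K →+* K')
    (hφ : φ.IsPurelyInseparable) :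
    UniversallyInjective (Spec.map (CommRingCat.ofHom φ)) := by
  have h := (tfae_universallyInjective (Spec.map (CommRingCat.ofHom φ))).out 0 1
  rw [h]
  intro L _ g₁ g₂ hg
  dsimp only at hg
  rw [← Spec.map_preimage g₁, ← Spec.map_preimage g₂, ← Spec.map_comp, ← Spec.map_comp] at hg
  have h2 := Spec.map_injective hg
  algebraize [φ]
  have hinj := IsPurelyInseparable.injective_comp_algebraMap K K' L
  have h3 : (Spec.preimage g₁).hom = (Spec.preimage g₂).hom := hinj (by
    show (Spec.preimage g₁).hom.comp (algebraMap K K') = (Spec.preimage g₂).hom.comp (algebraMap K K')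
    have := congrArg CommRingCat.Hom.hom h2
    simpa [RingHom.algebraMap_toAlgebra] using this)
  rw [← Spec.map_preimage g₁, ← Spec.map_preimage g₂]
  congr 1
  exact CommRingCat.hom_ext h3

/-- Two points of `T ×[Y] T` with both projections equal to a point `t` whose residue field is
purely inseparable over that of its image coincide. -/
theorem eq_of_fst_snd_eq {T Y : Scheme.{u}} (h : T ⟶ Y) (t : T)
    (hφ : (h.residueFieldMap t).hom.IsPurelyInseparable)
    (w δ : ↥(pullback h h))
    (hw1 : pullback.fst h h w = t) (hw2 : pullback.snd h h w = t)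
    (hd1 : pullback.fst h h δ = t) (hd2 : pullback.snd h h δ = t) : w = δ := by
  have hψ : T.fromSpecResidueField t ≫ h =
      Spec.map (h.residueFieldMap t) ≫ Y.fromSpecResidueField (h t) :=
    (Scheme.Hom.SpecMap_residueFieldMap_fromSpecResidueField h t).symm
  have h1 : UniversallyInjective (Spec.map (h.residueFieldMap t)) :=
    universallyInjective_SpecMap (h.residueFieldMap t).hom hφ
  have : UniversallyInjective (T.fromSpecResidueField t ≫ h) := by
    rw [hψ]
    exact MorphismProperty.comp_mem @UniversallyInjective _ _ h1 inferInstance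
  obtain ⟨ψ, hψdef⟩ : ∃ ψ : Spec (T.residueField t) ⟶ Y, ψ = T.fromSpecResidueField t ≫ h :=
    ⟨_, rfl⟩
  have : UniversallyInjective ψ := by rw [hψdef]; infer_instance
  have hsurj : Surjective (pullback.diagonal ψ) :=
    (UniversallyInjective.iff_diagonal ψ).mp inferInstance
  have : Subsingleton ↥(Spec (T.residueField t)) :=
    inferInstanceAs (Subsingleton (PrimeSpectrum (T.residueField t)))
  have hsub : Subsingleton ↥(pullback ψ ψ) := by
    refine ⟨fun a b => ?_⟩
    obtain ⟨a', rfl⟩ := hsurj.surj a
    obtain ⟨b', rfl⟩ := hsurj.surj b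
    rw [Subsingleton.elim a' b']
  have e₁ : ψ ≫ 𝟙 Y = T.fromSpecResidueField t ≫ h := by rw [hψdef, Category.comp_id]
  have hrange := Scheme.Pullback.range_map ψ ψ h h (T.fromSpecResidueField t)
    (T.fromSpecResidueField t) (𝟙 Y) e₁ e₁
  have hmem : ∀ z : ↥(pullback h h), pullback.fst h h z = t → pullback.snd h h z = t →
      z ∈ Set.range (pullback.map ψ ψ h h (T.fromSpecResidueField t)
        (T.fromSpecResidueField t) (𝟙 Y) e₁ e₁) := by
    intro z h1 h2
    rw [hrange]
    refine ⟨?_, ?_⟩
    · rw [Set.mem_preimage, Scheme.range_fromSpecResidueField, h1]; rfl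
    · rw [Set.mem_preimage, Scheme.range_fromSpecResidueField, h2]; rfl
  obtain ⟨a, rfl⟩ := hmem w hw1 hw2
  obtain ⟨b, rfl⟩ := hmem δ hd1 hd2
  rw [Subsingleton.elim a b]

/-- If `X ⟶ T` is surjective and every irreducible component of `X ×[Y] T` dominates `T`, then so
does every irreducible component of `T ×[Y] T`. -/
theorem dense_snd_image_of_surjective {X T Y : Scheme.{u}} (f : X ⟶ Y) (f' : X ⟶ T) (h : T ⟶ Y)
    (hf : f' ≫ h = f) [Surjective f']
    (H : ∀ Z ∈ irreducibleComponents ↥(pullback f h), Dense ((pullback.snd f h) '' Z)) :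
    ∀ W ∈ irreducibleComponents ↥(pullback h h), Dense ((pullback.snd h h) '' W) := by
  intro W hW
  have e₁ : f ≫ 𝟙 Y = f' ≫ h := by rw [hf, Category.comp_id]
  have e₂ : h ≫ 𝟙 Y = 𝟙 T ≫ h := by rw [Category.comp_id, Category.id_comp]
  obtain ⟨q, hqdef⟩ : ∃ q : pullback f h ⟶ pullback h h,
      q = pullback.map f h h h f' (𝟙 T) (𝟙 Y) e₁ e₂ := ⟨_, rfl⟩
  have hq2 : q ≫ pullback.snd h h = pullback.snd f h := by
    rw [hqdef, pullback.lift_snd, Category.comp_id]
  have hqsurj : Function.Surjective q := by
    rw [← Set.range_eq_univ, hqdef, Scheme.Pullback.range_map f h h h f' (𝟙 T) (𝟙 Y) e₁ e₂]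
    have h1 : Set.range f' = Set.univ := Set.range_eq_univ.mpr f'.surjective
    have h2 : Set.range (𝟙 T : T ⟶ T) = Set.univ := Set.range_eq_univ.mpr (fun x => ⟨x, rfl⟩)
    rw [h1, h2]
    simp
  have hWirr : IsIrreducible W := hW.1
  have hWcl : IsClosed W := isClosed_of_mem_irreducibleComponents W hW
  obtain ⟨w, hw⟩ := QuasiSober.sober hWirr hWcl
  obtain ⟨z, rfl⟩ := hqsurj w
  have hZ : irreducibleComponent z ∈ irreducibleComponents ↥(pullback f h) :=
    irreducibleComponent_mem_irreducibleComponents z
  have hqZ : q '' (irreducibleComponent z) ⊆ W := by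
    have hirr : IsIrreducible (closure (q '' (irreducibleComponent z))) :=
      (isIrreducible_irreducibleComponent.image q q.continuous.continuousOn).closure
    have hle : W ≤ closure (q '' (irreducibleComponent z)) := by
      rw [← hw.def]
      exact closure_minimal (Set.singleton_subset_iff.mpr
        (subset_closure ⟨z, mem_irreducibleComponent, rfl⟩)) isClosed_closure
    exact subset_closure.trans (hW.2 hirr hle)
  refine (H _ hZ).mono ?_
  rintro _ ⟨a, ha, rfl⟩
  refine ⟨q a, hqZ ⟨a, ha, rfl⟩, ?_⟩
  rw [← hq2]
  rfl

/-- The main criterion. -/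
theorem universallyInjective_of_dense {T Y : Scheme.{u}} [IsIntegral T] (h : T ⟶ Y) [IsFinite h]
    (hcomp : ∀ W ∈ irreducibleComponents ↥(pullback h h), Dense ((pullback.snd h h) '' W))
    (hφ : (h.residueFieldMap (genericPoint T)).hom.IsPurelyInseparable) :
    UniversallyInjective h := by
  rw [UniversallyInjective.iff_diagonal]
  have hδ1 : pullback.fst h h (pullback.diagonal h (genericPoint T)) = genericPoint T := by
    rw [← Scheme.Hom.comp_apply, pullback.diagonal_fst]; rfl
  have hδ2 : pullback.snd h h (pullback.diagonal h (genericPoint T)) = genericPoint T := by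
    rw [← Scheme.Hom.comp_apply, pullback.diagonal_snd]; rfl
  have hclosed : IsClosed (Set.range (pullback.diagonal h)) :=
    (pullback.diagonal h).isClosedEmbedding.isClosed_range
  refine ⟨fun z => ?_⟩
  have hWmem : irreducibleComponent z ∈ irreducibleComponents ↥(pullback h h) :=
    irreducibleComponent_mem_irreducibleComponents z
  have hWirr : IsIrreducible (irreducibleComponent z) := isIrreducible_irreducibleComponent
  have hWcl : IsClosed (irreducibleComponent z) := isClosed_irreducibleComponent
  obtain ⟨w, hwgen⟩ := QuasiSober.sober hWirr hWcl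
  have h2 : pullback.snd h h w = genericPoint T := by
    have hd := hcomp _ hWmem
    have hsub : (pullback.snd h h) '' (irreducibleComponent z) ⊆
        closure {pullback.snd h h w} := by
      rw [← hwgen.def]
      refine (image_closure_subset_closure_image (pullback.snd h h).continuous).trans ?_
      rw [Set.image_singleton]
    have hcl : closure ({pullback.snd h h w} : Set T) = Set.univ := by
      rw [← Set.univ_subset_iff, ← hd.closure_eq]
      exact closure_minimal hsub isClosed_closure
    exact IsGenericPoint.eq (isGenericPoint_def.mpr hcl) (genericPoint_spec T)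
  have h1 : pullback.fst h h w = genericPoint T := by
    have hc : h (pullback.fst h h w) = h (genericPoint T) := by
      rw [← h2, ← Scheme.Hom.comp_apply, ← Scheme.Hom.comp_apply, pullback.condition]
    have hdisc := h.isDiscrete_preimage_singleton (h (genericPoint T))
    exact (hdisc.eq_of_specializes (genericPoint_specializes (pullback.fst h h w)) rfl hc).symm
  have hwδ : w = pullback.diagonal h (genericPoint T) :=
    eq_of_fst_snd_eq h (genericPoint T) hφ w _ h1 h2 hδ1 hδ2
  have hz : z ∈ closure ({w} : Set ↥(pullback h h)) := by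
    rw [hwgen.def]; exact mem_irreducibleComponent
  rw [hwδ] at hz
  exact closure_minimal (Set.singleton_subset_iff.mpr (Set.mem_range_self _)) hclosed hz

/-- Composition of a geometrically connected morphism with a universally injective surjective
morphism is geometrically connected. -/
theorem geometricallyConnected_comp {X T Y : Scheme.{u}} (f' : X ⟶ T) (h : T ⟶ Y)
    [GeometricallyConnected f'] [UniversallyInjective h] [Surjective h] :
    GeometricallyConnected (f' ≫ h) := by
  refine ⟨geometrically_iff_of_isClosedUnderIsomorphisms.mpr fun K _ x ↦ ?_⟩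
  rw [← (pullbackRightPullbackFstIso h x f').hom.homeomorph.connectedSpace_iff]
  have : Subsingleton ↥(Spec (CommRingCat.of K)) :=
    inferInstanceAs (Subsingleton (PrimeSpectrum K))
  have : UniversallyInjective (pullback.snd h x) :=
    MorphismProperty.of_isPullback (P := @UniversallyInjective) (IsPullback.of_hasPullback h x)
      inferInstance
  have : Subsingleton ↥(pullback h x) := (pullback.snd h x).injective.subsingleton
  have : Nonempty ↥(pullback h x) := by
    obtain ⟨a, -⟩ := (pullback.snd h x).surjective (IsLocalRing.closedPoint K)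
    exact ⟨a⟩
  exact GeometricallyConnected.connectedSpace_of_subsingleton
    (pullback.snd f' (pullback.fst h x))

end Groth.Agent.Lib.Helper8.SteinRadA
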