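import Mathlib
import Groth.Prelude.Def_ega3
import Groth.Agent.Lib.Helper13.SteinCount
import Groth.Agent.Lib.Helper8.SteinRadA

/-!
# EGA III 4.3.7: geometrically connected fibres for universally open proper dominant morphisms
whose function field extension has purely inseparable algebraic closure
-/

set_option autoImplicit false
set_option maxHeartbeats 400000
universe u

namespace Groth.Agent.Lib.Helper8.SteinRadB

open CategoryTheory Limits AlgebraicGeometry TopologicalSpace
open Groth.Agent.Lib.Helper13

/-- Abstract algebra: elements of a fraction field whose images are radicial. -/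
theorem exists_pow_eq_of_fraction {K L M B : Type*} [Field K] [Field L] [Field M] [CommRing B]
    [Algebra B L] [IsFractionRing B L]
    (α : K →+* L) (β : L →+* M) (ι : K →+* M) (hι : ∀ c, ι c = β (α c))
    (hint : ∀ b : B, ι.IsIntegralElem (β (algebraMap B L b)))
    (p : ℕ)
    (hrad : ∀ x : M, (∃ q : Polynomial K, q ≠ 0 ∧ Polynomial.eval₂ ι x q = 0) →
      ∃ e : ℕ, x ^ (p ^ e) ∈ Set.range ι)
    (s : L) : ∃ e : ℕ, ∃ c : K, s ^ (p ^ e) = α c := by
  letI := ι.toAlgebra
  have halg : ∀ b : B, IsAlgebraic K (β (algebraMap B L b)) := fun b =>
    (show IsIntegral K _ from hint b).isAlgebraic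
  obtain ⟨b1, b2, hb2, rfl⟩ := IsFractionRing.div_surjective (A := B) s
  have h1 : IsAlgebraic K (β (algebraMap B L b1 / algebraMap B L b2)) := by
    rw [map_div₀, div_eq_mul_inv]
    exact (halg b1).mul (halg b2).inv
  obtain ⟨q, hq0, hq⟩ := h1
  obtain ⟨e, c, hc⟩ := hrad _ ⟨q, hq0, by rwa [Polynomial.aeval_def] at hq⟩
  refine ⟨e, c, β.injective ?_⟩
  rw [map_pow, ← hι, hc]

/-- Generalisation of `ZariskiConn.main2431` with a pointwise hypothesis. -/
theorem geometricallyConnected_of_local {X Y : Scheme.{u}} (f : X ⟶ Y) [IsProper f]
    [IsLocallyNoetherian Y]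
    (hf : ∀ y : Y, ∃ V : Y.Opens, IsAffineOpen V ∧ y ∈ V ∧ IsIso (f.app V)) :
    GeometricallyConnected f := by
  rw [GeometricallyConnected.iff_geometricallyConnected_fiber]
  intro s
  rw [Groth.Agent.S1355.result f s]
  intro U g u hg hgu
  have : Etale g := hg
  have : IsLocallyNoetherian U := LocallyOfFiniteType.isLocallyNoetherian g
  obtain ⟨V, hV, hyV, hiso⟩ := hf (g u)
  obtain ⟨_, ⟨V', hV', rfl⟩, huV', hV'V⟩ := U.isBasis_affineOpens.exists_subset_of_mem_open
    (show u ∈ ((g ⁻¹ᵁ V : U.Opens) : Set U) from hyV) (g ⁻¹ᵁ V).2
  have hiso' : IsIso ((pullback.snd f g).app V') :=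
    ZariskiConn.isIso_app_of_flat_baseChange (IsPullback.of_hasPullback f g) hV hV' hV'V hiso
  exact ZariskiConn.connectedSpace_fiber (pullback.snd f g) u hV' huV' hiso'

section

variable {X Y : Scheme.{u}} [IsIntegral X] [IsIntegral Y] (f : X ⟶ Y) [QuasiCompact f]
  [QuasiSeparated f]

theorem fromNormalization_toNormalization_apply (x : X) :
    f.fromNormalization (f.toNormalization x) = f x := by
  have := congrArg (fun ψ : X ⟶ Y => ψ x) f.toNormalization_fromNormalization
  exact this

theorem fromNormalization_genericPoint_specializes
    (hdom : f.base (genericPoint X) ⤳ genericPoint Y) :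
    f.fromNormalization.base (genericPoint f.normalization) ⤳ genericPoint Y := by
  have h1 : genericPoint f.normalization ⤳ f.toNormalization (genericPoint X) :=
    genericPoint_specializes _
  have h2 := h1.map f.fromNormalization.continuous
  rw [fromNormalization_toNormalization_apply] at h2
  exact h2.trans hdom

/-- The residue field extension of `Y' ⟶ Y` at the generic point is purely inseparable. -/
theorem isPurelyInseparable_residueFieldMap
    (hdom : f.base (genericPoint X) ⤳ genericPoint Y)
    (hrad : ∀ x : X.functionField,
      (∃ q : Polynomial Y.functionField, q ≠ 0 ∧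
        Polynomial.eval₂ (CohIII.stalkToFunctionField f (genericPoint Y) hdom) x q = 0) →
      ∃ e : ℕ, x ^ (ringExpChar X.functionField ^ e) ∈
        Set.range (CohIII.stalkToFunctionField f (genericPoint Y) hdom)) :
    (f.fromNormalization.residueFieldMap (genericPoint f.normalization)).hom.IsPurelyInseparable := by
  classical
  have hs : f.fromNormalization.base (genericPoint f.normalization) ⤳ genericPoint Y :=
    fromNormalization_genericPoint_specializes f hdom
  have hsp : f.toNormalization.base (genericPoint X) ⤳ genericPoint f.normalization :=
    SteinCount.toNormalization_genericPoint_specializes f _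
  -- compatibility
  have hcompat : ∀ c : Y.functionField, CohIII.stalkToFunctionField f (genericPoint Y) hdom c =
      CohIII.stalkToFunctionField f.toNormalization (genericPoint f.normalization) hsp
        (CohIII.stalkToFunctionField f.fromNormalization (genericPoint Y) hs c) := by
    intro c
    obtain ⟨W, hyW, r, rfl⟩ := TopCat.Presheaf.exists_germ_eq Y.presheaf c
    have e1 := SteinCount.germ_app f (genericPoint Y) hdom W hyW r
    have e2 := SteinCount.germ_app f.fromNormalization (genericPoint Y) hs W hyW r
    have e3 := SteinCount.germ_app f.toNormalization (genericPoint f.normalization) hsp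
      (f.fromNormalization ⁻¹ᵁ W)
      (SteinCount.genericPoint_mem_preimage f.fromNormalization _ hs W hyW)
      (f.fromNormalization.app W r)
    have e4 := SteinCount.germ_toNormalization_fromNormalization f W
      (SteinCount.genericPoint_mem_preimage f.toNormalization _ hsp _
        (SteinCount.genericPoint_mem_preimage f.fromNormalization _ hs W hyW))
      (SteinCount.genericPoint_mem_preimage f _ hdom W hyW) r
    rw [← e1, ← e2, ← e3]
    exact e4.symm
  -- an affine open around the generic point of `Y`
  obtain ⟨_, ⟨V, hV, rfl⟩, hyV, -⟩ := Y.isBasis_affineOpens.exists_subset_of_mem_open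
    (Set.mem_univ (genericPoint Y)) isOpen_univ
  have hηV : genericPoint f.normalization ∈ f.fromNormalization ⁻¹ᵁ V :=
    SteinCount.genericPoint_mem_preimage f.fromNormalization _ hs V hyV
  obtain ⟨V', hV'def⟩ : ∃ V' : f.normalization.Opens, V' = f.fromNormalization ⁻¹ᵁ V := ⟨_, rfl⟩
  rw [← hV'def] at hηV
  haveI : Nonempty V' := ⟨⟨_, hηV⟩⟩
  have hV' : IsAffineOpen V' := hV'def ▸ hV.preimage f.fromNormalization
  haveI hfrac : IsFractionRing Γ(f.normalization, V') f.normalization.functionField :=
    functionField_isFractionRing_of_isAffineOpen _ V' hV'
  have hgen : genericPoint X ∈ f.toNormalization ⁻¹ᵁ V' :=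
    SteinCount.genericPoint_mem_preimage f.toNormalization _ hsp _ hηV
  have hint : ∀ b : Γ(f.normalization, V'),
      (CohIII.stalkToFunctionField f (genericPoint Y) hdom).IsIntegralElem
        (CohIII.stalkToFunctionField f.toNormalization (genericPoint f.normalization) hsp
          (algebraMap _ f.normalization.functionField b)) := by
    intro b
    subst hV'def
    have h1 := SteinCount.germ_mem_integralClosureStalk f (genericPoint Y) hdom V hV hyV hgen b
    have h2 := SteinCount.germ_app f.toNormalization (genericPoint f.normalization) hsp
      (f.fromNormalization ⁻¹ᵁ V) hηV b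
    have h3 : CohIII.stalkToFunctionField f.toNormalization (genericPoint f.normalization) hsp
        (algebraMap _ f.normalization.functionField b) =
        X.presheaf.germ _ (genericPoint X) hgen (f.toNormalization.app _ b) := h2.symm
    rw [h3]
    exact h1
  have key : ∀ s : f.normalization.functionField, ∃ e : ℕ, ∃ c : Y.functionField,
      s ^ (ringExpChar X.functionField ^ e) =
        CohIII.stalkToFunctionField f.fromNormalization (genericPoint Y) hs c :=
    exists_pow_eq_of_fraction (B := Γ(f.normalization, V'))
      (CohIII.stalkToFunctionField f.fromNormalization (genericPoint Y) hs)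
      (CohIII.stalkToFunctionField f.toNormalization (genericPoint f.normalization) hsp)
      (CohIII.stalkToFunctionField f (genericPoint Y) hdom) hcompat hint _ hrad
  -- exponential characteristics
  haveI hpX : ExpChar X.functionField (ringExpChar X.functionField) := ringExpChar.expChar _
  haveI hpT : ExpChar f.normalization.functionField (ringExpChar X.functionField) :=
    RingHom.expChar
      (CohIII.stalkToFunctionField f.toNormalization (genericPoint f.normalization) hsp)
      (RingHom.injective _) _
  have hresinj : Function.Injective (f.normalization.residue (genericPoint f.normalization)).hom :=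
    RingHom.injective _
  haveI hpκ : ExpChar (f.normalization.residueField (genericPoint f.normalization))
      (ringExpChar X.functionField) :=
    (RingHom.expChar_iff _ hresinj _).mp hpT
  haveI hpF : ExpChar (Y.residueField (f.fromNormalization (genericPoint f.normalization)))
      (ringExpChar X.functionField) :=
    RingHom.expChar (f.fromNormalization.residueFieldMap (genericPoint f.normalization)).hom
      (RingHom.injective _) _
  rw [RingHom.IsPurelyInseparable]
  letI := (f.fromNormalization.residueFieldMap (genericPoint f.normalization)).hom.toAlgebra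
  rw [isPurelyInseparable_iff_pow_mem _ (ringExpChar X.functionField)]
  intro a
  obtain ⟨s, rfl⟩ := f.normalization.residue_surjective (genericPoint f.normalization) a
  obtain ⟨e, c, hc⟩ := key s
  refine ⟨e, Y.residue _ ((Y.presheaf.stalkSpecializes hs) c), ?_⟩
  have h5 := ConcreteCategory.congr_hom
    (Scheme.residue_residueFieldMap f.fromNormalization (genericPoint f.normalization))
    ((Y.presheaf.stalkSpecializes hs) c)
  rw [← map_pow, hc]
  exact h5

end

/-- **EGA III 4.3.7.** -/
theorem main {X Y : Scheme.{u}}
    [IsIntegral X] [IsIntegral Y] [IsLocallyNoetherian X] [IsLocallyNoetherian Y] (f : X ⟶ Y)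
    [IsProper f]
    (hdom : f.base (genericPoint X) ⤳ genericPoint Y)
    (hopen : ∀ (Y' : Scheme.{u}) (g : Y' ⟶ Y), IrreducibleSpace ↥Y' → IsLocallyNoetherian Y' →
      IsDominant g → ∀ Z ∈ irreducibleComponents ↥(pullback f g),
        Dense ((pullback.snd f g).base '' Z))
    (hrad : ∀ x : X.functionField,
      (∃ q : Polynomial Y.functionField, q ≠ 0 ∧
        Polynomial.eval₂ (CohIII.stalkToFunctionField f (genericPoint Y) hdom) x q = 0) →
      ∃ e : ℕ, x ^ (ringExpChar X.functionField ^ e) ∈
        Set.range (CohIII.stalkToFunctionField f (genericPoint Y) hdom))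
    (y : Y) : GeometricallyConnected (f.fiberToSpecResidueField y) := by
  haveI hfin := SteinFibre.isFinite_fromNormalization f
  haveI hln := SteinFibre.isLocallyNoetherian_normalization f
  haveI hgc' : GeometricallyConnected f.toNormalization :=
    geometricallyConnected_of_local _ (fun t => by
      obtain ⟨_, ⟨U, hU, rfl⟩, hyU, -⟩ := Y.isBasis_affineOpens.exists_subset_of_mem_open
        (Set.mem_univ (f.fromNormalization t)) isOpen_univ
      exact ⟨f.fromNormalization ⁻¹ᵁ U, hU.preimage f.fromNormalization, hyU,
        SteinFibre.isIso_toNormalization_app f hU⟩)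
  haveI hsurj' : Surjective f.toNormalization := inferInstance
  haveI hsurj : Surjective f.fromNormalization := by
    refine ⟨fun y => ?_⟩
    have hcl : IsClosed (Set.range f.fromNormalization) :=
      f.fromNormalization.isClosedMap.isClosed_range
    have h1 : f.base (genericPoint X) ∈ Set.range f.fromNormalization :=
      ⟨f.toNormalization (genericPoint X), fromNormalization_toNormalization_apply f _⟩
    have h2 : genericPoint Y ∈ Set.range f.fromNormalization := hdom.mem_closed hcl h1
    exact (genericPoint_specializes y).mem_closed hcl h2
  haveI hui : UniversallyInjective f.fromNormalization := by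
    apply SteinRadA.universallyInjective_of_dense
    · apply SteinRadA.dense_snd_image_of_surjective f f.toNormalization f.fromNormalization
        f.toNormalization_fromNormalization
      exact hopen f.normalization f.fromNormalization inferInstance hln inferInstance
    · exact isPurelyInseparable_residueFieldMap f hdom hrad
  haveI : GeometricallyConnected (f.toNormalization ≫ f.fromNormalization) :=
    SteinRadA.geometricallyConnected_comp _ _
  haveI : GeometricallyConnected f := by
    rw [← f.toNormalization_fromNormalization]; infer_instance
  infer_instance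

end Groth.Agent.Lib.Helper8.SteinRadB
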