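import Mathlib
import Groth.Prelude.Def_Flat

/-!
# The finite part of the Stein factorization of a proper morphism with geometrically connected
fibres is a universal homeomorphism
-/

set_option autoImplicit false
universe u
open CategoryTheory CategoryTheory.Limits AlgebraicGeometry

namespace Groth.Agent.Lib.Helper8.SteinUH

/-- A connected spectrum of an integral algebra over a field is a single point. -/
theorem subsingleton_primeSpectrum_of_isIntegral_of_preconnected {K B : Type*} [Field K]
    [CommRing B] [Algebra K B] [Algebra.IsIntegral K B] [PreconnectedSpace (PrimeSpectrum B)] :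
    Subsingleton (PrimeSpectrum B) := by
  have hmax : ∀ p : PrimeSpectrum B, p.asIdeal.IsMaximal := by
    intro p
    have hp : (p.asIdeal.comap (algebraMap K B)).IsPrime := inferInstance
    have : (p.asIdeal.comap (algebraMap K B)).IsMaximal := by
      rw [(Ideal.eq_bot_or_top _).resolve_right hp.ne_top]
      exact Ideal.bot_isMaximal
    exact Ideal.isMaximal_of_isIntegral_of_isMaximal_comap p.asIdeal this
  refine ⟨fun p₁ p₂ => ?_⟩
  by_contra hne
  have hnle : ¬ p₁.asIdeal ≤ p₂.asIdeal := by
    intro hle
    exact hne (PrimeSpectrum.ext ((hmax p₁).eq_of_le (hmax p₂).ne_top hle))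
  obtain ⟨b, hb₁, hb₂⟩ := SetLike.not_le_iff_exists.mp hnle
  haveI : Module.Finite K (Algebra.adjoin K {b}) :=
    Module.Finite.iff_fg.mpr (Algebra.IsIntegral.isIntegral (R := K) b).fg_adjoin_singleton
  haveI : IsArtinianRing (Algebra.adjoin K {b}) := IsArtinianRing.of_finite K _
  have hint : (algebraMap (Algebra.adjoin K {b}) B).IsIntegral := fun x =>
    (Algebra.IsIntegral.isIntegral (R := K) x).tower_top
  have hsurj : Function.Surjective (PrimeSpectrum.comap (algebraMap (Algebra.adjoin K {b}) B)) :=
    hint.comap_surjective Subtype.val_injective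
  haveI : PreconnectedSpace (PrimeSpectrum (Algebra.adjoin K {b})) := by
    constructor
    rw [← hsurj.range_eq, ← Set.image_univ]
    exact isPreconnected_univ.image _ (PrimeSpectrum.continuous_comap _).continuousOn
  haveI : Subsingleton (PrimeSpectrum (Algebra.adjoin K {b})) :=
    PreconnectedSpace.trivial_of_discrete
  have heq := Subsingleton.elim (PrimeSpectrum.comap (algebraMap (Algebra.adjoin K {b}) B) p₁)
    (PrimeSpectrum.comap (algebraMap (Algebra.adjoin K {b}) B) p₂)
  have hb' : (⟨b, Algebra.subset_adjoin (Set.mem_singleton b)⟩ : Algebra.adjoin K {b}) ∈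
      (PrimeSpectrum.comap (algebraMap (Algebra.adjoin K {b}) B) p₁).asIdeal := hb₁
  rw [heq] at hb'
  exact hb₂ hb'

/-- The geometric fibres of `S' ⟶ S` are single points. -/
theorem fibre_unique {X S : Scheme.{u}} (f : X ⟶ S) [IsProper f] [GeometricallyConnected f]
    {K : Type u} [Field K] (s : Spec (.of K) ⟶ S) :
    Nonempty ↥(pullback f.fromNormalization s) ∧
      Subsingleton ↥(pullback f.fromNormalization s) := by
  haveI hgc : GeometricallyConnected (f.toNormalization ≫ f.fromNormalization) := by
    rw [Scheme.Hom.toNormalization_fromNormalization]; infer_instance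
  haveI : ConnectedSpace ↥(pullback (f.toNormalization ≫ f.fromNormalization) s) :=
    GeometricallyConnected.geometrically_connectedSpace s _ _ (.of_hasPullback _ _)
  let e := pullbackRightPullbackFstIso f.fromNormalization s f.toNormalization
  haveI : ConnectedSpace ↥(pullback f.toNormalization (pullback.fst f.fromNormalization s)) :=
    e.inv.homeomorph.surjective.connectedSpace e.inv.homeomorph.continuous
  haveI : Surjective f.toNormalization := inferInstance
  haveI : ConnectedSpace ↥(pullback f.fromNormalization s) :=
    (pullback.snd f.toNormalization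
      (pullback.fst f.fromNormalization s)).surjective.connectedSpace
      (pullback.snd f.toNormalization (pullback.fst f.fromNormalization s)).continuous
  haveI : IsAffine (pullback f.fromNormalization s) :=
    isAffine_of_isAffineHom (pullback.snd f.fromNormalization s)
  let φ : K →+* Γ(pullback f.fromNormalization s, ⊤) :=
    ((Scheme.ΓSpecIso (.of K)).inv ≫ (pullback.snd f.fromNormalization s).appTop).hom
  have hφ : φ.IsIntegral := by
    have h1 : ((pullback.snd f.fromNormalization s).app ⊤).hom.IsIntegral :=
      (pullback.snd f.fromNormalization s).isIntegral_app ⊤ (isAffineOpen_top _)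
    exact RingHom.IsIntegral.trans _ _ (RingHom.isIntegral_of_surjective _
      (ConcreteCategory.bijective_of_isIso (Scheme.ΓSpecIso (.of K)).inv).2) h1
  letI := φ.toAlgebra
  haveI : Algebra.IsIntegral K Γ(pullback f.fromNormalization s, ⊤) := ⟨hφ⟩
  let h := (pullback f.fromNormalization s).isoSpec.hom.homeomorph
  haveI : ConnectedSpace (PrimeSpectrum Γ(pullback f.fromNormalization s, ⊤)) :=
    h.surjective.connectedSpace h.continuous
  have hsub : Subsingleton ↥(Spec Γ(pullback f.fromNormalization s, ⊤)) :=
    subsingleton_primeSpectrum_of_isIntegral_of_preconnected (K := K)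
      (B := Γ(pullback f.fromNormalization s, ⊤))
  exact ⟨inferInstance, h.injective.subsingleton⟩

theorem isUnivHomeo {X S : Scheme.{u}} (f : X ⟶ S) [IsProper f] [GeometricallyConnected f] :
    FlatMor.IsUnivHomeo f.fromNormalization := by
  intro P' T i₁ i₂ f' sq
  have : IsIntegralHom f' :=
    MorphismProperty.of_isPullback (P := @IsIntegralHom) sq.flip inferInstance
  show IsHomeomorph f'
  rw [isHomeomorph_iff_continuous_isClosedMap_bijective]
  refine ⟨f'.continuous, f'.isClosedMap, ?_⟩
  rw [Function.bijective_iff_existsUnique]
  intro t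
  have sq2 : IsPullback (pullback.snd f' (T.fromSpecResidueField t))
      (pullback.fst f' (T.fromSpecResidueField t) ≫ i₁) (T.fromSpecResidueField t ≫ i₂)
      f.fromNormalization :=
    (IsPullback.of_hasPullback f' (T.fromSpecResidueField t)).flip.paste_vert sq
  let e := sq2.flip.isoPullback
  obtain ⟨hne, hss⟩ := fibre_unique f (K := T.residueField t) (T.fromSpecResidueField t ≫ i₂)
  let hm := f'.fiberHomeo t
  have hss' : Subsingleton (f' ⁻¹' {t}) :=
    (e.hom.homeomorph.injective.comp hm.symm.injective).subsingleton
  obtain ⟨z⟩ := hne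
  obtain ⟨p, hp⟩ := hm (e.inv z)
  refine ⟨p, hp, fun p' hp' => ?_⟩
  exact congrArg Subtype.val (Subsingleton.elim (⟨p', hp'⟩ : f' ⁻¹' {t}) ⟨p, hp⟩)

end Groth.Agent.Lib.Helper8.SteinUH
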