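import Mathlib
import Groth.Prelude
import Groth.Agent.Lib.Helper8.SubfieldInterA
import Groth.Agent.Lib.Helper8.EssEtUtil
import Groth.Agent.Lib.Helper8.Hzl.Union
import Groth.Agent.Lib.Helper8.Hzl.Transfer

/-!
# The intersection of a finitely generated subfield with a strict henselization is essentially
étale (henselian excellent base)
-/

set_option autoImplicit false

open IsLocalRing Polynomial

universe u

namespace Groth.Agent.Lib.Helper8.SubfieldInter

open Groth.Agent.Lib.Helper8

theorem main (A S : Type u) [CommRing A] [HenselianLocalRing A] [IsDomain A]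
    (hA : EGA4.IsExcellent A)
    [CommRing S] [IsLocalRing S] [Algebra A S] [IsLocalHom (algebraMap A S)]
    [Hensel.IsStrictHenselization A S] [IsDomain S] (t : Finset (FractionRing S)) :
    ∃ D : Subalgebra A S, (D : Set S) = (algebraMap S (FractionRing S)) ⁻¹'
        (Subfield.closure (Set.range (algebraMap A (FractionRing S)) ∪ (t : Set (FractionRing S))) :
          Set (FractionRing S)) ∧
      ∃ _ : IsLocalRing D, IsLocalHom (algebraMap D S) ∧ EGA4loc.IsEssentiallyEtale A D := by
  classical
  haveI : IsNoetherianRing A := hA.1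
  haveI hHS : HenselianLocalRing S := Hensel.IsStrictHenselization.henselian (R := A)
  haveI : IsSepClosed (ResidueField S) :=
    (Hensel.IsStrictHenselization.isSepClosure (R := A) (S := S)).sep_closed
  haveI : Algebra.IsSeparable (ResidueField A) (ResidueField S) :=
    (Hensel.IsStrictHenselization.isSepClosure (R := A) (S := S)).separable
  haveI : Module.Flat A S := Hzl.strictHenselization_flat A S
  have hinj : Function.Injective (algebraMap S (FractionRing S)) := IsFractionRing.injective S _
  obtain ⟨L, hL⟩ : ∃ L : Subfield (FractionRing S), L = Subfield.closure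
      (Set.range (algebraMap A (FractionRing S)) ∪ (t : Set (FractionRing S))) := ⟨_, rfl⟩
  obtain ⟨D, hD⟩ : ∃ D : Subalgebra A S, ∀ x : S, x ∈ D ↔ algebraMap S (FractionRing S) x ∈ L :=
    ⟨{ carrier := {x | algebraMap S (FractionRing S) x ∈ L}
       mul_mem' := fun {a b} ha hb => by
         show algebraMap S (FractionRing S) (a * b) ∈ L
         rw [map_mul]; exact L.mul_mem ha hb
       one_mem' := by
         show algebraMap S (FractionRing S) 1 ∈ L
         rw [map_one]; exact L.one_mem
       add_mem' := fun {a b} ha hb => by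
         show algebraMap S (FractionRing S) (a + b) ∈ L
         rw [map_add]; exact L.add_mem ha hb
       zero_mem' := by
         show algebraMap S (FractionRing S) 0 ∈ L
         rw [map_zero]; exact L.zero_mem
       algebraMap_mem' := fun a => by
         show algebraMap S (FractionRing S) (algebraMap A S a) ∈ L
         rw [← IsScalarTower.algebraMap_apply A S (FractionRing S), hL]
         exact Subfield.subset_closure (Or.inl ⟨a, rfl⟩) }, fun x => Iff.rfl⟩
  have hval : ∀ x : D, algebraMap D S x = (x : S) := fun x => rfl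
  -- units
  have hunit : ∀ x : D, IsUnit (algebraMap D S x) → IsUnit x := by
    intro x hx
    obtain ⟨u, hu⟩ := hx
    rw [hval] at hu
    have hinv : ((u⁻¹ : Sˣ) : S) ∈ D := by
      rw [hD]
      have h1 : algebraMap S (FractionRing S) ((u⁻¹ : Sˣ) : S) =
          (algebraMap S (FractionRing S) (x : S))⁻¹ := by
        apply eq_inv_of_mul_eq_one_left
        rw [← hu, ← map_mul, Units.inv_mul, map_one]
      rw [h1]
      exact L.inv_mem ((hD _).mp x.2)
    refine isUnit_iff_exists_inv.mpr ⟨⟨_, hinv⟩, Subtype.ext ?_⟩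
    show (x : S) * ((u⁻¹ : Sˣ) : S) = 1
    rw [← hu, Units.mul_inv]
  haveI hDloc : IsLocalRing D := IsLocalRing.of_nonunits_add (by
    intro a b ha hb hab
    have ha' : algebraMap D S a ∈ nonunits S := fun h => ha (hunit a h)
    have hb' : algebraMap D S b ∈ nonunits S := fun h => hb (hunit b h)
    have hab' := hab.map (algebraMap D S)
    rw [map_add] at hab'
    exact IsLocalRing.nonunits_add ha' hb' hab')
  haveI hDS : IsLocalHom (algebraMap D S) := ⟨fun x hx => hunit x hx⟩
  haveI hAD : IsLocalHom (algebraMap A D) := ⟨fun a ha => by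
    have h1 : IsUnit (algebraMap D S (algebraMap A D a)) := ha.map _
    rw [← IsScalarTower.algebraMap_apply A D S] at h1
    exact isUnit_of_map_unit (algebraMap A S) a h1⟩
  -- numerators and denominators
  have hfrac : ∀ y : FractionRing S, ∃ a b : S, b ≠ 0 ∧
      y = algebraMap S (FractionRing S) a / algebraMap S (FractionRing S) b := by
    intro y
    obtain ⟨a, b, hb, rfl⟩ := IsFractionRing.div_surjective (A := S) y
    exact ⟨a, b, nonZeroDivisors.ne_zero hb, rfl⟩
  choose num den hden hnd using hfrac
  obtain ⟨E₀, hsE, hE₀loc, hE₀S, hE₀et⟩ :=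
    Hzl.exists_essEtale_subalgebra A S (t.image num ∪ t.image den)
  haveI := hE₀loc
  haveI := hE₀S
  haveI hAE : IsLocalHom (algebraMap A E₀) := ⟨fun a ha => by
    have h1 : IsUnit (algebraMap E₀ S (algebraMap A E₀ a)) := ha.map _
    rw [← IsScalarTower.algebraMap_apply A E₀ S] at h1
    exact isUnit_of_map_unit (algebraMap A S) a h1⟩
  obtain ⟨hE₀fin, hE₀etale⟩ := finite_etale_of_essEtale A E₀ hE₀et
  haveI := hE₀fin
  haveI := hE₀etale
  haveI : Module.Flat E₀ S := EssEtUtil.flat_of_essEtale A E₀ S hE₀et
  haveI : Module.FaithfullyFlat E₀ S := Module.FaithfullyFlat.of_flat_of_isLocalHom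
  let ψ : E₀ →+* FractionRing S := (algebraMap S (FractionRing S)).comp (algebraMap E₀ S)
  have hψinj : Function.Injective ψ := hinj.comp (fun x y h => Subtype.ext h)
  obtain ⟨LE, hLE⟩ : ∃ LE : Subfield (FractionRing S),
      LE = (IsFractionRing.lift (K := FractionRing E₀) hψinj).fieldRange := ⟨_, rfl⟩
  have hmemLE : ∀ e : E₀, algebraMap S (FractionRing S) (algebraMap E₀ S e) ∈ LE := by
    intro e
    rw [hLE]
    exact RingHom.mem_fieldRange.mpr ⟨algebraMap E₀ (FractionRing E₀) e,
      IsFractionRing.lift_algebraMap hψinj e⟩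
  have hLLE : L ≤ LE := by
    rw [hL, Subfield.closure_le]
    rintro y (⟨a, rfl⟩ | hy)
    · have h1 := hmemLE (algebraMap A E₀ a)
      rw [← IsScalarTower.algebraMap_apply A E₀ S,
        ← IsScalarTower.algebraMap_apply A S (FractionRing S)] at h1
      exact h1
    · have hy' : y ∈ t := Finset.mem_coe.mp hy
      have hn : num y ∈ E₀ := hsE (Finset.mem_coe.mpr
        (Finset.mem_union_left _ (Finset.mem_image_of_mem num hy')))
      have hd : den y ∈ E₀ := hsE (Finset.mem_coe.mpr
        (Finset.mem_union_right _ (Finset.mem_image_of_mem den hy')))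
      have h1 : algebraMap S (FractionRing S) (num y) ∈ LE := hmemLE ⟨num y, hn⟩
      have h2 : algebraMap S (FractionRing S) (den y) ∈ LE := hmemLE ⟨den y, hd⟩
      show y ∈ LE
      rw [hnd y]
      exact LE.div_mem h1 h2
  have hDE : D ≤ E₀ := by
    intro x hx
    have hxL : algebraMap S (FractionRing S) x ∈ LE := hLLE ((hD x).mp hx)
    rw [hLE] at hxL
    obtain ⟨w, hw⟩ := RingHom.mem_fieldRange.mp hxL
    obtain ⟨a, b, hb, rfl⟩ := IsFractionRing.div_surjective (A := E₀) w
    have hb0 : b ≠ 0 := nonZeroDivisors.ne_zero hb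
    rw [map_div₀, IsFractionRing.lift_algebraMap, IsFractionRing.lift_algebraMap] at hw
    have hψb : ψ b ≠ 0 := fun h => hb0 (hψinj (by rw [h, map_zero]))
    have h1 : algebraMap E₀ S b * x = algebraMap E₀ S a := by
      apply hinj
      rw [map_mul]
      have h2 : ψ a = ψ b * algebraMap S (FractionRing S) x := by
        rw [← hw]; field_simp
      exact h2.symm
    obtain ⟨r, hr⟩ := EssEtUtil.exists_eq_of_mul_eq E₀ S a b hb0 x h1
    rw [← hr]; exact r.2
  -- finiteness of `D`
  haveI : IsNoetherian A E₀ := isNoetherian_of_isNoetherianRing_of_finite A E₀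
  haveI : Module.Finite A D :=
    Module.Finite.of_injective (Subalgebra.inclusion hDE).toLinearMap
      (Subalgebra.inclusion_injective hDE)
  -- a generator
  obtain ⟨f, θ₀, hfmonic, hfsep, hfθ₀, hadj⟩ := exists_monogenic A E₀
  have hsplit : (f.map (algebraMap A S)).Splits := by
    apply splits_of_separable_residue S _ (hfmonic.map _)
    have hcomp : (algebraMap S (ResidueField S)).comp (algebraMap A S) =
        (algebraMap (ResidueField A) (ResidueField S)).comp (algebraMap A (ResidueField A)) := by
      ext a; rfl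
    rw [Polynomial.map_map, hcomp, ← Polynomial.map_map]
    exact hfsep.map
  have hθ : aeval (algebraMap E₀ S θ₀) f = 0 := by
    rw [Polynomial.aeval_algebraMap_apply, hfθ₀, map_zero]
  have hmE : (maximalIdeal A).map (algebraMap A E₀) = maximalIdeal E₀ :=
    Algebra.FormallyUnramified.map_maximalIdeal
  have hm : Ideal.map (algebraMap A D) (maximalIdeal A) = maximalIdeal D := by
    apply le_antisymm (IsLocalRing.map_maximalIdeal_le (algebraMap A D))
    intro x hx
    rw [mem_maximalIdeal, mem_nonunits_iff] at hx
    have hxS : ¬ IsUnit (algebraMap D S x) := fun h => hx (hunit x h)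
    have hx' : (⟨(x : S), hDE x.2⟩ : E₀) ∈ maximalIdeal E₀ := by
      rw [mem_maximalIdeal, mem_nonunits_iff]
      intro h
      exact hxS (h.map (algebraMap E₀ S))
    rw [← hmE] at hx'
    obtain ⟨p, hp, hpx⟩ := exists_poly_of_mem_map hadj (maximalIdeal A) _ hx'
    refine mem_map_of_aeval_eq hinj L D hD (algebraMap E₀ S θ₀) f hfmonic hθ hsplit
      (maximalIdeal A) x p hp ?_
    rw [Polynomial.aeval_algebraMap_apply, hpx]
    rfl
  refine ⟨D, ?_, hDloc, hDS, EssEtUtil.essEtale_of_map_maximalIdeal A S D hm⟩
  ext x
  rw [Set.mem_preimage, ← hL]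
  exact hD x

end Groth.Agent.Lib.Helper8.SubfieldInter
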