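import Mathlib
import Groth.Prelude
import Groth.Agent.Lib.Helper8.SubfieldInterA
import Groth.Agent.Lib.Helper8.EssEtUtil
import Groth.Agent.Lib.Helper8.Hzl.Union
import Groth.Agent.Lib.Helper8.Hzl.Transfer
import Groth.Agent.Lib.Helper8.Hzl.Noeth2

/-!
# Finitely generated subfields and quotients of a strict henselization by a prime
-/

set_option autoImplicit false

open IsLocalRing Polynomial

universe u

namespace Groth.Agent.Lib.Helper8.SubfieldInter

open Groth.Agent.Lib.Helper8

/-- Over a strictly henselian local ring (not necessarily a domain), a monic polynomial with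
separable reduction splits. -/
theorem splits_of_separable_residue' (S : Type*) [CommRing S] [HenselianLocalRing S]
    [IsSepClosed (ResidueField S)] :
    ∀ (n : ℕ) (F : S[X]), F.Monic → F.natDegree = n →
      (F.map (algebraMap S (ResidueField S))).Separable → F.Splits := by
  classical
  have hT : ∀ f : S[X], f.Monic → ∀ a₀ : ResidueField S, aeval a₀ f = 0 →
      aeval a₀ (derivative f) ≠ 0 → ∃ a : S, f.IsRoot a ∧ residue S a = a₀ :=
    ((HenselianLocalRing.TFAE S).out 0 1).mp ‹HenselianLocalRing S›
  intro n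
  induction n with
  | zero =>
    intro F hF hdeg _
    rw [hF.natDegree_eq_zero.mp hdeg]
    exact Splits.one
  | succ n ih =>
    intro F hF hdeg hsep
    have hFm : (F.map (algebraMap S (ResidueField S))).Monic := hF.map _
    have hdeg' : (F.map (algebraMap S (ResidueField S))).degree ≠ 0 := by
      rw [degree_eq_natDegree hFm.ne_zero, hF.natDegree_map, hdeg]
      exact_mod_cast Nat.succ_ne_zero n
    obtain ⟨ā, hā⟩ := IsSepClosed.exists_root _ hdeg' hsep
    have h0 : aeval ā (F.map (algebraMap S (ResidueField S))) = 0 := by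
      rw [coe_aeval_eq_eval]; exact hā
    have h1 := hsep.aeval_derivative_ne_zero h0
    rw [derivative_map, aeval_map_algebraMap] at h1
    rw [aeval_map_algebraMap] at h0
    obtain ⟨a, ha, -⟩ := hT F hF ā h0 h1
    have hmul : (X - C a) * (F /ₘ (X - C a)) = F := mul_divByMonic_eq_iff_isRoot.mpr ha
    have hGm : (F /ₘ (X - C a)).Monic := by
      have h2 : ((X - C a) * (F /ₘ (X - C a))).Monic := by rw [hmul]; exact hF
      exact (monic_X_sub_C a).of_mul_monic_left h2
    have hGdeg : (F /ₘ (X - C a)).natDegree = n := by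
      have h2 := (monic_X_sub_C a).natDegree_mul hGm
      rw [hmul, hdeg, natDegree_X_sub_C] at h2
      omega
    have hGsep : ((F /ₘ (X - C a)).map (algebraMap S (ResidueField S))).Separable := by
      have h2 : F.map (algebraMap S (ResidueField S)) =
          ((X - C a).map (algebraMap S (ResidueField S))) *
            ((F /ₘ (X - C a)).map (algebraMap S (ResidueField S))) := by
        rw [← Polynomial.map_mul, hmul]
      rw [h2] at hsep
      exact hsep.of_mul_right
    have hG := ih _ hGm hGdeg hGsep
    rw [← hmul]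
    exact (Splits.X_sub_C a).mul hG

/-- An ideal generated by elements of a subalgebra is extended from its contraction. -/
theorem map_comap_eq_of_span {A S : Type*} [CommRing A] [CommRing S] [Algebra A S]
    (E : Subalgebra A S) (I : Ideal S) (g : Set S) (hI : Ideal.span g = I)
    (hg : g ⊆ (E : Set S)) :
    I = Ideal.map (algebraMap E S) (I.comap (algebraMap E S)) := by
  apply le_antisymm
  · have h1 : Ideal.span g ≤ Ideal.map (algebraMap E S) (I.comap (algebraMap E S)) := by
      rw [Ideal.span_le]
      intro x hx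
      have hxI : x ∈ I := hI ▸ Ideal.subset_span hx
      exact Ideal.mem_map_of_mem (algebraMap E S)
        (show (⟨x, hg hx⟩ : E) ∈ I.comap (algebraMap E S) from hxI)
    rw [hI] at h1
    exact h1
  · exact Ideal.map_comap_le

/-- Saturation modulo a prime extended from a faithfully flat subring. -/
theorem exists_sub_mem_of_mul_sub_mem {E S : Type*} [CommRing E] [CommRing S] [Algebra E S]
    [Module.FaithfullyFlat E S] (Q : Ideal S) [Q.IsPrime]
    (hQ : Q = Ideal.map (algebraMap E S) (Q.comap (algebraMap E S)))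
    (a b : E) (hb : algebraMap E S b ∉ Q) (x : S)
    (h : algebraMap E S b * x - algebraMap E S a ∈ Q) :
    ∃ e : E, x - algebraMap E S e ∈ Q := by
  have h3 : a ∈ (Ideal.span {b} ⊔ Q.comap (algebraMap E S) : Ideal E) := by
    rw [← Ideal.comap_map_eq_self_of_faithfullyFlat (B := S)
      (Ideal.span {b} ⊔ Q.comap (algebraMap E S)), Ideal.mem_comap,
      Ideal.map_sup, Ideal.map_span, Set.image_singleton, ← hQ]
    have h4 : algebraMap E S a =
        algebraMap E S b * x - (algebraMap E S b * x - algebraMap E S a) := by ring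
    rw [h4]
    exact Ideal.sub_mem _
      (Ideal.mem_sup_left (Ideal.mul_mem_right _ _ (Ideal.subset_span rfl)))
      (Ideal.mem_sup_right h)
  obtain ⟨y, hy, c, hc, hyc⟩ := Submodule.mem_sup.mp h3
  obtain ⟨e, rfl⟩ := Ideal.mem_span_singleton'.mp hy
  refine ⟨e, ?_⟩
  have hc' : algebraMap E S c ∈ Q := hc
  have h4 : algebraMap E S b * (x - algebraMap E S e) ∈ Q := by
    have h5 : algebraMap E S b * (x - algebraMap E S e) =
        (algebraMap E S b * x - algebraMap E S a) + algebraMap E S c := by
      rw [← hyc, map_add, map_mul]; ring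
    rw [h5]
    exact Q.add_mem h hc'
  exact (‹Q.IsPrime›.mem_or_mem h4).resolve_left hb

section quot

variable (A S : Type u) [CommRing A] [IsLocalRing A] [IsNoetherianRing A]
  [CommRing S] [IsLocalRing S] [Algebra A S] [IsLocalHom (algebraMap A S)]
  [Hensel.IsStrictHenselization A S]

/-- A local essentially étale subalgebra of the strict henselization `S` containing given
elements, from which the prime `Q` is extended, and which captures modulo `Q` all elements of
`S ⧸ Q` lying in the subfield generated by `A` and a finite set. -/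
theorem exists_subalgebra (Q : Ideal S) [Q.IsPrime] (t : Finset (FractionRing (S ⧸ Q)))
    (extra : Finset S) :
    ∃ E : Subalgebra A S, (extra : Set S) ⊆ (E : Set S) ∧ ∃ _ : IsLocalRing E,
      IsLocalHom (algebraMap E S) ∧ EGA4loc.IsEssentiallyEtale A E ∧
      Q = Ideal.map (algebraMap E S) (Q.comap (algebraMap E S)) ∧
      ∀ x : S, algebraMap (S ⧸ Q) (FractionRing (S ⧸ Q)) (Ideal.Quotient.mk Q x) ∈
          Subfield.closure (Set.range (algebraMap A (FractionRing (S ⧸ Q))) ∪
            (t : Set (FractionRing (S ⧸ Q)))) →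
        ∃ e ∈ E, Ideal.Quotient.mk Q e = Ideal.Quotient.mk Q x := by
  classical
  haveI : IsNoetherianRing S := (Hzl.strictHenselization_isNoetherianRing_iff A S).mp inferInstance
  haveI : Module.Flat A S := Hzl.strictHenselization_flat A S
  have hinj : Function.Injective (algebraMap (S ⧸ Q) (FractionRing (S ⧸ Q))) :=
    IsFractionRing.injective _ _
  obtain ⟨gQ, hgQ⟩ : Q.FG := (isNoetherianRing_iff_ideal_fg S).mp inferInstance Q
  have hfrac : ∀ y : FractionRing (S ⧸ Q), ∃ a b : S,
      y = algebraMap (S ⧸ Q) (FractionRing (S ⧸ Q)) (Ideal.Quotient.mk Q a) /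
        algebraMap (S ⧸ Q) (FractionRing (S ⧸ Q)) (Ideal.Quotient.mk Q b) := by
    intro y
    obtain ⟨a, b, hb, rfl⟩ := IsFractionRing.div_surjective (A := S ⧸ Q) y
    obtain ⟨a, rfl⟩ := Ideal.Quotient.mk_surjective a
    obtain ⟨b, rfl⟩ := Ideal.Quotient.mk_surjective b
    exact ⟨a, b, rfl⟩
  choose num den hnd using hfrac
  obtain ⟨E, hsE, hEloc, hES, hEet⟩ :=
    Hzl.exists_essEtale_subalgebra A S (extra ∪ gQ ∪ (t.image num ∪ t.image den))
  haveI := hEloc
  haveI := hES
  haveI : Module.Flat E S := EssEtUtil.flat_of_essEtale A E S hEet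
  haveI : Module.FaithfullyFlat E S := Module.FaithfullyFlat.of_flat_of_isLocalHom
  have hQE : Q = Ideal.map (algebraMap E S) (Q.comap (algebraMap E S)) :=
    map_comap_eq_of_span E Q (gQ : Set S) hgQ (fun x hx => hsE (by
      rw [Finset.coe_union, Finset.coe_union]
      exact Or.inl (Or.inr hx)))
  refine ⟨E, fun x hx => hsE (by
      rw [Finset.coe_union, Finset.coe_union]
      exact Or.inl (Or.inl hx)), hEloc, hES, hEet, hQE, ?_⟩
  let ρ : E →+* FractionRing (S ⧸ Q) :=
    (algebraMap (S ⧸ Q) (FractionRing (S ⧸ Q))).comp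
      ((Ideal.Quotient.mk Q).comp (algebraMap E S))
  have hLLE : Subfield.closure (Set.range (algebraMap A (FractionRing (S ⧸ Q))) ∪
      (t : Set (FractionRing (S ⧸ Q)))) ≤ Subfield.closure (Set.range ρ) := by
    rw [Subfield.closure_le]
    rintro y (⟨a, rfl⟩ | hy)
    · apply Subfield.subset_closure
      refine ⟨algebraMap A E a, ?_⟩
      rw [IsScalarTower.algebraMap_apply A (S ⧸ Q) (FractionRing (S ⧸ Q))]
      rfl
    · have hy' : y ∈ t := Finset.mem_coe.mp hy
      have hn : num y ∈ E := hsE (by
        rw [Finset.coe_union]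
        exact Or.inr (Finset.mem_coe.mpr
          (Finset.mem_union_left _ (Finset.mem_image_of_mem num hy'))))
      have hd : den y ∈ E := hsE (by
        rw [Finset.coe_union]
        exact Or.inr (Finset.mem_coe.mpr
          (Finset.mem_union_right _ (Finset.mem_image_of_mem den hy'))))
      show y ∈ Subfield.closure (Set.range ρ)
      rw [hnd y]
      exact div_mem (Subfield.subset_closure ⟨⟨num y, hn⟩, rfl⟩)
        (Subfield.subset_closure ⟨⟨den y, hd⟩, rfl⟩)
  intro x hx
  have hx' := hLLE hx
  rw [Subfield.mem_closure_iff] at hx'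
  obtain ⟨y, hy, z, hz, hyz⟩ := hx'
  have hcl : Subring.closure (Set.range ρ) = ρ.range := by
    rw [← RingHom.coe_range, Subring.closure_eq]
  rw [hcl] at hy hz
  obtain ⟨a, rfl⟩ := hy
  obtain ⟨b, rfl⟩ := hz
  by_cases hb : ρ b = 0
  · rw [hb, div_zero] at hyz
    refine ⟨0, E.zero_mem, ?_⟩
    rw [map_zero]
    exact hinj (by rw [map_zero]; exact hyz)
  · have hbQ : algebraMap E S b ∉ Q := by
      intro h
      apply hb
      show algebraMap (S ⧸ Q) (FractionRing (S ⧸ Q))
        (Ideal.Quotient.mk Q (algebraMap E S b)) = 0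
      rw [Ideal.Quotient.eq_zero_iff_mem.mpr h, map_zero]
    have h1 : algebraMap E S b * x - algebraMap E S a ∈ Q := by
      rw [← Ideal.Quotient.eq_zero_iff_mem, map_sub, map_mul]
      apply hinj
      rw [map_zero, map_sub, map_mul, sub_eq_zero]
      have h2 : ρ a = ρ b *
          algebraMap (S ⧸ Q) (FractionRing (S ⧸ Q)) (Ideal.Quotient.mk Q x) := by
        rw [← hyz]; field_simp
      exact h2.symm
    obtain ⟨e, he⟩ := exists_sub_mem_of_mul_sub_mem Q hQE a b hbQ x h1
    refine ⟨algebraMap E S e, e.2, ?_⟩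
    rw [eq_comm, Ideal.Quotient.eq]
    exact he

/-- Abstract form of S16446. -/
theorem main46 (Q : Ideal S) [Q.IsPrime] (t : Finset (FractionRing (S ⧸ Q))) :
    ∃ E : Subalgebra A S, ∃ _ : IsLocalRing E, EGA4loc.IsEssentiallyEtale A E ∧
      (∀ Q' ∈ ((Q.comap (algebraMap A S)).map (algebraMap A S)).minimalPrimes,
        Q' = Ideal.map (algebraMap E S) (Q'.comap (algebraMap E S))) ∧
      ∀ x : S, algebraMap (S ⧸ Q) (FractionRing (S ⧸ Q)) (Ideal.Quotient.mk Q x) ∈
          Subfield.closure (Set.range (algebraMap A (FractionRing (S ⧸ Q))) ∪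
            (t : Set (FractionRing (S ⧸ Q)))) →
        ∃ e ∈ E, Ideal.Quotient.mk Q e = Ideal.Quotient.mk Q x := by
  classical
  haveI : IsNoetherianRing S := (Hzl.strictHenselization_isNoetherianRing_iff A S).mp inferInstance
  have hfin := Ideal.finite_minimalPrimes_of_isNoetherianRing S
    ((Q.comap (algebraMap A S)).map (algebraMap A S))
  have hgen : ∀ I : Ideal S, ∃ s : Finset S, Ideal.span (s : Set S) = I :=
    fun I => (isNoetherianRing_iff_ideal_fg S).mp inferInstance I
  choose gen hgenspan using hgen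
  obtain ⟨E, hextra, hEloc, hES, hEet, -, hE⟩ :=
    exists_subalgebra A S Q t (hfin.toFinset.biUnion gen)
  refine ⟨E, hEloc, hEet, fun Q' hQ' => ?_, hE⟩
  exact map_comap_eq_of_span E Q' (gen Q' : Set S) (hgenspan Q') (fun x hx => hextra (by
    rw [Finset.coe_biUnion]
    exact Set.mem_biUnion (Finset.mem_coe.mpr (hfin.mem_toFinset.mpr hQ')) hx))

end quot

end Groth.Agent.Lib.Helper8.SubfieldInter
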