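import Mathlib
import Groth.Prelude
import Groth.Agent.Lib.Helper8.SubfieldInterC

/-!
# `L ∩ S ⧸ Q` is finite and unramified over a noetherian henselian local ring
-/

set_option autoImplicit false

open IsLocalRing Polynomial

universe u

namespace Groth.Agent.Lib.Helper8.SubfieldInter

open Groth.Agent.Lib.Helper8

theorem main40 (A S : Type u) [CommRing A] [HenselianLocalRing A] [IsNoetherianRing A]
    [CommRing S] [IsLocalRing S] [Algebra A S] [IsLocalHom (algebraMap A S)]
    [Hensel.IsStrictHenselization A S] (Q : Ideal S) [Q.IsPrime]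
    (t : Finset (FractionRing (S ⧸ Q))) :
    ∃ D' : Subalgebra A (S ⧸ Q), (D' : Set (S ⧸ Q)) =
        (algebraMap (S ⧸ Q) (FractionRing (S ⧸ Q))) ⁻¹'
        (Subfield.closure (Set.range (algebraMap A (FractionRing (S ⧸ Q))) ∪
          (t : Set (FractionRing (S ⧸ Q)))) : Set (FractionRing (S ⧸ Q))) ∧
      Module.Finite A D' ∧ Algebra.FormallyUnramified A D' := by
  classical
  haveI hHS : HenselianLocalRing S := Hensel.IsStrictHenselization.henselian (R := A)
  haveI : IsSepClosed (ResidueField S) :=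
    (Hensel.IsStrictHenselization.isSepClosure (R := A) (S := S)).sep_closed
  haveI : Algebra.IsSeparable (ResidueField A) (ResidueField S) :=
    (Hensel.IsStrictHenselization.isSepClosure (R := A) (S := S)).separable
  have hinj : Function.Injective (algebraMap (S ⧸ Q) (FractionRing (S ⧸ Q))) :=
    IsFractionRing.injective _ _
  haveI hmkloc : IsLocalHom (Ideal.Quotient.mk Q) := isLocalHom_of_le_jacobson_bot Q (by
    rw [IsLocalRing.jacobson_eq_maximalIdeal ⊥ bot_ne_top]
    exact IsLocalRing.le_maximalIdeal (Ideal.IsPrime.ne_top inferInstance))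
  haveI hTloc : IsLocalRing (S ⧸ Q) :=
    IsLocalRing.of_surjective' (Ideal.Quotient.mk Q) Ideal.Quotient.mk_surjective
  haveI hAT : IsLocalHom (algebraMap A (S ⧸ Q)) := ⟨fun a ha => by
    have h1 : IsUnit (Ideal.Quotient.mk Q (algebraMap A S a)) := ha
    exact isUnit_of_map_unit (algebraMap A S) a (isUnit_of_map_unit (Ideal.Quotient.mk Q) _ h1)⟩
  haveI : Algebra.IsSeparable (ResidueField A) (ResidueField (S ⧸ Q)) := by
    have hbij : Function.Bijective (ResidueField.map (Ideal.Quotient.mk Q)) := by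
      refine ⟨(ResidueField.map (Ideal.Quotient.mk Q)).injective, fun y => ?_⟩
      obtain ⟨y, rfl⟩ := residue_surjective y
      obtain ⟨y, rfl⟩ := Ideal.Quotient.mk_surjective y
      exact ⟨residue S y, rfl⟩
    refine Algebra.IsSeparable.of_equiv_equiv (RingEquiv.refl (ResidueField A))
      (RingEquiv.ofBijective _ hbij) ?_
    refine RingHom.ext fun a => ?_
    obtain ⟨a, rfl⟩ := residue_surjective a
    rfl
  obtain ⟨L, hL⟩ : ∃ L : Subfield (FractionRing (S ⧸ Q)), L = Subfield.closure
      (Set.range (algebraMap A (FractionRing (S ⧸ Q))) ∪ (t : Set (FractionRing (S ⧸ Q)))) :=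
    ⟨_, rfl⟩
  obtain ⟨D, hD⟩ : ∃ D : Subalgebra A (S ⧸ Q),
      ∀ x : S ⧸ Q, x ∈ D ↔ algebraMap (S ⧸ Q) (FractionRing (S ⧸ Q)) x ∈ L :=
    ⟨{ carrier := {x | algebraMap (S ⧸ Q) (FractionRing (S ⧸ Q)) x ∈ L}
       mul_mem' := fun {a b} ha hb => by
         show algebraMap (S ⧸ Q) (FractionRing (S ⧸ Q)) (a * b) ∈ L
         rw [map_mul]; exact L.mul_mem ha hb
       one_mem' := by
         show algebraMap (S ⧸ Q) (FractionRing (S ⧸ Q)) 1 ∈ L
         rw [map_one]; exact L.one_mem
       add_mem' := fun {a b} ha hb => by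
         show algebraMap (S ⧸ Q) (FractionRing (S ⧸ Q)) (a + b) ∈ L
         rw [map_add]; exact L.add_mem ha hb
       zero_mem' := by
         show algebraMap (S ⧸ Q) (FractionRing (S ⧸ Q)) 0 ∈ L
         rw [map_zero]; exact L.zero_mem
       algebraMap_mem' := fun a => by
         show algebraMap (S ⧸ Q) (FractionRing (S ⧸ Q)) (algebraMap A (S ⧸ Q) a) ∈ L
         rw [← IsScalarTower.algebraMap_apply A (S ⧸ Q) (FractionRing (S ⧸ Q)), hL]
         exact Subfield.subset_closure (Or.inl ⟨a, rfl⟩) }, fun x => Iff.rfl⟩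
  have hval : ∀ x : D, algebraMap D (S ⧸ Q) x = (x : S ⧸ Q) := fun x => rfl
  have hunit : ∀ x : D, IsUnit (algebraMap D (S ⧸ Q) x) → IsUnit x := by
    intro x hx
    obtain ⟨u, hu⟩ := hx
    rw [hval] at hu
    have hinv : ((u⁻¹ : (S ⧸ Q)ˣ) : S ⧸ Q) ∈ D := by
      rw [hD]
      have h1 : algebraMap (S ⧸ Q) (FractionRing (S ⧸ Q)) ((u⁻¹ : (S ⧸ Q)ˣ) : S ⧸ Q) =
          (algebraMap (S ⧸ Q) (FractionRing (S ⧸ Q)) (x : S ⧸ Q))⁻¹ := by
        apply eq_inv_of_mul_eq_one_left
        rw [← hu, ← map_mul, Units.inv_mul, map_one]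
      rw [h1]
      exact L.inv_mem ((hD _).mp x.2)
    refine isUnit_iff_exists_inv.mpr ⟨⟨_, hinv⟩, Subtype.ext ?_⟩
    show (x : S ⧸ Q) * ((u⁻¹ : (S ⧸ Q)ˣ) : S ⧸ Q) = 1
    rw [← hu, Units.mul_inv]
  haveI hDloc : IsLocalRing D := IsLocalRing.of_nonunits_add (by
    intro a b ha hb hab
    have ha' : algebraMap D (S ⧸ Q) a ∈ nonunits (S ⧸ Q) := fun h => ha (hunit a h)
    have hb' : algebraMap D (S ⧸ Q) b ∈ nonunits (S ⧸ Q) := fun h => hb (hunit b h)
    have hab' := hab.map (algebraMap D (S ⧸ Q))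
    rw [map_add] at hab'
    exact IsLocalRing.nonunits_add ha' hb' hab')
  haveI hDT : IsLocalHom (algebraMap D (S ⧸ Q)) := ⟨fun x hx => hunit x hx⟩
  haveI hAD : IsLocalHom (algebraMap A D) := ⟨fun a ha => by
    have h1 : IsUnit (algebraMap D (S ⧸ Q) (algebraMap A D a)) := ha.map _
    rw [← IsScalarTower.algebraMap_apply A D (S ⧸ Q)] at h1
    exact isUnit_of_map_unit (algebraMap A (S ⧸ Q)) a h1⟩
  -- the essentially étale subalgebra
  obtain ⟨E, -, hEloc, hES, hEet, hQE, hE⟩ := exists_subalgebra A S Q t ∅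
  haveI := hEloc
  haveI := hES
  haveI hAE : IsLocalHom (algebraMap A E) := ⟨fun a ha => by
    have h1 : IsUnit (algebraMap E S (algebraMap A E a)) := ha.map _
    rw [← IsScalarTower.algebraMap_apply A E S] at h1
    exact isUnit_of_map_unit (algebraMap A S) a h1⟩
  obtain ⟨hEfin, hEetale⟩ := finite_etale_of_essEtale A E hEet
  haveI := hEfin
  haveI := hEetale
  let ρE : E →ₐ[A] (S ⧸ Q) := (Ideal.Quotient.mkₐ A Q).comp E.val
  have hDle : D ≤ ρE.range := by
    intro x hx
    obtain ⟨s, rfl⟩ := Ideal.Quotient.mk_surjective x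
    have h1 := (hD _).mp hx
    rw [hL] at h1
    obtain ⟨e, he, hes⟩ := hE s h1
    exact ⟨⟨e, he⟩, hes⟩
  haveI : Module.Finite A ρE.range :=
    Module.Finite.of_surjective ρE.rangeRestrict.toLinearMap ρE.rangeRestrict_surjective
  haveI : IsNoetherian A ρE.range := isNoetherian_of_isNoetherianRing_of_finite A ρE.range
  haveI hDfin : Module.Finite A D :=
    Module.Finite.of_injective (Subalgebra.inclusion hDle).toLinearMap
      (Subalgebra.inclusion_injective hDle)
  -- a generator
  obtain ⟨f, θ₀, hfmonic, hfsep, hfθ₀, hadj⟩ := exists_monogenic A E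
  have hsplitS : (f.map (algebraMap A S)).Splits := by
    apply splits_of_separable_residue' S _ _ (hfmonic.map _) rfl
    have hcomp : (algebraMap S (ResidueField S)).comp (algebraMap A S) =
        (algebraMap (ResidueField A) (ResidueField S)).comp (algebraMap A (ResidueField A)) := by
      ext a; rfl
    rw [Polynomial.map_map, hcomp, ← Polynomial.map_map]
    exact hfsep.map
  have hsplitT : (f.map (algebraMap A (S ⧸ Q))).Splits := by
    have h1 := hsplitS.map (Ideal.Quotient.mk Q)
    rw [Polynomial.map_map, Ideal.Quotient.mk_comp_algebraMap] at h1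
    exact h1
  have hθ : aeval (algebraMap S (S ⧸ Q) (algebraMap E S θ₀)) f = 0 := by
    rw [Polynomial.aeval_algebraMap_apply, Polynomial.aeval_algebraMap_apply, hfθ₀, map_zero,
      map_zero]
  have hmE : (maximalIdeal A).map (algebraMap A E) = maximalIdeal E :=
    Algebra.FormallyUnramified.map_maximalIdeal
  have hm : Ideal.map (algebraMap A D) (maximalIdeal A) = maximalIdeal D := by
    apply le_antisymm (IsLocalRing.map_maximalIdeal_le (algebraMap A D))
    intro x hx
    rw [mem_maximalIdeal, mem_nonunits_iff] at hx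
    have hxT : ¬ IsUnit (algebraMap D (S ⧸ Q) x) := fun h => hx (hunit x h)
    obtain ⟨e, hex⟩ := hDle x.2
    have he' : e ∈ maximalIdeal E := by
      rw [mem_maximalIdeal, mem_nonunits_iff]
      intro h
      apply hxT
      have h2 : IsUnit (ρE e) := h.map ρE
      have h3 : ρE e = (x : S ⧸ Q) := hex
      rw [h3] at h2
      exact h2
    rw [← hmE] at he'
    obtain ⟨p, hp, hpx⟩ := exists_poly_of_mem_map hadj (maximalIdeal A) _ he'
    refine mem_map_of_aeval_eq hinj L D hD (algebraMap S (S ⧸ Q) (algebraMap E S θ₀)) f hfmonic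
      hθ hsplitT (maximalIdeal A) x p hp ?_
    rw [Polynomial.aeval_algebraMap_apply, Polynomial.aeval_algebraMap_apply, hpx]
    exact hex
  refine ⟨D, ?_, hDfin, ?_⟩
  · ext x
    rw [Set.mem_preimage, ← hL]
    exact hD x
  · haveI : Algebra.IsSeparable (ResidueField A) (ResidueField D) :=
      Algebra.isSeparable_tower_bot_of_isSeparable (ResidueField A) (ResidueField D)
        (ResidueField (S ⧸ Q))
    exact Algebra.FormallyUnramified.of_map_maximalIdeal hm

end Groth.Agent.Lib.Helper8.SubfieldInter
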