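import Mathlib

/-!
# Scheme-level facts for tameness of finite étale covers of proper schemes
-/

set_option autoImplicit false
universe u
open CategoryTheory AlgebraicGeometry TopologicalSpace Opposite IsLocalRing

namespace Groth.Agent.Lib.Helper8.TameSch

variable {X Y : Scheme.{u}}

/-- `Spec κ(x) → Spec Γ(X,U) → X` is the canonical map. -/
theorem SpecMap_evaluation_fromSpec {U : X.Opens} (hU : IsAffineOpen U) (x : X) (hx : x ∈ U) :
    Spec.map (X.evaluation U x hx) ≫ hU.fromSpec = X.fromSpecResidueField x := by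
  rw [Scheme.fromSpecResidueField, ← hU.fromSpecStalk_eq_fromSpecStalk hx,
    IsAffineOpen.fromSpecStalk, ← Scheme.germ_residue, Spec.map_comp, Category.assoc]

/-- A valuation ring of `κ(x)` over a proper `k`-scheme has a centre: some affine open `U ∋ x` has
`Γ(X,U) → κ(x)` factoring through `A`. -/
theorem exists_center {K₀ : CommRingCat.{u}} (s : X ⟶ Spec K₀) [IsProper s] (x : X)
    (A : ValuationSubring (X.residueField x))
    (a : Spec (CommRingCat.of A) ⟶ Spec K₀)
    (ha : Spec.map (CommRingCat.ofHom A.subtype) ≫ a = X.fromSpecResidueField x ≫ s) :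
    ∃ (U : X.Opens) (_ : IsAffineOpen U) (hx : x ∈ U) (θ : Γ(X, U) →+* A),
      A.subtype.comp θ = (X.evaluation U x hx).hom := by
  have hex : ValuativeCriterion.Existence s := by
    have h1 : UniversallyClosed s := inferInstance
    rw [UniversallyClosed.eq_valuativeCriterion] at h1
    exact h1.1
  let S : ValuativeCommSq s :=
    { R := A
      K := X.residueField x
      i₁ := X.fromSpecResidueField x
      i₂ := a
      commSq := ⟨ha.symm⟩ }
  obtain ⟨⟨l⟩⟩ := hex S
  have hl1 : Spec.map (CommRingCat.ofHom A.subtype) ≫ l.l = X.fromSpecResidueField x := l.fac_left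
  -- affine open around the image of the closed point
  let x₀ : X := l.l.base (closedPoint A)
  obtain ⟨_, ⟨U, hU, rfl⟩, hx₀U, -⟩ :=
    X.isBasis_affineOpens.exists_subset_of_mem_open (Set.mem_univ x₀) isOpen_univ
  have htop : l.l ⁻¹ᵁ U = ⊤ := (closedPoint_mem_iff (l.l ⁻¹ᵁ U)).1 hx₀U
  have hrange : Set.range l.l.base ⊆ Set.range hU.fromSpec.base := by
    rw [hU.range_fromSpec]
    rintro _ ⟨z, rfl⟩
    have : z ∈ l.l ⁻¹ᵁ U := by rw [htop]; trivial
    exact this
  let h' : Spec (CommRingCat.of A) ⟶ Spec Γ(X, U) := IsOpenImmersion.lift hU.fromSpec l.l hrange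
  have hh' : h' ≫ hU.fromSpec = l.l := IsOpenImmersion.lift_fac _ _ _
  have hxU : x ∈ U := by
    have h2 : (X.fromSpecResidueField x).base (closedPoint (X.residueField x)) = x := by
      have := X.range_fromSpecResidueField x
      have hm : (X.fromSpecResidueField x).base (closedPoint (X.residueField x)) ∈
          Set.range (X.fromSpecResidueField x).base := ⟨_, rfl⟩
      rw [this] at hm
      exact hm
    rw [← h2, ← hl1]
    have : (Spec.map (CommRingCat.ofHom A.subtype)).base (closedPoint (X.residueField x)) ∈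
        l.l ⁻¹ᵁ U := by rw [htop]; trivial
    exact this
  refine ⟨U, hU, hxU, (Spec.preimage h').hom, ?_⟩
  have key : Spec.map (CommRingCat.ofHom (A.subtype.comp (Spec.preimage h').hom)) =
      Spec.map (X.evaluation U x hxU) := by
    rw [← cancel_mono hU.fromSpec, SpecMap_evaluation_fromSpec hU x hxU, ← hl1, ← hh']
    rw [← Category.assoc]
    congr 1
    rw [CommRingCat.ofHom_comp, Spec.map_comp]
    congr 1
    exact (Spec.map_preimage h')
  have := Spec.map_injective key
  exact congrArg CommRingCat.Hom.hom this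

/-- Every element of `κ(y)` is a fraction of values of sections over an affine open around `y`. -/
theorem exists_evaluation_fraction {W : Y.Opens} (hW : IsAffineOpen W) (y : Y) (hy : y ∈ W)
    (l : Y.residueField y) :
    ∃ c c' : Γ(Y, W), (Y.evaluation W y hy).hom c' ≠ 0 ∧
      l * (Y.evaluation W y hy).hom c' = (Y.evaluation W y hy).hom c := by
  obtain ⟨t, rfl⟩ := Y.residue_surjective y l
  letI : Algebra Γ(Y, W) (Y.presheaf.stalk y) :=
    TopCat.Presheaf.algebra_section_stalk Y.presheaf ⟨y, hy⟩
  haveI : IsLocalization.AtPrime (Y.presheaf.stalk y) (hW.primeIdealOf ⟨y, hy⟩).asIdeal :=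
    hW.isLocalization_stalk ⟨y, hy⟩
  obtain ⟨⟨c, c'⟩, hcc'⟩ := IsLocalization.surj (hW.primeIdealOf ⟨y, hy⟩).asIdeal.primeCompl t
  have hunit : IsUnit (algebraMap Γ(Y, W) (Y.presheaf.stalk y) c') :=
    IsLocalization.map_units (Y.presheaf.stalk y) c'
  have hev : ∀ d : Γ(Y, W), (Y.evaluation W y hy).hom d =
      (Y.residue y).hom (algebraMap Γ(Y, W) (Y.presheaf.stalk y) d) := fun d => rfl
  refine ⟨c, c', ?_, ?_⟩
  · rw [hev]
    exact (hunit.map (Y.residue y).hom).ne_zero
  · rw [hev, hev, ← map_mul, hcc']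

end Groth.Agent.Lib.Helper8.TameSch
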