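import Mathlib
import Groth.Prelude.Def_EtRam
import Groth.Agent.Lib.Helper8.TameCore
import Groth.Agent.Lib.Helper8.TameSch

/-!
# Finite étale covers of proper schemes over a field are tame along every DVR of a residue field
-/

set_option autoImplicit false
universe u
open CategoryTheory AlgebraicGeometry TopologicalSpace Opposite IsLocalRing TensorProduct

namespace Groth.Agent.Lib.Helper8.TameMain

theorem main (k : Type u) [Field k] {X Y : Scheme.{u}} (s : X ⟶ Spec (CommRingCat.of k))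
    [IsProper s] (f : Y ⟶ X) [IsFinite f] [Etale f] (y : Y)
    (A : ValuationSubring (X.residueField (f.base y))) [IsDiscreteValuationRing A]
    (a : Spec (CommRingCat.of A) ⟶ Spec (CommRingCat.of k))
    (ha : Spec.map (CommRingCat.ofHom A.subtype) ≫ a = X.fromSpecResidueField (f.base y) ≫ s) :
    EtRam.IsTamelyRamified A ((f.residueFieldMap y).hom.comp A.subtype) := by
  obtain ⟨U, hU, hxU, θ, hθ⟩ := TameSch.exists_center s (f.base y) A a ha
  have hW : IsAffineOpen (f ⁻¹ᵁ U) := hU.preimage f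
  have hyW : y ∈ f ⁻¹ᵁ U := hxU
  have hφfin : (f.app U).hom.Finite := IsFinite.finite_app f U hU
  have hφet : (f.app U).hom.Etale := by
    have h1 := HasRingHomProperty.appLE (P := @Etale) f inferInstance ⟨U, hU⟩ ⟨f ⁻¹ᵁ U, hW⟩ le_rfl
    rwa [← Scheme.Hom.app_eq_appLE] at h1
  have hnat : ∀ r : Γ(X, U), (Y.evaluation (f ⁻¹ᵁ U) y hyW).hom ((f.app U).hom r) =
      (f.residueFieldMap y).hom ((X.evaluation U (f.base y) hxU).hom r) := fun r =>
    (Scheme.evaluation_naturality_apply f y hxU r).symm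
  letI algRC : Algebra Γ(X, U) Γ(Y, f ⁻¹ᵁ U) := (f.app U).hom.toAlgebra
  letI algRA : Algebra Γ(X, U) A := θ.toAlgebra
  haveI : Module.Finite Γ(X, U) Γ(Y, f ⁻¹ᵁ U) := hφfin
  haveI : Algebra.Etale Γ(X, U) Γ(Y, f ⁻¹ᵁ U) := hφet
  let g : A →+* Y.residueField y := (f.residueFieldMap y).hom.comp A.subtype
  letI algRL : Algebra Γ(X, U) (Y.residueField y) := (g.comp θ).toAlgebra
  let gA : A →ₐ[Γ(X, U)] Y.residueField y := { g with commutes' := fun r => rfl }
  let evC : Γ(Y, f ⁻¹ᵁ U) →ₐ[Γ(X, U)] Y.residueField y :=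
    { (Y.evaluation (f ⁻¹ᵁ U) y hyW).hom with
      commutes' := fun r => by
        change (Y.evaluation (f ⁻¹ᵁ U) y hyW).hom ((f.app U).hom r) = g (θ r)
        rw [hnat]
        have h2 : A.subtype (θ r) = (X.evaluation U (f.base y) hxU).hom r := by
          rw [← hθ]; rfl
        rw [← h2]
        rfl }
  let ψ : A ⊗[Γ(X, U)] Γ(Y, f ⁻¹ᵁ U) →+* Y.residueField y :=
    (Algebra.TensorProduct.productMap gA evC).toRingHom
  have hψA : ∀ a : A, ψ (algebraMap A (A ⊗[Γ(X, U)] Γ(Y, f ⁻¹ᵁ U)) a) = g a := by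
    intro a
    change Algebra.TensorProduct.productMap gA evC (a ⊗ₜ 1) = g a
    rw [Algebra.TensorProduct.productMap_apply_tmul, map_one, mul_one]
    rfl
  have hψC : ∀ c : Γ(Y, f ⁻¹ᵁ U), ψ (1 ⊗ₜ c) = (Y.evaluation (f ⁻¹ᵁ U) y hyW).hom c := by
    intro c
    change Algebra.TensorProduct.productMap gA evC (1 ⊗ₜ c) = _
    rw [Algebra.TensorProduct.productMap_apply_tmul, map_one, one_mul]
    rfl
  have hinj : ∀ a : A, a ≠ 0 → ψ (algebraMap A (A ⊗[Γ(X, U)] Γ(Y, f ⁻¹ᵁ U)) a) ≠ 0 := by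
    intro a ha0
    rw [hψA]
    change (f.residueFieldMap y).hom (A.subtype a) ≠ 0
    rw [Ne, map_eq_zero]
    intro h0
    exact ha0 (Subtype.ext h0)
  have hgen : ∀ l : Y.residueField y, ∃ b b' : A ⊗[Γ(X, U)] Γ(Y, f ⁻¹ᵁ U),
      ψ b' ≠ 0 ∧ l * ψ b' = ψ b := by
    intro l
    obtain ⟨c, c', hc', hcc'⟩ := TameSch.exists_evaluation_fraction hW y hyW l
    exact ⟨1 ⊗ₜ c, 1 ⊗ₜ c', by rw [hψC]; exact hc', by rw [hψC, hψC]; exact hcc'⟩
  have hcomp : ψ.comp (algebraMap A (A ⊗[Γ(X, U)] Γ(Y, f ⁻¹ᵁ U))) = g := RingHom.ext hψA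
  intro V hV
  intro inst
  letI algAV : Algebra A V := (RingHom.codRestrict g V hV.1).toAlgebra
  have hV' : EtRam.Dominates A (ψ.comp (algebraMap A (A ⊗[Γ(X, U)] Γ(Y, f ⁻¹ᵁ U)))) V := by
    rw [hcomp]; exact hV
  obtain ⟨h1, h2⟩ := TameCore.core ψ hinj hgen V hV' (algAV := algAV)
    (fun a => (hψA a).symm)
  refine ⟨h1, fun p hp _ hdvd => ?_⟩
  rw [h2] at hdvd
  exact hp.one_lt.ne' (Nat.dvd_one.1 hdvd)

end Groth.Agent.Lib.Helper8.TameMain
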