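/-
Helper8 library: going-down onto a prime lying over the maximal ideal, for integral extensions of a
unibranch local domain (EGA 0_IV 23.2 / IV 14.4.1 style).
-/
import Mathlib

set_option autoImplicit false
set_option linter.style.haveILetI false
universe u

namespace Groth.Agent.Lib.Helper8

theorem exists_prime_le_of_unibranch {R S : Type u} [CommRing R] [IsDomain R] [IsLocalRing R]
    (hR : IsLocalRing (integralClosure R (FractionRing R))) [CommRing S] [IsDomain S] [Algebra R S]
    (hinj : Function.Injective (algebraMap R S)) [Algebra.IsIntegral R S] (n : Ideal S) [n.IsPrime]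
    (hn : n.comap (algebraMap R S) = IsLocalRing.maximalIdeal R) (p : Ideal R) [p.IsPrime] :
    ∃ q : Ideal S, q.IsPrime ∧ q ≤ n ∧ q.comap (algebraMap R S) = p := by
  classical
  haveI := hR
  haveI : FaithfulSMul R S := (faithfulSMul_iff_algebraMap_injective R S).mpr hinj
  haveI : FaithfulSMul R (FractionRing S) := by
    rw [faithfulSMul_iff_algebraMap_injective, IsScalarTower.algebraMap_eq R S (FractionRing S)]
    exact (IsFractionRing.injective S (FractionRing S)).comp hinj
  letI : Algebra (FractionRing R) (FractionRing S) := FractionRing.liftAlgebra R (FractionRing S)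
  haveI : IsScalarTower R (FractionRing R) (FractionRing S) :=
    FractionRing.isScalarTower_liftAlgebra R (FractionRing S)
  haveI : IsIntegrallyClosed (integralClosure R (FractionRing R)) :=
    integralClosure.isIntegrallyClosedOfFiniteExtension (FractionRing R)
  -- the maps
  let φ : S →ₐ[R] integralClosure R (FractionRing S) :=
    (IsScalarTower.toAlgHom R S (FractionRing S)).codRestrict _
      (fun s => (Algebra.IsIntegral.isIntegral (R := R) s).map
        (IsScalarTower.toAlgHom R S (FractionRing S)))
  let ψ : integralClosure R (FractionRing R) →ₐ[R] integralClosure R (FractionRing S) :=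
    ((IsScalarTower.toAlgHom R (FractionRing R) (FractionRing S)).comp
      (integralClosure R (FractionRing R)).val).codRestrict _
      (fun x => x.2.map (IsScalarTower.toAlgHom R (FractionRing R) (FractionRing S)))
  have hφinj : Function.Injective φ := by
    intro a b hab
    have := congrArg Subtype.val hab
    exact IsFractionRing.injective S (FractionRing S) this
  have hψinj : Function.Injective ψ := by
    intro a b hab
    have := congrArg Subtype.val hab
    exact Subtype.ext ((algebraMap (FractionRing R) (FractionRing S)).injective this)
  have e1 : (φ : S →+* integralClosure R (FractionRing S)).comp (algebraMap R S) =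
      algebraMap R (integralClosure R (FractionRing S)) := φ.comp_algebraMap
  have e2 : (ψ : integralClosure R (FractionRing R) →+* integralClosure R (FractionRing S)).comp
      (algebraMap R (integralClosure R (FractionRing R))) =
      algebraMap R (integralClosure R (FractionRing S)) := ψ.comp_algebraMap
  -- Step 1: a prime of the big integral closure over `n`
  obtain ⟨n'', hn''prime, hn''⟩ : ∃ n'' : Ideal (integralClosure R (FractionRing S)),
      n''.IsPrime ∧ n''.comap (φ : S →+* integralClosure R (FractionRing S)) = n := by
    letI : Algebra S (integralClosure R (FractionRing S)) :=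
      (φ : S →+* integralClosure R (FractionRing S)).toAlgebra
    haveI : IsScalarTower R S (integralClosure R (FractionRing S)) :=
      IsScalarTower.of_algebraMap_eq (fun r => (φ.commutes r).symm)
    haveI : Algebra.IsIntegral S (integralClosure R (FractionRing S)) :=
      ⟨fun y => (Algebra.IsIntegral.isIntegral (R := R) y).tower_top⟩
    obtain ⟨Q, -, hQ1, hQ2⟩ := Ideal.exists_ideal_over_prime_of_isIntegral n
      (⊥ : Ideal (integralClosure R (FractionRing S))) (by
        have hb : Ideal.comap (algebraMap S (integralClosure R (FractionRing S))) ⊥ = ⊥ :=
          Ideal.comap_bot_of_injective _ hφinj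
        rw [hb]; exact bot_le)
    exact ⟨Q, hQ1, hQ2⟩
  haveI := hn''prime
  -- Step 2: going down in the normalization
  obtain ⟨q'', hq''prime, hq''le, hq''⟩ : ∃ q'' : Ideal (integralClosure R (FractionRing S)),
      q''.IsPrime ∧ q'' ≤ n'' ∧
      (q''.comap (ψ : integralClosure R (FractionRing R) →+*
        integralClosure R (FractionRing S))).comap
          (algebraMap R (integralClosure R (FractionRing R))) = p := by
    letI : Algebra (integralClosure R (FractionRing R)) (integralClosure R (FractionRing S)) :=
      (ψ : integralClosure R (FractionRing R) →+* integralClosure R (FractionRing S)).toAlgebra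
    haveI : IsScalarTower R (integralClosure R (FractionRing R))
        (integralClosure R (FractionRing S)) :=
      IsScalarTower.of_algebraMap_eq (fun r => (ψ.commutes r).symm)
    haveI : Algebra.IsIntegral (integralClosure R (FractionRing R))
        (integralClosure R (FractionRing S)) :=
      ⟨fun y => (Algebra.IsIntegral.isIntegral (R := R) y).tower_top⟩
    haveI : FaithfulSMul (integralClosure R (FractionRing R))
        (integralClosure R (FractionRing S)) :=
      (faithfulSMul_iff_algebraMap_injective _ _).mpr hψinj
    obtain ⟨p', -, hp'prime, hp'⟩ := Ideal.exists_ideal_over_prime_of_isIntegral p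
      (⊥ : Ideal (integralClosure R (FractionRing R))) (by
        rw [Ideal.comap_bot_of_injective _ (FaithfulSMul.algebraMap_injective R _)]
        exact bot_le)
    haveI := hp'prime
    have hcomap : Ideal.comap (algebraMap R (integralClosure R (FractionRing R)))
        (n''.under (integralClosure R (FractionRing R))) = IsLocalRing.maximalIdeal R := by
      rw [← hn, ← hn'', Ideal.under_def, Ideal.comap_comap, Ideal.comap_comap, e1]
      congr 1
    have hmax : (n''.under (integralClosure R (FractionRing R))).IsMaximal := by
      apply Ideal.isMaximal_of_isIntegral_of_isMaximal_comap (R := R)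
      rw [hcomap]
      infer_instance
    have hle : p' ≤ n''.under (integralClosure R (FractionRing R)) := by
      rw [IsLocalRing.eq_maximalIdeal hmax]
      exact IsLocalRing.le_maximalIdeal hp'prime.ne_top
    obtain ⟨Q, hQle, hQprime, hQover⟩ := Ideal.exists_ideal_le_liesOver_of_le
      (p := p') (q := n''.under (integralClosure R (FractionRing R))) n'' hle
    refine ⟨Q, hQprime, hQle, ?_⟩
    have h3 : Q.comap (ψ : integralClosure R (FractionRing R) →+*
        integralClosure R (FractionRing S)) = p' := (hQover.over).symm
    rw [h3, hp']
  -- Step 3: contract to `S`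
  refine ⟨q''.comap (φ : S →+* integralClosure R (FractionRing S)), ?_, ?_, ?_⟩
  · exact Ideal.comap_isPrime _ _
  · rw [← hn'']
    exact Ideal.comap_mono hq''le
  · rw [Ideal.comap_comap, e1]
    rw [Ideal.comap_comap, e2] at hq''
    exact hq''

end Groth.Agent.Lib.Helper8
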