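import Mathlib

/-!
# Versal algebras for polynomial systems with values in a finite free algebra, and the versal
idempotent algebra of a finite finitely presented algebra
-/

universe u

open TensorProduct

namespace Groth.Agent.Lib.Helper8.UnivFinAlg

section Coord

variable {A : Type u} [CommRing A] {C : Type u} [CommRing C] [Algebra A C]
  {ι : Type u} [Fintype ι] (b : Module.Basis ι A C)

theorem repr_map {S T : Type u} [CommRing S] [CommRing T] [Algebra A S] [Algebra A T]
    (ψ : S →ₐ[A] T) (x : S ⊗[A] C) (i : ι) :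
    (b.baseChange T).repr (Algebra.TensorProduct.map ψ (AlgHom.id A C) x) i =
      ψ ((b.baseChange S).repr x i) := by
  induction x using TensorProduct.induction_on with
  | zero => simp
  | tmul s c => simp
  | add x y hx hy => simp [hx, hy]

theorem map_eq_zero_iff {S T : Type u} [CommRing S] [CommRing T] [Algebra A S] [Algebra A T]
    (ψ : S →ₐ[A] T) (x : S ⊗[A] C) :
    Algebra.TensorProduct.map ψ (AlgHom.id A C) x = 0 ↔
      ∀ i, ψ ((b.baseChange S).repr x i) = 0 := by
  rw [← (b.baseChange T).repr.map_eq_zero_iff, Finsupp.ext_iff]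
  simp only [repr_map, Finsupp.zero_apply]

theorem map_map {C' : Type u} [CommRing C'] [Algebra A C'] {S T U : Type u} [CommRing S] [CommRing T]
    [CommRing U] [Algebra A S] [Algebra A T] [Algebra A U] (f : S →ₐ[A] T) (g : T →ₐ[A] U)
    (x : S ⊗[A] C') :
    Algebra.TensorProduct.map g (AlgHom.id A C') (Algebra.TensorProduct.map f (AlgHom.id A C') x) =
      Algebra.TensorProduct.map (g.comp f) (AlgHom.id A C') x := by
  induction x using TensorProduct.induction_on with
  | zero => simp
  | tmul s c => simp
  | add x y hx hy => simp [hx, hy]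

theorem map_comm {C' D : Type u} [CommRing C'] [Algebra A C'] [CommRing D] [Algebra A D]
    {S T : Type u} [CommRing S] [CommRing T] [Algebra A S] [Algebra A T] (φ : S →ₐ[A] T)
    (f : C' →ₐ[A] D) (x : S ⊗[A] C') :
    Algebra.TensorProduct.map φ (AlgHom.id A D) (Algebra.TensorProduct.map (AlgHom.id A S) f x) =
      Algebra.TensorProduct.map (AlgHom.id A T) f
        (Algebra.TensorProduct.map φ (AlgHom.id A C') x) := by
  induction x using TensorProduct.induction_on with
  | zero => simp
  | tmul s c => simp
  | add x y hx hy => simp [hx, hy]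

theorem sum_repr_tmul {T : Type u} [CommRing T] [Algebra A T] (y : T ⊗[A] C) :
    ∑ i, ((b.baseChange T).repr y i) ⊗ₜ[A] b i = y := by
  conv_rhs => rw [← (b.baseChange T).sum_repr y]
  refine Finset.sum_congr rfl fun i _ => ?_
  rw [Module.Basis.baseChange_apply, TensorProduct.smul_tmul', smul_eq_mul, mul_one]

end Coord

section GV

variable {A : Type u} [CommRing A] {C : Type u} [CommRing C] [Algebra A C]
  [Module.Finite A C] [Module.Free A C]

/-- Versal finitely presented algebra for the solutions in `T ⊗[A] C` of a finite system of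
polynomial equations with coefficients in a finite free `A`-algebra `C`. -/
theorem exists_versal_solution {σ κ : Type} [Finite σ] [Finite κ] (p : σ → MvPolynomial κ C) :
    ∃ (R : Type u) (_ : CommRing R) (_ : Algebra A R) (yu : κ → R ⊗[A] C),
      Algebra.FinitePresentation A R ∧
      (∀ s, MvPolynomial.eval₂
        (Algebra.TensorProduct.includeRight : C →ₐ[A] R ⊗[A] C).toRingHom yu (p s) = 0) ∧
      ∀ (T : Type u) [CommRing T] [Algebra A T] (y : κ → T ⊗[A] C),
        (∀ s, MvPolynomial.eval₂
          (Algebra.TensorProduct.includeRight : C →ₐ[A] T ⊗[A] C).toRingHom y (p s) = 0) →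
        ∃ φ : R →ₐ[A] T, ∀ k, Algebra.TensorProduct.map φ (AlgHom.id A C) (yu k) = y k := by
  classical
  let ι := Module.Free.ChooseBasisIndex A C
  let b : Module.Basis ι A C := Module.Free.chooseBasis A C
  cases nonempty_fintype κ
  cases nonempty_fintype σ
  let Sym := MvPolynomial (κ × ι) A
  let uv : κ → Sym ⊗[A] C := fun k => ∑ i, (MvPolynomial.X (k, i) : Sym) ⊗ₜ[A] b i
  let incS : C →+* Sym ⊗[A] C :=
    (Algebra.TensorProduct.includeRight : C →ₐ[A] Sym ⊗[A] C).toRingHom
  let x : σ → Sym ⊗[A] C := fun s => MvPolynomial.eval₂ incS uv (p s)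
  let I : Ideal Sym :=
    Ideal.span (Set.range fun q : σ × ι => (b.baseChange Sym).repr (x q.1) q.2)
  let R := Sym ⧸ I
  let mkR : Sym →ₐ[A] R := Ideal.Quotient.mkₐ A I
  have hcomp : ∀ {S T : Type u} [CommRing S] [CommRing T] [Algebra A S] [Algebra A T]
      (ψ : S →ₐ[A] T),
      (Algebra.TensorProduct.map ψ (AlgHom.id A C)).toRingHom.comp
        (Algebra.TensorProduct.includeRight : C →ₐ[A] S ⊗[A] C).toRingHom =
        (Algebra.TensorProduct.includeRight : C →ₐ[A] T ⊗[A] C).toRingHom := by
    intro S T _ _ _ _ ψ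
    ext c
    simp
  have heval : ∀ {S T : Type u} [CommRing S] [CommRing T] [Algebra A S] [Algebra A T]
      (ψ : S →ₐ[A] T) (y : κ → S ⊗[A] C) (q : MvPolynomial κ C),
      Algebra.TensorProduct.map ψ (AlgHom.id A C)
        (MvPolynomial.eval₂
          (Algebra.TensorProduct.includeRight : C →ₐ[A] S ⊗[A] C).toRingHom y q) =
        MvPolynomial.eval₂ (Algebra.TensorProduct.includeRight : C →ₐ[A] T ⊗[A] C).toRingHom
          (fun k => Algebra.TensorProduct.map ψ (AlgHom.id A C) (y k)) q := by
    intro S T _ _ _ _ ψ y q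
    have := MvPolynomial.eval₂_comp_left (Algebra.TensorProduct.map ψ (AlgHom.id A C)).toRingHom
      (Algebra.TensorProduct.includeRight : C →ₐ[A] S ⊗[A] C).toRingHom y q
    rw [hcomp ψ] at this
    exact this
  refine ⟨R, inferInstance, inferInstance,
    fun k => Algebra.TensorProduct.map mkR (AlgHom.id A C) (uv k), ?_, ?_, ?_⟩
  · exact Algebra.FinitePresentation.quotient (Submodule.fg_span (Set.finite_range _))
  · intro s
    rw [← heval mkR uv (p s)]
    rw [map_eq_zero_iff b]
    intro i
    change Ideal.Quotient.mk I _ = 0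
    rw [Ideal.Quotient.eq_zero_iff_mem]
    exact Ideal.subset_span ⟨(s, i), rfl⟩
  · intro T _ _ y hy
    let ψ : Sym →ₐ[A] T :=
      MvPolynomial.aeval fun q : κ × ι => (b.baseChange T).repr (y q.1) q.2
    have hψ : ∀ k, Algebra.TensorProduct.map ψ (AlgHom.id A C) (uv k) = y k := by
      intro k
      have h1 : ∀ i, ψ (MvPolynomial.X (k, i)) = (b.baseChange T).repr (y k) i := fun i =>
        MvPolynomial.aeval_X _ _
      simp only [uv, map_sum, Algebra.TensorProduct.map_tmul, AlgHom.id_apply, h1]
      exact sum_repr_tmul b (y k)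
    have hx : ∀ s, Algebra.TensorProduct.map ψ (AlgHom.id A C) (x s) = 0 := by
      intro s
      rw [heval ψ uv (p s)]
      simp only [hψ]
      exact hy s
    have hI : ∀ a ∈ I, ψ a = 0 := by
      intro a ha
      have : I ≤ RingHom.ker ψ := by
        rw [Ideal.span_le]
        rintro _ ⟨q, rfl⟩
        exact (map_eq_zero_iff b ψ (x q.1)).mp (hx q.1) q.2
      exact this ha
    let φ : R →ₐ[A] T := Ideal.Quotient.liftₐ I ψ hI
    have hφ : φ.comp mkR = ψ := by
      refine AlgHom.ext fun a => ?_
      change Ideal.Quotient.liftₐ I ψ hI (Ideal.Quotient.mk I a) = ψ a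
      rw [Ideal.Quotient.liftₐ_apply, Ideal.Quotient.lift_mk]
      rfl
    refine ⟨φ, fun k => ?_⟩
    rw [map_map, hφ, hψ]

end GV

end Groth.Agent.Lib.Helper8.UnivFinAlg
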