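import Mathlib
import Groth.Agent.Lib.Helper8.UnivFinAlg

/-!
# The versal idempotent algebra of a finite finitely presented algebra
-/

universe u

open TensorProduct

namespace Groth.Agent.Lib.Helper8.UnivFinAlg

theorem exists_sum_of_mem_map {R S : Type*} [CommRing R] [CommRing S] (h : R →+* S) {n : ℕ}
    (v : Fin n → R) {x : S} (hx : x ∈ (Ideal.span (Set.range v)).map h) :
    ∃ c : Fin n → S, x = ∑ i, c i * h (v i) := by
  rw [Ideal.map_span, ← Set.range_comp, Ideal.mem_span_range_iff_exists_fun] at hx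
  obtain ⟨c, hc⟩ := hx
  exact ⟨c, hc.symm⟩

/-- Variables of the system: `e`, `λ_k`, `ω_i`, `μ_k`. -/
abbrev Var (K r : ℕ) : Type := (Unit ⊕ Fin K) ⊕ (Fin r ⊕ Fin K)

/-- The versal idempotent algebra: for a finite finitely presented `A`-algebra `At` and a finitely
generated ideal `I`, there is a finitely presented `A`-algebra `Ru` with an idempotent of
`Ru ⊗ At` lying in the extension of `I`, versal for such idempotents. -/
theorem exists_versal_idempotent {A : Type u} [CommRing A] {At : Type u} [CommRing At]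
    [Algebra A At] [Module.Finite A At] [Algebra.FinitePresentation A At] (I : Ideal At)
    (hI : I.FG) :
    ∃ (Ru : Type u) (_ : CommRing Ru) (_ : Algebra A Ru) (eu : Ru ⊗[A] At),
      Algebra.FinitePresentation A Ru ∧ IsIdempotentElem eu ∧
      eu ∈ I.map (Algebra.TensorProduct.includeRight : At →ₐ[A] Ru ⊗[A] At) ∧
      ∀ (A' : Type u) [CommRing A'] [Algebra A A'] (e' : A' ⊗[A] At), IsIdempotentElem e' →
        e' ∈ I.map (Algebra.TensorProduct.includeRight : At →ₐ[A] A' ⊗[A] At) →
        ∃ φ : Ru →ₐ[A] A', Algebra.TensorProduct.map φ (AlgHom.id A At) eu = e' := by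
  classical
  obtain ⟨C, _, _, _, _, _, f, hf⟩ := Module.Finite.exists_free_surjective A At
  have hJ : (RingHom.ker f.toRingHom).FG := Algebra.FinitePresentation.ker_fG_of_surjective f hf
  obtain ⟨K, jj, hjj⟩ := Submodule.fg_iff_exists_fin_generating_family.mp hJ
  obtain ⟨r, g, hg⟩ := Submodule.fg_iff_exists_fin_generating_family.mp hI
  choose gt hgt using fun i => hf (g i)
  have hjj0 : ∀ k, f (jj k) = 0 := fun k => by
    have : jj k ∈ RingHom.ker f.toRingHom := hjj ▸ Submodule.subset_span ⟨k, rfl⟩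
    exact this
  let ve : Var K r := Sum.inl (Sum.inl ())
  let vl : Fin K → Var K r := fun k => Sum.inl (Sum.inr k)
  let vo : Fin r → Var K r := fun i => Sum.inr (Sum.inl i)
  let vm : Fin K → Var K r := fun k => Sum.inr (Sum.inr k)
  let p : Bool → MvPolynomial (Var K r) C := fun t =>
    if t then MvPolynomial.X ve ^ 2 - MvPolynomial.X ve
        - ∑ k, MvPolynomial.X (vl k) * MvPolynomial.C (jj k)
    else MvPolynomial.X ve - ∑ i, MvPolynomial.X (vo i) * MvPolynomial.C (gt i)
        - ∑ k, MvPolynomial.X (vm k) * MvPolynomial.C (jj k)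
  have hp1 : ∀ {S : Type u} [CommRing S] (h : C →+* S) (y : Var K r → S),
      MvPolynomial.eval₂ h y (p true) = y ve ^ 2 - y ve - ∑ k, y (vl k) * h (jj k) := by
    intro S _ h y
    simp [p, MvPolynomial.eval₂_sub, MvPolynomial.eval₂_pow, MvPolynomial.eval₂_mul]
  have hp2 : ∀ {S : Type u} [CommRing S] (h : C →+* S) (y : Var K r → S),
      MvPolynomial.eval₂ h y (p false) =
        y ve - ∑ i, y (vo i) * h (gt i) - ∑ k, y (vm k) * h (jj k) := by
    intro S _ h y
    simp [p, MvPolynomial.eval₂_sub, MvPolynomial.eval₂_mul]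
  obtain ⟨R, _, _, yu, hRfp, heq, hvers⟩ := exists_versal_solution (A := A) (C := C) p
  -- the maps `F_S = id ⊗ f`
  have hF : ∀ {S : Type u} [CommRing S] [Algebra A S] (c : C),
      Algebra.TensorProduct.map (AlgHom.id A S) f
        ((Algebra.TensorProduct.includeRight : C →ₐ[A] S ⊗[A] C).toRingHom c) =
        (Algebra.TensorProduct.includeRight : At →ₐ[A] S ⊗[A] At) (f c) := by
    intro S _ _ c
    simp
  let FR := Algebra.TensorProduct.map (AlgHom.id A R) f
  have h1 := congrArg FR (heq true)
  have h2 := congrArg FR (heq false)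
  rw [hp1] at h1
  rw [hp2] at h2
  simp only [map_sub, map_pow, map_sum, map_mul, map_zero, FR, hF, hjj0, mul_zero,
    Finset.sum_const_zero, sub_zero, hgt] at h1 h2
  refine ⟨R, inferInstance, inferInstance, FR (yu ve), hRfp, ?_, ?_, ?_⟩
  · change FR (yu ve) * FR (yu ve) = FR (yu ve)
    rw [← pow_two]
    exact sub_eq_zero.mp h1
  · rw [sub_eq_zero.mp h2]
    refine Ideal.sum_mem _ fun i _ => Ideal.mul_mem_left _ _ (Ideal.mem_map_of_mem _ ?_)
    exact hg ▸ Submodule.subset_span ⟨i, rfl⟩
  · intro A' _ _ e' he' hmem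
    let F' := Algebra.TensorProduct.map (AlgHom.id A A') f
    have hF's : Function.Surjective F' :=
      Algebra.TensorProduct.map_surjective (f := AlgHom.id A A') (g := f)
        Function.surjective_id hf
    have hker : ∀ d, F' d = 0 → ∃ c : Fin K → A' ⊗[A] C, d = ∑ k, c k *
        (Algebra.TensorProduct.includeRight : C →ₐ[A] A' ⊗[A] C).toRingHom (jj k) := by
      intro d hd
      have h3 : d ∈ RingHom.ker F' := hd
      rw [Algebra.TensorProduct.lTensor_ker f hf] at h3
      have h4 : RingHom.ker f = Ideal.span (Set.range jj) := by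
        rw [← Ideal.submodule_span_eq, hjj]
        rfl
      rw [h4] at h3
      exact exists_sum_of_mem_map _ jj h3
    rw [← hg] at hmem
    obtain ⟨ω', hω'⟩ := exists_sum_of_mem_map
      (Algebra.TensorProduct.includeRight : At →ₐ[A] A' ⊗[A] At).toRingHom g hmem
    obtain ⟨ε', hε'⟩ := hF's e'
    choose ωt hωt using fun i => hF's (ω' i)
    obtain ⟨lam, hlam⟩ := hker (ε' ^ 2 - ε') (by
      rw [map_sub, map_pow, hε', pow_two, he'.eq, sub_self])
    obtain ⟨mu, hmu⟩ := hker (ε' - ∑ i, ωt i *
        (Algebra.TensorProduct.includeRight : C →ₐ[A] A' ⊗[A] C).toRingHom (gt i)) (by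
      simp only [map_sub, map_sum, map_mul, F', hF, hgt]
      rw [← hε'] at hω'
      rw [sub_eq_zero, hω']
      refine Finset.sum_congr rfl fun i _ => ?_
      rw [hωt i]
      rfl)
    let y' : Var K r → A' ⊗[A] C := Sum.elim (Sum.elim (fun _ => ε') lam) (Sum.elim ωt mu)
    obtain ⟨φ, hφ⟩ := hvers A' y' (by
      intro t
      cases t
      · rw [hp2]
        simp only [y', ve, vo, vm, Sum.elim_inl, Sum.elim_inr]
        rw [← hmu, sub_self]
      · rw [hp1]
        simp only [y', ve, vl, Sum.elim_inl, Sum.elim_inr]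
        rw [← hlam, sub_self])
    refine ⟨φ, ?_⟩
    change Algebra.TensorProduct.map φ (AlgHom.id A At)
      (Algebra.TensorProduct.map (AlgHom.id A R) f (yu ve)) = e'
    rw [map_comm, hφ ve]
    exact hε'

end Groth.Agent.Lib.Helper8.UnivFinAlg
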