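import Mathlib
import Groth.Agent.Lib.Helper8.UnivFinAlg2

/-!
# The versal idempotent algebra, pushout form in `CommRingCat`
-/

universe u

open CategoryTheory Limits TensorProduct

namespace Groth.Agent.Lib.Helper8.UnivFinPush

open Groth.Agent.Lib.Helper8.UnivFinAlg

theorem exists_versal_idempotent_pushout {A At : CommRingCat.{u}} (φ : A ⟶ At)
    (hfin : φ.hom.Finite) (hfp : φ.hom.FinitePresentation) (I : Ideal At) (hI : I.FG) :
    ∃ (Ru : CommRingCat.{u}) (α : A ⟶ Ru), α.hom.FinitePresentation ∧
      ∀ (Pu : CommRingCat.{u}) (inl : At ⟶ Pu) (inr : Ru ⟶ Pu), IsPushout φ α inl inr →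
        ∃ eu : Pu, IsIdempotentElem eu ∧ eu ∈ I.map inl.hom ∧
          ∀ (A' : CommRingCat.{u}) (β : A ⟶ A') (P' : CommRingCat.{u}) (inl' : At ⟶ P')
            (inr' : A' ⟶ P'), IsPushout φ β inl' inr' → ∀ e' : P', IsIdempotentElem e' →
            e' ∈ I.map inl'.hom →
            ∃ γ : Ru ⟶ A', α ≫ γ = β ∧
              ∀ ψ : Pu ⟶ P', inl ≫ ψ = inl' → inr ≫ ψ = γ ≫ inr' → ψ.hom eu = e' := by
  algebraize [φ.hom]
  obtain ⟨Ru, _, _, eu, hRfp, hidem, hmem, hvers⟩ :=
    exists_versal_idempotent (A := A) (At := At) I hI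
  refine ⟨CommRingCat.of Ru, CommRingCat.ofHom (algebraMap A Ru), ?_, ?_⟩
  · rw [CommRingCat.hom_ofHom]
    exact RingHom.finitePresentation_algebraMap.mpr hRfp
  · intro Pu inl inr hPO
    have hT := CommRingCat.isPushout_tensorProduct A Ru At
    have hPOf : IsPushout (CommRingCat.ofHom (algebraMap A Ru))
        (CommRingCat.ofHom (algebraMap A At)) inr inl := hPO.flip
    let θ := hT.isoIsPushout _ _ hPOf
    have hθr : ∀ t : At, θ.hom.hom ((1 : Ru) ⊗ₜ[A] t) = inl.hom t := fun t => by
      have := hT.inr_isoIsPushout_hom _ _ hPOf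
      exact congr($(this).hom t)
    refine ⟨θ.hom.hom eu, hidem.map θ.hom.hom, ?_, ?_⟩
    · have : I.map (Algebra.TensorProduct.includeRight : At →ₐ[A] Ru ⊗[A] At) ≤
          (I.map inl.hom).comap θ.hom.hom := by
        refine Ideal.map_le_iff_le_comap.mpr fun t ht => ?_
        rw [Ideal.mem_comap, Ideal.mem_comap]
        have h0 : (Algebra.TensorProduct.includeRight : At →ₐ[A] Ru ⊗[A] At) t =
            (1 : Ru) ⊗ₜ[A] t := rfl
        rw [h0, hθr]
        exact Ideal.mem_map_of_mem _ ht
      exact this hmem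
    · intro A' β P' inl' inr' hPO' e' he' hmem'
      algebraize [β.hom]
      have hT' := CommRingCat.isPushout_tensorProduct A A' At
      have hPOf' : IsPushout (CommRingCat.ofHom (algebraMap A A'))
          (CommRingCat.ofHom (algebraMap A At)) inr' inl' := hPO'.flip
      let θ' := hT'.isoIsPushout _ _ hPOf'
      have hθ'r : ∀ t : At, θ'.inv.hom (inl'.hom t) = (1 : A') ⊗ₜ[A] t := fun t => by
        have := hT'.inr_isoIsPushout_inv _ _ hPOf'
        exact congr($(this).hom t)
      have hmemT : θ'.inv.hom e' ∈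
          I.map (Algebra.TensorProduct.includeRight : At →ₐ[A] A' ⊗[A] At) := by
        have : I.map inl'.hom ≤
            (I.map (Algebra.TensorProduct.includeRight : At →ₐ[A] A' ⊗[A] At)).comap
              θ'.inv.hom := by
          refine Ideal.map_le_iff_le_comap.mpr fun t ht => ?_
          rw [Ideal.mem_comap, Ideal.mem_comap, hθ'r]
          exact Ideal.mem_map_of_mem
            (Algebra.TensorProduct.includeRight : At →ₐ[A] A' ⊗[A] At) ht
        exact this hmem'
      obtain ⟨φ', hφ'⟩ := hvers A' (θ'.inv.hom e') (he'.map θ'.inv.hom) hmemT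
      refine ⟨CommRingCat.ofHom φ'.toRingHom, ?_, ?_⟩
      · ext a
        exact φ'.commutes a
      · intro ψ h1 h2
        have key : θ.hom ≫ ψ = CommRingCat.ofHom
            (Algebra.TensorProduct.map φ' (AlgHom.id A At)).toRingHom ≫ θ'.hom := by
          apply hT.hom_ext
          · rw [hT.inl_isoIsPushout_hom_assoc, h2]
            rw [← hT'.inl_isoIsPushout_hom _ _ hPOf']
            rw [← Category.assoc, ← Category.assoc]
            congr 1
            all_goals first | rfl | (ext a; simp)
          · rw [hT.inr_isoIsPushout_hom_assoc, h1]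
            rw [← hT'.inr_isoIsPushout_hom _ _ hPOf']
            rw [← Category.assoc]
            congr 1
            all_goals first | rfl | (ext a; simp)
        have h3 := congr($(key).hom eu)
        simp only [CommRingCat.hom_comp, RingHom.coe_comp, Function.comp_apply,
          CommRingCat.hom_ofHom] at h3
        rw [h3]
        change θ'.hom.hom (Algebra.TensorProduct.map φ' (AlgHom.id A At) eu) = e'
        rw [hφ']
        exact congr($(θ'.inv_hom_id).hom e')

end Groth.Agent.Lib.Helper8.UnivFinPush
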