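import Mathlib
import Groth.Agent.Lib.Helper8.UnivFinPush

/-!
# Versal clopen subschemes of a finite finitely presented morphism of affine schemes
-/

universe u

open CategoryTheory Limits AlgebraicGeometry TopologicalSpace

namespace Groth.Agent.Lib.Helper8.UnivFinSch

open Groth.Agent.Lib.Helper8.UnivFinPush

theorem mem_basicOpen_iff_notMem {X : Scheme.{u}} (r : Γ(X, ⊤)) (x : X) :
    x ∈ X.basicOpen r ↔ r ∉ (X.toSpecΓ x).asIdeal := by
  rw [← Scheme.toSpecΓ_preimage_basicOpen]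
  rfl

theorem isClosed_basicOpen_of_isIdempotentElem {X : Scheme.{u}} (e : Γ(X, ⊤))
    (he : IsIdempotentElem e) : IsClosed (X.basicOpen e : Set X) := by
  rw [← Scheme.toSpecΓ_preimage_basicOpen]
  exact (PrimeSpectrum.isClopen_iff.mpr ⟨e, he, rfl⟩).1.preimage X.toSpecΓ.continuous

theorem exists_idempotent_basicOpen_eq {P : Scheme.{u}} [IsAffine P] (E : P.Opens)
    (hE : IsClosed (E : Set P)) : ∃ e : Γ(P, ⊤), IsIdempotentElem e ∧ P.basicOpen e = E := by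
  have hcl : IsClopen (P.isoSpec.inv ⁻¹' (E : Set P)) :=
    ⟨hE.preimage P.isoSpec.inv.continuous, E.2.preimage P.isoSpec.inv.continuous⟩
  obtain ⟨e, he, heq⟩ := PrimeSpectrum.isClopen_iff.mp hcl
  refine ⟨e, he, ?_⟩
  ext x
  rw [SetLike.mem_coe, SetLike.mem_coe, mem_basicOpen_iff_notMem]
  have h1 : P.toSpecΓ x ∈ (P.isoSpec.inv ⁻¹' (E : Set P)) ↔ x ∈ E := by
    rw [Set.mem_preimage, ← Scheme.isoSpec_hom, Scheme.hom_inv_apply]
    rfl
  rw [← h1, heq]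
  rfl

theorem mem_of_mem_radical_of_isIdempotentElem {R : Type*} [CommRing R] {J : Ideal R} {e : R}
    (he : IsIdempotentElem e) (h : e ∈ J.radical) : e ∈ J := by
  obtain ⟨n, hn⟩ := h
  cases n with
  | zero =>
    rw [pow_zero] at hn
    rw [(Ideal.eq_top_iff_one J).mpr hn]
    trivial
  | succ n => rwa [he.pow_succ_eq] at hn

theorem exists_mem_basicOpen_of_mem_span {X : Scheme.{u}} (S : Set Γ(X, ⊤)) (e : Γ(X, ⊤))
    (he : e ∈ Ideal.span S) (x : X) (hx : x ∈ X.basicOpen e) :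
    ∃ g ∈ S, x ∈ X.basicOpen g := by
  by_contra h
  push_neg at h
  rw [mem_basicOpen_iff_notMem] at hx
  apply hx
  have : Ideal.span S ≤ (X.toSpecΓ x).asIdeal := by
    rw [Ideal.span_le]
    intro g hg
    have := h g hg
    rw [mem_basicOpen_iff_notMem, not_not] at this
    exact this
  exact this he

theorem mem_span_of_basicOpen_le {P : Scheme.{u}} [IsAffine P] (S : Set Γ(P, ⊤)) (e : Γ(P, ⊤))
    (he : IsIdempotentElem e) (h : ∀ x ∈ P.basicOpen e, ∃ g ∈ S, x ∈ P.basicOpen g) :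
    e ∈ Ideal.span S := by
  apply mem_of_mem_radical_of_isIdempotentElem he
  rw [Ideal.radical_eq_sInf, Submodule.mem_sInf]
  rintro 𝔭 ⟨h𝔭, h𝔭'⟩
  by_contra hne
  let y : Spec Γ(P, ⊤) := ⟨𝔭, h𝔭'⟩
  let x : P := P.isoSpec.inv y
  have hx : P.toSpecΓ x = y := by
    rw [← Scheme.isoSpec_hom]
    exact Scheme.inv_hom_apply _ _
  obtain ⟨g, hg, hxg⟩ := h x (by rw [mem_basicOpen_iff_notMem, hx]; exact hne)
  rw [mem_basicOpen_iff_notMem, hx] at hxg
  exact hxg (h𝔭 (Ideal.subset_span hg))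

theorem exists_finset_basicOpen {T : Scheme.{u}} [IsAffine T] (W : T.Opens)
    (hW : IsCompact (W : Set T)) :
    ∃ s : Finset Γ(T, ⊤), ∀ t : T, t ∈ W ↔ ∃ g ∈ s, t ∈ T.basicOpen g := by
  classical
  have hB := isBasis_basicOpen T
  have h1 : ∀ t : W, ∃ g : Γ(T, ⊤), (t : T) ∈ T.basicOpen g ∧ T.basicOpen g ≤ W := by
    intro t
    obtain ⟨_, ⟨g, rfl⟩, h1, h2⟩ := TopologicalSpace.Opens.isBasis_iff_nbhd.mp hB t.2
    exact ⟨g, h1, h2⟩
  choose g hg1 hg2 using h1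
  obtain ⟨s, hs⟩ := hW.elim_finite_subcover (fun t : W => (T.basicOpen (g t) : Set T))
    (fun t => (T.basicOpen (g t)).2) (fun t ht => Set.mem_iUnion.mpr ⟨⟨t, ht⟩, hg1 _⟩)
  refine ⟨s.image g, fun t => ⟨fun ht => ?_, ?_⟩⟩
  · obtain ⟨i, hi, hti⟩ := Set.mem_iUnion₂.mp (hs ht)
    exact ⟨g i, Finset.mem_image_of_mem _ hi, hti⟩
  · rintro ⟨_, hg, ht⟩
    obtain ⟨i, -, rfl⟩ := Finset.mem_image.mp hg
    exact hg2 i ht

theorem basicOpen_le_preimage_iff {P T : Scheme.{u}} [IsAffine P] (q : P ⟶ T) (W : T.Opens)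
    (s : Finset Γ(T, ⊤)) (hs : ∀ t, t ∈ W ↔ ∃ g ∈ s, t ∈ T.basicOpen g) (e : Γ(P, ⊤))
    (he : IsIdempotentElem e) :
    P.basicOpen e ≤ q ⁻¹ᵁ W ↔ e ∈ (Ideal.span (s : Set Γ(T, ⊤))).map q.appTop.hom := by
  rw [Ideal.map_span]
  constructor
  · intro h
    apply mem_span_of_basicOpen_le _ _ he
    intro x hx
    obtain ⟨g, hg, hxg⟩ := (hs (q x)).mp (h hx)
    refine ⟨q.appTop.hom g, ⟨g, hg, rfl⟩, ?_⟩
    have : x ∈ q ⁻¹ᵁ T.basicOpen g := hxg
    rwa [Scheme.preimage_basicOpen_top] at this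
  · intro h x hx
    obtain ⟨_, ⟨g, hg, rfl⟩, hxg⟩ := exists_mem_basicOpen_of_mem_span _ _ h x hx
    have : x ∈ q ⁻¹ᵁ T.basicOpen g := by
      rw [Scheme.preimage_basicOpen_top]
      exact hxg
    exact (hs (q x)).mpr ⟨g, hg, this⟩

end Groth.Agent.Lib.Helper8.UnivFinSch
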