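import Mathlib
import Groth.Agent.Lib.Helper8.UnivFinSch

/-!
# Versal clopen subschemes of a finite finitely presented morphism of affine schemes: core
-/

universe u

open CategoryTheory Limits AlgebraicGeometry TopologicalSpace

namespace Groth.Agent.Lib.Helper8.UnivFinSch

open Groth.Agent.Lib.Helper8.UnivFinPush

theorem core {T Y : Scheme.{u}} [IsAffine T] [IsAffine Y] (π : T ⟶ Y) [IsFinite π]
    [LocallyOfFinitePresentation π] (W : T.Opens) (hW : IsCompact (W : Set T)) :
    ∃ (Yu : Scheme.{u}) (a : Yu ⟶ Y) (Eu : (pullback π a).Opens), IsAffine Yu ∧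
      LocallyOfFinitePresentation a ∧ IsClosed (Eu : Set ↥(pullback π a)) ∧
      Eu ≤ (pullback.fst π a) ⁻¹ᵁ W ∧
      ∀ (Y' : Scheme.{u}) (b : Y' ⟶ Y) (E' : (pullback π b).Opens), IsAffine Y' →
        IsClosed (E' : Set ↥(pullback π b)) → E' ≤ (pullback.fst π b) ⁻¹ᵁ W →
        ∃ (c : Y' ⟶ Yu) (hc : c ≫ a = b),
          (pullback.map π b π a (𝟙 T) c (𝟙 Y)
            ((Category.comp_id π).trans (Category.id_comp π).symm)
            ((Category.comp_id b).trans hc.symm)) ⁻¹ᵁ Eu = E' := by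
  obtain ⟨s, hs⟩ := exists_finset_basicOpen W hW
  have hfin : π.appTop.hom.Finite := π.finite_appTop
  have hfp : π.appTop.hom.FinitePresentation :=
    (HasRingHomProperty.iff_of_isAffine (P := @LocallyOfFinitePresentation)).mp ‹_›
  obtain ⟨Ru, α, hα, H⟩ := exists_versal_idempotent_pushout π.appTop hfin hfp
    (Ideal.span (s : Set Γ(T, ⊤))) (Submodule.fg_span s.finite_toSet)
  let a : Spec Ru ⟶ Y := Spec.map α ≫ Y.isoSpec.inv
  have ha : a.appTop ≫ (Scheme.ΓSpecIso Ru).hom = α := by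
    simp only [a, Scheme.Hom.comp_appTop, Category.assoc, Scheme.ΓSpecIso_naturality]
    rw [← Category.assoc]
    have : Y.isoSpec.inv.appTop ≫ (Scheme.ΓSpecIso Γ(Y, ⊤)).hom = 𝟙 _ := by
      rw [← Scheme.toSpecΓ_appTop, ← Scheme.isoSpec_hom, ← Scheme.Hom.comp_appTop]
      simp
    rw [this, Category.id_comp]
  have hPO₀ : IsPushout π.appTop a.appTop (pullback.fst π a).appTop (pullback.snd π a).appTop :=
    isPushout_appTop_of_isPullback (IsPullback.of_hasPullback π a)
  have hPO : IsPushout π.appTop α (pullback.fst π a).appTop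
      ((Scheme.ΓSpecIso Ru).inv ≫ (pullback.snd π a).appTop) :=
    hPO₀.of_iso (Iso.refl _) (Iso.refl _) (Scheme.ΓSpecIso Ru) (Iso.refl _) (by simp)
      (by simp [ha]) (by simp) (by simp)
  obtain ⟨eu, heu, hmem, hvers⟩ := H _ _ _ hPO
  have hlfp : LocallyOfFinitePresentation a := by
    have : LocallyOfFinitePresentation (Spec.map α) :=
      (HasRingHomProperty.Spec_iff (P := @LocallyOfFinitePresentation)).mpr hα
    infer_instance
  refine ⟨Spec Ru, a, (pullback π a).basicOpen eu, inferInstance, hlfp,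
    isClosed_basicOpen_of_isIdempotentElem eu heu,
    (basicOpen_le_preimage_iff _ W s hs eu heu).mpr hmem, ?_⟩
  intro Y' b E' _ hE'cl hE'le
  have hPO' : IsPushout π.appTop b.appTop (pullback.fst π b).appTop (pullback.snd π b).appTop :=
    isPushout_appTop_of_isPullback (IsPullback.of_hasPullback π b)
  obtain ⟨e', he', rfl⟩ := exists_idempotent_basicOpen_eq E' hE'cl
  have hmem' := (basicOpen_le_preimage_iff _ W s hs e' he').mp hE'le
  obtain ⟨γ, hγ, hψ⟩ := hvers Γ(Y', ⊤) b.appTop _ _ _ hPO' e' he' hmem'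
  let c : Y' ⟶ Spec Ru := Y'.toSpecΓ ≫ Spec.map γ
  have hc : c ≫ a = b := by
    simp only [c, a, Category.assoc]
    rw [← Spec.map_comp_assoc, hγ, ← Scheme.toSpecΓ_naturality_assoc, ← Scheme.isoSpec_hom,
      Iso.hom_inv_id, Category.comp_id]
  have hcΓ : c.appTop = (Scheme.ΓSpecIso Ru).hom ≫ γ := by
    simp only [c, Scheme.Hom.comp_appTop, Scheme.toSpecΓ_appTop, Scheme.ΓSpecIso_naturality]
  refine ⟨c, hc, ?_⟩
  rw [Scheme.preimage_basicOpen_top]
  congr 1
  apply hψ
  · rw [← Scheme.Hom.comp_appTop, pullback.lift_fst, Category.comp_id]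
  · rw [Category.assoc, ← Scheme.Hom.comp_appTop, pullback.lift_snd, Scheme.Hom.comp_appTop, hcΓ,
      Category.assoc, Iso.inv_hom_id_assoc]

end Groth.Agent.Lib.Helper8.UnivFinSch
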