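import Mathlib
import Groth.Agent.Lib.Helper8.UnivFinCore
import Groth.Agent.Lib.Helper12.ZMTfp

/-!
# The versal finite open part of a quasi-finite finitely presented morphism of affine schemes
-/

universe u

open CategoryTheory Limits AlgebraicGeometry TopologicalSpace

namespace Groth.Agent.Lib.Helper8.UnivFinSch

section

variable {X T Y : Scheme.{u}} (f : X ⟶ Y) (j : X ⟶ T) (π : T ⟶ Y) (hfac : j ≫ π = f)

/-- The base change of `j` along `b`. -/
noncomputable abbrev jmap {Y' : Scheme.{u}} (b : Y' ⟶ Y) : pullback f b ⟶ pullback π b :=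
  pullback.map f b π b j (𝟙 Y') (𝟙 Y) ((Category.comp_id f).trans hfac.symm)
    ((Category.comp_id b).trans (Category.id_comp b).symm)

include hfac in
theorem isOpenImmersion_jmap [IsOpenImmersion j] {Y' : Scheme.{u}} (b : Y' ⟶ Y) :
    IsOpenImmersion (jmap f j π hfac b) :=
  MorphismProperty.pullbackMap (P := @IsOpenImmersion) (inferInstanceAs (IsOpenImmersion j))
    (inferInstanceAs (IsOpenImmersion (𝟙 Y'))) hfac.symm (Category.id_comp b).symm

theorem range_jmap {Y' : Scheme.{u}} (b : Y' ⟶ Y) :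
    Set.range (jmap f j π hfac b) = (pullback.fst π b) ⁻¹' Set.range j := by
  rw [jmap, Scheme.Pullback.range_map]
  simp

/-- The image of a finite open part is closed in the compactification. -/
theorem isClosed_image [IsSeparated π] [IsOpenImmersion j] {Y' : Scheme.{u}} (b : Y' ⟶ Y)
    (U' : (pullback f b).Opens) (hU' : IsFinite (U'.ι ≫ pullback.snd f b)) :
    IsClosed ((jmap f j π hfac b) '' (U' : Set ↥(pullback f b))) := by
  have h1 : (U'.ι ≫ jmap f j π hfac b) ≫ pullback.snd π b = U'.ι ≫ pullback.snd f b := by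
    rw [Category.assoc, pullback.lift_snd, Category.comp_id]
  haveI : UniversallyClosed ((U'.ι ≫ jmap f j π hfac b) ≫ pullback.snd π b) := by
    rw [h1]
    infer_instance
  haveI : UniversallyClosed (U'.ι ≫ jmap f j π hfac b) :=
    UniversallyClosed.of_comp_of_isSeparated _ (pullback.snd π b)
  have h2 := (U'.ι ≫ jmap f j π hfac b).isClosedMap.isClosed_range
  convert h2 using 1
  rw [Scheme.Hom.comp_base, TopCat.coe_comp, Set.range_comp, Scheme.Opens.range_ι]

/-- The preimage of a clopen part of the compactification lying in the image is finite. -/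
theorem isFinite_preimage [IsFinite π] [IsOpenImmersion j] {Y' : Scheme.{u}} (b : Y' ⟶ Y)
    (E : (pullback π b).Opens) (hEcl : IsClosed (E : Set ↥(pullback π b)))
    (hEle : E ≤ (pullback.fst π b) ⁻¹ᵁ j.opensRange) :
    IsFinite (((jmap f j π hfac b) ⁻¹ᵁ E).ι ≫ pullback.snd f b) := by
  haveI := isOpenImmersion_jmap f j π hfac b
  have h1 : ((jmap f j π hfac b) ⁻¹ᵁ E).ι ≫ pullback.snd f b =
      (((jmap f j π hfac b) ⁻¹ᵁ E).ι ≫ jmap f j π hfac b) ≫ pullback.snd π b := by
    rw [Category.assoc, pullback.lift_snd, Category.comp_id]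
  have hrange : Set.range (((jmap f j π hfac b) ⁻¹ᵁ E).ι ≫ jmap f j π hfac b) = (E : Set _) := by
    rw [Scheme.Hom.comp_base, TopCat.coe_comp, Set.range_comp, Scheme.Opens.range_ι]
    change (jmap f j π hfac b) '' ((jmap f j π hfac b) ⁻¹' (E : Set _)) = _
    rw [Set.image_preimage_eq_inter_range, range_jmap]
    exact Set.inter_eq_left.mpr fun x hx => hEle hx
  haveI : IsClosedImmersion (((jmap f j π hfac b) ⁻¹ᵁ E).ι ≫ jmap f j π hfac b) :=
    IsClosedImmersion.of_isPreimmersion _ (hrange ▸ hEcl)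
  rw [h1]
  infer_instance

end

theorem main {X Y : Scheme.{u}} (f : X ⟶ Y) [IsAffine X] [IsAffine Y] [LocallyQuasiFinite f]
    [LocallyOfFinitePresentation f] :
    ∃ (Yu : Scheme.{u}) (a : Yu ⟶ Y) (Uu : (pullback f a).Opens),
      LocallyOfFinitePresentation a ∧ QuasiCompact a ∧ QuasiSeparated a ∧
      IsFinite (Uu.ι ≫ pullback.snd f a) ∧
      ∀ (Y' : Scheme.{u}) (b : Y' ⟶ Y) (U' : (pullback f b).Opens), IsAffine Y' →
        IsFinite (U'.ι ≫ pullback.snd f b) →
        ∃ (c : Y' ⟶ Yu) (hc : c ≫ a = b),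
          (pullback.map f b f a (𝟙 X) c (𝟙 Y)
            ((Category.comp_id f).trans (Category.id_comp f).symm)
            ((Category.comp_id b).trans hc.symm)) ⁻¹ᵁ Uu = U' := by
  obtain ⟨T, j, π, _, _, _, _, hfac⟩ := Groth.Agent.Lib.Helper12.ZMTfp.exists_factorization f
  haveI : IsAffine T := isAffine_of_isAffineHom π
  obtain ⟨Yu, a, Eu, _, _, hEcl, hEle, hvers⟩ := core π j.opensRange
    (by simpa using isCompact_range j.continuous)
  refine ⟨Yu, a, (jmap f j π hfac a) ⁻¹ᵁ Eu, inferInstance, inferInstance, inferInstance,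
    isFinite_preimage f j π hfac a Eu hEcl hEle, ?_⟩
  intro Y' b U' _ hU'
  haveI := isOpenImmersion_jmap f j π hfac b
  have hE'cl := isClosed_image f j π hfac b U' hU'
  have hE'le : (jmap f j π hfac b) ''ᵁ U' ≤ (pullback.fst π b) ⁻¹ᵁ j.opensRange := by
    rintro _ ⟨x, -, rfl⟩
    refine ⟨pullback.fst f b x, ?_⟩
    change j (pullback.fst f b x) = pullback.fst π b (jmap f j π hfac b x)
    rw [← Scheme.Hom.comp_apply, ← Scheme.Hom.comp_apply, jmap, pullback.lift_fst]
  obtain ⟨c, hc, hceq⟩ := hvers Y' b ((jmap f j π hfac b) ''ᵁ U') inferInstance hE'cl hE'le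
  refine ⟨c, hc, ?_⟩
  have hcomm : pullback.map f b f a (𝟙 X) c (𝟙 Y)
      ((Category.comp_id f).trans (Category.id_comp f).symm)
      ((Category.comp_id b).trans hc.symm) ≫ jmap f j π hfac a =
      jmap f j π hfac b ≫ pullback.map π b π a (𝟙 T) c (𝟙 Y)
        ((Category.comp_id π).trans (Category.id_comp π).symm)
        ((Category.comp_id b).trans hc.symm) := by
    apply pullback.hom_ext
    · rw [Category.assoc, Category.assoc, jmap, jmap, pullback.lift_fst, pullback.lift_fst,
        pullback.lift_fst_assoc, Category.comp_id, Category.comp_id, pullback.lift_fst]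
    · rw [Category.assoc, Category.assoc, jmap, jmap, pullback.lift_snd, pullback.lift_snd,
        pullback.lift_snd_assoc, Category.comp_id, pullback.lift_snd_assoc, Category.comp_id]
  rw [← Scheme.Hom.comp_preimage, hcomm, Scheme.Hom.comp_preimage, hceq,
    Scheme.Hom.preimage_image_eq]

end Groth.Agent.Lib.Helper8.UnivFinSch
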