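/-
Helper8 library (SGA 3 VI_B-type lemma): a locally quasi-finite `S`-morphism `u : X ⟶ 𝔸ⁿ_S`, with
`X ⟶ S` locally of finite presentation and universally open at the generic point `z` of an
`n`-dimensional irreducible component `Z` of a fibre, is universally open at every point of `Z`.
No hypothesis on `S`: the argument goes through base change to valuation rings, where `𝔸ⁿ_V` is
normal and going-down holds at quasi-finite points.
-/
import Mathlib
import Groth.Prelude.Def_Found
import Groth.Prelude.Def_EGA43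
import Groth.Agent.Lib.Helper8.UnivOpenVal
import Groth.Agent.Lib.Helper8.QFGoingDownFT
import Groth.Agent.Lib.Helper8.AffSpaceNormal
import Groth.Agent.Lib.Helper12.AffSpace
import Groth.Agent.Lib.Helper12.QFAffine
import Groth.Agent.Lib.Helper12.UnivOpenDim
import Groth.Agent.Lib.Helper12.GenericPts

set_option autoImplicit false
set_option linter.style.haveILetI false
universe u
open IsLocalRing AlgebraicGeometry CategoryTheory CategoryTheory.Limits

namespace Groth.Agent.Lib.Helper8.UnivOpenAffSpace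

open Groth.Agent.Lib.Helper12 Groth.Agent.Lib.Helper12.SchemeDimFT
open Groth.Agent.Lib.Helper12.SchemeDimIneq

/-- `f ≫ g` locally of finite presentation, `g` locally of finite type ⟹ `f` l.f.p.
(proof text adapted from `Helper17.FlatStageRel.lfp_of_comp`). -/
theorem lfp_of_comp {X Y S : Scheme.{u}} (f : X ⟶ Y) (g : Y ⟶ S)
    (h : LocallyOfFinitePresentation (f ≫ g)) (hg : LocallyOfFiniteType g) :
    LocallyOfFinitePresentation f := by
  wlog hZ : IsAffine S generalizing X Y S
  · rw [IsZariskiLocalAtTarget.iff_of_iSup_eq_top (P := @LocallyOfFinitePresentation) _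
      (g.iSup_preimage_eq_top (iSup_affineOpens_eq_top S))]
    intro U
    have H := IsZariskiLocalAtTarget.restrict h U.1
    rw [morphismRestrict_comp] at H
    exact this _ _ H (IsZariskiLocalAtTarget.restrict hg U.1) inferInstance
  wlog hY : IsAffine Y generalizing X Y
  · rw [IsZariskiLocalAtTarget.iff_of_iSup_eq_top (P := @LocallyOfFinitePresentation) _
      (iSup_affineOpens_eq_top Y)]
    intro U
    have H : LocallyOfFinitePresentation ((f ⁻¹ᵁ U.1).ι ≫ f ≫ g) := inferInstance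
    rw [← morphismRestrict_ι_assoc] at H
    exact this _ _ H (inferInstance : LocallyOfFiniteType (U.1.ι ≫ g)) U.2
  wlog hX : IsAffine X generalizing X
  · rw [IsZariskiLocalAtSource.iff_of_iSup_eq_top (P := @LocallyOfFinitePresentation) _
      (iSup_affineOpens_eq_top X)]
    intro U
    have H : LocallyOfFinitePresentation (U.1.ι ≫ f ≫ g) := inferInstance
    rw [← Category.assoc] at H
    exact this _ H U.2
  rw [HasRingHomProperty.iff_of_isAffine (P := @LocallyOfFinitePresentation)] at h ⊢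
  rw [HasRingHomProperty.iff_of_isAffine (P := @LocallyOfFiniteType)] at hg
  rw [Scheme.Hom.comp_appTop, CommRingCat.hom_comp] at h
  exact RingHom.FinitePresentation.of_comp_finiteType _ h hg

/-- Facts about the generic point of an `n`-dimensional irreducible component of a fibre. -/
theorem fibre_component_facts {X S : Scheme.{u}} (f : X ⟶ S) [LocallyOfFiniteType f] (s : S)
    (n : ℕ) (Z : Set ↥(f.base ⁻¹' {s})) (hZ : Z ∈ irreducibleComponents ↥(f.base ⁻¹' {s}))
    (z : X) (hz : z ∈ Subtype.val '' Z ∧ Subtype.val '' Z ⊆ closure {z})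
    (hdimZ : topologicalKrullDim ↥Z = n) :
    f.base z = s ∧ (∀ t : X, f.base t = f.base z → t ⤳ z → t = z) ∧ trn f z = (n : ℕ∞) := by
  obtain ⟨⟨z₀, hz₀Z, hz₀⟩, hcl⟩ := hz
  have hfz : f.base z = s := by rw [← hz₀]; exact z₀.2
  have hz₀' : z₀ = ⟨z, hfz⟩ := Subtype.ext hz₀
  have hZcl : IsClosed Z := isClosed_of_mem_irreducibleComponents Z hZ
  have hZeq : Z = closure ({z₀} : Set ↥(f.base ⁻¹' {s})) := by
    apply Set.Subset.antisymm
    · intro a ha
      rw [closure_subtype, Set.image_singleton, hz₀]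
      exact hcl ⟨a, ha, rfl⟩
    · exact hZcl.closure_subset_iff.mpr (Set.singleton_subset_iff.mpr hz₀Z)
  refine ⟨hfz, ?_, ?_⟩
  · intro t ht hsp
    have ht' : f.base t = s := ht.trans hfz
    have h1 : (⟨t, ht'⟩ : ↥(f.base ⁻¹' {s})) ⤳ z₀ := by
      rw [hz₀']
      exact Topology.IsInducing.subtypeVal.specializes_iff.mp hsp
    have hcomp : closure ({z₀} : Set ↥(f.base ⁻¹' {s})) ∈
        irreducibleComponents ↥(f.base ⁻¹' {s}) := hZeq ▸ hZ
    have h2 := Groth.Agent.Lib.Helper12.eq_of_specializes_of_mem_irreducibleComponents hcomp h1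
    exact (congrArg Subtype.val h2).trans hz₀
  · let w : f.fiber s := (f.fiberHomeo s).symm z₀
    have hw : (f.fiberι s).base w = z := by
      rw [← hz₀]; exact f.fiberι_fiberHomeo_symm s z₀
    have e1 := ClosedSub.trn_eq_tr_of_fiber f z s hfz w hw
    letI ovF : (f.fiber s).Over (Spec (CommRingCat.of (S.residueField s))) :=
      ⟨f.fiberToSpecResidueField s⟩
    haveI : LocallyOfFiniteType ((f.fiber s) ↘ Spec (CommRingCat.of (S.residueField s))) :=
      FibreRes.locallyOfFiniteType_fiberToSpecResidueField f s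
    have e2 := topologicalKrullDim_closure_singleton (S.residueField s) (f.fiber s) w
    have e3 := BaseChange.topologicalKrullDim_closure_singleton_homeomorph (f.fiberHomeo s) w
    have e4 : (f.fiberHomeo s) w = z₀ := (f.fiberHomeo s).apply_symm_apply z₀
    rw [e4, ← hZeq, hdimZ] at e3
    rw [e3] at e2
    rw [e1]
    have : (n : ℕ) = tr (S.residueField s) (f.fiber s) w := by exact_mod_cast e2
    rw [this]

section Core

variable {X S : Scheme.{u}} (n : ℕ) (f : X ⟶ S) (u : X ⟶ 𝔸(ULift.{u} (Fin n); S))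

set_option maxHeartbeats 1600000 in
theorem core [LocallyOfFinitePresentation f] [LocallyOfFinitePresentation u] [LocallyQuasiFinite u]
    (hu : u ≫ (𝔸(ULift.{u} (Fin n); S) ↘ S) = f)
    (x z : X) (hzx : z ⤳ x) (hfzx : f.base z = f.base x)
    (hzmax : ∀ t : X, f.base t = f.base z → t ⤳ z → t = z)
    (htrn : trn f z = (n : ℕ∞))
    (hopen : EGA43.IsUnivOpenAt f z)
    (V : Type u) [CommRing V] [IsDomain V] [ValuationRing V]
    (ψ : Spec (CommRingCat.of V) ⟶ 𝔸(ULift.{u} (Fin n); S)) (η : Spec (CommRingCat.of V))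
    (hη : ∀ t : Spec (CommRingCat.of V), η ⤳ t)
    (w₀ : ↥(pullback u ψ)) (hw₀x : (pullback.fst u ψ).base w₀ = x)
    (hw₀c : (pullback.snd u ψ).base w₀ = closedPoint V) :
    ∃ w₁ : ↥(pullback u ψ), w₁ ⤳ w₀ ∧ (pullback.snd u ψ).base w₁ = η := by
  haveI : LocallyOfFiniteType f := inferInstance
  haveI : LocallyOfFiniteType u := inferInstance
  let SV : Scheme.{u} := Spec (CommRingCat.of V)
  let σ : SV ⟶ S := ψ ≫ (𝔸(ULift.{u} (Fin n); S) ↘ S)
  let PV : Scheme.{u} := 𝔸(ULift.{u} (Fin n); SV)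
  let qV : PV ⟶ SV := PV ↘ SV
  let m : PV ⟶ 𝔸(ULift.{u} (Fin n); S) := AffineSpace.map (ULift.{u} (Fin n)) σ
  have hPV : IsPullback m qV (𝔸(ULift.{u} (Fin n); S) ↘ S) σ := AffineSpace.isPullback_map σ
  let ψV : SV ⟶ PV := hPV.lift ψ (𝟙 SV) (by simp [σ])
  have hψVm : ψV ≫ m = ψ := hPV.lift_fst _ _ _
  have hψVq : ψV ≫ qV = 𝟙 SV := hPV.lift_snd _ _ _
  let XV : Scheme.{u} := pullback f σ
  let π : XV ⟶ X := pullback.fst f σ
  let fV : XV ⟶ SV := pullback.snd f σ
  have hXVsq : IsPullback π fV f σ := IsPullback.of_hasPullback f σ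
  let uV : XV ⟶ PV := hPV.lift (π ≫ u) fV (by rw [Category.assoc, hu]; exact hXVsq.w)
  have huVm : uV ≫ m = π ≫ u := hPV.lift_fst _ _ _
  have huVq : uV ≫ qV = fV := hPV.lift_snd _ _ _
  have hXV : IsPullback π uV u m := by
    have hbig : IsPullback (uV ≫ qV) π σ (u ≫ (𝔸(ULift.{u} (Fin n); S) ↘ S)) := by
      rw [huVq, hu]; exact hXVsq.flip
    exact (IsPullback.of_right hbig huVm hPV.flip).flip
  -- the fibre product `T = X_V ×_{P_V} Spec V` and its identification with `X ×_P Spec V`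
  let T : Scheme.{u} := pullback uV ψV
  let aT : T ⟶ XV := pullback.fst uV ψV
  let bT : T ⟶ SV := pullback.snd uV ψV
  have hT : IsPullback (aT ≫ π) bT u ψ := by
    have h1 := (IsPullback.of_hasPullback uV ψV).paste_horiz hXV
    rwa [hψVm] at h1
  let eT : T ≅ pullback u ψ := hT.isoPullback
  have heT1 : eT.inv ≫ (aT ≫ π) = pullback.fst u ψ := hT.isoPullback_inv_fst
  have heT2 : eT.inv ≫ bT = pullback.snd u ψ := hT.isoPullback_inv_snd
  have heT3 : eT.hom ≫ pullback.snd u ψ = bT := hT.isoPullback_hom_snd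
  let t₀ : T := eT.inv.base w₀
  let xV : XV := aT.base t₀
  have hxVπ : π.base xV = x := by
    rw [← hw₀x, ← heT1]; rfl
  have hbt₀ : bT.base t₀ = closedPoint V := by
    rw [← hw₀c, ← heT2]; rfl
  have hcondT : uV.base xV = ψV.base (bT.base t₀) :=
    congrArg (fun k : T ⟶ PV => k.base t₀) (pullback.condition (f := uV) (g := ψV))
  -- a maximal point of the special fibre of `X_V` over `z`, generizing `x_V`
  obtain ⟨zV', hzV'sp, hzV'π, hzV'f⟩ := UnivOpenVal.exists_generization_over f σ xV z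
    (by rw [show (pullback.fst f σ).base xV = x from hxVπ]; exact hzx)
    (by rw [show (pullback.fst f σ).base xV = x from hxVπ]; exact hfzx)
  haveI : LocallyOfFiniteType fV :=
    MorphismProperty.pullback_snd (P := @LocallyOfFiniteType) f σ inferInstance
  obtain ⟨zV, hzVf, hzVsp, hzVmax⟩ := EquidimOpen.exists_max_generization_in_fibre fV zV'
  have hπzV : π.base zV = z := by
    apply hzmax
    · have c1 : f.base (π.base zV) = σ.base (fV.base zV) :=
        congrArg (fun k : XV ⟶ S => k.base zV) hXVsq.w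
      have c2 : f.base (π.base zV') = σ.base (fV.base zV') :=
        congrArg (fun k : XV ⟶ S => k.base zV') hXVsq.w
      rw [c1, hzVf, ← c2]
      exact congrArg f.base hzV'π
    · have := hzVsp.map π.continuous
      rwa [show π.base zV' = z from hzV'π] at this
  obtain ⟨-, htrnV⟩ := BaseChange.max_fibre_pullback f σ zV (fun t ht hsp => hzVmax t ht hsp)
  have htrnzV : trn fV zV = (n : ℕ∞) := by
    rw [show trn fV zV = trn f (π.base zV) from htrnV, hπzV, htrn]
  -- a generization `ξ` of `z_V` over the generic point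
  have hopenV : EGA43.IsOpenAt fV.base zV := hopen SV σ zV hπzV
  obtain ⟨ξ, hξsp, hξη⟩ := (Groth.Agent.S3404.result fV zV).1 hopenV η (hη _)
  obtain ⟨hdom, hval⟩ := ValStalk.stalk_valuation' V (fV.base zV)
  haveI := hdom
  haveI := hval
  have h7 : trn fV zV ≤ trn fV ξ := ValDim.trn_le_of_valuationRing_stalk fV zV ξ hξsp
  haveI : LocallyQuasiFinite uV :=
    MorphismProperty.of_isPullback (P := @LocallyQuasiFinite) hXV inferInstance
  haveI : LocallyOfFiniteType uV :=
    MorphismProperty.of_isPullback (P := @LocallyOfFiniteType) hXV inferInstance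
  have h8 : trn fV ξ = trn qV (uV.base ξ) + trn uV ξ := by
    rw [← huVq]; exact JacDim.trn_comp uV qV ξ
  have h9 : trn uV ξ = 0 := QFAffine.trn_eq_zero_of_locallyQuasiFinite uV ξ
  have h10 : trn qV (uV.base ξ) ≤ (n : ℕ∞) := AffSpace.trn_le n SV (uV.base ξ)
  have h11 : trn qV (uV.base ξ) = (n : ℕ∞) := by
    refine le_antisymm h10 ?_
    rw [← htrnzV]
    refine h7.trans (le_of_eq ?_)
    rw [h8, h9, add_zero]
  have hηmax : IsMaxPt η := fun t ht => (ht.antisymm (hη t)).eq
  have hqξ : qV.base (uV.base ξ) = η := by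
    rw [← hξη, ← huVq]; rfl
  have hmaxξ : IsMaxPt (uV.base ξ) :=
    AffSpace.isMaxPt_of_trn_eq n SV (uV.base ξ) (by rw [hqξ]; exact hηmax) h11
  -- the integral closed subscheme with generic point `ξ`
  let X₁ : Scheme.{u} := ClosedSub.clSub XV ξ
  let ι : X₁ ⟶ XV := ClosedSub.clSubι XV ξ
  let f₁ : X₁ ⟶ PV := ι ≫ uV
  haveI : LocallyOfFiniteType f₁ := inferInstance
  haveI : LocallyQuasiFinite f₁ := inferInstance
  let j : pullback f₁ ψV ⟶ T :=
    pullback.map f₁ ψV uV ψV ι (𝟙 SV) (𝟙 PV) (by simp [f₁]) (by simp)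
  have hjr : Set.range j.base =
      aT.base ⁻¹' Set.range ι.base ∩ bT.base ⁻¹' Set.range (𝟙 SV : SV ⟶ SV).base :=
    Scheme.Pullback.range_map f₁ ψV uV ψV ι (𝟙 SV) (𝟙 PV) _ _
  have hξxV : ξ ⤳ xV := hξsp.trans (hzVsp.trans hzV'sp)
  obtain ⟨p₀, hp₀⟩ : t₀ ∈ Set.range j.base := by
    rw [hjr]
    refine ⟨?_, ?_⟩
    · show aT.base t₀ ∈ Set.range ι.base
      rw [ClosedSub.range_clSubι]; exact specializes_iff_mem_closure.mp hξxV
    · exact ⟨bT.base t₀, rfl⟩
  have hj2 : j ≫ bT = pullback.snd f₁ ψV ≫ 𝟙 SV := pullback.lift_snd _ _ _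
  have hsnd : ∀ p : ↥(pullback f₁ ψV), bT.base (j.base p) = (pullback.snd f₁ ψV).base p := by
    intro p
    have := congrArg (fun k : pullback f₁ ψV ⟶ SV => k.base p) hj2
    simpa using this
  have hsndp₀ : (pullback.snd f₁ ψV).base p₀ = closedPoint V := by
    rw [← hsnd, hp₀, hbt₀]
  have hmax₁ : ∀ ξ₁ : X₁, (∀ ξ' : X₁, ξ' ⤳ ξ₁ → ξ' = ξ₁) →
      ∀ η' : PV, η' ⤳ f₁.base ξ₁ → η' = f₁.base ξ₁ := by
    intro ξ₁ hξ₁ η' hη'
    have h1 : genericPoint X₁ = ξ₁ := hξ₁ _ (genericPoint_specializes ξ₁)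
    have h2 : f₁.base ξ₁ = uV.base ξ := by
      rw [← h1]
      show uV.base (ι.base (genericPoint X₁)) = _
      rw [ClosedSub.clSubι_genericPoint]
    rw [h2] at hη' ⊢
    exact hmaxξ η' hη'
  obtain ⟨p₁, hp₁sp, hp₁η⟩ := QFGoingDownFT.exists_generization_of_geomUnibranch f₁
    ((pullback.fst f₁ ψV).base p₀)
    (AffSpaceNormal.isGeomUnibranch_stalk_affineSpace V n _) hmax₁ ψV p₀ rfl η
    (by rw [hsndp₀]; exact hη _)
  refine ⟨eT.hom.base (j.base p₁), ?_, ?_⟩
  · have h1 := (hp₁sp.map j.continuous).map eT.hom.continuous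
    rw [hp₀] at h1
    have h2 : eT.hom.base t₀ = w₀ := by
      show eT.hom.base (eT.inv.base w₀) = w₀
      rw [← Scheme.Hom.comp_apply, eT.inv_hom_id]; rfl
    rwa [h2] at h1
  · have h1 : (pullback.snd u ψ).base (eT.hom.base (j.base p₁)) = bT.base (j.base p₁) := by
      rw [← heT3]; rfl
    rw [h1, hsnd, hp₁η]

end Core

/-- **Main statement.** -/
theorem isUnivOpenAt_toAffineSpace (X S : Scheme.{u}) (f : X ⟶ S) [LocallyOfFinitePresentation f]
    (s : S) (x : X) (hxs : f.base x = s) (n : ℕ)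
    (u : X ⟶ 𝔸(ULift.{u} (Fin n); S)) [LocallyQuasiFinite u]
    (hu : u ≫ (𝔸(ULift.{u} (Fin n); S) ↘ S) = f)
    (Z : Set ↥(f.base ⁻¹' {s})) (hZ : Z ∈ irreducibleComponents ↥(f.base ⁻¹' {s}))
    (hxZ : x ∈ (Subtype.val '' Z))
    (z : X) (hz : z ∈ Subtype.val '' Z ∧ Subtype.val '' Z ⊆ closure {z})
    (hopen : EGA43.IsUnivOpenAt f z) (hdimZ : topologicalKrullDim ↥Z = n) :
    EGA43.IsUnivOpenAt u x := by
  haveI : LocallyOfFiniteType f := inferInstance
  obtain ⟨hfz, hzmax, htrn⟩ := fibre_component_facts f s n Z hZ z hz hdimZ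
  have hzx : z ⤳ x := specializes_iff_mem_closure.mpr (hz.2 hxZ)
  haveI : LocallyOfFinitePresentation u :=
    lfp_of_comp u (𝔸(ULift.{u} (Fin n); S) ↘ S) (by rw [hu]; infer_instance) inferInstance
  refine UnivOpenVal.isUnivOpenAt_of_valuative u x ?_
  intro V _ _ _ ψ η hη w₀ hw₀x hw₀c
  exact core n f u hu x z hzx (hfz.trans hxs.symm) hzmax htrn hopen V ψ η hη w₀ hw₀x hw₀c

end Groth.Agent.Lib.Helper8.UnivOpenAffSpace
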