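import Mathlib
import Groth.Prelude

/-
Universal first order thickenings (ring level, `OmegaSh.IsUnivThickeningRing`) localize:
at a multiplicative subset of the base (`UnivThick.base`) and of the algebra (`UnivThick.comap`).
-/

universe u

namespace Groth.Agent.Lib.Helper8.UnivThick

open OmegaSh

theorem base (A B B' : Type u) [CommRing A] [CommRing B]
    [CommRing B'] [Algebra A B] [Algebra A B'] (π : B' →ₐ[A] B)
    (hπ : OmegaSh.IsUnivThickeningRing A B B' π) (S : Submonoid A)
    (AS BS B'S : Type u) [CommRing AS] [CommRing BS] [CommRing B'S]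
    [Algebra A AS] [IsLocalization S AS]
    [Algebra B BS] [IsLocalization (Algebra.algebraMapSubmonoid B S) BS]
    [Algebra B' B'S] [IsLocalization (Algebra.algebraMapSubmonoid B' S) B'S]
    [Algebra AS BS] [Algebra A BS] [IsScalarTower A AS BS] [IsScalarTower A B BS]
    [Algebra AS B'S] [Algebra A B'S] [IsScalarTower A AS B'S] [IsScalarTower A B' B'S]
    (πS : B'S →ₐ[AS] BS) (hπS : ∀ x : B', πS (algebraMap B' B'S x) = algebraMap B BS (π x)) :
    OmegaSh.IsUnivThickeningRing AS BS B'S πS := by
  obtain ⟨hsurj, hsq, huniv⟩ := hπ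
  have hunitB : ∀ a ∈ S, IsUnit (algebraMap B BS (algebraMap A B a)) := fun a ha =>
    IsLocalization.map_units BS (⟨algebraMap A B a, ⟨a, ha, rfl⟩⟩ : Algebra.algebraMapSubmonoid B S)
  have hunitB' : ∀ a ∈ S, IsUnit (algebraMap B' B'S (algebraMap A B' a)) := fun a ha =>
    IsLocalization.map_units B'S
      (⟨algebraMap A B' a, ⟨a, ha, rfl⟩⟩ : Algebra.algebraMapSubmonoid B' S)
  have hπa : ∀ a : A, πS (algebraMap B' B'S (algebraMap A B' a)) =
      algebraMap B BS (algebraMap A B a) := fun a => by rw [hπS, AlgHom.commutes]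
  refine ⟨?_, ?_, ?_⟩
  · intro y
    obtain ⟨b, s, rfl⟩ := IsLocalization.exists_mk'_eq (Algebra.algebraMapSubmonoid B S) y
    obtain ⟨a, ha, has⟩ := s.2
    obtain ⟨b', rfl⟩ := hsurj b
    refine ⟨IsLocalization.mk' B'S b'
      (⟨algebraMap A B' a, ⟨a, ha, rfl⟩⟩ : Algebra.algebraMapSubmonoid B' S), ?_⟩
    apply (hunitB a ha).mul_left_injective
    simp only
    rw [← hπa, ← map_mul, IsLocalization.mk'_spec, hπS, hπa, has, IsLocalization.mk'_spec]
  · have hle : RingHom.ker πS.toRingHom ≤
        Ideal.map (algebraMap B' B'S) (RingHom.ker π.toRingHom) := by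
      intro x hx
      have hx' : πS x = 0 := hx
      obtain ⟨b', s, rfl⟩ := IsLocalization.exists_mk'_eq (Algebra.algebraMapSubmonoid B' S) x
      obtain ⟨a, ha, has⟩ := s.2
      have h1 : πS (algebraMap B' B'S b') = 0 := by
        rw [← IsLocalization.mk'_spec B'S b' s, map_mul, hx', zero_mul]
      rw [hπS, IsLocalization.map_eq_zero_iff (Algebra.algebraMapSubmonoid B S)] at h1
      obtain ⟨t, h2⟩ := h1
      obtain ⟨a₂, ha₂, hat⟩ := t.2
      have h3 : algebraMap A B' a₂ * b' ∈ RingHom.ker π.toRingHom := by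
        rw [RingHom.mem_ker]
        change π (algebraMap A B' a₂ * b') = 0
        rw [map_mul, AlgHom.commutes, hat]; exact h2
      have h4 : IsLocalization.mk' B'S b' s * algebraMap B' B'S (s : B') *
          algebraMap B' B'S (algebraMap A B' a₂) = algebraMap B' B'S (algebraMap A B' a₂ * b') := by
        rw [IsLocalization.mk'_spec, map_mul, mul_comm]
      have hu : IsUnit (algebraMap B' B'S (s : B') * algebraMap B' B'S (algebraMap A B' a₂)) :=
        (IsLocalization.map_units B'S s).mul (hunitB' a₂ ha₂)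
      obtain ⟨v, hv⟩ := hu
      have h5 : IsLocalization.mk' B'S b' s =
          algebraMap B' B'S (algebraMap A B' a₂ * b') * ((v⁻¹ : B'Sˣ) : B'S) := by
        rw [Units.eq_mul_inv_iff_mul_eq, hv, ← mul_assoc]
        exact h4
      rw [h5]
      exact Ideal.mul_mem_right _ _ (Ideal.mem_map_of_mem _ h3)
    refine le_bot_iff.mp ((Ideal.pow_right_mono hle 2).trans ?_)
    rw [← Ideal.map_pow, hsq, Ideal.map_bot]
  · intro T _ _ I hI a
    let _ : Algebra A T := Algebra.compHom T (algebraMap A AS)
    have : IsScalarTower A AS T := IsScalarTower.of_algebraMap_eq (fun x => rfl)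
    let a₀ : B →ₐ[A] T ⧸ I := (a.restrictScalars A).comp (IsScalarTower.toAlgHom A B BS)
    obtain ⟨a₀', ha₀', hu⟩ := huniv T I hI a₀
    have ha₀'' : ∀ x, Ideal.Quotient.mk I (a₀' x) = a (algebraMap B BS (π x)) := fun x =>
      AlgHom.congr_fun ha₀' x
    have hunits : ∀ y : Algebra.algebraMapSubmonoid B' S, IsUnit (a₀'.toRingHom y) := by
      intro y
      obtain ⟨c, hc, hcy⟩ := y.2
      rw [← hcy]
      change IsUnit (a₀' (algebraMap A B' c))
      rw [AlgHom.commutes, IsScalarTower.algebraMap_apply A AS T]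
      exact (IsLocalization.map_units AS (⟨c, hc⟩ : S)).map _
    let l : B'S →+* T := IsLocalization.lift hunits
    have hl : ∀ x, l (algebraMap B' B'S x) = a₀' x := IsLocalization.lift_eq hunits
    have hcomm : l.comp (algebraMap AS B'S) = algebraMap AS T := by
      apply IsLocalization.ringHom_ext S
      ext c
      simp only [RingHom.comp_apply]
      rw [← IsScalarTower.algebraMap_apply A AS B'S, IsScalarTower.algebraMap_apply A B' B'S, hl,
        AlgHom.commutes, IsScalarTower.algebraMap_apply A AS T]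
    let a' : B'S →ₐ[AS] T := { l with commutes' := fun r => RingHom.congr_fun hcomm r }
    have ha' : ∀ x, a' (algebraMap B' B'S x) = a₀' x := hl
    refine ⟨a', ?_, ?_⟩
    · have h1 : ((Ideal.Quotient.mkₐ AS I).comp a').toRingHom = (a.comp πS).toRingHom := by
        apply IsLocalization.ringHom_ext (Algebra.algebraMapSubmonoid B' S)
        ext x
        change Ideal.Quotient.mk I (a' (algebraMap B' B'S x)) = a (πS (algebraMap B' B'S x))
        rw [ha', ha₀'', hπS]
      ext x
      exact RingHom.congr_fun h1 x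
    · intro a'' ha''
      let a''₀ : B' →ₐ[A] T := (a''.restrictScalars A).comp (IsScalarTower.toAlgHom A B' B'S)
      have h2 : a''₀ = a₀' := hu a''₀ (by
        ext x
        change Ideal.Quotient.mk I (a'' (algebraMap B' B'S x)) = a (algebraMap B BS (π x))
        have := AlgHom.congr_fun ha'' (algebraMap B' B'S x)
        change Ideal.Quotient.mk I (a'' (algebraMap B' B'S x)) = a (πS (algebraMap B' B'S x)) at this
        rw [this, hπS])
      have h3 : a''.toRingHom = a'.toRingHom := by
        apply IsLocalization.ringHom_ext (Algebra.algebraMapSubmonoid B' S)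
        ext x
        change a'' (algebraMap B' B'S x) = a' (algebraMap B' B'S x)
        rw [ha', ← h2]
        rfl
      ext x
      exact RingHom.congr_fun h3 x

theorem comap (A B B' : Type u) [CommRing A] [CommRing B]
    [CommRing B'] [Algebra A B] [Algebra A B'] (π : B' →ₐ[A] B)
    (hπ : OmegaSh.IsUnivThickeningRing A B B' π) (S : Submonoid B)
    (BS B'S : Type u) [CommRing BS] [CommRing B'S]
    [Algebra B BS] [IsLocalization S BS]
    [Algebra B' B'S] [IsLocalization (S.comap π.toRingHom.toMonoidHom) B'S]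
    [Algebra A BS] [IsScalarTower A B BS] [Algebra A B'S] [IsScalarTower A B' B'S]
    (πS : B'S →ₐ[A] BS) (hπS : ∀ x : B', πS (algebraMap B' B'S x) = algebraMap B BS (π x)) :
    OmegaSh.IsUnivThickeningRing A BS B'S πS := by
  obtain ⟨hsurj, hsq, huniv⟩ := hπ
  have hmemS' : ∀ x : B', x ∈ S.comap π.toRingHom.toMonoidHom ↔ π x ∈ S := fun x => Iff.rfl
  refine ⟨?_, ?_, ?_⟩
  · intro y
    obtain ⟨b, s, rfl⟩ := IsLocalization.exists_mk'_eq S y
    obtain ⟨b', rfl⟩ := hsurj b
    obtain ⟨s', hs'⟩ := hsurj (s : B)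
    have hs'mem : s' ∈ S.comap π.toRingHom.toMonoidHom := (hmemS' s').mpr (hs' ▸ s.2)
    refine ⟨IsLocalization.mk' B'S b' (⟨s', hs'mem⟩ : S.comap π.toRingHom.toMonoidHom), ?_⟩
    apply (IsLocalization.map_units BS s).mul_left_injective
    simp only
    rw [IsLocalization.mk'_spec, ← hs', ← hπS s', ← map_mul]
    have := IsLocalization.mk'_spec B'S b' (⟨s', hs'mem⟩ : S.comap π.toRingHom.toMonoidHom)
    simp only at this
    rw [this, hπS]
  · have hle : RingHom.ker πS.toRingHom ≤
        Ideal.map (algebraMap B' B'S) (RingHom.ker π.toRingHom) := by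
      intro x hx
      have hx' : πS x = 0 := hx
      obtain ⟨b', s, rfl⟩ := IsLocalization.exists_mk'_eq (S.comap π.toRingHom.toMonoidHom) x
      have h1 : πS (algebraMap B' B'S b') = 0 := by
        rw [← IsLocalization.mk'_spec B'S b' s, map_mul, hx', zero_mul]
      rw [hπS, IsLocalization.map_eq_zero_iff S] at h1
      obtain ⟨t, h2⟩ := h1
      obtain ⟨t', ht'⟩ := hsurj (t : B)
      have ht'mem : t' ∈ S.comap π.toRingHom.toMonoidHom := (hmemS' t').mpr (ht' ▸ t.2)
      have h3 : t' * b' ∈ RingHom.ker π.toRingHom := by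
        rw [RingHom.mem_ker]
        change π (t' * b') = 0
        rw [map_mul, ht']; exact h2
      have h4 : IsLocalization.mk' B'S b' s * algebraMap B' B'S (s : B') *
          algebraMap B' B'S t' = algebraMap B' B'S (t' * b') := by
        rw [IsLocalization.mk'_spec, map_mul, mul_comm]
      have hu : IsUnit (algebraMap B' B'S (s : B') * algebraMap B' B'S t') :=
        (IsLocalization.map_units B'S s).mul
          (IsLocalization.map_units B'S (⟨t', ht'mem⟩ : S.comap π.toRingHom.toMonoidHom))
      obtain ⟨v, hv⟩ := hu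
      have h5 : IsLocalization.mk' B'S b' s =
          algebraMap B' B'S (t' * b') * ((v⁻¹ : B'Sˣ) : B'S) := by
        rw [Units.eq_mul_inv_iff_mul_eq, hv, ← mul_assoc]
        exact h4
      rw [h5]
      exact Ideal.mul_mem_right _ _ (Ideal.mem_map_of_mem _ h3)
    refine le_bot_iff.mp ((Ideal.pow_right_mono hle 2).trans ?_)
    rw [← Ideal.map_pow, hsq, Ideal.map_bot]
  · intro T _ _ I hI a
    let a₀ : B →ₐ[A] T ⧸ I := a.comp (IsScalarTower.toAlgHom A B BS)
    obtain ⟨a₀', ha₀', hu⟩ := huniv T I hI a₀
    have ha₀'' : ∀ x, Ideal.Quotient.mk I (a₀' x) = a (algebraMap B BS (π x)) := fun x =>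
      AlgHom.congr_fun ha₀' x
    have hunits : ∀ y : S.comap π.toRingHom.toMonoidHom, IsUnit (a₀'.toRingHom y) := by
      intro y
      change IsUnit (a₀' (y : B'))
      rw [← IsNilpotent.isUnit_quotient_mk_iff (I := I) ⟨2, hI⟩, ha₀'']
      exact (IsLocalization.map_units BS (⟨π (y : B'), y.2⟩ : S)).map a
    let l : B'S →+* T := IsLocalization.lift hunits
    have hl : ∀ x, l (algebraMap B' B'S x) = a₀' x := IsLocalization.lift_eq hunits
    have hcomm : ∀ r : A, l (algebraMap A B'S r) = algebraMap A T r := fun r => by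
      rw [IsScalarTower.algebraMap_apply A B' B'S, hl, AlgHom.commutes]
    let a' : B'S →ₐ[A] T := { l with commutes' := hcomm }
    have ha' : ∀ x, a' (algebraMap B' B'S x) = a₀' x := hl
    refine ⟨a', ?_, ?_⟩
    · have h1 : ((Ideal.Quotient.mkₐ A I).comp a').toRingHom = (a.comp πS).toRingHom := by
        apply IsLocalization.ringHom_ext (S.comap π.toRingHom.toMonoidHom)
        ext x
        change Ideal.Quotient.mk I (a' (algebraMap B' B'S x)) = a (πS (algebraMap B' B'S x))
        rw [ha', ha₀'', hπS]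
      ext x
      exact RingHom.congr_fun h1 x
    · intro a'' ha''
      let a''₀ : B' →ₐ[A] T := a''.comp (IsScalarTower.toAlgHom A B' B'S)
      have h2 : a''₀ = a₀' := hu a''₀ (by
        ext x
        change Ideal.Quotient.mk I (a'' (algebraMap B' B'S x)) = a (algebraMap B BS (π x))
        have := AlgHom.congr_fun ha'' (algebraMap B' B'S x)
        change Ideal.Quotient.mk I (a'' (algebraMap B' B'S x)) = a (πS (algebraMap B' B'S x)) at this
        rw [this, hπS])
      have h3 : a''.toRingHom = a'.toRingHom := by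
        apply IsLocalization.ringHom_ext (S.comap π.toRingHom.toMonoidHom)
        ext x
        change a'' (algebraMap B' B'S x) = a' (algebraMap B' B'S x)
        rw [ha', ← h2]
        rfl
      ext x
      exact RingHom.congr_fun h3 x

end Groth.Agent.Lib.Helper8.UnivThick
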