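import Mathlib
import Groth.Agent.Lib.Helper8.UnramDescentSch

/-!
# Unramified ⟺ geometric fibres reduced and discrete
-/

set_option autoImplicit false
universe u
open CategoryTheory CategoryTheory.Limits AlgebraicGeometry

namespace Groth.Agent.Lib.Helper8.UnramGeomFib

attribute [local instance] IsArtinianRing.fieldOfSubtypeIsMaximal in
theorem formallyUnramified_of_discrete_reduced (K A : Type u) [Field K] [IsAlgClosed K]
    [CommRing A] [Algebra K A] [Algebra.FiniteType K A] [IsReduced A]
    [DiscreteTopology (PrimeSpectrum A)] : Algebra.FormallyUnramified K A := by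
  haveI : IsNoetherianRing A := Algebra.FiniteType.isNoetherianRing K A
  haveI : Ring.KrullDimLE 0 A :=
    (PrimeSpectrum.discreteTopology_iff_finite_and_krullDimLE_zero.mp inferInstance).2
  haveI : IsArtinianRing A :=
    isArtinianRing_iff_isNoetherianRing_krullDimLE_zero.mpr ⟨inferInstance, inferInstance⟩
  haveI : Module.Finite K A := Module.finite_of_isArtinianRing K A
  haveI : Algebra.FormallyEtale K A := by
    rw [Algebra.FormallyEtale.iff_exists_algEquiv_prod]
    refine ⟨MaximalSpectrum A, inferInstance, fun m => A ⧸ m.asIdeal, inferInstance,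
      inferInstance, (IsArtinianRing.equivPi A).restrictScalars K, fun m => ?_⟩
    haveI : Algebra.IsAlgebraic K (A ⧸ m.asIdeal) := Algebra.IsAlgebraic.of_finite K _
    infer_instance
  infer_instance

theorem isReduced_and_discrete_of_formallyUnramified (K A : Type u) [Field K]
    [CommRing A] [Algebra K A] [Algebra.FiniteType K A] [Algebra.FormallyUnramified K A] :
    IsReduced A ∧ DiscreteTopology (PrimeSpectrum A) := by
  haveI := Algebra.FormallyUnramified.finite_of_free K A
  haveI : IsArtinianRing A := isArtinian_of_tower K inferInstance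
  exact ⟨Algebra.FormallyUnramified.isReduced_of_field K A, inferInstance⟩

theorem formallyUnramified_of_reduced_discrete {K : Type u} [Field K] [IsAlgClosed K]
    {P : Scheme.{u}} (g : P ⟶ Spec (.of K)) [LocallyOfFiniteType g] [IsReduced P]
    [DiscreteTopology P] : FormallyUnramified g := by
  rw [IsZariskiLocalAtSource.iff_of_openCover (P := @FormallyUnramified) P.affineOpenCover.openCover]
  intro i
  obtain ⟨φ, hφ⟩ : ∃ φ : CommRingCat.of K ⟶ P.affineOpenCover.X i,
      Spec.map φ = P.affineOpenCover.f i ≫ g := ⟨Spec.preimage _, Spec.map_preimage _⟩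
  have h2 : LocallyOfFiniteType (Spec.map φ) := hφ ▸ inferInstance
  rw [HasRingHomProperty.Spec_iff (P := @LocallyOfFiniteType)] at h2
  show FormallyUnramified (P.affineOpenCover.f i ≫ g)
  rw [← hφ, HasRingHomProperty.Spec_iff (P := @FormallyUnramified)]
  algebraize [φ.hom]
  haveI : IsReduced (Spec (P.affineOpenCover.X i)) :=
    isReduced_of_isOpenImmersion (P.affineOpenCover.f i)
  haveI : _root_.IsReduced (P.affineOpenCover.X i) := (affine_isReduced_iff _).mp inferInstance
  haveI : DiscreteTopology (PrimeSpectrum (P.affineOpenCover.X i)) :=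
    (P.affineOpenCover.f i).isOpenEmbedding.isEmbedding.discreteTopology
  exact formallyUnramified_of_discrete_reduced K (P.affineOpenCover.X i)

theorem reduced_discrete_of_formallyUnramified {K : Type u} [Field K]
    {P : Scheme.{u}} (g : P ⟶ Spec (.of K)) [LocallyOfFiniteType g] [FormallyUnramified g] :
    IsReduced P ∧ DiscreteTopology P := by
  have key : ∀ i : P.affineOpenCover.I₀, _root_.IsReduced (P.affineOpenCover.X i) ∧
      DiscreteTopology (PrimeSpectrum (P.affineOpenCover.X i)) := by
    intro i
    obtain ⟨φ, hφ⟩ : ∃ φ : CommRingCat.of K ⟶ P.affineOpenCover.X i,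
        Spec.map φ = P.affineOpenCover.f i ≫ g := ⟨Spec.preimage _, Spec.map_preimage _⟩
    have h0 : FormallyUnramified (P.affineOpenCover.f i ≫ g) :=
      MorphismProperty.comp_mem _ _ _
        (IsZariskiLocalAtSource.of_isOpenImmersion (P := @FormallyUnramified) _) inferInstance
    have h1 : FormallyUnramified (Spec.map φ) := hφ ▸ h0
    have h2 : LocallyOfFiniteType (Spec.map φ) := hφ ▸ inferInstance
    rw [HasRingHomProperty.Spec_iff (P := @FormallyUnramified)] at h1
    rw [HasRingHomProperty.Spec_iff (P := @LocallyOfFiniteType)] at h2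
    algebraize [φ.hom]
    exact isReduced_and_discrete_of_formallyUnramified K (P.affineOpenCover.X i)
  constructor
  · haveI : ∀ i, IsReduced (P.affineOpenCover.openCover.X i) := fun i =>
      (affine_isReduced_iff _).mpr (key i).1
    exact IsReduced.of_openCover P P.affineOpenCover.openCover
  · rw [discreteTopology_iff_isOpen_singleton]
    intro z
    obtain ⟨i, y, rfl⟩ := P.affineOpenCover.openCover.exists_eq z
    haveI : DiscreteTopology ↥(Spec (P.affineOpenCover.X i)) := (key i).2
    have h3 : IsOpen ({y} : Set ↥(Spec (P.affineOpenCover.X i))) := isOpen_discrete _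
    have h4 := (P.affineOpenCover.f i).isOpenEmbedding.isOpenMap _ h3
    have h5 : (P.affineOpenCover.f i) '' {y} = {(P.affineOpenCover.f i) y} := Set.image_singleton
    rw [h5] at h4
    exact h4

theorem main {X S : Scheme.{u}} (f : X ⟶ S) [LocallyOfFinitePresentation f] :
    FormallyUnramified f ↔
      ∀ (K : Type u) [Field K] [IsAlgClosed K] (s : Spec (CommRingCat.of K) ⟶ S),
        IsReduced (pullback f s) ∧ DiscreteTopology ↥(pullback f s) := by
  constructor
  · intro hf K _ _ s
    haveI : FormallyUnramified (pullback.snd f s) :=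
      MorphismProperty.pullback_snd (P := @FormallyUnramified) f s hf
    exact reduced_discrete_of_formallyUnramified (pullback.snd f s)
  · intro H
    apply Groth.Agent.Lib.Helper8.formallyUnramified_of_pointwise_cover f
    intro x
    let s : Spec (.of (AlgebraicClosure (S.residueField (f x)))) ⟶ S :=
      Spec.map (CommRingCat.ofHom (algebraMap (S.residueField (f x))
        (AlgebraicClosure (S.residueField (f x))))) ≫ S.fromSpecResidueField (f x)
    obtain ⟨hred, hdisc⟩ := H (AlgebraicClosure (S.residueField (f x))) s
    have hpt : f x = s (IsLocalRing.closedPoint (AlgebraicClosure (S.residueField (f x)))) := by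
      dsimp only [s]
      rw [Scheme.Hom.comp_apply, Scheme.fromSpecResidueField_apply]
    obtain ⟨z, hz1, -⟩ := Scheme.Pullback.exists_preimage_pullback x _ hpt
    haveI : FormallyUnramified (pullback.snd f s) :=
      formallyUnramified_of_reduced_discrete (pullback.snd f s)
    exact ⟨_, s, ⊤, ⟨z, trivial, hz1⟩, MorphismProperty.comp_mem _ _ _
      (IsZariskiLocalAtSource.of_isOpenImmersion (P := @FormallyUnramified) _) inferInstance⟩

end Groth.Agent.Lib.Helper8.UnramGeomFib
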