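/-
Helper8 library: for a local homomorphism of local rings essentially of finite type, formal
unramifiedness is equivalent to: the fibre ring `S/𝔪_R S` is a field, finite and separable over the
residue field of `R` (with the algebra structure induced on quotients).
-/
import Mathlib

set_option autoImplicit false
set_option linter.style.haveILetI false
universe u

open IsLocalRing

namespace Groth.Agent.Lib.Helper8

theorem formallyUnramified_iff_fibre_field {R S : Type u} [CommRing R] [CommRing S]
    [IsLocalRing R] [IsLocalRing S] (φ : R →+* S) [IsLocalHom φ] (hft : φ.EssFiniteType) :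
    φ.FormallyUnramified ↔
      (letI := (Ideal.quotientMap ((maximalIdeal R).map φ) φ Ideal.le_comap_map).toAlgebra
       IsField (S ⧸ (maximalIdeal R).map φ) ∧
        Module.Finite (R ⧸ maximalIdeal R) (S ⧸ (maximalIdeal R).map φ) ∧
        Algebra.IsSeparable (R ⧸ maximalIdeal R) (S ⧸ (maximalIdeal R).map φ)) := by
  letI := φ.toAlgebra
  haveI : IsLocalHom (algebraMap R S) := ‹IsLocalHom φ›
  haveI : Algebra.EssFiniteType R S := hft
  letI : Algebra (R ⧸ maximalIdeal R) (S ⧸ (maximalIdeal R).map φ) :=
    (Ideal.quotientMap ((maximalIdeal R).map φ) φ Ideal.le_comap_map).toAlgebra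
  haveI : IsScalarTower R (R ⧸ maximalIdeal R) (S ⧸ (maximalIdeal R).map φ) :=
    IsScalarTower.of_algebraMap_eq (fun r => rfl)
  letI : Field (R ⧸ maximalIdeal R) := Ideal.Quotient.field (maximalIdeal R)
  show Algebra.FormallyUnramified R S ↔ _
  constructor
  · intro h
    have hF : IsField (S ⧸ (maximalIdeal R).map φ) :=
      Algebra.FormallyUnramified.isField_quotient_map_maximalIdeal (R := R) (S := S)
    haveI : Algebra.FormallyUnramified (R ⧸ maximalIdeal R) (S ⧸ (maximalIdeal R).map φ) :=
      .of_restrictScalars R _ _
    haveI : Algebra.EssFiniteType (R ⧸ maximalIdeal R) (S ⧸ (maximalIdeal R).map φ) :=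
      .of_comp R _ _
    have hfin : Module.Finite (R ⧸ maximalIdeal R) (S ⧸ (maximalIdeal R).map φ) :=
      Algebra.FormallyUnramified.finite_of_free _ _
    letI := hF.toField
    have hsep : Algebra.IsSeparable (R ⧸ maximalIdeal R) (S ⧸ (maximalIdeal R).map φ) :=
      Algebra.FormallyUnramified.isSeparable _ _
    exact ⟨hF, hfin, hsep⟩
  · rintro ⟨hF, hfin, hsep⟩
    have hmax : ((maximalIdeal R).map φ).IsMaximal :=
      Ideal.Quotient.maximal_of_isField _ hF
    have hm : (maximalIdeal R).map (algebraMap R S) = maximalIdeal S :=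
      IsLocalRing.eq_maximalIdeal hmax
    haveI : Algebra.IsSeparable (ResidueField R) (ResidueField S) := by
      letI : Algebra (ResidueField R) (S ⧸ (maximalIdeal R).map φ) :=
        (Ideal.quotientMap ((maximalIdeal R).map φ) φ Ideal.le_comap_map).toAlgebra
      haveI : Algebra.IsSeparable (ResidueField R) (S ⧸ (maximalIdeal R).map φ) := hsep
      let e : (S ⧸ (maximalIdeal R).map φ) ≃ₐ[ResidueField R] ResidueField S :=
        { Ideal.quotEquivOfEq hm with
          commutes' := by
            intro r
            obtain ⟨r, rfl⟩ := Ideal.Quotient.mk_surjective r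
            rfl }
      exact AlgEquiv.Algebra.isSeparable e
    exact Algebra.FormallyUnramified.of_map_maximalIdeal hm

end Groth.Agent.Lib.Helper8
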