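import Mathlib

/-!
# Local structure of unramified morphisms (scheme level)

Étale-locally on the target, an unramified morphism is (locally on the source) a closed immersion.
-/

set_option autoImplicit false

open AlgebraicGeometry CategoryTheory Limits TensorProduct

namespace Groth.Agent.Lib.Helper8

universe u

set_option maxHeartbeats 1600000 in
theorem exists_etale_closedImmersion_of_formallyUnramified {X Y : Scheme.{u}} (f : X ⟶ Y)
    [LocallyOfFiniteType f] [FormallyUnramified f] (x : X) :
    ∃ (Y' : Scheme.{u}) (g : Y' ⟶ Y) (U : (pullback f g).Opens), Etale g ∧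
      x ∈ (pullback.fst f g).base '' (U : Set ↥(pullback f g)) ∧
      IsClosedImmersion (U.ι ≫ pullback.snd f g) := by
  obtain ⟨_, ⟨W, hW, rfl⟩, hxW, -⟩ :=
    Y.isBasis_affineOpens.exists_subset_of_mem_open (Set.mem_univ (f x)) isOpen_univ
  obtain ⟨_, ⟨V, hV, rfl⟩, hxV, hVW⟩ :=
    X.isBasis_affineOpens.exists_subset_of_mem_open hxW (W.2.preimage f.continuous)
  have hft : (f.appLE W V hVW).hom.FiniteType := f.finiteType_appLE hW hV hVW
  have hun : (f.appLE W V hVW).hom.FormallyUnramified :=
    HasRingHomProperty.appLE @FormallyUnramified f ‹_› ⟨W, hW⟩ ⟨V, hV⟩ hVW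
  algebraize [(f.appLE W V hVW).hom]
  obtain ⟨q, rfl⟩ : x ∈ Set.range hV.fromSpec := by rw [hV.range_fromSpec]; exact hxV
  have hunq : Algebra.IsUnramifiedAt Γ(Y, W) q.asIdeal :=
    Algebra.FormallyUnramified.comp _ Γ(X, V) _
  obtain ⟨s, hsq, P, φ, hφ⟩ :=
    Algebra.IsUnramifiedAt.exists_hasStandardEtaleSurjectionOn (R := Γ(Y, W)) q.asIdeal
  -- the étale neighbourhood
  let g : Spec (.of P.Ring) ⟶ Y :=
    Spec.map (CommRingCat.ofHom (algebraMap Γ(Y, W) P.Ring)) ≫ hW.fromSpec
  have hg0 : Etale (Spec.map (CommRingCat.ofHom (algebraMap Γ(Y, W) P.Ring))) := by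
    rw [HasRingHomProperty.Spec_iff (P := @Etale)]
    exact RingHom.etale_algebraMap.mpr inferInstance
  have hg : Etale g := inferInstance
  -- the open piece of `X` and its closed immersion into the étale neighbourhood
  let a : Spec (.of (Localization.Away s)) ⟶ X :=
    Spec.map (CommRingCat.ofHom (algebraMap Γ(X, V) (Localization.Away s))) ≫ hV.fromSpec
  let b : Spec (.of (Localization.Away s)) ⟶ Spec (.of P.Ring) :=
    Spec.map (CommRingCat.ofHom φ.toRingHom)
  have hb : IsClosedImmersion b := IsClosedImmersion.spec_of_surjective _ hφ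
  have hcomm : a ≫ f = b ≫ g := by
    simp only [a, b, g, Category.assoc]
    rw [← hW.SpecMap_appLE_fromSpec f hV hVW, ← Spec.map_comp_assoc, ← Spec.map_comp_assoc]
    congr 2
    ext r
    show algebraMap Γ(X, V) (Localization.Away s) (algebraMap Γ(Y, W) Γ(X, V) r) =
      φ (algebraMap Γ(Y, W) P.Ring r)
    rw [φ.commutes, ← IsScalarTower.algebraMap_apply]
  let γ : Spec (.of (Localization.Away s)) ⟶ pullback f g := pullback.lift a b hcomm
  have hγ1 : γ ≫ pullback.fst f g = a := pullback.lift_fst _ _ _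
  have hγ2 : γ ≫ pullback.snd f g = b := pullback.lift_snd _ _ _
  have ha : IsOpenImmersion a := inferInstance
  have hmono : Mono γ := mono_of_mono_fac hγ1
  have hγet : Etale γ := by
    refine MorphismProperty.of_postcomp (W := @Etale) (W' := @Etale) γ (pullback.fst f g)
      inferInstance ?_
    rw [hγ1]; infer_instance
  have hγ : IsOpenImmersion γ := IsOpenImmersion.of_flat_of_mono γ
  refine ⟨Spec (.of P.Ring), g, γ.opensRange, hg, ?_, ?_⟩
  · have hqs : q ∈ (PrimeSpectrum.basicOpen s : Set (PrimeSpectrum Γ(X, V))) := hsq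
    rw [← PrimeSpectrum.localization_away_comap_range (Localization.Away s) s] at hqs
    obtain ⟨x₀, hx₀⟩ := hqs
    refine ⟨γ x₀, ⟨x₀, rfl⟩, ?_⟩
    rw [← Scheme.Hom.comp_apply, hγ1]
    simp only [a, Scheme.Hom.comp_apply]
    congr 1
  · have h : γ.opensRange.ι ≫ pullback.snd f g = γ.isoOpensRange.inv ≫ b := by
      rw [← cancel_epi γ.isoOpensRange.hom, Scheme.Hom.isoOpensRange_hom_ι_assoc, hγ2,
        Iso.hom_inv_id_assoc]
    rw [h]
    infer_instance

end Groth.Agent.Lib.Helper8
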