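import Mathlib
import Groth.Agent.Lib.Helper7.WeakDimOne3

/-!
# Étale-local algebras over a valuation ring

`A` a valuation ring, `B` étale over `A`, `m` a prime of `B` over the maximal ideal: then `B_m`
is a valuation ring and every nonzero element of `B_m` is a unit times an element of `A`.
-/

set_option autoImplicit false
universe u

namespace Groth.Agent.Lib.Helper8.ValEt

open IsLocalRing

/-- `h` is a unit multiple of the image of an element of `A`. -/
def Good (A : Type u) {V : Type u} [CommRing A] [CommRing V] [Algebra A V] (h : V) : Prop :=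
  ∃ (a : A) (u : Vˣ), h = u * algebraMap A V a

/-- `W` is generated over `R` by finitely many elements and inverses. -/
def Gen (R W : Type u) [CommRing R] [CommRing W] [Algebra R W] : Prop :=
  ∃ t : Finset W, ∀ S : Subalgebra R W, (∀ x ∈ t, x ∈ S) →
    (∀ s s' : W, s ∈ S → s * s' = 1 → s' ∈ S) → S = ⊤

theorem gen_of_finiteType (R B : Type u) [CommRing R] [CommRing B] [Algebra R B]
    [Algebra.FiniteType R B] : Gen R B := by
  obtain ⟨t, ht⟩ := Algebra.FiniteType.out (R := R) (A := B)
  refine ⟨t, fun S hS _ => top_le_iff.mp ?_⟩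
  rw [← ht]
  exact Algebra.adjoin_le (fun x hx => hS x hx)

theorem gen_of_isLocalization (R R' B W : Type u) [CommRing R] [CommRing R'] [CommRing B]
    [CommRing W] [Algebra R R'] [Algebra R B] [Algebra R W] [Algebra R' W] [Algebra B W]
    [IsScalarTower R R' W] [IsScalarTower R B W] (M : Submonoid B) [IsLocalization M W]
    (h : Gen R B) : Gen R' W := by
  classical
  obtain ⟨t, ht⟩ := h
  refine ⟨t.image (algebraMap B W), fun S' hS' hinv => ?_⟩
  have h1 : ∀ b : B, algebraMap B W b ∈ S' := by
    let S : Subalgebra R B := (S'.restrictScalars R).comap (IsScalarTower.toAlgHom R B W)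
    have hmem : ∀ b : B, b ∈ S ↔ algebraMap B W b ∈ S' := fun b => Iff.rfl
    have hS : S = ⊤ := by
      refine ht S (fun x hx => (hmem x).mpr (hS' _ (Finset.mem_image_of_mem _ hx))) ?_
      intro s s' hs hss'
      exact (hmem s').mpr (hinv _ _ ((hmem s).mp hs) (by rw [← map_mul, hss', map_one]))
    intro b
    have : b ∈ S := by rw [hS]; trivial
    exact (hmem b).mp this
  rw [eq_top_iff]
  rintro w -
  obtain ⟨⟨v, s⟩, hvs⟩ := IsLocalization.surj M w
  obtain ⟨r, hr⟩ := (IsLocalization.map_units W s).exists_right_inv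
  have hr' : r ∈ S' := hinv _ _ (h1 s) hr
  have : w = algebraMap B W v * r := by
    rw [← hvs, mul_assoc, hr, mul_one]
  rw [this]
  exact S'.mul_mem (h1 v) hr'

section basic

variable {A : Type u} [CommRing A] [IsDomain A] [ValuationRing A]

theorem exists_dvd_all_finset (s : Finset A) (hs : ∀ a ∈ s, a ∈ maximalIdeal A) :
    ∃ a₀ ∈ maximalIdeal A, ∀ a ∈ s, a₀ ∣ a := by
  classical
  induction s using Finset.induction_on with
  | empty => exact ⟨0, zero_mem _, by simp⟩
  | insert a s ha ih =>
    obtain ⟨a₀, ha₀, h⟩ := ih (fun x hx => hs x (Finset.mem_insert_of_mem hx))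
    rcases ValuationRing.dvd_total a₀ a with h1 | h1
    · refine ⟨a₀, ha₀, fun x hx => ?_⟩
      rcases Finset.mem_insert.mp hx with rfl | hx
      · exact h1
      · exact h x hx
    · refine ⟨a, hs a (Finset.mem_insert_self _ _), fun x hx => ?_⟩
      rcases Finset.mem_insert.mp hx with rfl | hx
      · exact dvd_rfl
      · exact h1.trans (h x hx)

theorem exists_dvd_all_fintype {ι : Type*} [Fintype ι] [Nonempty ι] (c : ι → A) :
    ∃ j, ∀ l, c j ∣ c l := by
  classical
  have : ∀ s : Finset ι, s.Nonempty → ∃ j ∈ s, ∀ l ∈ s, c j ∣ c l := by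
    intro s hs
    induction hs using Finset.Nonempty.cons_induction with
    | singleton a => exact ⟨a, by simp, by simp⟩
    | cons a s ha hs ih =>
      obtain ⟨j, hj, h⟩ := ih
      rcases ValuationRing.dvd_total (c j) (c a) with h1 | h1
      · refine ⟨j, by simp [hj], fun l hl => ?_⟩
        rcases Finset.mem_cons.mp hl with rfl | hl
        · exact h1
        · exact h l hl
      · refine ⟨a, by simp, fun l hl => ?_⟩
        rcases Finset.mem_cons.mp hl with rfl | hl
        · exact dvd_rfl
        · exact h1.trans (h l hl)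
  obtain ⟨j, -, h⟩ := this Finset.univ Finset.univ_nonempty
  exact ⟨j, fun l => h l (Finset.mem_univ l)⟩

theorem exists_smul_of_mem_map {V : Type u} [CommRing V] [Algebra A V] (w : V)
    (hw : w ∈ (maximalIdeal A).map (algebraMap A V)) :
    ∃ a ∈ maximalIdeal A, ∃ v : V, w = algebraMap A V a * v := by
  induction hw using Submodule.span_induction with
  | zero => exact ⟨0, zero_mem _, 0, by simp⟩
  | mem x h =>
    obtain ⟨a, ha, rfl⟩ := h
    exact ⟨a, ha, 1, by simp⟩
  | add x y hx hy ihx ihy =>
    obtain ⟨a, ha, v, rfl⟩ := ihx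
    obtain ⟨a', ha', v', rfl⟩ := ihy
    rcases ValuationRing.dvd_total a a' with ⟨c, rfl⟩ | ⟨c, rfl⟩
    · exact ⟨a, ha, v + algebraMap A V c * v', by rw [map_mul]; ring⟩
    · exact ⟨a', ha', algebraMap A V c * v + v', by rw [map_mul]; ring⟩
  | smul r x hx ih =>
    obtain ⟨a, ha, v, rfl⟩ := ih
    exact ⟨a, ha, r * v, by rw [smul_eq_mul]; ring⟩

theorem flat_ideal_domain (J : Ideal A) : Module.Flat A J := by
  rw [Module.Flat.flat_iff_torsion_eq_bot_of_isBezout,
    ← Submodule.isTorsionFree_iff_torsion_eq_bot]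
  infer_instance

end basic

section flat

theorem ideal_flat (A B : Type u) [CommRing A] [IsDomain A] [ValuationRing A] [CommRing B]
    [Algebra A B] [Algebra.Etale A B] (I : Ideal B) : Module.Flat B I := by
  haveI : Module.Flat A B := inferInstance
  haveI : Module.IsTorsionFree A B := inferInstance
  haveI : Module.IsTorsionFree A I :=
    Function.Injective.moduleIsTorsionFree (Subtype.val : I → B) Subtype.val_injective
      (fun r x => by simp)
  haveI : Module.Flat A I := by
    rw [Module.Flat.flat_iff_torsion_eq_bot_of_isBezout,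
      ← Submodule.isTorsionFree_iff_torsion_eq_bot]
    infer_instance
  exact Algebra.FormallyUnramified.flat_of_restrictScalars A B I

theorem valuationRing_atPrime (A B : Type u) [CommRing A] [IsDomain A] [ValuationRing A]
    [CommRing B] [Algebra A B] [Algebra.Etale A B] (q : Ideal B) [q.IsPrime] :
    ∃ _ : IsDomain (Localization.AtPrime q), ValuationRing (Localization.AtPrime q) :=
  Groth.Agent.Lib.Helper7.valuationRing_of_fg_ideals_flat B (fun I _ => ideal_flat A B I) q

end flat

section TL

variable (A V : Type u) [CommRing A] [IsDomain A] [ValuationRing A] [CommRing V] [IsLocalRing V]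
  [Algebra A V] [IsLocalHom (algebraMap A V)] [Algebra.EssFiniteType A V]
  [Algebra.FormallyUnramified A V]

/-- Top-layer lemma: there is `a₀ ∈ m_A` such that `V = N + a₀ V` with `N` spanned by lifts of a
basis of the residue field; consequently every `h ∉ ⋂ a₀^k V` is good. -/
theorem TL (hgen : Gen A V) :
    ∃ a₀ ∈ maximalIdeal A, ∀ h : V, (∃ k : ℕ, ¬ (algebraMap A V a₀) ^ k ∣ h) → Good A h := by
  classical
  obtain ⟨t, ht⟩ := hgen
  have hmax : (maximalIdeal A).map (algebraMap A V) = maximalIdeal V :=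
    Algebra.FormallyUnramified.map_maximalIdeal
  let b := Module.finBasis (ResidueField A) (ResidueField V)
  choose x hx using fun i => residue_surjective (b i)
  have K1 : ∀ c : Fin (Module.finrank (ResidueField A) (ResidueField V)) → A,
      (∑ i, algebraMap A V (c i) * x i) ∈ maximalIdeal V → ∀ i, c i ∈ maximalIdeal A := by
    intro c hc i
    rw [← residue_eq_zero_iff, map_sum] at hc
    have h2 : ∑ i, (residue A (c i)) • b i = 0 := by
      rw [← hc]
      refine Finset.sum_congr rfl fun i _ => ?_
      rw [map_mul, hx, Algebra.smul_def, ResidueField.algebraMap_residue]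
    have := (Fintype.linearIndependent_iff.mp b.linearIndependent) _ h2 i
    rwa [residue_eq_zero_iff] at this
  have K2 : ∀ v : V, ∃ c : Fin (Module.finrank (ResidueField A) (ResidueField V)) → A,
      v - ∑ i, algebraMap A V (c i) * x i ∈ maximalIdeal V := by
    intro v
    choose c hc using fun i => residue_surjective (b.repr (residue V v) i)
    refine ⟨c, ?_⟩
    rw [← residue_eq_zero_iff, map_sub, map_sum, sub_eq_zero]
    conv_lhs => rw [← b.sum_repr (residue V v)]
    refine Finset.sum_congr rfl fun i _ => ?_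
    rw [map_mul, hx, Algebra.smul_def, ← hc i, ResidueField.algebraMap_residue]
  have K3 : ∀ v : V, ∃ c : Fin (Module.finrank (ResidueField A) (ResidueField V)) → A,
      ∃ a ∈ maximalIdeal A, ∃ w : V,
        v = ∑ i, algebraMap A V (c i) * x i + algebraMap A V a * w := by
    intro v
    obtain ⟨c, hc⟩ := K2 v
    rw [← hmax] at hc
    obtain ⟨a, ha, w, hw⟩ := exists_smul_of_mem_map _ hc
    exact ⟨c, a, ha, w, by rw [← hw]; ring⟩
  choose cc aa haa ww hww using K3
  -- the finite set of elements whose error terms we control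
  let E : Finset V := (Finset.univ.image (fun p : Fin (Module.finrank (ResidueField A)
    (ResidueField V)) × Fin (Module.finrank (ResidueField A) (ResidueField V)) =>
      x p.1 * x p.2)) ∪ t ∪ {1}
  obtain ⟨a₀, ha₀, ha₀dvd⟩ := exists_dvd_all_finset (E.image aa) (fun a ha => by
    obtain ⟨e, -, rfl⟩ := Finset.mem_image.mp ha
    exact haa e)
  have ha₀V : algebraMap A V a₀ ∈ maximalIdeal V := map_nonunit _ _ ha₀
  let N : Submodule A V := Submodule.span A (Set.range x)
  let J : Submodule A V := (Ideal.span {algebraMap A V a₀}).restrictScalars A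
  have hJmem : ∀ y : V, y ∈ J ↔ y ∈ Ideal.span {algebraMap A V a₀} := fun y => Iff.rfl
  have memN : ∀ c : Fin (Module.finrank (ResidueField A) (ResidueField V)) → A,
      ∑ i, algebraMap A V (c i) * x i ∈ N := fun c =>
    Submodule.sum_mem _ (fun i _ => by
      rw [← Algebra.smul_def]
      exact Submodule.smul_mem _ _ (Submodule.subset_span ⟨i, rfl⟩))
  have memJ : ∀ (a : A) (w : V), a₀ ∣ a → algebraMap A V a * w ∈ J := by
    rintro a w ⟨q, rfl⟩
    rw [hJmem, map_mul, mul_assoc]
    exact Ideal.mul_mem_right _ _ (Ideal.subset_span rfl)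
  have hJmul : ∀ y ∈ J, ∀ z : V, y * z ∈ J := fun y hy z => by
    rw [hJmem] at hy ⊢
    exact Ideal.mul_mem_right z _ hy
  have hJm : ∀ y ∈ J, y ∈ maximalIdeal V := fun y hy => by
    rw [hJmem] at hy
    exact (Ideal.span_singleton_le_iff_mem _ |>.mpr ha₀V) hy
  have hE : ∀ e ∈ E, e ∈ N ⊔ J := fun e he => by
    rw [hww e]
    exact Submodule.add_mem_sup (memN _) (memJ _ _ (ha₀dvd _ (Finset.mem_image_of_mem _ he)))
  have h1mem : (1 : V) ∈ N ⊔ J := hE 1 (by simp [E])
  have hNN : N * N ≤ N ⊔ J := by
    rw [Submodule.span_mul_span, Submodule.span_le]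
    rintro _ ⟨_, ⟨i, rfl⟩, _, ⟨j, rfl⟩, rfl⟩
    refine hE _ ?_
    simp only [E, Finset.mem_union, Finset.mem_image, Finset.mem_univ, true_and]
    exact Or.inl (Or.inl ⟨(i, j), rfl⟩)
  have hmul : ∀ y z : V, y ∈ N ⊔ J → z ∈ N ⊔ J → y * z ∈ N ⊔ J := by
    intro y z hy hz
    obtain ⟨y1, hy1, y2, hy2, rfl⟩ := Submodule.mem_sup.mp hy
    obtain ⟨z1, hz1, z2, hz2, rfl⟩ := Submodule.mem_sup.mp hz
    have h1 : y1 * z1 ∈ N ⊔ J := hNN (Submodule.mul_mem_mul hy1 hz1)
    have h2 : y1 * z2 + y2 * z1 + y2 * z2 ∈ J := by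
      refine add_mem (add_mem ?_ (hJmul _ hy2 _)) (hJmul _ hy2 _)
      rw [mul_comm]; exact hJmul _ hz2 _
    have : (y1 + y2) * (z1 + z2) = y1 * z1 + (y1 * z2 + y2 * z1 + y2 * z2) := by ring
    rw [this]
    exact add_mem h1 (Submodule.mem_sup_right h2)
  -- `S ∩ m_V ≤ m_A N + J`
  have hSm : ∀ z ∈ N ⊔ J, z ∈ maximalIdeal V → z ∈ (maximalIdeal A) • N ⊔ J := by
    intro z hz hzm
    obtain ⟨n, hn, j, hj, rfl⟩ := Submodule.mem_sup.mp hz
    have hnm : n ∈ maximalIdeal V := by
      have := sub_mem hzm (hJm j hj)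
      simpa using this
    obtain ⟨c, rfl⟩ := (Submodule.mem_span_range_iff_exists_fun A).mp hn
    have hc := K1 c (by simpa [Algebra.smul_def] using hnm)
    exact Submodule.add_mem_sup (Submodule.sum_mem _ fun i _ =>
      Submodule.smul_mem_smul (hc i) (Submodule.subset_span ⟨i, rfl⟩)) hj
  -- inverse-closedness by Nakayama
  have hinv : ∀ s s' : V, s ∈ N ⊔ J → s * s' = 1 → s' ∈ N ⊔ J := by
    intro s s' hs hss'
    let sS : Submodule A V := (N ⊔ J).map (LinearMap.mulLeft A s)
    have hNle : N ≤ (sS ⊔ J) ⊔ (maximalIdeal A) • N := by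
      refine Submodule.span_le.mpr ?_
      rintro _ ⟨l, rfl⟩
      obtain ⟨c, hc⟩ := K2 (s' * x l)
      have hy : (∑ i, algebraMap A V (c i) * x i) ∈ N := memN c
      have h3 : x l - s * (∑ i, algebraMap A V (c i) * x i) ∈ maximalIdeal V := by
        have : x l - s * (∑ i, algebraMap A V (c i) * x i)
            = s * (s' * x l - ∑ i, algebraMap A V (c i) * x i) := by
          rw [mul_sub, ← mul_assoc, hss', one_mul]
        rw [this]
        exact Ideal.mul_mem_left _ _ hc
      have h4 : x l - s * (∑ i, algebraMap A V (c i) * x i) ∈ N ⊔ J :=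
        sub_mem (Submodule.mem_sup_left (Submodule.subset_span ⟨l, rfl⟩))
          (hmul _ _ hs (Submodule.mem_sup_left hy))
      have h5 := hSm _ h4 h3
      have h6 : s * (∑ i, algebraMap A V (c i) * x i) ∈ sS :=
        ⟨_, Submodule.mem_sup_left hy, rfl⟩
      obtain ⟨p, hp, q, hq, hpq⟩ := Submodule.mem_sup.mp h5
      have : x l = (s * (∑ i, algebraMap A V (c i) * x i) + q) + p := by
        rw [add_assoc, add_comm q p, hpq]; ring
      rw [SetLike.mem_coe, this]
      exact Submodule.add_mem_sup (Submodule.add_mem_sup h6 hq) hp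
    have hNle' : N ≤ sS ⊔ J :=
      Submodule.le_of_le_smul_of_le_jacobson_bot (Submodule.fg_span (Set.finite_range x))
        (IsLocalRing.maximalIdeal_le_jacobson ⊥) hNle
    have h1 : (1 : V) ∈ sS ⊔ J := (sup_le hNle' le_sup_right) h1mem
    obtain ⟨p, ⟨t', ht', rfl⟩, j, hj, hpj⟩ := Submodule.mem_sup.mp h1
    have : s' = t' + j * s' := by
      calc s' = (LinearMap.mulLeft A s t' + j) * s' := by rw [hpj, one_mul]
        _ = t' * (s * s') + j * s' := by rw [LinearMap.mulLeft_apply]; ring
        _ = t' + j * s' := by rw [hss', mul_one]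
    rw [this]
    exact add_mem ht' (Submodule.mem_sup_right (hJmul j hj s'))
  have hS : Submodule.toSubalgebra (N ⊔ J) h1mem hmul = ⊤ := by
    refine ht _ (fun y hy => ?_) (fun s s' hs hss' => ?_)
    · rw [Submodule.mem_toSubalgebra]
      exact hE y (by simp [E, hy])
    · rw [Submodule.mem_toSubalgebra] at hs ⊢
      exact hinv s s' hs hss'
  have hall : ∀ v : V, ∃ c : Fin (Module.finrank (ResidueField A) (ResidueField V)) → A,
      ∃ w : V, v = ∑ i, algebraMap A V (c i) * x i + algebraMap A V a₀ * w := by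
    intro v
    have hv : v ∈ N ⊔ J := by
      have : v ∈ Submodule.toSubalgebra (N ⊔ J) h1mem hmul := by rw [hS]; trivial
      exact Submodule.mem_toSubalgebra.mp this
    obtain ⟨n, hn, j, hj, rfl⟩ := Submodule.mem_sup.mp hv
    obtain ⟨c, rfl⟩ := (Submodule.mem_span_range_iff_exists_fun A).mp hn
    obtain ⟨w, rfl⟩ := Ideal.mem_span_singleton'.mp ((hJmem j).mp hj)
    refine ⟨c, w, ?_⟩
    congr 1
    · exact Finset.sum_congr rfl fun i _ => Algebra.smul_def _ _
    · ring
  have hpow : ∀ k : ℕ, ∀ v : V,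
      ∃ c : Fin (Module.finrank (ResidueField A) (ResidueField V)) → A,
      ∃ w : V, v = ∑ i, algebraMap A V (c i) * x i + algebraMap A V a₀ ^ k * w := by
    intro k
    induction k with
    | zero => intro v; exact ⟨0, v, by simp⟩
    | succ k ih =>
      intro v
      obtain ⟨c, w, rfl⟩ := ih v
      obtain ⟨c', w', rfl⟩ := hall w
      refine ⟨fun i => c i + a₀ ^ k * c' i, w', ?_⟩
      have e1 : ∑ i, algebraMap A V (c i + a₀ ^ k * c' i) * x i
          = ∑ i, algebraMap A V (c i) * x i
            + algebraMap A V a₀ ^ k * ∑ i, algebraMap A V (c' i) * x i := by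
        rw [Finset.mul_sum, ← Finset.sum_add_distrib]
        refine Finset.sum_congr rfl fun i _ => ?_
        simp only [map_add, map_mul, map_pow]; ring
      rw [e1, pow_succ]; ring
  refine ⟨a₀, ha₀, ?_⟩
  rintro h ⟨k, hk⟩
  obtain ⟨c, w, rfl⟩ := hpow k h
  have hex : ∃ l₀, ¬ a₀ ^ k ∣ c l₀ := by
    by_contra hcon
    push_neg at hcon
    apply hk
    choose q hq using hcon
    refine ⟨∑ i, algebraMap A V (q i) * x i + w, ?_⟩
    rw [mul_add, Finset.mul_sum]
    congr 1
    refine Finset.sum_congr rfl fun i _ => ?_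
    rw [hq i, map_mul, map_pow]; ring
  obtain ⟨l₀, hl₀⟩ := hex
  haveI : Nonempty (Fin (Module.finrank (ResidueField A) (ResidueField V))) := ⟨l₀⟩
  obtain ⟨j, hj⟩ := exists_dvd_all_fintype c
  have hjk : ¬ a₀ ^ k ∣ c j := fun hh => hl₀ (hh.trans (hj l₀))
  obtain ⟨e, he⟩ : c j ∣ a₀ ^ k := (ValuationRing.dvd_total (c j) (a₀ ^ k)).resolve_right hjk
  have hem : e ∈ maximalIdeal A := by
    by_contra hne
    have hu : IsUnit e := by
      rwa [mem_maximalIdeal, mem_nonunits_iff, not_not] at hne
    apply hjk
    obtain ⟨e', he'⟩ := hu.exists_right_inv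
    exact ⟨e', by rw [he, mul_assoc, he', mul_one]⟩
  have hcj : c j ≠ 0 := by
    intro h0
    apply hl₀
    have := hj l₀
    rw [h0, zero_dvd_iff] at this
    rw [this]; exact dvd_zero _
  choose q hq using hj
  have hqj : q j = 1 := by
    have := hq j
    exact mul_left_cancel₀ hcj (by rw [← this, mul_one])
  have hyu : IsUnit (∑ i, algebraMap A V (q i) * x i + algebraMap A V e * w) := by
    by_contra hny
    have hym : (∑ i, algebraMap A V (q i) * x i + algebraMap A V e * w) ∈ maximalIdeal V := hny
    have hew : algebraMap A V e * w ∈ maximalIdeal V :=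
      Ideal.mul_mem_right _ _ (map_nonunit _ _ hem)
    have h3 : ∑ i, algebraMap A V (q i) * x i ∈ maximalIdeal V := by
      have := sub_mem hym hew
      simpa using this
    have h4 := K1 q h3 j
    rw [hqj] at h4
    exact (maximalIdeal.isMaximal A).ne_top ((Ideal.eq_top_iff_one _).mpr h4)
  refine ⟨c j, hyu.unit, ?_⟩
  rw [IsUnit.unit_spec, add_mul, Finset.sum_mul, ← map_pow, he, map_mul]
  congr 1
  · refine Finset.sum_congr rfl fun i _ => ?_
    rw [hq i, map_mul]; ring
  · ring

end TL

section main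

variable (A V : Type u) [CommRing A] [IsDomain A] [ValuationRing A] [CommRing V] [IsDomain V]
  [ValuationRing V] [Algebra A V] [IsLocalHom (algebraMap A V)]

theorem dvd_of_map_dvd (hinj : Function.Injective (algebraMap A V)) (a a' : A)
    (h : algebraMap A V a' ∣ algebraMap A V a) : a' ∣ a := by
  obtain ⟨v, hv⟩ := h
  rcases ValuationRing.dvd_total a' a with h | ⟨c, hc⟩
  · exact h
  · by_cases hcu : IsUnit c
    · obtain ⟨c', hc'⟩ := hcu.exists_right_inv
      exact ⟨c', by rw [hc, mul_assoc, hc', mul_one]⟩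
    · have hcm : algebraMap A V c ∈ maximalIdeal V := map_nonunit (algebraMap A V) c hcu
      have hu : IsUnit (1 - algebraMap A V c * v) :=
        IsLocalRing.isUnit_one_sub_self_of_mem_nonunits _ (Ideal.mul_mem_right _ _ hcm)
      have h0 : algebraMap A V a * (1 - algebraMap A V c * v) = 0 := by
        rw [mul_sub, mul_one]
        nth_rewrite 1 [hv]
        rw [hc, map_mul]; ring
      have ha0 : algebraMap A V a = 0 := by
        rcases mul_eq_zero.mp h0 with h | h
        · exact h
        · exact absurd h hu.ne_zero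
      have : a = 0 := hinj (by rw [ha0, map_zero])
      rw [this]; exact dvd_zero _

omit [IsDomain V] [ValuationRing V] [IsLocalHom (algebraMap A V)] [IsDomain A]
  [ValuationRing A] in
theorem good_mul {h h' : V} (hh : Good A h) (hh' : Good A h') : Good A (h * h') := by
  obtain ⟨a, u, rfl⟩ := hh
  obtain ⟨a', u', rfl⟩ := hh'
  exact ⟨a * a', u * u', by rw [map_mul, Units.val_mul]; ring⟩

theorem good_of_mul_good (hinj : Function.Injective (algebraMap A V)) {g h : V}
    (hg : Good A g) (hg0 : g ≠ 0) (hh : Good A (g * h)) : Good A h := by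
  obtain ⟨a, u, rfl⟩ := hg
  obtain ⟨a'', u'', h2⟩ := hh
  have hdvd : algebraMap A V a ∣ algebraMap A V a'' := by
    refine ⟨h * u * ↑u''⁻¹, ?_⟩
    have : algebraMap A V a'' = ↑u''⁻¹ * (↑u * algebraMap A V a * h) := by
      rw [h2, Units.inv_mul_cancel_left]
    rw [this]; ring
  obtain ⟨c, rfl⟩ := dvd_of_map_dvd A V hinj _ _ hdvd
  have ha0 : algebraMap A V a ≠ 0 := fun h0 => hg0 (by rw [h0, mul_zero])
  refine ⟨c, u⁻¹ * u'', ?_⟩
  have h3 : ↑u⁻¹ * (↑u * algebraMap A V a * h) = ↑u⁻¹ * (↑u'' * algebraMap A V (a * c)) := by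
    rw [h2]
  rw [mul_assoc, Units.inv_mul_cancel_left] at h3
  have : algebraMap A V a * h = algebraMap A V a * (↑(u⁻¹ * u'') * algebraMap A V c) := by
    rw [Units.val_mul, h3, map_mul]; ring
  exact mul_left_cancel₀ ha0 this

theorem step (hinj : Function.Injective (algebraMap A V)) [Algebra.EssFiniteType A V]
    [Algebra.FormallyUnramified A V] (hgen : Gen A V) (I : Ideal V) [I.IsPrime]
    (hIgood : ∀ v, v ∉ I → Good A v)
    (hI2 : ∀ a : A, a ≠ 0 → algebraMap A V a ∈ I →
      ∃ h : V, h ≠ 0 ∧ ¬ Good A h ∧ h ∣ algebraMap A V a)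
    (h₀ : V) (h₀ne : h₀ ≠ 0) (h₀bad : ¬ Good A h₀) : False := by
  classical
  haveI : (I.under A).IsPrime := inferInstance
  haveI : I.LiesOver (I.under A) := ⟨rfl⟩
  obtain ⟨hd, hv⟩ := Groth.Agent.Lib.Helper7.valuationRing_of_fg_ideals_flat A
    (fun J _ => flat_ideal_domain J) (I.under A)
  letI : Algebra (Localization.AtPrime (I.under A)) (Localization.AtPrime I) :=
    Localization.AtPrime.algebraOfLiesOver (I.under A) I
  haveI : Localization.AtPrime.IsLiesOverAlgebra (I.under A) I := ⟨rfl⟩
  haveI : IsScalarTower A (Localization.AtPrime (I.under A)) (Localization.AtPrime I) :=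
    inferInstance
  haveI : IsLocalHom (algebraMap (Localization.AtPrime (I.under A))
      (Localization.AtPrime I)) := by
    rw [Localization.AtPrime.IsLiesOverAlgebra.algebraMap_eq]
    exact Localization.isLocalHom_localRingHom _ _ _ _
  haveI : Algebra.EssFiniteType V (Localization.AtPrime I) :=
    Algebra.EssFiniteType.of_isLocalization _ I.primeCompl
  haveI : Algebra.EssFiniteType A (Localization.AtPrime I) := Algebra.EssFiniteType.comp A V _
  haveI : Algebra.EssFiniteType (Localization.AtPrime (I.under A)) (Localization.AtPrime I) :=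
    Algebra.EssFiniteType.of_comp A _ _
  haveI : Algebra.FormallyUnramified V (Localization.AtPrime I) :=
    Algebra.FormallyUnramified.of_isLocalization I.primeCompl
  haveI : Algebra.FormallyUnramified A (Localization.AtPrime I) :=
    Algebra.FormallyUnramified.comp A V _
  haveI : Algebra.FormallyUnramified (Localization.AtPrime (I.under A))
      (Localization.AtPrime I) := Algebra.FormallyUnramified.of_restrictScalars A _ _
  haveI : IsDomain (Localization.AtPrime I) :=
    IsLocalization.isDomain_localization I.primeCompl_le_nonZeroDivisors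
  have hιinj : Function.Injective (algebraMap V (Localization.AtPrime I)) :=
    IsLocalization.injective _ I.primeCompl_le_nonZeroDivisors
  have hgen' : Gen (Localization.AtPrime (I.under A)) (Localization.AtPrime I) :=
    gen_of_isLocalization A _ V _ I.primeCompl hgen
  obtain ⟨a₁', ha₁', hTL⟩ :=
    TL (Localization.AtPrime (I.under A)) (Localization.AtPrime I) hgen'
  -- descend `a₁'`
  obtain ⟨⟨a₁, s₁⟩, hs₁⟩ := IsLocalization.surj (I.under A).primeCompl a₁'
  have ha₁P : a₁ ∈ I.under A := by
    have : algebraMap A (Localization.AtPrime (I.under A)) a₁ ∈ maximalIdeal _ := by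
      rw [← hs₁]; exact Ideal.mul_mem_right _ _ ha₁'
    exact (IsLocalization.AtPrime.to_map_mem_maximal_iff _ (I.under A) a₁).mp this
  have ha₁I : algebraMap A V a₁ ∈ I := ha₁P
  have hunitA : ∀ s : (I.under A).primeCompl,
      IsUnit (algebraMap A (Localization.AtPrime I) (s : A)) := fun s => by
    rw [IsScalarTower.algebraMap_apply A (Localization.AtPrime (I.under A))
      (Localization.AtPrime I)]
    exact (IsLocalization.map_units _ s).map _
  have hrel : algebraMap A (Localization.AtPrime I) a₁ =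
      algebraMap (Localization.AtPrime (I.under A)) (Localization.AtPrime I) a₁' *
        algebraMap A (Localization.AtPrime I) (s₁ : A) := by
    rw [IsScalarTower.algebraMap_apply A (Localization.AtPrime (I.under A))
      (Localization.AtPrime I) a₁, ← hs₁, map_mul, ← IsScalarTower.algebraMap_apply]
  -- choose the bad element
  obtain ⟨h₁, h₁ne, h₁bad, hnd⟩ : ∃ h₁ : V, h₁ ≠ 0 ∧ ¬ Good A h₁ ∧
      ¬ (algebraMap A (Localization.AtPrime I) a₁) ^ 2 ∣
        algebraMap V (Localization.AtPrime I) h₁ := by
    by_cases ha0 : a₁ = 0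
    · refine ⟨h₀, h₀ne, h₀bad, ?_⟩
      rw [ha0, map_zero, zero_pow two_ne_zero, zero_dvd_iff]
      exact fun h => h₀ne (hιinj (by rw [h, map_zero]))
    · obtain ⟨h₁, h₁ne, h₁bad, ⟨z, hz⟩⟩ := hI2 a₁ ha0 ha₁I
      refine ⟨h₁, h₁ne, h₁bad, ?_⟩
      rintro ⟨y, hy⟩
      have e1 : algebraMap A (Localization.AtPrime I) a₁ =
          algebraMap V (Localization.AtPrime I) h₁ * algebraMap V (Localization.AtPrime I) z := by
        rw [IsScalarTower.algebraMap_apply A V (Localization.AtPrime I), hz, map_mul]
      have hne : algebraMap A (Localization.AtPrime I) a₁ ≠ 0 := by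
        rw [IsScalarTower.algebraMap_apply A V (Localization.AtPrime I)]
        intro h
        exact ha0 (hinj (hιinj (by rw [h, map_zero, map_zero])))
      have e2 : algebraMap A (Localization.AtPrime I) a₁ * 1 =
          algebraMap A (Localization.AtPrime I) a₁ *
            (algebraMap A (Localization.AtPrime I) a₁ *
              (y * algebraMap V (Localization.AtPrime I) z)) := by
        rw [mul_one]
        nth_rewrite 1 [e1]
        rw [hy]; ring
      have e3 := mul_left_cancel₀ hne e2
      have hu : IsUnit (algebraMap A (Localization.AtPrime I) a₁) :=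
        IsUnit.of_mul_eq_one _ e3.symm
      rw [IsScalarTower.algebraMap_apply A V (Localization.AtPrime I),
        IsLocalization.AtPrime.isUnit_to_map_iff (Localization.AtPrime I) I] at hu
      exact hu ha₁I
  have hnd' : ¬ (algebraMap (Localization.AtPrime (I.under A)) (Localization.AtPrime I) a₁') ^ 2 ∣
      algebraMap V (Localization.AtPrime I) h₁ := by
    intro hd'
    apply hnd
    rw [hrel, mul_pow, ((hunitA s₁).pow 2).mul_right_dvd]
    exact hd'
  obtain ⟨a', u', hu'⟩ := hTL (algebraMap V (Localization.AtPrime I) h₁) ⟨2, hnd'⟩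
  obtain ⟨⟨a'', s''⟩, hs''⟩ := IsLocalization.surj (I.under A).primeCompl a'
  obtain ⟨⟨v, s⟩, hvs⟩ := IsLocalization.surj I.primeCompl (u' : Localization.AtPrime I)
  have hvI : v ∉ I := by
    have : IsUnit (algebraMap V (Localization.AtPrime I) v) := by
      rw [← hvs]; exact u'.isUnit.mul (IsLocalization.map_units _ s)
    exact (IsLocalization.AtPrime.isUnit_to_map_iff (Localization.AtPrime I) I v).mp this
  have hs''I : algebraMap A V (s'' : A) ∉ I := s''.2
  have heq : algebraMap V (Localization.AtPrime I) (h₁ * s * algebraMap A V (s'' : A)) =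
      algebraMap V (Localization.AtPrime I) (v * algebraMap A V a'') := by
    simp only [map_mul, ← IsScalarTower.algebraMap_apply A V (Localization.AtPrime I)]
    rw [hu', ← hvs, IsScalarTower.algebraMap_apply A (Localization.AtPrime (I.under A))
      (Localization.AtPrime I) a'', ← hs'', map_mul,
      ← IsScalarTower.algebraMap_apply A (Localization.AtPrime (I.under A))
        (Localization.AtPrime I)]
    ring
  have heqV := hιinj heq
  have g1 : Good A ((s : V) * algebraMap A V (s'' : A)) :=
    good_mul A V (hIgood _ s.2) (hIgood _ hs''I)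
  have g2 : Good A (v * algebraMap A V a'') :=
    good_mul A V (hIgood _ hvI) ⟨a'', 1, by simp⟩
  have g10 : (s : V) * algebraMap A V (s'' : A) ≠ 0 :=
    mul_ne_zero (fun h => s.2 (h ▸ I.zero_mem)) (fun h => hs''I (h ▸ I.zero_mem))
  apply h₁bad
  refine good_of_mul_good A V hinj g1 g10 ?_
  rw [show (s : V) * algebraMap A V (s'' : A) * h₁ = h₁ * s * algebraMap A V (s'' : A) by ring,
    heqV]
  exact g2

theorem good_all (hinj : Function.Injective (algebraMap A V)) [Algebra.EssFiniteType A V]
    [Algebra.FormallyUnramified A V] (hgen : Gen A V) : ∀ h : V, h ≠ 0 → Good A h := by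
  classical
  by_contra hcon
  push_neg at hcon
  obtain ⟨h₀, h₀ne, h₀bad⟩ := hcon
  let I : Ideal V :=
    { carrier := {v | v = 0 ∨ ∃ h, h ≠ 0 ∧ ¬ Good A h ∧ h ∣ v}
      zero_mem' := Or.inl rfl
      add_mem' := by
        rintro v₁ v₂ (rfl | ⟨h₁, h₁0, h₁b, hd₁⟩) (rfl | ⟨h₂, h₂0, h₂b, hd₂⟩)
        · left; simp
        · right; rw [zero_add]; exact ⟨h₂, h₂0, h₂b, hd₂⟩
        · right; rw [add_zero]; exact ⟨h₁, h₁0, h₁b, hd₁⟩
        · right
          rcases ValuationRing.dvd_total h₁ h₂ with h | h
          · exact ⟨h₁, h₁0, h₁b, dvd_add hd₁ (h.trans hd₂)⟩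
          · exact ⟨h₂, h₂0, h₂b, dvd_add (h.trans hd₁) hd₂⟩
      smul_mem' := by
        rintro c v (rfl | ⟨h, h0, hb, hd⟩)
        · left; simp
        · right; exact ⟨h, h0, hb, by rw [smul_eq_mul]; exact hd.mul_left c⟩ }
  have hImem : ∀ v, v ∈ I ↔ (v = 0 ∨ ∃ h, h ≠ 0 ∧ ¬ Good A h ∧ h ∣ v) := fun v => Iff.rfl
  have hIgood : ∀ v, v ∉ I → Good A v := fun v hv => by
    by_contra hb
    exact hv ((hImem v).mpr (Or.inr ⟨v, fun h0 => hv ((hImem v).mpr (Or.inl h0)), hb, dvd_rfl⟩))
  have hunitgood : ∀ v : V, IsUnit v → Good A v := fun v hv => ⟨1, hv.unit, by simp⟩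
  haveI hIprime : I.IsPrime := by
    refine ⟨?_, ?_⟩
    · rw [Ideal.ne_top_iff_one]
      intro h1
      rcases (hImem 1).mp h1 with h1 | ⟨h, h0, hb, hd⟩
      · exact one_ne_zero h1
      · exact hb (hunitgood h (isUnit_of_dvd_one hd))
    · intro x y hxy
      by_contra hcon
      push_neg at hcon
      obtain ⟨hx, hy⟩ := hcon
      have hx0 : x ≠ 0 := fun h => hx ((hImem x).mpr (Or.inl h))
      have hy0 : y ≠ 0 := fun h => hy ((hImem y).mpr (Or.inl h))
      rcases (hImem _).mp hxy with h0 | ⟨h, h0, hb, ⟨w, hw⟩⟩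
      · exact (mul_ne_zero hx0 hy0) h0
      · have hxh : x ∣ h := (ValuationRing.dvd_total x h).resolve_right
          (fun hd => hx ((hImem x).mpr (Or.inr ⟨h, h0, hb, hd⟩)))
        obtain ⟨z, rfl⟩ := hxh
        have hyz : y = z * w := mul_left_cancel₀ hx0 (by rw [hw]; ring)
        have hz0 : z ≠ 0 := right_ne_zero_of_mul h0
        have hzg : Good A z := by
          by_contra hzb
          exact hy ((hImem y).mpr (Or.inr ⟨z, hz0, hzb, ⟨w, hyz⟩⟩))
        exact hb (good_mul A V (hIgood x hx) hzg)
  refine step A V hinj hgen I hIgood (fun a ha haI => ?_) h₀ h₀ne h₀bad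
  rcases (hImem _).mp haI with h0 | h
  · exact absurd (hinj (by rw [h0, map_zero])) ha
  · exact h

end main

/-- Main theorem: étale-local extension of a valuation ring. -/
theorem main (A B : Type u) [CommRing A] [IsDomain A] [ValuationRing A]
    [CommRing B] [Algebra A B] [Algebra.Etale A B] (m : Ideal B) [m.IsPrime]
    (hm : m.comap (algebraMap A B) = IsLocalRing.maximalIdeal A) :
    IsDomain (Localization.AtPrime m) ∧
    (∀ _ : IsDomain (Localization.AtPrime m), ValuationRing (Localization.AtPrime m)) ∧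
    Function.Injective (algebraMap A (Localization.AtPrime m)) ∧
    IsLocalHom (algebraMap A (Localization.AtPrime m)) ∧
    ∀ b : Localization.AtPrime m, b ≠ 0 → ∃ (a : A) (u : (Localization.AtPrime m)ˣ),
      b = u * algebraMap A (Localization.AtPrime m) a := by
  obtain ⟨hd, hv⟩ := valuationRing_atPrime A B m
  haveI := hd
  haveI := hv
  have hloc : IsLocalHom (algebraMap A (Localization.AtPrime m)) := by
    constructor
    intro a ha
    by_contra hna
    have h1 : a ∈ maximalIdeal A := hna
    rw [← hm] at h1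
    have h2 : algebraMap B (Localization.AtPrime m) (algebraMap A B a) ∈ maximalIdeal _ :=
      (IsLocalization.AtPrime.to_map_mem_maximal_iff _ m _).mpr h1
    rw [← IsScalarTower.algebraMap_apply] at h2
    exact h2 ha
  haveI := hloc
  haveI : Module.Flat A B := inferInstance
  haveI : Module.Flat A (Localization.AtPrime m) := Module.Flat.trans A B _
  have hinj : Function.Injective (algebraMap A (Localization.AtPrime m)) := by
    rw [injective_iff_map_eq_zero]
    intro a ha
    by_contra ha0
    have hreg : IsSMulRegular (Localization.AtPrime m) a :=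
      Module.Flat.isSMulRegular_of_nonZeroDivisors (mem_nonZeroDivisors_of_ne_zero ha0)
    have h1 : a • (1 : Localization.AtPrime m) = a • (0 : Localization.AtPrime m) := by
      rw [Algebra.smul_def, mul_one, ha, smul_zero]
    exact one_ne_zero (hreg h1)
  haveI : Algebra.FiniteType A B := inferInstance
  haveI : Algebra.EssFiniteType B (Localization.AtPrime m) :=
    Algebra.EssFiniteType.of_isLocalization _ m.primeCompl
  haveI : Algebra.EssFiniteType A (Localization.AtPrime m) := Algebra.EssFiniteType.comp A B _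
  haveI : Algebra.FormallyUnramified B (Localization.AtPrime m) :=
    Algebra.FormallyUnramified.of_isLocalization m.primeCompl
  haveI : Algebra.FormallyUnramified A (Localization.AtPrime m) :=
    Algebra.FormallyUnramified.comp A B _
  have hgen : Gen A (Localization.AtPrime m) :=
    gen_of_isLocalization A A B _ m.primeCompl (gen_of_finiteType A B)
  refine ⟨hd, fun _ => hv, hinj, hloc, fun b hb => ?_⟩
  obtain ⟨a, u, h⟩ := good_all A _ hinj hgen b hb
  exact ⟨a, u, h⟩

end Groth.Agent.Lib.Helper8.ValEt
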