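import Mathlib
import Groth.Agent.Lib.Helper8.ValEt
import Groth.Agent.Lib.Helper8.Hzl.Transfer

/-!
# (Strict) henselization of a valuation ring
-/

set_option autoImplicit false
universe u

namespace Groth.Agent.Lib.Helper8.ValHens

open IsLocalRing Groth.Agent.Lib.Helper8.Hzl

/-- Core: if `A → S` is injective and every nonzero element of `S` is a unit times an element of
the valuation ring `A`, then `S` is a valuation domain. -/
theorem core (A S : Type u) [CommRing A] [IsDomain A] [ValuationRing A] [CommRing S]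
    [Nontrivial S] [Algebra A S] (hinj : Function.Injective (algebraMap A S))
    (hgood : ∀ s : S, s ≠ 0 → ∃ (a : A) (u : Sˣ), s = u * algebraMap A S a) :
    IsDomain S ∧ (∀ _ : IsDomain S, ValuationRing S) := by
  have hdom : IsDomain S := by
    haveI : NoZeroDivisors S := by
      constructor
      intro x y hxy
      by_contra hcon
      push_neg at hcon
      obtain ⟨a, u, rfl⟩ := hgood x hcon.1
      obtain ⟨a', u', rfl⟩ := hgood y hcon.2
      have h1 : algebraMap A S (a * a') = 0 := by
        have h2 : (↑u * ↑u' : S) * algebraMap A S (a * a') = 0 := by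
          rw [map_mul, ← hxy]; ring
        exact ((u * u').isUnit.mul_right_eq_zero).mp (by rw [Units.val_mul]; exact h2)
      have h3 : a * a' = 0 := hinj (by rw [h1, map_zero])
      rcases mul_eq_zero.mp h3 with h | h
      · exact hcon.1 (by rw [h, map_zero, mul_zero])
      · exact hcon.2 (by rw [h, map_zero, mul_zero])
    exact NoZeroDivisors.to_isDomain S
  refine ⟨hdom, fun _ => ?_⟩
  rw [ValuationRing.iff_dvd_total]
  refine ⟨fun x y => ?_⟩
  by_cases hx : x = 0
  · right; rw [hx]; exact dvd_zero y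
  by_cases hy : y = 0
  · left; rw [hy]; exact dvd_zero x
  obtain ⟨a, u, rfl⟩ := hgood x hx
  obtain ⟨a', u', rfl⟩ := hgood y hy
  rcases ValuationRing.dvd_total a a' with ⟨c, rfl⟩ | ⟨c, rfl⟩
  · left
    exact ⟨↑u⁻¹ * ↑u' * algebraMap A S c, by
      rw [map_mul]
      calc (↑u' : S) * (algebraMap A S a * algebraMap A S c)
          = (↑u * ↑u⁻¹) * (↑u' * (algebraMap A S a * algebraMap A S c)) := by
            rw [Units.mul_inv, one_mul]
        _ = _ := by ring⟩
  · right
    exact ⟨↑u'⁻¹ * ↑u * algebraMap A S c, by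
      rw [map_mul]
      calc (↑u : S) * (algebraMap A S a' * algebraMap A S c)
          = (↑u' * ↑u'⁻¹) * (↑u * (algebraMap A S a' * algebraMap A S c)) := by
            rw [Units.mul_inv, one_mul]
        _ = _ := by ring⟩

section Hz

variable (A : Type u) [CommRing A] [IsDomain A] [ValuationRing A] (Ω : Type u) [Field Ω]
  [Algebra A Ω] [IsLocalHom (algebraMap A Ω)]

lemma comap_q (i : Idx A Ω) : i.q.comap (algebraMap A i.E) = maximalIdeal A := by
  ext r
  rw [Ideal.mem_comap, Idx.mem_q, AlgHom.commutes]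
  constructor
  · intro h
    by_contra hr
    have hu : IsUnit r := by rwa [mem_maximalIdeal, mem_nonunits_iff, not_not] at hr
    exact (hu.map (algebraMap A Ω)).ne_zero h
  · intro hr
    by_contra h
    exact hr (isUnit_of_map_unit (algebraMap A Ω) r (IsUnit.mk0 _ h))

theorem hz_good (x : Hz A Ω) (hx : x ≠ 0) :
    ∃ (a : A) (u : (Hz A Ω)ˣ), x = u * algebraMap A (Hz A Ω) a := by
  obtain ⟨i, b, rfl⟩ := exists_ofHom x
  have hb : b ≠ 0 := fun h => hx (by rw [h, map_zero])
  obtain ⟨_, _, _, _, hgood⟩ := ValEt.main A i.E i.q (comap_q A Ω i)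
  obtain ⟨a, u, hu⟩ := hgood b hb
  refine ⟨a, Units.map (ofHom A Ω i).toMonoidHom u, ?_⟩
  rw [hu, map_mul, algebraMap_eq i a]
  rfl

theorem hz_injective : Function.Injective (algebraMap A (Hz A Ω)) :=
  FaithfulSMul.algebraMap_injective A (Hz A Ω)

end Hz

/-- Transfer along an algebra isomorphism. -/
theorem of_algEquiv (A S H : Type u) [CommRing A] [IsDomain A] [ValuationRing A] [CommRing S]
    [Nontrivial S] [Algebra A S] [CommRing H] [Algebra A H] (e : S ≃ₐ[A] H)
    (hinj : Function.Injective (algebraMap A H))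
    (hgood : ∀ s : H, s ≠ 0 → ∃ (a : A) (u : Hˣ), s = u * algebraMap A H a) :
    IsDomain S ∧ (∀ _ : IsDomain S, ValuationRing S) ∧ Function.Injective (algebraMap A S) ∧
      ∀ s : S, s ≠ 0 → ∃ (a : A) (u : Sˣ), s = u * algebraMap A S a := by
  have hinjS : Function.Injective (algebraMap A S) := by
    intro a a' h
    apply hinj
    rw [← e.commutes, ← e.commutes, h]
  have hgoodS : ∀ s : S, s ≠ 0 → ∃ (a : A) (u : Sˣ), s = u * algebraMap A S a := by
    intro s hs
    have hes : e s ≠ 0 := fun h => hs (e.injective (by rw [h, map_zero]))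
    obtain ⟨a, u, hu⟩ := hgood (e s) hes
    refine ⟨a, Units.map (e.symm : H →ₐ[A] S).toRingHom.toMonoidHom u, ?_⟩
    have : s = e.symm (e s) := (e.symm_apply_apply s).symm
    rw [this, hu, map_mul, e.symm.commutes]
    rfl
  obtain ⟨h1, h2⟩ := core A S hinjS hgoodS
  exact ⟨h1, h2, hinjS, hgoodS⟩

theorem main (A S : Type u) [CommRing A] [IsDomain A] [ValuationRing A] [CommRing S]
    [IsLocalRing S] [Algebra A S] [IsLocalHom (algebraMap A S)]
    (h : Hensel.IsHenselization A S ∨ Hensel.IsStrictHenselization A S) :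
    IsDomain S ∧ (∀ _ : IsDomain S, ValuationRing S) ∧ Function.Injective (algebraMap A S) ∧
      ∀ s : S, s ≠ 0 → ∃ (a : A) (u : Sˣ), s = u * algebraMap A S a := by
  rcases h with h | h
  · obtain ⟨e⟩ := nonempty_algEquiv_hens A S
    exact of_algEquiv A S _ e (hz_injective A _) (hz_good A _)
  · obtain ⟨e⟩ := nonempty_algEquiv_shens A S
    exact of_algEquiv A S _ e (hz_injective A _) (hz_good A _)

end Groth.Agent.Lib.Helper8.ValHens
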