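import Mathlib
import Groth.Agent.Lib.Helper8.ValEt
import Groth.Agent.Lib.Helper8.ValHens

/-!
# Smooth algebras over a valuation ring at generic points of the special fibre
-/

set_option autoImplicit false
universe u

namespace Groth.Agent.Lib.Helper8.ValSmooth

open IsLocalRing Groth.Agent.Lib.Helper8.ValEt

/-- Abstract version of `ValEt.main`. -/
theorem main_abs (A V' : Type u) [CommRing A] [IsDomain A] [ValuationRing A] [CommRing V']
    [IsLocalRing V'] [Algebra A V'] [IsLocalHom (algebraMap A V')] [Module.Flat A V']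
    [Algebra.EssFiniteType A V'] [Algebra.FormallyUnramified A V'] (hgen : Gen A V') :
    IsDomain V' ∧ (∀ _ : IsDomain V', ValuationRing V') ∧
      Function.Injective (algebraMap A V') ∧
      ∀ b : V', b ≠ 0 → ∃ (a : A) (u : V'ˣ), b = u * algebraMap A V' a := by
  have hflatI : ∀ I : Ideal V', Module.Flat V' I := by
    intro I
    haveI : Module.IsTorsionFree A V' := inferInstance
    haveI : Module.IsTorsionFree A I :=
      Function.Injective.moduleIsTorsionFree (Subtype.val : I → V') Subtype.val_injective
        (fun r x => by simp)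
    haveI : Module.Flat A I := by
      rw [Module.Flat.flat_iff_torsion_eq_bot_of_isBezout,
        ← Submodule.isTorsionFree_iff_torsion_eq_bot]
      infer_instance
    exact Algebra.FormallyUnramified.flat_of_restrictScalars A V' I
  obtain ⟨hd, hv⟩ := Groth.Agent.Lib.Helper7.valuationRing_of_fg_ideals_flat V'
    (fun I _ => hflatI I) (maximalIdeal V')
  let e : V' ≃ₐ[V'] Localization.AtPrime (maximalIdeal V') :=
    IsLocalization.atUnits V' (maximalIdeal V').primeCompl (fun x hx => by
      have : x ∉ maximalIdeal V' := hx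
      rwa [mem_maximalIdeal, mem_nonunits_iff, not_not] at this)
  haveI hdom : IsDomain V' := MulEquiv.isDomain _ (e : V' ≃* Localization.AtPrime (maximalIdeal V'))
  haveI hval : ValuationRing V' := by
    rw [ValuationRing.iff_dvd_total]
    refine ⟨fun x y => ?_⟩
    rcases ValuationRing.dvd_total (e x) (e y) with h | h
    · left; exact (map_dvd_iff e).mp h
    · right; exact (map_dvd_iff e).mp h
  haveI : Module.FaithfullyFlat A V' := Module.FaithfullyFlat.of_flat_of_isLocalHom
  have hinj : Function.Injective (algebraMap A V') := FaithfulSMul.algebraMap_injective A V'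
  refine ⟨hdom, fun _ => hval, hinj, fun b hb => ?_⟩
  obtain ⟨a, u, h⟩ := good_all A V' hinj hgen b hb
  exact ⟨a, u, h⟩

section gauss

variable (V : Type u) [CommRing V] [IsDomain V] [ValuationRing V] (σ : Type) 

/-- The ideal `m_V V[x]`. -/
noncomputable abbrev gaussIdeal : Ideal (MvPolynomial σ V) :=
  (maximalIdeal V).map (algebraMap V (MvPolynomial σ V))

instance gaussIdeal_isPrime : (gaussIdeal V σ).IsPrime := by
  have : gaussIdeal V σ = RingHom.ker (MvPolynomial.map (residue V) :
      MvPolynomial σ V →+* MvPolynomial σ (ResidueField V)) := by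
    rw [MvPolynomial.ker_map, IsLocalRing.ker_residue]
    rfl
  rw [this]
  exact RingHom.ker_isPrime _

lemma mem_gaussIdeal (f : MvPolynomial σ V) :
    f ∈ gaussIdeal V σ ↔ ∀ m, f.coeff m ∈ maximalIdeal V :=
  MvPolynomial.mem_map_C_iff

/-- A nonzero polynomial is an element of `V` times a polynomial outside the Gauss ideal. -/
theorem exists_content (f : MvPolynomial σ V) (hf : f ≠ 0) :
    ∃ (c : V) (f₀ : MvPolynomial σ V), f = MvPolynomial.C c * f₀ ∧ f₀ ∉ gaussIdeal V σ := by
  classical
  have hne : f.support.Nonempty := by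
    rwa [Finset.nonempty_iff_ne_empty, Ne, MvPolynomial.support_eq_empty]
  haveI : Nonempty f.support := ⟨⟨hne.choose, hne.choose_spec⟩⟩
  obtain ⟨⟨m₀, hm₀⟩, hdvd⟩ := exists_dvd_all_fintype (fun m : f.support => f.coeff m.1)
  have hc0 : f.coeff m₀ ≠ 0 := MvPolynomial.mem_support_iff.mp hm₀
  have hall : ∀ m, f.coeff m₀ ∣ f.coeff m := by
    intro m
    by_cases hm : m ∈ f.support
    · exact hdvd ⟨m, hm⟩
    · rw [MvPolynomial.notMem_support_iff.mp hm]; exact dvd_zero _
  have hmem : f ∈ Ideal.map (MvPolynomial.C : V →+* MvPolynomial σ V)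
      (Ideal.span {f.coeff m₀}) := by
    rw [MvPolynomial.mem_map_C_iff]
    intro m
    exact Ideal.mem_span_singleton.mpr (hall m)
  rw [Ideal.map_span, Set.image_singleton] at hmem
  obtain ⟨f₀, hf₀⟩ := Ideal.mem_span_singleton'.mp hmem
  refine ⟨f.coeff m₀, f₀, by rw [mul_comm]; exact hf₀.symm, ?_⟩
  intro hmem0
  have h1 := (mem_gaussIdeal V σ f₀).mp hmem0 m₀
  have h2 : f.coeff m₀ = f.coeff m₀ * f₀.coeff m₀ := by
    conv_lhs => rw [← hf₀, mul_comm, MvPolynomial.coeff_C_mul]
  have h3 : f₀.coeff m₀ = 1 := by
    have : f.coeff m₀ * 1 = f.coeff m₀ * f₀.coeff m₀ := by rw [mul_one]; exact h2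
    exact (mul_left_cancel₀ hc0 this).symm
  rw [h3] at h1
  exact (maximalIdeal.isMaximal V).ne_top ((Ideal.eq_top_iff_one _).mpr h1)

/-- The Gauss localization. -/
abbrev Gauss : Type u := Localization.AtPrime (gaussIdeal V σ)

theorem gauss_injective : Function.Injective (algebraMap V (Gauss V σ)) := by
  rw [IsScalarTower.algebraMap_eq V (MvPolynomial σ V) (Gauss V σ)]
  exact (IsLocalization.injective (Gauss V σ) (gaussIdeal V σ).primeCompl_le_nonZeroDivisors).comp
    (MvPolynomial.C_injective σ V)

theorem gauss_isLocalHom : IsLocalHom (algebraMap V (Gauss V σ)) := by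
  constructor
  intro v hv
  by_contra hnv
  have h1 : algebraMap V (MvPolynomial σ V) v ∈ gaussIdeal V σ :=
    Ideal.mem_map_of_mem _ hnv
  have h2 : algebraMap (MvPolynomial σ V) (Gauss V σ) (algebraMap V (MvPolynomial σ V) v) ∈
      maximalIdeal _ := (IsLocalization.AtPrime.to_map_mem_maximal_iff _ (gaussIdeal V σ) _).mpr h1
  rw [← IsScalarTower.algebraMap_apply] at h2
  exact h2 hv

theorem gauss_good (w : Gauss V σ) (hw : w ≠ 0) :
    ∃ (v : V) (u : (Gauss V σ)ˣ), w = u * algebraMap V (Gauss V σ) v := by
  obtain ⟨⟨f, s⟩, hfs⟩ := IsLocalization.surj (gaussIdeal V σ).primeCompl w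
  have hsu : IsUnit (algebraMap (MvPolynomial σ V) (Gauss V σ) (s : MvPolynomial σ V)) :=
    IsLocalization.map_units _ s
  have hf : f ≠ 0 := by
    rintro rfl
    rw [map_zero] at hfs
    exact hw (hsu.mul_left_eq_zero.mp hfs)
  obtain ⟨c, f₀, rfl, hf₀⟩ := exists_content V σ f hf
  have hf₀u : IsUnit (algebraMap (MvPolynomial σ V) (Gauss V σ) f₀) :=
    (IsLocalization.AtPrime.isUnit_to_map_iff (Gauss V σ) (gaussIdeal V σ) f₀).mpr hf₀
  refine ⟨c, hf₀u.unit * hsu.unit⁻¹, ?_⟩
  have h1 : w = algebraMap (MvPolynomial σ V) (Gauss V σ) (MvPolynomial.C c * f₀) *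
      ↑hsu.unit⁻¹ := by
    rw [← hfs, mul_assoc]
    have : algebraMap (MvPolynomial σ V) (Gauss V σ) (s : MvPolynomial σ V) * ↑hsu.unit⁻¹ = 1 :=
      hsu.mul_val_inv
    rw [this, mul_one]
  rw [h1, map_mul, Units.val_mul, IsUnit.unit_spec,
    IsScalarTower.algebraMap_apply V (MvPolynomial σ V) (Gauss V σ), MvPolynomial.algebraMap_eq]
  ring

theorem gauss_valuationRing :
    ∃ _ : IsDomain (Gauss V σ), ValuationRing (Gauss V σ) := by
  obtain ⟨h1, h2⟩ := ValHens.core V (Gauss V σ) (gauss_injective V σ) (gauss_good V σ)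
  exact ⟨h1, h2 h1⟩

end gauss

section smooth

/-- Étale over a polynomial ring over a valuation ring, at a prime over the Gauss ideal. -/
theorem L1 (V : Type u) [CommRing V] [IsDomain V] [ValuationRing V] (n : ℕ) (B : Type u)
    [CommRing B] [Algebra V B]
    [Algebra (MvPolynomial (Fin n) V) B] [IsScalarTower V (MvPolynomial (Fin n) V) B]
    [Algebra.Etale (MvPolynomial (Fin n) V) B] (p' : Ideal B) [p'.IsPrime]
    (hq : p'.under (MvPolynomial (Fin n) V) = gaussIdeal V (Fin n)) :
    (∃ _ : IsDomain (Localization.AtPrime p'), ValuationRing (Localization.AtPrime p')) ∧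
      Function.Injective (algebraMap V (Localization.AtPrime p')) ∧
      ∀ x : Localization.AtPrime p', x ≠ 0 →
        ∃ (v : V) (w : (Localization.AtPrime p')ˣ),
          x = algebraMap V (Localization.AtPrime p') v * w := by
  haveI : p'.LiesOver (gaussIdeal V (Fin n)) := ⟨hq.symm⟩
  obtain ⟨hWd, hWv⟩ := gauss_valuationRing V (Fin n)
  letI : Algebra (Gauss V (Fin n)) (Localization.AtPrime p') :=
    Localization.AtPrime.algebraOfLiesOver (gaussIdeal V (Fin n)) p'
  haveI : Localization.AtPrime.IsLiesOverAlgebra (gaussIdeal V (Fin n)) p' := ⟨rfl⟩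
  haveI : IsScalarTower (MvPolynomial (Fin n) V) (Gauss V (Fin n)) (Localization.AtPrime p') :=
    inferInstance
  haveI : IsLocalHom (algebraMap (Gauss V (Fin n)) (Localization.AtPrime p')) := by
    rw [Localization.AtPrime.IsLiesOverAlgebra.algebraMap_eq]
    exact Localization.isLocalHom_localRingHom _ _ _ _
  haveI : Algebra.EssFiniteType B (Localization.AtPrime p') :=
    Algebra.EssFiniteType.of_isLocalization _ p'.primeCompl
  haveI : Algebra.EssFiniteType (MvPolynomial (Fin n) V) (Localization.AtPrime p') :=
    Algebra.EssFiniteType.comp _ B _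
  haveI : Algebra.EssFiniteType (Gauss V (Fin n)) (Localization.AtPrime p') :=
    Algebra.EssFiniteType.of_comp (MvPolynomial (Fin n) V) _ _
  haveI : Algebra.FormallyUnramified B (Localization.AtPrime p') :=
    Algebra.FormallyUnramified.of_isLocalization p'.primeCompl
  haveI : Algebra.FormallyUnramified (MvPolynomial (Fin n) V) (Localization.AtPrime p') :=
    Algebra.FormallyUnramified.comp _ B _
  haveI : Algebra.FormallyUnramified (Gauss V (Fin n)) (Localization.AtPrime p') :=
    Algebra.FormallyUnramified.of_restrictScalars (MvPolynomial (Fin n) V) _ _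
  haveI : Module.Flat (MvPolynomial (Fin n) V) B := inferInstance
  haveI : Module.Flat (MvPolynomial (Fin n) V) (Localization.AtPrime p') :=
    Module.Flat.trans _ B _
  haveI : Module.Flat (Gauss V (Fin n)) (Localization.AtPrime p') :=
    (Module.flat_iff_of_isLocalization (Gauss V (Fin n)) (gaussIdeal V (Fin n)).primeCompl
      (Localization.AtPrime p')).mpr inferInstance
  have hgen : Gen (Gauss V (Fin n)) (Localization.AtPrime p') :=
    gen_of_isLocalization (MvPolynomial (Fin n) V) (Gauss V (Fin n)) B _ p'.primeCompl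
      (gen_of_finiteType (MvPolynomial (Fin n) V) B)
  obtain ⟨hd, hv, hinjW, hgoodW⟩ := main_abs (Gauss V (Fin n)) (Localization.AtPrime p') hgen
  haveI : IsScalarTower V (Gauss V (Fin n)) (Localization.AtPrime p') :=
    IsScalarTower.of_algebraMap_eq (fun v => by
      rw [IsScalarTower.algebraMap_apply V B (Localization.AtPrime p'),
        IsScalarTower.algebraMap_apply V (MvPolynomial (Fin n) V) B,
        ← IsScalarTower.algebraMap_apply (MvPolynomial (Fin n) V) B (Localization.AtPrime p'),
        IsScalarTower.algebraMap_apply (MvPolynomial (Fin n) V) (Gauss V (Fin n))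
          (Localization.AtPrime p'),
        ← IsScalarTower.algebraMap_apply V (MvPolynomial (Fin n) V) (Gauss V (Fin n))])
  refine ⟨⟨hd, hv hd⟩, ?_, ?_⟩
  · rw [IsScalarTower.algebraMap_eq V (Gauss V (Fin n)) (Localization.AtPrime p')]
    exact hinjW.comp (gauss_injective V (Fin n))
  · intro x hx
    obtain ⟨ω, u, hu⟩ := hgoodW x hx
    have hω : ω ≠ 0 := by
      rintro rfl
      rw [map_zero, mul_zero] at hu
      exact hx hu
    obtain ⟨v, uW, hW⟩ := gauss_good V (Fin n) ω hω
    refine ⟨v, u * Units.map (algebraMap (Gauss V (Fin n))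
      (Localization.AtPrime p')).toMonoidHom uW, ?_⟩
    rw [hu, hW, map_mul,
      ← IsScalarTower.algebraMap_apply V (Gauss V (Fin n)) (Localization.AtPrime p'),
      Units.val_mul]
    simp only [Units.coe_map, RingHom.toMonoidHom_eq_coe, MonoidHom.coe_coe]
    ring

/-- Going down: the prime of `A_f` over a minimal prime of `m_V A` lies over the Gauss ideal. -/
theorem L2 (V : Type u) [CommRing V] [IsDomain V] [ValuationRing V]
    (A : Type u) [CommRing A] [Algebra V A] (p : Ideal A) [p.IsPrime]
    (hp : p ∈ ((maximalIdeal V).map (algebraMap V A)).minimalPrimes) (f : A) (hfp : f ∉ p)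
    (n : ℕ) [Algebra (MvPolynomial (Fin n) V) (Localization.Away f)]
    [IsScalarTower V (MvPolynomial (Fin n) V) (Localization.Away f)]
    [Module.Flat (MvPolynomial (Fin n) V) (Localization.Away f)]
    [hp' : (p.map (algebraMap A (Localization.Away f))).IsPrime] :
    (p.map (algebraMap A (Localization.Away f))).under (MvPolynomial (Fin n) V) =
      gaussIdeal V (Fin n) := by
  have hdisj : Disjoint (Submonoid.powers f : Set A) p :=
    (Ideal.disjoint_powers_iff_notMem_of_isPrime _).mpr hfp
  have hcomap : (p.map (algebraMap A (Localization.Away f))).under A = p :=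
    IsLocalization.under_map_of_isPrime_disjoint (.powers f) _ ‹_› hdisj
  have hIp : (maximalIdeal V).map (algebraMap V A) ≤ p := hp.1.2
  have hle : gaussIdeal V (Fin n) ≤
      (p.map (algebraMap A (Localization.Away f))).under (MvPolynomial (Fin n) V) := by
    rw [gaussIdeal, Ideal.map_le_iff_le_comap]
    intro v hv
    rw [Ideal.mem_comap, Ideal.under_def, Ideal.mem_comap,
      ← IsScalarTower.algebraMap_apply V (MvPolynomial (Fin n) V) (Localization.Away f),
      IsScalarTower.algebraMap_apply V A (Localization.Away f)]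
    exact Ideal.mem_map_of_mem _ (hIp (Ideal.mem_map_of_mem _ hv))
  by_contra hne
  have hlt : gaussIdeal V (Fin n) <
      (p.map (algebraMap A (Localization.Away f))).under (MvPolynomial (Fin n) V) :=
    lt_of_le_of_ne hle (Ne.symm hne)
  haveI : (p.map (algebraMap A (Localization.Away f))).LiesOver
      ((p.map (algebraMap A (Localization.Away f))).under (MvPolynomial (Fin n) V)) := ⟨rfl⟩
  obtain ⟨P', hP'lt, hP'prime, hP'over⟩ := Ideal.exists_ideal_lt_liesOver_of_lt
    (p := gaussIdeal V (Fin n))
    (q := (p.map (algebraMap A (Localization.Away f))).under (MvPolynomial (Fin n) V))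
    (p.map (algebraMap A (Localization.Away f))) hlt
  have h1 : P'.under A ≤ p := by
    rw [← hcomap]
    exact Ideal.comap_mono hP'lt.le
  have h2 : (maximalIdeal V).map (algebraMap V A) ≤ P'.under A := by
    rw [Ideal.map_le_iff_le_comap]
    intro v hv
    rw [Ideal.mem_comap, Ideal.under_def, Ideal.mem_comap,
      ← IsScalarTower.algebraMap_apply V A (Localization.Away f),
      IsScalarTower.algebraMap_apply V (MvPolynomial (Fin n) V) (Localization.Away f)]
    have h3 : algebraMap V (MvPolynomial (Fin n) V) v ∈ P'.under (MvPolynomial (Fin n) V) := by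
      rw [← hP'over.over]
      exact Ideal.mem_map_of_mem _ hv
    exact h3
  have h4 : p ≤ P'.under A := hp.2 ⟨inferInstance, h2⟩ h1
  have h5 : p.map (algebraMap A (Localization.Away f)) ≤ P' := by
    calc p.map (algebraMap A (Localization.Away f))
        ≤ (P'.under A).map (algebraMap A (Localization.Away f)) := Ideal.map_mono h4
      _ = P' := IsLocalization.map_under (.powers f) _ P'
  exact (not_le_of_gt hP'lt) h5

end smooth

section final

theorem atPrime_congr {R S : Type*} [CommRing R] [CommRing S] [Algebra R S] (I J : Ideal R)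
    [hI : I.IsPrime] [hJ : J.IsPrime] (h : I = J) [hl : IsLocalization.AtPrime S I] :
    IsLocalization.AtPrime S J := by
  subst h
  exact hl

theorem smooth_main (V : Type u) [CommRing V] [IsDomain V] [ValuationRing V]
    (A : Type u) [CommRing A] [IsDomain A] [Algebra V A] [Algebra.Smooth V A]
    (p : Ideal A) [p.IsPrime]
    (hp : p ∈ ((maximalIdeal V).map (algebraMap V A)).minimalPrimes) :
    (∃ _ : IsDomain (Localization.AtPrime p), ValuationRing (Localization.AtPrime p)) ∧
      Function.Injective (algebraMap V (Localization.AtPrime p)) ∧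
      IsLocalHom (algebraMap V (Localization.AtPrime p)) ∧
      ∀ x : Localization.AtPrime p, x ≠ 0 →
        ∃ (v : V) (w : (Localization.AtPrime p)ˣ),
          x = algebraMap V (Localization.AtPrime p) v * w := by
  classical
  haveI : Algebra.FormallySmooth A (Localization.AtPrime p) :=
    Algebra.FormallySmooth.of_isLocalization p.primeCompl
  haveI : Algebra.IsSmoothAt V p := Algebra.FormallySmooth.comp V A _
  haveI : Algebra.FinitePresentation V A := inferInstance
  obtain ⟨f, hfp, n, alg, tower, hse⟩ :=
    Algebra.IsSmoothAt.exists_isStandardEtale_mvPolynomial (R := V) (p := p)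
  letI := alg
  haveI := tower
  haveI := hse
  haveI : Algebra.Etale (MvPolynomial (Fin n) V) (Localization.Away f) := inferInstance
  haveI : Module.Flat (MvPolynomial (Fin n) V) (Localization.Away f) := inferInstance
  have hdisj : Disjoint (Submonoid.powers f : Set A) p :=
    (Ideal.disjoint_powers_iff_notMem_of_isPrime _).mpr hfp
  haveI hp'prime : (p.map (algebraMap A (Localization.Away f))).IsPrime :=
    IsLocalization.isPrime_of_isPrime_disjoint (.powers f) _ _ ‹_› hdisj
  have hcomap : (p.map (algebraMap A (Localization.Away f))).comap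
      (algebraMap A (Localization.Away f)) = p :=
    IsLocalization.under_map_of_isPrime_disjoint (.powers f) _ ‹_› hdisj
  have hq := L2 V A p hp f hfp n
  obtain ⟨⟨hd, hv⟩, hinj, hgood⟩ := L1 V n (Localization.Away f)
    (p.map (algebraMap A (Localization.Away f))) hq
  haveI hloc : IsLocalization.AtPrime
      (Localization.AtPrime (p.map (algebraMap A (Localization.Away f)))) p := by
    exact atPrime_congr ((p.map (algebraMap A (Localization.Away f))).comap
        (algebraMap A (Localization (Submonoid.powers f)))) p hcomap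
  let e : Localization.AtPrime p ≃ₐ[A]
      Localization.AtPrime (p.map (algebraMap A (Localization.Away f))) :=
    IsLocalization.algEquiv p.primeCompl _ _
  have heV : ∀ v : V, e (algebraMap V (Localization.AtPrime p) v) =
      algebraMap V (Localization.AtPrime (p.map (algebraMap A (Localization.Away f)))) v := by
    intro v
    rw [IsScalarTower.algebraMap_apply V A (Localization.AtPrime p), e.commutes,
      IsScalarTower.algebraMap_apply A (Localization.Away f)
        (Localization.AtPrime (p.map (algebraMap A (Localization.Away f)))),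
      ← IsScalarTower.algebraMap_apply V A (Localization.Away f),
      ← IsScalarTower.algebraMap_apply V (Localization.Away f)
        (Localization.AtPrime (p.map (algebraMap A (Localization.Away f))))]
  haveI hdom : IsDomain (Localization.AtPrime p) :=
    MulEquiv.isDomain _ (e : Localization.AtPrime p ≃*
      Localization.AtPrime (p.map (algebraMap A (Localization.Away f))))
  have hval : ValuationRing (Localization.AtPrime p) := by
    rw [ValuationRing.iff_dvd_total]
    refine ⟨fun x y => ?_⟩
    rcases ValuationRing.dvd_total (e x) (e y) with h | h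
    · left; exact (map_dvd_iff e).mp h
    · right; exact (map_dvd_iff e).mp h
  refine ⟨⟨hdom, hval⟩, ?_, ?_, ?_⟩
  · intro v v' h
    apply hinj
    rw [← heV, ← heV, h]
  · constructor
    intro v hv'
    by_contra hnv
    have h1 : algebraMap V A v ∈ p := hp.1.2 (Ideal.mem_map_of_mem _ hnv)
    have h2 : algebraMap A (Localization.AtPrime p) (algebraMap V A v) ∈ maximalIdeal _ :=
      (IsLocalization.AtPrime.to_map_mem_maximal_iff _ p _).mpr h1
    rw [← IsScalarTower.algebraMap_apply] at h2
    exact h2 hv'
  · intro x hx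
    have hex : e x ≠ 0 := fun h => hx (e.injective (by rw [h, map_zero]))
    obtain ⟨v, w, hw⟩ := hgood (e x) hex
    refine ⟨v, Units.map (e.symm : _ →ₐ[A] Localization.AtPrime p).toRingHom.toMonoidHom w, ?_⟩
    have : x = e.symm (e x) := (e.symm_apply_apply x).symm
    rw [this, hw, map_mul, ← heV, e.symm_apply_apply]
    rfl

end final

end Groth.Agent.Lib.Helper8.ValSmooth
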