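import Mathlib
import Groth.Agent.Lib.Helper8.CoreNL
import Groth.Agent.Lib.Helper12.ValDim4
import Groth.Agent.Lib.Helper12.DimIneq

/-!
# Helper8 library: hypersurfaces with empty generic fibre are vertical (ring level)

`exists_fibre_minimal_prime_mem`: `C` of finite type over `A` with a smallest prime `P₀`, `g ∈ 𝔮`
such that no prime containing `g` lies over `P₀ ∩ A`, and the residue transcendence degrees in
the fibre through `𝔮` bounded by the generic one.  Then `g` lies in a prime `P ≤ 𝔮` minimal in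
the fibre of `𝔮`.
-/

set_option autoImplicit false
universe u

namespace Groth.Agent.Lib.Helper8.VertRing

open Groth.Agent.Lib.Helper12

theorem exists_fibre_minimal_prime_mem {A C : Type u} [CommRing A] [CommRing C] [Algebra A C]
    [Algebra.FiniteType A C] (P₀ : Ideal C) [P₀.IsPrime]
    (hP₀ : ∀ P : Ideal C, P.IsPrime → P₀ ≤ P)
    (𝔮 : Ideal C) [𝔮.IsPrime] (g : C) (hg : g ∈ 𝔮)
    (Hdim : ∀ (P : Ideal C) [P.IsPrime], P ≤ 𝔮 → P.under A = 𝔮.under A →
        Algebra.trdeg (A ⧸ P.under A) (C ⧸ P) ≤ Algebra.trdeg (A ⧸ P₀.under A) (C ⧸ P₀))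
    (Hη : ∀ (P : Ideal C) [P.IsPrime], g ∈ P → P.under A ≠ P₀.under A) :
    ∃ P : Ideal C, P.IsPrime ∧ P ≤ 𝔮 ∧ P.under A = 𝔮.under A ∧
      (∀ Z : Ideal C, Z.IsPrime → Z < P → Z.under A ≠ P.under A) ∧ g ∈ P := by
  by_contra hcon
  push Not at hcon
  set p₀ := P₀.under A with hp₀
  have hinj : Function.Injective (algebraMap (A ⧸ p₀) (C ⧸ P₀)) :=
    Ideal.algebraMap_quotient_injective
  have hsurj : Function.Surjective (Ideal.Quotient.mk P₀) := Ideal.Quotient.mk_surjective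
  have hP₀𝔮 : P₀ ≤ 𝔮 := hP₀ 𝔮 inferInstance
  haveI hQ' : (𝔮.map (Ideal.Quotient.mk P₀)).IsPrime := DimIneq.isPrime_map_mk_of_le P₀ 𝔮 hP₀𝔮
  have hQ'comap := DimIneq.comap_map_mk_of_le P₀ 𝔮 hP₀𝔮
  haveI : Algebra.FiniteType (A ⧸ p₀) (C ⧸ P₀) := by
    haveI : Algebra.FiniteType A (C ⧸ P₀) :=
      Algebra.FiniteType.of_surjective (Ideal.Quotient.mkₐ A P₀) Ideal.Quotient.mk_surjective
    exact Algebra.FiniteType.of_restrictScalars_finiteType A (A ⧸ p₀) (C ⧸ P₀)
  have hcinj : Function.Injective (Ideal.comap (Ideal.Quotient.mk p₀)) :=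
    Ideal.comap_injective_of_surjective _ Ideal.Quotient.mk_surjective
  -- transfer of the fibre condition
  have hunder_iff : ∀ P' Q' : Ideal (C ⧸ P₀),
      (P'.comap (Ideal.Quotient.mk P₀)).under A = (Q'.comap (Ideal.Quotient.mk P₀)).under A ↔
        P'.under (A ⧸ p₀) = Q'.under (A ⧸ p₀) := by
    intro P' Q'
    rw [ValDim.under_comap_mk P₀ P', ValDim.under_comap_mk P₀ Q']
    exact hcinj.eq_iff
  have hlift : ∀ P' : Ideal (C ⧸ P₀), P'.IsPrime →
      ∃ P : Ideal C, P.IsPrime ∧ P₀ ≤ P ∧ P.map (Ideal.Quotient.mk P₀) = P' ∧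
        P'.comap (Ideal.Quotient.mk P₀) = P := by
    intro P' hP'
    haveI := hP'
    refine ⟨P'.comap (Ideal.Quotient.mk P₀), Ideal.comap_isPrime _ _, ?_,
      Ideal.map_comap_of_surjective _ hsurj P', rfl⟩
    intro x hx
    rw [Ideal.mem_comap, Ideal.Quotient.eq_zero_iff_mem.mpr hx]; exact zero_mem _
  obtain ⟨𝔭', h𝔭'prime, h𝔭'le, hg𝔭', h𝔭'bot⟩ := CoreNL.exists_horizontal_prime_of_domain hinj
    (𝔮.map (Ideal.Quotient.mk P₀)) (Ideal.Quotient.mk P₀ g) (Ideal.mem_map_of_mem _ hg)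
    (by
      intro P' hP' hle hunder
      obtain ⟨P, hPprime, hP₀P, rfl, hPcomap⟩ := hlift P' hP'
      haveI := hPprime
      have hP𝔮 : P ≤ 𝔮 := by
        rw [← hQ'comap, ← hPcomap]; exact Ideal.comap_mono hle
      have hPunder : P.under A = 𝔮.under A := by
        have := (hunder_iff (P.map (Ideal.Quotient.mk P₀)) (𝔮.map (Ideal.Quotient.mk P₀))).mpr
          hunder
        rwa [hPcomap, hQ'comap] at this
      rw [ValDim.trdeg_quotient_quotient P₀ P hP₀P]
      exact Hdim P hP𝔮 hPunder)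
    (by
      intro P' hP' hle hunder hmin hgP'
      obtain ⟨P, hPprime, hP₀P, rfl, hPcomap⟩ := hlift P' hP'
      haveI := hPprime
      have hP𝔮 : P ≤ 𝔮 := by
        rw [← hQ'comap, ← hPcomap]; exact Ideal.comap_mono hle
      have hPunder : P.under A = 𝔮.under A := by
        have := (hunder_iff (P.map (Ideal.Quotient.mk P₀)) (𝔮.map (Ideal.Quotient.mk P₀))).mpr
          hunder
        rwa [hPcomap, hQ'comap] at this
      have hgP : g ∈ P := by
        rw [← hPcomap]; exact hgP'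
      refine hcon P hPprime hP𝔮 hPunder ?_ hgP
      intro Z hZ hlt heq
      haveI := hZ
      have hP₀Z : P₀ ≤ Z := hP₀ Z hZ
      haveI hZ' : (Z.map (Ideal.Quotient.mk P₀)).IsPrime := DimIneq.isPrime_map_mk_of_le P₀ Z hP₀Z
      have hZcomap := DimIneq.comap_map_mk_of_le P₀ Z hP₀Z
      refine hmin (Z.map (Ideal.Quotient.mk P₀)) hZ' ?_ ?_
      · refine lt_of_le_of_ne (Ideal.map_mono hlt.le) ?_
        intro h
        apply hlt.ne
        rw [← hZcomap, h, hPcomap]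
      · rw [← hunder_iff, hZcomap, hPcomap]
        exact heq)
  haveI := h𝔭'prime
  have h1 : (𝔭'.comap (Ideal.Quotient.mk P₀)).under A = p₀ := by
    rw [ValDim.under_comap_mk P₀ 𝔭', h𝔭'bot, ← RingHom.ker_eq_comap_bot, Ideal.mk_ker]
  exact Hη (𝔭'.comap (Ideal.Quotient.mk P₀)) hg𝔭' h1

end Groth.Agent.Lib.Helper8.VertRing
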