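import Mathlib
import Groth.Agent.Lib.Helper8.VertRing
import Groth.Agent.Lib.Helper8.NormFibreSch
import Groth.Agent.Lib.Helper12.ValDimSch
import Groth.Agent.Lib.Helper12.SchemeDimFT4
import Groth.Agent.Lib.Helper12.SchemeDimIneq2
import Groth.Agent.Lib.Helper12.ChevalleyCor

/-!
# Helper8 library: locally principal closed subschemes with empty generic fibre are vertical
-/

set_option autoImplicit false
universe u
open AlgebraicGeometry CategoryTheory TopologicalSpace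

namespace Groth.Agent.Lib.Helper8.VertSch

open Groth.Agent.Lib.Helper12 Groth.Agent.Lib.Helper12.SchemeDimIneq
  Groth.Agent.Lib.Helper12.SchemeDimFT

theorem exists_fibre_generic_in_support {X S : Scheme.{u}} (f : X ⟶ S) [IrreducibleSpace ↑S]
    [IrreducibleSpace ↑X] [IsDominant f] [LocallyOfFiniteType f] (Z : X.IdealSheafData)
    (hZ : ∀ x : X, ∃ (U : X.Opens) (hU : IsAffineOpen U) (g : Γ(X, U)),
      x ∈ U ∧ Z.ideal ⟨U, hU⟩ = Ideal.span {g})
    (hη : ∀ x ∈ (Z.support : Set ↑X), f x ≠ genericPoint ↑S) (x : X)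
    (hdim : topologicalKrullDim ↑(f.fiber (f x)) ≤
      topologicalKrullDim ↑(f.fiber (genericPoint ↑S)))
    (hxZ : x ∈ (Z.support : Set X)) :
    ∃ y : X, y ⤳ x ∧ f y = f x ∧ y ∈ (Z.support : Set X) ∧
      ∀ c : X, f c = f x → c ⤳ y → c = y := by
  obtain ⟨U₀, hU₀, g₀, hxU₀, hZU₀⟩ := hZ x
  obtain ⟨_, ⟨V, hV, rfl⟩, hxV, -⟩ := S.isBasis_affineOpens.exists_subset_of_mem_open
    (Set.mem_univ (f x)) isOpen_univ
  obtain ⟨_, ⟨U, hU, rfl⟩, hxU, hUle⟩ := X.isBasis_affineOpens.exists_subset_of_mem_open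
    (show x ∈ ((U₀ ⊓ f ⁻¹ᵁ V : X.Opens) : Set X) from ⟨hxU₀, hxV⟩) (U₀ ⊓ f ⁻¹ᵁ V).2
  have hUU₀ : U ≤ U₀ := fun z hz => (hUle hz).1
  have hUV : U ≤ f ⁻¹ᵁ V := fun z hz => (hUle hz).2
  letI := (f.appLE V U hUV).hom.toAlgebra
  haveI : Algebra.FiniteType Γ(S, V) Γ(X, U) := Scheme.Hom.finiteType_appLE f hV hU hUV
  set g : Γ(X, U) := (X.presheaf.map (homOfLE hUU₀).op).hom g₀ with hg
  have hZU : Z.ideal ⟨U, hU⟩ = Ideal.span {g} := by
    have h1 := Z.map_ideal (U := ⟨U, hU⟩) (V := ⟨U₀, hU₀⟩) hUU₀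
    rw [hZU₀, Ideal.map_span, Set.image_singleton] at h1
    exact h1.symm
  have hsupp : ∀ (y : X) (hy : y ∈ U),
      y ∈ (Z.support : Set X) ↔ g ∈ (hU.primeIdealOf ⟨y, hy⟩).asIdeal := by
    intro y hy
    have h1 : y ∈ Z.support ↔ y ∈ X.zeroLocus (U := U) (Z.ideal ⟨U, hU⟩) :=
      Scheme.IdealSheafData.mem_support_iff_of_mem (U := ⟨U, hU⟩) hy
    rw [SetLike.mem_coe, h1, hZU, Scheme.zeroLocus_span, Scheme.zeroLocus_singleton,
      Set.mem_compl_iff, SetLike.mem_coe, mem_basicOpen_iff_notMem_primeIdealOf hU ⟨y, hy⟩ g,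
      not_not]
  -- the generic point
  have hξx : genericPoint X ⤳ x := genericPoint_specializes x
  have hξU : genericPoint X ∈ U := hξx.mem_open U.2 hxU
  have hfξ : f.base (genericPoint X) = genericPoint S := ChevalleyCor.map_genericPoint f
  have hP₀ : ∀ P : Ideal Γ(X, U), P.IsPrime →
      (hU.primeIdealOf ⟨genericPoint X, hξU⟩).asIdeal ≤ P := by
    intro P hP
    obtain ⟨⟨y, hy⟩, hyP⟩ := SchemeDimFT.exists_primeIdealOf_eq hU ⟨P, hP⟩
    have h1 := (primeIdealOf_le_iff hU ⟨genericPoint X, hξU⟩ ⟨y, hy⟩).mpr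
      (genericPoint_specializes y)
    rw [hyP] at h1
    exact h1
  have hunder : ∀ (y : X) (hy : y ∈ U), (hU.primeIdealOf ⟨y, hy⟩).asIdeal.under Γ(S, V) =
      (hV.primeIdealOf ⟨f y, hUV hy⟩).asIdeal :=
    fun y hy => (primeIdealOf_comap f hU hV hUV y hy).symm
  have hfeq : ∀ (y z : X) (hy : y ∈ U) (hz : z ∈ U),
      (hU.primeIdealOf ⟨y, hy⟩).asIdeal.under Γ(S, V) =
        (hU.primeIdealOf ⟨z, hz⟩).asIdeal.under Γ(S, V) → f y = f z := by
    intro y z hy hz h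
    rw [hunder y hy, hunder z hz] at h
    have := NormFibre.primeIdealOf_injective hV (PrimeSpectrum.ext h)
    exact congrArg Subtype.val this
  have hfeq' : ∀ (y z : X) (hy : y ∈ U) (hz : z ∈ U), f y = f z →
      (hU.primeIdealOf ⟨y, hy⟩).asIdeal.under Γ(S, V) =
        (hU.primeIdealOf ⟨z, hz⟩).asIdeal.under Γ(S, V) := by
    intro y z hy hz h
    rw [hunder y hy, hunder z hz]
    have : (⟨f y, hUV hy⟩ : V) = ⟨f z, hUV hz⟩ := Subtype.ext h
    rw [this]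
  have htrn : ∀ (y : X) (hy : y ∈ U), trn f y = Cardinal.toENat
      (Algebra.trdeg (Γ(S, V) ⧸ (hU.primeIdealOf ⟨y, hy⟩).asIdeal.under Γ(S, V))
        (Γ(X, U) ⧸ (hU.primeIdealOf ⟨y, hy⟩).asIdeal)) := by
    intro y hy
    unfold trn
    have h1 := trdeg_chart f hU hV hUV y hy
    simp only at h1
    rw [← h1]
    haveI l1 : (hU.primeIdealOf ⟨y, hy⟩).asIdeal.LiesOver
        (hV.primeIdealOf ⟨f y, hUV hy⟩).asIdeal := ⟨primeIdealOf_comap f hU hV hUV y hy⟩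
    rw [ValDim.trdeg_quotient_liesOver_eq (hU.primeIdealOf ⟨y, hy⟩).asIdeal
      (hV.primeIdealOf ⟨f y, hUV hy⟩).asIdeal]
  have hg𝔮 : g ∈ (hU.primeIdealOf ⟨x, hxU⟩).asIdeal := (hsupp x hxU).mp hxZ
  obtain ⟨P, hPprime, hP𝔮, hPunder, hPmin, hgP⟩ := VertRing.exists_fibre_minimal_prime_mem
    (hU.primeIdealOf ⟨genericPoint X, hξU⟩).asIdeal hP₀
    (hU.primeIdealOf ⟨x, hxU⟩).asIdeal g hg𝔮
    (by
      intro P hP hle hund
      obtain ⟨⟨y, hy⟩, hyP⟩ := SchemeDimFT.exists_primeIdealOf_eq hU ⟨P, hP⟩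
      have hyP' : (hU.primeIdealOf ⟨y, hy⟩).asIdeal = P := congrArg PrimeSpectrum.asIdeal hyP
      subst hyP'
      have hfy : f y = f x := hfeq y x hy hxU hund
      have h1 : ((trn f y : ℕ∞) : WithBot ℕ∞) ≤ ((trn f (genericPoint X) : ℕ∞) : WithBot ℕ∞) := by
        have h2 := fibreDimAt_eq_trn_add f y
        have h3 : ((trn f y : ℕ∞) : WithBot ℕ∞) ≤ FlatMor.fibreDimAt f y := by
          rw [h2]; exact le_add_of_nonneg_right ringKrullDim_nonneg_of_nontrivial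
        have h4 : FlatMor.fibreDimAt f y ≤ topologicalKrullDim (f.fiber (f x)) :=
          (ChevalleyCor.dim_fiber_le_iff f (f x) _).mp le_rfl y hfy
        have h5 := dim_generic_fiber_eq_trn f
        rw [hfξ] at h5
        exact h3.trans (h4.trans (hdim.trans h5.le))
      have h6 : trn f y ≤ trn f (genericPoint X) := by exact_mod_cast h1
      rw [htrn y hy, htrn (genericPoint X) hξU] at h6
      obtain ⟨a, ha⟩ := ValDim.exists_trdeg_under_eq (R := Γ(S, V))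
        (hU.primeIdealOf ⟨y, hy⟩).asIdeal
      obtain ⟨b, hb⟩ := ValDim.exists_trdeg_under_eq (R := Γ(S, V))
        (hU.primeIdealOf ⟨genericPoint X, hξU⟩).asIdeal
      rw [ha, hb] at h6 ⊢
      rw [Cardinal.toENat_nat, Cardinal.toENat_nat] at h6
      have : a ≤ b := by exact_mod_cast h6
      exact_mod_cast this)
    (by
      intro P hP hgP hund
      obtain ⟨⟨y, hy⟩, hyP⟩ := SchemeDimFT.exists_primeIdealOf_eq hU ⟨P, hP⟩
      have hyP' : (hU.primeIdealOf ⟨y, hy⟩).asIdeal = P := congrArg PrimeSpectrum.asIdeal hyP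
      subst hyP'
      have hyZ : y ∈ (Z.support : Set X) := (hsupp y hy).mpr hgP
      apply hη y hyZ
      rw [← hfξ]
      exact hfeq y (genericPoint X) hy hξU hund)
  obtain ⟨⟨y, hy⟩, hyP⟩ := SchemeDimFT.exists_primeIdealOf_eq hU ⟨P, hPprime⟩
  have hyP' : (hU.primeIdealOf ⟨y, hy⟩).asIdeal = P := congrArg PrimeSpectrum.asIdeal hyP
  subst hyP'
  have hfy : f y = f x := hfeq y x hy hxU hPunder
  refine ⟨y, (primeIdealOf_le_iff hU ⟨y, hy⟩ ⟨x, hxU⟩).mp hP𝔮, hfy, (hsupp y hy).mpr hgP, ?_⟩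
  intro c hfc hcy
  have hcU : c ∈ U := hcy.mem_open U.2 hy
  have hle : (hU.primeIdealOf ⟨c, hcU⟩).asIdeal ≤ (hU.primeIdealOf ⟨y, hy⟩).asIdeal :=
    (primeIdealOf_le_iff hU ⟨c, hcU⟩ ⟨y, hy⟩).mpr hcy
  by_contra hne
  have hlt : (hU.primeIdealOf ⟨c, hcU⟩).asIdeal < (hU.primeIdealOf ⟨y, hy⟩).asIdeal := by
    refine lt_of_le_of_ne hle (fun h => hne ?_)
    have := NormFibre.primeIdealOf_injective hU (PrimeSpectrum.ext h)
    exact congrArg Subtype.val this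
  exact hPmin _ inferInstance hlt (hfeq' c y hcU hy (hfc.trans hfy.symm))

end Groth.Agent.Lib.Helper8.VertSch
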