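import Mathlib
import Groth.Prelude.Def_MoreMor
import Groth.Prelude.Def_Mor2
import Groth.Agent.Lib.Helper8.WtField
import Groth.Agent.Lib.Helper8.WtStrat
import Groth.Agent.Lib.Helper8.FibIntC

/-!
# Openness of the locus where the fibre degree is at least `d` (S1449), and the stratification by
fibre degree for morphisms with bounded fibre rank (S1447)
-/

set_option autoImplicit false
set_option linter.style.haveILetI false
universe u
open AlgebraicGeometry CategoryTheory Limits TopologicalSpace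

namespace Groth.Agent.Lib.Helper8.WtOpen

open Groth.Agent.Lib.Helper8.FibInt Groth.Agent.Lib.Helper8.WtSch Groth.Agent.Lib.Helper8.WtBC
  Groth.Agent.Lib.Helper8.FibIntS Groth.Agent.Lib.Helper8.WtField Groth.Agent.Lib.Helper8.FibIntC
  Groth.Agent.Lib.Helper8.WtStrat Groth.Agent.Lib.Helper8.EtLocPI

section Inv

variable {X S : Scheme.{u}}

private lemma isPurelyInseparable_of_surjective' {F E : Type*} [Field F] [Field E] (φ : F →+* E)
    (h : Function.Surjective φ) : φ.IsPurelyInseparable := by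
  letI := φ.toAlgebra
  show IsPurelyInseparable F E
  exact ⟨⟨fun x => by obtain ⟨a, rfl⟩ := h x; exact isIntegral_algebraMap⟩, fun x _ => h x⟩

lemma sepDeg_comp_openImmersion_target {U V Y : Scheme.{u}} (π : U ⟶ V) (j : V ⟶ Y)
    [IsOpenImmersion j] (u : U) (hfin : (π.residueFieldMap u).hom.Finite) :
    sepDeg (π ≫ j) u = sepDeg π u := by
  rw [sepDeg_comp π j u hfin, sepDeg_eq_one_of_pi j (π u)
    (isPurelyInseparable_of_surjective' _
      (ConcreteCategory.bijective_of_isIso (j.residueFieldMap (π u))).2), one_mul]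

lemma cdeg_resLE (f : X ⟶ S) [LocallyQuasiFinite f] [LocallyOfFiniteType f] (W : S.Opens)
    (U : X.Opens) (hUW : U ≤ f ⁻¹ᵁ W) (u : ↥(U : Scheme.{u})) :
    cdeg (f.resLE W U hUW) u = cdeg f (U.ι u) := by
  have hsq : U.ι ≫ f = f.resLE W U hUW ≫ W.ι := (Scheme.Hom.resLE_comp_ι f hUW).symm
  have hfinf : (f.residueFieldMap (U.ι u)).hom.Finite :=
    finite_residueFieldMap_of_quasiFiniteAt f _ (f.quasiFiniteAt _)
  unfold cdeg
  rw [wt_eq_of_square U.ι (f.resLE W U hUW) f W.ι hsq u hfinf]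
  congr 2
  have h1 : sepDeg (U.ι ≫ f) u = sepDeg f (U.ι u) := sepDeg_comp_openImmersion U.ι f u
  have h2 : sepDeg (f.resLE W U hUW ≫ W.ι) u = sepDeg (f.resLE W U hUW) u :=
    sepDeg_comp_openImmersion_target _ _ u
      (finite_residueFieldMap_of_quasiFiniteAt _ u ((f.resLE W U hUW).quasiFiniteAt u))
  rw [← h1, hsq, h2]

end Inv

section Open

variable {X S : Scheme.{u}} (f : X ⟶ S) [Flat f] [LocallyOfFinitePresentation f] [IsSeparated f]
  [LocallyQuasiFinite f]

theorem isOpen_big (d : ℕ) : IsOpen {s : S | big f d s} := by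
  classical
  rw [isOpen_iff_forall_mem_open]
  rintro s ⟨F, hF, hd⟩
  obtain ⟨_, ⟨W, hW, rfl⟩, hsW, -⟩ :=
    S.isBasis_affineOpens.exists_subset_of_mem_open (Set.mem_univ s) isOpen_univ
  have hW : IsAffineOpen W := hW
  revert hW hsW
  generalize W = W₀
  intro hsW hW
  obtain ⟨W, rfl⟩ : ∃ W : S.Opens, W = W₀ := ⟨W₀, rfl⟩
  have hUx : ∀ x : X, ∃ U : X.Opens, IsAffineOpen U ∧ (x ∈ F → x ∈ U) ∧ U ≤ f ⁻¹ᵁ W := by
    intro x
    by_cases hx : x ∈ F
    · have hxW : x ∈ ((f ⁻¹ᵁ W : X.Opens) : Set X) := by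
        show f x ∈ W
        rw [hF x hx]
        exact hsW
      obtain ⟨_, ⟨U, hU, rfl⟩, hxU, hUle⟩ :=
        X.isBasis_affineOpens.exists_subset_of_mem_open hxW (f ⁻¹ᵁ W).2
      exact ⟨U, hU, fun _ => hxU, hUle⟩
    · exact ⟨⊥, isAffineOpen_bot _, fun h => absurd h hx, bot_le⟩
  choose Ux hUxaff hxUx hUxle using hUx
  let X'' : X.Opens := ⨆ x : F, Ux x.1
  have hle : X'' ≤ f ⁻¹ᵁ W := iSup_le fun x => hUxle x.1
  have hmem : ∀ x ∈ F, x ∈ X'' := fun x hx => Opens.mem_iSup.mpr ⟨⟨x, hx⟩, hxUx x hx⟩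
  have hcompact : IsCompact (X'' : Set X) := by
    have : (X'' : Set X) = ⋃ x : F, (Ux x.1 : Set X) := by simp [X'']
    rw [this]
    exact isCompact_iUnion fun x => (hUxaff x.1).isCompact
  let f'' : (X'' : Scheme.{u}) ⟶ (W : Scheme.{u}) := f.resLE W X'' hle
  haveI : CompactSpace ↥(X'' : Scheme.{u}) := isCompact_iff_compactSpace.mp hcompact
  haveI : IsAffine (W : Scheme.{u}) := hW
  haveI : QuasiCompact f'' := quasiCompact_of_compactSpace f''
  have hfin'' : ∀ w, (f'' ⁻¹' {w}).Finite := fun w => f''.finite_preimage_singleton w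
  have hlsc := lowerSemicontinuous_fibreIntegral f'' hfin'' (wt f'') (isWeighting_wt f'')
    (wt_pos f'')
  have hsq : f'' ≫ W.ι = X''.ι ≫ f := Scheme.Hom.resLE_comp_ι f hle
  have hsq' : ∀ x'' : ↥(X'' : Scheme.{u}), W.ι (f'' x'') = f (X''.ι x'') := by
    intro x''
    rw [← Scheme.Hom.comp_apply, hsq, Scheme.Hom.comp_apply]
  have hinj : Function.Injective X''.ι := X''.ι.isOpenEmbedding.injective
  have hint : ∀ w, MoreMor.fibreIntegral f'' (wt f'') w =
      ∑ x ∈ ((hfin'' w).toFinset).image X''.ι, cdeg f x := by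
    intro w
    rw [fibreIntegral_wt_eq]
    have : {x : ↥(X'' : Scheme.{u}) | f'' x = w} = ↑(hfin'' w).toFinset := by
      ext
      simp
    rw [this, finsum_mem_coe_finset, Finset.sum_image (fun a _ b _ hab => hinj hab)]
    exact Finset.sum_congr rfl fun x'' _ => cdeg_resLE f W X'' hle x''
  let O'' : Set ↥(W : Scheme.{u}) :=
    MoreMor.fibreIntegral f'' (wt f'') ⁻¹' Set.Ioi ((d : ℤ) - 1)
  have hO'' : IsOpen O'' := hlsc.isOpen_preimage _
  refine ⟨W.ι '' O'', ?_, W.ι.isOpenEmbedding.isOpenMap _ hO'', ?_⟩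
  · rintro _ ⟨w, hw, rfl⟩
    refine ⟨((hfin'' w).toFinset).image X''.ι, ?_, ?_⟩
    · intro x hx
      obtain ⟨x'', hx'', rfl⟩ := Finset.mem_image.mp hx
      rw [Set.Finite.mem_toFinset] at hx''
      rw [← hsq', hx'']
    · rw [← hint w]
      have : (d : ℤ) - 1 < MoreMor.fibreIntegral f'' (wt f'') w := hw
      omega
  · let s'' : ↥(W : Scheme.{u}) := ⟨s, hsW⟩
    refine ⟨s'', ?_, rfl⟩
    show (d : ℤ) - 1 < MoreMor.fibreIntegral f'' (wt f'') s''
    rw [hint s'']
    have hsubF : F ⊆ ((hfin'' s'').toFinset).image X''.ι := by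
      intro x hx
      let x'' : ↥(X'' : Scheme.{u}) := ⟨x, hmem x hx⟩
      refine Finset.mem_image.mpr ⟨x'', ?_, rfl⟩
      rw [Set.Finite.mem_toFinset]
      show f'' x'' = s''
      apply W.ι.isOpenEmbedding.injective
      rw [hsq']
      exact hF x hx
    have := Finset.sum_le_sum_of_subset_of_nonneg hsubF
      (f := fun x => cdeg f x) (fun x _ _ => (cdeg_pos f x).le)
    omega

end Open

section Main

variable {X S : Scheme.{u}} (f : X ⟶ S) [Flat f] [LocallyOfFinitePresentation f] [IsSeparated f]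
  [LocallyQuasiFinite f]

theorem main1449 :
    ∃ U : ℕ → S.Opens, Antitone U ∧ U 0 = ⊤ ∧ ∀ (K : Type u) [Field K]
      (g : Spec (CommRingCat.of K) ⟶ S) (d : ℕ),
      Set.range ⇑g ⊆ (U d : Set ↑S) ↔ (d : Cardinal.{u}) ≤
        (letI := ((Scheme.ΓSpecIso (CommRingCat.of K)).inv ≫ (pullback.snd f g).appTop).hom.toAlgebra;
        Module.rank K (Γ(pullback f g, ⊤) : Type u)) := by
  refine ⟨fun d => ⟨{s | big f d s}, isOpen_big f d⟩, ?_, ?_, ?_⟩
  · intro d d' hdd' s
    rintro ⟨F, hF, hd⟩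
    exact ⟨F, hF, le_trans (by exact_mod_cast hdd') hd⟩
  · ext s
    simp only [Opens.coe_mk, Set.mem_ofPred_eq, Opens.coe_top, Set.mem_univ, iff_true]
    exact ⟨∅, by simp, by simp⟩
  · intro K _ g d
    let t : Spec (CommRingCat.of K) := (default : PrimeSpectrum K)
    have hsub : ∀ a : Spec (CommRingCat.of K), a = t :=
      fun a => Subsingleton.elim (α := PrimeSpectrum K) a t
    rw [field_iff f K g t d]
    constructor
    · intro h
      exact h ⟨t, rfl⟩
    · rintro h _ ⟨a, rfl⟩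
      rw [hsub a]
      exact h

theorem main1447 (n : ℕ)
    (hn : ∀ (K : Type u) [Field K] (g : Spec (CommRingCat.of K) ⟶ S),
      (letI := ((Scheme.ΓSpecIso (CommRingCat.of K)).inv ≫ (pullback.snd f g).appTop).hom.toAlgebra;
        Module.rank K (Γ(pullback f g, ⊤) : Type u)) ≤ (n : Cardinal.{u})) :
    ∃ deg : ↑S → ℕ, (∀ s, deg s ≤ n) ∧ (∀ r : ℕ, IsClosed {s : ↑S | deg s ≤ r}) ∧
      ∀ (T : Scheme.{u}) (g : T ⟶ S) (r : ℕ),
        Mor2.IsFinLocFreeOfDeg r (pullback.snd f g) ↔ ∀ t : T, deg (g t) = r := by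
  classical
  -- no fibre has degree `> n`
  have hbig : ∀ (s : S) (d : ℕ), big f d s → d ≤ n := by
    intro s d hd
    let K : Type u := S.residueField s
    let g : Spec (CommRingCat.of K) ⟶ S := S.fromSpecResidueField s
    let t : Spec (CommRingCat.of K) := (default : PrimeSpectrum K)
    have hgt : g t = s := by
      have : Set.range g = {s} := Scheme.range_fromSpecResidueField s
      have h1 : g t ∈ Set.range g := ⟨t, rfl⟩
      rw [this] at h1
      exact h1
    have h1 := (field_iff f K g t d).mpr (by rw [hgt]; exact hd)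
    have h2 := h1.trans (hn K g)
    exact_mod_cast h2
  have hfin : ∀ s : S, (f ⁻¹' {s}).Finite := by
    intro s
    by_contra hinf
    obtain ⟨F, hFs, hFc⟩ := Set.Infinite.exists_subset_card_eq hinf (n + 1)
    have : big f (n + 1) s := by
      refine ⟨F, fun x hx => hFs hx, ?_⟩
      calc ((n + 1 : ℕ) : ℤ) = ∑ x ∈ F, (1 : ℤ) := by simp [hFc]
        _ ≤ _ := Finset.sum_le_sum fun x _ => Int.add_one_le_iff.mpr (cdeg_pos f x)
    have := hbig s (n + 1) this
    omega
  refine ⟨deg f, ?_, fun r => isClosed_deg_le f hfin r, fun T g r => finLocFreeOfDeg_iff f hfin g r⟩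
  intro s
  apply hbig s
  refine ⟨(hfin s).toFinset, fun x hx => by simpa using hx, ?_⟩
  have h1 : MoreMor.fibreIntegral f (wt f) s = ∑ x ∈ (hfin s).toFinset, cdeg f x := by
    rw [fibreIntegral_wt_eq]
    have : {x : X | f x = s} = ↑(hfin s).toFinset := by
      ext
      simp
    rw [this, finsum_mem_coe_finset]
  rw [← h1]
  have := fibreIntegral_nonneg f s
  unfold deg
  omega

end Main

end Groth.Agent.Lib.Helper8.WtOpen
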